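import Mathlib

set_option autoImplicit false

namespace Cfsg.Agent.Helper20

universe u

/-- Central extension of `G` by `ZMod n` through the bilinear cocycle `(g, h) ↦ f₁ g * f₂ h`. -/
structure TwistExt {G : Type u} [Group G] {n : ℕ} (f₁ f₂ : G →* Multiplicative (ZMod n)) :
    Type u where
  fst : G
  snd : ZMod n

namespace TwistExt

variable {G : Type u} [Group G] {n : ℕ} {f₁ f₂ : G →* Multiplicative (ZMod n)}

@[ext] lemma ext' {x y : TwistExt f₁ f₂} (h1 : x.fst = y.fst) (h2 : x.snd = y.snd) : x = y := by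
  cases x; cases y; simp_all

/-- additive value of a hom into `Multiplicative (ZMod n)` -/
def val (f : G →* Multiplicative (ZMod n)) (g : G) : ZMod n := Multiplicative.toAdd (f g)

lemma val_mul (f : G →* Multiplicative (ZMod n)) (g h : G) : val f (g * h) = val f g + val f h := by
  simp [val]

lemma val_one (f : G →* Multiplicative (ZMod n)) : val f 1 = 0 := by
  simp [val]

lemma val_inv (f : G →* Multiplicative (ZMod n)) (g : G) : val f g⁻¹ = - val f g := by
  simp [val]

instance instMul : Mul (TwistExt f₁ f₂) :=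
  ⟨fun x y => ⟨x.fst * y.fst, x.snd + y.snd + val f₁ x.fst * val f₂ y.fst⟩⟩

instance instOne : One (TwistExt f₁ f₂) := ⟨⟨1, 0⟩⟩

instance instInv : Inv (TwistExt f₁ f₂) :=
  ⟨fun x => ⟨x.fst⁻¹, - x.snd + val f₁ x.fst * val f₂ x.fst⟩⟩

@[simp] lemma mul_fst (x y : TwistExt f₁ f₂) : (x * y).fst = x.fst * y.fst := rfl
@[simp] lemma mul_snd (x y : TwistExt f₁ f₂) :
    (x * y).snd = x.snd + y.snd + val f₁ x.fst * val f₂ y.fst := rfl
@[simp] lemma one_fst : (1 : TwistExt f₁ f₂).fst = 1 := rfl
@[simp] lemma one_snd : (1 : TwistExt f₁ f₂).snd = 0 := rfl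
@[simp] lemma inv_fst (x : TwistExt f₁ f₂) : (x⁻¹).fst = x.fst⁻¹ := rfl
@[simp] lemma inv_snd (x : TwistExt f₁ f₂) :
    (x⁻¹).snd = - x.snd + val f₁ x.fst * val f₂ x.fst := rfl

instance instGroup : Group (TwistExt f₁ f₂) where
  mul_assoc x y z := by
    ext
    · simp [mul_assoc]
    · simp only [mul_snd, mul_fst, val_mul]; ring
  one_mul x := by
    ext
    · simp
    · simp [val_one]
  mul_one x := by
    ext
    · simp
    · simp [val_one]
  inv_mul_cancel x := by
    ext
    · simp
    · simp only [mul_snd, inv_snd, inv_fst, val_inv, one_snd]; ring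

/-- projection to `G` -/
def proj (f₁ f₂ : G →* Multiplicative (ZMod n)) : TwistExt f₁ f₂ →* G where
  toFun x := x.fst
  map_one' := rfl
  map_mul' _ _ := rfl

@[simp] lemma proj_apply (x : TwistExt f₁ f₂) : proj f₁ f₂ x = x.fst := rfl

lemma proj_surjective : Function.Surjective (proj f₁ f₂) := fun g => ⟨⟨g, 0⟩, rfl⟩

/-- as a type, the extension is a product -/
def equivProd (f₁ f₂ : G →* Multiplicative (ZMod n)) : TwistExt f₁ f₂ ≃ G × ZMod n where
  toFun x := (x.fst, x.snd)
  invFun x := ⟨x.1, x.2⟩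
  left_inv x := by cases x; rfl
  right_inv x := by cases x; rfl

instance instFinite [Finite G] [NeZero n] : Finite (TwistExt f₁ f₂) :=
  Finite.of_equiv _ (equivProd f₁ f₂).symm

lemma mem_ker_iff (x : TwistExt f₁ f₂) : x ∈ (proj f₁ f₂).ker ↔ x.fst = 1 := by
  rw [MonoidHom.mem_ker, proj_apply]

lemma ker_le_center : (proj f₁ f₂).ker ≤ Subgroup.center (TwistExt f₁ f₂) := by
  intro x hx
  rw [mem_ker_iff] at hx
  rw [Subgroup.mem_center_iff]
  intro y
  ext
  · simp [hx]
  · simp only [mul_snd, hx, val_one]; ring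

/-- the kernel is isomorphic to `ZMod n` -/
def kerEquiv (f₁ f₂ : G →* Multiplicative (ZMod n)) :
    (proj f₁ f₂).ker ≃* Multiplicative (ZMod n) where
  toFun x := Multiplicative.ofAdd x.1.snd
  invFun a := ⟨⟨1, Multiplicative.toAdd a⟩, by rw [mem_ker_iff]⟩
  left_inv x := by
    apply Subtype.ext
    have := (mem_ker_iff x.1).1 x.2
    ext
    · simp [this]
    · simp
  right_inv a := by simp
  map_mul' x y := by
    have hx := (mem_ker_iff x.1).1 x.2
    simp [hx, val_one, ofAdd_add]

open scoped commutatorElement in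
/-- snd-component of a commutator when `G` is commutative -/
lemma commutator_snd_of_comm (hG : ∀ a b : G, a * b = b * a) (x y : TwistExt f₁ f₂) :
    ⁅x, y⁆.fst = 1 ∧
    ⁅x, y⁆.snd = val f₁ x.fst * val f₂ y.fst - val f₁ y.fst * val f₂ x.fst := by
  rw [commutatorElement_def]
  constructor
  · simp only [mul_fst, inv_fst]
    rw [hG x.fst y.fst]; group
  · simp only [mul_snd, mul_fst, inv_snd, inv_fst, val_mul, val_inv]; ring

end TwistExt

end Cfsg.Agent.Helper20
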