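import Mathlib
import Cfsg.Agent.Helper20.TwistExt

set_option autoImplicit false

namespace Cfsg.Agent.Helper20

universe u

open scoped Classical in
/-- number of solutions of `a ^ n = 1` -/
noncomputable def tors (G : Type u) [Group G] [Fintype G] (n : ℕ) : ℕ :=
  (Finset.univ.filter (fun a : G => a ^ n = 1)).card

open scoped Classical in
lemma tors_mul_le {G : Type u} [CommGroup G] [Fintype G] (p m : ℕ) :
    tors G (p * m) ≤ tors G p * tors G m := by
  unfold tors
  have hmaps : ∀ a ∈ Finset.univ.filter (fun a : G => a ^ (p * m) = 1),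
      a ^ p ∈ Finset.univ.filter (fun a : G => a ^ m = 1) := by
    intro a ha
    simp only [Finset.mem_filter, Finset.mem_univ, true_and] at ha ⊢
    rw [← pow_mul]; exact ha
  apply Finset.card_le_mul_card_image_of_maps_to hmaps
  intro b _
  by_cases hne : (Finset.filter (fun a : G => a ^ p = b)
      (Finset.univ.filter (fun a : G => a ^ (p * m) = 1))).Nonempty
  · obtain ⟨a₀, ha₀⟩ := hne
    simp only [Finset.mem_filter, Finset.mem_univ, true_and] at ha₀
    apply Finset.card_le_card_of_injOn (fun a => a₀⁻¹ * a)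
    · intro a ha
      simp only [Finset.coe_filter, Finset.mem_filter, Finset.mem_univ, true_and,
        Set.mem_ofPred_eq] at ha ⊢
      rw [mul_pow, inv_pow, ha₀.2, ha.2, inv_mul_cancel]
    · intro a _ a' _ h
      exact mul_left_cancel h
  · rw [Finset.not_nonempty_iff_eq_empty] at hne
    rw [hne]; simp

lemma tors_one {G : Type u} [Group G] [Fintype G] : tors G 1 = 1 := by
  classical
  unfold tors
  rw [Finset.card_eq_one]
  refine ⟨1, ?_⟩
  ext a
  simp

lemma tors_le_of_prime {G : Type u} [CommGroup G] [Fintype G]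
    (h : ∀ p : ℕ, p.Prime → tors G p ≤ p) : ∀ n : ℕ, 0 < n → tors G n ≤ n := by
  intro n
  induction n using Nat.recOnMul with
  | zero => intro h0; exact absurd h0 (lt_irrefl 0)
  | one => intro _; rw [tors_one]
  | prime p hp => intro _; exact h p hp
  | mul a b iha ihb =>
    intro hab
    have ha : 0 < a := Nat.pos_of_ne_zero (fun h => by simp [h] at hab)
    have hb : 0 < b := Nat.pos_of_ne_zero (fun h => by simp [h] at hab)
    calc tors G (a * b) ≤ tors G a * tors G b := tors_mul_le a b
      _ ≤ a * b := Nat.mul_le_mul (iha ha) (ihb hb)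

lemma exists_prime_tors_gt {G : Type u} [CommGroup G] [Fintype G] (h : ¬ IsCyclic G) :
    ∃ p : ℕ, p.Prime ∧ p < tors G p := by
  classical
  by_contra hcon
  push Not at hcon
  apply h
  apply isCyclic_of_card_pow_eq_one_le
  intro n hn
  have := tors_le_of_prime (G := G) hcon n hn
  unfold tors at this
  convert this

end Cfsg.Agent.Helper20

namespace Cfsg.Agent.Helper20

universe u

lemma card_quot_pow_range {G : Type u} [CommGroup G] [Fintype G] (p : ℕ) :
    Nat.card (G ⧸ (powMonoidHom p : G →* G).range) = tors G p := by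
  classical
  set f : G →* G := powMonoidHom p with hf
  have h1 : Nat.card f.ker * f.ker.index = Nat.card G := Subgroup.card_mul_index _
  have h2 : Nat.card f.range * f.range.index = Nat.card G := Subgroup.card_mul_index _
  rw [Subgroup.index_ker] at h1
  have h3 : f.range.index = Nat.card f.ker := by
    have hpos : 0 < Nat.card f.range := Nat.card_pos
    apply Nat.eq_of_mul_eq_mul_left hpos
    rw [h2, ← h1, mul_comm]
  rw [← Subgroup.index_eq_card, h3]
  unfold tors
  rw [Nat.card_eq_fintype_card, ← Fintype.card_subtype]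
  apply Fintype.card_congr
  refine Equiv.subtypeEquivRight ?_
  intro a
  rw [MonoidHom.mem_ker, hf, powMonoidHom_apply]

lemma exists_dual_pair_module {p : ℕ} [Fact p.Prime] (V : Type u) [AddCommGroup V]
    [Module (ZMod p) V] [Finite V] (hcard : p < Nat.card V) :
    ∃ (φ₁ φ₂ : V →+ ZMod p) (v w : V), φ₁ v = 1 ∧ φ₂ v = 0 ∧ φ₁ w = 0 ∧ φ₂ w = 1 := by
  have hp : p.Prime := Fact.out
  haveI : Module.Finite (ZMod p) V := Module.Finite.of_finite
  have hcardV : Nat.card V = p ^ Module.finrank (ZMod p) V := by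
    rw [Module.natCard_eq_pow_finrank (K := ZMod p) (V := V), Nat.card_zmod]
  have hrank : 2 ≤ Module.finrank (ZMod p) V := by
    by_contra hlt2
    rw [not_le] at hlt2
    have h1 : Nat.card V ≤ p := by
      rw [hcardV]
      calc p ^ Module.finrank (ZMod p) V ≤ p ^ 1 :=
            Nat.pow_le_pow_right hp.pos (by omega)
        _ = p := pow_one p
    omega
  let b := Module.finBasis (ZMod p) V
  let i₀ : Fin (Module.finrank (ZMod p) V) := ⟨0, by omega⟩
  let i₁ : Fin (Module.finrank (ZMod p) V) := ⟨1, by omega⟩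
  have hne : i₀ ≠ i₁ := by
    intro h
    have := congrArg Fin.val h
    simp [i₀, i₁] at this
  refine ⟨(b.coord i₀).toAddMonoidHom, (b.coord i₁).toAddMonoidHom, b i₀, b i₁, ?_, ?_, ?_, ?_⟩
  · rw [LinearMap.toAddMonoidHom_coe, Module.Basis.coord_apply, Module.Basis.repr_self,
      Finsupp.single_eq_same]
  · rw [LinearMap.toAddMonoidHom_coe, Module.Basis.coord_apply, Module.Basis.repr_self,
      Finsupp.single_eq_of_ne hne.symm]
  · rw [LinearMap.toAddMonoidHom_coe, Module.Basis.coord_apply, Module.Basis.repr_self,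
      Finsupp.single_eq_of_ne hne]
  · rw [LinearMap.toAddMonoidHom_coe, Module.Basis.coord_apply, Module.Basis.repr_self,
      Finsupp.single_eq_same]

/-- A non-cyclic finite abelian group has two "independent" homomorphisms onto `ZMod p`. -/
theorem exists_dual_pair_of_not_isCyclic {G : Type u} [CommGroup G] [Finite G] (h : ¬ IsCyclic G) :
    ∃ (p : ℕ) (_ : Fact p.Prime) (f₁ f₂ : G →* Multiplicative (ZMod p)) (g h : G),
      TwistExt.val f₁ g = 1 ∧ TwistExt.val f₂ g = 0 ∧ TwistExt.val f₁ h = 0 ∧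
        TwistExt.val f₂ h = 1 := by
  classical
  haveI := Fintype.ofFinite G
  obtain ⟨p, hp, hlt⟩ := exists_prime_tors_gt h
  haveI : Fact p.Prime := ⟨hp⟩
  refine ⟨p, ⟨hp⟩, ?_⟩
  set N : Subgroup G := (powMonoidHom p : G →* G).range with hN
  have hcard : p < Nat.card (Additive (G ⧸ N)) := by
    have : Nat.card (Additive (G ⧸ N)) = Nat.card (G ⧸ N) := rfl
    rw [this, card_quot_pow_range]; exact hlt
  have hV : ∀ v : Additive (G ⧸ N), p • v = 0 := by
    intro v
    obtain ⟨q, rfl⟩ := Additive.ofMul.surjective v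
    obtain ⟨a, rfl⟩ := QuotientGroup.mk_surjective q
    rw [← ofMul_pow, ← QuotientGroup.mk_pow]
    have : a ^ p ∈ N := ⟨a, rfl⟩
    rw [(QuotientGroup.eq_one_iff _).2 this]
    rfl
  letI : Module (ZMod p) (Additive (G ⧸ N)) := AddCommGroup.zmodModule hV
  haveI : Finite (Additive (G ⧸ N)) := inferInstanceAs (Finite (G ⧸ N))
  obtain ⟨φ₁, φ₂, v, w, h1, h2, h3, h4⟩ := exists_dual_pair_module (Additive (G ⧸ N)) hcard
  let F : ((Additive (G ⧸ N)) →+ ZMod p) → (G →* Multiplicative (ZMod p)) := fun φ =>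
    (AddMonoidHom.toMultiplicativeRight φ).comp (QuotientGroup.mk' N)
  have hF : ∀ (φ : (Additive (G ⧸ N)) →+ ZMod p) (a : G),
      TwistExt.val (F φ) a = φ (Additive.ofMul (a : G ⧸ N)) := by
    intro φ a
    rfl
  obtain ⟨g, hg⟩ : ∃ g : G, Additive.ofMul (g : G ⧸ N) = v := by
    obtain ⟨a, ha⟩ := QuotientGroup.mk_surjective (Additive.toMul v)
    exact ⟨a, by rw [ha]; rfl⟩
  obtain ⟨k, hk⟩ : ∃ k : G, Additive.ofMul (k : G ⧸ N) = w := by
    obtain ⟨a, ha⟩ := QuotientGroup.mk_surjective (Additive.toMul w)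
    exact ⟨a, by rw [ha]; rfl⟩
  refine ⟨F φ₁, F φ₂, g, k, ?_, ?_, ?_, ?_⟩
  · rw [hF, hg, h1]
  · rw [hF, hg, h2]
  · rw [hF, hk, h3]
  · rw [hF, hk, h4]

end Cfsg.Agent.Helper20
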