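import Mathlib
import Cfsg.Agent.Helper18.CTDefs

/-!
Piece CNT of helper18's S5748 project (simple CT-groups): the first double count.
-/

set_option autoImplicit false

open Cfsg.Agent.Helper18.CT MulAction

namespace Cfsg.Agent.Helper20.CT

variable {G : Type*} [Group G]

theorem inv_mul_self {u : G} (hu : orderOf u = 2) : u * u = 1 := by
  have := pow_orderOf_eq_one u
  rw [hu, pow_two] at this
  exact this

theorem inv_inv_eq {u : G} (hu : orderOf u = 2) : u⁻¹ = u :=
  inv_eq_of_mul_eq_one_left (inv_mul_self hu)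

theorem inv_ne_one {u : G} (hu : orderOf u = 2) : u ≠ 1 := by
  rintro rfl
  rw [orderOf_one] at hu
  exact absurd hu (by norm_num)

theorem inv_smul_swap {Ω : Type*} [MulAction G Ω] {u : G} (hu : orderOf u = 2) {a b : Ω}
    (hab : u • a = b) : u • b = a := by
  rw [← hab, smul_smul, inv_mul_self hu, one_smul]

theorem Geo.card_inf_le [Finite G] {Ω : Type*} [MulAction G Ω] {K : Ω → Subgroup G} {e : ℕ}
    (h : Geo Ω K e) {α β : Ω} (hab : α ≠ β) :
    Nat.card ↥(stabilizer G α ⊓ stabilizer G β) ≤ e := by
  classical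
  have hDS : stabilizer G α ⊓ stabilizer G β ≤ stabilizer G α := inf_le_left
  let φ : ↥(stabilizer G α ⊓ stabilizer G β) →
      (↥(stabilizer G α) ⧸ (K α).subgroupOf (stabilizer G α)) :=
    fun d => QuotientGroup.mk ⟨d.1, hDS d.2⟩
  have hφ : Function.Injective φ := by
    intro d1 d2 h12
    have h1 := QuotientGroup.eq.1 h12
    rw [Subgroup.mem_subgroupOf] at h1
    have hk : (d1.1)⁻¹ * d2.1 ∈ K α := by simpa using h1
    have hd : (d1.1)⁻¹ * d2.1 ∈ stabilizer G α ⊓ stabilizer G β :=
      Subgroup.mul_mem _ (Subgroup.inv_mem _ d1.2) d2.2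
    by_contra hne
    have hne1 : (d1.1)⁻¹ * d2.1 ≠ 1 := by
      intro h1'
      apply hne
      apply Subtype.ext
      exact inv_mul_eq_one.1 h1'
    have hfix : ((d1.1)⁻¹ * d2.1) • β = β := mem_stabilizer_iff.1 (Subgroup.mem_inf.1 hd).2
    exact hab (h.K_free α _ hk hne1 β hfix).symm
  have hcard : Nat.card (↥(stabilizer G α) ⧸ (K α).subgroupOf (stabilizer G α)) = e := by
    rw [← Subgroup.index_eq_card]; exact h.K_index α
  calc Nat.card ↥(stabilizer G α ⊓ stabilizer G β)
      ≤ Nat.card (↥(stabilizer G α) ⧸ (K α).subgroupOf (stabilizer G α)) :=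
        Nat.card_le_card_of_injective φ hφ
    _ = e := hcard

theorem Geo.pairOK [Finite G] {Ω : Type*} [MulAction G Ω] [Finite Ω] {K : Ω → Subgroup G} {e : ℕ}
    (h : Geo Ω K e) (α β : Ω) (hab : α ≠ β) : PairOK G Ω e α β := by
  classical
  have := Fintype.ofFinite G
  have := Fintype.ofFinite Ω
  set I : Finset G := Finset.univ.filter (fun u => orderOf u = 2) with hI
  let J : Ω → Ω → Finset G := fun a b => Finset.univ.filter (fun u => orderOf u = 2 ∧ u • a = b)
  let Dfin : Ω → Ω → Finset G := fun a b =>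
    Finset.univ.filter (fun g => g ∈ stabilizer G a ⊓ stabilizer G b)
  have hDcard : ∀ a b, (Dfin a b).card = Nat.card ↥(stabilizer G a ⊓ stabilizer G b) := by
    intro a b
    rw [Nat.card_eq_fintype_card, Fintype.card_subtype]
  have hmemI : ∀ u : G, u ∈ I ↔ orderOf u = 2 := by
    intro u; simp [hI]
  have hmemJ : ∀ (a b : Ω) (u : G), u ∈ J a b ↔ (orderOf u = 2 ∧ u • a = b) := by
    intro a b u; simp [J]
  -- unique fixed point
  have huniq : ∀ u : G, orderOf u = 2 → ∀ γ δ : Ω, u • γ = γ → u • δ = δ → δ = γ := by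
    intro u hu γ δ hγ hδ
    exact h.K_free γ u (h.K_inv γ u hu hγ) (inv_ne_one hu) δ hδ
  have hJaa : ∀ a, (J a a).card = e := by
    intro a
    have := h.inv_card a
    rw [Nat.card_eq_fintype_card, Fintype.card_subtype] at this
    exact this
  have hIfilter : ∀ γ : Ω, I.filter (fun u => u • γ = γ) = J γ γ := by
    intro γ
    ext u
    simp [hI, J]
  -- |I| = n e
  have hIcard : I.card = Fintype.card Ω * e := by
    have hdc := Finset.sum_card_bipartiteAbove_eq_sum_card_bipartiteBelow
      (s := I) (t := (Finset.univ : Finset Ω)) (fun (u : G) (γ : Ω) => u • γ = γ)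
    have hL : ∑ u ∈ I, ((Finset.univ : Finset Ω).bipartiteAbove
        (fun (u : G) (γ : Ω) => u • γ = γ) u).card = I.card := by
      rw [Finset.card_eq_sum_ones]
      apply Finset.sum_congr rfl
      intro u hu
      have hu2 := (hmemI u).1 hu
      obtain ⟨γ, hγ⟩ := h.inv_fix u hu2
      rw [Finset.card_eq_one]
      refine ⟨γ, ?_⟩
      ext δ
      simp only [Finset.bipartiteAbove, Finset.mem_filter, Finset.mem_univ, true_and,
        Finset.mem_singleton]
      constructor
      · intro hδ; exact huniq u hu2 γ δ hγ hδ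
      · rintro rfl; exact hγ
    have hR : ∑ γ ∈ (Finset.univ : Finset Ω), (I.bipartiteBelow
        (fun (u : G) (γ : Ω) => u • γ = γ) γ).card = Fintype.card Ω * e := by
      have : ∀ γ ∈ (Finset.univ : Finset Ω), (I.bipartiteBelow
          (fun (u : G) (γ : Ω) => u • γ = γ) γ).card = e := by
        intro γ _
        have : I.bipartiteBelow (fun (u : G) (γ : Ω) => u • γ = γ) γ = J γ γ := by
          rw [← hIfilter γ]; rfl
        rw [this, hJaa]
      rw [Finset.sum_congr rfl this, Finset.sum_const, Finset.card_univ, smul_eq_mul]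
    rw [← hL, hdc, hR]
  -- bound
  have hJle : ∀ a b, a ≠ b → (J a b).card ≤ e := by
    intro a b hne
    by_cases hemp : J a b = ∅
    · rw [hemp]; simp
    · obtain ⟨u₀, hu₀⟩ := Finset.nonempty_iff_ne_empty.2 hemp
      obtain ⟨hu₀2, hu₀a⟩ := (hmemJ a b u₀).1 hu₀
      have hu₀b : u₀ • b = a := inv_smul_swap hu₀2 hu₀a
      have hmaps : ∀ u ∈ J a b, u₀ * u ∈ Dfin a b := by
        intro u hu
        obtain ⟨hu2, hua⟩ := (hmemJ a b u).1 hu
        have hub : u • b = a := inv_smul_swap hu2 hua
        simp only [Dfin, Finset.mem_filter, Finset.mem_univ, true_and, Subgroup.mem_inf,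
          mem_stabilizer_iff]
        constructor
        · rw [mul_smul, hua, hu₀b]
        · rw [mul_smul, hub, hu₀a]
      have hinj : Set.InjOn (fun u => u₀ * u) (J a b : Set G) := by
        intro u _ v _ huv
        exact mul_left_cancel huv
      calc (J a b).card ≤ (Dfin a b).card := Finset.card_le_card_of_injOn _ hmaps hinj
        _ = Nat.card ↥(stabilizer G a ⊓ stabilizer G b) := hDcard a b
        _ ≤ e := Geo.card_inf_le h hne
  -- sum over b ≠ a
  have hsum : ∀ a : Ω, ∑ b ∈ (Finset.univ : Finset Ω).erase a, (J a b).card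
      = (Fintype.card Ω - 1) * e := by
    intro a
    have hfib := Finset.card_eq_sum_card_fiberwise (f := fun u : G => u • a)
      (s := I.filter (fun u => ¬ u • a = a)) (t := (Finset.univ : Finset Ω).erase a)
      (by
        intro u hu
        have hu' := Finset.mem_coe.1 hu
        rw [Finset.mem_filter] at hu'
        exact Finset.mem_coe.2 (Finset.mem_erase.2 ⟨hu'.2, Finset.mem_univ _⟩))
    have hfibeq : ∀ b ∈ (Finset.univ : Finset Ω).erase a,
        ((I.filter (fun u => ¬ u • a = a)).filter (fun u => u • a = b)).card = (J a b).card := by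
      intro b hb
      have hba : b ≠ a := (Finset.mem_erase.1 hb).1
      congr 1
      ext u
      simp only [Finset.mem_filter, hmemI, hmemJ]
      constructor
      · rintro ⟨⟨h1, _⟩, h3⟩; exact ⟨h1, h3⟩
      · rintro ⟨h1, h3⟩; exact ⟨⟨h1, by rw [h3]; exact hba⟩, h3⟩
    rw [Finset.sum_congr rfl hfibeq] at hfib
    rw [← hfib]
    have hsplit := Finset.card_filter_add_card_filter_not (s := I)
      (fun u => u • a = a)
    rw [hIfilter a, hJaa a, hIcard] at hsplit
    have : (I.filter (fun u => ¬ u • a = a)).card = Fintype.card Ω * e - e := by omega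
    rw [this, Nat.sub_mul, one_mul]
  -- every term equals e
  have hJeq : ∀ a b, a ≠ b → (J a b).card = e := by
    intro a b hne
    by_contra hlt
    have hlt' : (J a b).card < e := lt_of_le_of_ne (hJle a b hne) hlt
    have hbmem : b ∈ (Finset.univ : Finset Ω).erase a :=
      Finset.mem_erase.2 ⟨hne.symm, Finset.mem_univ _⟩
    have hs := Finset.sum_lt_sum (s := (Finset.univ : Finset Ω).erase a)
      (f := fun b => (J a b).card) (g := fun _ => e)
      (fun c hc => hJle a c (Finset.mem_erase.1 hc).1.symm) ⟨b, hbmem, hlt'⟩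
    rw [hsum a, Finset.sum_const, Finset.card_erase_of_mem (Finset.mem_univ a),
      Finset.card_univ, smul_eq_mul] at hs
    exact lt_irrefl _ hs
  have hJab := hJeq α β hab
  have hDe : Nat.card ↥(stabilizer G α ⊓ stabilizer G β) = e := by
    apply le_antisymm (Geo.card_inf_le h hab)
    -- e = |J| ≤ |D|
    have hpos : 0 < (J α β).card := by rw [hJab]; exact lt_of_lt_of_le (by norm_num) h.e_ge
    obtain ⟨u₀, hu₀⟩ := Finset.card_pos.1 hpos
    obtain ⟨hu₀2, hu₀a⟩ := (hmemJ α β u₀).1 hu₀
    have hu₀b : u₀ • β = α := inv_smul_swap hu₀2 hu₀a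
    have hmaps : ∀ u ∈ J α β, u₀ * u ∈ Dfin α β := by
      intro u hu
      obtain ⟨hu2, hua⟩ := (hmemJ α β u).1 hu
      have hub : u • β = α := inv_smul_swap hu2 hua
      simp only [Dfin, Finset.mem_filter, Finset.mem_univ, true_and, Subgroup.mem_inf,
        mem_stabilizer_iff]
      constructor
      · rw [mul_smul, hua, hu₀b]
      · rw [mul_smul, hub, hu₀a]
    have hinj : Set.InjOn (fun u => u₀ * u) (J α β : Set G) := by
      intro u _ v _ huv
      exact mul_left_cancel huv
    calc e = (J α β).card := hJab.symm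
      _ ≤ (Dfin α β).card := Finset.card_le_card_of_injOn _ hmaps hinj
      _ = Nat.card ↥(stabilizer G α ⊓ stabilizer G β) := hDcard α β
  refine ⟨hDe, ?_, ?_⟩
  · rw [Nat.card_eq_fintype_card, Fintype.card_subtype]
    exact hJab
  · intro u hu2 hua d hd
    have hub : u • β = α := inv_smul_swap hu2 hua
    have hmaps : ∀ v ∈ J α β, u * v ∈ Dfin α β := by
      intro v hv
      obtain ⟨hv2, hva⟩ := (hmemJ α β v).1 hv
      have hvb : v • β = α := inv_smul_swap hv2 hva
      simp only [Dfin, Finset.mem_filter, Finset.mem_univ, true_and, Subgroup.mem_inf,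
        mem_stabilizer_iff]
      constructor
      · rw [mul_smul, hva, hub]
      · rw [mul_smul, hvb, hua]
    have hinj : Set.InjOn (fun v => u * v) (J α β : Set G) := by
      intro v _ w _ hvw
      exact mul_left_cancel hvw
    have himg_sub : (J α β).image (fun v => u * v) ⊆ Dfin α β := by
      intro x hx
      obtain ⟨v, hv, rfl⟩ := Finset.mem_image.1 hx
      exact hmaps v hv
    have himg_card : ((J α β).image (fun v => u * v)).card = (J α β).card :=
      Finset.card_image_of_injOn hinj
    have himg_eq : (J α β).image (fun v => u * v) = Dfin α β := by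
      apply Finset.eq_of_subset_of_card_le himg_sub
      rw [himg_card, hJab, hDcard, hDe]
    have hdmem : d ∈ Dfin α β := by
      simp only [Dfin, Finset.mem_filter, Finset.mem_univ, true_and]
      exact hd
    rw [← himg_eq] at hdmem
    obtain ⟨v, hv, hvd⟩ := Finset.mem_image.1 hdmem
    obtain ⟨hv2, _⟩ := (hmemJ α β v).1 hv
    -- v = u * d
    have hv_eq : v = u * d := by
      have : u * (u * v) = u * d := by rw [hvd]
      rw [← mul_assoc, inv_mul_self hu2, one_mul] at this
      exact this
    have hsq : (u * d) * (u * d) = 1 := by rw [← hv_eq]; exact inv_mul_self hv2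
    rw [inv_inv_eq hu2]
    -- u * d * u = d⁻¹
    have : u * d * u * d = 1 := by
      rw [← hsq]; group
    exact eq_inv_of_mul_eq_one_left this

end Cfsg.Agent.Helper20.CT
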