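import Mathlib

set_option autoImplicit false

namespace Cfsg.Agent.Helper20

open DihedralGroup in
lemma dihedral_closure (n : ℕ) [NeZero n] :
    Subgroup.closure ({sr 0, r 1} : Set (DihedralGroup n)) = ⊤ := by
  rw [eq_top_iff]
  intro x _
  have hr : ∀ i : ZMod n, (r i : DihedralGroup n) ∈
      Subgroup.closure ({sr 0, r 1} : Set (DihedralGroup n)) := by
    intro i
    have : (r i : DihedralGroup n) = (r 1) ^ (i.val) := by
      rw [r_one_pow, ZMod.natCast_zmod_val]
    rw [this]; exact pow_mem (Subgroup.subset_closure (by simp)) _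
  cases x with
  | r i => exact hr i
  | sr i =>
    have : (sr i : DihedralGroup n) = sr 0 * r i := by rw [sr_mul_r, zero_add]
    rw [this]; exact mul_mem (Subgroup.subset_closure (by simp)) (hr i)

open DihedralGroup in
lemma dihedral_inv_rel (n : ℕ) :
    (sr 0 : DihedralGroup n) * r 1 * (sr 0)⁻¹ * r 1 = 1 := by
  rw [inv_sr, sr_mul_r, sr_mul_sr, r_mul_r, one_def]
  congr 1
  ring

open DihedralGroup in
lemma dihedral_r_eq_one {n : ℕ} {i : ZMod n} (h : (r i : DihedralGroup n) = 1) : i = 0 := by
  rw [one_def] at h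
  injection h

open QuaternionGroup in
lemma quaternion_closure (n : ℕ) [NeZero n] :
    Subgroup.closure ({xa 0, a 1} : Set (QuaternionGroup n)) = ⊤ := by
  rw [eq_top_iff]
  intro x _
  have hr : ∀ i : ZMod (2 * n), (a i : QuaternionGroup n) ∈
      Subgroup.closure ({xa 0, a 1} : Set (QuaternionGroup n)) := by
    intro i
    have : (a i : QuaternionGroup n) = (a 1) ^ (i.val) := by
      rw [a_one_pow, ZMod.natCast_zmod_val]
    rw [this]; exact pow_mem (Subgroup.subset_closure (by simp)) _
  cases x with
  | a i => exact hr i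
  | xa i =>
    have : (xa i : QuaternionGroup n) = xa 0 * a i := by rw [xa_mul_a, zero_add]
    rw [this]; exact mul_mem (Subgroup.subset_closure (by simp)) (hr i)

open QuaternionGroup in
lemma quaternion_inv_rel (n : ℕ) :
    (xa 0 : QuaternionGroup n) * a 1 * (xa 0)⁻¹ * a 1 = 1 := by
  have hn2 : ((n : ZMod (2 * n)) + n) = 0 := by
    rw [← two_mul]
    have := ZMod.natCast_self (2 * n)
    push_cast at this
    exact this
  have h : (xa 0 : QuaternionGroup n)⁻¹ = xa n := by
    apply inv_eq_of_mul_eq_one_right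
    rw [xa_mul_xa, one_def]
    congr 1
    linear_combination hn2
  rw [h, xa_mul_a, xa_mul_xa, a_mul_a, one_def]
  congr 1
  linear_combination hn2

open QuaternionGroup in
lemma quaternion_a_eq_one {n : ℕ} {i : ZMod (2 * n)} (h : (a i : QuaternionGroup n) = 1) :
    i = 0 := by
  rw [one_def] at h
  injection h

end Cfsg.Agent.Helper20
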