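import Mathlib

set_option autoImplicit false

namespace Cfsg.Agent.Helper20

/-- number theory behind "a `p'`-automorphism of a cyclic `p`-group fixing a nontrivial element
is trivial" -/
lemma modEq_one_of_pow_modEq_one (p n k m i : ℕ) (hp : p.Prime)
    (h1 : k * i ≡ i [MOD p ^ n]) (hi : ¬ p ^ n ∣ i) (h2 : k ^ m ≡ 1 [MOD p ^ n])
    (hm : m.Coprime p) : k ≡ 1 [MOD p ^ n] := by
  haveI := Fact.mk hp
  have hpZ : Prime (p : ℤ) := Nat.prime_iff_prime_int.1 hp
  -- work in ℤ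
  have e1 : ((p ^ n : ℕ) : ℤ) ∣ ((k : ℤ) - 1) * i := by
    have := (Nat.modEq_iff_dvd.1 h1.symm)
    push_cast at this ⊢
    convert this using 1
    ring
  have e2 : ((p ^ n : ℕ) : ℤ) ∣ (k : ℤ) ^ m - 1 := by
    have := (Nat.modEq_iff_dvd.1 h2.symm)
    push_cast at this ⊢
    exact this
  have hpk : (p : ℤ) ∣ (k : ℤ) - 1 := by
    by_contra hcon
    have hc : IsCoprime ((p ^ n : ℕ) : ℤ) ((k : ℤ) - 1) := by
      push_cast
      exact IsCoprime.pow_left ((Prime.coprime_iff_not_dvd hpZ).2 hcon)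
    have := hc.dvd_of_dvd_mul_left e1
    exact hi (by exact_mod_cast this)
  -- geometric sum
  have hgeom : (∑ j ∈ Finset.range m, (k : ℤ) ^ j) * ((k : ℤ) - 1) = (k : ℤ) ^ m - 1 :=
    geom_sum_mul _ _
  have hS : ¬ (p : ℤ) ∣ ∑ j ∈ Finset.range m, (k : ℤ) ^ j := by
    intro hdvd
    have h3 : ((∑ j ∈ Finset.range m, (k : ℤ) ^ j : ℤ) : ZMod p) = 0 :=
      (ZMod.intCast_zmod_eq_zero_iff_dvd _ _).2 hdvd
    have hk1 : ((k : ℤ) : ZMod p) = 1 := by
      have := (ZMod.intCast_zmod_eq_zero_iff_dvd _ _).2 hpk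
      push_cast at this
      push_cast
      exact sub_eq_zero.1 this
    push_cast at h3 hk1
    rw [hk1] at h3
    simp only [one_pow, Finset.sum_const, Finset.card_range, nsmul_eq_mul, mul_one] at h3
    rw [ZMod.natCast_eq_zero_iff] at h3
    have := Nat.Coprime.eq_one_of_dvd hm.symm h3
    exact hp.one_lt.ne' this
  have hc : IsCoprime ((p ^ n : ℕ) : ℤ) (∑ j ∈ Finset.range m, (k : ℤ) ^ j) := by
    push_cast
    exact IsCoprime.pow_left ((Prime.coprime_iff_not_dvd hpZ).2 hS)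
  rw [← hgeom] at e2
  have h4 := hc.dvd_of_dvd_mul_left e2
  exact ((Nat.modEq_iff_dvd).2 (by push_cast at h4 ⊢; exact h4)).symm

end Cfsg.Agent.Helper20

namespace Cfsg.Agent.Helper20

/-- A `p'`-element `c` normalizing the cyclic `p`-group `⟨g⟩` and centralizing a nontrivial
element of it centralizes `g`. -/
lemma conj_eq_self_of_coprime_fix {G : Type*} [Group G] (g c x : G) (p n k m : ℕ) (hp : p.Prime)
    (hg : orderOf g = p ^ n) (hk : c * g * c⁻¹ = g ^ k) (hx : x ∈ Subgroup.zpowers g)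
    (hx1 : x ≠ 1) (hcx : c * x * c⁻¹ = x) (hm : c ^ m = 1) (hmp : m.Coprime p) :
    c * g * c⁻¹ = g := by
  have hfin : IsOfFinOrder g := by
    rw [← orderOf_pos_iff, hg]; exact pow_pos hp.pos n
  obtain ⟨i, rfl⟩ := (Submonoid.mem_powers_iff _ _).1 (hfin.mem_powers_iff_mem_zpowers.2 hx)
  have h1 : k * i ≡ i [MOD p ^ n] := by
    rw [← hg, ← pow_eq_pow_iff_modEq, pow_mul, ← hk, conj_pow]
    exact hcx
  have hi : ¬ p ^ n ∣ i := by
    intro h
    apply hx1
    rw [← hg] at h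
    exact orderOf_dvd_iff_pow_eq_one.1 h
  have hpow : ∀ j : ℕ, c ^ j * g * (c ^ j)⁻¹ = g ^ (k ^ j) := by
    intro j
    induction j with
    | zero => simp
    | succ j ih =>
      have : c ^ (j + 1) * g * (c ^ (j + 1))⁻¹ = c * (c ^ j * g * (c ^ j)⁻¹) * c⁻¹ := by
        rw [pow_succ']; group
      rw [this, ih, ← conj_pow, hk, ← pow_mul, pow_succ']
  have h2 : k ^ m ≡ 1 [MOD p ^ n] := by
    rw [← hg, ← pow_eq_pow_iff_modEq, ← hpow m, hm]
    simp
  have h3 := modEq_one_of_pow_modEq_one p n k m i hp h1 hi h2 hmp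
  rw [hk]
  rw [← hg, ← pow_eq_pow_iff_modEq, pow_one] at h3
  exact h3

end Cfsg.Agent.Helper20
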