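import Mathlib
import Cfsg.Agent.Helper20.CyclicAut

set_option autoImplicit false

namespace Cfsg.Agent.Helper20

lemma mem_normalizer_zpowers_iff {G : Type*} [Group G] (w y : G) :
    w ∈ Subgroup.normalizer ((Subgroup.zpowers y : Subgroup G) : Set G) ↔
      w * y * w⁻¹ ∈ Subgroup.zpowers y ∧ w⁻¹ * y * w ∈ Subgroup.zpowers y := by
  constructor
  · intro hw
    refine ⟨(Subgroup.mem_normalizer_iff.1 hw y).1 (Subgroup.mem_zpowers y), ?_⟩
    have := (Subgroup.mem_normalizer_iff.1 (Subgroup.inv_mem _ hw) y).1 (Subgroup.mem_zpowers y)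
    simpa using this
  · rintro ⟨h1, h2⟩
    rw [Subgroup.mem_normalizer_iff]
    intro h
    constructor
    · rintro ⟨i, rfl⟩
      have : w * y ^ i * w⁻¹ = (w * y * w⁻¹) ^ i := (conj_zpow).symm
      show w * y ^ i * w⁻¹ ∈ Subgroup.zpowers y
      rw [this]; exact Subgroup.zpow_mem _ h1 i
    · rintro ⟨i, hi⟩
      have hi' : y ^ i = w * h * w⁻¹ := hi
      have : h = (w⁻¹ * y * w) ^ i := by
        have e := (conj_zpow (a := w⁻¹) (b := y) (i := i))
        simp only [inv_inv] at e
        rw [e, hi']; group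
      rw [this]; exact Subgroup.zpow_mem _ h2 i

/-- An element of odd order normalizing a cyclic `2`-group centralizes it. -/
lemma conj_eq_self_of_odd_of_two_group {G : Type*} [Group G] (x c : G) (n k m : ℕ)
    (hx : orderOf x = 2 ^ n) (hk : c * x * c⁻¹ = x ^ k) (hm : c ^ m = 1) (hodd : Odd m) :
    c * x * c⁻¹ = x := by
  rcases Nat.eq_zero_or_pos n with rfl | hn
  · have : x = 1 := by
      rw [← orderOf_eq_one_iff, hx, pow_zero]
    subst this; simp
  · obtain ⟨n', rfl⟩ : ∃ n', n = n' + 1 := ⟨n - 1, by omega⟩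
    have hfin : IsOfFinOrder x := by
      rw [← orderOf_pos_iff, hx]; positivity
    -- k is odd
    have hkodd : Odd k := by
      have h1 : orderOf (x ^ k) = orderOf x := by
        rw [← hk]
        have hs : SemiconjBy c x (c * x * c⁻¹) := by
          unfold SemiconjBy; group
        exact (SemiconjBy.orderOf_eq c hs).symm
      rw [hfin.orderOf_pow, hx] at h1
      have h2 : Nat.gcd (2 ^ (n' + 1)) k = 1 := by
        have hdvd : Nat.gcd (2 ^ (n' + 1)) k ∣ 2 ^ (n' + 1) := Nat.gcd_dvd_left _ _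
        have h3 := Nat.mul_div_cancel' hdvd
        rw [h1] at h3
        have : Nat.gcd (2 ^ (n' + 1)) k * 2 ^ (n' + 1) = 1 * 2 ^ (n' + 1) := by
          rw [one_mul]; exact h3
        exact Nat.eq_of_mul_eq_mul_right (by positivity) this
      rw [Nat.odd_iff]
      by_contra hcon
      have h2k : 2 ∣ k := by omega
      have : 2 ∣ Nat.gcd (2 ^ (n' + 1)) k := Nat.dvd_gcd (dvd_pow_self 2 (by omega)) h2k
      rw [h2] at this
      omega
    have hx1 : x ^ (2 ^ n') ≠ 1 := by
      intro h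
      have := orderOf_dvd_of_pow_eq_one h
      rw [hx] at this
      have := Nat.le_of_dvd (by positivity) this
      have : 2 ^ n' < 2 ^ (n' + 1) := Nat.pow_lt_pow_right (by norm_num) (by omega)
      omega
    have hcx : c * x ^ (2 ^ n') * c⁻¹ = x ^ (2 ^ n') := by
      rw [← conj_pow, hk, ← pow_mul, pow_eq_pow_iff_modEq, hx]
      obtain ⟨l, hl⟩ := hkodd
      rw [hl]
      have : (2 * l + 1) * 2 ^ n' = 2 ^ n' + l * 2 ^ (n' + 1) := by ring
      rw [this]
      have h5 : 2 ^ n' ≡ 2 ^ n' + l * 2 ^ (n' + 1) [MOD 2 ^ (n' + 1)] :=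
        (Nat.modEq_iff_dvd' (Nat.le_add_right _ _)).2 (by simp)
      exact h5.symm
    exact conj_eq_self_of_coprime_fix x c (x ^ (2 ^ n')) 2 (n' + 1) k m Nat.prime_two hx hk
      (Subgroup.pow_mem _ (Subgroup.mem_zpowers x) _) hx1 hcx hm
      (Nat.Coprime.symm (Nat.coprime_two_left.2 hodd))

end Cfsg.Agent.Helper20
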