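import Mathlib
import Cfsg.Prelude.Def_KGroupFacts

set_option autoImplicit false

namespace Cfsg.Agent.Helper20

open scoped commutatorElement

lemma commutatorElement_mul_central_left {Γ : Type*} [Group Γ] (a b z : Γ)
    (hz : z ∈ Subgroup.center Γ) : ⁅a * z, b⁆ = ⁅a, b⁆ := by
  have c := Subgroup.mem_center_iff.1 hz
  rw [commutatorElement_def, commutatorElement_def]
  have e : z * b * z⁻¹ = b := by rw [← c b]; group
  calc a * z * b * (a * z)⁻¹ * b⁻¹ = a * (z * b * z⁻¹) * a⁻¹ * b⁻¹ := by group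
    _ = a * b * a⁻¹ * b⁻¹ := by rw [e]

lemma commutatorElement_mul_central_right {Γ : Type*} [Group Γ] (a b z : Γ)
    (hz : z ∈ Subgroup.center Γ) : ⁅a, b * z⁆ = ⁅a, b⁆ := by
  have c := Subgroup.mem_center_iff.1 hz
  rw [commutatorElement_def, commutatorElement_def]
  have e : z * a⁻¹ * z⁻¹ = a⁻¹ := by rw [← c a⁻¹]; group
  calc a * (b * z) * a⁻¹ * (b * z)⁻¹ = a * b * (z * a⁻¹ * z⁻¹) * b⁻¹ := by group
    _ = a * b * a⁻¹ * b⁻¹ := by rw [e]

/-- In a stem extension, lifts of a generating set generate. -/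
lemma closure_eq_top_of_stem {Γ G : Type*} [Group Γ] [Group G] (σ : Γ →* G)
    (hσ : Cfsg.IsStemExtension σ) (S : Set Γ) (hS : Subgroup.closure (σ '' S) = ⊤) :
    Subgroup.closure S = ⊤ := by
  obtain ⟨_, hcen, hcomm⟩ := hσ
  set H := Subgroup.closure S with hH
  -- every element is h * k with h ∈ H, k ∈ ker
  have hdecomp : ∀ γ : Γ, ∃ h ∈ H, ∃ k ∈ σ.ker, γ = h * k := by
    intro γ
    have h1 : σ γ ∈ H.map σ := by
      rw [hH, MonoidHom.map_closure, hS]; trivial
    obtain ⟨h, hh, hhγ⟩ := h1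
    refine ⟨h, hh, h⁻¹ * γ, ?_, by group⟩
    rw [MonoidHom.mem_ker, map_mul, map_inv, hhγ, inv_mul_cancel]
  -- commutator subgroup ≤ H
  have hcH : commutator Γ ≤ H := by
    rw [commutator_eq_closure, Subgroup.closure_le]
    rintro _ ⟨a, b, rfl⟩
    obtain ⟨h1, hh1, k1, hk1, rfl⟩ := hdecomp a
    obtain ⟨h2, hh2, k2, hk2, rfl⟩ := hdecomp b
    rw [SetLike.mem_coe, commutatorElement_mul_central_left _ _ _ (hcen hk1),
      commutatorElement_mul_central_right _ _ _ (hcen hk2), commutatorElement_def]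
    exact H.mul_mem (H.mul_mem (H.mul_mem hh1 hh2) (H.inv_mem hh1)) (H.inv_mem hh2)
  rw [eq_top_iff]
  intro γ _
  obtain ⟨h, hh, k, hk, rfl⟩ := hdecomp γ
  exact H.mul_mem hh (hcH (hcomm hk))

/-- If `Γ` is generated by `α, β` and `N` is a normal subgroup containing `⁅α, β⁆`, then the
commutator subgroup lies in `N`. -/
lemma commutator_le_of_two_gen {Γ : Type*} [Group Γ] (α β : Γ)
    (hgen : Subgroup.closure ({α, β} : Set Γ) = ⊤) (N : Subgroup Γ) [N.Normal]
    (hc : ⁅α, β⁆ ∈ N) : commutator Γ ≤ N := by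
  -- the quotient is commutative
  have hq : ∀ x y : Γ, Commute (x : Γ ⧸ N) (y : Γ ⧸ N) := by
    have hαβ : Commute (α : Γ ⧸ N) (β : Γ ⧸ N) := by
      rw [commute_iff_eq, ← QuotientGroup.mk_mul, ← QuotientGroup.mk_mul, QuotientGroup.eq]
      have : (α * β)⁻¹ * (β * α) = (β * α)⁻¹ * ⁅α, β⁆⁻¹ * (β * α) := by
        rw [commutatorElement_def]; group
      rw [this]
      have := (inferInstance : N.Normal).conj_mem _ (N.inv_mem hc) (β * α)⁻¹
      simpa using this
    intro x y
    have hx : x ∈ Subgroup.closure ({α, β} : Set Γ) := by rw [hgen]; trivial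
    have hy : y ∈ Subgroup.closure ({α, β} : Set Γ) := by rw [hgen]; trivial
    induction hx, hy using Subgroup.closure_induction₂ with
    | mem a b ha hb =>
      rcases ha with rfl | rfl <;> rcases hb with rfl | rfl
      · exact Commute.refl _
      · exact hαβ
      · exact hαβ.symm
      · exact Commute.refl _
    | one_left => simp
    | one_right => simp
    | mul_left a b c _ _ _ h1 h2 =>
      rw [QuotientGroup.mk_mul]; exact h1.mul_left h2
    | mul_right a b c _ _ _ h1 h2 =>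
      rw [QuotientGroup.mk_mul]; exact h1.mul_right h2
    | inv_left a b _ _ h =>
      rw [QuotientGroup.mk_inv]; exact h.inv_left
    | inv_right a b _ _ h =>
      rw [QuotientGroup.mk_inv]; exact h.inv_right
  rw [commutator_eq_closure, Subgroup.closure_le]
  rintro _ ⟨a, b, rfl⟩
  rw [SetLike.mem_coe, ← QuotientGroup.eq_one_iff, commutatorElement_def]
  simp only [QuotientGroup.mk_mul, QuotientGroup.mk_inv]
  rw [(hq a b).eq]; group

/-- A finite group all of whose elements are powers of `c`, with `c ^ n = 1`, is a quotient of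
`ZMod n`. -/
lemma exists_surj_of_zpowers {K : Type*} [Group K] [Finite K] (n : ℕ) [NeZero n] (c : K)
    (hc : c ^ n = 1) (hgen : ∀ k : K, k ∈ Subgroup.zpowers c) :
    ∃ π : Multiplicative (ZMod n) →* K, Function.Surjective π := by
  have hmod : ∀ m : ℕ, c ^ (m % n) = c ^ m := fun m => (pow_eq_pow_mod m hc).symm
  let π : Multiplicative (ZMod n) →* K := MonoidHom.mk' (fun j => c ^ (Multiplicative.toAdd j).val) (by
    intro a b
    rw [toAdd_mul, ZMod.val_add, hmod, pow_add])
  refine ⟨π, ?_⟩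
  intro k
  obtain ⟨j, hj⟩ := (mem_powers_iff_mem_zpowers (x := c)).2 (hgen k)
  refine ⟨Multiplicative.ofAdd (j : ZMod n), ?_⟩
  change c ^ (Multiplicative.toAdd (Multiplicative.ofAdd (j : ZMod n))).val = k
  rw [toAdd_ofAdd, ZMod.val_natCast, hmod]
  exact hj

end Cfsg.Agent.Helper20

namespace Cfsg.Agent.Helper20

open scoped commutatorElement

/-- A subgroup of the centre is normal. -/
lemma normal_of_le_center {Γ : Type*} [Group Γ] (N : Subgroup Γ) (h : N ≤ Subgroup.center Γ) :
    N.Normal := by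
  constructor
  intro x hx g
  have := Subgroup.mem_center_iff.1 (h hx) g
  have e : g * x * g⁻¹ = x := by rw [this]; group
  rw [e]; exact hx

/-- `⁅a, b ^ j⁆ = ⁅a, b⁆ ^ j` when `⁅a, b⁆` is central. -/
lemma commutatorElement_pow_right {Γ : Type*} [Group Γ] (a b : Γ)
    (hc : ⁅a, b⁆ ∈ Subgroup.center Γ) (j : ℕ) : ⁅a, b ^ j⁆ = ⁅a, b⁆ ^ j := by
  have c := Subgroup.mem_center_iff.1 hc
  induction j with
  | zero => simp [commutatorElement_def]
  | succ j ih =>
    have e : ⁅a, b ^ (j + 1)⁆ = (a * b ^ j * a⁻¹) * ⁅a, b⁆ * (b ^ j)⁻¹ := by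
      rw [commutatorElement_def, commutatorElement_def, pow_succ]; group
    rw [e, mul_assoc, ← c (b ^ j)⁻¹, ← mul_assoc, pow_succ, ← ih, commutatorElement_def,
      commutatorElement_def]

/-- commutator with a central element is trivial -/
lemma commutatorElement_central_right {Γ : Type*} [Group Γ] (a z : Γ)
    (hz : z ∈ Subgroup.center Γ) : ⁅a, z⁆ = 1 := by
  rw [commutatorElement_eq_one_iff_mul_comm]
  exact Subgroup.mem_center_iff.1 hz a

end Cfsg.Agent.Helper20
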