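import Mathlib
import Cfsg.Agent.S0016
import Cfsg.Agent.Helper20.StemGen
import Cfsg.Agent.Helper20.DihedralGen
import Cfsg.Agent.Helper20.NormZpowers

set_option autoImplicit false

namespace Cfsg.Agent.Helper20

open scoped commutatorElement

/-- In a group with a unique involution, all subgroups of order `2` coincide. -/
lemma subgroup_card_two_unique {Q : Type*} [Group Q] (hu : ∃! x : Q, orderOf x = 2)
    (H K : Subgroup Q) (hH : Nat.card H = 2) (hK : Nat.card K = 2) : H = K := by
  obtain ⟨u, hu2, huu⟩ := hu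
  have key : ∀ L : Subgroup Q, Nat.card L = 2 → L = Subgroup.zpowers u := by
    intro L hL
    haveI : Finite L := Nat.finite_of_card_ne_zero (by rw [hL]; norm_num)
    have hnt : Nontrivial L := by
      rw [← Finite.one_lt_card_iff_nontrivial, hL]; norm_num
    obtain ⟨h, hh⟩ := exists_ne (1 : L)
    have hdvd : orderOf h ∣ 2 := hL ▸ orderOf_dvd_natCard h
    have hne : orderOf h ≠ 1 := by rwa [Ne, orderOf_eq_one_iff]
    have h2 : orderOf h = 2 := by
      rcases (Nat.dvd_prime Nat.prime_two).1 hdvd with h1 | h1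
      · exact absurd h1 hne
      · exact h1
    have h2' : orderOf (h : Q) = 2 := by rw [Subgroup.orderOf_coe]; exact h2
    have hhu : (h : Q) = u := huu _ h2'
    have hle : Subgroup.zpowers u ≤ L := by
      rw [Subgroup.zpowers_le, ← hhu]; exact h.2
    symm
    apply Subgroup.eq_of_le_of_card_ge hle
    rw [hL, Nat.card_zpowers, hu2]
  rw [key H hH, key K hK]

lemma isMulCommutative_of_equiv_cyclic {Q R : Type*} [Group Q] [Group R] [IsCyclic R]
    (e : Q ≃* R) : IsMulCommutative Q := by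
  refine ⟨⟨fun a b => ?_⟩⟩
  apply e.injective
  obtain ⟨g, hg⟩ := IsCyclic.exists_generator (α := R)
  obtain ⟨i, hi⟩ := hg (e a)
  obtain ⟨j, hj⟩ := hg (e b)
  rw [map_mul, map_mul, ← hi, ← hj, ← zpow_add, ← zpow_add, add_comm]

/-- A finite nonabelian `2`-group with a unique involution is generalized quaternion. -/
lemma exists_quat_iso {Q : Type*} [Group Q] [Finite Q] (hQ : IsPGroup 2 Q)
    (hnc : ¬ IsMulCommutative Q) (hu : ∃! x : Q, orderOf x = 2) :
    ∃ k : ℕ, 1 ≤ k ∧ Nonempty (Q ≃* QuaternionGroup (2 ^ k)) := by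
  haveI : Fact (Nat.Prime 2) := ⟨Nat.prime_two⟩
  have hcyc_comm : ∀ {R : Type} [Group R] [IsCyclic R], ∀ (e : Q ≃* R), False := by
    intro R _ _ e
    exact hnc (isMulCommutative_of_equiv_cyclic e)
  rcases Cfsg.Agent.S0016.result 2 hQ (subgroup_card_two_unique hu) with h | ⟨_, k, ⟨e⟩⟩
  · exact (hnc (isMulCommutative_of_equiv_cyclic (MulEquiv.refl Q))).elim
  · refine ⟨k, ?_, ⟨e⟩⟩
    by_contra hk
    have hk0 : k = 0 := by omega
    subst hk0
    haveI : IsCyclic (QuaternionGroup (2 ^ 0)) := by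
      rw [pow_zero]; exact QuaternionGroup.quaternionGroup_one_isCyclic
    exact hcyc_comm e

/-- Elements of the closure of a pair commute modulo a normal subgroup containing the commutator
of the pair. -/
lemma commute_mk_of_mem_closure_pair {Γ : Type*} [Group Γ] (α β : Γ) (N : Subgroup Γ) [N.Normal]
    (hc : ⁅α, β⁆ ∈ N) {x y : Γ} (hx : x ∈ Subgroup.closure ({α, β} : Set Γ))
    (hy : y ∈ Subgroup.closure ({α, β} : Set Γ)) : Commute (x : Γ ⧸ N) (y : Γ ⧸ N) := by
  have hαβ : Commute (α : Γ ⧸ N) (β : Γ ⧸ N) := by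
    rw [commute_iff_eq, ← QuotientGroup.mk_mul, ← QuotientGroup.mk_mul, QuotientGroup.eq]
    have : (α * β)⁻¹ * (β * α) = (β * α)⁻¹ * ⁅α, β⁆⁻¹ * (β * α) := by
      rw [commutatorElement_def]; group
    rw [this]
    have := (inferInstance : N.Normal).conj_mem _ (N.inv_mem hc) (β * α)⁻¹
    simpa using this
  induction hx, hy using Subgroup.closure_induction₂ with
  | mem a b ha hb =>
    rcases ha with rfl | rfl <;> rcases hb with rfl | rfl
    · exact Commute.refl _
    · exact hαβ
    · exact hαβ.symm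
    · exact Commute.refl _
  | one_left => simp
  | one_right => simp
  | mul_left a b c _ _ _ h1 h2 =>
    rw [QuotientGroup.mk_mul]; exact h1.mul_left h2
  | mul_right a b c _ _ _ h1 h2 =>
    rw [QuotientGroup.mk_mul]; exact h1.mul_right h2
  | inv_left a b _ _ h =>
    rw [QuotientGroup.mk_inv]; exact h.inv_left
  | inv_right a b _ _ h =>
    rw [QuotientGroup.mk_inv]; exact h.inv_right

/-- If `Γ = ⟨α, β⟩ Z` with `Z` central, and `N` is a normal subgroup containing `⁅α, β⁆`, then
the commutator subgroup lies in `N`. -/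
lemma commutator_le_of_two_gen_central {Γ : Type*} [Group Γ] (α β : Γ) (Z : Subgroup Γ)
    (hZ : Z ≤ Subgroup.center Γ)
    (hgen : ∀ g : Γ, ∃ q ∈ Subgroup.closure ({α, β} : Set Γ), ∃ c ∈ Z, g = q * c)
    (N : Subgroup Γ) [N.Normal] (hc : ⁅α, β⁆ ∈ N) : commutator Γ ≤ N := by
  rw [commutator_eq_closure, Subgroup.closure_le]
  rintro _ ⟨a, b, rfl⟩
  obtain ⟨q1, hq1, c1, hc1, rfl⟩ := hgen a
  obtain ⟨q2, hq2, c2, hc2, rfl⟩ := hgen b
  rw [SetLike.mem_coe, commutatorElement_mul_central_left _ _ _ (hZ hc1),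
    commutatorElement_mul_central_right _ _ _ (hZ hc2), ← QuotientGroup.eq_one_iff,
    commutatorElement_def]
  simp only [QuotientGroup.mk_mul, QuotientGroup.mk_inv]
  rw [(commute_mk_of_mem_closure_pair α β N hc hq1 hq2).eq]; group

/-- Relations for the commutator `⁅y, x⁆` when `y x y⁻¹ x` is central. -/
lemma quat_rel_comm {Γ : Type*} [Group Γ] (x y d : Γ) (hd : d ∈ Subgroup.center Γ)
    (h : y * x * y⁻¹ * x = d) :
    x * ⁅y, x⁆ * x⁻¹ = ⁅y, x⁆ ∧ y * ⁅y, x⁆ * y⁻¹ = ⁅y, x⁆⁻¹ := by
  have hdc := Subgroup.mem_center_iff.1 hd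
  have h1 : y * x * y⁻¹ = d * x⁻¹ := by rw [← h]; group
  have e1 : y * d * y⁻¹ = d := by rw [hdc y]; group
  have e2 : d * x * d⁻¹ = x := by rw [← hdc x]; group
  have e2' : x * d * x⁻¹ = d := by rw [hdc x]; group
  have e3 : y * x⁻¹ * y⁻¹ = x * d⁻¹ := by
    have : y * x⁻¹ * y⁻¹ = (y * x * y⁻¹)⁻¹ := by group
    rw [this, h1]; group
  have hw : ⁅y, x⁆ = d * x⁻¹ * x⁻¹ := by rw [commutatorElement_def, h1]
  rw [hw]
  constructor
  · calc x * (d * x⁻¹ * x⁻¹) * x⁻¹ = (x * d * x⁻¹) * x⁻¹ * x⁻¹ := by group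
      _ = d * x⁻¹ * x⁻¹ := by rw [e2']
  · calc y * (d * x⁻¹ * x⁻¹) * y⁻¹ = (y * d * y⁻¹) * (y * x⁻¹ * y⁻¹) * (y * x⁻¹ * y⁻¹) := by group
      _ = d * (x * d⁻¹) * (x * d⁻¹) := by rw [e1, e3]
      _ = (d * x * d⁻¹) * x * d⁻¹ := by group
      _ = x * x * d⁻¹ := by rw [e2]
      _ = (d * x⁻¹ * x⁻¹)⁻¹ := by simp [mul_assoc]

section quat
open QuaternionGroup

variable {S : Type*} [Group S] {m : ℕ} [NeZero m] (φ : S →* QuaternionGroup m)

/-- decomposition of elements relative to lifts of the standard generators -/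
lemma quat_decomp (x y : S) (hx : φ x = a 1) (hy : φ y = xa 0) (g : S) :
    ∃ q ∈ Subgroup.closure ({y, x} : Set S), ∃ c ∈ φ.ker, g = q * c := by
  have h1 : φ g ∈ (Subgroup.closure ({y, x} : Set S)).map φ := by
    rw [MonoidHom.map_closure]
    have : φ '' ({y, x} : Set S) = {xa 0, a 1} := by
      rw [Set.image_pair, hx, hy]
    rw [this, quaternion_closure]; trivial
  obtain ⟨q, hq, hqg⟩ := h1
  refine ⟨q, hq, q⁻¹ * g, ?_, by group⟩
  rw [MonoidHom.mem_ker, map_mul, map_inv, hqg, inv_mul_cancel]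

/-- A central extension of a generalized quaternion group has cyclic commutator subgroup. -/
lemma commutator_le_zpowers_of_quat_quot (hker : φ.ker ≤ Subgroup.center S)
    (x y : S) (hx : φ x = a 1) (hy : φ y = xa 0) :
    commutator S ≤ Subgroup.zpowers ⁅y, x⁆ := by
  have hd : y * x * y⁻¹ * x ∈ φ.ker := by
    rw [MonoidHom.mem_ker, map_mul, map_mul, map_mul, map_inv, hx, hy, quaternion_inv_rel]
  obtain ⟨r1, r2⟩ := quat_rel_comm x y _ (hker hd) rfl
  set w := ⁅y, x⁆ with hw
  have hxn : x ∈ Subgroup.normalizer ((Subgroup.zpowers w : Subgroup S) : Set S) := by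
    rw [mem_normalizer_zpowers_iff]
    refine ⟨by rw [r1]; exact Subgroup.mem_zpowers w, ?_⟩
    have : x⁻¹ * w * x = w := by
      calc x⁻¹ * w * x = x⁻¹ * (x * w * x⁻¹) * x := by rw [r1]
        _ = w := by group
    rw [this]; exact Subgroup.mem_zpowers w
  have hyn : y ∈ Subgroup.normalizer ((Subgroup.zpowers w : Subgroup S) : Set S) := by
    rw [mem_normalizer_zpowers_iff]
    refine ⟨by rw [r2]; exact Subgroup.inv_mem _ (Subgroup.mem_zpowers w), ?_⟩
    have : y⁻¹ * w * y = w⁻¹ := by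
      have : w = y⁻¹ * w⁻¹ * y := by
        calc w = y⁻¹ * (y * w * y⁻¹) * y := by group
          _ = y⁻¹ * w⁻¹ * y := by rw [r2]
      calc y⁻¹ * w * y = (y⁻¹ * w⁻¹ * y)⁻¹ := by group
        _ = w⁻¹ := by rw [← this]
    rw [this]; exact Subgroup.inv_mem _ (Subgroup.mem_zpowers w)
  have hnorm : (Subgroup.zpowers w).Normal := by
    rw [← Subgroup.normalizer_eq_top_iff, eq_top_iff]
    intro g _
    obtain ⟨q, hq, c, hc, rfl⟩ := quat_decomp φ x y hx hy g
    refine Subgroup.mul_mem _ ?_ ?_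
    · have : Subgroup.closure ({y, x} : Set S) ≤
          Subgroup.normalizer ((Subgroup.zpowers w : Subgroup S) : Set S) := by
        rw [Subgroup.closure_le]
        rintro _ (rfl | rfl)
        · exact hyn
        · exact hxn
      exact this hq
    · exact Subgroup.center_le_normalizer _ (hker hc)
  exact commutator_le_of_two_gen_central y x φ.ker hker (quat_decomp φ x y hx hy)
    (Subgroup.zpowers w) (Subgroup.mem_zpowers w)

lemma isCyclic_commutator_of_quat_quot (hφ : Function.Surjective φ)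
    (hker : φ.ker ≤ Subgroup.center S) : IsCyclic (commutator S) := by
  obtain ⟨x, hx⟩ := hφ (a 1)
  obtain ⟨y, hy⟩ := hφ (xa 0)
  exact Subgroup.isCyclic_of_le (commutator_le_zpowers_of_quat_quot φ hker x y hx hy)

end quat

/-- If `S ⧸ N` is a nonabelian `2`-group with a unique involution and `N` is central, then the
commutator subgroup of `S` is a nontrivial cyclic characteristic subgroup. -/
lemma commutator_cyclic_of_quat_quotient {S : Type*} [Group S] [Finite S] (hS : IsPGroup 2 S)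
    (N : Subgroup S) [N.Normal] (hN : N ≤ Subgroup.center S)
    (hnc : ¬ IsMulCommutative (S ⧸ N)) (hu : ∃! x : S ⧸ N, orderOf x = 2) :
    commutator S ≠ ⊥ ∧ IsCyclic (commutator S) := by
  constructor
  · intro hbot
    apply hnc
    rw [commutator_eq_bot_iff_center_eq_top] at hbot
    refine ⟨⟨fun a b => ?_⟩⟩
    induction a using QuotientGroup.induction_on with
    | H a =>
      induction b using QuotientGroup.induction_on with
      | H b =>
        have ha : a ∈ Subgroup.center S := by rw [hbot]; trivial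
        rw [← QuotientGroup.mk_mul, ← QuotientGroup.mk_mul, Subgroup.mem_center_iff.1 ha b]
  · obtain ⟨k, _, ⟨e⟩⟩ := exists_quat_iso (hS.to_quotient N) hnc hu
    haveI : NeZero (2 ^ k) := ⟨by positivity⟩
    refine isCyclic_commutator_of_quat_quot (e.toMonoidHom.comp (QuotientGroup.mk' N)) ?_ ?_
    · exact e.surjective.comp (QuotientGroup.mk'_surjective N)
    · intro g hg
      apply hN
      rw [MonoidHom.mem_ker, MonoidHom.comp_apply] at hg
      have : (QuotientGroup.mk' N) g = 1 := e.injective (by rw [map_one]; exact hg)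
      exact (QuotientGroup.eq_one_iff g).1 this

end Cfsg.Agent.Helper20
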