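import Mathlib
import Cfsg.Agent.Helper9.NormalSeries
import Cfsg.Agent.Helper17.Basic
import Cfsg.Agent.Helper23.Cyclic

set_option autoImplicit false
open Pointwise

namespace Cfsg.Agent.Helper20

section defs
variable (G : Type*) [Group G]

/-- For every prime `p`, `p`-subgroups of the same order are conjugate. -/
def EqOrdPConj : Prop :=
  ∀ p : ℕ, p.Prime → ∀ H K : Subgroup G, IsPGroup p H → IsPGroup p K → Nat.card H = Nat.card K →
    ∃ g : G, K = MulAut.conj g • H

/-- The Sylow `p`-subgroups are cyclic for `p ≠ r`. -/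
def CycExcept (r : ℕ) : Prop :=
  ∀ p : ℕ, p.Prime → p ≠ r → ∀ P : Sylow p G, IsCyclic P

/-- Subgroups of the same order are conjugate. -/
def EqOrdConj : Prop :=
  ∀ H K : Subgroup G, Nat.card H = Nat.card K → ∃ g : G, K = MulAut.conj g • H

end defs

section basic
variable {G : Type*} [Group G]

theorem conj_smul_eq_of_mem_normalizer {H : Subgroup G} {g : G}
    (hg : g ∈ Subgroup.normalizer (H : Set G)) : MulAut.conj g • H = H := by
  ext x
  rw [Subgroup.mem_pointwise_smul_iff_inv_smul_mem]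
  have h := (Subgroup.mem_normalizer_iff.mp (inv_mem hg)) x
  simp only [MulAut.smul_def, MulAut.inv_apply, MulAut.conj_symm_apply]
  simp only [inv_inv] at h
  exact h.symm

theorem card_conj_smul (g : G) (H : Subgroup G) :
    Nat.card (MulAut.conj g • H : Subgroup G) = Nat.card H :=
  Subgroup.card_map_of_injective (MulAut.conj g).injective

theorem isPGroup_conj_smul {p : ℕ} (g : G) {H : Subgroup G} (hH : IsPGroup p H) :
    IsPGroup p (MulAut.conj g • H : Subgroup G) :=
  hH.map _

/-- order of image in the quotient times order of intersection with the kernel. -/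
theorem card_map_mk'_mul_card_inf (N : Subgroup G) [N.Normal] (H : Subgroup G) :
    Nat.card (H.map (QuotientGroup.mk' N)) * Nat.card (N ⊓ H : Subgroup G) = Nat.card H := by
  have h1 := Subgroup.relIndex_ker (K := H) (QuotientGroup.mk' N)
  rw [QuotientGroup.ker_mk'] at h1
  rw [← h1, Subgroup.relIndex, mul_comm]
  have h2 : Nat.card (N ⊓ H : Subgroup G) = Nat.card (N.subgroupOf H) := by
    rw [← Subgroup.inf_subgroupOf_right, Cfsg.Agent.Helper17.card_subgroupOf_of_le inf_le_right]
  rw [h2]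
  exact Subgroup.card_mul_index _

theorem map_mk'_conj_smul (N : Subgroup G) [N.Normal] (g : G) (H : Subgroup G) :
    (MulAut.conj g • H).map (QuotientGroup.mk' N) =
      MulAut.conj (QuotientGroup.mk' N g) • H.map (QuotientGroup.mk' N) := by
  ext x
  constructor
  · rintro ⟨y, hy, rfl⟩
    obtain ⟨z, hz, rfl⟩ := hy
    refine ⟨QuotientGroup.mk' N z, ⟨z, hz, rfl⟩, ?_⟩
    simp
  · rintro ⟨y, ⟨z, hz, rfl⟩, rfl⟩
    refine ⟨g * z * g⁻¹, ⟨z, hz, by simp⟩, by simp⟩

end basic

section cyclic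
variable {G : Type*} [Group G] [Finite G]

/-- If all Sylow subgroups are cyclic then `p`-subgroups of the same order are conjugate. -/
theorem eqOrdPConj_of_cyclic (h : ∀ p : ℕ, p.Prime → ∀ P : Sylow p G, IsCyclic P) :
    EqOrdPConj G := by
  intro p hp H K hH hK hcard
  haveI : Fact p.Prime := ⟨hp⟩
  obtain ⟨P, hHP⟩ := hH.exists_le_sylow
  obtain ⟨P', hKP'⟩ := hK.exists_le_sylow
  obtain ⟨g, hg⟩ := MulAction.exists_smul_eq G P P'
  refine ⟨g, ?_⟩
  have h1 : MulAut.conj g • H ≤ (P' : Subgroup G) := by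
    rw [← hg, Sylow.coe_subgroup_smul]
    exact Subgroup.pointwise_smul_le_pointwise_smul_iff.mpr hHP
  exact Cfsg.Agent.Helper23.eq_of_card_eq_of_isCyclic (P' : Subgroup G) (h p hp P') K _ hKP' h1
    (by rw [card_conj_smul, hcard])

end cyclic

section quotient
variable {G : Type*} [Group G] [Finite G]

theorem cycExcept_quotient {r : ℕ} (N : Subgroup G) [N.Normal] (h : CycExcept G r) :
    CycExcept (G ⧸ N) r := by
  intro p hp hpr P
  haveI : Fact p.Prime := ⟨hp⟩
  obtain ⟨S, rfl⟩ := Sylow.mapSurjective_surjective (QuotientGroup.mk'_surjective N) p P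
  haveI := h p hp hpr S
  rw [Sylow.coe_mapSurjective]
  exact isCyclic_of_surjective ((QuotientGroup.mk' N).subgroupMap S)
    (MonoidHom.subgroupMap_surjective _ _)

/-- lifting a `p`-subgroup of a quotient by a normal `q`-subgroup. -/
theorem exists_lift_pgroup {p q : ℕ} (hp : p.Prime) (hq : q.Prime) (N : Subgroup G) [N.Normal]
    (hN : IsPGroup q N) (X : Subgroup (G ⧸ N)) (hX : IsPGroup p X) :
    ∃ Y : Subgroup G, IsPGroup p Y ∧ Y.map (QuotientGroup.mk' N) = X ∧
      Nat.card Y = Nat.card X * (if p = q then Nat.card N else 1) := by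
  haveI : Fact p.Prime := ⟨hp⟩
  haveI : Fact q.Prime := ⟨hq⟩
  by_cases hpq : p = q
  · subst hpq
    refine ⟨X.comap (QuotientGroup.mk' N), ?_, ?_, ?_⟩
    · apply hX.comap_of_ker_isPGroup
      rw [QuotientGroup.ker_mk']
      exact hN
    · exact Subgroup.map_comap_eq_self_of_surjective (QuotientGroup.mk'_surjective N) X
    · rw [if_pos rfl]
      exact Cfsg.Agent.Helper9.card_comap_mk' N X
  · obtain ⟨S', hXS'⟩ := hX.exists_le_sylow
    obtain ⟨S, rfl⟩ := Sylow.mapSurjective_surjective (QuotientGroup.mk'_surjective N) p S'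
    rw [Sylow.coe_mapSurjective] at hXS'
    set Y : Subgroup G := (S : Subgroup G) ⊓ X.comap (QuotientGroup.mk' N) with hY
    have hYp : IsPGroup p Y := S.isPGroup'.to_le inf_le_left
    have hmap : Y.map (QuotientGroup.mk' N) = X := by
      apply le_antisymm
      · rintro x ⟨y, hy, rfl⟩
        exact hy.2
      · intro x hx
        obtain ⟨s, hs, rfl⟩ := hXS' hx
        exact ⟨s, ⟨hs, hx⟩, rfl⟩
    refine ⟨Y, hYp, hmap, ?_⟩
    rw [if_neg hpq, mul_one]
    have h1 := card_map_mk'_mul_card_inf N Y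
    have h2 : N ⊓ Y = ⊥ :=
      (IsPGroup.disjoint_of_ne q p (fun h => hpq h.symm) N Y hN hYp).eq_bot
    rw [h2, Subgroup.card_bot, mul_one, hmap] at h1
    exact h1.symm

theorem eqOrdPConj_quotient {q : ℕ} (hq : q.Prime) (N : Subgroup G) [N.Normal]
    (hN : IsPGroup q N)
    (h : EqOrdPConj G) : EqOrdPConj (G ⧸ N) := by
  intro p hp A B hA hB hcard
  obtain ⟨YA, hYAp, hYA, hcA⟩ := exists_lift_pgroup hp hq N hN A hA
  obtain ⟨YB, hYBp, hYB, hcB⟩ := exists_lift_pgroup hp hq N hN B hB
  obtain ⟨g, hg⟩ := h p hp YA YB hYAp hYBp (by rw [hcA, hcB, hcard])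
  refine ⟨QuotientGroup.mk' N g, ?_⟩
  rw [← hYA, ← hYB, hg, map_mk'_conj_smul]

end quotient

end Cfsg.Agent.Helper20
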