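import Mathlib

set_option autoImplicit false

namespace Cfsg.Agent.Helper20

section SelfNormA
variable {G : Type*} [Group G]

theorem isMulCommutative_subgroup_iff (H : Subgroup G) :
    IsMulCommutative H ↔ ∀ a ∈ H, ∀ b ∈ H, a * b = b * a := by
  rw [isMulCommutative_iff]
  constructor
  · intro h a ha b hb
    have := h ⟨a, ha⟩ ⟨b, hb⟩
    exact congrArg Subtype.val this
  · intro h a b
    exact Subtype.ext (h a a.2 b b.2)

/-- Backward direction of S4071: in `A ⋊ ⟨x⟩` with `A` abelian, `x` fixed-point-free on `A` and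
`x ^ p` central, every nonabelian subgroup is self-normalizing. -/
theorem selfNorm_backward [Finite G] (x : G) (A : Subgroup G) (p : ℕ) (hp : p.Prime)
    (hA : A.Normal) (hAc : IsMulCommutative A) (hx : ∃ k : ℕ, orderOf x = p ^ k)
    (hcomp : (Subgroup.zpowers x).IsComplement' A) (hxp : x ^ p ∈ Subgroup.center G)
    (hfpf : ∀ a : G, a ∈ A → a ≠ 1 → x * a * x⁻¹ ≠ a)
    (H : Subgroup G) (hH : ¬ IsMulCommutative H) : Subgroup.normalizer (H : Set G) = H := by
  obtain ⟨k, hk⟩ := hx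
  have hAcomm : ∀ a ∈ A, ∀ b ∈ A, a * b = b * a := (isMulCommutative_subgroup_iff A).1 hAc
  have hsup : Subgroup.zpowers x ⊔ A = ⊤ := hcomp.sup_eq_top
  have hcen : ∀ (j : ℕ) (g : G), g * (x ^ p) ^ j = (x ^ p) ^ j * g := by
    intro j g
    have : (x ^ p) ^ j ∈ Subgroup.center G := Subgroup.pow_mem _ hxp j
    exact (Subgroup.mem_center_iff.1 this g)
  -- (i) an element of H outside M₀
  obtain ⟨y, hyH, hy⟩ : ∃ y ∈ H, ¬ ∃ a ∈ A, ∃ j : ℕ, y = a * (x ^ p) ^ j := by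
    by_contra hcon
    push Not at hcon
    apply hH
    rw [isMulCommutative_subgroup_iff]
    intro g hg h hh
    obtain ⟨a, ha, j, rfl⟩ := hcon g hg
    obtain ⟨b, hb, i, rfl⟩ := hcon h hh
    calc a * (x ^ p) ^ j * (b * (x ^ p) ^ i) = a * ((x ^ p) ^ j * b) * (x ^ p) ^ i := by
          simp only [mul_assoc]
      _ = a * (b * (x ^ p) ^ j) * (x ^ p) ^ i := by rw [← hcen j b]
      _ = (a * b) * ((x ^ p) ^ j * (x ^ p) ^ i) := by simp only [mul_assoc]
      _ = (b * a) * ((x ^ p) ^ i * (x ^ p) ^ j) := by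
          rw [hAcomm a ha b hb, ← pow_add, ← pow_add, add_comm]
      _ = b * (a * (x ^ p) ^ i) * (x ^ p) ^ j := by simp only [mul_assoc]
      _ = b * ((x ^ p) ^ i * a) * (x ^ p) ^ j := by rw [hcen i a]
      _ = b * (x ^ p) ^ i * (a * (x ^ p) ^ j) := by simp only [mul_assoc]
  -- (ii) y = s * a
  have hy' : y ∈ Subgroup.zpowers x ⊔ A := hsup ▸ Subgroup.mem_top y
  obtain ⟨s, hs, a, ha, hsa⟩ := Subgroup.mem_sup_of_normal_right.1 hy'
  obtain ⟨n, hn⟩ : ∃ n : ℕ, x ^ n = s := by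
    have := (mem_powers_iff_mem_zpowers).2 hs
    exact Submonoid.mem_powers_iff _ _ |>.1 this
  have hpn : ¬ p ∣ n := by
    rintro ⟨j, rfl⟩
    apply hy
    refine ⟨a, ha, j, ?_⟩
    rw [← hsa, ← hn, pow_mul, hcen j a]
  -- (iii) x ∈ zpowers s
  have hxs : x ∈ Subgroup.zpowers s := by
    have hcop : Nat.Coprime (orderOf x) n := by
      rw [hk]
      exact Nat.Coprime.pow_left _ ((Nat.Prime.coprime_iff_not_dvd hp).2 hpn)
    have h1 : orderOf s = orderOf x := by rw [← hn, hcop.orderOf_pow]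
    have h2 : Subgroup.zpowers s ≤ Subgroup.zpowers x := by
      rw [Subgroup.zpowers_le]; exact hs
    have h3 : Subgroup.zpowers s = Subgroup.zpowers x := by
      apply Subgroup.eq_of_le_of_card_ge h2
      rw [Nat.card_zpowers, Nat.card_zpowers, h1]
    rw [h3]; exact Subgroup.mem_zpowers x
  -- (iv) y acts fixed point freely on A
  have hyfpf : ∀ v ∈ A, y * v = v * y → v = 1 := by
    intro v hv hyv
    by_contra hv1
    apply hfpf v hv hv1
    have hsv : s * v = v * s := by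
      have e : s = y * a⁻¹ := by rw [← hsa]; group
      rw [e]
      calc y * a⁻¹ * v = y * (a⁻¹ * v) := mul_assoc _ _ _
        _ = y * (v * a⁻¹) := by rw [hAcomm a⁻¹ (A.inv_mem ha) v hv]
        _ = (y * v) * a⁻¹ := (mul_assoc _ _ _).symm
        _ = v * y * a⁻¹ := by rw [hyv]
        _ = v * (y * a⁻¹) := mul_assoc _ _ _
    obtain ⟨i, hi⟩ := Subgroup.mem_zpowers_iff.1 hxs
    have hxv : x * v = v * x := by
      rw [← hi]
      exact ((Commute.zpow_left (show Commute s v from hsv) i).eq)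
    rw [hxv]; group
  -- (v) zpowers y ⊔ A = ⊤
  have hsup' : Subgroup.zpowers y ⊔ A = ⊤ := by
    rw [eq_top_iff, ← hsup]
    apply sup_le _ le_sup_right
    rw [Subgroup.zpowers_le]
    have hs' : s ∈ Subgroup.zpowers y ⊔ A := by
      have e : s = y * a⁻¹ := by rw [← hsa]; group
      rw [e]
      exact Subgroup.mul_mem _ (Subgroup.mem_sup_left (Subgroup.mem_zpowers y))
        (Subgroup.mem_sup_right (A.inv_mem ha))
    exact (Subgroup.zpowers_le.2 hs') hxs
  -- injectivity of θ on A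
  have hinj : ∀ v ∈ A, ∀ w ∈ A, v * y * v⁻¹ * y⁻¹ = w * y * w⁻¹ * y⁻¹ → v = w := by
    intro v hv w hw h
    have h1 : v * y * v⁻¹ = w * y * w⁻¹ := mul_right_cancel h
    have h2 : y * (w⁻¹ * v) = (w⁻¹ * v) * y := by
      have : w⁻¹ * (v * y * v⁻¹) * v = w⁻¹ * (w * y * w⁻¹) * v := by rw [h1]
      calc y * (w⁻¹ * v) = w⁻¹ * (w * y * w⁻¹) * v := by group
        _ = w⁻¹ * (v * y * v⁻¹) * v := this.symm
        _ = (w⁻¹ * v) * y := by group
    have := hyfpf (w⁻¹ * v) (A.mul_mem (A.inv_mem hw) hv) h2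
    have : w * (w⁻¹ * v) = w * 1 := by rw [this]
    simpa using this
  -- (vi)
  apply le_antisymm _ Subgroup.le_normalizer
  intro n hnN
  have hn' : n ∈ Subgroup.zpowers y ⊔ A := hsup' ▸ Subgroup.mem_top n
  obtain ⟨t, ht, u, hu, htu⟩ := Subgroup.mem_sup_of_normal_right.1 hn'
  have htH : t ∈ H := (Subgroup.zpowers_le.2 hyH) ht
  have huN : u ∈ Subgroup.normalizer (H : Set G) := by
    have e : u = t⁻¹ * n := by rw [← htu]; group
    rw [e]
    exact Subgroup.mul_mem _ (Subgroup.inv_mem _ (Subgroup.le_normalizer htH)) hnN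
  have hcH : u * y * u⁻¹ * y⁻¹ ∈ H :=
    H.mul_mem ((Subgroup.mem_normalizer_iff.1 huN y).1 hyH) (H.inv_mem hyH)
  -- the self map of H ⊓ A
  let θ : ↥(H ⊓ A) → ↥(H ⊓ A) := fun b => ⟨(b : G) * y * (b : G)⁻¹ * y⁻¹, by
    refine Subgroup.mem_inf.2 ⟨?_, ?_⟩
    · exact H.mul_mem (H.mul_mem (H.mul_mem (Subgroup.mem_inf.1 b.2).1 hyH)
        (H.inv_mem (Subgroup.mem_inf.1 b.2).1)) (H.inv_mem hyH)
    · have : (b : G) * y * (b : G)⁻¹ * y⁻¹ = (b : G) * (y * (b : G)⁻¹ * y⁻¹) := by group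
      rw [this]
      exact A.mul_mem (Subgroup.mem_inf.1 b.2).2
        (hA.conj_mem _ (A.inv_mem (Subgroup.mem_inf.1 b.2).2) y)⟩
  have hθinj : Function.Injective θ := by
    intro b b' hbb
    have := congrArg Subtype.val hbb
    exact Subtype.ext (hinj _ (Subgroup.mem_inf.1 b.2).2 _ (Subgroup.mem_inf.1 b'.2).2 this)
  have hθsurj : Function.Surjective θ := Finite.injective_iff_surjective.1 hθinj
  have hcA : u * y * u⁻¹ * y⁻¹ ∈ A := by
    have : u * y * u⁻¹ * y⁻¹ = u * (y * u⁻¹ * y⁻¹) := by group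
    rw [this]
    exact A.mul_mem hu (hA.conj_mem _ (A.inv_mem hu) y)
  obtain ⟨b, hb⟩ := hθsurj ⟨u * y * u⁻¹ * y⁻¹, Subgroup.mem_inf.2 ⟨hcH, hcA⟩⟩
  have hb' := congrArg Subtype.val hb
  have hbu : (b : G) = u := hinj _ (Subgroup.mem_inf.1 b.2).2 _ hu hb'
  have huH : u ∈ H := hbu ▸ (Subgroup.mem_inf.1 b.2).1
  rw [← htu]
  exact H.mul_mem htH huH

end SelfNormA

end Cfsg.Agent.Helper20
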