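import Mathlib
import Cfsg.Agent.Helper20.SelfNormA
import Cfsg.Agent.S3977

set_option autoImplicit false

namespace Cfsg.Agent.Helper20

section SelfNormB
variable {G : Type*} [Group G]

theorem le_normalizer_of_forall_conj_mem (K H : Subgroup G)
    (h : ∀ g ∈ K, ∀ x ∈ H, g * x * g⁻¹ ∈ H) : K ≤ Subgroup.normalizer (H : Set G) := by
  intro g hg
  rw [Subgroup.mem_normalizer_iff]
  intro x
  constructor
  · exact h g hg x
  · intro hx
    have := h g⁻¹ (K.inv_mem hg) _ hx
    simpa [mul_assoc] using this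

theorem closure_normal_of_conj_invariant (S : Set G) (hS : ∀ g : G, ∀ s ∈ S, g * s * g⁻¹ ∈ S) :
    (Subgroup.closure S).Normal := by
  refine ⟨fun n hn g => ?_⟩
  have h1 : (MulAut.conj g).toMonoidHom n ∈ (Subgroup.closure S).map (MulAut.conj g).toMonoidHom :=
    Subgroup.mem_map_of_mem _ hn
  rw [MonoidHom.map_closure] at h1
  have h2 : Subgroup.closure ((MulAut.conj g).toMonoidHom '' S) ≤ Subgroup.closure S := by
    apply Subgroup.closure_mono
    rintro _ ⟨s, hs, rfl⟩
    exact hS g s hs
  exact h2 h1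

theorem central_of_comm_of_sup_eq_top (A : Subgroup G) (x z : G)
    (hsup : A ⊔ Subgroup.zpowers x = ⊤) (hA : ∀ a ∈ A, a * z = z * a) (hx : x * z = z * x) :
    z ∈ Subgroup.center G := by
  have h1 : A ≤ Subgroup.centralizer {z} := fun a ha =>
    Subgroup.mem_centralizer_singleton_iff.2 (hA a ha)
  have h2 : Subgroup.zpowers x ≤ Subgroup.centralizer {z} := by
    rw [Subgroup.zpowers_le]
    exact Subgroup.mem_centralizer_singleton_iff.2 hx
  have h3 : (⊤ : Subgroup G) ≤ Subgroup.centralizer {z} := hsup ▸ sup_le h1 h2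
  rw [Subgroup.mem_center_iff]
  intro g
  exact Subgroup.mem_centralizer_singleton_iff.1 (h3 (Subgroup.mem_top g))

/-- Lemma T: if `u = v x v⁻¹ x⁻¹` commutes with `x`, `x` has `p`-power order and `u` lies in a
subgroup of order prime to `p`, then `u = 1`. -/
theorem commutator_eq_one_of_comm [Finite G] (A : Subgroup G) (hA : A.Normal) (p k : ℕ)
    (hpA : (Nat.card A).Coprime p) (x v : G) (hx : orderOf x = p ^ k) (hv : v ∈ A)
    (hu : (v * x * v⁻¹ * x⁻¹) * x = x * (v * x * v⁻¹ * x⁻¹)) : v * x * v⁻¹ * x⁻¹ = 1 := by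
  set u := v * x * v⁻¹ * x⁻¹ with hudef
  have h1 : x * v * x⁻¹ = u⁻¹ * v := by rw [hudef]; group
  have hcomm : Commute x u := hu.symm
  have h2 : ∀ j : ℕ, x ^ j * v * (x ^ j)⁻¹ = (u⁻¹) ^ j * v := by
    intro j
    induction j with
    | zero => simp
    | succ j ih =>
      calc x ^ (j + 1) * v * (x ^ (j + 1))⁻¹ = x * (x ^ j * v * (x ^ j)⁻¹) * x⁻¹ := by
            rw [pow_succ']; group
        _ = x * ((u⁻¹) ^ j * v) * x⁻¹ := by rw [ih]
        _ = (x * (u⁻¹) ^ j) * v * x⁻¹ := by simp only [mul_assoc]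
        _ = ((u⁻¹) ^ j * x) * v * x⁻¹ := by rw [((hcomm.inv_right).pow_right j).eq]
        _ = (u⁻¹) ^ j * (x * v * x⁻¹) := by simp only [mul_assoc]
        _ = (u⁻¹) ^ j * (u⁻¹ * v) := by rw [h1]
        _ = (u⁻¹) ^ (j + 1) * v := by rw [pow_succ]; simp only [mul_assoc]
  have h3 := h2 (orderOf x)
  rw [pow_orderOf_eq_one] at h3
  simp only [one_mul, inv_one, mul_one] at h3
  have h4 : (u⁻¹) ^ (orderOf x) = 1 := by
    have : (u⁻¹) ^ (orderOf x) * v = 1 * v := by rw [one_mul]; exact h3.symm
    exact mul_right_cancel this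
  have h5 : u ^ (p ^ k) = 1 := by
    rw [hx, inv_pow, inv_eq_one] at h4; exact h4
  have huA : u ∈ A := by
    have : u = v * (x * v⁻¹ * x⁻¹) := by rw [hudef]; group
    rw [this]
    exact A.mul_mem hv (hA.conj_mem _ (A.inv_mem hv) x)
  have h6 : orderOf u ∣ Nat.card A := by
    have := orderOf_dvd_natCard (⟨u, huA⟩ : A)
    rwa [← Subgroup.orderOf_coe] at this
  have h7 : orderOf u ∣ p ^ k := orderOf_dvd_of_pow_eq_one h5
  have h8 : orderOf u = 1 := Nat.eq_one_of_dvd_coprimes (hpA.pow_right k) h6 h7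
  exact orderOf_eq_one_iff.1 h8

/-- proper subgroups normalized by everything are abelian -/
theorem comm_of_normalizer_eq_top
    (hS : ∀ H : Subgroup G, ¬ IsMulCommutative H → Subgroup.normalizer (H : Set G) = H)
    (H : Subgroup G) (hne : H ≠ ⊤) (hn : Subgroup.normalizer (H : Set G) = ⊤) :
    IsMulCommutative H := by
  by_contra h
  exact hne ((hS H h).symm.trans hn)

/-- an abelian subgroup containing a Sylow subgroup and normal forces the Sylow to be normal -/
theorem sylow_normal_of_le_comm_normal [Finite G] (p : ℕ) [Fact p.Prime] (P : Sylow p G)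
    (K : Subgroup G) [K.Normal] (hPK : (P : Subgroup G) ≤ K) (hK : IsMulCommutative K) :
    (P : Subgroup G).Normal := by
  have hKc := (isMulCommutative_subgroup_iff K).1 hK
  have h1 : K ≤ Subgroup.normalizer ((P : Subgroup G) : Set G) := by
    apply le_normalizer_of_forall_conj_mem
    intro g hg x hx
    have : g * x * g⁻¹ = x := by
      rw [hKc g hg x (hPK hx)]; group
    rw [this]; exact hx
  have h2 : Subgroup.normalizer ((P : Subgroup G) : Set G) ⊔ K = ⊤ :=
    Sylow.normalizer_sup_eq_top' P hPK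
  rw [sup_eq_left.2 h1] at h2
  exact Subgroup.normalizer_eq_top_iff.1 h2

theorem exists_abelian_normal_complement [Finite G] [Group.IsSolvable G]
    (hS : ∀ H : Subgroup G, ¬ IsMulCommutative H → Subgroup.normalizer (H : Set G) = H)
    (p : ℕ) [hp : Fact p.Prime] (P : Sylow p G) (hPn : ¬ (P : Subgroup G).Normal) :
    ∃ A : Subgroup G, A.Normal ∧ IsMulCommutative A ∧ (Nat.card A).Coprime p ∧
      A ⊔ (P : Subgroup G) = ⊤ := by
  have hprop : ∀ N : Subgroup G, N.Normal → N ≠ ⊤ → IsMulCommutative N := fun N hN hne =>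
    comm_of_normalizer_eq_top hS N hne (Subgroup.normalizer_eq_top_iff.2 hN)
  haveI : Nontrivial G := by
    by_contra h
    haveI := not_nontrivial_iff_subsingleton.1 h
    apply hPn
    have : (P : Subgroup G) = ⊤ := Subsingleton.elim _ _
    rw [this]; infer_instance
  have hG'lt : commutator G < ⊤ := IsSolvable.commutator_lt_top_of_nontrivial G
  have hG'c : IsMulCommutative (commutator G) := hprop _ inferInstance hG'lt.ne
  -- K = G' ⊔ P = ⊤
  have hK : commutator G ⊔ (P : Subgroup G) = ⊤ := by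
    by_contra hne
    haveI : (commutator G ⊔ (P : Subgroup G)).Normal := by
      refine ⟨fun n hn g => ?_⟩
      have : g * n * g⁻¹ = (g * n * g⁻¹ * n⁻¹) * n := by group
      rw [this]
      refine Subgroup.mul_mem _ (Subgroup.mem_sup_left ?_) hn
      rw [commutator_def]
      exact Subgroup.commutator_mem_commutator (Subgroup.mem_top g) (Subgroup.mem_top n)
    have hc := hprop _ inferInstance hne
    exact hPn (sylow_normal_of_le_comm_normal p P _ le_sup_right hc)
  -- index of G' is a p-power
  have hidx : ∃ j : ℕ, (commutator G).index = p ^ j := by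
    have h1 : (commutator G).index = (commutator G).relIndex (P : Subgroup G) := by
      rw [← Subgroup.relIndex_top_right, ← hK, Subgroup.relIndex_sup_left]
    have h2 : (commutator G).index ∣ Nat.card (P : Subgroup G) := h1 ▸ Subgroup.relIndex_dvd_card _ _
    obtain ⟨n, hn⟩ := (IsPGroup.iff_card.1 P.isPGroup')
    rw [hn] at h2
    obtain ⟨j, _, hj⟩ := (Nat.dvd_prime_pow hp.out).1 h2
    exact ⟨j, hj⟩
  obtain ⟨j, hj⟩ := hidx
  -- the subgroup generated by p'-elements
  set S : Set G := {g | (orderOf g).Coprime p} with hSdef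
  have hSconj : ∀ g : G, ∀ s ∈ S, g * s * g⁻¹ ∈ S := by
    intro g s hs
    simp only [hSdef, Set.mem_setOf_eq] at hs ⊢
    have : orderOf (g * s * g⁻¹) = orderOf s := by
      have := orderOf_injective (MulAut.conj g).toMonoidHom (MulAut.conj g).injective s
      simpa using this
    rw [this]; exact hs
  have hAn : (Subgroup.closure S).Normal := closure_normal_of_conj_invariant S hSconj
  have hAle : Subgroup.closure S ≤ commutator G := by
    rw [Subgroup.closure_le]
    intro g hg
    simp only [hSdef, Set.mem_setOf_eq] at hg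
    have h1 : orderOf (QuotientGroup.mk' (commutator G) g) ∣ orderOf g := orderOf_map_dvd _ g
    have h2 : orderOf (QuotientGroup.mk' (commutator G) g) ∣ p ^ j := by
      rw [← hj, Subgroup.index_eq_card]
      exact orderOf_dvd_natCard _
    have h3 : orderOf (QuotientGroup.mk' (commutator G) g) = 1 :=
      Nat.eq_one_of_dvd_coprimes (hg.pow_right j) h1 h2
    have h4 := orderOf_eq_one_iff.1 h3
    exact (QuotientGroup.eq_one_iff g).1 h4
  have hG'comm := (isMulCommutative_subgroup_iff _).1 hG'c
  have hAc : IsMulCommutative (Subgroup.closure S) := by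
    rw [isMulCommutative_subgroup_iff]
    intro a ha b hb
    exact hG'comm a (hAle ha) b (hAle hb)
  have hAelt : ∀ a ∈ Subgroup.closure S, (orderOf a).Coprime p := by
    intro a ha
    induction ha using Subgroup.closure_induction with
    | mem x hx => exact hx
    | one => simp
    | mul x y hx hy ihx ihy =>
      have hc : Commute x y := hG'comm x (hAle hx) y (hAle hy)
      have h1 := hc.orderOf_mul_dvd_lcm
      exact Nat.Coprime.coprime_dvd_left (h1.trans (Nat.lcm_dvd_mul _ _)) (Nat.Coprime.mul_left ihx ihy)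
    | inv x hx ih => rw [orderOf_inv]; exact ih
  have hpA : (Nat.card (Subgroup.closure S)).Coprime p := by
    rw [Nat.coprime_comm, Nat.Prime.coprime_iff_not_dvd hp.out]
    intro hdvd
    obtain ⟨a, ha⟩ := exists_prime_orderOf_dvd_card' p hdvd
    have h1 := hAelt (a : G) a.2
    rw [Subgroup.orderOf_coe, ha] at h1
    exact hp.out.ne_one (Nat.coprime_self p |>.1 h1)
  refine ⟨Subgroup.closure S, hAn, hAc, hpA, ?_⟩
  -- index argument
  haveI := hAn
  have hquot : IsPGroup p (G ⧸ Subgroup.closure S) := by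
    obtain ⟨e, m, hm, hGcard⟩ := Nat.exists_eq_pow_mul_and_not_dvd (Nat.card_pos (α := G)).ne' p
      hp.out.ne_one
    intro q
    induction q using QuotientGroup.induction_on with
    | H g =>
      refine ⟨e, ?_⟩
      rw [← QuotientGroup.mk_pow, QuotientGroup.eq_one_iff]
      apply Subgroup.subset_closure
      simp only [hSdef, Set.mem_setOf_eq]
      have h1 : (g ^ p ^ e) ^ m = 1 := by
        rw [← pow_mul, ← hGcard, pow_card_eq_one']
      have h2 : orderOf (g ^ p ^ e) ∣ m := orderOf_dvd_of_pow_eq_one h1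
      have h3 : m.Coprime p := by
        rw [Nat.coprime_comm, Nat.Prime.coprime_iff_not_dvd hp.out]; exact hm
      exact Nat.Coprime.coprime_dvd_left h2 h3
  obtain ⟨i, hi⟩ := IsPGroup.iff_card.1 hquot
  rw [← Subgroup.index_eq_card] at hi
  have h1 : (Subgroup.closure S ⊔ (P : Subgroup G)).index ∣ p ^ i :=
    hi ▸ Subgroup.index_dvd_of_le le_sup_left
  have h2 : (Subgroup.closure S ⊔ (P : Subgroup G)).index ∣ (P : Subgroup G).index :=
    Subgroup.index_dvd_of_le le_sup_right
  have h3 : ((P : Subgroup G).index).Coprime p := by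
    rw [Nat.coprime_comm, Nat.Prime.coprime_iff_not_dvd hp.out]
    exact P.not_dvd_index
  have h4 : (Subgroup.closure S ⊔ (P : Subgroup G)).index = 1 :=
    Nat.eq_one_of_dvd_coprimes (h3.pow_right i) h2 h1
  exact Subgroup.index_eq_one.1 h4

theorem selfNorm_forward [Finite G] [Group.IsSolvable G] (hnn : ¬ Group.IsNilpotent G)
    (hS : ∀ H : Subgroup G, ¬ IsMulCommutative H → Subgroup.normalizer (H : Set G) = H) :
    ∃ (x : G) (A : Subgroup G) (p : ℕ), p.Prime ∧ A.Normal ∧ IsMulCommutative A ∧
      (∃ k : ℕ, orderOf x = p ^ k) ∧ ¬ p ∣ Nat.card A ∧ (Subgroup.zpowers x).IsComplement' A ∧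
      x ^ p ∈ Subgroup.center G ∧ ∀ a : G, a ∈ A → a ≠ 1 → x * a * x⁻¹ ≠ a := by
  have h03 := (Group.isNilpotent_of_finite_tfae (G := G)).out 0 3
  rw [h03] at hnn
  push Not at hnn
  obtain ⟨p, hp, P, hPn⟩ := hnn
  haveI := hp
  obtain ⟨A, hAn, hAc, hpA, hsup⟩ := exists_abelian_normal_complement hS p P hPn
  haveI := hAn
  have hAcomm := (isMulCommutative_subgroup_iff A).1 hAc
  obtain ⟨e, he⟩ := IsPGroup.iff_card.1 P.isPGroup'
  -- disjointness
  have hdisj : ∀ g, g ∈ A → g ∈ (P : Subgroup G) → g = 1 := by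
    intro g hgA hgP
    have h1 : orderOf g ∣ Nat.card A := by
      have := orderOf_dvd_natCard (⟨g, hgA⟩ : A)
      rwa [← Subgroup.orderOf_coe] at this
    have h2 : orderOf g ∣ p ^ e := by
      have := orderOf_dvd_natCard (⟨g, hgP⟩ : (P : Subgroup G))
      rw [he] at this
      rwa [← Subgroup.orderOf_coe] at this
    exact orderOf_eq_one_iff.1 (Nat.eq_one_of_dvd_coprimes (hpA.pow_right e) h1 h2)
  -- (C): P cannot centralize A
  have hC : (∀ g ∈ (P : Subgroup G), ∀ a ∈ A, g * a = a * g) → False := by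
    intro h
    apply hPn
    rw [← Subgroup.normalizer_eq_top_iff, eq_top_iff, ← hsup]
    apply sup_le
    · apply le_normalizer_of_forall_conj_mem
      intro a ha g hg
      have : a * g * a⁻¹ = g := by rw [← h g hg a ha]; group
      rw [this]; exact hg
    · exact Subgroup.le_normalizer
  -- Lemma L
  have hL : ∀ Q : Subgroup G, Q ≤ (P : Subgroup G) → Q ≠ (P : Subgroup G) →
      (P : Subgroup G) ≤ Subgroup.normalizer (Q : Set G) →
      ∀ q ∈ Q, ∀ a ∈ A, q * a = a * q := by
    intro Q hQP hQne hPQ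
    have hne : A ⊔ Q ≠ ⊤ := by
      intro htop
      apply hQne
      apply le_antisymm hQP
      intro g hg
      have : g ∈ A ⊔ Q := htop ▸ Subgroup.mem_top g
      obtain ⟨a, ha, q, hq, rfl⟩ := Subgroup.mem_sup_of_normal_left.1 this
      have haP : a ∈ (P : Subgroup G) := by
        have : a = (a * q) * q⁻¹ := by group
        rw [this]; exact Subgroup.mul_mem _ hg (Subgroup.inv_mem _ (hQP hq))
      rw [hdisj a ha haP, one_mul]; exact hq
    have hnorm : Subgroup.normalizer ((A ⊔ Q : Subgroup G) : Set G) = ⊤ := by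
      rw [eq_top_iff, ← hsup]
      apply sup_le
      · exact le_sup_left.trans Subgroup.le_normalizer
      · apply le_normalizer_of_forall_conj_mem
        intro g hg y hy
        obtain ⟨a, ha, q, hq, rfl⟩ := Subgroup.mem_sup_of_normal_left.1 hy
        have : g * (a * q) * g⁻¹ = (g * a * g⁻¹) * (g * q * g⁻¹) := by group
        rw [this]
        exact Subgroup.mul_mem _ (Subgroup.mem_sup_left (hAn.conj_mem a ha g))
          (Subgroup.mem_sup_right ((Subgroup.mem_normalizer_iff.1 (hPQ hg) q).1 hq))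
    have hc := comm_of_normalizer_eq_top hS _ hne hnorm
    have hcc := (isMulCommutative_subgroup_iff _).1 hc
    intro q hq a ha
    exact hcc q (Subgroup.mem_sup_right hq) a (Subgroup.mem_sup_left ha)
  -- P is cyclic
  have hcyc : IsCyclic (P : Subgroup G) := by
    by_contra hnc
    have he1 : 1 ≤ e := by
      by_contra h
      have h0 : e = 0 := by omega
      rw [h0, pow_zero] at he
      haveI : Subsingleton (P : Subgroup G) := (Nat.card_eq_one_iff_unique.1 he).1
      exact hnc inferInstance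
    obtain ⟨K₁, K₂, hK₁, hK₂, hne⟩ :=
      Cfsg.Agent.S3977.exists_two_max (G := (P : Subgroup G)) p e hp.out he he1 hnc
    have hnormal : ∀ K : Subgroup (P : Subgroup G), Nat.card K = p ^ (e - 1) → K.Normal := by
      intro K hK
      have h := K.card_mul_index
      rw [hK, he] at h
      have h3 : p ^ (e - 1) * p = p ^ e := by rw [← pow_succ]; congr 1; omega
      have hidx : K.index = p :=
        Nat.eq_of_mul_eq_mul_left (pow_pos hp.out.pos _) (h.trans h3.symm)
      apply Subgroup.normal_of_index_eq_minFac_card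
      rw [hidx, he, Nat.pow_minFac (by omega), hp.out.minFac_eq]
    have hQ : ∀ K : Subgroup (P : Subgroup G), Nat.card K = p ^ (e - 1) →
        ∀ k ∈ K, ∀ a ∈ A, (k : G) * a = a * (k : G) := by
      intro K hK k hk a ha
      haveI := hnormal K hK
      refine hL (K.map (P : Subgroup G).subtype) ?_ ?_ ?_ (k : G) ⟨k, hk, rfl⟩ a ha
      · exact Subgroup.map_subtype_le K
      · intro h
        have h' : Nat.card (K.map (P : Subgroup G).subtype) = Nat.card (P : Subgroup G) := by rw [h]
        rw [Subgroup.card_map_of_injective (Subgroup.subtype_injective _), hK, he] at h'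
        have := Nat.pow_right_injective hp.out.two_le h'
        omega
      · apply le_normalizer_of_forall_conj_mem
        rintro g hg _ ⟨k', hk', rfl⟩
        refine ⟨⟨g, hg⟩ * k' * ⟨g, hg⟩⁻¹, ?_, rfl⟩
        exact (inferInstance : K.Normal).conj_mem k' hk' ⟨g, hg⟩
    have hKsup : K₁ ⊔ K₂ = ⊤ := by
      obtain ⟨j, hje, hj⟩ := (Nat.dvd_prime_pow hp.out).1
        (he ▸ Subgroup.card_subgroup_dvd_card (K₁ ⊔ K₂))
      by_cases hje' : j = e
      · apply Subgroup.eq_top_of_card_eq
        rw [hj, hje', he]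
      · exfalso
        have hle : j ≤ e - 1 := by omega
        have h1 : K₁ = K₁ ⊔ K₂ := by
          apply Subgroup.eq_of_le_of_card_ge le_sup_left
          rw [hj, hK₁]
          exact Nat.pow_le_pow_right hp.out.pos hle
        have hle2 : K₂ ≤ K₁ := h1 ▸ le_sup_right
        exact hne (Subgroup.eq_of_le_of_card_ge hle2 (by rw [hK₁, hK₂])).symm
    apply hC
    intro g hg a ha
    have hmem : (⟨g, hg⟩ : (P : Subgroup G)) ∈ K₁ ⊔ K₂ := hKsup ▸ Subgroup.mem_top _
    have hle : K₁ ⊔ K₂ ≤ (Subgroup.centralizer {a}).subgroupOf (P : Subgroup G) := by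
      apply sup_le
      · intro k hk
        rw [Subgroup.mem_subgroupOf, Subgroup.mem_centralizer_singleton_iff]
        exact hQ K₁ hK₁ k hk a ha
      · intro k hk
        rw [Subgroup.mem_subgroupOf, Subgroup.mem_centralizer_singleton_iff]
        exact hQ K₂ hK₂ k hk a ha
    have := hle hmem
    rw [Subgroup.mem_subgroupOf, Subgroup.mem_centralizer_singleton_iff] at this
    exact this
  obtain ⟨x, hx⟩ := (Subgroup.isCyclic_iff_exists_zpowers_eq_top (P : Subgroup G)).1 hcyc
  have hox : orderOf x = p ^ e := by rw [← Nat.card_zpowers, hx, he]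
  have hsup' : A ⊔ Subgroup.zpowers x = ⊤ := by rw [hx]; exact hsup
  have hxne : x ≠ 1 := by
    rintro rfl
    apply hPn
    rw [← hx, Subgroup.zpowers_one_eq_bot]
    infer_instance
  have he1 : 1 ≤ e := by
    by_contra h
    have h0 : e = 0 := by omega
    rw [h0, pow_zero, orderOf_eq_one_iff] at hox
    exact hxne hox
  have hxpc : x ^ p ∈ Subgroup.center G := by
    apply central_of_comm_of_sup_eq_top A x (x ^ p) hsup'
    · intro a ha
      have := hL (Subgroup.zpowers (x ^ p)) ?_ ?_ ?_ (x ^ p) (Subgroup.mem_zpowers _) a ha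
      · exact this.symm
      · rw [← hx, Subgroup.zpowers_le]
        exact Subgroup.pow_mem _ (Subgroup.mem_zpowers x) p
      · intro h
        have h1 : orderOf (x ^ p) = p ^ e := by rw [← Nat.card_zpowers, h, he]
        have h2 : orderOf (x ^ p) = p ^ (e - 1) := by
          rw [orderOf_pow' x hp.out.ne_zero, hox]
          have : p ^ e = p ^ (e - 1) * p := by rw [← pow_succ]; congr 1; omega
          rw [this, Nat.gcd_eq_right (dvd_mul_left p _), Nat.mul_div_cancel _ hp.out.pos]
        rw [h2] at h1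
        have := Nat.pow_right_injective hp.out.two_le h1
        omega
      · rw [← hx]
        apply le_normalizer_of_forall_conj_mem
        intro g hg y hy
        obtain ⟨i, rfl⟩ := Subgroup.mem_zpowers_iff.1 hg
        obtain ⟨j, rfl⟩ := Subgroup.mem_zpowers_iff.1 hy
        have hc : Commute (x ^ i) ((x ^ p) ^ j) :=
          (((Commute.refl x).pow_right p).zpow_right j).zpow_left i
        have : x ^ i * (x ^ p) ^ j * (x ^ i)⁻¹ = (x ^ p) ^ j := by
          rw [hc.eq]; group
        rw [this]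
        exact Subgroup.zpow_mem _ (Subgroup.mem_zpowers _) j
    · exact ((Commute.refl x).pow_right p).eq
  refine ⟨x, A, p, hp.out, hAn, hAc, ⟨e, hox⟩, ?_, ?_, hxpc, ?_⟩
  · exact (Nat.Prime.coprime_iff_not_dvd hp.out).1 hpA.symm
  · apply Subgroup.isComplement'_of_disjoint_and_mul_eq_univ
    · rw [Subgroup.disjoint_def]
      intro g hgx hgA
      exact hdisj g hgA (hx ▸ hgx)
    · rw [← Subgroup.mul_normal, sup_comm, hsup']
      rfl
  · intro a ha hane hfix
    have hxa : x * a = a * x := by
      calc x * a = (x * a * x⁻¹) * x := by group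
        _ = a * x := by rw [hfix]
    have hac : a ∈ Subgroup.center G :=
      central_of_comm_of_sup_eq_top A x a hsup' (fun b hb => hAcomm b hb a ha) hxa
    have hT : ∀ v ∈ A, (v * x * v⁻¹ * x⁻¹) * x = x * (v * x * v⁻¹ * x⁻¹) →
        v * x * v⁻¹ * x⁻¹ = 1 := fun v hv h =>
      commutator_eq_one_of_comm A hAn p e hpA x v hox hv h
    let B : Subgroup G :=
      { carrier := {b | ∃ v ∈ A, b = v * x * v⁻¹ * x⁻¹}
        one_mem' := ⟨1, A.one_mem, by simp⟩
        mul_mem' := by
          rintro _ _ ⟨v, hv, rfl⟩ ⟨w, hw, rfl⟩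
          refine ⟨v * w, A.mul_mem hv hw, ?_⟩
          have hv' : x * v⁻¹ * x⁻¹ ∈ A := hAn.conj_mem _ (A.inv_mem hv) x
          have hw' : x * w⁻¹ * x⁻¹ ∈ A := hAn.conj_mem _ (A.inv_mem hw) x
          calc v * x * v⁻¹ * x⁻¹ * (w * x * w⁻¹ * x⁻¹)
              = v * ((x * v⁻¹ * x⁻¹) * (w * (x * w⁻¹ * x⁻¹))) := by group
            _ = v * ((w * (x * w⁻¹ * x⁻¹)) * (x * v⁻¹ * x⁻¹)) := by
                rw [hAcomm _ hv' _ (A.mul_mem hw hw')]
            _ = (v * w) * x * (v * w)⁻¹ * x⁻¹ := by group
        inv_mem' := by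
          rintro _ ⟨v, hv, rfl⟩
          refine ⟨v⁻¹, A.inv_mem hv, ?_⟩
          have hv' : x * v * x⁻¹ ∈ A := hAn.conj_mem _ hv x
          calc (v * x * v⁻¹ * x⁻¹)⁻¹ = (x * v * x⁻¹) * v⁻¹ := by group
            _ = v⁻¹ * (x * v * x⁻¹) := hAcomm _ hv' _ (A.inv_mem hv)
            _ = v⁻¹ * x * v⁻¹⁻¹ * x⁻¹ := by group }
    have hBmem : ∀ b, b ∈ B ↔ ∃ v ∈ A, b = v * x * v⁻¹ * x⁻¹ := fun b => Iff.rfl
    have hBA : B ≤ A := by
      rintro _ ⟨v, hv, rfl⟩
      have : v * x * v⁻¹ * x⁻¹ = v * (x * v⁻¹ * x⁻¹) := by group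
      rw [this]
      exact A.mul_mem hv (hAn.conj_mem _ (A.inv_mem hv) x)
    haveI hBn : B.Normal := by
      rw [← Subgroup.normalizer_eq_top_iff, eq_top_iff, ← hsup']
      apply sup_le
      · apply le_normalizer_of_forall_conj_mem
        intro c hc b hb
        have : c * b * c⁻¹ = b := by
          rw [hAcomm c hc b (hBA hb)]; group
        rw [this]; exact hb
      · rw [Subgroup.zpowers_le]
        apply Subgroup.mem_normalizer_fintype
        rintro _ ⟨v, hv, rfl⟩
        refine ⟨x * v * x⁻¹, hAn.conj_mem _ hv x, ?_⟩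
        group
    -- a ∉ B ⊔ zpowers x
    have haH : a ∉ B ⊔ Subgroup.zpowers x := by
      intro haH
      obtain ⟨b, hb, s, hs, hbs⟩ := Subgroup.mem_sup_of_normal_left.1 haH
      have hsA : s ∈ A := by
        have : s = b⁻¹ * a := by rw [← hbs]; group
        rw [this]
        exact A.mul_mem (A.inv_mem (hBA hb)) ha
      have hs1 : s = 1 := hdisj s hsA (hx ▸ hs)
      rw [hs1, mul_one] at hbs
      obtain ⟨v, hv, hbv⟩ := hb
      have : a = 1 := by
        rw [← hbs, hbv]
        apply hT v hv
        rw [← hbv, hbs]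
        exact hxa.symm
      exact hane this
    -- H not commutative
    have hHnc : ¬ IsMulCommutative (B ⊔ Subgroup.zpowers x : Subgroup G) := by
      intro hc
      have hcc := (isMulCommutative_subgroup_iff _).1 hc
      apply hC
      intro g hg c hcA
      rw [← hx] at hg
      obtain ⟨i, rfl⟩ := Subgroup.mem_zpowers_iff.1 hg
      have h1 : c * x * c⁻¹ * x⁻¹ = 1 := by
        apply hT c hcA
        exact hcc _ (Subgroup.mem_sup_left ⟨c, hcA, rfl⟩) _
          (Subgroup.mem_sup_right (Subgroup.mem_zpowers x))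
      have h2 : x * c = c * x := by
        have : c * x = (c * x * c⁻¹ * x⁻¹) * x * c := by group
        rw [this, h1, one_mul]
      exact ((Commute.zpow_left (show Commute x c from h2) i).eq)
    have hself := hS _ hHnc
    have hmem : a ∈ Subgroup.normalizer ((B ⊔ Subgroup.zpowers x : Subgroup G) : Set G) :=
      Subgroup.center_le_normalizer _ hac
    rw [hself] at hmem
    exact haH hmem

end SelfNormB

end Cfsg.Agent.Helper20
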