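import Mathlib
import Cfsg.Agent.Helper20.SelfNormA
import Cfsg.Agent.Helper20.SelfNormB
import Cfsg.Agent.Helper23.Cyclic
import Cfsg.Agent.Helper17.Basic
import Cfsg.Agent.Helper9.PGroupCent
import Cfsg.Agent.Helper9.NormalSeries
import Cfsg.Agent.Helper9.ElemAbChain

set_option autoImplicit false

/-! Subgroups of order `p ^ 3` in finite `p`-groups. -/

namespace Cfsg.Agent.Helper20

section
universe u
variable {Q : Type u} [Group Q]

/-- two subgroups of the same prime order are equal or meet trivially -/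
theorem inf_eq_bot_of_card_prime [Finite Q] {p : ℕ} (hp : p.Prime) (H K : Subgroup Q)
    (hH : Nat.card H = p) (hne : ¬ H ≤ K) : H ⊓ K = ⊥ := by
  by_contra hnb
  have h1 : Nat.card ↥(H ⊓ K) ∣ p := by
    have := Subgroup.card_dvd_of_le (inf_le_left : H ⊓ K ≤ H)
    rwa [hH] at this
  rcases (Nat.dvd_prime hp).mp h1 with h2 | h2
  · exact hnb ((Subgroup.card_eq_one).mp h2)
  · have e1 : H ⊓ K = H := Subgroup.eq_of_le_of_card_ge inf_le_left (by rw [h2, hH])
    exact hne (e1 ▸ inf_le_right)

/-- a nonabelian finite `p`-group of exponent `p` has a nonabelian subgroup of order `p ^ 3` -/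
theorem exists_nonabelian_card_cube [Finite Q] {p : ℕ} [hp : Fact p.Prime] (hQ : IsPGroup p Q)
    (hexp : ∀ x : Q, x ^ p = 1) (hna : ∃ a b : Q, a * b ≠ b * a) :
    ∃ K : Subgroup Q, Nat.card K = p ^ 3 ∧ ¬ IsMulCommutative K := by
  classical
  set Z := Subgroup.center Q with hZ
  -- the quotient is nontrivial
  have hnt : Nontrivial (Q ⧸ Z) := by
    by_contra hcon
    rw [not_nontrivial_iff_subsingleton] at hcon
    obtain ⟨a, b, hab⟩ := hna
    have : a ∈ Z := by
      rw [← QuotientGroup.eq_one_iff]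
      exact Subsingleton.elim _ _
    exact hab ((Subgroup.mem_center_iff.1 this b).symm)
  have hcnt : Nontrivial (Subgroup.center (Q ⧸ Z)) :=
    IsPGroup.center_nontrivial (hQ.to_quotient Z)
  obtain ⟨⟨xbar, hxbar⟩, hxne⟩ := exists_ne (1 : Subgroup.center (Q ⧸ Z))
  obtain ⟨x, rfl⟩ := QuotientGroup.mk_surjective xbar
  have hxZ : x ∉ Z := by
    intro hx
    apply hxne
    apply Subtype.ext
    exact (QuotientGroup.eq_one_iff x).2 hx
  have hxc : ∀ g : Q, x * g * x⁻¹ * g⁻¹ ∈ Z := by
    intro g
    rw [← QuotientGroup.eq_one_iff]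
    have := Subgroup.mem_center_iff.1 hxbar (g : Q ⧸ Z)
    simp only [QuotientGroup.mk_mul, QuotientGroup.mk_inv]
    rw [← this]
    group
  obtain ⟨y, hy⟩ : ∃ y : Q, x * y ≠ y * x := by
    by_contra hcon
    push Not at hcon
    exact hxZ (Subgroup.mem_center_iff.2 (fun g => (hcon g).symm))
  set z := x * y * x⁻¹ * y⁻¹ with hz
  have hzZ : z ∈ Z := hxc y
  have hz1 : z ≠ 1 := by
    intro h1
    apply hy
    have : x * y * x⁻¹ * y⁻¹ = 1 := h1
    calc x * y = (x * y * x⁻¹ * y⁻¹) * (y * x) := by group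
      _ = y * x := by rw [this, one_mul]
  have hy1 : y ≠ 1 := by
    rintro rfl
    exact hy (by rw [mul_one, one_mul])
  have hx1 : x ≠ 1 := by
    rintro rfl
    exact hy (by rw [mul_one, one_mul])
  have hoz : orderOf z = p := orderOf_eq_prime (hexp z) hz1
  have hoy : orderOf y = p := orderOf_eq_prime (hexp y) hy1
  have hox : orderOf x = p := orderOf_eq_prime (hexp x) hx1
  have hzcomm : ∀ g : Q, g * z = z * g := fun g => Subgroup.mem_center_iff.1 hzZ g
  -- T = ⟨z⟩ ⟨y⟩
  set T := Subgroup.zpowers z ⊔ Subgroup.zpowers y with hT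
  have hyz : ¬ Subgroup.zpowers y ≤ Subgroup.zpowers z := by
    intro hle
    have hyz : y ∈ Subgroup.zpowers z := hle (Subgroup.mem_zpowers y)
    obtain ⟨k, hk⟩ := Subgroup.mem_zpowers_iff.1 hyz
    apply hy
    rw [← hk]
    exact ((Z.zpow_mem hzZ k) |> Subgroup.mem_center_iff.1) x
  have hTcard : Nat.card T = p ^ 2 := by
    rw [hT, Helper23.card_sup_of_commute_of_disjoint, Nat.card_zpowers, Nat.card_zpowers, hoz, hoy,
      pow_two]
    · intro a ha b _
      obtain ⟨k, rfl⟩ := Subgroup.mem_zpowers_iff.1 ha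
      exact ((Z.zpow_mem hzZ k) |> Subgroup.mem_center_iff.1) b |>.symm
    · rw [inf_comm]
      exact inf_eq_bot_of_card_prime hp.out _ _ (by rw [Nat.card_zpowers, hoy]) hyz
  have hTcomm : IsMulCommutative T := IsPGroup.isMulCommutative_of_card_eq_prime_sq hTcard
  have hyT : y ∈ T := (le_sup_right : Subgroup.zpowers y ≤ T) (Subgroup.mem_zpowers y)
  have hzT : z ∈ T := (le_sup_left : Subgroup.zpowers z ≤ T) (Subgroup.mem_zpowers z)
  have hxT : x ∉ T := by
    intro hx
    exact hy ((isMulCommutative_subgroup_iff T).1 hTcomm x hx y hyT)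
  -- x normalizes T
  have hxN : Subgroup.zpowers x ≤ Subgroup.normalizer (T : Set Q) := by
    rw [Subgroup.zpowers_le]
    have hmap : T.map (MulAut.conj x).toMonoidHom ≤ T := by
      rw [hT, Subgroup.map_sup, MonoidHom.map_zpowers, MonoidHom.map_zpowers, sup_le_iff,
        Subgroup.zpowers_le, Subgroup.zpowers_le]
      constructor
      · have : (MulAut.conj x).toMonoidHom z = z := by
          simp only [MulEquiv.toMonoidHom_eq_coe, MonoidHom.coe_coe, MulAut.conj_apply]
          rw [hzcomm x, mul_inv_cancel_right]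
        rw [this]; exact hzT
      · have : (MulAut.conj x).toMonoidHom y = z * y := by
          simp only [MulEquiv.toMonoidHom_eq_coe, MonoidHom.coe_coe, MulAut.conj_apply]
          rw [hz]; group
        rw [this]; exact T.mul_mem hzT hyT
    have hcard : Nat.card (T.map (MulAut.conj x).toMonoidHom) = Nat.card T :=
      Subgroup.card_map_of_injective (MulAut.conj x).injective
    have heq : T.map (MulAut.conj x).toMonoidHom = T :=
      Subgroup.eq_of_le_of_card_ge hmap hcard.ge
    rw [Subgroup.mem_normalizer_iff]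
    intro h
    constructor
    · intro hh
      exact hmap ⟨h, hh, by simp [MulAut.conj_apply]⟩
    · intro hh
      rw [← heq] at hh
      obtain ⟨h', hh', he⟩ := hh
      simp only [MulEquiv.toMonoidHom_eq_coe, MonoidHom.coe_coe, MulAut.conj_apply] at he
      have : h' = h := by
        have := congrArg (fun w => x⁻¹ * w * x) he
        simpa [mul_assoc] using this
      rwa [← this]
  have hdisj : T ⊓ Subgroup.zpowers x = ⊥ := by
    rw [inf_comm]
    apply inf_eq_bot_of_card_prime hp.out _ _ (by rw [Nat.card_zpowers, hox])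
    intro hle
    exact hxT (hle (Subgroup.mem_zpowers x))
  have hKcard := Helper17.card_sup_mul_card_inf T (Subgroup.zpowers x) hxN
  rw [hdisj, Subgroup.card_bot, mul_one, hTcard, Nat.card_zpowers, hox] at hKcard
  refine ⟨T ⊔ Subgroup.zpowers x, by rw [hKcard]; ring, ?_⟩
  intro hcomm
  apply hy
  exact (isMulCommutative_subgroup_iff _).1 hcomm x
    ((le_sup_right : Subgroup.zpowers x ≤ _) (Subgroup.mem_zpowers x)) y
    ((le_sup_left : T ≤ _) hyT)

/-- a finite `p`-group of order at least `p ^ 4` has an abelian subgroup of order `p ^ 3` -/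
theorem exists_abelian_card_cube [Finite Q] {p : ℕ} [hp : Fact p.Prime] (hQ : IsPGroup p Q)
    (h4 : p ^ 4 ∣ Nat.card Q) : ∃ A : Subgroup Q, Nat.card A = p ^ 3 ∧ IsMulCommutative A := by
  classical
  have hp1 := hp.out.one_lt
  obtain ⟨B, hBn, _, hBcard⟩ := Helper9.exists_normal_le_card_eq hQ ⊤ 2 (by
    rw [Subgroup.card_top]
    exact Nat.le_of_dvd Nat.card_pos ((pow_dvd_pow p (by norm_num)).trans h4))
  have hBcomm : IsMulCommutative B := IsPGroup.isMulCommutative_of_card_eq_prime_sq hBcard
  set C := Subgroup.centralizer (B : Set Q) with hC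
  have hle := Helper9.card_le_card_centralizer_mul hQ 2 B hBn hBcard
  have hC3 : p ^ 3 ∣ Nat.card C := by
    obtain ⟨c, hc⟩ := (IsPGroup.iff_card.1 (hQ.to_subgroup C))
    rw [hc]
    apply pow_dvd_pow
    by_contra hlt
    have hc2 : c ≤ 2 := by omega
    have h1 : p ^ 4 ≤ Nat.card Q := Nat.le_of_dvd Nat.card_pos h4
    rw [hc] at hle
    have h2 : p ^ c * p ^ (2 * (2 - 1) / 2) ≤ p ^ 2 * p ^ 1 := by
      apply Nat.mul_le_mul
      · exact Nat.pow_le_pow_right hp.out.pos hc2
      · exact le_of_eq (by norm_num)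
    have h3 : p ^ 2 * p ^ 1 < p ^ 4 := by
      rw [← pow_add]
      exact Nat.pow_lt_pow_right hp1 (by norm_num)
    omega
  have hBC : B ≤ C := by
    intro b hb
    rw [hC, Subgroup.mem_centralizer_iff]
    intro b' hb'
    exact (isMulCommutative_subgroup_iff B).1 hBcomm b' hb' b hb
  obtain ⟨A, hBA, hAC, hAcard⟩ :=
    Helper9.exists_between_card B C hBC hBcard (by norm_num : 2 ≤ 3) hC3
  refine ⟨A, hAcard, ?_⟩
  -- pick `a ∈ A \ B`
  have hBltA : B < A := by
    refine lt_of_le_of_ne hBA ?_
    intro h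
    rw [h, hAcard] at hBcard
    have := Nat.pow_right_injective hp.out.two_le hBcard
    omega
  obtain ⟨a, haA, haB⟩ := SetLike.exists_of_lt hBltA
  have hsup : B ⊔ Subgroup.zpowers a = A := by
    apply Helper9.eq_of_lt_of_card_pow hp.out 2 (B₀ := B) _ _ hBcard hAcard
    · refine lt_of_le_of_ne le_sup_left ?_
      intro h
      apply haB
      rw [h]
      exact (le_sup_right : Subgroup.zpowers a ≤ _) (Subgroup.mem_zpowers a)
    · exact sup_le hBA (by rw [Subgroup.zpowers_le]; exact haA)
  have hAcent : A ≤ Subgroup.centralizer (A : Set Q) := by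
    have h1 : B ≤ Subgroup.centralizer (A : Set Q) := by
      intro b hb
      rw [Subgroup.mem_centralizer_iff]
      intro u hu
      have := hAC hu
      rw [hC, Subgroup.mem_centralizer_iff] at this
      exact (this b hb).symm
    have h2 : Subgroup.zpowers a ≤ Subgroup.centralizer (A : Set Q) := by
      rw [Subgroup.zpowers_le, Subgroup.mem_centralizer_iff]
      intro u hu
      -- `u ∈ A = B ⊔ ⟨a⟩ ≤ C({a})`
      have h3 : B ⊔ Subgroup.zpowers a ≤ Subgroup.centralizer {a} := by
        rw [sup_le_iff]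
        constructor
        · intro b hb
          rw [Subgroup.mem_centralizer_singleton_iff]
          have := hAC haA
          rw [hC, Subgroup.mem_centralizer_iff] at this
          exact this b hb
        · rw [Subgroup.zpowers_le, Subgroup.mem_centralizer_singleton_iff]
      rw [hsup] at h3
      have := h3 hu
      rw [Subgroup.mem_centralizer_singleton_iff] at this
      exact this
    calc A = B ⊔ Subgroup.zpowers a := hsup.symm
      _ ≤ _ := sup_le h1 h2
  rw [isMulCommutative_subgroup_iff]
  intro u hu v hv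
  have := hAcent hv
  rw [Subgroup.mem_centralizer_iff] at this
  exact this u hu

end

end Cfsg.Agent.Helper20
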