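import Mathlib
import Cfsg.Agent.Helper20.EqOrdA
import Cfsg.Agent.Helper20.PCube
import Cfsg.Agent.Helper9.ElemAbChain
import Cfsg.Agent.Lead.Hall
import Cfsg.Agent.Lead.Coprime

set_option autoImplicit false
open Pointwise

namespace Cfsg.Agent.Helper20

section caseA
variable {G : Type*} [Group G] [Finite G]

/-- In a group where `q`-subgroups of the same order are conjugate, a normal subgroup of order `q`
is contained in every subgroup of order divisible by `q`. -/
theorem normal_card_prime_le {q : ℕ} (hq : q.Prime) (N : Subgroup G) [N.Normal]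
    (hNq : Nat.card N = q) (hDP : EqOrdPConj G) (H : Subgroup G) (hH : q ∣ Nat.card H) :
    N ≤ H := by
  haveI : Fact q.Prime := ⟨hq⟩
  obtain ⟨x, hx⟩ := exists_prime_orderOf_dvd_card' q hH
  have hx' : orderOf (x : G) = q := by rw [Subgroup.orderOf_coe, hx]
  have hZc : Nat.card (Subgroup.zpowers (x : G)) = q := by rw [Nat.card_zpowers, hx']
  have hZp : IsPGroup q (Subgroup.zpowers (x : G)) :=
    IsPGroup.of_card (n := 1) (by rw [hZc, pow_one])
  have hNp : IsPGroup q N := IsPGroup.of_card (n := 1) (by rw [hNq, pow_one])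
  obtain ⟨g, hg⟩ := hDP q hq _ N hZp hNp (by rw [hZc, hNq])
  have h1 : Subgroup.zpowers (x : G) = N := by
    have h2 : (MulAut.conj g)⁻¹ • N = Subgroup.zpowers (x : G) := by
      rw [hg, inv_smul_smul]
    rw [← h2, ← map_inv]
    exact Subgroup.Normal.conj_smul_eq_self g⁻¹ N
  rw [← h1, Subgroup.zpowers_le]
  exact x.2

theorem eqOrdConj_of_normal_card_prime [Group.IsSolvable G] {q : ℕ} (hq : q.Prime)
    (N : Subgroup G) [N.Normal] (hNq : Nat.card N = q) (hDP : EqOrdPConj G)
    (hquot : EqOrdConj (G ⧸ N)) : EqOrdConj G := by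
  intro H K hHK
  have hA2 : ∀ X : Subgroup G, ¬ q ∣ Nat.card X → N ⊓ X = ⊥ := by
    intro X hX
    apply inf_eq_bot_of_card_prime hq N X hNq
    intro hle
    apply hX
    rw [← hNq]
    exact Subgroup.card_dvd_of_le hle
  have hA3 : Nat.card (H.map (QuotientGroup.mk' N)) = Nat.card (K.map (QuotientGroup.mk' N)) := by
    have h1 := card_map_mk'_mul_card_inf N H
    have h2 := card_map_mk'_mul_card_inf N K
    by_cases hd : q ∣ Nat.card H
    · have hNH : N ≤ H := normal_card_prime_le hq N hNq hDP H hd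
      have hNK : N ≤ K := normal_card_prime_le hq N hNq hDP K (hHK ▸ hd)
      rw [inf_eq_left.mpr hNH, hNq] at h1
      rw [inf_eq_left.mpr hNK, hNq, ← hHK, ← h1] at h2
      exact (Nat.eq_of_mul_eq_mul_right hq.pos h2).symm
    · rw [hA2 H hd, Subgroup.card_bot, mul_one] at h1
      rw [hA2 K (hHK ▸ hd), Subgroup.card_bot, mul_one] at h2
      rw [h1, h2, hHK]
  obtain ⟨g', hg'⟩ := hquot _ _ hA3
  obtain ⟨g, rfl⟩ := QuotientGroup.mk'_surjective N g'
  rw [← map_mk'_conj_smul] at hg'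
  set H' : Subgroup G := MulAut.conj g • H with hH'
  have hH'c : Nat.card H' = Nat.card H := card_conj_smul g H
  have hsup : K ⊔ N = H' ⊔ N := by
    have := congrArg (Subgroup.comap (QuotientGroup.mk' N)) hg'
    rwa [Subgroup.comap_map_eq, Subgroup.comap_map_eq, QuotientGroup.ker_mk'] at this
  by_cases hd : q ∣ Nat.card H
  · have hNH : N ≤ H' := normal_card_prime_le hq N hNq hDP H' (hH'c ▸ hd)
    have hNK : N ≤ K := normal_card_prime_le hq N hNq hDP K (hHK ▸ hd)
    refine ⟨g, ?_⟩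
    rw [← hH', ← sup_eq_left.mpr hNH, ← hsup, sup_eq_left.mpr hNK]
  · have hcop : (Nat.card H').Coprime (Nat.card N) := by
      rw [hH'c, hNq]
      exact ((Nat.Prime.coprime_iff_not_dvd hq).mpr hd).symm
    have hA : H' ≤ Subgroup.normalizer (N : Set G) := by
      rw [Subgroup.normalizer_eq_top]; exact le_top
    have hB : K ≤ N ⊔ H' := by
      rw [sup_comm, ← hsup]; exact le_sup_left
    obtain ⟨k, -, hk⟩ := Cfsg.Agent.Lead.sz_conj_rel hA hcop
      (Or.inr (Cfsg.Agent.Lead.isSolvable_subgroup N)) hB (by rw [hH'c, hHK])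
    refine ⟨k * g, ?_⟩
    rw [← hk, hH', map_mul, mul_smul]

end caseA

section dichotomy
variable {G : Type*} [Group G] [Finite G]

theorem sylow_eq_of_card_ne {q : ℕ} (hq : q.Prime) (N : Subgroup G) [hNn : N.Normal]
    (hNne : N ≠ ⊥) (hNp : IsPGroup q N) (hexp : ∀ x ∈ N, x ^ q = 1) (hDP : EqOrdPConj G)
    (hcard : Nat.card N ≠ q) (Q : Sylow q G) : (Q : Subgroup G) = N := by
  haveI : Fact q.Prime := ⟨hq⟩
  obtain ⟨k, hk⟩ := hNp.exists_card_eq
  have hk0 : k ≠ 0 := by
    rintro rfl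
    rw [pow_zero] at hk
    exact hNne (Subgroup.card_eq_one.mp hk)
  have hk1 : k ≠ 1 := by
    rintro rfl
    rw [pow_one] at hk
    exact hcard hk
  have hk2 : 2 ≤ k := by omega
  have hbot : Nat.card (⊥ : Subgroup G) = q ^ 0 := by rw [Subgroup.card_bot, pow_zero]
  obtain ⟨N₂, -, hN₂N, hN₂c⟩ := Cfsg.Agent.Helper9.exists_between_card (p := q) ⊥ N bot_le hbot
    (Nat.zero_le 2) (hk ▸ pow_dvd_pow q hk2)
  obtain ⟨N₁, -, hN₁N, hN₁c⟩ := Cfsg.Agent.Helper9.exists_between_card (p := q) ⊥ N bot_le hbot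
    (Nat.zero_le 1) (hk ▸ pow_dvd_pow q (by omega : 1 ≤ k))
  -- every `q`-element has order dividing `q`
  have step4 : ∀ x : G, ∀ j : ℕ, orderOf x = q ^ j → x ^ q = 1 := by
    intro x j hj
    by_contra hne
    have hj2 : 2 ≤ j := by
      by_contra hlt
      have hj1 : j ≤ 1 := by omega
      apply hne
      have : orderOf x ∣ q := by
        rw [hj]
        calc q ^ j ∣ q ^ 1 := pow_dvd_pow q hj1
          _ = q := pow_one q
      exact orderOf_dvd_iff_pow_eq_one.mp this
    set y : G := x ^ (q ^ (j - 2)) with hy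
    have hyo : orderOf y = q ^ 2 := by
      rw [hy, orderOf_pow_of_dvd (pow_ne_zero _ hq.ne_zero) (hj ▸ pow_dvd_pow q (by omega)), hj,
        Nat.pow_div (by omega) hq.pos]
      congr 1
      omega
    have hZc : Nat.card (Subgroup.zpowers y) = q ^ 2 := by rw [Nat.card_zpowers, hyo]
    have hZp : IsPGroup q (Subgroup.zpowers y) := IsPGroup.of_card hZc
    have hN₂p : IsPGroup q N₂ := IsPGroup.of_card hN₂c
    obtain ⟨g, hg⟩ := hDP q hq _ N₂ hZp hN₂p (by rw [hZc, hN₂c])
    have hmem : MulAut.conj g • y ∈ N₂ := by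
      rw [hg]
      exact Subgroup.smul_mem_pointwise_smul _ _ _ (Subgroup.mem_zpowers y)
    have h1 := hexp _ (hN₂N hmem)
    rw [← smul_pow', smul_eq_iff_eq_inv_smul, smul_one] at h1
    have h2 : orderOf y ∣ q := orderOf_dvd_iff_pow_eq_one.mpr h1
    rw [hyo] at h2
    have h3 := Nat.le_of_dvd hq.pos h2
    have h4 : q < q ^ 2 := by
      calc q = q ^ 1 := (pow_one q).symm
        _ < q ^ 2 := Nat.pow_lt_pow_right hq.one_lt (by norm_num)
    omega
  have step5 : ∀ x : G, ∀ j : ℕ, orderOf x = q ^ j → x ∈ N := by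
    intro x j hj
    by_cases hx1 : x = 1
    · rw [hx1]; exact one_mem N
    have hxo : orderOf x = q := orderOf_eq_prime (step4 x j hj) hx1
    have hZc : Nat.card (Subgroup.zpowers x) = q := by rw [Nat.card_zpowers, hxo]
    have hZp : IsPGroup q (Subgroup.zpowers x) := IsPGroup.of_card (n := 1) (by rw [hZc, pow_one])
    have hN₁p : IsPGroup q N₁ := IsPGroup.of_card hN₁c
    obtain ⟨g, hg⟩ := hDP q hq _ N₁ hZp hN₁p (by rw [hZc, hN₁c, pow_one])
    have hmem : MulAut.conj g • x ∈ N₁ := by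
      rw [hg]
      exact Subgroup.smul_mem_pointwise_smul _ _ _ (Subgroup.mem_zpowers x)
    have h1 : g * x * g⁻¹ ∈ N := hN₁N hmem
    have h2 := hNn.conj_mem _ h1 g⁻¹
    simpa [mul_assoc] using h2
  have hQN : (Q : Subgroup G) ≤ N := by
    intro x hx
    obtain ⟨j, hj⟩ := (IsPGroup.iff_orderOf.mp Q.isPGroup') ⟨x, hx⟩
    rw [Subgroup.orderOf_mk] at hj
    exact step5 x j hj
  exact (Q.is_maximal' hNp hQN).symm

end dichotomy

end Cfsg.Agent.Helper20
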