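import Mathlib
import Cfsg.Agent.Helper20.EqOrdB

set_option autoImplicit false
open Pointwise

namespace Cfsg.Agent.Helper20

section basic
variable {G : Type*} [Group G]

theorem mem_normalizer_iff_conj_smul_eq {H : Subgroup G} {g : G} :
    g ∈ Subgroup.normalizer (H : Set G) ↔ MulAut.conj g • H = H := by
  constructor
  · exact conj_smul_eq_of_mem_normalizer
  · intro h
    rw [Subgroup.mem_normalizer_iff]
    intro x
    have h1 : MulAut.conj g • x ∈ MulAut.conj g • H ↔ x ∈ H :=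
      Subgroup.smul_mem_pointwise_smul_iff
    rw [h] at h1
    exact h1.symm

theorem conj_smul_le_normalizer {A B : Subgroup G} (g : G)
    (h : A ≤ Subgroup.normalizer (B : Set G)) :
    MulAut.conj g • A ≤ Subgroup.normalizer ((MulAut.conj g • B : Subgroup G) : Set G) := by
  rintro x ⟨a, ha, rfl⟩
  rw [mem_normalizer_iff_conj_smul_eq]
  have h1 : MulAut.conj a • B = B := conj_smul_eq_of_mem_normalizer (h ha)
  change MulAut.conj (g * a * g⁻¹) • (MulAut.conj g • B) = MulAut.conj g • B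
  have h2 : MulAut.conj (g * a * g⁻¹) * MulAut.conj g = MulAut.conj g * MulAut.conj a := by
    rw [← map_mul, ← map_mul]
    congr 1
    group
  rw [← mul_smul, h2, mul_smul, h1]

theorem arith_split {a b c d n m : ℕ} (h : a * b = c * d) (ha : a ∣ n) (hc : c ∣ n)
    (hb : b ∣ m) (hd : d ∣ m) (hnm : n.Coprime m) (ha0 : 0 < a) : a = c ∧ b = d := by
  have h1 : a ∣ c := by
    have : a ∣ c * d := h ▸ Dvd.intro _ rfl
    exact (Nat.Coprime.coprime_dvd_left ha (Nat.Coprime.coprime_dvd_right hd hnm)).dvd_of_dvd_mul_right this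
  have h2 : c ∣ a := by
    have : c ∣ a * b := h.symm ▸ Dvd.intro _ rfl
    exact (Nat.Coprime.coprime_dvd_left hc (Nat.Coprime.coprime_dvd_right hb hnm)).dvd_of_dvd_mul_right this
  have h3 : a = c := Nat.dvd_antisymm h1 h2
  subst h3
  exact ⟨rfl, Nat.eq_of_mul_eq_mul_left ha0 h⟩

end basic

section caseB
variable {G : Type*} [Group G] [Finite G]

/-- Decomposition of a subgroup along a normal Hall subgroup `N` with Hall complement `C`. -/
theorem exists_decomp [Group.IsSolvable G] (N : Subgroup G) [N.Normal]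
    (hcop : (Nat.card N).Coprime N.index) (C : Subgroup G) (hC : Nat.card C = N.index)
    (H : Subgroup G) :
    ∃ (D T : Subgroup G) (g : G), D ≤ N ∧ T ≤ C ∧ T ≤ Subgroup.normalizer (D : Set G) ∧
      Nat.card D * Nat.card T = Nat.card H ∧ MulAut.conj g • H = D ⊔ T := by
  set N' : Subgroup H := N.subgroupOf H with hN'
  have hN'card : Nat.card N' = Nat.card (N ⊓ H : Subgroup G) := by
    rw [hN', ← Subgroup.inf_subgroupOf_right, Cfsg.Agent.Helper17.card_subgroupOf_of_le inf_le_right]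
  have hN'dvd : Nat.card N' ∣ Nat.card N := by
    rw [hN'card]; exact Subgroup.card_dvd_of_le inf_le_left
  have hN'idx : N'.index ∣ N.index := Subgroup.relIndex_dvd_index_of_normal N H
  have hcop' : (Nat.card N').Coprime N'.index :=
    Nat.Coprime.coprime_dvd_left hN'dvd (Nat.Coprime.coprime_dvd_right hN'idx hcop)
  obtain ⟨T', hT'⟩ := Subgroup.exists_right_complement'_of_coprime hcop'
  set D₀ : Subgroup G := N ⊓ H with hD₀
  set T₀ : Subgroup G := T'.map H.subtype with hT₀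
  have hT₀card : Nat.card T₀ = Nat.card T' := Subgroup.card_map_of_injective H.subtype_injective
  have hT'idx : N'.index = Nat.card T' := hT'.symm.index_eq_card
  have hsup : D₀ ⊔ T₀ = H := by
    have h1 := congrArg (Subgroup.map H.subtype) hT'.sup_eq_top
    rw [Subgroup.map_sup, Subgroup.subgroupOf_map_subtype, ← MonoidHom.range_eq_map,
      Subgroup.range_subtype] at h1
    exact h1
  have hcards : Nat.card D₀ * Nat.card T₀ = Nat.card H := by
    rw [hT₀card, ← hN'card]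
    exact hT'.card_mul_card
  have hT₀H : T₀ ≤ H := Subgroup.map_subtype_le T'
  have hHnorm : H ≤ Subgroup.normalizer (D₀ : Set G) := by
    intro h hh
    rw [Subgroup.mem_normalizer_iff]
    intro x
    have hN : N.Normal := inferInstance
    constructor
    · rintro ⟨hx1, hx2⟩
      exact ⟨hN.conj_mem x hx1 h, H.mul_mem (H.mul_mem hh hx2) (H.inv_mem hh)⟩
    · rintro ⟨hx1, hx2⟩
      refine ⟨?_, ?_⟩
      · have := hN.conj_mem _ hx1 h⁻¹
        simpa [mul_assoc] using this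
      · have := H.mul_mem (H.mul_mem (H.inv_mem hh) hx2) hh
        simpa [mul_assoc] using this
  have hT₀cop : (Nat.card T₀).Coprime (Nat.card N) := by
    rw [hT₀card, ← hT'idx]
    exact (Nat.Coprime.coprime_dvd_right hN'idx hcop).symm
  have hG : Nat.card G = N.index * Nat.card N := (Subgroup.index_mul_card N).symm
  obtain ⟨C', hC', hT₀C'⟩ := Cfsg.Agent.Lead.hall_exists_ge_aux (Nat.card G) rfl N.index
    (Nat.card N) hG hcop.symm T₀ hT₀cop
  obtain ⟨g, hg⟩ := Cfsg.Agent.Lead.hall_conj_aux (Nat.card G) rfl N.index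
    (Nat.card N) hG hcop.symm C' C hC' hC
  refine ⟨MulAut.conj g • D₀, MulAut.conj g • T₀, g, ?_, ?_, ?_, ?_, ?_⟩
  · rw [← Subgroup.Normal.conj_smul_eq_self g N]
    exact Subgroup.pointwise_smul_le_pointwise_smul_iff.mpr inf_le_left
  · rw [← hg]
    exact Subgroup.pointwise_smul_le_pointwise_smul_iff.mpr hT₀C'
  · exact conj_smul_le_normalizer g (hT₀H.trans hHnorm)
  · rw [card_conj_smul, card_conj_smul, hcards]
  · rw [← Subgroup.smul_sup, hsup]

theorem conj_join {q : ℕ} (hq : q.Prime) (N : Subgroup G) [N.Normal]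
    (hNp : IsPGroup q N) (hNc : IsMulCommutative N)
    (hcop : (Nat.card N).Coprime N.index) (C : Subgroup G) (hC : Nat.card C = N.index)
    (hDP : EqOrdPConj G)
    (hsub : ∀ C' : Subgroup G, C' ≤ C → ∀ A B : Subgroup G, A ≤ C' → B ≤ C' →
      Nat.card A = Nat.card B → ∃ c ∈ C', B = MulAut.conj c • A)
    {D₁ T₁ D₂ T₂ : Subgroup G} (hD₁ : D₁ ≤ N) (hT₁ : T₁ ≤ C)
    (hn₁ : T₁ ≤ Subgroup.normalizer (D₁ : Set G)) (hD₂ : D₂ ≤ N) (hT₂ : T₂ ≤ C)
    (hn₂ : T₂ ≤ Subgroup.normalizer (D₂ : Set G))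
    (hcard : Nat.card D₁ * Nat.card T₁ = Nat.card D₂ * Nat.card T₂) :
    ∃ g : G, D₂ ⊔ T₂ = MulAut.conj g • (D₁ ⊔ T₁) := by
  obtain ⟨hDc, hTc⟩ := arith_split hcard (Subgroup.card_dvd_of_le hD₁)
    (Subgroup.card_dvd_of_le hD₂) (hC ▸ Subgroup.card_dvd_of_le hT₁)
    (hC ▸ Subgroup.card_dvd_of_le hT₂) hcop Nat.card_pos
  obtain ⟨c, hcC, hc⟩ := hsub C le_rfl T₁ T₂ hT₁ hT₂ hTc
  set D₁' : Subgroup G := MulAut.conj c • D₁ with hD₁'
  have hD₁'N : D₁' ≤ N := by
    rw [← Subgroup.Normal.conj_smul_eq_self c N]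
    exact Subgroup.pointwise_smul_le_pointwise_smul_iff.mpr hD₁
  obtain ⟨g, hg⟩ := hDP q hq D₁' D₂ (hNp.to_le hD₁'N) (hNp.to_le hD₂)
    (by rw [card_conj_smul, hDc])
  -- decompose `g`
  have hCN : C ⊔ N = ⊤ := by
    apply Subgroup.eq_top_of_card_eq
    have h1 := Cfsg.Agent.Helper17.card_sup_mul_card_inf_of_normal N C
    have h2 : N ⊓ C = ⊥ := by
      have : (Nat.card N).Coprime (Nat.card C) := hC ▸ hcop
      exact (Subgroup.disjoint_of_coprime_natCard this).eq_bot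
    rw [h2, Subgroup.card_bot, mul_one, hC, mul_comm, Subgroup.index_mul_card, sup_comm] at h1
    exact h1
  obtain ⟨c₁, hc₁C, x, hxN, hg'⟩ :=
    Subgroup.mem_sup_of_normal_right.mp (hCN ▸ Subgroup.mem_top g : g ∈ C ⊔ N)
  have hx : MulAut.conj x • D₁' = D₁' := by
    apply conj_smul_eq_of_mem_normalizer
    apply Subgroup.centralizer_le_normalizer
    rw [Subgroup.mem_centralizer_iff]
    intro y hy
    have := hNc.is_comm.comm (⟨y, hD₁'N hy⟩ : N) ⟨x, hxN⟩
    exact congrArg Subtype.val this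
  have hg₁ : D₂ = MulAut.conj c₁ • D₁' := by
    rw [hg, ← hg', map_mul, mul_smul, hx]
  -- the second alignment
  set C₂ : Subgroup G := C ⊓ Subgroup.normalizer (D₂ : Set G) with hC₂
  have hT₂C₂ : T₂ ≤ C₂ := le_inf hT₂ hn₂
  have hcC : MulAut.conj c₁ • C = C := Subgroup.conj_smul_eq_self_of_mem hc₁C
  have hn₁' : T₂ ≤ Subgroup.normalizer (D₁' : Set G) := by
    rw [hc]; exact conj_smul_le_normalizer c hn₁
  have hT₂' : MulAut.conj c₁ • T₂ ≤ C₂ := by
    apply le_inf
    · rw [← hcC]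
      exact Subgroup.pointwise_smul_le_pointwise_smul_iff.mpr hT₂
    · rw [hg₁]
      exact conj_smul_le_normalizer c₁ hn₁'
  obtain ⟨c₂, hc₂, hc₂'⟩ := hsub C₂ inf_le_left _ T₂ hT₂' hT₂C₂ (card_conj_smul c₁ T₂)
  have hc₂D : MulAut.conj c₂ • D₂ = D₂ := conj_smul_eq_of_mem_normalizer hc₂.2
  refine ⟨c₂ * c₁ * c, ?_⟩
  rw [map_mul, map_mul, mul_smul, mul_smul, Subgroup.smul_sup, ← hc, ← hD₁', Subgroup.smul_sup,
    ← hg₁, Subgroup.smul_sup, ← hc₂', hc₂D]

/-- Case B: a normal abelian Sylow `q`-subgroup with complement satisfying the conclusion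
hereditarily. -/
theorem eqOrdConj_of_normal_sylow [Group.IsSolvable G] {q : ℕ} (hq : q.Prime) (N : Subgroup G)
    [N.Normal] (hNp : IsPGroup q N) (hNc : IsMulCommutative N)
    (hcop : (Nat.card N).Coprime N.index) (C : Subgroup G) (hC : Nat.card C = N.index)
    (hDP : EqOrdPConj G)
    (hsub : ∀ C' : Subgroup G, C' ≤ C → ∀ A B : Subgroup G, A ≤ C' → B ≤ C' →
      Nat.card A = Nat.card B → ∃ c ∈ C', B = MulAut.conj c • A) : EqOrdConj G := by
  intro H K hHK
  obtain ⟨D₁, T₁, g₁, hD₁, hT₁, hn₁, hc₁, hg₁⟩ := exists_decomp N hcop C hC H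
  obtain ⟨D₂, T₂, g₂, hD₂, hT₂, hn₂, hc₂, hg₂⟩ := exists_decomp N hcop C hC K
  obtain ⟨g, hg⟩ := conj_join hq N hNp hNc hcop C hC hDP hsub hD₁ hT₁ hn₁ hD₂ hT₂ hn₂
    (by rw [hc₁, hc₂, hHK])
  refine ⟨g₂⁻¹ * g * g₁, ?_⟩
  rw [map_mul, map_mul, mul_smul, mul_smul, hg₁, ← hg, ← hg₂, ← mul_smul, ← map_mul,
    inv_mul_cancel, map_one, one_smul]

end caseB

end Cfsg.Agent.Helper20
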