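import Mathlib
import Cfsg.Agent.Helper14.Subnormal2
import Cfsg.Agent.Helper14.PCore

set_option autoImplicit false

/-!
# Subnormalizer of a `p`-subgroup (helper20)

`Tset p H` : the set of `g` such that some `p`-subgroup `R ⊇ H` is normalized by `g`.
`sn_iff` : for a `p`-subgroup `H` of a finite group, `H` is subnormal in `⟨H, g⟩` iff `g ∈ Tset p H`.
`card_Tset_pgroup_quot` : for a normal `p`-subgroup `N`, `|Tset H| = |N| * |Tset (H N / N)|`.
-/

namespace Cfsg.Agent.Helper20

open Subgroup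

variable {G : Type*} [Group G]

/-- the subnormalizer set of `H` with respect to `p`-overgroups. -/
def Tset (p : ℕ) (H : Subgroup G) : Set G :=
  {g | ∃ R : Subgroup G, IsPGroup p R ∧ H ≤ R ∧ g ∈ normalizer (R : Set G)}

theorem sn_iff [Finite G] {p : ℕ} [Fact p.Prime] (H : Subgroup G) (hH : IsPGroup p H) (g : G) :
    (H.subgroupOf (H ⊔ zpowers g)).IsSubnormal ↔ g ∈ Tset p H := by
  set X := H ⊔ zpowers g with hX
  have hHX : H ≤ X := le_sup_left
  have hgX : g ∈ X := le_sup_right (α := Subgroup G) (mem_zpowers g)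
  constructor
  · intro hsn
    have hAp : IsPGroup p ↥(H.subgroupOf X) := hH.comap_subtype
    have hle := Cfsg.Agent.Helper14.le_pCore_of_isSubnormal hsn hAp
    refine ⟨(Cfsg.pCore p ↥X).map X.subtype, (Cfsg.Agent.Helper14.pCore_isPGroup p).map _, ?_, ?_⟩
    · intro h hh
      exact ⟨⟨h, hHX hh⟩, hle (mem_subgroupOf.mpr hh), rfl⟩
    · have hn : (⟨g, hgX⟩ : X) ∈ normalizer ((Cfsg.pCore p ↥X : Subgroup X) : Set X) := by
        rw [normalizer_eq_top]; exact mem_top _
      exact le_normalizer_map X.subtype ⟨⟨g, hgX⟩, hn, rfl⟩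
  · rintro ⟨R, hR, hHR, hgR⟩
    have hXN : X ≤ normalizer (R : Set G) := by
      rw [hX]
      refine sup_le (hHR.trans le_normalizer) ?_
      rw [zpowers_le]; exact hgR
    haveI hRn : (R.subgroupOf X).Normal := normal_subgroupOf_of_le_normalizer hXN
    have hle : H.subgroupOf X ≤ R.subgroupOf X := by
      intro x hx
      exact mem_subgroupOf.mpr (hHR (mem_subgroupOf.mp hx))
    have hRp : IsPGroup p ↥(R.subgroupOf X) := hR.comap_subtype
    exact IsSubnormal.trans hle
      (Cfsg.Agent.Helper14.isSubnormal_of_isPGroup hRp _) hRn.isSubnormal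

theorem map_mem_Tset {G' : Type*} [Group G'] {p : ℕ} (f : G →* G') (H : Subgroup G) {g : G}
    (hg : g ∈ Tset p H) : f g ∈ Tset p (H.map f) := by
  obtain ⟨R, hR, hHR, hgR⟩ := hg
  exact ⟨R.map f, hR.map f, Subgroup.map_mono hHR, le_normalizer_map f ⟨g, hgR, rfl⟩⟩

theorem Tset_eq_preimage_of_pgroup {p : ℕ} [Fact p.Prime] (N : Subgroup G) [N.Normal]
    (hN : IsPGroup p N) (H : Subgroup G) :
    Tset p H = (QuotientGroup.mk' N) ⁻¹' (Tset p (H.map (QuotientGroup.mk' N))) := by
  ext g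
  constructor
  · intro hg
    exact map_mem_Tset _ H hg
  · rintro ⟨Rb, hRb, hHRb, hgRb⟩
    refine ⟨Rb.comap (QuotientGroup.mk' N), ?_, ?_, ?_⟩
    · apply hRb.comap_of_ker_isPGroup
      rw [QuotientGroup.ker_mk']; exact hN
    · rwa [← Subgroup.map_le_iff_le_comap]
    · exact le_normalizer_comap (QuotientGroup.mk' N) hgRb

theorem card_Tset_pgroup_quot [Finite G] {p : ℕ} [Fact p.Prime] (N : Subgroup G) [N.Normal]
    (hN : IsPGroup p N) (H : Subgroup G) :
    Nat.card (Tset p H) = Nat.card N * Nat.card (Tset p (H.map (QuotientGroup.mk' N))) := by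
  rw [Tset_eq_preimage_of_pgroup N hN H]
  exact QuotientGroup.card_preimage_mk N _

end Cfsg.Agent.Helper20
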