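import Mathlib
import Cfsg.Agent.Helper20.SubnCountA
import Cfsg.Agent.Helper20.EqOrdC
import Cfsg.Agent.Lead.Coprime

set_option autoImplicit false

/-!
# Subnormalizer count through a normal `p'`-subgroup (helper20)

`card_Tset_pprime_quot` : for a normal `p'`-subgroup `K` and a `p`-subgroup `H`,
`|Tset H| = |C_K(H)| * |Tset (H K / K)|`.
-/

namespace Cfsg.Agent.Helper20

open Subgroup Pointwise

variable {G : Type*} [Group G] [Finite G] {p : ℕ} [Fact p.Prime]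

theorem pgroup_inf_pprime (K : Subgroup G) (hK : (Nat.card K).Coprime p) (R : Subgroup G)
    (hR : IsPGroup p R) : R ⊓ K = ⊥ := by
  obtain ⟨a, ha⟩ := IsPGroup.iff_card.mp hR
  have hcop : (Nat.card R).Coprime (Nat.card K) := by
    rw [ha]; exact (Nat.Coprime.pow_right a hK).symm
  exact (disjoint_of_coprime_natCard hcop).eq_bot

theorem injOn_mk_of_pgroup (K : Subgroup G) [K.Normal] (hK : (Nat.card K).Coprime p)
    (R : Subgroup G) (hR : IsPGroup p R) : Set.InjOn (QuotientGroup.mk' K) (R : Set G) := by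
  intro x hx y hy hxy
  have h1 : x⁻¹ * y ∈ K := QuotientGroup.eq.mp hxy
  have h2 : x⁻¹ * y ∈ R ⊓ K := ⟨R.mul_mem (R.inv_mem hx) hy, h1⟩
  rw [pgroup_inf_pprime K hK R hR, mem_bot] at h2
  exact inv_mul_eq_one.mp h2

theorem card_map_mk_of_pgroup (K : Subgroup G) [K.Normal] (hK : (Nat.card K).Coprime p)
    (R : Subgroup G) (hR : IsPGroup p R) :
    Nat.card (R.map (QuotientGroup.mk' K)) = Nat.card R := by
  have h := card_map_mk'_mul_card_inf K R
  rw [inf_comm, pgroup_inf_pprime K hK R hR, Subgroup.card_bot, mul_one] at h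
  exact h

theorem lift_normalizer' (K : Subgroup G) [K.Normal] (hK : (Nat.card K).Coprime p)
    (D : Subgroup G) (hD : IsPGroup p D) (g : G)
    (hg : (QuotientGroup.mk' K g) ∈
      normalizer ((D.map (QuotientGroup.mk' K) : Subgroup (G ⧸ K)) : Set (G ⧸ K))) :
    ∃ k ∈ K, ∃ n ∈ normalizer (D : Set G), g = k * n := by
  set φ := QuotientGroup.mk' K with hφ
  have hB : MulAut.conj g • D ≤ K ⊔ D := by
    intro x hx
    obtain ⟨d, hd, rfl⟩ := (mem_smul_pointwise_iff_exists _ _ _).mp hx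
    rw [MulAut.smul_def, MulAut.conj_apply]
    have h1 : φ g * φ d * (φ g)⁻¹ ∈ D.map φ :=
      (mem_normalizer_iff.mp hg (φ d)).mp ⟨d, hd, rfl⟩
    obtain ⟨d', hd', hdd⟩ := h1
    have h2 : d'⁻¹ * (g * d * g⁻¹) ∈ K := by
      rw [← QuotientGroup.eq]
      change φ d' = φ (g * d * g⁻¹)
      rw [hdd, map_mul, map_mul, map_inv]
    have : g * d * g⁻¹ = d' * (d'⁻¹ * (g * d * g⁻¹)) := by group
    rw [this]
    exact mul_mem (mem_sup_right hd') (mem_sup_left h2)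
  obtain ⟨a, ha⟩ := IsPGroup.iff_card.mp hD
  have hcop : (Nat.card D).Coprime (Nat.card K) := by
    rw [ha]; exact (Nat.Coprime.pow_right a hK).symm
  haveI : Group.IsNilpotent D := hD.isNilpotent
  have hsolv : Group.IsSolvable D := inferInstance
  have hDn : D ≤ normalizer (K : Set G) := by rw [normalizer_eq_top]; exact le_top
  obtain ⟨k, hk, hkeq⟩ := Cfsg.Agent.Lead.sz_conj_rel (A := D) (K := K) (B := MulAut.conj g • D)
    hDn hcop (Or.inl hsolv) hB (card_conj_smul g D)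
  refine ⟨k, hk, k⁻¹ * g, ?_, by group⟩
  rw [mem_normalizer_iff_conj_smul_eq, map_mul, mul_smul, ← hkeq, map_inv, inv_smul_smul]

/-- `N_K(R) = C_K(R)` for a `p`-subgroup `R` and normal `p'`-subgroup `K`. -/
theorem mem_centralizer_of_mem_normalizer_pprime (K : Subgroup G) [hKn : K.Normal]
    (hK : (Nat.card K).Coprime p) (R : Subgroup G) (hR : IsPGroup p R) {k : G} (hk : k ∈ K)
    (hkn : k ∈ normalizer (R : Set G)) : k ∈ centralizer (R : Set G) := by
  rw [mem_centralizer_iff]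
  intro r hr
  have h1 : k * r * k⁻¹ ∈ R := (mem_normalizer_iff.mp hkn r).mp hr
  have h2 : k * r * k⁻¹ * r⁻¹ ∈ K := by
    have : k * r * k⁻¹ * r⁻¹ = k * (r * k⁻¹ * r⁻¹) := by group
    rw [this]
    exact K.mul_mem hk (hKn.conj_mem _ (K.inv_mem hk) r)
  have h3 : k * r * k⁻¹ * r⁻¹ ∈ R ⊓ K := ⟨R.mul_mem h1 (R.inv_mem hr), h2⟩
  rw [pgroup_inf_pprime K hK R hR, mem_bot] at h3
  have : k * r = (k * r * k⁻¹ * r⁻¹) * (r * k) := by group
  rw [this, h3, one_mul]

theorem map_mk_conj_smul_of_mem (K : Subgroup G) [K.Normal] {k : G} (hk : k ∈ K) (A : Subgroup G) :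
    (MulAut.conj k • A).map (QuotientGroup.mk' K) = A.map (QuotientGroup.mk' K) := by
  have hφk : QuotientGroup.mk' K k = 1 := (QuotientGroup.eq_one_iff k).mpr hk
  ext y
  constructor
  · rintro ⟨x, hx, rfl⟩
    obtain ⟨a, ha, rfl⟩ := (mem_smul_pointwise_iff_exists _ _ _).mp hx
    refine ⟨a, ha, ?_⟩
    rw [MulAut.smul_def, MulAut.conj_apply, map_mul, map_mul, map_inv, hφk]
    simp
  · rintro ⟨a, ha, rfl⟩
    refine ⟨k * a * k⁻¹, ?_, ?_⟩
    · exact (mem_smul_pointwise_iff_exists _ _ _).mpr ⟨a, ha, by rw [MulAut.smul_def, MulAut.conj_apply]⟩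
    · rw [map_mul, map_mul, map_inv, hφk]
      simp

theorem conj_mem_normalizer_conj_smul {A : Subgroup G} {g : G} (k : G)
    (hg : g ∈ normalizer (A : Set G)) :
    k * g * k⁻¹ ∈ normalizer ((MulAut.conj k • A : Subgroup G) : Set G) := by
  rw [mem_normalizer_iff_conj_smul_eq] at hg ⊢
  rw [map_mul, map_mul, mul_smul, mul_smul, map_inv, inv_smul_smul, hg]

theorem exists_sylow_lift (K : Subgroup G) [K.Normal] (hK : (Nat.card K).Coprime p)
    (H : Subgroup G) (hH : IsPGroup p H) (Rb : Subgroup (G ⧸ K)) (hRb : IsPGroup p Rb)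
    (hHRb : H.map (QuotientGroup.mk' K) ≤ Rb) :
    ∃ R₀ : Subgroup G, IsPGroup p R₀ ∧ H ≤ R₀ ∧ R₀.map (QuotientGroup.mk' K) = Rb := by
  set φ := QuotientGroup.mk' K with hφ
  set L := Rb.comap φ with hL
  have hHL : H ≤ L := by rwa [hL, ← Subgroup.map_le_iff_le_comap]
  have hHLp : IsPGroup p ↥(H.subgroupOf L) := hH.comap_subtype
  obtain ⟨Q, hQ⟩ := hHLp.exists_le_sylow
  refine ⟨(Q : Subgroup L).map L.subtype, Q.isPGroup'.map _, ?_, ?_⟩
  · intro h hh
    exact ⟨⟨h, hHL hh⟩, hQ (mem_subgroupOf.mpr hh), rfl⟩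
  · have hle : ((Q : Subgroup L).map L.subtype).map φ ≤ Rb := by
      rintro _ ⟨x, ⟨y, _, rfl⟩, rfl⟩
      exact y.2
    apply Subgroup.eq_of_le_of_card_ge hle
    rw [card_map_mk_of_pgroup K hK _ (Q.isPGroup'.map _),
      Subgroup.card_map_of_injective L.subtype_injective]
    obtain ⟨a, ha⟩ := IsPGroup.iff_card.mp hRb
    have hcardL : Nat.card L = Nat.card K * Nat.card Rb := by
      rw [hL]
      exact QuotientGroup.card_preimage_mk K (Rb : Set (G ⧸ K))
    rw [Sylow.card_eq_multiplicity, hcardL, ha]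
    have hp : p.Prime := Fact.out
    have hKpos : Nat.card K ≠ 0 := Nat.card_pos.ne'
    have hnd : ¬ p ∣ Nat.card K := by
      intro h
      have := Nat.eq_one_of_dvd_coprimes hK h dvd_rfl
      exact hp.one_lt.ne' this
    rw [Nat.factorization_mul hKpos (pow_pos hp.pos a).ne', Finsupp.add_apply,
      Nat.factorization_eq_zero_of_not_dvd hnd, Nat.Prime.factorization_pow hp]
    simp

theorem fiber_card (K : Subgroup G) [hKn : K.Normal] (hK : (Nat.card K).Coprime p)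
    (H : Subgroup G) (hH : IsPGroup p H) (gb : G ⧸ K)
    (hgb : gb ∈ Tset p (H.map (QuotientGroup.mk' K))) :
    Nat.card {g : G // QuotientGroup.mk' K g = gb ∧ g ∈ Tset p H} =
      Nat.card ↥(K ⊓ centralizer (H : Set G)) := by
  classical
  set φ := QuotientGroup.mk' K with hφ
  have hφK : ∀ k ∈ K, φ k = 1 := fun k hk => (QuotientGroup.eq_one_iff k).mpr hk
  have hex : ∃ m : ℕ, ∃ Rb : Subgroup (G ⧸ K), IsPGroup p Rb ∧ H.map φ ≤ Rb ∧
      gb ∈ normalizer (Rb : Set (G ⧸ K)) ∧ Nat.card Rb = m := by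
    obtain ⟨Rb, h1, h2, h3⟩ := hgb
    exact ⟨_, Rb, h1, h2, h3, rfl⟩
  obtain ⟨Rb, hRbp, hHRb, hgRb, hRbcard⟩ := Nat.find_spec hex
  have hmin : ∀ Rb' : Subgroup (G ⧸ K), IsPGroup p Rb' → H.map φ ≤ Rb' →
      gb ∈ normalizer (Rb' : Set (G ⧸ K)) → Rb' ≤ Rb → Rb' = Rb := by
    intro Rb' h1 h2 h3 h4
    apply Subgroup.eq_of_le_of_card_ge h4
    rw [hRbcard]
    exact Nat.find_min' hex ⟨Rb', h1, h2, h3, rfl⟩
  obtain ⟨g₀, hg₀⟩ := QuotientGroup.mk'_surjective K gb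
  have hkey : ∀ (R' : Subgroup G) (g : G), IsPGroup p R' → H ≤ R' →
      g ∈ normalizer (R' : Set G) → φ g = gb → R'.map φ ≤ Rb → R'.map φ = Rb := by
    intro R' g h1 h2 h3 h4 h5
    apply hmin _ (h1.map φ) (Subgroup.map_mono h2) _ h5
    rw [← h4]; exact le_normalizer_map φ ⟨g, h3, rfl⟩
  obtain ⟨R₀, hR₀p, hHR₀, hR₀map⟩ := exists_sylow_lift K hK H hH Rb hRbp hHRb
  obtain ⟨k₀, hk₀, n₀, hn₀, hg₀n₀⟩ := lift_normalizer' K hK R₀ hR₀p g₀
    (by rw [hR₀map]; change φ g₀ ∈ _; rw [hg₀]; exact hgRb)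
  have hφn₀ : φ n₀ = gb := by
    rw [← hg₀, hg₀n₀, map_mul, hφK k₀ hk₀, one_mul]
  -- uniqueness
  have huniq : ∀ (R₁ R₂ : Subgroup G) (w : G), IsPGroup p R₁ → H ≤ R₁ → R₁.map φ = Rb →
      IsPGroup p R₂ → H ≤ R₂ → R₂.map φ = Rb → w ∈ normalizer (R₁ : Set G) →
      w ∈ normalizer (R₂ : Set G) → φ w = gb → R₁ = R₂ := by
    intro R₁ R₂ w h1 h2 h3 h4 h5 h6 h7 h8 h9
    have hR3 := hkey (R₁ ⊓ R₂) w (h1.to_le inf_le_left) (le_inf h2 h5)
      (inf_normalizer_le_normalizer_inf ⟨h7, h8⟩) h9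
      ((Subgroup.map_mono inf_le_left).trans h3.le)
    have hc3 : Nat.card ↥(R₁ ⊓ R₂) = Nat.card Rb := by
      rw [← hR3, card_map_mk_of_pgroup K hK _ (h1.to_le inf_le_left)]
    have hc1 : Nat.card R₁ = Nat.card Rb := by
      rw [← h3, card_map_mk_of_pgroup K hK _ h1]
    have hc2 : Nat.card R₂ = Nat.card Rb := by
      rw [← h6, card_map_mk_of_pgroup K hK _ h4]
    have e1 : R₁ ⊓ R₂ = R₁ := Subgroup.eq_of_le_of_card_ge inf_le_left (by rw [hc3, hc1])
    have e2 : R₁ ⊓ R₂ = R₂ := Subgroup.eq_of_le_of_card_ge inf_le_right (by rw [hc3, hc2])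
    rw [← e1, e2]
  -- conjugating elements
  have hkR : ∀ R : {R : Subgroup G // IsPGroup p R ∧ H ≤ R ∧ R.map φ = Rb},
      ∃ k : G, k ∈ K ∧ k ∈ centralizer (H : Set G) ∧ MulAut.conj k • R₀ = R.1 := by
    rintro ⟨R, hRp, hHR, hRmap⟩
    have hB : R ≤ K ⊔ R₀ := by
      intro r hr
      have : φ r ∈ R₀.map φ := by rw [hR₀map, ← hRmap]; exact ⟨r, hr, rfl⟩
      obtain ⟨r₀, hr₀, hrr⟩ := this
      have h2 : r₀⁻¹ * r ∈ K := QuotientGroup.eq.mp hrr
      have : r = r₀ * (r₀⁻¹ * r) := by group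
      rw [this]
      exact mul_mem (mem_sup_right hr₀) (mem_sup_left h2)
    obtain ⟨a, ha⟩ := IsPGroup.iff_card.mp hR₀p
    have hcop : (Nat.card R₀).Coprime (Nat.card K) := by
      rw [ha]; exact (Nat.Coprime.pow_right a hK).symm
    haveI : Group.IsNilpotent R₀ := hR₀p.isNilpotent
    have hsolv : Group.IsSolvable R₀ := inferInstance
    have hDn : R₀ ≤ normalizer (K : Set G) := by rw [normalizer_eq_top]; exact le_top
    have hcard : Nat.card R = Nat.card R₀ := by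
      rw [← card_map_mk_of_pgroup K hK R hRp, ← card_map_mk_of_pgroup K hK R₀ hR₀p, hRmap,
        hR₀map]
    obtain ⟨k, hk, hkeq⟩ := Cfsg.Agent.Lead.sz_conj_rel (A := R₀) (K := K) (B := R)
      hDn hcop (Or.inl hsolv) hB hcard
    refine ⟨k, hk, ?_, hkeq⟩
    rw [mem_centralizer_iff]
    intro h hh
    have h1 : h ∈ MulAut.conj k • R₀ := by rw [hkeq]; exact hHR hh
    obtain ⟨r, hr, hrh⟩ := (mem_smul_pointwise_iff_exists _ _ _).mp h1
    rw [MulAut.smul_def, MulAut.conj_apply] at hrh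
    -- r = k⁻¹ h k ∈ R₀, and r h⁻¹ ∈ K ∩ R₀
    have h2 : r * h⁻¹ ∈ K := by
      have : r * h⁻¹ = k⁻¹ * (h * k * h⁻¹) := by rw [← hrh]; group
      rw [this]
      exact K.mul_mem (K.inv_mem hk) (hKn.conj_mem k hk h)
    have h3 : r * h⁻¹ ∈ R₀ ⊓ K := ⟨R₀.mul_mem hr (R₀.inv_mem (hHR₀ hh)), h2⟩
    rw [pgroup_inf_pprime K hK R₀ hR₀p, mem_bot] at h3
    have h4 : r = h := by rw [mul_inv_eq_one] at h3; exact h3
    rw [h4] at hrh
    -- k h k⁻¹ = h
    have : h * k = (k * h * k⁻¹) * k := by rw [hrh]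
    rw [this]; group
  choose kR hkRK hkRC hkRconj using hkR
  have hC0norm : ∀ c : G, c ∈ K ⊓ centralizer (R₀ : Set G) → MulAut.conj c • R₀ = R₀ := by
    intro c hc
    exact mem_normalizer_iff_conj_smul_eq.mp (centralizer_le_normalizer _ hc.2)
  -- the two bijections
  let Ψ₁ : {R : Subgroup G // IsPGroup p R ∧ H ≤ R ∧ R.map φ = Rb} ×
      ↥(K ⊓ centralizer (R₀ : Set G)) → ↥(K ⊓ centralizer (H : Set G)) :=
    fun x => ⟨kR x.1 * x.2.1,
      K.mul_mem (hkRK x.1) x.2.2.1,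
      (centralizer (H : Set G)).mul_mem (hkRC x.1) (centralizer_le hHR₀ x.2.2.2)⟩
  have hΨ₁conj : ∀ x : {R : Subgroup G // IsPGroup p R ∧ H ≤ R ∧ R.map φ = Rb} ×
      ↥(K ⊓ centralizer (R₀ : Set G)), MulAut.conj (kR x.1 * x.2.1) • R₀ = (x.1).1 := by
    intro x
    rw [map_mul, mul_smul, hC0norm _ x.2.2, hkRconj]
  have hΨ₁ : Function.Bijective Ψ₁ := by
    constructor
    · intro x y hxy
      have h1 : kR x.1 * x.2.1 = kR y.1 * y.2.1 := congrArg Subtype.val hxy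
      have h2 : x.1 = y.1 := by
        apply Subtype.ext
        rw [← hΨ₁conj x, ← hΨ₁conj y, h1]
      have h3 : x.2 = y.2 := by
        apply Subtype.ext
        rw [h2] at h1
        exact mul_left_cancel h1
      exact Prod.ext h2 h3
    · rintro ⟨k, hkK, hkC⟩
      have hmem : IsPGroup p ↥(MulAut.conj k • R₀ : Subgroup G) ∧ H ≤ MulAut.conj k • R₀ ∧
          (MulAut.conj k • R₀ : Subgroup G).map φ = Rb := by
        refine ⟨isPGroup_conj_smul k hR₀p, ?_, ?_⟩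
        · intro h hh
          refine (mem_smul_pointwise_iff_exists _ _ _).mpr ⟨h, hHR₀ hh, ?_⟩
          rw [MulAut.smul_def, MulAut.conj_apply]
          have := mem_centralizer_iff.mp hkC h hh
          rw [← this]; group
        · rw [map_mk_conj_smul_of_mem K hkK, hR₀map]
      set R : {R : Subgroup G // IsPGroup p R ∧ H ≤ R ∧ R.map φ = Rb} :=
        ⟨MulAut.conj k • R₀, hmem⟩ with hRdef
      have hcK : (kR R)⁻¹ * k ∈ K := K.mul_mem (K.inv_mem (hkRK R)) hkK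
      have hcN : (kR R)⁻¹ * k ∈ normalizer (R₀ : Set G) := by
        rw [mem_normalizer_iff_conj_smul_eq, map_mul, mul_smul, map_inv]
        have : MulAut.conj k • R₀ = MulAut.conj (kR R) • R₀ := by rw [hkRconj R]
        rw [this, inv_smul_smul]
      refine ⟨(R, ⟨(kR R)⁻¹ * k, hcK,
        mem_centralizer_of_mem_normalizer_pprime K hK R₀ hR₀p hcK hcN⟩), ?_⟩
      apply Subtype.ext
      change kR R * ((kR R)⁻¹ * k) = k
      group
  have hW : ∀ x : {R : Subgroup G // IsPGroup p R ∧ H ≤ R ∧ R.map φ = Rb} ×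
      ↥(K ⊓ centralizer (R₀ : Set G)),
      φ (kR x.1 * n₀ * x.2.1 * (kR x.1)⁻¹) = gb ∧
        kR x.1 * n₀ * x.2.1 * (kR x.1)⁻¹ ∈ normalizer ((x.1).1 : Set G) := by
    intro x
    constructor
    · rw [map_mul, map_mul, map_mul, map_inv, hφK _ (hkRK x.1), hφK _ x.2.2.1, hφn₀]
      simp
    · have h1 : n₀ * x.2.1 ∈ normalizer (R₀ : Set G) :=
        (normalizer (R₀ : Set G)).mul_mem hn₀ (centralizer_le_normalizer _ x.2.2.2)
      have h2 := conj_mem_normalizer_conj_smul (kR x.1) h1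
      rw [hkRconj] at h2
      have : kR x.1 * n₀ * x.2.1 * (kR x.1)⁻¹ = kR x.1 * (n₀ * x.2.1) * (kR x.1)⁻¹ := by group
      rw [this]; exact h2
  let Ψ₂ : {R : Subgroup G // IsPGroup p R ∧ H ≤ R ∧ R.map φ = Rb} ×
      ↥(K ⊓ centralizer (R₀ : Set G)) → {g : G // φ g = gb ∧ g ∈ Tset p H} :=
    fun x => ⟨kR x.1 * n₀ * x.2.1 * (kR x.1)⁻¹, (hW x).1,
      ⟨(x.1).1, (x.1).2.1, (x.1).2.2.1, (hW x).2⟩⟩
  have hΨ₂ : Function.Bijective Ψ₂ := by
    constructor
    · intro x y hxy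
      have h1 : kR x.1 * n₀ * x.2.1 * (kR x.1)⁻¹ = kR y.1 * n₀ * y.2.1 * (kR y.1)⁻¹ :=
        congrArg Subtype.val hxy
      have h2 : x.1 = y.1 := by
        apply Subtype.ext
        refine huniq _ _ (kR x.1 * n₀ * x.2.1 * (kR x.1)⁻¹) (x.1).2.1 (x.1).2.2.1 (x.1).2.2.2
          (y.1).2.1 (y.1).2.2.1 (y.1).2.2.2 (hW x).2 ?_ (hW x).1
        rw [h1]; exact (hW y).2
      have h3 : x.2 = y.2 := by
        apply Subtype.ext
        rw [h2] at h1
        have := mul_right_cancel h1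
        exact mul_left_cancel this
      exact Prod.ext h2 h3
    · rintro ⟨w, hφw, R', hR'p, hHR', hwR'⟩
      have hw2 : w ∈ normalizer ((Rb.comap φ : Subgroup G) : Set G) :=
        le_normalizer_comap φ (by rw [mem_comap, hφw]; exact hgRb)
      have hR''map := hkey (R' ⊓ Rb.comap φ) w (hR'p.to_le inf_le_left)
        (le_inf hHR' (by rwa [← Subgroup.map_le_iff_le_comap]))
        (inf_normalizer_le_normalizer_inf ⟨hwR', hw2⟩) hφw
        ((Subgroup.map_mono inf_le_right).trans (Subgroup.map_comap_le _ _))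
      set R : {R : Subgroup G // IsPGroup p R ∧ H ≤ R ∧ R.map φ = Rb} :=
        ⟨R' ⊓ Rb.comap φ, hR'p.to_le inf_le_left,
          le_inf hHR' (by rwa [← Subgroup.map_le_iff_le_comap]), hR''map⟩ with hRdef
      have hwR : w ∈ normalizer ((R.1 : Subgroup G) : Set G) :=
        inf_normalizer_le_normalizer_inf ⟨hwR', hw2⟩
      -- c := n₀⁻¹ * k⁻¹ * w * k
      have hcK : n₀⁻¹ * ((kR R)⁻¹ * w * kR R) ∈ K := by
        rw [← QuotientGroup.eq_one_iff]
        change φ (n₀⁻¹ * ((kR R)⁻¹ * w * kR R)) = 1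
        rw [map_mul, map_mul, map_mul, map_inv, map_inv, hφK _ (hkRK R), hφw, hφn₀]
        simp
      have hcN : n₀⁻¹ * ((kR R)⁻¹ * w * kR R) ∈ normalizer (R₀ : Set G) := by
        apply (normalizer (R₀ : Set G)).mul_mem ((normalizer (R₀ : Set G)).inv_mem hn₀)
        have h2 := conj_mem_normalizer_conj_smul (kR R)⁻¹ hwR
        rw [← hkRconj R, map_inv, inv_smul_smul, inv_inv] at h2
        exact h2
      refine ⟨(R, ⟨n₀⁻¹ * ((kR R)⁻¹ * w * kR R), hcK,
        mem_centralizer_of_mem_normalizer_pprime K hK R₀ hR₀p hcK hcN⟩), ?_⟩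
      apply Subtype.ext
      change kR R * n₀ * (n₀⁻¹ * ((kR R)⁻¹ * w * kR R)) * (kR R)⁻¹ = w
      group
  rw [← Nat.card_congr (Equiv.ofBijective Ψ₂ hΨ₂), Nat.card_congr (Equiv.ofBijective Ψ₁ hΨ₁)]

theorem card_Tset_pprime_quot (K : Subgroup G) [hKn : K.Normal] (hK : (Nat.card K).Coprime p)
    (H : Subgroup G) (hH : IsPGroup p H) :
    Nat.card (Tset p H) =
      Nat.card ↥(K ⊓ centralizer (H : Set G)) *
        Nat.card (Tset p (H.map (QuotientGroup.mk' K))) := by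
  classical
  set φ := QuotientGroup.mk' K with hφ
  let f : ↥(Tset p H) → ↥(Tset p (H.map φ)) := fun g => ⟨φ g.1, map_mem_Tset φ H g.2⟩
  have e1 := Equiv.sigmaFiberEquiv f
  have e2 : ∀ y : ↥(Tset p (H.map φ)),
      {x : ↥(Tset p H) // f x = y} ≃ {g : G // φ g = y.1 ∧ g ∈ Tset p H} := fun y =>
    { toFun := fun x => ⟨x.1.1, congrArg Subtype.val x.2, x.1.2⟩
      invFun := fun g => ⟨⟨g.1, g.2.2⟩, Subtype.ext g.2.1⟩
      left_inv := fun x => rfl
      right_inv := fun g => rfl }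
  haveI : Fintype ↥(Tset p (H.map φ)) := Fintype.ofFinite _
  rw [← Nat.card_congr e1, Nat.card_sigma]
  have : ∀ y : ↥(Tset p (H.map φ)), Nat.card {x : ↥(Tset p H) // f x = y} =
      Nat.card ↥(K ⊓ centralizer (H : Set G)) := by
    intro y
    rw [Nat.card_congr (e2 y)]
    exact fiber_card K hK H hH y.1 y.2
  simp only [this, Finset.sum_const, Finset.card_univ, smul_eq_mul, Nat.card_eq_fintype_card]
  ring

end Cfsg.Agent.Helper20
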