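import Mathlib

set_option autoImplicit false

namespace Cfsg.Agent.Helper20

/-- A subgroup containing a Sylow `q`-subgroup for each prime `q` is the whole group. -/
lemma eq_top_of_forall_sylow_le {G : Type*} [Group G] [Finite G] (H : Subgroup G)
    (h : ∀ (q : ℕ) [Fact q.Prime], ∃ Q : Sylow q G, (Q : Subgroup G) ≤ H) : H = ⊤ := by
  apply Subgroup.eq_top_of_le_card
  apply Nat.le_of_dvd Nat.card_pos
  rw [← Nat.factorization_prime_le_iff_dvd Nat.card_pos.ne' Nat.card_pos.ne']
  intro q hq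
  haveI := Fact.mk hq
  obtain ⟨Q, hQ⟩ := h q
  have h1 : q ^ (Nat.card G).factorization q ∣ Nat.card H := by
    rw [← Sylow.card_eq_multiplicity Q]
    exact Subgroup.card_dvd_of_le hQ
  exact (hq.pow_dvd_iff_le_factorization Nat.card_pos.ne').1 h1

/-- An element of `p`-power order lies in a normal Sylow `p`-subgroup. -/
lemma mem_normal_sylow_of_orderOf {G : Type*} [Group G] [Finite G] {p : ℕ} [Fact p.Prime]
    (P : Sylow p G) (hP : (P : Subgroup G).Normal) (x : G) (a : ℕ) (hx : orderOf x = p ^ a) :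
    x ∈ (P : Subgroup G) := by
  have hpg : IsPGroup p (Subgroup.zpowers x) := by
    rw [IsPGroup.iff_card, Nat.card_zpowers]
    exact ⟨a, hx⟩
  obtain ⟨Q, hQ⟩ := hpg.exists_le_sylow
  haveI : Subsingleton (Sylow p G) := (Sylow.unique_of_normal P hP).instSubsingleton
  have : Q = P := Subsingleton.elim _ _
  rw [← this]
  exact hQ (Subgroup.mem_zpowers x)

/-- Elements of a `p`-subgroup have `p`-power order. -/
lemma orderOf_eq_pow_of_mem_pgroup {G : Type*} [Group G] {p : ℕ} [Fact p.Prime]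
    (P : Subgroup G) (hP : IsPGroup p P) (x : G) (hx : x ∈ P) : ∃ a : ℕ, orderOf x = p ^ a := by
  obtain ⟨a, ha⟩ := hP ⟨x, hx⟩
  have h1 : x ^ p ^ a = 1 := by
    have := congrArg Subtype.val ha
    simpa using this
  obtain ⟨b, _, hb⟩ := (Nat.dvd_prime_pow Fact.out).1 (orderOf_dvd_of_pow_eq_one h1)
  exact ⟨b, hb⟩

end Cfsg.Agent.Helper20

namespace Cfsg.Agent.Helper20

/-- A subgroup of index prime to `p` contains a Sylow `p`-subgroup. -/
lemma exists_sylow_le_of_not_dvd_index {G : Type*} [Group G] [Finite G] {p : ℕ} [Fact p.Prime]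
    (H : Subgroup G) (hH : ¬ p ∣ H.index) : ∃ Q : Sylow p G, (Q : Subgroup G) ≤ H := by
  have hp : p.Prime := Fact.out
  have h1 : p ^ (Nat.card G).factorization p ∣ Nat.card H * H.index := by
    rw [Subgroup.card_mul_index]
    exact Nat.ordProj_dvd _ _
  have hcop : Nat.Coprime (p ^ (Nat.card G).factorization p) H.index :=
    Nat.Coprime.pow_left _ ((Nat.Prime.coprime_iff_not_dvd hp).2 hH)
  have h2 : p ^ (Nat.card G).factorization p ∣ Nat.card H := hcop.dvd_of_dvd_mul_right h1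
  obtain ⟨K, hK⟩ := Sylow.exists_subgroup_card_pow_prime p h2
  have hcard : Nat.card (K.map H.subtype) = p ^ (Nat.card G).factorization p := by
    rw [Subgroup.card_map_of_injective H.subtype_injective, hK]
  exact ⟨Sylow.ofCard _ hcard, Subgroup.map_subtype_le K⟩

/-- `g` normalizes the Sylow subgroup `x • P` iff it lies in the conjugate of `N(P)`. -/
lemma mem_normalizer_smul_sylow_iff {G : Type*} [Group G] {p : ℕ}
    (P : Sylow p G) (x g : G) :
    g ∈ Subgroup.normalizer (((x • P : Sylow p G) : Subgroup G) : Set G) ↔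
      x⁻¹ * g * x ∈ Subgroup.normalizer ((P : Subgroup G) : Set G) := by
  have h1 : g ∈ Subgroup.normalizer (((x • P : Sylow p G) : Subgroup G) : Set G) ↔
      g • (x • P) = x • P := Sylow.smul_eq_iff_mem_normalizer.symm
  have h2 : x⁻¹ * g * x ∈ Subgroup.normalizer ((P : Subgroup G) : Set G) ↔
      (x⁻¹ * g * x) • P = P := Sylow.smul_eq_iff_mem_normalizer.symm
  rw [h1, h2]
  constructor
  · intro h
    calc (x⁻¹ * g * x) • P = x⁻¹ • (g • (x • P)) := by simp [mul_smul]
      _ = P := by rw [h]; simp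
  · intro h
    calc g • (x • P) = x • ((x⁻¹ * g * x) • P) := by simp [mul_smul]
      _ = x • P := by rw [h]

end Cfsg.Agent.Helper20

namespace Cfsg.Agent.Helper20

/-- If `H` contains a Sylow `p`-subgroup of `G` and `v ∈ H` is a `p`-element, then some Sylow
`p`-subgroup of `G` contained in `H` contains `v`. -/
lemma exists_sylow_le_and_mem {G : Type*} [Group G] [Finite G] {p : ℕ} [Fact p.Prime]
    (H : Subgroup G) (Q : Sylow p G) (hQ : (Q : Subgroup G) ≤ H) (v : G) (hvH : v ∈ H)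
    (a : ℕ) (hv : orderOf v = p ^ a) :
    ∃ Q' : Sylow p G, (Q' : Subgroup G) ≤ H ∧ v ∈ (Q' : Subgroup G) := by
  have hp : p.Prime := Fact.out
  have hpg : IsPGroup p (Subgroup.zpowers (⟨v, hvH⟩ : H)) := by
    rw [IsPGroup.iff_card, Nat.card_zpowers]
    refine ⟨a, ?_⟩
    rw [← hv, ← Subgroup.orderOf_coe]
  obtain ⟨R, hR⟩ := hpg.exists_le_sylow
  have hfac : (Nat.card H).factorization p = (Nat.card G).factorization p := by
    apply le_antisymm
    · exact (Nat.factorization_le_iff_dvd Nat.card_pos.ne' Nat.card_pos.ne').2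
        (Subgroup.card_subgroup_dvd_card H) p
    · rw [← hp.pow_dvd_iff_le_factorization Nat.card_pos.ne', ← Sylow.card_eq_multiplicity Q]
      exact Subgroup.card_dvd_of_le hQ
  have hcard : Nat.card ((R : Subgroup H).map H.subtype) = p ^ (Nat.card G).factorization p := by
    rw [Subgroup.card_map_of_injective H.subtype_injective, Sylow.card_eq_multiplicity R, hfac]
  refine ⟨Sylow.ofCard _ hcard, Subgroup.map_subtype_le _, ?_⟩
  refine ⟨⟨v, hvH⟩, hR (Subgroup.mem_zpowers _), rfl⟩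

/-- Split `g` as a product of a `p'`-power and a `p`-power of itself. -/
lemma exists_pow_decomp {G : Type*} [Group G] [Finite G] (p : ℕ) [Fact p.Prime] (g : G) :
    ∃ (a m : ℕ) (s t : ℤ), (orderOf (g ^ (p ^ a))).Coprime p ∧ orderOf (g ^ m) = p ^ a ∧
      g = (g ^ (p ^ a)) ^ s * (g ^ m) ^ t := by
  have hp : p.Prime := Fact.out
  obtain ⟨a, m, hm, hn⟩ := Nat.exists_eq_pow_mul_and_not_dvd (orderOf_pos g).ne' p hp.ne_one
  have hcop : Nat.Coprime (p ^ a) m := Nat.Coprime.pow_left _ ((Nat.Prime.coprime_iff_not_dvd hp).2 hm)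
  have hu : orderOf (g ^ (p ^ a)) = m := by
    rw [orderOf_pow_of_dvd (pow_ne_zero _ hp.ne_zero) ⟨m, hn⟩, hn, Nat.mul_div_cancel_left _ (pow_pos hp.pos a)]
  have hv : orderOf (g ^ m) = p ^ a := by
    have hm0 : m ≠ 0 := fun h => hm (h ▸ dvd_zero p)
    rw [orderOf_pow_of_dvd hm0 ⟨p ^ a, by rw [hn, mul_comm]⟩, hn, Nat.mul_div_cancel _ (Nat.pos_of_ne_zero hm0)]
  refine ⟨a, m, Nat.gcdA (p ^ a) m, Nat.gcdB (p ^ a) m, ?_, hv, ?_⟩
  · rw [hu]; exact ((Nat.Prime.coprime_iff_not_dvd hp).2 hm).symm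
  · have hb := Nat.gcd_eq_gcd_ab (p ^ a) m
    rw [hcop] at hb
    rw [← zpow_natCast, ← zpow_natCast, ← zpow_mul, ← zpow_mul, ← zpow_add, ← hb]
    simp

end Cfsg.Agent.Helper20
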