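import Mathlib

set_option autoImplicit false

namespace Cfsg.Agent.Helper20


lemma mul_pred_mod_div (p q : ℕ) (hp : 0 < p) (hq : 0 < q) :
    (p * q - 1) % p = p - 1 ∧ (p * q - 1) / p = q - 1 := by
  obtain ⟨q', rfl⟩ : ∃ q', q = q' + 1 := ⟨q - 1, by omega⟩
  have e : p * (q' + 1) - 1 = (p - 1) + p * q' := by
    have : p * (q' + 1) = p * q' + p := by ring
    rw [this]; omega
  rw [e]
  constructor
  · rw [Nat.add_mul_mod_self_left]
    exact Nat.mod_eq_of_lt (by omega)
  · rw [Nat.add_mul_div_left _ _ hp, Nat.div_eq_of_lt (by omega), zero_add]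
    omega

lemma choose_pred_modEq_one (p : ℕ) (hp : p.Prime) (β r : ℕ) (hr : 0 < r) :
    Nat.choose (p ^ β * r - 1) (p ^ β - 1) ≡ 1 [MOD p] := by
  haveI := Fact.mk hp
  induction β with
  | zero => simp [Nat.ModEq]
  | succ β ih =>
    have hpos : 0 < p := hp.pos
    have hq : 0 < p ^ β * r := Nat.mul_pos (pow_pos hpos β) hr
    have hq' : 0 < p ^ β := pow_pos hpos β
    have e1 : p ^ (β + 1) * r = p * (p ^ β * r) := by ring
    have e2 : p ^ (β + 1) = p * p ^ β := by ring
    obtain ⟨h1, h2⟩ := mul_pred_mod_div p (p ^ β * r) hpos hq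
    obtain ⟨h3, h4⟩ := mul_pred_mod_div p (p ^ β) hpos hq'
    have := Choose.choose_modEq_choose_mod_mul_choose_div_nat (p := p)
      (n := p ^ (β + 1) * r - 1) (k := p ^ (β + 1) - 1)
    rw [e1, e2, h1, h2, h3, h4, Nat.choose_self, one_mul] at this
    rw [e1, e2]
    exact this.trans ih

/-- `C(p^β r, p^β) = r * c` with `c ≡ 1 [MOD p]`. -/
lemma choose_prime_pow_mul (p : ℕ) (hp : p.Prime) (β r : ℕ) (hr : 0 < r) :
    ∃ c : ℕ, Nat.choose (p ^ β * r) (p ^ β) = r * c ∧ c ≡ 1 [MOD p] := by
  refine ⟨Nat.choose (p ^ β * r - 1) (p ^ β - 1), ?_, choose_pred_modEq_one p hp β r hr⟩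
  have hq' : 0 < p ^ β := pow_pos hp.pos β
  have hq : 0 < p ^ β * r := Nat.mul_pos hq' hr
  have h := Nat.add_one_mul_choose_eq (p ^ β * r - 1) (p ^ β - 1)
  rw [Nat.sub_add_cancel hq, Nat.sub_add_cancel hq'] at h
  have : p ^ β * (r * Nat.choose (p ^ β * r - 1) (p ^ β - 1)) =
      p ^ β * Nat.choose (p ^ β * r) (p ^ β) := by
    rw [← mul_assoc, h]; ring
  exact (Nat.eq_of_mul_eq_mul_left hq' this).symm


end Cfsg.Agent.Helper20

namespace Cfsg.Agent.Helper20


open scoped Pointwise

/-- If `d` divides the size of every orbit then `d` divides the size of the set acted on. -/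
lemma dvd_card_of_forall_dvd_orbit {α β : Type*} [Group α] [MulAction α β] [Finite α] [Finite β]
    (d : ℕ) (h : ∀ b : β, d ∣ Nat.card α / Nat.card (MulAction.stabilizer α b)) :
    d ∣ Nat.card β := by
  classical
  haveI := Fintype.ofFinite α
  haveI := Fintype.ofFinite β
  rw [Nat.card_eq_fintype_card, MulAction.card_eq_sum_card_group_div_card_stabilizer α β]
  apply Finset.dvd_sum
  intro ω _
  have := h ω.out
  rwa [Nat.card_eq_fintype_card, Nat.card_eq_fintype_card] at this

variable {G : Type*} [Group G] [DecidableEq G]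

/-- The stabilizer of a nonempty finite set under left multiplication has order dividing the size
of the set. -/
lemma card_stabilizer_dvd_card [Finite G] (M : Finset G) :
    Nat.card (MulAction.stabilizer G M) ∣ M.card := by
  classical
  let S := MulAction.stabilizer G M
  let X : SubMulAction S G :=
    { carrier := (M : Set G)
      smul_mem' := by
        intro s m hm
        have hs : (s : G) • M = M := s.2
        have : (s : G) • m ∈ (s : G) • M := Finset.smul_mem_smul_finset hm
        rw [hs] at this
        exact this }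
  have hfree : ∀ b : X, MulAction.stabilizer S b = ⊥ := by
    intro b
    rw [eq_bot_iff]
    intro s hs
    rw [MulAction.mem_stabilizer_iff] at hs
    have h1 : ((s • b : X) : G) = (b : G) := congrArg Subtype.val hs
    have h2 : (s : G) * (b : G) = (b : G) := h1
    rw [Subgroup.mem_bot]
    apply Subtype.ext
    simpa using h2
  have e := MulAction.selfEquivOrbitsQuotientProd hfree
  have hX : Nat.card X = M.card := by
    have : Nat.card X = Nat.card (M : Set G) := rfl
    rw [this, Nat.card_coe_set_eq, Set.ncard_coe_finset]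
  rw [← hX, Nat.card_congr e, Nat.card_prod]
  exact Dvd.intro_left _ rfl


end Cfsg.Agent.Helper20

namespace Cfsg.Agent.Helper20


open scoped Pointwise
open Classical

variable {G : Type*} [Group G]

lemma card_stabilizer_smul (g : G) (M : Finset G) :
    Nat.card (MulAction.stabilizer G (g • M)) = Nat.card (MulAction.stabilizer G M) := by
  rw [MulAction.stabilizer_smul_eq_stabilizer_map_conj]
  exact Subgroup.card_map_of_injective (MulAut.conj g).injective

/-- "Good" sets: those of size `k` whose stabilizer has order `k`. -/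
def IsGoodSet (k : ℕ) (M : Finset G) : Prop :=
  M.card = k ∧ Nat.card (MulAction.stabilizer G M) = k

lemma isGoodSet_smul (k : ℕ) (g : G) (M : Finset G) (h : IsGoodSet k M) : IsGoodSet k (g • M) :=
  ⟨by rw [Finset.card_smul_finset]; exact h.1, by rw [card_stabilizer_smul]; exact h.2⟩

/-- the finset of elements of a subgroup -/
noncomputable def subFin [Fintype G] (H : Subgroup G) : Finset G :=
  Finset.univ.filter (fun x => x ∈ H)

lemma mem_subFin [Fintype G] (H : Subgroup G) (x : G) : x ∈ subFin H ↔ x ∈ H := by
  simp [subFin]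

lemma card_subFin [Fintype G] (H : Subgroup G) : (subFin H).card = Nat.card H := by
  rw [subFin, Nat.card_eq_fintype_card, Fintype.card_subtype]

lemma subFin_injective [Fintype G] : Function.Injective (subFin (G := G)) := by
  intro H K h
  ext x
  rw [← mem_subFin, ← mem_subFin, h]

/-- a subgroup, as a finset, is its own stabilizer -/
lemma stabilizer_subFin [Fintype G] (H : Subgroup G) :
    MulAction.stabilizer G (subFin H) = H := by
  ext g
  rw [MulAction.mem_stabilizer_iff]
  constructor
  · intro h
    have h1 : g • (1 : G) ∈ g • subFin H :=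
      Finset.smul_mem_smul_finset ((mem_subFin H 1).2 H.one_mem)
    rw [h, mem_subFin] at h1
    simpa using h1
  · intro hg
    ext x
    rw [Finset.mem_smul_finset]
    constructor
    · rintro ⟨y, hy, rfl⟩
      rw [mem_subFin] at hy ⊢
      exact H.mul_mem hg hy
    · intro hx
      rw [mem_subFin] at hx
      refine ⟨g⁻¹ * x, ?_, by simp⟩
      rw [mem_subFin]
      exact H.mul_mem (H.inv_mem hg) hx

/-- a good set containing `1` is its own stabilizer -/
lemma good_one_mem_eq_stabilizer [Fintype G] (k : ℕ) (M : Finset G) (h : IsGoodSet k M)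
    (h1 : (1 : G) ∈ M) : M = subFin (MulAction.stabilizer G M) := by
  symm
  apply Finset.eq_of_subset_of_card_le
  · intro s hs
    rw [mem_subFin, MulAction.mem_stabilizer_iff] at hs
    have : s • (1 : G) ∈ s • M := Finset.smul_mem_smul_finset h1
    rw [hs] at this
    simpa using this
  · rw [h.1, card_subFin]
    exact h.2.symm.le


end Cfsg.Agent.Helper20
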