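import Mathlib
import Cfsg.Agent.Helper20.WielandtA

set_option autoImplicit false

namespace Cfsg.Agent.Helper20

open scoped Pointwise
open Classical

variable {G : Type*} [Group G] [Fintype G]

/-- the finset of good sets -/
noncomputable def goodSets (G : Type*) [Group G] [Fintype G] (k : ℕ) : Finset (Finset G) :=
  Finset.univ.filter (IsGoodSet k)

lemma mem_goodSets (k : ℕ) (M : Finset G) : M ∈ goodSets G k ↔ IsGoodSet k M := by
  simp [goodSets]

lemma card_goodSets_filter_mem (k : ℕ) (g : G) :
    ((goodSets G k).filter (fun M => g ∈ M)).card =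
      ((goodSets G k).filter (fun M => (1 : G) ∈ M)).card := by
  refine Finset.card_bij' (fun M _ => g⁻¹ • M) (fun M _ => g • M) ?_ ?_ ?_ ?_
  · intro M hM
    rw [Finset.mem_filter, mem_goodSets] at hM ⊢
    refine ⟨isGoodSet_smul k _ M hM.1, ?_⟩
    have : g⁻¹ • g ∈ g⁻¹ • M := Finset.smul_mem_smul_finset hM.2
    simpa using this
  · intro M hM
    rw [Finset.mem_filter, mem_goodSets] at hM ⊢
    refine ⟨isGoodSet_smul k _ M hM.1, ?_⟩
    have : g • (1 : G) ∈ g • M := Finset.smul_mem_smul_finset hM.2
    simpa using this
  · intro M _; simp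
  · intro M _; simp

lemma card_goodSets_filter_one (k : ℕ) :
    ((goodSets G k).filter (fun M => (1 : G) ∈ M)).card =
      Nat.card {H : Subgroup G // Nat.card H = k} := by
  haveI : Fintype {H : Subgroup G // Nat.card H = k} := Fintype.ofFinite _
  rw [Nat.card_eq_fintype_card, ← Finset.card_univ]
  have himg : (goodSets G k).filter (fun M => (1 : G) ∈ M) =
      (Finset.univ : Finset {H : Subgroup G // Nat.card H = k}).image (fun H => subFin H.1) := by
    ext M
    rw [Finset.mem_filter, mem_goodSets, Finset.mem_image]
    constructor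
    · rintro ⟨hg, h1⟩
      refine ⟨⟨MulAction.stabilizer G M, hg.2⟩, Finset.mem_univ _, ?_⟩
      exact (good_one_mem_eq_stabilizer k M hg h1).symm
    · rintro ⟨H, _, rfl⟩
      refine ⟨⟨?_, ?_⟩, ?_⟩
      · rw [card_subFin]; exact H.2
      · rw [stabilizer_subFin]; exact H.2
      · rw [mem_subFin]; exact H.1.one_mem
  rw [himg, Finset.card_image_of_injective]
  intro H K h
  exact Subtype.ext (subFin_injective h)

/-- `k * #good sets = |G| * #subgroups of order k` -/
lemma card_goodSets_mul (k : ℕ) :
    k * (goodSets G k).card =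
      Fintype.card G * Nat.card {H : Subgroup G // Nat.card H = k} := by
  have h1 : ∑ M ∈ goodSets G k, M.card = k * (goodSets G k).card := by
    rw [Finset.sum_const_nat (m := k), mul_comm]
    intro M hM
    exact ((mem_goodSets k M).1 hM).1
  have h2 : ∑ M ∈ goodSets G k, M.card =
      ∑ g : G, ((goodSets G k).filter (fun M => g ∈ M)).card := by
    have := Finset.sum_card_bipartiteAbove_eq_sum_card_bipartiteBelow
      (s := goodSets G k) (t := (Finset.univ : Finset G)) (fun (M : Finset G) (g : G) => g ∈ M)
    simp only [Finset.bipartiteAbove, Finset.bipartiteBelow] at this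
    rw [← this]
    apply Finset.sum_congr rfl
    intro M _
    congr 1
    ext x; simp
  rw [← h1, h2]
  rw [Finset.sum_congr rfl (fun g _ => card_goodSets_filter_mem k g)]
  rw [Finset.sum_const, Finset.card_univ, smul_eq_mul, card_goodSets_filter_one]

end Cfsg.Agent.Helper20
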