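import Mathlib
import Cfsg.Agent.Helper20.WielandtA
import Cfsg.Agent.Helper20.WielandtB

set_option autoImplicit false

namespace Cfsg.Agent.Helper20

open scoped Pointwise
open Classical

variable {G : Type*} [Group G] [Fintype G]

/-- the bad sets as a `SubMulAction` -/
def badSets (G : Type*) [Group G] [Fintype G] (k : ℕ) : SubMulAction G (Finset G) where
  carrier := {M | M.card = k ∧ Nat.card (MulAction.stabilizer G M) ≠ k}
  smul_mem' := by
    rintro g M ⟨h1, h2⟩
    exact ⟨by rw [Finset.card_smul_finset]; exact h1, by rw [card_stabilizer_smul]; exact h2⟩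

lemma dvd_card_badSets (p β r : ℕ) (hp : p.Prime) (hG : Fintype.card G = p ^ β * r) :
    p * r ∣ Nat.card (badSets G (p ^ β)) := by
  apply dvd_card_of_forall_dvd_orbit (α := G)
  intro b
  rw [SubMulAction.stabilizer_of_subMul]
  obtain ⟨h1, h2⟩ := b.2
  have hdvd : Nat.card (MulAction.stabilizer G (b : Finset G)) ∣ p ^ β := by
    have := card_stabilizer_dvd_card (b : Finset G)
    rwa [h1] at this
  obtain ⟨j, hj, hcard⟩ := (Nat.dvd_prime_pow hp).1 hdvd
  have hjlt : j < β := by
    rcases Nat.lt_or_ge j β with h | h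
    · exact h
    · exfalso
      apply h2
      rw [hcard, le_antisymm hj h]
  rw [hcard, Nat.card_eq_fintype_card, hG]
  obtain ⟨d, rfl⟩ : ∃ d, β = j + 1 + d := ⟨β - (j + 1), by omega⟩
  have : p ^ (j + 1 + d) * r = p ^ j * (p * r * p ^ d) := by ring
  rw [this, Nat.mul_div_cancel_left _ (pow_pos hp.pos j)]
  exact Dvd.intro _ rfl

lemma card_badSets_eq (k : ℕ) :
    Nat.card (badSets G k) =
      (Finset.univ.filter (fun M : Finset G => M.card = k ∧ ¬ IsGoodSet k M)).card := by
  rw [Nat.card_eq_fintype_card]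
  have : Fintype.card (badSets G k) =
      Fintype.card {M : Finset G // M.card = k ∧ Nat.card (MulAction.stabilizer G M) ≠ k} := by
    apply Fintype.card_congr
    exact Equiv.refl _
  rw [this, Fintype.card_subtype]
  congr 1
  apply Finset.filter_congr
  intro M _
  unfold IsGoodSet
  constructor
  · rintro ⟨h1, h2⟩
    exact ⟨h1, fun h => h2 h.2⟩
  · rintro ⟨h1, h2⟩
    exact ⟨h1, fun h => h2 ⟨h1, h⟩⟩

lemma card_choose_eq (k : ℕ) :
    Nat.choose (Fintype.card G) k = (goodSets G k).card + Nat.card (badSets G k) := by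
  rw [card_badSets_eq, ← Finset.card_univ (α := G), ← Finset.card_powersetCard]
  have h1 : Finset.powersetCard k (Finset.univ : Finset G) =
      Finset.univ.filter (fun M : Finset G => M.card = k) := by
    ext M; simp [Finset.mem_powersetCard]
  rw [h1, ← Finset.card_union_of_disjoint]
  · congr 1
    ext M
    simp only [Finset.mem_filter, Finset.mem_univ, true_and, Finset.mem_union, mem_goodSets]
    constructor
    · intro h
      by_cases hg : IsGoodSet k M
      · exact Or.inl hg
      · exact Or.inr ⟨h, hg⟩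
    · rintro (h | h)
      · exact h.1
      · exact h.1
  · rw [Finset.disjoint_left]
    intro M hM hM'
    rw [mem_goodSets] at hM
    simp only [Finset.mem_filter, Finset.mem_univ, true_and] at hM'
    exact hM'.2 hM

/-- Frobenius–Wielandt: the number of subgroups of order `p ^ β` is `≡ 1 [MOD p]`. -/
theorem card_subgroups_prime_pow_modEq_one {G : Type*} [Group G] [Finite G] (p β : ℕ)
    (hp : p.Prime) (hdiv : p ^ β ∣ Nat.card G) :
    Nat.card {H : Subgroup G // Nat.card H = p ^ β} ≡ 1 [MOD p] := by
  haveI := Fintype.ofFinite G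
  obtain ⟨r, hr⟩ := hdiv
  rw [Nat.card_eq_fintype_card] at hr
  have hr0 : 0 < r := by
    rcases Nat.eq_zero_or_pos r with rfl | h
    · rw [mul_zero] at hr
      exact absurd hr Fintype.card_pos.ne'
    · exact h
  have hk0 : 0 < p ^ β := pow_pos hp.pos β
  obtain ⟨c, hc, hc1⟩ := choose_prime_pow_mul p hp β r hr0
  obtain ⟨t, ht⟩ := dvd_card_badSets (G := G) p β r hp hr
  have hgood := card_goodSets_mul (G := G) (p ^ β)
  rw [hr] at hgood
  have hgood' : (goodSets G (p ^ β)).card = r * Nat.card {H : Subgroup G // Nat.card H = p ^ β} := by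
    have : p ^ β * (goodSets G (p ^ β)).card =
        p ^ β * (r * Nat.card {H : Subgroup G // Nat.card H = p ^ β}) := by
      rw [hgood]; ring
    exact Nat.eq_of_mul_eq_mul_left hk0 this
  have hch := card_choose_eq (G := G) (p ^ β)
  rw [hr, hc, hgood', ht] at hch
  have h2 : c = Nat.card {H : Subgroup G // Nat.card H = p ^ β} + p * t := by
    have : r * c = r * (Nat.card {H : Subgroup G // Nat.card H = p ^ β} + p * t) := by
      rw [hch]; ring
    exact Nat.eq_of_mul_eq_mul_left hr0 this
  rw [h2] at hc1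
  have h3 : Nat.card {H : Subgroup G // Nat.card H = p ^ β} + p * t ≡
      Nat.card {H : Subgroup G // Nat.card H = p ^ β} [MOD p] := by
    have : p * t ≡ 0 [MOD p] := (Nat.modEq_zero_iff_dvd).2 (Dvd.intro _ rfl)
    simpa using Nat.ModEq.add_left (Nat.card {H : Subgroup G // Nat.card H = p ^ β}) this
  exact h3.symm.trans hc1

end Cfsg.Agent.Helper20
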