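import Mathlib
import Cfsg.Agent.Helper1.PGroup
import Cfsg.Agent.Helper20.WielandtC

set_option autoImplicit false

/-!
# Index-`p` subgroups of finite `p`-groups (helper20)

Basic facts, and the count of index-`p` subgroups containing a given proper subgroup (`≡ 1 mod p`).
Also the enumeration principle modulo `p`.
-/

namespace Cfsg.Agent.Helper20

open Subgroup

variable {P : Type*} [Group P] [Finite P] {p : ℕ} [hp : Fact p.Prime]

theorem exists_index_p_ge (hP : IsPGroup p P) {K : Subgroup P} (hK : K ≠ ⊤) :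
    ∃ M : Subgroup P, K ≤ M ∧ M.index = p := by
  obtain h | ⟨M, hM, hKM⟩ := eq_top_or_exists_le_coatom K
  · exact absurd h hK
  · exact ⟨M, hKM, Cfsg.Agent.Helper1.IsPGroup.coatom_index hP hM⟩

theorem isCoatom_of_index_p {M : Subgroup P} (hM : M.index = p) : IsCoatom M := by
  refine ⟨?_, ?_⟩
  · intro h
    rw [h, index_top] at hM
    exact hp.out.one_lt.ne hM
  · intro L hML
    have h1 : L.index ∣ M.index := index_dvd_of_le hML.le
    rw [hM] at h1
    rcases (Nat.dvd_prime hp.out).mp h1 with h | h
    · exact index_eq_one.mp h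
    · exfalso
      have : M.relIndex L = 1 := by
        have h2 := relIndex_mul_index hML.le
        rw [h, hM] at h2
        have hp0 : 0 < p := hp.out.pos
        exact Nat.eq_of_mul_eq_mul_right hp0 (by rw [h2, one_mul])
      rw [relIndex_eq_one] at this
      exact absurd this (not_le_of_gt hML)

theorem normal_of_index_p (hP : IsPGroup p P) {M : Subgroup P} (hM : M.index = p) : M.Normal :=
  Cfsg.Agent.Helper1.IsPGroup.coatom_normal hP (isCoatom_of_index_p hM)

theorem pow_mem_of_index_p (hP : IsPGroup p P) {M : Subgroup P} (hM : M.index = p) (x : P) :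
    x ^ p ∈ M :=
  Cfsg.Agent.Helper1.IsPGroup.pow_mem_coatom hP (isCoatom_of_index_p hM) x

/-- a `p`-group with exactly one subgroup of index `p` is cyclic. -/
theorem isCyclic_of_unique_index_p (hP : IsPGroup p P) (M : Subgroup P) (hM : M.index = p)
    (huniq : ∀ L : Subgroup P, L.index = p → L = M) : IsCyclic P := by
  have hne : M ≠ ⊤ := (isCoatom_of_index_p hM).1
  obtain ⟨x, -, hx⟩ := SetLike.exists_of_lt (lt_top_iff_ne_top.mpr hne)
  have : zpowers x = ⊤ := by
    by_contra h
    obtain ⟨L, hL, hLi⟩ := exists_index_p_ge hP h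
    rw [huniq L hLi] at hL
    exact hx (hL (mem_zpowers x))
  exact ⟨⟨x, fun y => by
    have : y ∈ zpowers x := by rw [this]; exact mem_top y
    exact this⟩⟩

/-- the number of index-`p` subgroups containing a proper subgroup `K` is `≡ 1 mod p`. -/
theorem card_index_p_ge_modEq_one (hP : IsPGroup p P) (K : Subgroup P) (hK : K ≠ ⊤) :
    Nat.card {M : Subgroup P // M.index = p ∧ K ≤ M} ≡ 1 [MOD p] := by
  set N := normalClosure (K : Set P) with hN
  obtain ⟨M₀, hKM₀, hM₀⟩ := exists_index_p_ge hP hK
  haveI := normal_of_index_p hP hM₀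
  have hNM₀ : N ≤ M₀ := normalClosure_le_normal hKM₀
  have hcond : ∀ M : Subgroup P, M.index = p → (K ≤ M ↔ N ≤ M) := by
    intro M hM
    haveI := normal_of_index_p hP hM
    exact ⟨fun h => normalClosure_le_normal h, fun h => le_normalClosure.trans h⟩
  -- pass to the quotient
  obtain ⟨j, hj⟩ := IsPGroup.iff_card.mp (hP.to_quotient N)
  have hj0 : j ≠ 0 := by
    intro h
    rw [h, pow_zero] at hj
    have h1 : N.index = 1 := by rw [index_eq_card]; exact hj
    have h2 : M₀.index ∣ N.index := index_dvd_of_le hNM₀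
    rw [h1, hM₀] at h2
    exact hp.out.one_lt.ne' (Nat.dvd_one.mp h2)
  have hW := card_subgroups_prime_pow_modEq_one (G := P ⧸ N) p (j - 1) hp.out
    (by rw [hj]; exact pow_dvd_pow p (Nat.sub_le j 1))
  suffices hcard : Nat.card {M : Subgroup P // M.index = p ∧ K ≤ M} =
      Nat.card {H : Subgroup (P ⧸ N) // Nat.card H = p ^ (j - 1)} by
    rw [hcard]; exact hW
  apply Nat.card_congr
  refine
    { toFun := fun M => ⟨M.1.map (QuotientGroup.mk' N), ?_⟩
      invFun := fun Mb => ⟨Mb.1.comap (QuotientGroup.mk' N), ?_, ?_⟩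
      left_inv := ?_
      right_inv := ?_ }
  · -- card of image
    have hNM : N ≤ M.1 := (hcond M.1 M.2.1).mp M.2.2
    have h1 : (M.1.map (QuotientGroup.mk' N)).index = p := by
      rw [← index_comap_of_surjective _ (QuotientGroup.mk'_surjective N),
        comap_map_eq_self (by rw [QuotientGroup.ker_mk']; exact hNM)]
      exact M.2.1
    have h2 := (M.1.map (QuotientGroup.mk' N)).card_mul_index
    rw [h1, hj] at h2
    have hp0 : 0 < p := hp.out.pos
    apply Nat.eq_of_mul_eq_mul_right hp0
    rw [h2, ← pow_succ, Nat.sub_add_cancel (Nat.pos_of_ne_zero hj0)]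
  · have h2 := Mb.1.card_mul_index
    rw [Mb.2, hj] at h2
    rw [index_comap_of_surjective _ (QuotientGroup.mk'_surjective N)]
    have hpos : 0 < p ^ (j - 1) := pow_pos hp.out.pos _
    apply Nat.eq_of_mul_eq_mul_left hpos
    rw [h2, ← pow_succ, Nat.sub_add_cancel (Nat.pos_of_ne_zero hj0)]
  · have hNle : N ≤ Mb.1.comap (QuotientGroup.mk' N) := by
      conv_lhs => rw [← QuotientGroup.ker_mk' N]
      exact ker_le_comap _ _
    exact le_normalClosure.trans hNle
  · intro M
    apply Subtype.ext
    have hNM : N ≤ M.1 := (hcond M.1 M.2.1).mp M.2.2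
    exact comap_map_eq_self (by rw [QuotientGroup.ker_mk']; exact hNM)
  · intro Mb
    apply Subtype.ext
    exact map_comap_eq_self_of_surjective (QuotientGroup.mk'_surjective N) _

end Cfsg.Agent.Helper20
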