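import Mathlib

set_option autoImplicit false

namespace Cfsg.Agent.Helper20

/-- Uniqueness of a decomposition into commuting factors of coprime orders. -/
theorem coprime_decomp_unique {G : Type*} [Group G] [Finite G] {y z y' z' : G}
    (hyz : Commute y z) (hyz' : Commute y' z') (h : y * z = y' * z')
    (c1 : (orderOf y).Coprime (orderOf z)) (c2 : (orderOf y).Coprime (orderOf z'))
    (c3 : (orderOf y').Coprime (orderOf z)) (c4 : (orderOf y').Coprime (orderOf z')) :
    y = y' ∧ z = z' := by
  set A := orderOf y * orderOf y' with hA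
  set B := orderOf z * orderOf z' with hB
  have hcop : Nat.Coprime A B :=
    Nat.Coprime.mul_left (Nat.Coprime.mul_right c1 c2) (Nat.Coprime.mul_right c3 c4)
  have hb := Nat.gcd_eq_gcd_ab A B
  rw [hcop] at hb
  set u := Nat.gcdA A B
  set v := Nat.gcdB A B
  have key : ∀ (s t : G), Commute s t → orderOf s ∣ A → orderOf t ∣ B →
      (s * t) ^ ((B : ℤ) * v) = s := by
    intro s t hst hs ht
    rw [hst.mul_zpow]
    have h1 : t ^ ((B : ℤ) * v) = 1 := by
      rw [zpow_mul, zpow_natCast, orderOf_dvd_iff_pow_eq_one.1 ht, one_zpow]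
    have h2 : s ^ ((B : ℤ) * v) = s := by
      have e : (B : ℤ) * v = 1 - (A : ℤ) * u := by
        have : ((1 : ℕ) : ℤ) = (A : ℤ) * u + (B : ℤ) * v := hb
        push_cast at this
        linarith
      rw [e, zpow_sub, zpow_one, zpow_mul, zpow_natCast, orderOf_dvd_iff_pow_eq_one.1 hs,
        one_zpow, inv_one, mul_one]
    rw [h1, h2, mul_one]
  have hy : y = y' := by
    have h1 := key y z hyz (Dvd.intro _ rfl) (Dvd.intro _ rfl)
    have h2 := key y' z' hyz' (Dvd.intro_left _ rfl) (Dvd.intro_left _ rfl)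
    rw [← h1, ← h2, h]
  refine ⟨hy, ?_⟩
  rw [hy] at h
  exact mul_left_cancel h

/-- Splitting an element along a coprime factorization of its order. -/
theorem exists_coprime_split {G : Type*} [Group G] [Finite G] (x : G) (a b : ℕ)
    (hab : orderOf x = a * b) (hcop : a.Coprime b) :
    ∃ y z : G, Commute y z ∧ y * z = x ∧ orderOf y = a ∧ orderOf z = b := by
  have hpos : 0 < a * b := hab ▸ orderOf_pos x
  have ha : 0 < a := Nat.pos_of_mul_pos_right hpos
  have hb' : 0 < b := Nat.pos_of_mul_pos_left hpos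
  have hb := Nat.gcd_eq_gcd_ab a b
  rw [hcop] at hb
  set u := Nat.gcdA a b
  set v := Nat.gcdB a b
  refine ⟨x ^ ((b : ℤ) * v), x ^ ((a : ℤ) * u), Commute.zpow_zpow_self x _ _, ?_, ?_⟩
  · rw [← zpow_add]
    have : (b : ℤ) * v + (a : ℤ) * u = 1 := by
      have : ((1 : ℕ) : ℤ) = (a : ℤ) * u + (b : ℤ) * v := hb
      push_cast at this
      linarith
    rw [this, zpow_one]
  · have hy : orderOf (x ^ ((b : ℤ) * v)) ∣ a := by
      apply orderOf_dvd_of_pow_eq_one
      rw [← zpow_natCast, ← zpow_mul]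
      have : (b : ℤ) * v * (a : ℤ) = ((a * b : ℕ) : ℤ) * v := by push_cast; ring
      rw [this, zpow_mul, zpow_natCast, ← hab, pow_orderOf_eq_one, one_zpow]
    have hz : orderOf (x ^ ((a : ℤ) * u)) ∣ b := by
      apply orderOf_dvd_of_pow_eq_one
      rw [← zpow_natCast, ← zpow_mul]
      have : (a : ℤ) * u * (b : ℤ) = ((a * b : ℕ) : ℤ) * u := by push_cast; ring
      rw [this, zpow_mul, zpow_natCast, ← hab, pow_orderOf_eq_one, one_zpow]
    have hprod : x ^ ((b : ℤ) * v) * x ^ ((a : ℤ) * u) = x := by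
      rw [← zpow_add]
      have : (b : ℤ) * v + (a : ℤ) * u = 1 := by
        have : ((1 : ℕ) : ℤ) = (a : ℤ) * u + (b : ℤ) * v := hb
        push_cast at this
        linarith
      rw [this, zpow_one]
    have hcomm : Commute (x ^ ((b : ℤ) * v)) (x ^ ((a : ℤ) * u)) := Commute.zpow_zpow_self x _ _
    have hdvd : a * b ∣ orderOf (x ^ ((b : ℤ) * v)) * orderOf (x ^ ((a : ℤ) * u)) := by
      have h1 := hcomm.orderOf_mul_dvd_lcm
      rw [hprod, hab] at h1
      exact h1.trans (Nat.lcm_dvd_mul _ _)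
    set oy := orderOf (x ^ ((b : ℤ) * v))
    set oz := orderOf (x ^ ((a : ℤ) * u))
    constructor
    · apply Nat.dvd_antisymm hy
      have h2 : a * b ∣ oy * b := hdvd.trans (Nat.mul_dvd_mul_left oy hz)
      exact Nat.dvd_of_mul_dvd_mul_right hb' h2
    · apply Nat.dvd_antisymm hz
      have h2 : a * b ∣ a * oz := hdvd.trans (Nat.mul_dvd_mul_right hy oz)
      exact Nat.dvd_of_mul_dvd_mul_left ha h2

/-- The number of generators of the cyclic group `⟨g⟩`. -/
theorem card_zpowers_eq_totient {G : Type*} [Group G] [Fintype G] [DecidableEq G]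
    [DecidableEq (Subgroup G)] (g : G) :
    (Finset.univ.filter (fun a : G => Subgroup.zpowers a = Subgroup.zpowers g)).card =
      Nat.totient (orderOf g) := by
  classical
  haveI : IsCyclic (Subgroup.zpowers g) := inferInstance
  have h1 := IsCyclic.card_orderOf_eq_totient (α := Subgroup.zpowers g) (d := orderOf g)
    (by rw [← Nat.card_eq_fintype_card, Nat.card_zpowers])
  rw [← h1]
  symm
  apply Finset.card_bij (fun (a : Subgroup.zpowers g) _ => (a : G))
  · intro a ha
    rw [Finset.mem_filter] at ha ⊢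
    refine ⟨Finset.mem_univ _, ?_⟩
    have hle : Subgroup.zpowers (a : G) ≤ Subgroup.zpowers g := by
      rw [Subgroup.zpowers_le]; exact a.2
    apply Subgroup.eq_of_le_of_card_ge hle
    rw [Nat.card_zpowers, Nat.card_zpowers, ← ha.2, Subgroup.orderOf_coe]
  · intro a _ b _ hab
    exact Subtype.ext hab
  · intro b hb
    rw [Finset.mem_filter] at hb
    have hbg : b ∈ Subgroup.zpowers g := by
      rw [← hb.2]; exact Subgroup.mem_zpowers b
    refine ⟨⟨b, hbg⟩, ?_, rfl⟩
    rw [Finset.mem_filter]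
    refine ⟨Finset.mem_univ _, ?_⟩
    rw [← Subgroup.orderOf_coe, ← Nat.card_zpowers, ← Nat.card_zpowers g]
    show Nat.card (Subgroup.zpowers b) = _
    rw [hb.2]

end Cfsg.Agent.Helper20
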