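import Mathlib

set_option autoImplicit false

namespace Cfsg.Agent.Helper20

/-- Modulo a central cyclic `p`-subgroup, the solutions of `z ^ m = 1` (`m` prime to `p`)
correspond bijectively. -/
theorem card_torsion_quotient_central {C : Type*} [Group C] {p : ℕ} [Fact p.Prime]
    (y : C) (hy : y ∈ Subgroup.center C) (k : ℕ) (hyk : orderOf y = p ^ k) (m : ℕ)
    (hm : m.Coprime p) [hn : (Subgroup.zpowers y).Normal] :
    Nat.card {z : C // z ^ m = 1} = Nat.card {w : C ⧸ Subgroup.zpowers y // w ^ m = 1} := by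
  have hcen : ∀ u ∈ Subgroup.zpowers y, u ∈ Subgroup.center C := fun u hu =>
    (Subgroup.zpowers_le.2 hy) hu
  have hpk : ∀ u ∈ Subgroup.zpowers y, u ^ (p ^ k) = 1 := by
    intro u hu
    obtain ⟨j, rfl⟩ := Subgroup.mem_zpowers_iff.1 hu
    rw [← zpow_natCast, ← zpow_mul, mul_comm, zpow_mul, zpow_natCast, ← hyk, pow_orderOf_eq_one,
      one_zpow]
  have hcop : Nat.Coprime m (p ^ k) := Nat.Coprime.pow_right k hm
  let φ : {z : C // z ^ m = 1} → {w : C ⧸ Subgroup.zpowers y // w ^ m = 1} :=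
    fun z => ⟨QuotientGroup.mk z.1, by rw [← QuotientGroup.mk_pow, z.2, QuotientGroup.mk_one]⟩
  have hinj : Function.Injective φ := by
    rintro ⟨z, hz⟩ ⟨z', hz'⟩ h
    have h1 : (QuotientGroup.mk z : C ⧸ Subgroup.zpowers y) = QuotientGroup.mk z' :=
      congrArg Subtype.val h
    rw [QuotientGroup.eq] at h1
    set u := z⁻¹ * z' with hu
    have hz'u : z' = z * u := by rw [hu]; group
    have hcomm : Commute z u := by
      have := Subgroup.mem_center_iff.1 (hcen u h1) z
      exact this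
    have hum : u ^ m = 1 := by
      have := hz'
      rw [hz'u, hcomm.mul_pow, hz, one_mul] at this
      exact this
    have h2 : u ^ Nat.gcd m (p ^ k) = 1 := pow_gcd_eq_one.2 ⟨hum, hpk u h1⟩
    rw [hcop, pow_one] at h2
    apply Subtype.ext
    show z = z'
    rw [hz'u, h2, mul_one]
  have hsurj : Function.Surjective φ := by
    rintro ⟨w, hw⟩
    obtain ⟨c, rfl⟩ := QuotientGroup.mk_surjective w
    rw [← QuotientGroup.mk_pow, QuotientGroup.eq_one_iff] at hw
    set t := c ^ m with ht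
    have hb := Nat.gcd_eq_gcd_ab m (p ^ k)
    rw [hcop] at hb
    set a := Nat.gcdA m (p ^ k)
    set b := Nat.gcdB m (p ^ k)
    have hta : t ^ (-a) ∈ Subgroup.zpowers y := Subgroup.zpow_mem _ hw _
    have hcomm : Commute c (t ^ (-a)) := by
      have := Subgroup.mem_center_iff.1 (hcen _ hta) c
      exact this
    have hzm : (c * t ^ (-a)) ^ m = 1 := by
      rw [hcomm.mul_pow, ← ht, ← zpow_natCast (t ^ (-a)), ← zpow_mul]
      have e1 : t * t ^ (-a * (m : ℤ)) = t ^ (1 + (-a * (m : ℤ))) := by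
        rw [zpow_add, zpow_one]
      rw [e1]
      have e2 : (1 : ℤ) + (-a * (m : ℤ)) = ((p ^ k : ℕ) : ℤ) * b := by
        have : ((1 : ℕ) : ℤ) = (m : ℤ) * a + ((p ^ k : ℕ) : ℤ) * b := hb
        push_cast at this ⊢
        linarith
      rw [e2, zpow_mul, zpow_natCast, hpk t hw, one_zpow]
    refine ⟨⟨c * t ^ (-a), hzm⟩, ?_⟩
    apply Subtype.ext
    show (QuotientGroup.mk (c * t ^ (-a)) : C ⧸ Subgroup.zpowers y) = QuotientGroup.mk c
    rw [QuotientGroup.mk_mul, (QuotientGroup.eq_one_iff _).2 hta, mul_one]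
  exact Nat.card_congr (Equiv.ofBijective φ ⟨hinj, hsurj⟩)

end Cfsg.Agent.Helper20
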