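import Mathlib

set_option autoImplicit false

namespace Cfsg.Agent.Helper20

/-- Weighted class equation: if `f` is constant on orbits and `d` divides
`|orbit x| * f x` for every `x`, then `d` divides `∑ x, f x`. -/
theorem dvd_sum_of_forall_dvd_orbit {G X : Type*} [Group G] [MulAction G X] [Fintype X]
    (f : X → ℕ) (hf : ∀ (g : G) (x : X), f (g • x) = f x) (d : ℕ)
    (h : ∀ x, d ∣ Nat.card (MulAction.orbit G x) * f x) : d ∣ ∑ x, f x := by
  classical
  let e := MulAction.selfEquivSigmaOrbits G X
  have h1 : ∑ x, f x = ∑ p : (Σ ω : MulAction.orbitRel.Quotient G X, MulAction.orbit G ω.out),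
      f (p.2 : X) := by
    apply Fintype.sum_equiv e
    intro x
    have : ((e x).2 : X) = x := by
      have := e.symm_apply_apply x
      conv_rhs => rw [← this]
      rfl
    rw [this]
  rw [h1, Fintype.sum_sigma]
  apply Finset.dvd_sum
  intro ω _
  have h2 : ∀ x : MulAction.orbit G ω.out, f (x : X) = f ω.out := by
    rintro ⟨x, g, rfl⟩
    exact hf g _
  rw [Finset.sum_congr rfl (fun x _ => h2 x), Finset.sum_const, smul_eq_mul, Finset.card_univ,
    ← Nat.card_eq_fintype_card]
  exact h ω.out

end Cfsg.Agent.Helper20
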