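import Mathlib
import Cfsg.Agent.Helper20.FrobA

set_option autoImplicit false

namespace Cfsg.Agent.Helper20

/-- Class-sum divisibility for conjugation-invariant weights. -/
theorem dvd_sum_conj {G : Type*} [Group G] [Fintype G] [DecidableEq G] (Y : Finset G)
    (hY : ∀ y ∈ Y, ∀ g : G, g * y * g⁻¹ ∈ Y) (f : G → ℕ)
    (hf : ∀ g y : G, f (g * y * g⁻¹) = f y) (d : ℕ)
    (h : ∀ y ∈ Y, d ∣ (Nat.card G / Nat.card (Subgroup.centralizer ({y} : Set G))) * f y) :
    d ∣ ∑ y ∈ Y, f y := by
  classical
  let S : SubMulAction (ConjAct G) G :=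
    { carrier := {y | y ∈ Y}
      smul_mem' := by
        intro c y hy
        rw [ConjAct.smul_def]
        exact hY y hy _ }
  have hS : ∀ s : S, (s : G) ∈ Y := fun s => s.2
  have h1 : ∑ y ∈ Y, f y = ∑ s : S, f (s : G) := by
    symm
    apply Finset.sum_bij (fun (s : S) _ => (s : G))
    · intro s _; exact hS s
    · intro a _ b _ hab; exact Subtype.ext hab
    · intro y hy; exact ⟨⟨y, hy⟩, Finset.mem_univ _, rfl⟩
    · intro s _; rfl
  rw [h1]
  apply dvd_sum_of_forall_dvd_orbit (G := ConjAct G) (fun s : S => f (s : G))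
  · intro c s
    show f ((c • s : S) : G) = f (s : G)
    rw [SubMulAction.val_smul, ConjAct.smul_def]
    exact hf _ _
  · intro s
    have h2 := h (s : G) (hS s)
    have h3 : Nat.card (MulAction.orbit (ConjAct G) s) * Nat.card (MulAction.stabilizer (ConjAct G) s)
        = Nat.card (ConjAct G) := by
      rw [← Nat.card_prod, Nat.card_congr (MulAction.orbitProdStabilizerEquivGroup (ConjAct G) s)]
    have h4 : Nat.card (MulAction.stabilizer (ConjAct G) s) =
        Nat.card (Subgroup.centralizer ({(s : G)} : Set G)) := by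
      rw [SubMulAction.stabilizer_of_subMul]
      apply Nat.card_congr
      refine Equiv.subtypeEquiv ConjAct.ofConjAct.toEquiv ?_
      intro c
      rw [MulAction.mem_stabilizer_iff, ConjAct.smul_def, Subgroup.mem_centralizer_iff]
      simp only [MulEquiv.toEquiv_eq_coe, MulEquiv.coe_toEquiv, Set.mem_singleton_iff, forall_eq]
      constructor
      · intro h5
        have := congrArg (· * ConjAct.ofConjAct c) h5
        simpa using this.symm
      · intro h5
        rw [← h5]; group
    have h5 : Nat.card (ConjAct G) = Nat.card G := rfl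
    rw [h4, h5] at h3
    have h6 : Nat.card G / Nat.card (Subgroup.centralizer ({(s : G)} : Set G)) =
        Nat.card (MulAction.orbit (ConjAct G) s) := by
      rw [← h3, Nat.mul_div_cancel _ Nat.card_pos]
    rw [← h6]
    exact h2

end Cfsg.Agent.Helper20
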