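import Mathlib
import Cfsg.Agent.Helper20.FrobB
import Cfsg.Agent.Helper20.FrobC
import Cfsg.Agent.Helper20.FrobD

set_option autoImplicit false

namespace Cfsg.Agent.Helper20

universe u

theorem card_pow_eq_one_gcd {H : Type*} [Group H] [Finite H] (k : ℕ) :
    Nat.card {w : H // w ^ k = 1} = Nat.card {w : H // w ^ (Nat.gcd k (Nat.card H)) = 1} := by
  apply Nat.card_congr
  apply Equiv.subtypeEquivRight
  intro w
  rw [pow_gcd_eq_one]
  constructor
  · intro h; exact ⟨h, pow_card_eq_one'⟩
  · intro h; exact h.1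

theorem order_analysis (p e m' o : ℕ) (hp : p.Prime) (h1 : o ∣ p ^ (e + 1) * m')
    (h2 : ¬ o ∣ p ^ e * m') : ∃ b, o = p ^ (e + 1) * b ∧ b ∣ m' := by
  obtain ⟨o₁, o₂, ho₁, ho₂, rfl⟩ := Nat.dvd_mul.1 h1
  obtain ⟨j, hj, rfl⟩ := (Nat.dvd_prime_pow hp).1 ho₁
  by_cases hje : j ≤ e
  · exfalso
    apply h2
    exact Nat.mul_dvd_mul (pow_dvd_pow p hje) ho₂
  · have : j = e + 1 := by omega
    subst this
    exact ⟨o₂, rfl, ho₂⟩

section
variable {G : Type u} [Group G] [Fintype G] [DecidableEq G]

/-- The set `B` of the Isaacs–Robinson argument. -/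
def frobB (p e m' : ℕ) : Finset G :=
  Finset.univ.filter (fun g : G => g ^ (p ^ (e + 1) * m') = 1 ∧ g ^ (p ^ e * m') ≠ 1)

theorem mem_frobB_iff (p e m' : ℕ) (g : G) :
    g ∈ frobB p e m' ↔ orderOf g ∣ p ^ (e + 1) * m' ∧ ¬ orderOf g ∣ p ^ e * m' := by
  unfold frobB
  rw [Finset.mem_filter, orderOf_dvd_iff_pow_eq_one, orderOf_dvd_iff_pow_eq_one]
  simp

theorem frob_part_i (p e m' : ℕ) (hp : p.Prime) :
    p ^ e ∣ (frobB (G := G) p e m').card := by
  classical
  rw [Finset.card_eq_sum_card_fiberwise (f := fun g : G => Subgroup.zpowers g)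
    (t := (frobB (G := G) p e m').image (fun g : G => Subgroup.zpowers g))
    (fun g hg => Finset.mem_image_of_mem _ hg)]
  apply Finset.dvd_sum
  intro K hK
  obtain ⟨g₀, hg₀, rfl⟩ := Finset.mem_image.1 hK
  have heq : (frobB (G := G) p e m').filter (fun a => Subgroup.zpowers a = Subgroup.zpowers g₀) =
      Finset.univ.filter (fun a : G => Subgroup.zpowers a = Subgroup.zpowers g₀) := by
    ext a
    simp only [Finset.mem_filter, Finset.mem_univ, true_and, and_iff_right_iff_imp]
    intro ha
    have ho : orderOf a = orderOf g₀ := by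
      rw [← Nat.card_zpowers, ← Nat.card_zpowers g₀, ha]
    rw [mem_frobB_iff, ho, ← mem_frobB_iff]
    exact hg₀
  have hc : (Finset.univ.filter (fun a : G => Subgroup.zpowers a = Subgroup.zpowers g₀)).card =
      Nat.totient (orderOf g₀) := by
    convert card_zpowers_eq_totient g₀
  rw [heq, hc]
  rw [mem_frobB_iff] at hg₀
  obtain ⟨b, hb, _⟩ := order_analysis p e m' _ hp hg₀.1 hg₀.2
  have h1 : Nat.totient (p ^ (e + 1)) ∣ Nat.totient (orderOf g₀) :=
    Nat.totient_dvd_of_dvd ⟨b, hb⟩
  rw [Nat.totient_prime_pow_succ hp] at h1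
  exact (Dvd.intro _ rfl).trans h1


theorem frob_part_ii (p e m' : ℕ) [Fact p.Prime] (hm' : ¬ p ∣ m') (hm'n : m' ∣ Nat.card G)
    (IH : ∀ (H : Type u) [Group H] [Finite H], Nat.card H < Nat.card G → ∀ k, k ∣ Nat.card H →
      k ∣ Nat.card {w : H // w ^ k = 1}) :
    m' ∣ (frobB (G := G) p e m').card := by
  classical
  have hp : p.Prime := Fact.out
  have hm'0 : m' ≠ 0 := fun h => hm' (h ▸ dvd_zero p)
  have hcopm : Nat.Coprime (p ^ (e + 1)) m' :=
    Nat.Coprime.pow_left _ ((Nat.Prime.coprime_iff_not_dvd hp).2 hm')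
  let Y : Finset G := Finset.univ.filter (fun y : G => orderOf y = p ^ (e + 1))
  let Zy : G → Finset G := fun y => Finset.univ.filter (fun z : G => Commute y z ∧ z ^ m' = 1)
  have hcop : ∀ y ∈ Y, ∀ y' : G, ∀ z ∈ Zy y', (orderOf y).Coprime (orderOf z) := by
    intro y hy y' z hz
    rw [Finset.mem_filter] at hy hz
    rw [hy.2]
    exact Nat.Coprime.coprime_dvd_right (orderOf_dvd_of_pow_eq_one hz.2.2) hcopm
  -- the bijection
  have hcard : (frobB (G := G) p e m').card = (Y.sigma Zy).card := by
    symm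
    apply Finset.card_bij (fun (q : Σ _ : G, G) _ => q.1 * q.2)
    · rintro ⟨y, z⟩ hq
      rw [Finset.mem_sigma] at hq
      obtain ⟨hy, hz⟩ := hq
      have hc := hcop y hy y z hz
      rw [Finset.mem_filter] at hy hz
      have ho : orderOf (y * z) = p ^ (e + 1) * orderOf z := by
        rw [hz.2.1.orderOf_mul_eq_mul_orderOf_of_coprime hc, hy.2]
      rw [mem_frobB_iff, ho]
      have hzm : orderOf z ∣ m' := orderOf_dvd_of_pow_eq_one hz.2.2
      refine ⟨Nat.mul_dvd_mul_left _ hzm, ?_⟩
      intro hd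
      have h1 : p ^ (e + 1) ∣ p ^ e * m' := (Dvd.intro _ rfl).trans hd
      rw [pow_succ] at h1
      have h2 : p ∣ m' := Nat.dvd_of_mul_dvd_mul_left (pow_pos hp.pos e) h1
      exact hm' h2
    · rintro ⟨y, z⟩ hq ⟨y', z'⟩ hq' h
      rw [Finset.mem_sigma] at hq hq'
      obtain ⟨hy, hz⟩ := hq
      obtain ⟨hy', hz'⟩ := hq'
      have hyz : Commute y z := (Finset.mem_filter.1 hz).2.1
      have hyz' : Commute y' z' := (Finset.mem_filter.1 hz').2.1
      obtain ⟨e1, e2⟩ := coprime_decomp_unique hyz hyz' h (hcop y hy y z hz) (hcop y hy y' z' hz')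
        (hcop y' hy' y z hz) (hcop y' hy' y' z' hz')
      subst e1
      subst e2
      rfl
    · intro g hg
      rw [mem_frobB_iff] at hg
      obtain ⟨b, hb, hbm⟩ := order_analysis p e m' _ hp hg.1 hg.2
      have hcopb : Nat.Coprime (p ^ (e + 1)) b := Nat.Coprime.coprime_dvd_right hbm hcopm
      obtain ⟨y, z, hyz, hprod, hoy, hoz⟩ := exists_coprime_split g (p ^ (e + 1)) b hb hcopb
      refine ⟨⟨y, z⟩, ?_, hprod⟩
      rw [Finset.mem_sigma]
      constructor
      · exact Finset.mem_filter.2 ⟨Finset.mem_univ _, hoy⟩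
      · refine Finset.mem_filter.2 ⟨Finset.mem_univ _, hyz, ?_⟩
        rw [← orderOf_dvd_iff_pow_eq_one, hoz]
        exact hbm
  rw [hcard, Finset.card_sigma]
  apply dvd_sum_conj Y
  · intro y hy g
    rw [Finset.mem_filter] at hy ⊢
    refine ⟨Finset.mem_univ _, ?_⟩
    rw [← hy.2]
    have : SemiconjBy g y (g * y * g⁻¹) := by unfold SemiconjBy; group
    exact this.orderOf_eq.symm
  · intro g y
    apply Finset.card_bij' (fun z _ => g⁻¹ * z * g) (fun z _ => g * z * g⁻¹)
    · intro z hz
      rw [Finset.mem_filter] at hz ⊢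
      refine ⟨Finset.mem_univ _, ?_, ?_⟩
      · have h1 := hz.2.1
        unfold Commute SemiconjBy at h1 ⊢
        calc y * (g⁻¹ * z * g) = g⁻¹ * ((g * y * g⁻¹) * z) * g := by group
          _ = g⁻¹ * (z * (g * y * g⁻¹)) * g := by rw [h1]
          _ = g⁻¹ * z * g * y := by group
      · have : g⁻¹ * z * g = g⁻¹ * z * g⁻¹⁻¹ := by rw [inv_inv]
        rw [this, conj_pow, hz.2.2]; group
    · intro z hz
      rw [Finset.mem_filter] at hz ⊢
      refine ⟨Finset.mem_univ _, ?_, ?_⟩
      · have h1 := hz.2.1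
        unfold Commute SemiconjBy at h1 ⊢
        calc g * y * g⁻¹ * (g * z * g⁻¹) = g * (y * z) * g⁻¹ := by group
          _ = g * (z * y) * g⁻¹ := by rw [h1]
          _ = g * z * g⁻¹ * (g * y * g⁻¹) := by group
      · rw [conj_pow, hz.2.2]; group
    · intro z _; group
    · intro z _; group
  · intro y hy
    have hoy : orderOf y = p ^ (e + 1) := (Finset.mem_filter.1 hy).2
    set C := Subgroup.centralizer ({y} : Set G) with hC
    have hyC : y ∈ C := by
      rw [Subgroup.mem_centralizer_iff]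
      intro w hw
      rw [Set.mem_singleton_iff] at hw
      rw [hw]
    set y' : C := ⟨y, hyC⟩ with hy'
    have hy'c : y' ∈ Subgroup.center C := by
      rw [Subgroup.mem_center_iff]
      intro c
      have := c.2
      rw [Subgroup.mem_centralizer_iff] at this
      apply Subtype.ext
      exact (this y (Set.mem_singleton _)).symm
    have hoy' : orderOf y' = p ^ (e + 1) := by
      rw [← hoy, ← Subgroup.orderOf_coe]
    haveI hnorm : (Subgroup.zpowers y').Normal := by
      constructor
      intro n hn c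
      have hnc : n ∈ Subgroup.center C := (Subgroup.zpowers_le.2 hy'c) hn
      have := Subgroup.mem_center_iff.1 hnc c
      rw [this]
      simpa using hn
    -- f y = card of torsion in C
    have h1 : (Zy y).card = Nat.card {z : C // z ^ m' = 1} := by
      rw [Nat.card_eq_fintype_card, ← Finset.card_univ]
      symm
      apply Finset.card_bij (fun (z : {z : C // z ^ m' = 1}) _ => ((z : C) : G))
      · intro z _
        refine Finset.mem_filter.2 ⟨Finset.mem_univ _, ?_, ?_⟩
        · have := (z : C).2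
          rw [Subgroup.mem_centralizer_iff] at this
          exact this y (Set.mem_singleton _)
        · have := congrArg Subtype.val z.2
          simpa using this
      · intro a _ b _ hab
        exact Subtype.ext (Subtype.ext hab)
      · intro z hz
        rw [Finset.mem_filter] at hz
        have hzC : z ∈ C := by
          rw [Subgroup.mem_centralizer_iff]
          intro w hw
          rw [Set.mem_singleton_iff] at hw
          rw [hw]
          exact hz.2.1
        refine ⟨⟨⟨z, hzC⟩, ?_⟩, Finset.mem_univ _, rfl⟩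
        apply Subtype.ext
        simpa using hz.2.2
    have h2 := card_torsion_quotient_central y' hy'c (e + 1) hoy' m'
      ((Nat.Prime.coprime_iff_not_dvd hp).2 hm').symm
    set nbar := Nat.card (C ⧸ Subgroup.zpowers y') with hnbar
    have hCcard : Nat.card C = nbar * p ^ (e + 1) := by
      rw [Subgroup.card_eq_card_quotient_mul_card_subgroup (Subgroup.zpowers y'), Nat.card_zpowers,
        hoy']
    have hCdvd : Nat.card C ∣ Nat.card G := Subgroup.card_subgroup_dvd_card C
    have hnbar_pos : 0 < nbar := Nat.card_pos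
    have hlt : nbar < Nat.card G := by
      have h3 : Nat.card C ≤ Nat.card G := Nat.le_of_dvd Nat.card_pos hCdvd
      have h4 : 1 < p ^ (e + 1) := Nat.one_lt_pow (Nat.succ_ne_zero e) hp.one_lt
      nlinarith
    have h3 := IH (C ⧸ Subgroup.zpowers y') hlt (Nat.gcd m' nbar) (Nat.gcd_dvd_right _ _)
    rw [← card_pow_eq_one_gcd, ← h2, ← h1] at h3
    -- divisibility
    set c := Nat.card G / Nat.card C with hc
    have hG : Nat.card G = c * Nat.card C := (Nat.div_mul_cancel hCdvd).symm
    have h4 : m' ∣ c * nbar := by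
      have : m' ∣ (c * nbar) * p ^ (e + 1) := by
        rw [mul_assoc, ← hCcard, ← hG]; exact hm'n
      exact (hcopm.symm).dvd_of_dvd_mul_right this
    have h5 : m' ∣ c * Nat.gcd m' nbar := by
      rw [← Nat.gcd_mul_left]
      exact Nat.dvd_gcd (Dvd.intro_left _ rfl) h4
    exact h5.trans (Nat.mul_dvd_mul_left c h3)

end

end Cfsg.Agent.Helper20
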