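import Mathlib
import Cfsg.Agent.Helper20.FrobE

set_option autoImplicit false

namespace Cfsg.Agent.Helper20

universe u

/-- **Frobenius' theorem**: if `m ∣ |G|` then `m` divides the number of solutions of `g ^ m = 1`. -/
theorem frobenius_aux : ∀ (n : ℕ) (G : Type u) [Group G] [Finite G], Nat.card G = n →
    ∀ m : ℕ, m ∣ n → m ∣ Nat.card {g : G // g ^ m = 1} := by
  intro n
  induction n using Nat.strong_induction_on with
  | _ n ihn =>
  intro G _ _ hcard
  classical
  haveI : Fintype G := Fintype.ofFinite G
  have hn0 : 0 < n := hcard ▸ Nat.card_pos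
  have inner : ∀ k : ℕ, ∀ m : ℕ, m ∣ n → n / m = k → m ∣ Nat.card {g : G // g ^ m = 1} := by
    intro k
    induction k using Nat.strong_induction_on with
    | _ k ihk =>
    intro m hmn hk
    have hm0 : 0 < m := Nat.pos_of_dvd_of_pos hmn hn0
    by_cases hmeq : m = n
    · subst hmeq
      have h1 : ∀ g : G, g ^ m = 1 := fun g => by rw [← hcard]; exact pow_card_eq_one'
      have : Nat.card {g : G // g ^ m = 1} = m := by
        rw [Nat.card_congr (Equiv.subtypeUnivEquiv h1), hcard]
      rw [this]
    · have hk1 : n / m ≠ 1 := by
        intro h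
        apply hmeq
        have := Nat.div_mul_cancel hmn
        rw [h, one_mul] at this
        exact this
      obtain ⟨p, hp, hpd⟩ := Nat.exists_prime_and_dvd hk1
      haveI : Fact p.Prime := ⟨hp⟩
      have hmp : m * p ∣ n := by
        have := Nat.mul_dvd_mul_left m hpd
        rwa [Nat.mul_div_cancel' hmn] at this
      have hlt : n / (m * p) < k := by
        rw [← hk, ← Nat.div_div_eq_div_mul]
        exact Nat.div_lt_self (Nat.div_pos (Nat.le_of_dvd hn0 hmn) hm0) hp.one_lt
      have ih1 := ihk _ hlt (m * p) hmp rfl
      obtain ⟨e, m', hm', hme⟩ := Nat.exists_eq_pow_mul_and_not_dvd hm0.ne' p hp.ne_one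
      -- the B set
      have hB1 : p ^ e ∣ (frobB (G := G) p e m').card := frob_part_i p e m' hp
      have hB2 : m' ∣ (frobB (G := G) p e m').card := by
        apply frob_part_ii p e m' hm'
        · rw [hcard]; exact (Dvd.intro_left _ hme.symm).trans hmn
        · intro H _ _ hH k' hk'
          rw [hcard] at hH
          exact ihn _ hH H rfl k' hk'
      have hcop : Nat.Coprime (p ^ e) m' :=
        Nat.Coprime.pow_left _ ((Nat.Prime.coprime_iff_not_dvd hp).2 hm')
      have hB : m ∣ (frobB (G := G) p e m').card := by
        rw [hme]; exact hcop.mul_dvd_of_dvd_of_dvd hB1 hB2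
      -- counting
      have hmp' : m * p = p ^ (e + 1) * m' := by rw [hme, pow_succ]; ring
      have e1 : Nat.card {g : G // g ^ (m * p) = 1} =
          (Finset.univ.filter (fun g : G => g ^ (m * p) = 1)).card := by
        rw [Nat.card_eq_fintype_card, Fintype.card_subtype]
      have e2 : Nat.card {g : G // g ^ m = 1} =
          (Finset.univ.filter (fun g : G => g ^ m = 1)).card := by
        rw [Nat.card_eq_fintype_card, Fintype.card_subtype]
      have e3 := Finset.card_filter_add_card_filter_not
        (s := Finset.univ.filter (fun g : G => g ^ (m * p) = 1)) (fun g : G => g ^ m = 1)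
      have e4 : (Finset.univ.filter (fun g : G => g ^ (m * p) = 1)).filter (fun g : G => g ^ m = 1)
          = Finset.univ.filter (fun g : G => g ^ m = 1) := by
        ext g
        simp only [Finset.mem_filter, Finset.mem_univ, true_and, and_iff_right_iff_imp]
        intro h
        rw [pow_mul, h, one_pow]
      have e5 : (Finset.univ.filter (fun g : G => g ^ (m * p) = 1)).filter
          (fun g : G => ¬ g ^ m = 1) = frobB (G := G) p e m' := by
        ext g
        unfold frobB
        simp only [Finset.mem_filter, Finset.mem_univ, true_and]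
        rw [hmp', hme]
      rw [e4, e5] at e3
      rw [e1] at ih1
      rw [e2]
      have h6 : m ∣ (Finset.univ.filter (fun g : G => g ^ (m * p) = 1)).card :=
        (Dvd.intro _ rfl).trans ih1
      rw [← e3] at h6
      exact (Nat.dvd_add_left hB).1 h6
  intro m hm
  exact inner _ m hm rfl

theorem frobenius_dvd {G : Type u} [Group G] [Finite G] (m : ℕ) (hm : m ∣ Nat.card G) :
    m ∣ Nat.card {g : G // g ^ m = 1} :=
  frobenius_aux _ G rfl m hm

end Cfsg.Agent.Helper20
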