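import Mathlib
import Cfsg.Agent.Helper20.FrobD
import Cfsg.Agent.Helper20.FrobF

set_option autoImplicit false

namespace Cfsg.Agent.Helper20

section OrderCount
universe u
variable {G : Type u} [Group G]

omit [Group G] in
theorem natCard_subtype_eq_card_filter [Fintype G] (P : G → Prop) [DecidablePred P] :
    Nat.card {g : G // P g} = (Finset.univ.filter P).card := by
  rw [Nat.card_eq_fintype_card]
  exact Fintype.card_of_subtype _ (by simp)

/-- `φ(m)` divides the number of elements of order `m`. -/
theorem totient_dvd_card_orderOf [Finite G] (m : ℕ) :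
    Nat.totient m ∣ Nat.card {g : G // orderOf g = m} := by
  classical
  haveI : Fintype G := Fintype.ofFinite G
  have e : Nat.card {g : G // orderOf g = m} =
      (Finset.univ.filter (fun g : G => orderOf g = m)).card :=
    natCard_subtype_eq_card_filter _
  rw [e]
  rw [Finset.card_eq_sum_card_fiberwise (f := fun g : G => Subgroup.zpowers g)
    (t := (Finset.univ.filter (fun g : G => orderOf g = m)).image (fun g => Subgroup.zpowers g))
    (fun g hg => Finset.mem_coe.2 (Finset.mem_image_of_mem _ hg))]
  apply Finset.dvd_sum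
  intro H hH
  obtain ⟨g₀, hg₀, rfl⟩ := Finset.mem_image.1 hH
  simp only [Finset.mem_filter, Finset.mem_univ, true_and] at hg₀
  have : (Finset.univ.filter (fun g : G => orderOf g = m)).filter
      (fun g => Subgroup.zpowers g = Subgroup.zpowers g₀) =
      Finset.univ.filter (fun a : G => Subgroup.zpowers a = Subgroup.zpowers g₀) := by
    ext g
    simp only [Finset.mem_filter, Finset.mem_univ, true_and, and_iff_right_iff_imp]
    intro h
    rw [← Nat.card_zpowers, h, Nat.card_zpowers, hg₀]
  rw [this]
  have h := card_zpowers_eq_totient g₀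
  rw [hg₀] at h
  convert dvd_of_eq h.symm using 2

/-- the solutions of `g ^ m = 1` counted by order -/
theorem card_pow_eq_one_eq_sum [Finite G] (m : ℕ) (D : Finset ℕ) (hD : ∀ d ∈ D, d ∣ m)
    (hS : ∀ g : G, g ^ m = 1 → orderOf g ∈ D) :
    Nat.card {g : G // g ^ m = 1} = ∑ d ∈ D, Nat.card {g : G // orderOf g = d} := by
  classical
  haveI : Fintype G := Fintype.ofFinite G
  have e : Nat.card {g : G // g ^ m = 1} = (Finset.univ.filter (fun g : G => g ^ m = 1)).card :=
    natCard_subtype_eq_card_filter _
  rw [e]
  rw [Finset.card_eq_sum_card_fiberwise (f := fun g : G => orderOf g) (t := D)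
    (fun g hg => by
      simp only [Finset.coe_filter, Finset.mem_univ, true_and, Set.mem_setOf_eq] at hg
      exact Finset.mem_coe.2 (hS g hg))]
  apply Finset.sum_congr rfl
  intro d hd
  have e2 : Nat.card {g : G // orderOf g = d} =
      (Finset.univ.filter (fun g : G => orderOf g = d)).card :=
    natCard_subtype_eq_card_filter _
  rw [e2]
  congr 1
  ext g
  simp only [Finset.mem_filter, Finset.mem_univ, true_and, and_iff_right_iff_imp]
  intro h
  obtain ⟨k, hk⟩ := hD d hd
  rw [hk, pow_mul, ← h, pow_orderOf_eq_one, one_pow]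

/-- Frobenius in the summed form -/
theorem dvd_sum_card_orderOf [Finite G] (m : ℕ) (hm : m ∣ Nat.card G) (D : Finset ℕ)
    (hD : ∀ d ∈ D, d ∣ m) (hS : ∀ g : G, g ^ m = 1 → orderOf g ∈ D) :
    m ∣ ∑ d ∈ D, Nat.card {g : G // orderOf g = d} := by
  rw [← card_pow_eq_one_eq_sum m D hD hS]
  exact frobenius_dvd m hm

end OrderCount

end Cfsg.Agent.Helper20
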