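import Mathlib
import Cfsg.Agent.Helper20.KulA
import Cfsg.Agent.Helper20.OrderCount

set_option autoImplicit false

/-!
# Hall's enumeration principle modulo `p` (helper20)
-/

namespace Cfsg.Agent.Helper20

open Subgroup

variable {P : Type*} [Group P] [Finite P] {p : ℕ} [hp : Fact p.Prime]

theorem sum_modEq_of_forall {ι : Type*} (s : Finset ι) (f g : ι → ℕ) (n : ℕ)
    (h : ∀ i ∈ s, f i ≡ g i [MOD n]) : ∑ i ∈ s, f i ≡ ∑ i ∈ s, g i [MOD n] := by
  classical
  induction s using Finset.induction_on with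
  | empty => rfl
  | insert a s ha ih =>
    rw [Finset.sum_insert ha, Finset.sum_insert ha]
    exact Nat.ModEq.add (h a (Finset.mem_insert_self a s))
      (ih fun i hi => h i (Finset.mem_insert_of_mem hi))

/-- enumeration principle mod `p`, Finset form. -/
theorem enum_finset (hP : IsPGroup p P) [Fintype (Subgroup P)] [DecidableRel (α := Subgroup P) (· ≤ ·)]
    (Ks Ms : Finset (Subgroup P)) (hKs : ∀ K ∈ Ks, K ≠ ⊤)
    (hMs : ∀ M : Subgroup P, M ∈ Ms ↔ M.index = p) :
    Ks.card ≡ ∑ M ∈ Ms, (Ks.filter (· ≤ M)).card [MOD p] := by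
  classical
  have h1 : ∑ M ∈ Ms, (Ks.filter (· ≤ M)).card = ∑ K ∈ Ks, (Ms.filter (K ≤ ·)).card := by
    have := Finset.sum_card_bipartiteAbove_eq_sum_card_bipartiteBelow (s := Ks) (t := Ms)
      (r := fun (K M : Subgroup P) => K ≤ M)
    unfold Finset.bipartiteAbove Finset.bipartiteBelow at this
    rw [← this]
  rw [h1]
  have h2 : ∑ K ∈ Ks, (Ms.filter (K ≤ ·)).card ≡ ∑ K ∈ Ks, 1 [MOD p] := by
    apply sum_modEq_of_forall
    intro K hK
    have := card_index_p_ge_modEq_one hP K (hKs K hK)
    have e : Nat.card {M : Subgroup P // M.index = p ∧ K ≤ M} = (Ms.filter (K ≤ ·)).card := by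
      rw [Nat.card_eq_fintype_card, Fintype.card_subtype]
      congr 1
      ext M
      simp only [Finset.mem_filter, Finset.mem_univ, true_and, hMs]
    rw [← e]; exact this
  rw [Finset.sum_const, smul_eq_mul, mul_one] at h2
  exact h2.symm

/-- enumeration principle mod `p`, two-class form. -/
theorem enum_two (hP : IsPGroup p P) (Q : Subgroup P → Prop) (hQ : ∀ K, Q K → K ≠ ⊤)
    (R : Subgroup P → Prop) (e : ℕ)
    (h1 : ∀ M : Subgroup P, M.index = p → R M →
      Nat.card {K : Subgroup P // Q K ∧ K ≤ M} ≡ e [MOD p])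
    (h2 : ∀ M : Subgroup P, M.index = p → ¬ R M →
      Nat.card {K : Subgroup P // Q K ∧ K ≤ M} ≡ 0 [MOD p]) :
    Nat.card {K : Subgroup P // Q K} ≡
      e * Nat.card {M : Subgroup P // M.index = p ∧ R M} [MOD p] := by
  classical
  haveI : Fintype (Subgroup P) := Fintype.ofFinite _
  set Ks : Finset (Subgroup P) := Finset.univ.filter Q with hKs
  set Ms : Finset (Subgroup P) := Finset.univ.filter (fun M => M.index = p) with hMs
  have hen := enum_finset hP Ks Ms (fun K hK => hQ K (Finset.mem_filter.mp hK).2)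
    (fun M => by simp [hMs])
  have hc1 : Nat.card {K : Subgroup P // Q K} = Ks.card := by
    rw [Nat.card_eq_fintype_card, Fintype.card_subtype]
  have hc2 : Nat.card {M : Subgroup P // M.index = p ∧ R M} = (Ms.filter R).card := by
    rw [Nat.card_eq_fintype_card, Fintype.card_subtype]
    congr 1
    ext M
    simp [hMs]
  have hc3 : ∀ M : Subgroup P, Nat.card {K : Subgroup P // Q K ∧ K ≤ M} =
      (Ks.filter (· ≤ M)).card := by
    intro M
    rw [Nat.card_eq_fintype_card, Fintype.card_subtype]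
    congr 1
    ext K
    simp [hKs]
  rw [hc1, hc2]
  refine hen.trans ?_
  have h3 : ∑ M ∈ Ms, (Ks.filter (· ≤ M)).card ≡ ∑ M ∈ Ms, (if R M then e else 0) [MOD p] := by
    apply sum_modEq_of_forall
    intro M hM
    have hMi : M.index = p := (Finset.mem_filter.mp hM).2
    rw [← hc3 M]
    by_cases hR : R M
    · rw [if_pos hR]; exact h1 M hMi hR
    · rw [if_neg hR]; exact h2 M hMi hR
  refine h3.trans ?_
  rw [← Finset.sum_filter, Finset.sum_const, smul_eq_mul, mul_comm]

end Cfsg.Agent.Helper20
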