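import Mathlib
import Cfsg.Agent.Helper20.KulB

set_option autoImplicit false

/-!
# `p`-groups (`p` odd) with a cyclic subgroup of index `p` (helper20)

The number of cyclic subgroups of index `p` in a noncyclic `p`-group of order `≥ p^3` is divisible
by `p`.
-/

namespace Cfsg.Agent.Helper20

open Subgroup

/-- lifting-the-exponent step. -/
theorem lte_step {p : ℕ} [hp : Fact p.Prime] (hodd : p ≠ 2) {r k : ℕ} (hk : 1 ≤ k)
    (h : r ^ p ≡ 1 [MOD p ^ (k + 1)]) : r ≡ 1 [MOD p ^ k] := by
  have hpodd : Odd p := hp.out.odd_of_ne_two hodd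
  have h1 : r ^ p ≡ 1 [MOD p] := h.of_dvd (dvd_pow_self p (by omega))
  have h2 : r ≡ 1 [MOD p] := by
    rw [← ZMod.natCast_eq_natCast_iff] at h1 ⊢
    rw [Nat.cast_pow, ZMod.pow_card] at h1
    exact h1
  rcases Nat.lt_or_ge 1 r with hr | hr
  · have hdvd1 : p ∣ r - 1 := (Nat.modEq_iff_dvd' hr.le).mp h2.symm
    have hnd : ¬ p ∣ r := by
      intro hpr
      have : p ∣ 1 := by
        have h3 := (Nat.dvd_sub hpr hdvd1)
        have : r - (r - 1) = 1 := by omega
        rwa [this] at h3
      exact hp.out.one_lt.ne' (Nat.dvd_one.mp this)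
    have hv := padicValNat.pow_sub_pow (p := p) hpodd hr hdvd1 hnd (n := p) hp.out.ne_zero
    rw [one_pow, padicValNat_self] at hv
    have hrp : 1 < r ^ p := Nat.one_lt_pow hp.out.ne_zero hr
    have hdvd2 : p ^ (k + 1) ∣ r ^ p - 1 := (Nat.modEq_iff_dvd' hrp.le).mp h.symm
    have hle : k + 1 ≤ padicValNat p (r ^ p - 1) :=
      (padicValNat_dvd_iff_le (by omega)).mp hdvd2
    rw [hv] at hle
    have : p ^ k ∣ r - 1 := (padicValNat_dvd_iff_le (by omega)).mpr (by omega)
    exact ((Nat.modEq_iff_dvd' hr.le).mpr this).symm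
  · interval_cases r
    · exfalso
      have : (0 : ℕ) ≡ 1 [MOD p] := h2
      have h3 : p ∣ 1 := (Nat.modEq_iff_dvd' (Nat.zero_le 1)).mp this
      exact hp.out.one_lt.ne' (Nat.dvd_one.mp h3)
    · rfl

variable {P : Type*} [Group P]

/-- power formula in class 2: if `c = b a b⁻¹ a⁻¹` is central then
`(a b)^k = a^k b^k c^(k(k-1)/2)`; here in the form with an explicit triangular number. -/
theorem mul_pow_of_central (a b c : P) (hc : b * a = c * (a * b)) (hcz : ∀ y : P, c * y = y * c)
    (k : ℕ) : (a * b) ^ k = a ^ k * b ^ k * c ^ (∑ i ∈ Finset.range k, i) := by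
  have hb : ∀ j : ℕ, b ^ j * a = c ^ j * (a * b ^ j) := by
    intro j
    induction j with
    | zero => simp
    | succ j ih =>
      have hcj : ∀ y : P, c ^ j * y = y * c ^ j := fun y => by
        have : Commute c y := hcz y
        exact (this.pow_left j)
      calc b ^ (j + 1) * a = b * (b ^ j * a) := by rw [pow_succ', mul_assoc]
        _ = b * (c ^ j * (a * b ^ j)) := by rw [ih]
        _ = c ^ j * (b * a) * b ^ j := by rw [← mul_assoc b, ← hcj b]; group
        _ = c ^ j * (c * (a * b)) * b ^ j := by rw [hc]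
        _ = c ^ (j + 1) * (a * b ^ (j + 1)) := by rw [pow_succ, pow_succ']; group
  induction k with
  | zero => simp
  | succ k ih =>
    have hck : ∀ (j : ℕ) (y : P), c ^ j * y = y * c ^ j := fun j y => by
      have : Commute c y := hcz y
      exact (this.pow_left j)
    rw [pow_succ, ih, Finset.sum_range_succ]
    calc a ^ k * b ^ k * c ^ (∑ i ∈ Finset.range k, i) * (a * b)
        = a ^ k * (b ^ k * a) * b * c ^ (∑ i ∈ Finset.range k, i) := by
          rw [mul_assoc _ (c ^ _), hck]; group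
      _ = a ^ k * (c ^ k * (a * b ^ k)) * b * c ^ (∑ i ∈ Finset.range k, i) := by rw [hb]
      _ = a ^ k * a * b ^ k * (c ^ k * b) * c ^ (∑ i ∈ Finset.range k, i) := by
          rw [hck k (a * b ^ k)]; group
      _ = a ^ k * a * b ^ k * (b * c ^ k) * c ^ (∑ i ∈ Finset.range k, i) := by rw [hck k b]
      _ = a ^ k * a * (b ^ k * b) * (c ^ (∑ i ∈ Finset.range k, i) * c ^ k) := by
          rw [← pow_add, add_comm, pow_add]; group
      _ = a ^ (k + 1) * b ^ (k + 1) * c ^ (∑ i ∈ Finset.range k, i + k) := by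
          rw [← pow_succ, ← pow_succ, ← pow_add]


/-- `p`-th power formula: `p` odd, `c = b a b⁻¹ a⁻¹` central with `c^p = 1`. -/
theorem mul_pow_prime_of_central {p : ℕ} (hp : p.Prime) (hodd : p ≠ 2) (a b c : P)
    (hc : b * a = c * (a * b)) (hcz : ∀ y : P, c * y = y * c) (hcp : c ^ p = 1) :
    (a * b) ^ p = a ^ p * b ^ p := by
  rw [mul_pow_of_central a b c hc hcz p]
  have h2 := Finset.sum_range_id_mul_two p
  have hdvd : p ∣ ∑ i ∈ Finset.range p, i := by
    have hcop : Nat.Coprime p 2 := (Nat.coprime_primes hp Nat.prime_two).mpr hodd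
    exact hcop.dvd_of_dvd_mul_right (h2 ▸ dvd_mul_right p (p - 1))
  obtain ⟨t, ht⟩ := hdvd
  rw [ht, pow_mul, hcp, one_pow, mul_one]

variable [Finite P] {p : ℕ} [hp : Fact p.Prime]

/-- if `x` has order `p^(n-1)` in a group of order `p^n` (`n ≥ 3`, `p` odd), then the `p`-th power
map is multiplicative. -/
theorem mul_pow_of_cyclic_index_p (hodd : p ≠ 2) (n : ℕ) (hn : 3 ≤ n)
    (hcard : Nat.card P = p ^ n) (x : P) (hx : orderOf x = p ^ (n - 1)) :
    ∀ a b : P, (a * b) ^ p = a ^ p * b ^ p := by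
  have hP : IsPGroup p P := IsPGroup.of_card hcard
  set C : Subgroup P := zpowers x with hC
  have hCcard : Nat.card C = p ^ (n - 1) := by rw [Nat.card_zpowers, hx]
  have hCidx : C.index = p := by
    have h1 := C.card_mul_index
    rw [hCcard, hcard] at h1
    have h2 : p ^ n = p ^ (n - 1) * p := by rw [← pow_succ]; congr 1; omega
    rw [h2] at h1
    exact Nat.eq_of_mul_eq_mul_left (pow_pos hp.out.pos _) h1
  haveI hCn : C.Normal := normal_of_index_p hP hCidx
  set z : P := x ^ (p ^ (n - 2)) with hz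
  have hpow1 : p ^ (n - 1) = p ^ (n - 2) * p := by rw [← pow_succ]; congr 1; omega
  have hzp : z ^ p = 1 := by
    rw [hz, ← pow_mul, ← hpow1, ← hx, pow_orderOf_eq_one]
  -- the conjugation exponent
  have key : ∀ g : P, ∃ r : ℕ, g * x * g⁻¹ = x ^ r ∧ r ≡ 1 [MOD p ^ (n - 2)] := by
    intro g
    have hmem : g * x * g⁻¹ ∈ C := hCn.conj_mem x (mem_zpowers x) g
    rw [hC, ← mem_powers_iff_mem_zpowers, Submonoid.mem_powers_iff] at hmem
    obtain ⟨r, hr⟩ := hmem
    refine ⟨r, hr.symm, ?_⟩
    have hiter : ∀ j : ℕ, g ^ j * x * (g ^ j)⁻¹ = x ^ (r ^ j) := by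
      intro j
      induction j with
      | zero => simp
      | succ j ih =>
        calc g ^ (j + 1) * x * (g ^ (j + 1))⁻¹ = g * (g ^ j * x * (g ^ j)⁻¹) * g⁻¹ := by
              rw [pow_succ']; group
          _ = g * x ^ (r ^ j) * g⁻¹ := by rw [ih]
          _ = (g * x * g⁻¹) ^ (r ^ j) := by rw [conj_pow]
          _ = x ^ (r ^ (j + 1)) := by rw [← hr, ← pow_mul, pow_succ']
    have hgp : g ^ p ∈ C := pow_mem_of_index_p hP hCidx g
    have hcomm : g ^ p * x * (g ^ p)⁻¹ = x := by
      rw [hC, mem_zpowers_iff] at hgp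
      obtain ⟨k, hk⟩ := hgp
      rw [← hk]
      have : Commute (x ^ k) x := (Commute.refl x).zpow_left k
      rw [this.eq]; group
    have h1 : x ^ (r ^ p) = x ^ 1 := by rw [← hiter p, hcomm, pow_one]
    rw [pow_eq_pow_iff_modEq, hx] at h1
    have hn1 : n - 1 = (n - 2) + 1 := by omega
    rw [hn1] at h1
    exact lte_step hodd (by omega) h1
  -- z is central
  have hzc : ∀ g : P, z * g = g * z := by
    intro g
    obtain ⟨r, hr, hr1⟩ := key g
    have h1 : g * z * g⁻¹ = z := by
      rw [hz, ← conj_pow, hr, ← pow_mul, pow_eq_pow_iff_modEq, hx]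
      have hr2 : r ≡ 1 [MOD p] := hr1.of_dvd (dvd_pow_self p (by omega))
      have := Nat.ModEq.mul_right' (p ^ (n - 2)) hr2
      rw [one_mul, ← pow_succ'] at this
      have hn1 : n - 2 + 1 = n - 1 := by omega
      rw [hn1] at this
      exact this
    calc z * g = (g * z * g⁻¹) * g := by rw [h1]
      _ = g * z := by group
  set Z : Subgroup P := zpowers z with hZ
  have hZc : ∀ w ∈ Z, ∀ g : P, w * g = g * w := by
    intro w hw g
    rw [hZ, mem_zpowers_iff] at hw
    obtain ⟨k, rfl⟩ := hw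
    have : Commute z g := hzc g
    exact (this.zpow_left k).eq
  have hZp : ∀ w ∈ Z, w ^ p = 1 := by
    intro w hw
    rw [hZ, mem_zpowers_iff] at hw
    obtain ⟨k, rfl⟩ := hw
    rw [← zpow_natCast, ← zpow_mul, mul_comm, zpow_mul, zpow_natCast, hzp, one_zpow]
  haveI hZn : Z.Normal := ⟨fun w hw g => by
    have := hZc w hw g
    have h2 : g * w * g⁻¹ = w := by rw [← this]; group
    rw [h2]; exact hw⟩
  have hZC : Z ≤ C := by
    rw [hZ, zpowers_le]
    exact pow_mem (mem_zpowers x) _
  -- [g, x] ∈ Z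
  have hgx : ∀ g : P, g * x * g⁻¹ * x⁻¹ ∈ Z := by
    intro g
    obtain ⟨r, hr, hr1⟩ := key g
    have hr0 : 1 ≤ r := by
      rcases Nat.eq_zero_or_pos r with h0 | h0
      · exfalso
        rw [h0] at hr1
        have h3 : p ^ (n - 2) ∣ 1 := (Nat.modEq_iff_dvd' (Nat.zero_le 1)).mp hr1
        have h4 := Nat.dvd_one.mp h3
        have h5 : 1 < p ^ (n - 2) := Nat.one_lt_pow (by omega) hp.out.one_lt
        omega
      · exact h0
    obtain ⟨t, ht⟩ := (Nat.modEq_iff_dvd' hr0).mp hr1.symm
    have hr2 : r = p ^ (n - 2) * t + 1 := by omega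
    rw [hr, hr2, pow_succ, mul_inv_cancel_right, pow_mul]
    exact pow_mem (mem_zpowers z) t
  -- the quotient by Z is commutative
  let f : P ⧸ Z →* P ⧸ C := QuotientGroup.map Z C (MonoidHom.id P) (by
    intro w hw; exact hZC hw)
  haveI : Fact (Nat.card (P ⧸ C) = p) := ⟨by rw [← Subgroup.index_eq_card]; exact hCidx⟩
  haveI : IsCyclic (P ⧸ C) := isCyclic_of_prime_card (p := p) Fact.out
  have hker : f.ker ≤ center (P ⧸ Z) := by
    intro q hq
    induction q using QuotientGroup.induction_on with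
    | H y =>
      rw [MonoidHom.mem_ker] at hq
      have hyC : y ∈ C := by
        have : f (y : P ⧸ Z) = ((y : P) : P ⧸ C) := QuotientGroup.map_mk Z C _ _ y
        rw [this] at hq
        exact (QuotientGroup.eq_one_iff y).mp hq
      rw [hC, mem_zpowers_iff] at hyC
      obtain ⟨k, rfl⟩ := hyC
      rw [mem_center_iff]
      intro q'
      induction q' using QuotientGroup.induction_on with
      | H b =>
        have hxb : Commute ((b : P) : P ⧸ Z) ((x : P) : P ⧸ Z) := by
          have h1 : ((b * x * b⁻¹ * x⁻¹ : P) : P ⧸ Z) = 1 := (QuotientGroup.eq_one_iff _).mpr (hgx b)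
          rw [QuotientGroup.mk_mul, QuotientGroup.mk_mul, QuotientGroup.mk_mul,
            QuotientGroup.mk_inv, QuotientGroup.mk_inv] at h1
          have h2 : (b : P ⧸ Z) * (x : P ⧸ Z) = (x : P ⧸ Z) * (b : P ⧸ Z) := by
            calc (b : P ⧸ Z) * (x : P ⧸ Z)
                = ((b : P ⧸ Z) * (x : P ⧸ Z) * (b : P ⧸ Z)⁻¹ * (x : P ⧸ Z)⁻¹) *
                  ((x : P ⧸ Z) * (b : P ⧸ Z)) := by group
              _ = (x : P ⧸ Z) * (b : P ⧸ Z) := by rw [h1, one_mul]
          exact h2
        have := (hxb.zpow_right k).eq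
        rw [QuotientGroup.mk_zpow]
        exact this
  have hcommQ := commutative_of_cyclic_center_quotient f hker
  intro a b
  have hcZ : b * a * (a * b)⁻¹ ∈ Z := by
    have h1 : ((b * a * (a * b)⁻¹ : P) : P ⧸ Z) = 1 := by
      rw [QuotientGroup.mk_mul, QuotientGroup.mk_inv, QuotientGroup.mk_mul, QuotientGroup.mk_mul,
        hcommQ (b : P ⧸ Z) (a : P ⧸ Z), mul_inv_cancel]
    exact (QuotientGroup.eq_one_iff _).mp h1
  exact mul_pow_prime_of_central hp.out hodd a b (b * a * (a * b)⁻¹) (by group)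
    (hZc _ hcZ) (hZp _ hcZ)


/-- the `p`-th power map as a homomorphism. -/
def powHom (p : ℕ) (h : ∀ a b : P, (a * b) ^ p = a ^ p * b ^ p) : P →* P where
  toFun y := y ^ p
  map_one' := one_pow p
  map_mul' := h

omit [Finite P] hp in
@[simp] theorem powHom_apply (h : ∀ a b : P, (a * b) ^ p = a ^ p * b ^ p) (y : P) :
    powHom p h y = y ^ p := rfl

/-- the kernel of the `p`-th power map has order `p^2`. -/
theorem card_ker_powHom (n : ℕ) (hn : 3 ≤ n)
    (hcard : Nat.card P = p ^ n) (hnc : ¬ IsCyclic P) (x : P) (hx : orderOf x = p ^ (n - 1))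
    (h : ∀ a b : P, (a * b) ^ p = a ^ p * b ^ p) :
    Nat.card (powHom p h).ker = p ^ 2 := by
  have hP : IsPGroup p P := IsPGroup.of_card hcard
  set C : Subgroup P := zpowers x with hC
  have hCcard : Nat.card C = p ^ (n - 1) := by rw [Nat.card_zpowers, hx]
  have hpow1 : p ^ n = p ^ (n - 1) * p := by rw [← pow_succ]; congr 1; omega
  have hpow2 : p ^ (n - 1) = p ^ (n - 2) * p := by rw [← pow_succ]; congr 1; omega
  have hCidx : C.index = p := by
    have h1 := C.card_mul_index
    rw [hCcard, hcard, hpow1] at h1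
    exact Nat.eq_of_mul_eq_mul_left (pow_pos hp.out.pos _) h1
  set π := powHom p h with hπ
  have hrC : π.range ≤ C := by
    rintro _ ⟨y, rfl⟩
    exact pow_mem_of_index_p hP hCidx y
  have hxp : zpowers (x ^ p) ≤ π.range := by
    rw [zpowers_le]
    exact ⟨x, rfl⟩
  have hxpcard : Nat.card (zpowers (x ^ p)) = p ^ (n - 2) := by
    rw [Nat.card_zpowers, orderOf_pow_of_dvd hp.out.ne_zero (by rw [hx, hpow2]; exact dvd_mul_left _ _),
      hx, hpow2, Nat.mul_div_cancel _ hp.out.pos]
  have hd1 : Nat.card π.range ∣ p ^ (n - 1) := hCcard ▸ Subgroup.card_dvd_of_le hrC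
  have hd2 : p ^ (n - 2) ∣ Nat.card π.range := hxpcard ▸ Subgroup.card_dvd_of_le hxp
  obtain ⟨j, hj, hjc⟩ := (Nat.dvd_prime_pow hp.out).mp hd1
  rw [hjc] at hd2
  have hj2 : n - 2 ≤ j := (Nat.pow_dvd_pow_iff_le_right hp.out.one_lt).mp hd2
  have hjne : j ≠ n - 1 := by
    intro hjeq
    apply hnc
    have hrange : π.range = C :=
      Subgroup.eq_of_le_of_card_ge hrC (by rw [hCcard, hjc, hjeq])
    have hxr : x ∈ π.range := by rw [hrange]; exact mem_zpowers x
    obtain ⟨y, hy⟩ := hxr
    rw [hπ, powHom_apply] at hy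
    have hyo : orderOf y ∣ p ^ n := hcard ▸ orderOf_dvd_natCard y
    obtain ⟨i, hi, hio⟩ := (Nat.dvd_prime_pow hp.out).mp hyo
    have hi0 : i ≠ 0 := by
      intro h0
      rw [h0, pow_zero, orderOf_eq_one_iff] at hio
      rw [hio, one_pow] at hy
      rw [← hy, orderOf_one] at hx
      have : 1 < p ^ (n - 1) := Nat.one_lt_pow (by omega) hp.out.one_lt
      omega
    have hpi : p ^ i = p ^ (i - 1) * p := by rw [← pow_succ]; congr 1; omega
    have ho2 : orderOf (y ^ p) = p ^ (i - 1) := by
      rw [orderOf_pow_of_dvd hp.out.ne_zero (by rw [hio, hpi]; exact dvd_mul_left _ _), hio, hpi,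
        Nat.mul_div_cancel _ hp.out.pos]
    rw [hy, hx] at ho2
    have hin : n - 1 = i - 1 := Nat.pow_right_injective hp.out.two_le ho2
    have : i = n := by omega
    exact isCyclic_of_orderOf_eq_card y (by rw [hio, this, hcard])
  have hjeq : j = n - 2 := by omega
  have h1 := π.ker.card_mul_index
  rw [Subgroup.index_ker, hjc, hjeq, hcard] at h1
  have h2 : p ^ n = p ^ 2 * p ^ (n - 2) := by rw [← pow_add]; congr 1; omega
  rw [h2] at h1
  exact Nat.eq_of_mul_eq_mul_right (pow_pos hp.out.pos _) h1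


/-- an index-`p` subgroup is cyclic iff it does not contain the kernel of the `p`-th power map. -/
theorem isCyclic_index_p_iff (n : ℕ) (hn : 3 ≤ n)
    (hcard : Nat.card P = p ^ n)
    (h : ∀ a b : P, (a * b) ^ p = a ^ p * b ^ p) (hΩ : Nat.card (powHom p h).ker = p ^ 2)
    (M : Subgroup P) (hM : M.index = p) :
    IsCyclic M ↔ ¬ (powHom p h).ker ≤ M := by
  have hP : IsPGroup p P := IsPGroup.of_card hcard
  set Ω := (powHom p h).ker with hΩdef
  have hΩmem : ∀ y : P, y ∈ Ω ↔ y ^ p = 1 := fun y => by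
    rw [hΩdef, MonoidHom.mem_ker, powHom_apply]
  have hpow1 : p ^ n = p ^ (n - 1) * p := by rw [← pow_succ]; congr 1; omega
  have hpow2 : p ^ (n - 1) = p ^ (n - 2) * p := by rw [← pow_succ]; congr 1; omega
  have hMcard : Nat.card M = p ^ (n - 1) := by
    have h1 := M.card_mul_index
    rw [hM, hcard, hpow1] at h1
    exact Nat.eq_of_mul_eq_mul_right hp.out.pos h1
  constructor
  · intro hcyc hle
    haveI : IsCyclic (Ω.subgroupOf M) := inferInstance
    have e := subgroupOfEquivOfLe hle
    haveI : IsCyclic Ω := isCyclic_of_surjective e.toMonoidHom e.surjective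
    obtain ⟨g, hg⟩ := IsCyclic.exists_ofOrder_eq_natCard (α := Ω)
    rw [hΩ] at hg
    have hgp : g ^ p = 1 := by
      apply Subtype.ext
      rw [Subgroup.coe_pow, Subgroup.coe_one]
      exact (hΩmem g).mp g.2
    have := orderOf_dvd_of_pow_eq_one hgp
    rw [hg] at this
    have h2 : p ^ 2 ≤ p := Nat.le_of_dvd hp.out.pos this
    have h3 : p < p ^ 2 := by
      calc p = p ^ 1 := (pow_one p).symm
        _ < p ^ 2 := Nat.pow_lt_pow_right hp.out.one_lt (by norm_num)
    omega
  · intro hnle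
    have hPM : IsPGroup p M := hP.to_subgroup M
    have hM' : ∀ a b : M, (a * b) ^ p = a ^ p * b ^ p := fun a b => by
      apply Subtype.ext
      simp only [Subgroup.coe_pow, Subgroup.coe_mul]
      exact h a b
    set πM := powHom p hM' with hπM
    -- the kernel of πM has order ≤ p
    have hkerle : Nat.card πM.ker ∣ p := by
      have hk : πM.ker = Ω.subgroupOf M := by
        ext y
        rw [MonoidHom.mem_ker, powHom_apply, mem_subgroupOf, hΩmem]
        constructor
        · intro hy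
          have := congrArg (Subtype.val) hy
          simpa using this
        · intro hy
          apply Subtype.ext
          simpa using hy
      rw [hk]
      have e : Ω.subgroupOf M ≃* (Ω ⊓ M : Subgroup P) :=
        (Subgroup.subgroupOfEquivOfLe (inf_le_right : Ω ⊓ M ≤ M)).symm.trans
          (MulEquiv.subgroupCongr (by rw [inf_subgroupOf_right])).symm |>.symm
      rw [Nat.card_congr e.toEquiv]
      have hd : Nat.card (Ω ⊓ M : Subgroup P) ∣ p ^ 2 := hΩ ▸ Subgroup.card_dvd_of_le inf_le_left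
      obtain ⟨j, hj, hjc⟩ := (Nat.dvd_prime_pow hp.out).mp hd
      have hj2 : j ≠ 2 := by
        intro hj2
        apply hnle
        have : Ω ⊓ M = Ω := Subgroup.eq_of_le_of_card_ge inf_le_left (by rw [hΩ, hjc, hj2])
        rw [← this]; exact inf_le_right
      rw [hjc]
      have : j ≤ 1 := by omega
      calc p ^ j ∣ p ^ 1 := pow_dvd_pow p this
        _ = p := pow_one p
    have hrange : p ^ (n - 2) ∣ Nat.card πM.range := by
      have h1 := πM.ker.card_mul_index
      rw [Subgroup.index_ker, hMcard, hpow2] at h1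
      obtain ⟨c, hc⟩ := hkerle
      have h3 : p ^ (n - 2) * (Nat.card πM.ker * c) = Nat.card πM.ker * Nat.card πM.range := by
        rw [← hc, h1]
      have hkpos : 0 < Nat.card πM.ker := Nat.card_pos
      have h4 : p ^ (n - 2) * c = Nat.card πM.range := by
        have : Nat.card πM.ker * (p ^ (n - 2) * c) = Nat.card πM.ker * Nat.card πM.range := by
          rw [← h3]; ring
        exact Nat.eq_of_mul_eq_mul_left hkpos this
      exact ⟨c, h4.symm⟩
    have huniq : ∀ L : Subgroup M, L.index = p → L = πM.range := by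
      intro L hL
      have hLcard : Nat.card L = p ^ (n - 2) := by
        have h1 := L.card_mul_index
        rw [hL, hMcard, hpow2] at h1
        exact Nat.eq_of_mul_eq_mul_right hp.out.pos h1
      have hle : πM.range ≤ L := by
        rintro _ ⟨y, rfl⟩
        exact pow_mem_of_index_p hPM hL y
      exact (Subgroup.eq_of_le_of_card_ge hle (by
        rw [hLcard]; exact Nat.le_of_dvd Nat.card_pos hrange)).symm
    have hMne : (⊥ : Subgroup M) ≠ ⊤ := by
      intro hbt
      have h1 : Nat.card (⊥ : Subgroup M) = Nat.card (⊤ : Subgroup M) := by rw [hbt]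
      rw [Subgroup.card_bot, Subgroup.card_top, hMcard] at h1
      have : 1 < p ^ (n - 1) := Nat.one_lt_pow (by omega) hp.out.one_lt
      omega
    obtain ⟨L₀, -, hL₀⟩ := exists_index_p_ge hPM hMne
    have hL₀' := huniq L₀ hL₀
    exact isCyclic_of_unique_index_p hPM πM.range (hL₀' ▸ hL₀) huniq


/-- **Lemma C**: in a noncyclic `p`-group of order `p^n`, `n ≥ 3`, `p` odd, the number of cyclic
subgroups of index `p` is divisible by `p`. -/
theorem card_cyclic_index_p_dvd (hodd : p ≠ 2) (n : ℕ) (hn : 3 ≤ n)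
    (hcard : Nat.card P = p ^ n) (hnc : ¬ IsCyclic P) :
    p ∣ Nat.card {M : Subgroup P // M.index = p ∧ IsCyclic M} := by
  have hP : IsPGroup p P := IsPGroup.of_card hcard
  by_cases hex : ∃ M : Subgroup P, M.index = p ∧ IsCyclic M
  swap
  · haveI : IsEmpty {M : Subgroup P // M.index = p ∧ IsCyclic M} :=
      ⟨fun M => hex ⟨M.1, M.2⟩⟩
    rw [Nat.card_of_isEmpty]
    exact dvd_zero p
  obtain ⟨M₀, hM₀, hM₀c⟩ := hex
  have hpow1 : p ^ n = p ^ (n - 1) * p := by rw [← pow_succ]; congr 1; omega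
  have hM₀card : Nat.card M₀ = p ^ (n - 1) := by
    have h1 := M₀.card_mul_index
    rw [hM₀, hcard, hpow1] at h1
    exact Nat.eq_of_mul_eq_mul_right hp.out.pos h1
  obtain ⟨g, hg⟩ := IsCyclic.exists_ofOrder_eq_natCard (α := M₀)
  have hx : orderOf (g : P) = p ^ (n - 1) := by rw [Subgroup.orderOf_coe, hg, hM₀card]
  have h := mul_pow_of_cyclic_index_p hodd n hn hcard (g : P) hx
  have hΩ := card_ker_powHom n hn hcard hnc (g : P) hx h
  set Ω := (powHom p h).ker with hΩdef
  have hiff := isCyclic_index_p_iff n hn hcard h hΩ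
  have hΩne : Ω ≠ ⊤ := by
    intro ht
    have h1 : Nat.card Ω = Nat.card (⊤ : Subgroup P) := by rw [ht]
    rw [hΩ, Subgroup.card_top, hcard] at h1
    have : p ^ 2 < p ^ n := Nat.pow_lt_pow_right hp.out.one_lt (by omega)
    omega
  have hbne : (⊥ : Subgroup P) ≠ ⊤ := by
    intro hbt
    apply hΩne
    rw [← hbt]
    exact le_bot_iff.mp (hbt ▸ le_top)
  have c1 := card_index_p_ge_modEq_one hP (⊥ : Subgroup P) hbne
  have c2 := card_index_p_ge_modEq_one hP Ω hΩne
  have e1 : Nat.card {M : Subgroup P // M.index = p ∧ ⊥ ≤ M} =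
      Nat.card {M : Subgroup P // M.index = p} :=
    Nat.card_congr (Equiv.subtypeEquivRight fun M => by simp)
  have e2 : Nat.card {M : Subgroup P // M.index = p ∧ IsCyclic M} =
      Nat.card {M : Subgroup P // M.index = p ∧ ¬ Ω ≤ M} :=
    Nat.card_congr (Equiv.subtypeEquivRight fun M => by
      constructor
      · rintro ⟨h1, h2⟩; exact ⟨h1, (hiff M h1).mp h2⟩
      · rintro ⟨h1, h2⟩; exact ⟨h1, (hiff M h1).mpr h2⟩)
  have e3 : Nat.card {M : Subgroup P // M.index = p} =
      Nat.card {M : Subgroup P // M.index = p ∧ Ω ≤ M} +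
        Nat.card {M : Subgroup P // M.index = p ∧ ¬ Ω ≤ M} := by
    classical
    haveI : Fintype (Subgroup P) := Fintype.ofFinite _
    rw [Nat.card_eq_fintype_card, Nat.card_eq_fintype_card, Nat.card_eq_fintype_card,
      Fintype.card_subtype, Fintype.card_subtype, Fintype.card_subtype]
    rw [← Finset.card_union_of_disjoint]
    · congr 1
      ext M
      simp only [Finset.mem_filter, Finset.mem_univ, true_and, Finset.mem_union]
      tauto
    · rw [Finset.disjoint_filter]
      intro M _ h1 h2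
      exact h2.2 h1.2
  rw [e1, e3] at c1
  rw [e2]
  have : Nat.card {M : Subgroup P // M.index = p ∧ Ω ≤ M} +
      Nat.card {M : Subgroup P // M.index = p ∧ ¬ Ω ≤ M} ≡
      Nat.card {M : Subgroup P // M.index = p ∧ Ω ≤ M} + 0 [MOD p] := by
    rw [add_zero]
    exact c1.trans c2.symm
  exact (Nat.modEq_zero_iff_dvd).mp (Nat.ModEq.add_left_cancel' _ this)

end Cfsg.Agent.Helper20
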