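import Mathlib
import Cfsg.Agent.Helper20.KulC

set_option autoImplicit false

/-!
# Miller's theorem (helper20)

In a noncyclic `p`-group, `p` odd, the number of cyclic subgroups of order `p^k` (`k ≥ 2`) is
divisible by `p`.
-/

namespace Cfsg.Agent.Helper20

open Subgroup

universe u

/-- transfer between subgroups of `M` and subgroups of `P` contained in `M`. -/
def subgroupLeEquiv {P : Type*} [Group P] (M : Subgroup P) (Q : Subgroup P → Prop)
    (Q' : Subgroup M → Prop) (h1 : ∀ K' : Subgroup M, Q' K' → Q (K'.map M.subtype))
    (h2 : ∀ K : Subgroup P, K ≤ M → Q K → Q' (K.subgroupOf M)) :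
    {K : Subgroup P // Q K ∧ K ≤ M} ≃ {K' : Subgroup M // Q' K'} where
  toFun K := ⟨K.1.subgroupOf M, h2 K.1 K.2.2 K.2.1⟩
  invFun K' := ⟨K'.1.map M.subtype, h1 K'.1 K'.2, map_subtype_le K'.1⟩
  left_inv K := by
    apply Subtype.ext
    exact map_subgroupOf_eq_of_le K.2.2
  right_inv K' := by
    apply Subtype.ext
    exact comap_map_eq_self_of_injective M.subtype_injective K'.1

theorem isCyclic_map_subtype {P : Type*} [Group P] (M : Subgroup P) (K' : Subgroup M)
    (h : IsCyclic K') : IsCyclic (K'.map M.subtype) := by
  have e := equivMapOfInjective K' M.subtype M.subtype_injective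
  exact isCyclic_of_surjective e.toMonoidHom e.surjective

theorem card_map_subtype {P : Type*} [Group P] (M : Subgroup P) (K' : Subgroup M) :
    Nat.card (K'.map M.subtype) = Nat.card K' :=
  (Nat.card_congr (equivMapOfInjective K' M.subtype M.subtype_injective).toEquiv).symm

theorem isCyclic_subgroupOf {P : Type*} [Group P] (M K : Subgroup P) (hle : K ≤ M)
    (h : IsCyclic K) : IsCyclic (K.subgroupOf M) := by
  have e := (subgroupOfEquivOfLe hle).symm
  exact isCyclic_of_surjective e.toMonoidHom e.surjective

theorem card_subgroupOf_of_le {P : Type*} [Group P] (M K : Subgroup P) (hle : K ≤ M) :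
    Nat.card (K.subgroupOf M) = Nat.card K :=
  Nat.card_congr (subgroupOfEquivOfLe hle).toEquiv

/-- the count of cyclic subgroups of order `m` of `P` inside `M` equals that of `M`. -/
theorem card_cyclic_le_eq {P : Type*} [Group P] (M : Subgroup P) (m : ℕ) :
    Nat.card {K : Subgroup P // (IsCyclic K ∧ Nat.card K = m) ∧ K ≤ M} =
      Nat.card {K' : Subgroup M // IsCyclic K' ∧ Nat.card K' = m} :=
  Nat.card_congr (subgroupLeEquiv M _ _
    (fun K' h => ⟨isCyclic_map_subtype M K' h.1, (card_map_subtype M K').trans h.2⟩)
    (fun K hle h => ⟨isCyclic_subgroupOf M K hle h.1, (card_subgroupOf_of_le M K hle).trans h.2⟩))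

/-- **Miller**: number of cyclic subgroups of order `p^k`, `k ≥ 2`, in a noncyclic `p`-group,
`p` odd, is divisible by `p`. -/
theorem miller_aux {p : ℕ} [hp : Fact p.Prime] (hodd : p ≠ 2) (k : ℕ) (hk : 2 ≤ k) :
    ∀ (N : ℕ) (P : Type u) [Group P] [Finite P], Nat.card P = N → IsPGroup p P → ¬ IsCyclic P →
      p ∣ Nat.card {C : Subgroup P // IsCyclic C ∧ Nat.card C = p ^ k} := by
  intro N
  induction N using Nat.strong_induction_on with
  | _ N ih =>
    intro P _ _ hN hP hnc
    obtain ⟨n, hn⟩ := IsPGroup.iff_card.mp hP
    by_cases hkn : n ≤ k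
    · -- no such subgroups
      haveI : IsEmpty {C : Subgroup P // IsCyclic C ∧ Nat.card C = p ^ k} := by
        refine ⟨fun C => ?_⟩
        obtain ⟨C, hC, hCc⟩ := C
        have hd : p ^ k ∣ p ^ n := by rw [← hCc, ← hn]; exact Subgroup.card_subgroup_dvd_card C
        have hkn' : k ≤ n := (Nat.pow_dvd_pow_iff_le_right hp.out.one_lt).mp hd
        have hkeq : k = n := le_antisymm hkn' hkn
        have hCtop : C = ⊤ := Subgroup.eq_top_of_card_eq C (by rw [hCc, hkeq, hn])
        apply hnc
        rw [hCtop] at hC
        exact isCyclic_of_surjective (topEquiv (G := P)).toMonoidHom (topEquiv (G := P)).surjective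
      rw [Nat.card_of_isEmpty]
      exact dvd_zero p
    · have hn3 : 3 ≤ n := by omega
      have hen := enum_two hP (fun K => IsCyclic K ∧ Nat.card K = p ^ k)
        (fun K hK hKt => by
          apply hnc
          have h1 := hK.1
          rw [hKt] at h1
          exact isCyclic_of_surjective (topEquiv (G := P)).toMonoidHom
            (topEquiv (G := P)).surjective)
        (fun M => IsCyclic M) 1
        (fun M hM hMc => by
          rw [card_cyclic_le_eq M (p ^ k)]
          have hMcard : Nat.card M = p ^ (n - 1) := by
            have h1 := M.card_mul_index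
            have hpow1 : p ^ n = p ^ (n - 1) * p := by rw [← pow_succ]; congr 1; omega
            rw [hM, hn, hpow1] at h1
            exact Nat.eq_of_mul_eq_mul_right hp.out.pos h1
          have e : Nat.card {K' : Subgroup M // IsCyclic K' ∧ Nat.card K' = p ^ k} =
              Nat.card {K' : Subgroup M // Nat.card K' = p ^ k} :=
            Nat.card_congr (Equiv.subtypeEquivRight fun K' => by
              constructor
              · exact fun h => h.2
              · exact fun h => ⟨inferInstance, h⟩)
          rw [e]
          exact card_subgroups_prime_pow_modEq_one p k hp.out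
            (by rw [hMcard]; exact pow_dvd_pow p (by omega)))
        (fun M hM hMnc => by
          rw [card_cyclic_le_eq M (p ^ k)]
          have hlt : Nat.card M < N := by
            rw [← hN]
            have h1 := M.card_mul_index
            rw [hM] at h1
            have : 0 < Nat.card M := Nat.card_pos
            have hp2 := hp.out.two_le
            nlinarith
          exact (Nat.modEq_zero_iff_dvd).mpr (ih (Nat.card M) hlt M rfl (hP.to_subgroup M) hMnc))
      rw [one_mul] at hen
      have hC := card_cyclic_index_p_dvd hodd n hn3 hn hnc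
      exact (Nat.modEq_zero_iff_dvd).mp (hen.trans ((Nat.modEq_zero_iff_dvd).mpr hC))

theorem miller {p : ℕ} [hp : Fact p.Prime] (hodd : p ≠ 2) (k : ℕ) (hk : 2 ≤ k)
    {P : Type u} [Group P] [Finite P] (hP : IsPGroup p P) (hnc : ¬ IsCyclic P) :
    p ∣ Nat.card {C : Subgroup P // IsCyclic C ∧ Nat.card C = p ^ k} :=
  miller_aux hodd k hk (Nat.card P) P rfl hP hnc

end Cfsg.Agent.Helper20
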