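import Mathlib
import Cfsg.Agent.Helper20.KulA
import Cfsg.Agent.Helper9.HomCount

set_option autoImplicit false

/-!
# The number of index-`p` subgroups of a noncyclic `p`-group is `≡ 1 + p mod p^2` (helper20)
-/

namespace Cfsg.Agent.Helper20

open Subgroup

variable {P : Type*} [Group P] [Finite P] {p : ℕ} [hp : Fact p.Prime]

/-- the cyclic group of order `p`. -/
abbrev Zp (p : ℕ) := Multiplicative (ZMod p)

omit hp in
theorem card_Zp : Nat.card (Zp p) = p := by
  rw [Nat.card_congr (Multiplicative.toAdd : Zp p ≃ ZMod p), Nat.card_zmod]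

instance : Finite (P →* Zp p) :=
  Finite.of_injective (fun f => (f : P → Zp p)) DFunLike.coe_injective

theorem isPGroup_hom : IsPGroup p (P →* Zp p) := by
  intro f
  refine ⟨1, ?_⟩
  ext x
  rw [pow_one, MonoidHom.pow_apply]
  have := pow_card_eq_one' (G := Zp p) (x := f x)
  rw [card_Zp] at this
  rw [this]; rfl

/-- homs killing `M`, as a subgroup of the hom group. -/
def killing (p : ℕ) (M : Subgroup P) : Subgroup (P →* Zp p) where
  carrier := {f | M ≤ f.ker}
  one_mem' := by
    intro x _
    rw [MonoidHom.mem_ker]; rfl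
  mul_mem' := by
    intro f g hf hg x hx
    rw [MonoidHom.mem_ker, MonoidHom.mul_apply, (MonoidHom.mem_ker).mp (hf hx),
      (MonoidHom.mem_ker).mp (hg hx), one_mul]
  inv_mem' := by
    intro f hf x hx
    rw [MonoidHom.mem_ker, MonoidHom.inv_apply, (MonoidHom.mem_ker).mp (hf hx), inv_one]

theorem card_killing (hP : IsPGroup p P) {M : Subgroup P} (hM : M.index = p) :
    Nat.card (killing p M) = p := by
  haveI : M.Normal := normal_of_index_p hP hM
  have hle : Nat.card (killing p M) ≤ p := by
    have := Cfsg.Agent.Helper9.card_monoidHom_killing_le P (Zp p) (p := p) card_Zp M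
    rw [hM] at this
    exact this
  have hB : IsPGroup p (killing p M) := isPGroup_hom.to_subgroup _
  obtain ⟨j, hj⟩ := IsPGroup.iff_card.mp hB
  -- a nontrivial element
  have hc1 : Nat.card (P ⧸ M) = p := by rw [← Subgroup.index_eq_card]; exact hM
  let e := mulEquivOfPrimeCardEq (p := p) hc1 (card_Zp (p := p))
  let f₀ : P →* Zp p := e.toMonoidHom.comp (QuotientGroup.mk' M)
  have hker : f₀.ker = M := by
    ext x
    rw [MonoidHom.mem_ker]
    show e (QuotientGroup.mk' M x) = 1 ↔ x ∈ M
    rw [MulEquiv.map_eq_one_iff]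
    exact QuotientGroup.eq_one_iff x
  have hf₀ : f₀ ∈ killing p M := by
    show M ≤ f₀.ker
    rw [hker]
  have hne : f₀ ≠ 1 := by
    intro h1
    have : f₀.ker = ⊤ := by rw [h1]; exact MonoidHom.ker_one
    rw [hker] at this
    exact (isCoatom_of_index_p hM).1 this
  have hj0 : j ≠ 0 := by
    intro h0
    rw [h0, pow_zero] at hj
    have hsub := (Nat.card_eq_one_iff_unique.mp hj).1
    have := hsub.elim (⟨f₀, hf₀⟩ : killing p M) 1
    exact hne (congrArg Subtype.val this)
  rw [hj] at hle ⊢
  have hj1 : j ≤ 1 := by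
    by_contra hcon
    have h2 : 2 ≤ j := by omega
    have : p ^ 2 ≤ p ^ j := Nat.pow_le_pow_right hp.out.pos h2
    have h3 : p < p ^ 2 := by
      calc p = p ^ 1 := (pow_one p).symm
        _ < p ^ 2 := Nat.pow_lt_pow_right hp.out.one_lt (by norm_num)
    omega
  have : j = 1 := by omega
  rw [this, pow_one]

theorem card_ker_eq (hP : IsPGroup p P) {M : Subgroup P} (hM : M.index = p) :
    Nat.card {f : P →* Zp p // f.ker = M} = p - 1 := by
  classical
  have h1 := card_killing hP hM
  have e1 : {f : P →* Zp p // f.ker = M} ≃ {f : killing p M // f ≠ 1} :=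
    { toFun := fun f => ⟨⟨f.1, by show M ≤ f.1.ker; rw [f.2]⟩, by
        intro h
        have h2 : f.1 = 1 := congrArg Subtype.val h
        have : f.1.ker = ⊤ := by rw [h2]; exact MonoidHom.ker_one
        rw [f.2] at this
        exact (isCoatom_of_index_p hM).1 this⟩
      invFun := fun f => ⟨f.1.1, by
        have h2 : M ≤ f.1.1.ker := f.1.2
        rcases (isCoatom_of_index_p hM).le_iff.mp h2 with h3 | h3
        · exfalso
          apply f.2
          apply Subtype.ext
          ext x
          have : x ∈ f.1.1.ker := by rw [h3]; exact mem_top x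
          exact (MonoidHom.mem_ker).mp this
        · exact h3⟩
      left_inv := fun f => rfl
      right_inv := fun f => rfl }
  rw [Nat.card_congr e1]
  have e2 := Equiv.sumCompl (fun f : killing p M => f = 1)
  have h3 := Nat.card_congr e2
  rw [Nat.card_sum, h1] at h3
  have h4 : Nat.card {f : killing p M // f = 1} = 1 := by
    haveI : Unique {f : killing p M // f = 1} := ⟨⟨⟨1, rfl⟩⟩, fun f => Subtype.ext f.2⟩
    exact Nat.card_unique
  rw [h4] at h3
  have : Nat.card {f : killing p M // ¬ f = 1} = Nat.card {f : killing p M // f ≠ 1} := rfl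
  omega

/-- `(p - 1) * h + 1 = |Hom(P, C_p)|`. -/
theorem card_hom_eq (hP : IsPGroup p P) :
    Nat.card (P →* Zp p) = 1 + Nat.card {M : Subgroup P // M.index = p} * (p - 1) := by
  classical
  have e2 := Equiv.sumCompl (fun f : P →* Zp p => f = 1)
  have h3 := Nat.card_congr e2
  rw [Nat.card_sum] at h3
  have h4 : Nat.card {f : P →* Zp p // f = 1} = 1 := by
    haveI : Unique {f : P →* Zp p // f = 1} := ⟨⟨⟨1, rfl⟩⟩, fun f => Subtype.ext f.2⟩
    exact Nat.card_unique
  rw [h4] at h3
  rw [← h3]
  congr 1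
  -- nontrivial homs, fibred over their kernels
  have hidx : ∀ f : P →* Zp p, f ≠ 1 → f.ker.index = p := by
    intro f hf
    rw [Subgroup.index_ker]
    have hd : Nat.card f.range ∣ p := by
      have := Subgroup.card_subgroup_dvd_card f.range
      rwa [card_Zp] at this
    rcases (Nat.dvd_prime hp.out).mp hd with h | h
    · exfalso
      apply hf
      ext x
      have hb : f.range = ⊥ := Subgroup.card_eq_one.mp h
      have : f x ∈ f.range := ⟨x, rfl⟩
      rw [hb, Subgroup.mem_bot] at this
      exact this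
    · exact h
  let κ : {f : P →* Zp p // ¬ f = 1} → {M : Subgroup P // M.index = p} :=
    fun f => ⟨f.1.ker, hidx f.1 f.2⟩
  haveI : Fintype {M : Subgroup P // M.index = p} := Fintype.ofFinite _
  rw [← Nat.card_congr (Equiv.sigmaFiberEquiv κ), Nat.card_sigma]
  have hfib : ∀ M : {M : Subgroup P // M.index = p},
      Nat.card {f : {f : P →* Zp p // ¬ f = 1} // κ f = M} = p - 1 := by
    intro M
    rw [← card_ker_eq hP M.2]
    refine Nat.card_congr
      { toFun := fun f => ⟨f.1.1, congrArg Subtype.val f.2⟩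
        invFun := fun f => ⟨⟨f.1, ?_⟩, Subtype.ext f.2⟩
        left_inv := fun f => rfl
        right_inv := fun f => rfl }
    intro h1
    have : f.1.ker = ⊤ := by rw [h1]; exact MonoidHom.ker_one
    rw [f.2] at this
    exact (isCoatom_of_index_p M.2).1 this
  rw [Finset.sum_congr rfl (fun M _ => hfib M), Finset.sum_const, smul_eq_mul, Finset.card_univ,
    Nat.card_eq_fintype_card]

/-- **I1**: a noncyclic `p`-group has `≡ 1 + p mod p^2` subgroups of index `p`. -/
theorem card_index_p_modEq (hP : IsPGroup p P) (hnc : ¬ IsCyclic P) :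
    Nat.card {M : Subgroup P // M.index = p} ≡ 1 + p [MOD p ^ 2] := by
  set h := Nat.card {M : Subgroup P // M.index = p} with hh
  have h1 := card_hom_eq hP
  obtain ⟨d, hd⟩ := IsPGroup.iff_card.mp (isPGroup_hom (P := P) (p := p))
  rw [hd, ← hh] at h1
  -- h ≥ 2
  have hbne : (⊥ : Subgroup P) ≠ ⊤ := by
    intro hbt
    apply hnc
    haveI : Subsingleton P := Subgroup.subsingleton_iff.mp ⟨fun a b => by
      rw [eq_bot_iff.mpr (hbt ▸ le_top : a ≤ ⊥), eq_bot_iff.mpr (hbt ▸ le_top : b ≤ ⊥)]⟩
    exact isCyclic_of_subsingleton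
  obtain ⟨M₀, -, hM₀⟩ := exists_index_p_ge hP hbne
  have h2 : 2 ≤ h := by
    by_contra hcon
    apply hnc
    have hle : h ≤ 1 := by omega
    have hsub : Subsingleton {M : Subgroup P // M.index = p} :=
      (Finite.card_le_one_iff_subsingleton).mp hle
    refine isCyclic_of_unique_index_p hP M₀ hM₀ (fun L hL => ?_)
    have := hsub.elim (⟨L, hL⟩ : {M : Subgroup P // M.index = p}) ⟨M₀, hM₀⟩
    exact congrArg Subtype.val this
  have hp2 := hp.out.two_le
  have hd2 : 2 ≤ d := by
    by_contra hcon
    have hd1 : d ≤ 1 := by omega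
    have : p ^ d ≤ p ^ 1 := Nat.pow_le_pow_right hp.out.pos hd1
    rw [pow_one] at this
    have h3 : 2 * (p - 1) ≤ h * (p - 1) := Nat.mul_le_mul_right _ h2
    omega
  have hdvd : p ^ 2 ∣ p ^ d := pow_dvd_pow p hd2
  -- h (p-1) + 1 ≡ 0 ≡ (1+p)(p-1) + 1
  have hcop : (p ^ 2).gcd (p - 1) = 1 := by
    apply Nat.Coprime.pow_left
    rw [Nat.coprime_comm]
    have : p - 1 + 1 = p := by omega
    have h5 : Nat.Coprime (p - 1) (p - 1 + 1) := by simp
    rwa [this] at h5
  apply Nat.ModEq.cancel_right_of_coprime hcop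
  apply Nat.ModEq.add_left_cancel' 1
  rw [← h1]
  have h6 : 1 + (1 + p) * (p - 1) = p ^ 2 := by
    obtain ⟨q, rfl⟩ : ∃ q, p = q + 1 := ⟨p - 1, by omega⟩
    simp only [Nat.add_sub_cancel]
    ring
  rw [h6]
  exact ((Nat.modEq_zero_iff_dvd).mpr hdvd).trans ((Nat.modEq_zero_iff_dvd).mpr dvd_rfl).symm

end Cfsg.Agent.Helper20
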