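import Mathlib
import Cfsg.Agent.Helper20.KulB

set_option autoImplicit false

/-!
# Enumeration principle modulo `p^2`, pairs version (helper20)
-/

namespace Cfsg.Agent.Helper20

open Subgroup

variable {P : Type*} [Group P] [Finite P] {p : ℕ} [hp : Fact p.Prime]

omit hp in
theorem arith_pairs (hp1 : 1 < p) {m : ℕ} (h : m ≡ 1 [MOD p]) : 1 + (m * m - m) ≡ m [MOD p ^ 2] := by
  have hm1 : 1 ≤ m := by
    rcases Nat.eq_zero_or_pos m with h0 | h0
    · exfalso
      rw [h0] at h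
      have h3 : p ∣ 1 := (Nat.modEq_iff_dvd' (Nat.zero_le 1)).mp h
      have := Nat.dvd_one.mp h3
      omega
    · exact h0
  obtain ⟨t, ht⟩ := (Nat.modEq_iff_dvd' hm1).mp h.symm
  have h1 : m * m - m = m * (m - 1) := by rw [Nat.mul_sub_one]
  have hm : m = 1 + p * t := by omega
  rw [h1, ht]
  have h2 : 1 + m * (p * t) = m + p ^ 2 * (t * t) := by rw [hm]; ring
  rw [h2]
  have : m + p ^ 2 * (t * t) ≡ m + 0 [MOD p ^ 2] :=
    Nat.ModEq.add_left _ ((Nat.modEq_zero_iff_dvd).mpr (dvd_mul_right _ _))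
  rwa [add_zero] at this

omit hp in
theorem arith_offDiag (hp1 : 1 < p) {k : ℕ} (h : k ≡ 1 [MOD p]) : p ∣ k * k - k := by
  have hk1 : 1 ≤ k := by
    rcases Nat.eq_zero_or_pos k with h0 | h0
    · exfalso
      rw [h0] at h
      have h3 : p ∣ 1 := (Nat.modEq_iff_dvd' (Nat.zero_le 1)).mp h
      have := Nat.dvd_one.mp h3
      omega
    · exact h0
  obtain ⟨t, ht⟩ := (Nat.modEq_iff_dvd' hk1).mp h.symm
  have h1 : k * k - k = k * (k - 1) := by rw [Nat.mul_sub_one]
  rw [h1, ht]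
  exact ⟨k * t, by ring⟩

/-- enumeration principle mod `p^2`, pairs version. -/
theorem enum_pairs (hP : IsPGroup p P) [Fintype (Subgroup P)]
    [DecidableRel (α := Subgroup P) (· ≤ ·)] [DecidableEq (Subgroup P)]
    (Ks Ms : Finset (Subgroup P)) (hKs : ∀ K ∈ Ks, K ≠ ⊤)
    (hMs : ∀ M : Subgroup P, M ∈ Ms ↔ M.index = p) :
    Ks.card + ∑ q ∈ Ms.offDiag, (Ks.filter (· ≤ q.1 ⊓ q.2)).card ≡
      ∑ M ∈ Ms, (Ks.filter (· ≤ M)).card [MOD p ^ 2] := by
  have h1 : ∑ M ∈ Ms, (Ks.filter (· ≤ M)).card = ∑ K ∈ Ks, (Ms.filter (K ≤ ·)).card := by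
    have := Finset.sum_card_bipartiteAbove_eq_sum_card_bipartiteBelow (s := Ks) (t := Ms)
      (r := fun (K M : Subgroup P) => K ≤ M)
    unfold Finset.bipartiteAbove Finset.bipartiteBelow at this
    rw [← this]
  have h2 : ∑ q ∈ Ms.offDiag, (Ks.filter (· ≤ q.1 ⊓ q.2)).card =
      ∑ K ∈ Ks, (Ms.offDiag.filter (fun q => K ≤ q.1 ⊓ q.2)).card := by
    have := Finset.sum_card_bipartiteAbove_eq_sum_card_bipartiteBelow (s := Ks) (t := Ms.offDiag)
      (r := fun (K : Subgroup P) (q : Subgroup P × Subgroup P) => K ≤ q.1 ⊓ q.2)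
    unfold Finset.bipartiteAbove Finset.bipartiteBelow at this
    rw [← this]
  have h3 : ∀ K : Subgroup P, Ms.offDiag.filter (fun q => K ≤ q.1 ⊓ q.2) =
      (Ms.filter (K ≤ ·)).offDiag := by
    intro K
    ext q
    simp only [Finset.mem_filter, Finset.mem_offDiag, le_inf_iff]
    tauto
  rw [h1, h2]
  have h4 : Ks.card = ∑ K ∈ Ks, 1 := by rw [Finset.sum_const, smul_eq_mul, mul_one]
  rw [h4, ← Finset.sum_add_distrib]
  apply sum_modEq_of_forall
  intro K hK
  rw [h3, Finset.offDiag_card]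
  apply arith_pairs hp.out.one_lt
  have := card_index_p_ge_modEq_one hP K (hKs K hK)
  have e : Nat.card {M : Subgroup P // M.index = p ∧ K ≤ M} = (Ms.filter (K ≤ ·)).card := by
    rw [Nat.card_eq_fintype_card, Fintype.card_subtype]
    congr 1
    ext M
    simp only [Finset.mem_filter, Finset.mem_univ, true_and, hMs]
  rw [← e]; exact this

/-- the intersection of two distinct index-`p` subgroups has index `p^2`. -/
theorem index_inf_of_index_p (hP : IsPGroup p P) {M₁ M₂ : Subgroup P} (h1 : M₁.index = p)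
    (h2 : M₂.index = p) (hne : M₁ ≠ M₂) : (M₁ ⊓ M₂).index = p * p := by
  haveI := normal_of_index_p hP h1
  have hsup : M₂ ⊔ M₁ = ⊤ := by
    have hc1 := isCoatom_of_index_p h1
    have hc2 := isCoatom_of_index_p h2
    by_contra hcon
    have h3 : M₁ = M₂ ⊔ M₁ := by
      rcases hc1.le_iff.mp (le_sup_right : M₁ ≤ M₂ ⊔ M₁) with h | h
      · exact absurd h hcon
      · exact h.symm
    have h4 : M₂ ≤ M₁ := by rw [h3]; exact le_sup_left
    rcases hc2.le_iff.mp h4 with h | h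
    · exact hc1.1 h
    · exact hne h
  have h3 : (M₁ ⊓ M₂).relIndex M₂ = p := by
    rw [inf_relIndex_right, ← relIndex_sup_right, hsup, relIndex_top_right, h1]
  rw [← relIndex_mul_index (inf_le_right : M₁ ⊓ M₂ ≤ M₂), h3, h2]

/-- sum over ordered pairs of distinct index-`p` subgroups of a function `≡ 1 mod p` of the
intersection. -/
theorem sum_pairs_modEq (hP : IsPGroup p P) [Fintype (Subgroup P)]
    [DecidableRel (α := Subgroup P) (· ≤ ·)] [DecidableEq (Subgroup P)]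
    (Ms : Finset (Subgroup P)) (hMs : ∀ M : Subgroup P, M ∈ Ms ↔ M.index = p)
    (g : Subgroup P → ℕ) (hg : ∀ q ∈ Ms.offDiag, g (q.1 ⊓ q.2) ≡ 1 [MOD p]) :
    ∑ q ∈ Ms.offDiag, g (q.1 ⊓ q.2) ≡ Ms.offDiag.card [MOD p ^ 2] := by
  rw [Finset.sum_comp g (fun q : Subgroup P × Subgroup P => q.1 ⊓ q.2),
    Finset.card_eq_sum_card_image (fun q : Subgroup P × Subgroup P => q.1 ⊓ q.2) Ms.offDiag]
  apply sum_modEq_of_forall
  intro D hD
  obtain ⟨q₀, hq₀, rfl⟩ := Finset.mem_image.mp hD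
  have hq₀' := Finset.mem_offDiag.mp hq₀
  have hi1 := (hMs q₀.1).mp hq₀'.1
  have hi2 := (hMs q₀.2).mp hq₀'.2.1
  set D := q₀.1 ⊓ q₀.2 with hDdef
  have hDidx : D.index = p * p := index_inf_of_index_p hP hi1 hi2 hq₀'.2.2
  have hfib : Ms.offDiag.filter (fun q => q.1 ⊓ q.2 = D) = (Ms.filter (D ≤ ·)).offDiag := by
    ext q
    simp only [Finset.mem_filter, Finset.mem_offDiag]
    constructor
    · rintro ⟨⟨h1, h2, h3⟩, h4⟩
      exact ⟨⟨h1, h4 ▸ inf_le_left⟩, ⟨h2, h4 ▸ inf_le_right⟩, h3⟩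
    · rintro ⟨⟨h1, h1'⟩, ⟨h2, h2'⟩, h3⟩
      refine ⟨⟨h1, h2, h3⟩, ?_⟩
      have hle : D ≤ q.1 ⊓ q.2 := le_inf h1' h2'
      have hidx := index_inf_of_index_p hP ((hMs q.1).mp h1) ((hMs q.2).mp h2) h3
      symm
      apply Subgroup.eq_of_le_of_card_ge hle
      have e1 := D.card_mul_index
      have e2 := (q.1 ⊓ q.2).card_mul_index
      rw [hDidx] at e1
      rw [hidx, ← e1] at e2
      have hpp : 0 < p * p := Nat.mul_pos hp.out.pos hp.out.pos
      exact (Nat.eq_of_mul_eq_mul_right hpp e2).le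
  rw [hfib, Finset.offDiag_card, smul_eq_mul]
  have hDne : D ≠ ⊤ := by
    intro ht
    rw [ht, index_top] at hDidx
    have := hp.out.two_le
    nlinarith
  have hk : (Ms.filter (D ≤ ·)).card ≡ 1 [MOD p] := by
    have := card_index_p_ge_modEq_one hP D hDne
    have e : Nat.card {M : Subgroup P // M.index = p ∧ D ≤ M} = (Ms.filter (D ≤ ·)).card := by
      rw [Nat.card_eq_fintype_card, Fintype.card_subtype]
      congr 1
      ext M
      simp only [Finset.mem_filter, Finset.mem_univ, true_and, hMs]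
    rw [← e]; exact this
  obtain ⟨f', hf'⟩ := arith_offDiag hp.out.one_lt hk
  have hg1 := hg q₀ hq₀
  rw [← hDdef] at hg1
  have hg0 : 1 ≤ g D := by
    rcases Nat.eq_zero_or_pos (g D) with h0 | h0
    · exfalso
      rw [h0] at hg1
      have h3 : p ∣ 1 := (Nat.modEq_iff_dvd' (Nat.zero_le 1)).mp hg1
      have := Nat.dvd_one.mp h3
      have := hp.out.one_lt
      omega
    · exact h0
  obtain ⟨g', hg'⟩ := (Nat.modEq_iff_dvd' hg0).mp hg1.symm
  have hgD : g D = 1 + p * g' := by omega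
  rw [hf', hgD]
  have : p * f' * (1 + p * g') = p * f' + p ^ 2 * (f' * g') := by ring
  rw [this]
  have h5 : p * f' + p ^ 2 * (f' * g') ≡ p * f' + 0 [MOD p ^ 2] :=
    Nat.ModEq.add_left _ ((Nat.modEq_zero_iff_dvd).mpr (dvd_mul_right _ _))
  rwa [add_zero] at h5

end Cfsg.Agent.Helper20
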