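import Mathlib
import Cfsg.Agent.Helper20.KulD
import Cfsg.Agent.Helper20.KulG
import Cfsg.Agent.Helper20.KulH

set_option autoImplicit false

/-!
# Kulakoff's theorem for odd `p` (helper20)
-/

namespace Cfsg.Agent.Helper20

open Subgroup

universe u

/-- in a finite cyclic group, subgroups of the same order are equal. -/
theorem eq_of_card_eq_of_isCyclic {M : Type*} [Group M] [Finite M] [IsCyclic M]
    (H K : Subgroup M) (h : Nat.card H = Nat.card K) : H = K := by
  classical
  haveI : Fintype M := Fintype.ofFinite M
  set d := Nat.card H with hd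
  have hdpos : 0 < d := Nat.card_pos
  have hS := IsCyclic.card_pow_eq_one_le (α := M) hdpos
  have key : ∀ L : Subgroup M, Nat.card L = d →
      ∀ x : M, x ∈ L ↔ x ∈ Finset.univ.filter (fun a : M => a ^ d = 1) := by
    intro L hL
    have hsub : (L : Set M).toFinset ⊆ Finset.univ.filter (fun a : M => a ^ d = 1) := by
      intro x hx
      rw [Set.mem_toFinset] at hx
      rw [Finset.mem_filter]
      refine ⟨Finset.mem_univ _, ?_⟩
      have := pow_card_eq_one' (G := L) (x := ⟨x, hx⟩)
      rw [hL] at this
      exact congrArg Subtype.val this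
    have hcard : ((L : Set M).toFinset).card = d := by
      rw [Set.toFinset_card, ← Nat.card_eq_fintype_card]
      exact hL
    have heq := Finset.eq_of_subset_of_card_le hsub (by rw [hcard]; exact hS)
    intro x
    rw [← heq, Set.mem_toFinset]
    rfl
  ext x
  rw [key H rfl x, key K h.symm x]

/-- a finite cyclic group of order divisible by `p^a` has exactly one subgroup of order `p^a`. -/
theorem card_subgroups_cyclic {M : Type*} [Group M] [Finite M] [IsCyclic M] (p a : ℕ)
    [hp : Fact p.Prime] (hdvd : p ^ a ∣ Nat.card M) :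
    Nat.card {H : Subgroup M // Nat.card H = p ^ a} = 1 := by
  obtain ⟨K, hK⟩ := Sylow.exists_subgroup_card_pow_prime p hdvd
  haveI : Nonempty {H : Subgroup M // Nat.card H = p ^ a} := ⟨⟨K, hK⟩⟩
  haveI : Subsingleton {H : Subgroup M // Nat.card H = p ^ a} :=
    ⟨fun H₁ H₂ => Subtype.ext (eq_of_card_eq_of_isCyclic H₁.1 H₂.1 (H₁.2.trans H₂.2.symm))⟩
  exact Nat.card_unique

/-- transfer of the count of subgroups of given order below `M`. -/
theorem card_order_le_eq {P : Type*} [Group P] (M : Subgroup P) (m : ℕ) :
    Nat.card {K : Subgroup P // Nat.card K = m ∧ K ≤ M} =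
      Nat.card {K' : Subgroup M // Nat.card K' = m} :=
  Nat.card_congr (subgroupLeEquiv M _ _
    (fun K' h => (card_map_subtype M K').trans h)
    (fun K hle h => (card_subgroupOf_of_le M K hle).trans h))

theorem arith_h {p h : ℕ} (hp1 : 1 < p) (hh : h ≡ 1 + p [MOD p ^ 2]) :
    h * h - h ≡ p [MOD p ^ 2] := by
  have hlt : 1 + p < p ^ 2 := by nlinarith
  have h1 : h % p ^ 2 = 1 + p := by
    have := hh
    unfold Nat.ModEq at this
    rw [this, Nat.mod_eq_of_lt hlt]
  obtain ⟨u, hu⟩ : ∃ u, h = p ^ 2 * u + (1 + p) := ⟨h / p ^ 2, by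
    conv_lhs => rw [← Nat.div_add_mod h (p ^ 2), h1]⟩
  have h2 : h * h - h = h * (h - 1) := by rw [Nat.mul_sub_one]
  have h3 : h - 1 = p ^ 2 * u + p := by omega
  rw [h2, h3, hu]
  have : (p ^ 2 * u + (1 + p)) * (p ^ 2 * u + p) =
      p + p ^ 2 * (p ^ 2 * u * u + 2 * p * u + u + 1) := by ring
  rw [this]
  have h5 : p + p ^ 2 * (p ^ 2 * u * u + 2 * p * u + u + 1) ≡ p + 0 [MOD p ^ 2] :=
    Nat.ModEq.add_left _ ((Nat.modEq_zero_iff_dvd).mpr (dvd_mul_right _ _))
  rwa [add_zero] at h5

/-- **Kulakoff** for odd `p`. -/
theorem kulakoff_aux {p : ℕ} [hp : Fact p.Prime] (hodd : p ≠ 2) :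
    ∀ (N : ℕ) (P : Type u) [Group P] [Finite P], Nat.card P = N → ∀ n : ℕ, Nat.card P = p ^ n →
      ¬ IsCyclic P → ∀ a : ℕ, 1 ≤ a → a + 1 ≤ n →
      Nat.card {H : Subgroup P // Nat.card H = p ^ a} ≡ 1 + p [MOD p ^ 2] := by
  intro N
  induction N using Nat.strong_induction_on with
  | _ N ih =>
    intro P _ _ hN n hn hnc a ha1 han
    have hP : IsPGroup p P := IsPGroup.of_card hn
    have hI1 := card_index_p_modEq hP hnc
    have hidxcard : ∀ M : Subgroup P, M.index = p ↔ Nat.card M = p ^ (n - 1) := by
      intro M
      have h1 := M.card_mul_index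
      have hpow1 : p ^ n = p ^ (n - 1) * p := by rw [← pow_succ]; congr 1; omega
      rw [hn, hpow1] at h1
      constructor
      · intro hM
        rw [hM] at h1
        exact Nat.eq_of_mul_eq_mul_right hp.out.pos h1
      · intro hM
        rw [hM] at h1
        exact Nat.eq_of_mul_eq_mul_left (pow_pos hp.out.pos _) h1
    by_cases han' : a + 1 = n
    · -- subgroups of index p
      have : Nat.card {H : Subgroup P // Nat.card H = p ^ a} =
          Nat.card {M : Subgroup P // M.index = p} :=
        Nat.card_congr (Equiv.subtypeEquivRight fun M => by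
          rw [hidxcard M]
          have : n - 1 = a := by omega
          rw [this])
      rw [this]
      exact hI1
    · have hn3 : 3 ≤ n := by omega
      classical
      haveI : Fintype (Subgroup P) := Fintype.ofFinite _
      set Ks : Finset (Subgroup P) := Finset.univ.filter (fun K => Nat.card K = p ^ a) with hKs
      set Ms : Finset (Subgroup P) := Finset.univ.filter (fun M => M.index = p) with hMs
      have hMs' : ∀ M : Subgroup P, M ∈ Ms ↔ M.index = p := fun M => by simp [hMs]
      have hKne : ∀ K ∈ Ks, K ≠ ⊤ := by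
        intro K hK ht
        have h1 : Nat.card K = p ^ a := (Finset.mem_filter.mp hK).2
        rw [ht, Subgroup.card_top, hn] at h1
        have := Nat.pow_right_injective hp.out.two_le h1
        omega
      have hE2 := enum_pairs hP Ks Ms hKne hMs'
      have hcK : Nat.card {H : Subgroup P // Nat.card H = p ^ a} = Ks.card := by
        rw [Nat.card_eq_fintype_card, Fintype.card_subtype]
      have hcM : Nat.card {M : Subgroup P // M.index = p} = Ms.card := by
        rw [Nat.card_eq_fintype_card, Fintype.card_subtype]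
      have hcount : ∀ D : Subgroup P, (Ks.filter (· ≤ D)).card =
          Nat.card {K' : Subgroup D // Nat.card K' = p ^ a} := by
        intro D
        rw [← card_order_le_eq D (p ^ a), Nat.card_eq_fintype_card, Fintype.card_subtype]
        congr 1
        ext K
        simp [hKs]
      -- (i) the pairs sum
      have hpairs : ∑ q ∈ Ms.offDiag, (Ks.filter (· ≤ q.1 ⊓ q.2)).card ≡ p [MOD p ^ 2] := by
        have h1 := sum_pairs_modEq hP Ms hMs' (fun D => (Ks.filter (· ≤ D)).card) (by
          intro q hq
          have hq' := Finset.mem_offDiag.mp hq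
          have hidx := index_inf_of_index_p hP ((hMs' q.1).mp hq'.1) ((hMs' q.2).mp hq'.2.1)
            hq'.2.2
          rw [hcount]
          apply card_subgroups_prime_pow_modEq_one p a hp.out
          have e1 := (q.1 ⊓ q.2).card_mul_index
          rw [hidx, hn] at e1
          have hpow2 : p ^ n = p ^ (n - 2) * (p * p) := by
            rw [← pow_two, ← pow_add]; congr 1; omega
          rw [hpow2] at e1
          have hpp : 0 < p * p := Nat.mul_pos hp.out.pos hp.out.pos
          rw [Nat.eq_of_mul_eq_mul_right hpp e1]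
          exact pow_dvd_pow p (by omega))
        refine h1.trans ?_
        rw [Finset.offDiag_card]
        apply arith_h hp.out.one_lt
        rw [← hcM]; exact hI1
      -- (ii) the sum over maximal subgroups
      have hterm : ∀ M ∈ Ms, (Ks.filter (· ≤ M)).card ≡ (if IsCyclic M then 1 else 1 + p)
          [MOD p ^ 2] := by
        intro M hM
        have hMi := (hMs' M).mp hM
        have hMcard := (hidxcard M).mp hMi
        rw [hcount]
        by_cases hc : IsCyclic M
        · rw [if_pos hc]
          rw [card_subgroups_cyclic p a (by rw [hMcard]; exact pow_dvd_pow p (by omega))]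
        · rw [if_neg hc]
          have hlt : Nat.card M < N := by
            rw [← hN, hn, hMcard]
            exact Nat.pow_lt_pow_right hp.out.one_lt (by omega)
          exact ih (Nat.card M) hlt M rfl (n - 1) hMcard hc a ha1 (by omega)
      have hsum1 := sum_modEq_of_forall Ms _ _ (p ^ 2) hterm
      have hC := card_cyclic_index_p_dvd hodd n hn3 hn hnc
      have hcC : Nat.card {M : Subgroup P // M.index = p ∧ IsCyclic M} =
          (Ms.filter (fun M : Subgroup P => IsCyclic M)).card := by
        rw [Nat.card_eq_fintype_card, Fintype.card_subtype]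
        congr 1
        ext M
        simp [hMs]
      rw [hcC] at hC
      obtain ⟨c', hc'⟩ := hC
      have hsum2 : ∑ M ∈ Ms, (if IsCyclic M then 1 else 1 + p) +
          (Ms.filter (fun M : Subgroup P => IsCyclic M)).card * p = Ms.card * (1 + p) := by
        have h1 : (Ms.filter (fun M : Subgroup P => IsCyclic M)).card * p =
            ∑ M ∈ Ms, (if IsCyclic M then p else 0) := by
          rw [← Finset.sum_filter, Finset.sum_const, smul_eq_mul]
        rw [h1, ← Finset.sum_add_distrib]
        have h2 : ∀ M ∈ Ms, ((if IsCyclic M then 1 else 1 + p) + (if IsCyclic M then p else 0)) =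
            1 + p := by
          intro M _
          by_cases hc : IsCyclic M
          · rw [if_pos hc, if_pos hc]
          · rw [if_neg hc, if_neg hc, add_zero]
        rw [Finset.sum_congr rfl h2, Finset.sum_const, smul_eq_mul]
      have hsum3 : ∑ M ∈ Ms, (if IsCyclic M then 1 else 1 + p) ≡ (1 + p) + p [MOD p ^ 2] := by
        have h1 : Ms.card * (1 + p) ≡ (1 + p) * (1 + p) [MOD p ^ 2] := by
          rw [← hcM]; exact hI1.mul_right _
        have h2 : (1 + p) * (1 + p) = (1 + p) + p + p ^ 2 * 1 := by ring
        have h3 : (1 + p) + p + p ^ 2 * 1 ≡ (1 + p) + p + 0 [MOD p ^ 2] :=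
          Nat.ModEq.add_left _ ((Nat.modEq_zero_iff_dvd).mpr (dvd_mul_right _ _))
        rw [add_zero] at h3
        have h4 : (Ms.filter (fun M : Subgroup P => IsCyclic M)).card * p ≡ 0 [MOD p ^ 2] := by
          rw [hc']
          exact (Nat.modEq_zero_iff_dvd).mpr ⟨c', by ring⟩
        have h5 : ∑ M ∈ Ms, (if IsCyclic M then 1 else 1 + p) + 0 ≡ Ms.card * (1 + p)
            [MOD p ^ 2] := by
          rw [← hsum2]
          exact Nat.ModEq.add_left _ h4.symm
        rw [add_zero] at h5
        exact h5.trans (h1.trans (h2 ▸ h3))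
      -- (iii) combine
      rw [hcK]
      have hfinal : Ks.card + p ≡ (1 + p) + p [MOD p ^ 2] :=
        ((Nat.ModEq.add_left _ hpairs.symm).trans hE2).trans (hsum1.trans hsum3)
      exact Nat.ModEq.add_right_cancel' p hfinal

theorem kulakoff {p : ℕ} [hp : Fact p.Prime] (hodd : p ≠ 2) {P : Type u} [Group P] [Finite P]
    (n : ℕ) (hn : Nat.card P = p ^ n) (hnc : ¬ IsCyclic P) (a : ℕ) (ha1 : 1 ≤ a)
    (han : a + 1 ≤ n) :
    Nat.card {H : Subgroup P // Nat.card H = p ^ a} ≡ 1 + p [MOD p ^ 2] :=
  kulakoff_aux hodd (Nat.card P) P rfl n hn hnc a ha1 han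

end Cfsg.Agent.Helper20
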