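import Mathlib
import Cfsg.Agent.Helper27.BG15St
import Cfsg.Agent.Helper27.BG15A2
import Cfsg.Agent.Helper1.BG16C2
import Cfsg.Agent.Lead.Coprime3
import Cfsg.Agent.Lead.CoprimeAbelian
import Cfsg.Agent.S1446

/-!
# B&G Corollary 15.9(b): `|K|` is prime when `U ≠ 1`

Abstract form (`prime_of_frobenius_on_solvable`): a Frobenius-like group `U K` (kernel `U`, `K` acting
without fixed points on `U`), solvable of odd order, acting coprimely on a solvable group `N` which `U`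
does not centralize, with `K` acting in a prime manner on `N`, has `|K|` prime.  The proof applies
B&G Theorem 3.7 (`S1446`) to the abelian section `V / V'`, `V = [N, U]`.

Application (`card_K_prime_of_U_ne_bot`): in a minimal simple group of odd order, a maximal subgroup
`M = K U M_σ` with `K ≠ 1` and `U ≠ 1` has `|K|` prime (conditional on the frozen statements
S1350, S1353, S1363, S1430).
-/

set_option autoImplicit false
set_option linter.unusedSectionVars false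
set_option linter.unusedVariables false

namespace Cfsg.Agent.Helper20.BG15K

open Subgroup Cfsg.Agent.Lead Cfsg.Agent.Helper27.BG15
open scoped commutatorElement

universe u

section abstract

variable {X : Type u} [Group X] [Finite X]

/-- a solvable nontrivial subgroup is not contained in its derived subgroup -/
theorem not_le_commutator_self {V : Subgroup X} (hV : Group.IsSolvable V) (hV1 : V ≠ ⊥) :
    ¬ V ≤ ⁅V, V⁆ := by
  intro h
  have hnt : Nontrivial V := by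
    rw [← Subgroup.nontrivial_iff_ne_bot] at hV1  
    exact hV1
  have h1 : _root_.commutator V < ⊤ := Group.IsSolvable.commutator_lt_top_of_nontrivial V
  apply h1.ne
  rw [eq_top_iff]
  intro x _
  have hx : (x : X) ∈ ⁅V, V⁆ := h x.2
  rw [← Subgroup.map_subtype_commutator] at hx
  obtain ⟨y, hy, hyx⟩ := hx
  have : y = x := Subtype.ext hyx
  rw [← this]; exact hy

theorem prime_of_frobenius_on_solvable (U K N : Subgroup X)
    (hU1 : U ≠ ⊥) (hK1 : K ≠ ⊥)
    (hKU : K ≤ normalizer (U : Set X)) (hUN : U ≤ normalizer (N : Set X))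
    (hKN : K ≤ normalizer (N : Set X))
    (hfrob : ∀ k ∈ K, k ≠ 1 → U ⊓ centralizer ({k} : Set X) = ⊥)
    (hsolv : Group.IsSolvable ↥(U ⊔ K)) (hodd : Odd (Nat.card ↥(U ⊔ K)))
    (hNsolv : Group.IsSolvable N)
    (hcopUK : (Nat.card U).Coprime (Nat.card K))
    (hcop : (Nat.card ↥(U ⊔ K)).Coprime (Nat.card N))
    (hnc : ¬ U ≤ centralizer (N : Set X))
    (hpr : ∀ k ∈ K, k ≠ 1 → N ⊓ centralizer ({k} : Set X) = N ⊓ centralizer (K : Set X)) :
    (Nat.card K).Prime := by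
  have hcopUN : (Nat.card U).Coprime (Nat.card N) :=
    Nat.Coprime.coprime_dvd_left (card_dvd_of_le (le_sup_left : U ≤ U ⊔ K)) hcop
  have hcopKN : (Nat.card K).Coprime (Nat.card N) :=
    Nat.Coprime.coprime_dvd_left (card_dvd_of_le (le_sup_right : K ≤ U ⊔ K)) hcop
  -- V = [N, U]
  obtain ⟨V, hVdef⟩ : ∃ V : Subgroup X, V = ⁅N, U⁆ := ⟨_, rfl⟩
  have hVN : V ≤ N := hVdef ▸ commutator_le_of_le_normalizer hUN
  have hUV : U ≤ normalizer (V : Set X) := hVdef ▸ le_normalizer_commutator_right N U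
  have hKV : K ≤ normalizer (V : Set X) :=
    hVdef ▸ le_normalizer_commutator_of_le hKN hKU
  have hVV : ⁅V, U⁆ = V := by
    rw [hVdef]; exact coprime_commutator_commutator U N hUN hcopUN (Or.inr hNsolv)
  have hV1 : V ≠ ⊥ := by
    intro h
    apply hnc
    rw [hVdef, Subgroup.commutator_eq_bot_iff_le_centralizer] at h
    exact Subgroup.le_centralizer_iff.mp h
  have hVsolv : Group.IsSolvable V := isSolvable_of_le hVN hNsolv
  have hcopUV : (Nat.card U).Coprime (Nat.card V) :=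
    Nat.Coprime.coprime_dvd_right (card_dvd_of_le hVN) hcopUN
  have hcopKV : (Nat.card K).Coprime (Nat.card V) :=
    Nat.Coprime.coprime_dvd_right (card_dvd_of_le hVN) hcopKN
  -- Q₀ = V'
  obtain ⟨Q₀, hQdef⟩ : ∃ Q₀ : Subgroup X, Q₀ = ⁅V, V⁆ := ⟨_, rfl⟩
  have hQV : Q₀ ≤ V := hQdef ▸ commutator_le_of_le_normalizer le_normalizer
  have hVQ : V ≤ normalizer (Q₀ : Set X) := hQdef ▸ le_normalizer_commutator_left V V
  have hUQ : U ≤ normalizer (Q₀ : Set X) := hQdef ▸ le_normalizer_commutator_of_le hUV hUV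
  have hKQ : K ≤ normalizer (Q₀ : Set X) := hQdef ▸ le_normalizer_commutator_of_le hKV hKV
  have hVnQ : ¬ V ≤ Q₀ := hQdef ▸ not_le_commutator_self hVsolv hV1
  have hUQbot : U ⊓ Q₀ = ⊥ := by
    rw [← disjoint_iff]
    exact Subgroup.disjoint_of_coprime_natCard
      (Nat.Coprime.coprime_dvd_right (card_dvd_of_le hQV) hcopUV)
  have hKQbot : K ⊓ Q₀ = ⊥ := by
    rw [← disjoint_iff]
    exact Subgroup.disjoint_of_coprime_natCard
      (Nat.Coprime.coprime_dvd_right (card_dvd_of_le hQV) hcopKV)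
  -- images in the relative quotient
  have hbU1 : bar Q₀ U ≠ ⊥ := by
    intro h
    rw [bar_eq_bot_iff Q₀ U hUQ] at h
    apply hU1
    rw [eq_bot_iff, ← hUQbot]
    exact le_inf le_rfl h
  have hbK1 : bar Q₀ K ≠ ⊥ := by
    intro h
    rw [bar_eq_bot_iff Q₀ K hKQ] at h
    apply hK1
    rw [eq_bot_iff, ← hKQbot]
    exact le_inf le_rfl h
  have hbV1 : bar Q₀ V ≠ ⊥ := by
    intro h
    rw [bar_eq_bot_iff Q₀ V hVQ] at h
    exact hVnQ h
  have hcardK : Nat.card (bar Q₀ K) = Nat.card K :=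
    card_bar_of_inf_eq_bot Q₀ K hKQ (by rw [inf_comm]; exact hKQbot)
  have hbUK : bar Q₀ U ⊓ bar Q₀ K = ⊥ := by
    rw [← disjoint_iff]
    apply Subgroup.disjoint_of_coprime_natCard
    exact Nat.Coprime.coprime_dvd_left (card_bar_dvd Q₀ U)
      (Nat.Coprime.coprime_dvd_right (card_bar_dvd Q₀ K) hcopUK)
  have hbKU : bar Q₀ K ≤ normalizer ((bar Q₀ U : Subgroup (RelQ Q₀)) : Set (RelQ Q₀)) :=
    bar_le_normalizer_bar Q₀ hKU
  have hbfrob := bar_fpf Q₀ U K hUQ hKQ hKU hUQbot hfrob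
  have hsup : bar Q₀ U ⊔ bar Q₀ K ≤ bar Q₀ (U ⊔ K) := bar_sup_le Q₀ U K
  have hbsolv : Group.IsSolvable ↥(bar Q₀ U ⊔ bar Q₀ K) :=
    isSolvable_of_le hsup (isSolvable_bar Q₀ hsolv)
  have hdvd : Nat.card ↥(bar Q₀ U ⊔ bar Q₀ K) ∣ Nat.card ↥(U ⊔ K) :=
    (card_dvd_of_le hsup).trans (card_bar_dvd Q₀ (U ⊔ K))
  have hbodd : Odd (Nat.card ↥(bar Q₀ U ⊔ bar Q₀ K)) := by
    obtain ⟨c, hc⟩ := hdvd
    rw [hc] at hodd
    exact (Nat.odd_mul.mp hodd).1
  -- bar V is commutative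
  have hbVcomm : ∀ a ∈ bar Q₀ V, ∀ b ∈ bar Q₀ V, a * b = b * a := by
    intro a ha b hb
    obtain ⟨x, hxN, hxV, rfl⟩ := (mem_bar_iff Q₀ V a).mp ha
    obtain ⟨y, hyN, hyV, rfl⟩ := (mem_bar_iff Q₀ V b).mp hb
    rw [Cfsg.Agent.Helper27.BG15.relMk_commute_iff Q₀ x y hxN hyN, hQdef]
    have := commutator_mem_commutator hxV hyV
    rw [commutatorElement_def] at this
    exact this
  have hbVc : IsMulCommutative ↥(bar Q₀ V) :=
    ⟨⟨fun a b => Subtype.ext (hbVcomm a.1 a.2 b.1 b.2)⟩⟩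
  have hbVnil : Group.IsNilpotent ↥(bar Q₀ V) := by
    let _ : CommGroup ↥(bar Q₀ V) :=
      { (inferInstance : Group ↥(bar Q₀ V)) with
        mul_comm := fun a b => Subtype.ext (hbVcomm a.1 a.2 b.1 b.2) }
    exact CommGroup.isNilpotent
  have hbUV : bar Q₀ U ≤ normalizer ((bar Q₀ V : Subgroup (RelQ Q₀)) : Set (RelQ Q₀)) :=
    bar_le_normalizer_bar Q₀ hUV
  have hbKV : bar Q₀ K ≤ normalizer ((bar Q₀ V : Subgroup (RelQ Q₀)) : Set (RelQ Q₀)) :=
    bar_le_normalizer_bar Q₀ hKV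
  have hbcop : (Nat.card ↥(bar Q₀ U ⊔ bar Q₀ K)).Coprime (Nat.card (bar Q₀ V)) :=
    Nat.Coprime.coprime_dvd_left hdvd
      (Nat.Coprime.coprime_dvd_right ((card_bar_dvd Q₀ V).trans (card_dvd_of_le hVN)) hcop)
  -- [bar V, bar U] = bar V
  have hbcomm : bar Q₀ V ≤ ⁅bar Q₀ V, bar Q₀ U⁆ := by
    intro a ha
    obtain ⟨x, hxN, hxV, rfl⟩ := (mem_bar_iff Q₀ V a).mp ha
    have hxc : x ∈ ⁅V, U⁆ := by rw [hVV]; exact hxV
    clear ha
    revert hxN
    refine Subgroup.closure_induction (p := fun z _ => ∀ hz : z ∈ normalizer (Q₀ : Set X),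
      relMk Q₀ ⟨z, hz⟩ ∈ ⁅bar Q₀ V, bar Q₀ U⁆) ?_ ?_ ?_ ?_ hxc
    · rintro z ⟨v, hv, w, hw, rfl⟩ hz
      have e : (⟨⁅v, w⁆, hz⟩ : ↥(normalizer (Q₀ : Set X))) =
          ⁅(⟨v, hVQ hv⟩ : ↥(normalizer (Q₀ : Set X))), ⟨w, hUQ hw⟩⁆ := rfl
      rw [e, map_commutatorElement]
      exact commutator_mem_commutator (relMk_mem_bar Q₀ V (hVQ hv) hv)
        (relMk_mem_bar Q₀ U (hUQ hw) hw)
    · intro hz
      have e : (⟨1, hz⟩ : ↥(normalizer (Q₀ : Set X))) = 1 := rfl
      rw [e, map_one]; exact one_mem _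
    · intro a b ha hb iha ihb hz
      have haN : a ∈ normalizer (Q₀ : Set X) := by
        have : ⁅V, U⁆ ≤ normalizer (Q₀ : Set X) := by rw [hVV]; exact hVQ
        exact this ha
      have hbN : b ∈ normalizer (Q₀ : Set X) := by
        have : ⁅V, U⁆ ≤ normalizer (Q₀ : Set X) := by rw [hVV]; exact hVQ
        exact this hb
      have e : (⟨a * b, hz⟩ : ↥(normalizer (Q₀ : Set X))) = ⟨a, haN⟩ * ⟨b, hbN⟩ := rfl
      rw [e, map_mul]
      exact mul_mem (iha haN) (ihb hbN)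
    · intro a ha iha hz
      have haN : a ∈ normalizer (Q₀ : Set X) := by
        have : ⁅V, U⁆ ≤ normalizer (Q₀ : Set X) := by rw [hVV]; exact hVQ
        exact this ha
      have e : (⟨a⁻¹, hz⟩ : ↥(normalizer (Q₀ : Set X))) = ⟨a, haN⟩⁻¹ := rfl
      rw [e, map_inv]
      exact inv_mem (iha haN)
  have hbCU : bar Q₀ V ⊓ centralizer ((bar Q₀ U : Subgroup (RelQ Q₀)) : Set (RelQ Q₀)) = ⊥ := by
    have hcopb : (Nat.card (bar Q₀ U)).Coprime (Nat.card (bar Q₀ V)) :=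
      Nat.Coprime.coprime_dvd_left (card_bar_dvd Q₀ U)
        (Nat.Coprime.coprime_dvd_right (card_bar_dvd Q₀ V) hcopUV)
    have h1 := coprime_abelian_inf (bar Q₀ U) (bar Q₀ V) hbUV hcopb
    rw [eq_bot_iff]
    intro a ha
    rw [← h1]
    exact Subgroup.mem_inf.mpr ⟨ha, hbcomm (Subgroup.mem_inf.mp ha).1⟩
  -- prime action on bar V
  have hbpr : ∀ x ∈ bar Q₀ K, x ≠ 1 →
      bar Q₀ V ⊓ centralizer ({x} : Set (RelQ Q₀)) =
        bar Q₀ V ⊓ centralizer ((bar Q₀ K : Subgroup (RelQ Q₀)) : Set (RelQ Q₀)) := by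
    intro x hx hx1
    apply le_antisymm
    · intro a ha
      obtain ⟨haV, haC⟩ := Subgroup.mem_inf.mp ha
      refine Subgroup.mem_inf.mpr ⟨haV, ?_⟩
      obtain ⟨k, hkN, hkK, rfl⟩ := (mem_bar_iff Q₀ K x).mp hx
      obtain ⟨y, hyN, hyV, rfl⟩ := (mem_bar_iff Q₀ V a).mp haV
      have hk1 : k ≠ 1 := by
        intro h
        apply hx1
        subst h
        rw [relMk_eq_one_iff]; exact Q₀.one_mem
      -- lift y to a fixed point of k
      have hzk : zpowers k ≤ K := by rw [zpowers_le]; exact hkK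
      have hzV : zpowers k ≤ normalizer (V : Set X) := hzk.trans hKV
      have hzQ : zpowers k ≤ normalizer (Q₀ : Set X) := hzk.trans hKQ
      have hzcop : (Nat.card (zpowers k)).Coprime (Nat.card V) :=
        Nat.Coprime.coprime_dvd_left (card_dvd_of_le hzk) hcopKV
      have hc : relMk Q₀ ⟨y, hVQ hyV⟩ ∈
          centralizer ((bar Q₀ (zpowers k) : Subgroup (RelQ Q₀)) : Set (RelQ Q₀)) := by
        rw [mem_centralizer_iff]
        intro b hb
        obtain ⟨z, hzN, hzz, rfl⟩ := (mem_bar_iff Q₀ (zpowers k) b).mp hb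
        obtain ⟨n, rfl⟩ := mem_zpowers_iff.mp hzz
        have e : (⟨k ^ n, hzN⟩ : ↥(normalizer (Q₀ : Set X))) = ⟨k, hkN⟩ ^ n := rfl
        rw [e, map_zpow]
        rw [mem_centralizer_singleton_iff] at haC
        have hcomm : Commute (relMk Q₀ ⟨k, hkN⟩) (relMk Q₀ ⟨y, hyN⟩) := haC.symm
        exact (hcomm.zpow_left n).eq
      obtain ⟨c, hc, hyc⟩ := exists_fixed_of_bar_centralized (zpowers k) V Q₀ hzV hzcop
        (Or.inr hVsolv) hQV hVQ hzQ y hyV hc
      obtain ⟨hcV, hcC⟩ := Subgroup.mem_inf.mp hc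
      have hck : c ∈ N ⊓ centralizer ({k} : Set X) := by
        refine Subgroup.mem_inf.mpr ⟨hVN hcV, ?_⟩
        rw [mem_centralizer_singleton_iff]
        exact (mem_centralizer_iff.mp hcC k (mem_zpowers k)).symm
      rw [hpr k hkK hk1] at hck
      have hcK : c ∈ centralizer (K : Set X) := (Subgroup.mem_inf.mp hck).2
      -- relMk y = relMk c
      have hyceq : relMk Q₀ ⟨y, hyN⟩ = relMk Q₀ ⟨c, hVQ hcV⟩ := by
        have h1 : relMk Q₀ ⟨y⁻¹ * c, hVQ (V.mul_mem (V.inv_mem hyV) hcV)⟩ = 1 := by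
          rw [relMk_eq_one_iff]; exact hyc
        have e : (⟨y⁻¹ * c, hVQ (V.mul_mem (V.inv_mem hyV) hcV)⟩ : ↥(normalizer (Q₀ : Set X))) =
            ⟨y, hyN⟩⁻¹ * ⟨c, hVQ hcV⟩ := rfl
        rw [e, map_mul, map_inv, inv_mul_eq_one] at h1
        exact h1
      rw [hyceq, mem_centralizer_iff]
      intro b hb
      obtain ⟨k', hk'N, hk'K, rfl⟩ := (mem_bar_iff Q₀ K b).mp hb
      have hcomm : k' * c = c * k' := mem_centralizer_iff.mp hcK k' hk'K
      have e1 : (⟨k', hk'N⟩ : ↥(normalizer (Q₀ : Set X))) * ⟨c, hVQ hcV⟩ =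
          ⟨c, hVQ hcV⟩ * ⟨k', hk'N⟩ := Subtype.ext hcomm
      rw [← map_mul, ← map_mul, e1]
    · intro a ha
      obtain ⟨haV, haC⟩ := Subgroup.mem_inf.mp ha
      refine Subgroup.mem_inf.mpr ⟨haV, ?_⟩
      rw [mem_centralizer_singleton_iff]
      exact (mem_centralizer_iff.mp haC x hx).symm
  have key := Cfsg.Agent.S1446.result (bar Q₀ U) (bar Q₀ K) (bar Q₀ V) hbU1 hbK1 hbUK hbKU hbfrob
    hbsolv hbodd hbV1 hbVnil hbUV hbKV hbcop hbCU hbpr
  rw [← hcardK]
  exact key.1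

end abstract

section appl

variable {G : Type u} [Group G] [Finite G]

open Cfsg.Agent.H9.BG12 (sigmaCore_le le_normalizer_sigmaCore)
open Cfsg.Agent.Helper18.BG16B (K_le U_le)
open Cfsg.Agent.Helper1.BG16C (coprime_K_U coprime_sup_sigmaCore)

/-- a coatom of a simple group is self-normalizing on nontrivial subgroups it normalizes:
if `M ≤ N_G(U)` with `U ≠ 1`, `U ≤ M`, then `N_G(U) ≤ M` -/
theorem normalizer_le_of_le_normalizer (hG : Cfsg.IsMinSimpleOddOrder G) {M U : Subgroup G}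
    (hM : IsCoatom M) (hU1 : U ≠ ⊥) (hUM : U ≤ M) (h : M ≤ normalizer (U : Set G)) :
    normalizer (U : Set G) ≤ M := by
  by_contra hn
  have hlt : M < normalizer (U : Set G) := lt_of_le_of_ne h (fun e => hn (e ▸ le_rfl))
  have htop : normalizer (U : Set G) = ⊤ := hM.2 _ hlt
  have hUn : U.Normal := normalizer_eq_top_iff.mp htop
  have hs : IsSimpleGroup G := hG.2.1
  rcases hUn.eq_bot_or_eq_top with h1 | h1
  · exact hU1 h1
  · apply hM.1
    rw [eq_top_iff, ← h1]; exact hUM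

/-- **B&G Corollary 15.9(b)**: `|K|` is prime when `K ≠ 1` and `U ≠ 1` (conditional on the frozen
statements S1350, S1353, S1363, S1430). -/
theorem card_K_prime_of_U_ne_bot (hG : Cfsg.IsMinSimpleOddOrder G) (h1350 : St1350 G)
    (h1353 : St1353 G) (h1363 : St1363 G) (h1430 : St1430 G)
    {M : Subgroup G} (hM : IsCoatom M) {K U : Subgroup G}
    (hKU : Cfsg.IsSigmaDecomposition M K U) (hK1 : K ≠ ⊥) (hU1 : U ≠ ⊥) :
    (Nat.card K).Prime := by
  have hMsolv : Group.IsSolvable M := hG.2.2.2 M hM.1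
  have hUM : U ≤ M := U_le hKU
  have hKM : K ≤ M := K_le hKU
  have hUKM : U ⊔ K ≤ M := sup_le hUM hKM
  have hUN : U ≤ normalizer (Cfsg.sigmaCore M : Set G) := hUM.trans (le_normalizer_sigmaCore M)
  have hKN : K ≤ normalizer (Cfsg.sigmaCore M : Set G) := hKM.trans (le_normalizer_sigmaCore M)
  have hodd : Odd (Nat.card ↥(U ⊔ K)) := by
    have h1 : Nat.card ↥(U ⊔ K) ∣ Nat.card G := Subgroup.card_subgroup_dvd_card _
    exact Odd.of_dvd_nat hG.1 h1
  have hnc : ¬ U ≤ centralizer (Cfsg.sigmaCore M : Set G) := by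
    intro hc
    apply (h1363 M hM K U hKU hK1).2
    apply normalizer_le_of_le_normalizer hG hM hU1 hUM
    intro m hm
    obtain ⟨a, ha, b, hb, rfl⟩ := hKU.compl.2.2.2 m hm
    have hsc : Cfsg.sigmaCore M ≤ normalizer (U : Set G) :=
      (Subgroup.le_centralizer_iff.mp hc).trans (centralizer_le_normalizer _)
    have hb' : b ∈ normalizer (U : Set G) := (sup_le hKU.normal hsc) hb
    exact mul_mem (le_normalizer ha) hb'
  exact prime_of_frobenius_on_solvable U K (Cfsg.sigmaCore M) hU1 hK1 hKU.normal hUN hKN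
    (h1353 M hM K U hKU) (isSolvable_of_le hUKM hMsolv) hodd
    (isSolvable_of_le (sigmaCore_le M) hMsolv) (coprime_K_U hKU).symm
    (coprime_sup_sigmaCore hKU h1350 hM) hnc (h1430 M hM K hKU.hall hK1).1

/-- **S1373**, conditionally: `K ≠ 1`, `U = 1` ⇒ `|K*|` prime (via the partner `M*`, which then has
`U* ≠ 1`, and S1372 for `M*`). -/
theorem s1373_of (hG : Cfsg.IsMinSimpleOddOrder G) (h1351 : St1351 G) (h1352 : St1352 G)
    (h1354 : St1354 G) (h1366 : St1366 G) (h1369 : St1369 G) (h1372 : St1372 G) : St1373 G := by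
  intro M hM K U hKU hK1 hU
  obtain ⟨Mstar, ⟨hMs, hKst, hKstH⟩, -⟩ := h1366 M hM K U hKU hK1
  have hcyc : IsCyclic ↥(Cfsg.sigmaCore M ⊓ centralizer (K : Set G)) := (h1351 Mstar hMs).2 _ hKstH
  obtain ⟨⟨Ustar, hdec⟩, -⟩ := h1352 Mstar hMs _ hcyc hKstH
  have hKst1 : Cfsg.sigmaCore M ⊓ centralizer (K : Set G) ≠ ⊥ :=
    (h1354 M hM K hKU.cyclic hKU.hall).1
  have hUst1 : Ustar ≠ ⊥ := by
    rcases (h1369 M hM K U hKU hK1 Mstar hMs hKst hKstH).1 with h | h
    · exact absurd hU h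
    · exact h Ustar hdec
  exact (h1372 Mstar hMs _ Ustar hdec hKst1 hUst1).1

/-- first conjunct of S1372 from `card_K_prime_of_U_ne_bot`, for reference -/
theorem s1372_prime_of (hG : Cfsg.IsMinSimpleOddOrder G) (h1350 : St1350 G)
    (h1353 : St1353 G) (h1363 : St1363 G) (h1430 : St1430 G)
    (M : Subgroup G) (hM : IsCoatom M) (K U : Subgroup G)
    (hKU : Cfsg.IsSigmaDecomposition M K U) (hK1 : K ≠ ⊥) (hU1 : U ≠ ⊥) :
    (Nat.card K).Prime :=
  card_K_prime_of_U_ne_bot hG h1350 h1353 h1363 h1430 hM hKU hK1 hU1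

end appl

end Cfsg.Agent.Helper20.BG15K
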