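import Mathlib
import Cfsg.Agent.Helper20.BG15K

/-!
# S1373 directly from B&G Cor. 15.9(b) (no use of S1372)

`K ≠ 1`, `U = 1` ⇒ `|K*|` prime, via the partner `M*` (S1366), which then has `U* ≠ 1` (S1369), and
`card_K_prime_of_U_ne_bot` applied to `(M*, K*, U*)`.
-/

set_option autoImplicit false
set_option linter.unusedSectionVars false
set_option linter.unusedVariables false

open Subgroup
open Cfsg.Agent.Helper27.BG15

namespace Cfsg.Agent.Helper20.BG15K

variable {G : Type*} [Group G] [Finite G]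

/-- **S1373**, conditionally, *without* S1372. -/
theorem s1373_of' (hG : Cfsg.IsMinSimpleOddOrder G) (h1350 : St1350 G) (h1351 : St1351 G)
    (h1352 : St1352 G) (h1353 : St1353 G) (h1354 : St1354 G) (h1363 : St1363 G)
    (h1366 : St1366 G) (h1369 : St1369 G) (h1430 : St1430 G) : St1373 G := by
  intro M hM K U hKU hK1 hU
  obtain ⟨Mstar, ⟨hMs, hKst, hKstH⟩, -⟩ := h1366 M hM K U hKU hK1
  have hcyc : IsCyclic ↥(Cfsg.sigmaCore M ⊓ centralizer (K : Set G)) := (h1351 Mstar hMs).2 _ hKstH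
  obtain ⟨⟨Ustar, hdec⟩, -⟩ := h1352 Mstar hMs _ hcyc hKstH
  have hKst1 : Cfsg.sigmaCore M ⊓ centralizer (K : Set G) ≠ ⊥ :=
    (h1354 M hM K hKU.cyclic hKU.hall).1
  have hUst1 : Ustar ≠ ⊥ := by
    rcases (h1369 M hM K U hKU hK1 Mstar hMs hKst hKstH).1 with h | h
    · exact absurd hU h
    · exact h Ustar hdec
  exact card_K_prime_of_U_ne_bot hG h1350 h1353 h1363 h1430 hMs hdec hKst1 hUst1

end Cfsg.Agent.Helper20.BG15K
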