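import Mathlib
import Cfsg.Agent.Helper1.QP63Defs
import Cfsg.Agent.Helper25.QPAlpha
import Cfsg.Agent.Helper23.QP2IF
import Cfsg.Agent.Helper23.QPTRANS
import Cfsg.Agent.Helper9.Basic

set_option autoImplicit false
set_option linter.unusedVariables false

/-! s5063pieces PULLQS, core (helper20; injectivity RESINJ taken as a hypothesis): the pull-back of a quasisimple subgroup of the range of the restriction is quasisimple. -/

noncomputable section

namespace Cfsg.Agent.QP63

open Cfsg Cfsg.Agent.Helper25.QP Cfsg.Agent.Helper25.QuadPair Cfsg.Agent.QPP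

variable {k : Type*} [Field k] {M : Type*} [AddCommGroup M] [Module k M]

local notation "GLkM" => LinearMap.GeneralLinearGroup k M

/-- an injective hom restricts to an isomorphism from the preimage of a subgroup of its range -/
theorem PULLQS_aux_equiv {A B : Type*} [Group A] [Group B] (f : A →* B) (hf : Function.Injective f)
    {X : Subgroup B} (hX : X ≤ f.range) : Nonempty (↥(X.comap f) ≃* ↥X) := by
  let φ : ↥(X.comap f) →* ↥X := (f.comp (X.comap f).subtype).codRestrict X (fun c => c.2)
  refine ⟨MulEquiv.ofBijective φ ⟨?_, ?_⟩⟩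
  · intro c d hcd
    apply Subtype.ext
    apply hf
    exact congrArg Subtype.val hcd
  · intro x
    obtain ⟨c, hc⟩ := hX x.2
    exact ⟨⟨c, by rw [Subgroup.mem_comap, hc]; exact x.2⟩, Subtype.ext hc⟩

section pull
variable {G : Subgroup (LinearMap.GeneralLinearGroup k M)} {U : Submodule k M} (hU : Inv (C1 G) U)

theorem PULLQS_aux_core (hinj : Function.Injective (resHom (C1 G) U hU))
    {X : Subgroup (LinearMap.GeneralLinearGroup k ↥U)}
    (hX : X ≤ (resHom (C1 G) U hU).range) (hq : IsQuasisimple ↥X) :
    IsQuasisimple ↥(pull (C1 G) U hU X) := by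
  obtain ⟨e⟩ := PULLQS_aux_equiv (resHom (C1 G) U hU) hinj hX
  have e2 : ↥(X.comap (resHom (C1 G) U hU)) ≃* ↥(pull (C1 G) U hU X) :=
    (X.comap (resHom (C1 G) U hU)).equivMapOfInjective _ (Subgroup.subtype_injective (C1 G))
  exact Cfsg.Agent.Helper9.isQuasisimple_of_mulEquiv (e.symm.trans e2) hq

end pull

end Cfsg.Agent.QP63

end
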