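import Mathlib
import Cfsg.Agent.Helper1.QP63Defs
import Cfsg.Agent.Helper25.QPAlpha
import Cfsg.Agent.Helper23.QP2IF
import Cfsg.Agent.Helper23.QPTRANS
import Cfsg.Agent.Helper20.QP63PULLQSCore
import Cfsg.Agent.Helper29.QP63RESINJ

set_option autoImplicit false
set_option linter.unusedVariables false

/-! s5063pieces PULLQS (helper20): `PULLQS_aux_core` + `RESINJ`. -/

noncomputable section

namespace Cfsg.Agent.QP63

open Cfsg Cfsg.Agent.Helper25.QP Cfsg.Agent.Helper25.QuadPair Cfsg.Agent.QPP

variable {k : Type*} [Field k] {M : Type*} [AddCommGroup M] [Module k M]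

local notation "GLkM" => LinearMap.GeneralLinearGroup k M

section pull
variable {G : Subgroup (LinearMap.GeneralLinearGroup k M)} {U : Submodule k M} (hU : Inv (C1 G) U)

theorem PULLQS (hsum : Spans (G0 G) U) {X : Subgroup (LinearMap.GeneralLinearGroup k ↥U)}
    (hX : X ≤ (resHom (C1 G) U hU).range) (hq : IsQuasisimple ↥X) :
    IsQuasisimple ↥(pull (C1 G) U hU X) :=
  PULLQS_aux_core hU (RESINJ hU hsum) hX hq

end pull

end Cfsg.Agent.QP63

end
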