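import Mathlib
import Cfsg.Agent.Helper1.QP63Defs
import Cfsg.Agent.Helper25.QPAlpha
import Cfsg.Agent.Helper23.QP2IF
import Cfsg.Agent.Helper23.QPTRANS

set_option autoImplicit false
set_option linter.unusedVariables false

/-! s5063pieces RESPAIR, core (helper20; RESQ1 taken as a hypothesis): the restriction of `C₁` to a minimal invariant subspace is a
quadratic pair. -/

noncomputable section

namespace Cfsg.Agent.QP63

open Cfsg Cfsg.Agent.Helper25.QP Cfsg.Agent.Helper25.QuadPair Cfsg.Agent.QPP

variable {k : Type*} [Field k] {M : Type*} [AddCommGroup M] [Module k M]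

local notation "GLkM" => LinearMap.GeneralLinearGroup k M

/-- irreducibility of the restriction to a minimal invariant subspace -/
theorem RESPAIR_aux_irr {H : Subgroup GLkM} {U : Submodule k M} (hU : MinInv H U) :
    IsIrreducibleFor (resHom H U hU.2.1).range := by
  obtain ⟨hne, hinv, hmin⟩ := hU
  refine ⟨?_, ?_⟩
  · obtain ⟨u, huU, hu0⟩ := (Submodule.ne_bot_iff U).mp hne
    exact ⟨⟨u, huU⟩, fun h => hu0 (congrArg Subtype.val h)⟩
  · intro W' hW'
    have hle : W'.map U.subtype ≤ U := by
      rintro _ ⟨w, _, rfl⟩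
      exact w.2
    have hI : Inv H (W'.map U.subtype) := by
      rintro c hc _ ⟨w, hw, rfl⟩
      refine ⟨(resHom H U hinv ⟨c, hc⟩ : Module.End k ↥U) w, ?_, ?_⟩
      · exact hW' _ ⟨⟨c, hc⟩, rfl⟩ w hw
      · rfl
    rcases hmin _ hle hI with h0 | h1
    · left
      apply Submodule.map_injective_of_injective U.injective_subtype
      rw [h0, Submodule.map_bot]
    · right
      apply Submodule.map_injective_of_injective U.injective_subtype
      rw [h1, Submodule.map_subtype_top]

/-- RESPAIR with RESQ1 as a hypothesis -/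
theorem RESPAIR_aux_core {G : Subgroup GLkM} {U : Submodule k M} (hU : MinInv (C1 G) U)
    (hq1 : ∀ σ (hσ : σ ∈ QC G), resHom (C1 G) U hU.2.1 ⟨σ, Subgroup.subset_closure hσ⟩ ∈
      quadraticElements (resHom (C1 G) U hU.2.1).range) :
    IsQuadraticPair (resHom (C1 G) U hU.2.1).range := by
  refine ⟨RESPAIR_aux_irr hU, ?_⟩
  apply le_antisymm
  · rw [Subgroup.closure_le]
    intro x hx
    exact hx.1
  · have htop : (⊤ : Subgroup ↥(C1 G)) = Subgroup.closure (((↑) : ↥(C1 G) → GLkM) ⁻¹' (QC G)) :=
      (Subgroup.closure_closure_coe_preimage (k := QC G)).symm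
    have hle : (⊤ : Subgroup ↥(C1 G)) ≤
        (Subgroup.closure (quadraticElements (resHom (C1 G) U hU.2.1).range)).comap
          (resHom (C1 G) U hU.2.1) := by
      rw [htop, Subgroup.closure_le]
      intro c hc
      exact Subgroup.subset_closure (hq1 (c : GLkM) hc)
    rintro _ ⟨c, rfl⟩
    exact hle (Subgroup.mem_top c)

end Cfsg.Agent.QP63

end
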