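import Mathlib
import Cfsg.Agent.Helper1.QP63Defs
import Cfsg.Agent.Helper25.QPAlpha
import Cfsg.Agent.Helper23.QP2IF
import Cfsg.Agent.Helper23.QPTRANS
import Cfsg.Agent.Helper20.QP63RESPAIRCore
import Cfsg.Agent.Helper29.QP63RESQ1

set_option autoImplicit false
set_option linter.unusedVariables false

/-! s5063pieces RESPAIR (helper20): `RESPAIR_aux_core` + `RESQ1`. -/

noncomputable section

namespace Cfsg.Agent.QP63

open Cfsg Cfsg.Agent.Helper25.QP Cfsg.Agent.Helper25.QuadPair Cfsg.Agent.QPP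

variable {k : Type*} [Field k] {M : Type*} [AddCommGroup M] [Module k M]

local notation "GLkM" => LinearMap.GeneralLinearGroup k M

theorem RESPAIR {G : Subgroup GLkM} {U : Submodule k M} (hU : MinInv (C1 G) U)
    (hsum : Spans (G0 G) U) : IsQuadraticPair (resHom (C1 G) U hU.2.1).range :=
  RESPAIR_aux_core hU (fun σ hσ => RESQ1 hU.2.1 hsum hσ)

end Cfsg.Agent.QP63

end
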