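import Mathlib
import Cfsg.Agent.Helper25.QPDefs2
import Cfsg.Agent.Helper25.QPAct
import Cfsg.Agent.Helper25.UnipAlg
import Cfsg.Agent.Helper4.QPROOT
import Cfsg.Agent.Helper15.QPFIXC
import Cfsg.Agent.Helper18.QP2RS

set_option autoImplicit false

/-! Board `s5068pieces`, piece COMMF: the commutator formula
`[1+x, 1+y] - 1 = x y - y x` when `x² = y² = x y x = y x y = 0`. -/

noncomputable section

universe u v

namespace Cfsg.Agent.QP68

open Cfsg Cfsg.Agent.Helper25.QP Cfsg.Agent.Helper25.QuadPair Cfsg.Agent.QPP Cfsg.Agent.Helper25.Unip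

variable {k : Type u} [Field k] {M : Type v} [AddCommGroup M] [Module k M]

local notation "GLkM" => LinearMap.GeneralLinearGroup k M

/-- the ring identity behind `COMMF` -/
theorem COMMF_aux_ring {R : Type*} [Ring R] {x y : R} (hx : x * x = 0) (hy : y * y = 0)
    (h1 : x * y * x = 0) (h2 : y * x * y = 0) :
    (1 + x) * (1 + y) * (1 - x) * (1 - y) - 1 = x * y - y * x := by
  have e : (1 + x) * (1 + y) * (1 - x) * (1 - y) - 1
      = x * y - y * x - x * x - y * y + (x * x) * y + y * x * y - x * y * x - x * (y * y)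
        + (x * y * x) * y := by
    noncomm_ring
  rw [e, hx, hy, h1, h2]
  simp

theorem COMMF {e f : GLkM}
    (hx : ((e : Module.End k M) - 1) * ((e : Module.End k M) - 1) = 0)
    (hy : ((f : Module.End k M) - 1) * ((f : Module.End k M) - 1) = 0)
    (h1 : ((e : Module.End k M) - 1) * ((f : Module.End k M) - 1) * ((e : Module.End k M) - 1) = 0)
    (h2 : ((f : Module.End k M) - 1) * ((e : Module.End k M) - 1) * ((f : Module.End k M) - 1) = 0) :
    ((e * f * e⁻¹ * f⁻¹ : GLkM) : Module.End k M) - 1 =
      ((e : Module.End k M) - 1) * ((f : Module.End k M) - 1)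
        - ((f : Module.End k M) - 1) * ((e : Module.End k M) - 1) := by
  rw [Units.val_mul, Units.val_mul, Units.val_mul, val_inv_of_sq_zero hx, val_inv_of_sq_zero hy]
  have he : (e : Module.End k M) = 1 + ((e : Module.End k M) - 1) := by abel
  have hf : (f : Module.End k M) = 1 + ((f : Module.End k M) - 1) := by abel
  generalize ((e : Module.End k M) - 1) = x at *
  generalize ((f : Module.End k M) - 1) = y at *
  rw [he, hf]
  exact COMMF_aux_ring hx hy h1 h2

end Cfsg.Agent.QP68

end
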