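import Mathlib
import Cfsg.Agent.Helper25.QPSwap
import Cfsg.Agent.Helper18.SL2Ext5
import Cfsg.Agent.Helper19.QPFIT

set_option autoImplicit false
set_option linter.unusedSectionVars false
set_option linter.unusedVariables false

/-! Piece IDEM of the board `qppieces`: the structure of `M₁ = A₁ ⊕ B₁`. -/

noncomputable section

namespace Cfsg.Agent.QPP

open Cfsg Cfsg.Agent.Helper25.QP Cfsg.Agent.Helper25.QuadPair Polynomial

variable {k : Type*} [Field k] {M : Type*} [AddCommGroup M] [Module k M]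

local notation "GLkM" => LinearMap.GeneralLinearGroup k M

theorem IDEM_aux_zz_comm (a b : Module.End k M) : zz b a = zz a b := by
  unfold zz; rw [add_comm]

theorem IDEM_aux_M1_comm (a b : Module.End k M) : M1 b a = M1 a b := by
  unfold M1; rw [IDEM_aux_zz_comm]

theorem IDEM_aux_M0_comm (a b : Module.End k M) : M0 b a = M0 a b := by
  unfold M0; rw [IDEM_aux_zz_comm]

theorem IDEM_aux_A1_comm (a b : Module.End k M) : A1 b a = B1 a b := by
  unfold A1 B1; rw [IDEM_aux_M1_comm]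

theorem IDEM_aux_B1_comm (a b : Module.End k M) : B1 b a = A1 a b := by
  unfold A1 B1; rw [IDEM_aux_M1_comm]

theorem IDEM_aux_comm_a (a b : Module.End k M) (ha : a * a = 0) : Commute a (zz a b) :=
  (zz_mul_a ha).symm

theorem IDEM_aux_comm_b (a b : Module.End k M) (hb : b * b = 0) : Commute b (zz a b) :=
  (zz_mul_b hb).symm

theorem IDEM_aux_zz_apply (a b : Module.End k M) (m : M) : zz a b m = a (b m) + b (a m) := rfl

/-- `a` maps `M₁` into `A₁` -/
theorem IDEM_aux_a_mem (a b : Module.End k M) (ha : a * a = 0) :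
    ∀ m ∈ M1 a b, a m ∈ A1 a b := by
  intro m hm
  refine Submodule.mem_inf.mpr ⟨FIT_inv1 (zz a b) a (IDEM_aux_comm_a a b ha) m hm, ?_⟩
  rw [LinearMap.mem_ker, ← Module.End.mul_apply, ha, LinearMap.zero_apply]

/-- every element of `A₁` is `a (b m')` with `m' ∈ A₁` -/
theorem IDEM_aux_A1_rep [FiniteDimensional k M] (a b : Module.End k M) (ha : a * a = 0)
    (hb : b * b = 0) : ∀ m ∈ A1 a b, ∃ m' ∈ A1 a b, a (b m') = m ∧ b m' ∈ B1 a b := by
  intro m hm
  obtain ⟨hm1, hma⟩ := Submodule.mem_inf.mp hm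
  rw [LinearMap.mem_ker] at hma
  obtain ⟨m', hm', hz⟩ := FIT_surj (zz a b) m hm1
  have ham' : a m' = 0 := by
    apply FIT_inj (zz a b) (a m') (FIT_inv1 (zz a b) a (IDEM_aux_comm_a a b ha) m' hm')
    have h1 : zz a b (a m') = a (zz a b m') := by
      rw [← Module.End.mul_apply, ← Module.End.mul_apply, zz_mul_a ha]
    rw [h1, hz, hma]
  have hbm' : b m' ∈ M1 a b := FIT_inv1 (zz a b) b (IDEM_aux_comm_b a b hb) m' hm'
  refine ⟨m', Submodule.mem_inf.mpr ⟨hm', LinearMap.mem_ker.mpr ham'⟩, ?_,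
    Submodule.mem_inf.mpr ⟨hbm', ?_⟩⟩
  · rw [← hz, IDEM_aux_zz_apply, ham', map_zero, add_zero]
  · rw [LinearMap.mem_ker, ← Module.End.mul_apply, hb, LinearMap.zero_apply]

section idem
variable [FiniteDimensional k M] (a b : Module.End k M) (ha : a * a = 0) (hb : b * b = 0)
include ha hb

theorem IDEM_mapa : (M1 a b).map a = A1 a b := by
  apply le_antisymm
  · rintro _ ⟨m, hm, rfl⟩
    exact IDEM_aux_a_mem a b ha m hm
  · intro m hm
    obtain ⟨m', hm', h1, h2⟩ := IDEM_aux_A1_rep a b ha hb m hm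
    exact ⟨b m', (Submodule.mem_inf.mp h2).1, h1⟩

theorem IDEM_mapb : (M1 a b).map b = B1 a b := by
  have := IDEM_mapa b a hb ha
  rwa [IDEM_aux_M1_comm a b, IDEM_aux_A1_comm a b] at this

theorem IDEM_inf : A1 a b ⊓ B1 a b = ⊥ := by
  rw [eq_bot_iff]
  intro m hm
  obtain ⟨hA, hB⟩ := Submodule.mem_inf.mp hm
  obtain ⟨hm1, hma⟩ := Submodule.mem_inf.mp hA
  obtain ⟨_, hmb⟩ := Submodule.mem_inf.mp hB
  rw [LinearMap.mem_ker] at hma hmb
  rw [Submodule.mem_bot]
  apply FIT_inj (zz a b) m hm1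
  rw [IDEM_aux_zz_apply, hma, hmb, map_zero, map_zero, add_zero]

theorem IDEM_sup : A1 a b ⊔ B1 a b = M1 a b := by
  apply le_antisymm
  · exact sup_le inf_le_left inf_le_left
  · intro m hm
    obtain ⟨m', hm', hz⟩ := FIT_surj (zz a b) m hm
    rw [← hz, IDEM_aux_zz_apply]
    apply Submodule.add_mem_sup
    · exact IDEM_aux_a_mem a b ha _ (FIT_inv1 (zz a b) b (IDEM_aux_comm_b a b hb) m' hm')
    · have := IDEM_aux_a_mem b a hb (a m') (by
        rw [IDEM_aux_M1_comm]
        exact FIT_inv1 (zz a b) a (IDEM_aux_comm_a a b ha) m' hm')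
      rwa [IDEM_aux_A1_comm] at this

theorem IDEM_a_B1 : (B1 a b).map a = A1 a b := by
  apply le_antisymm
  · rintro _ ⟨m, hm, rfl⟩
    exact IDEM_aux_a_mem a b ha m (Submodule.mem_inf.mp hm).1
  · intro m hm
    obtain ⟨m', hm', h1, h2⟩ := IDEM_aux_A1_rep a b ha hb m hm
    exact ⟨b m', h2, h1⟩

theorem IDEM_b_A1 : (A1 a b).map b = B1 a b := by
  have := IDEM_a_B1 b a hb ha
  rwa [IDEM_aux_B1_comm a b, IDEM_aux_A1_comm a b] at this

theorem IDEM_finrank : Module.finrank k (A1 a b) = Module.finrank k (B1 a b) := by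
  apply le_antisymm
  · have := Submodule.finrank_map_le a (B1 a b)
    rwa [IDEM_a_B1 a b ha hb] at this
  · have := Submodule.finrank_map_le b (A1 a b)
    rwa [IDEM_b_A1 a b ha hb] at this

theorem IDEM_rank_a :
    Module.finrank k (LinearMap.range a) = Module.finrank k (A1 a b) + Module.finrank k ((M0 a b).map a) := by
  have hc := FIT_compl (zz a b)
  have h1 : LinearMap.range a = (M0 a b).map a ⊔ (M1 a b).map a := by
    rw [← Submodule.map_sup, ← Submodule.map_top]
    congr 1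
    exact hc.sup_eq_top.symm
  have h2 : (M0 a b).map a ⊓ (M1 a b).map a = ⊥ := by
    rw [eq_bot_iff]
    refine le_trans (inf_le_inf ?_ ?_) (le_of_eq hc.inf_eq_bot)
    · rintro _ ⟨m, hm, rfl⟩
      exact FIT_inv0 (zz a b) a (IDEM_aux_comm_a a b ha) m hm
    · rintro _ ⟨m, hm, rfl⟩
      exact FIT_inv1 (zz a b) a (IDEM_aux_comm_a a b ha) m hm
  have h3 := Submodule.finrank_sup_add_finrank_inf_eq ((M0 a b).map a) ((M1 a b).map a)
  rw [h2, finrank_bot, add_zero, ← h1, IDEM_mapa a b ha hb] at h3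
  rw [h3, add_comm]

theorem IDEM_rank_b :
    Module.finrank k (LinearMap.range b) = Module.finrank k (B1 a b) + Module.finrank k ((M0 a b).map b) := by
  have := IDEM_rank_a b a hb ha
  rwa [IDEM_aux_A1_comm a b, IDEM_aux_M0_comm a b] at this
end idem

end Cfsg.Agent.QPP

end
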