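import Mathlib
import Cfsg.Agent.Helper25.QPSwap
import Cfsg.Agent.Helper18.SL2Ext5
import Cfsg.Agent.Helper19.QPFIT

set_option autoImplicit false
set_option linter.unusedSectionVars false
set_option linter.unusedVariables false

/-! Piece FLAG of the board `qppieces`: an `a`,`b`-stable flag of `M₀` on which `a` and `b` act
strictly triangularly. -/

noncomputable section

namespace Cfsg.Agent.QPP

open Cfsg Cfsg.Agent.Helper25.QP Cfsg.Agent.Helper25.QuadPair Polynomial

variable {k : Type*} [Field k] {M : Type*} [AddCommGroup M] [Module k M]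

local notation "GLkM" => LinearMap.GeneralLinearGroup k M

/-- the flag `V 0 = ⊥`, `V (i+1) = M₀ ∩ a⁻¹(V i) ∩ b⁻¹(V i)` -/
def FLAG_aux_V (a b : Module.End k M) : ℕ → Submodule k M
  | 0 => ⊥
  | (i + 1) => M0 a b ⊓ (FLAG_aux_V a b i).comap a ⊓ (FLAG_aux_V a b i).comap b

theorem FLAG_aux_V_zero (a b : Module.End k M) : FLAG_aux_V a b 0 = ⊥ := rfl

theorem FLAG_aux_V_succ (a b : Module.End k M) (i : ℕ) :
    FLAG_aux_V a b (i + 1) = M0 a b ⊓ (FLAG_aux_V a b i).comap a ⊓ (FLAG_aux_V a b i).comap b := rfl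

theorem FLAG_aux_mem_succ (a b : Module.End k M) (i : ℕ) (m : M) :
    m ∈ FLAG_aux_V a b (i + 1) ↔ m ∈ M0 a b ∧ a m ∈ FLAG_aux_V a b i ∧ b m ∈ FLAG_aux_V a b i := by
  rw [FLAG_aux_V_succ, Submodule.mem_inf, Submodule.mem_inf, Submodule.mem_comap, Submodule.mem_comap,
    and_assoc]

theorem FLAG_aux_le_M0 (a b : Module.End k M) (i : ℕ) : FLAG_aux_V a b i ≤ M0 a b := by
  cases i with
  | zero => exact bot_le
  | succ i => exact le_trans inf_le_left inf_le_left

theorem FLAG_aux_le_succ (a b : Module.End k M) (i : ℕ) : FLAG_aux_V a b i ≤ FLAG_aux_V a b (i + 1) := by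
  induction i with
  | zero => exact bot_le
  | succ i ih =>
    rw [FLAG_aux_V_succ a b (i + 1), FLAG_aux_V_succ a b i]
    exact inf_le_inf (inf_le_inf le_rfl (Submodule.comap_mono ih)) (Submodule.comap_mono ih)

theorem FLAG_aux_mono (a b : Module.End k M) : Monotone (FLAG_aux_V a b) :=
  monotone_nat_of_le_succ (FLAG_aux_le_succ a b)

theorem FLAG_aux_map_a (a b : Module.End k M) (i : ℕ) :
    (FLAG_aux_V a b (i + 1)).map a ≤ FLAG_aux_V a b i := by
  rintro _ ⟨m, hm, rfl⟩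
  exact ((FLAG_aux_mem_succ a b i m).mp hm).2.1

theorem FLAG_aux_map_b (a b : Module.End k M) (i : ℕ) :
    (FLAG_aux_V a b (i + 1)).map b ≤ FLAG_aux_V a b i := by
  rintro _ ⟨m, hm, rfl⟩
  exact ((FLAG_aux_mem_succ a b i m).mp hm).2.2

theorem FLAG_aux_inv_a (a b : Module.End k M) (i : ℕ) :
    (FLAG_aux_V a b i).map a ≤ FLAG_aux_V a b i := by
  cases i with
  | zero => rw [FLAG_aux_V_zero, Submodule.map_bot]
  | succ i => exact le_trans (FLAG_aux_map_a a b i) (FLAG_aux_le_succ a b i)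

theorem FLAG_aux_inv_b (a b : Module.End k M) (i : ℕ) :
    (FLAG_aux_V a b i).map b ≤ FLAG_aux_V a b i := by
  cases i with
  | zero => rw [FLAG_aux_V_zero, Submodule.map_bot]
  | succ i => exact le_trans (FLAG_aux_map_b a b i) (FLAG_aux_le_succ a b i)

theorem FLAG_aux_zz_comm (a b : Module.End k M) : zz b a = zz a b := by
  unfold zz; rw [add_comm]

theorem FLAG_aux_M0_comm (a b : Module.End k M) : M0 b a = M0 a b := by
  unfold M0; rw [FLAG_aux_zz_comm]

/-- the symmetric core of the growth step -/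
theorem FLAG_aux_core (a b : Module.End k M) (ha : a * a = 0) (hb : b * b = 0)
    (W : Submodule k M) (hWa : W.map a ≤ W) (m : M) (hm0 : m ∈ M0 a b) (hz : zz a b m ∈ W)
    (ham : a m ∉ W) : ∃ x ∈ M0 a b, x ∉ W ∧ a x ∈ W ∧ b x ∈ W := by
  have hca : Commute a (zz a b) := (zz_mul_a ha).symm
  have hcb : Commute b (zz a b) := (zz_mul_b hb).symm
  have h2 : a m ∈ M0 a b := FIT_inv0 (zz a b) a hca m hm0
  have haa : a (a m) = 0 := by
    rw [← Module.End.mul_apply, ha, LinearMap.zero_apply]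
  by_cases h : b (a m) ∈ W
  · exact ⟨a m, h2, ham, by rw [haa]; exact W.zero_mem, h⟩
  · refine ⟨b (a m), FIT_inv0 (zz a b) b hcb _ h2, h, ?_, ?_⟩
    · have e : a (b (a m)) = a (zz a b m) := by
        show a (b (a m)) = a (a (b m) + b (a m))
        rw [map_add, ← Module.End.mul_apply a a, ha, LinearMap.zero_apply, zero_add]
      rw [e]
      exact hWa ⟨_, hz, rfl⟩
    · rw [← Module.End.mul_apply b b, hb, LinearMap.zero_apply]
      exact W.zero_mem

/-- strict growth while `V i ≠ M₀` -/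
theorem FLAG_aux_grow [FiniteDimensional k M] (a b : Module.End k M) (ha : a * a = 0)
    (hb : b * b = 0) (i : ℕ) (hne : FLAG_aux_V a b i ≠ M0 a b) :
    FLAG_aux_V a b i < FLAG_aux_V a b (i + 1) := by
  classical
  have hlt : FLAG_aux_V a b i < M0 a b := lt_of_le_of_ne (FLAG_aux_le_M0 a b i) hne
  obtain ⟨m, hm0, hmV⟩ := SetLike.exists_of_lt hlt
  obtain ⟨N, hN⟩ := FIT_nil (zz a b)
  have hex : ∃ j : ℕ, ((zz a b) ^ j) m ∈ FLAG_aux_V a b i :=
    ⟨N, by rw [hN m hm0]; exact Submodule.zero_mem _⟩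
  have hj0 : Nat.find hex ≠ 0 := by
    intro h0
    have := Nat.find_spec hex
    rw [h0, pow_zero] at this
    exact hmV this
  obtain ⟨j1, hj1⟩ := Nat.exists_eq_succ_of_ne_zero hj0
  have hm1V : ((zz a b) ^ j1) m ∉ FLAG_aux_V a b i :=
    Nat.find_min hex (by rw [hj1]; exact Nat.lt_succ_self j1)
  have hm1z : zz a b (((zz a b) ^ j1) m) ∈ FLAG_aux_V a b i := by
    have := Nat.find_spec hex
    rw [hj1, Nat.succ_eq_add_one, pow_succ', Module.End.mul_apply] at this
    exact this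
  have hm10 : ((zz a b) ^ j1) m ∈ M0 a b :=
    FIT_inv0 (zz a b) ((zz a b) ^ j1) (Commute.pow_left (Commute.refl _) j1) m hm0
  -- an element of `V (i+1)` outside `V i`
  have hx : ∃ x ∈ M0 a b, x ∉ FLAG_aux_V a b i ∧ a x ∈ FLAG_aux_V a b i ∧ b x ∈ FLAG_aux_V a b i := by
    by_cases ha1 : a (((zz a b) ^ j1) m) ∈ FLAG_aux_V a b i
    · by_cases hb1 : b (((zz a b) ^ j1) m) ∈ FLAG_aux_V a b i
      · exact ⟨_, hm10, hm1V, ha1, hb1⟩
      · have hm10' : ((zz a b) ^ j1) m ∈ M0 b a := by rw [FLAG_aux_M0_comm]; exact hm10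
        have hm1z' : zz b a (((zz a b) ^ j1) m) ∈ FLAG_aux_V a b i := by
          rw [FLAG_aux_zz_comm]; exact hm1z
        obtain ⟨x, hx0, hxV, hxb, hxa⟩ := FLAG_aux_core b a hb ha (FLAG_aux_V a b i)
          (FLAG_aux_inv_b a b i) _ hm10' hm1z' hb1
        rw [FLAG_aux_M0_comm] at hx0
        exact ⟨x, hx0, hxV, hxa, hxb⟩
    · exact FLAG_aux_core a b ha hb (FLAG_aux_V a b i) (FLAG_aux_inv_a a b i) _ hm10 hm1z ha1
  obtain ⟨x, hx0, hxV, hxa, hxb⟩ := hx
  refine lt_of_le_of_ne (FLAG_aux_le_succ a b i) ?_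
  intro heq
  apply hxV
  rw [heq, FLAG_aux_mem_succ]
  exact ⟨hx0, hxa, hxb⟩

theorem FLAG [FiniteDimensional k M] (a b : Module.End k M) (ha : a * a = 0) (hb : b * b = 0) :
    ∃ (V : ℕ → Submodule k M) (n : ℕ), V 0 = ⊥ ∧ V n = M0 a b ∧ Monotone V ∧
      (∀ i, (V (i + 1)).map a ≤ V i) ∧ (∀ i, (V (i + 1)).map b ≤ V i) := by
  refine ⟨FLAG_aux_V a b, Module.finrank k (M0 a b) + 1, rfl, ?_, FLAG_aux_mono a b,
    FLAG_aux_map_a a b, FLAG_aux_map_b a b⟩
  have key : ∀ i : ℕ, FLAG_aux_V a b i = M0 a b ∨ i ≤ Module.finrank k (FLAG_aux_V a b i) := by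
    intro i
    induction i with
    | zero => right; exact Nat.zero_le _
    | succ i ih =>
      by_cases hne : FLAG_aux_V a b i = M0 a b
      · left
        exact le_antisymm (FLAG_aux_le_M0 a b (i + 1)) (hne ▸ FLAG_aux_le_succ a b i)
      · right
        rcases ih with h | h
        · exact absurd h hne
        · have := Submodule.finrank_lt_finrank_of_lt (FLAG_aux_grow a b ha hb i hne)
          omega
  rcases key (Module.finrank k (M0 a b) + 1) with h | h
  · exact h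
  · exfalso
    have := Submodule.finrank_mono (FLAG_aux_le_M0 a b (Module.finrank k (M0 a b) + 1))
    omega

end Cfsg.Agent.QPP

end
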