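import Mathlib
import Cfsg.Agent.Helper27.S0429Defs
import Cfsg.Prelude.Def_Sporadic_a

/-! Board `s0429pieces`, row EIGQ: `Q2 (eigVec a b c) = 0` for mates `b, c`. -/

set_option autoImplicit false

namespace Cfsg.Agent.S0429P

open Finset

variable {V : Type*} [Fintype V] [DecidableEq V] {G : SimpleGraph V} [DecidableRel G.Adj]

theorem EIGQ_aux_E_sing_left (v : V) (T : Finset V) :
    E G {v} T = ((G.neighborFinset v ∩ T).card : ℚ) := by
  unfold E
  rw [Finset.sum_singleton]

/-- `E S T = 0` when no vertex of `S` is adjacent to a vertex of `T`. -/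
theorem EIGQ_aux_E_zero {S T : Finset V} (hST : ∀ v ∈ S, ∀ y ∈ T, ¬ G.Adj v y) : E G S T = 0 := by
  unfold E
  apply Finset.sum_eq_zero
  intro v hv
  have : G.neighborFinset v ∩ T = ∅ := by
    rw [Finset.eq_empty_iff_forall_notMem]
    intro y hy
    rw [Finset.mem_inter, SimpleGraph.mem_neighborFinset] at hy
    exact hST v hv y hy.2 hy.1
  rw [this]; simp

/-- `E S {y} = |S|` when every vertex of `S` is adjacent to `y`. -/
theorem EIGQ_aux_E_sing_right {S : Finset V} {y : V} (hS : ∀ v ∈ S, G.Adj v y) :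
    E G S {y} = (S.card : ℚ) := by
  unfold E
  have : ∀ v ∈ S, ((G.neighborFinset v ∩ {y}).card : ℚ) = 1 := by
    intro v hv
    have h1 : G.neighborFinset v ∩ {y} = {y} := by
      rw [Finset.inter_eq_right, Finset.singleton_subset_iff, SimpleGraph.mem_neighborFinset]
      exact hS v hv
    rw [h1]; simp
  rw [Finset.sum_congr rfl this]
  simp

/-- EIGQ (M/L): `Q2 (e_b - e_c + (1/2) 1_{cn a b} - (1/2) 1_{cn a c}) = 2·4 - 8 + 0 = 0`. -/
theorem EIGQ (h : G.IsSRGWith 77 16 0 4) {a b c : V} (hm : Mate G a b c) : Q2 G (eigVec G a b c) = 0 := by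
  obtain ⟨hab, hac, hbc, hk⟩ := hm
  have hnbc : ¬ G.Adj b c := by
    intro hadj
    unfold kap at hk
    rw [if_pos hadj] at hk
    omega
  have hm3 : m3 G a b c = 0 := by
    unfold kap at hk
    omega
  have hempty : G.neighborFinset a ∩ G.neighborFinset b ∩ G.neighborFinset c = ∅ :=
    Finset.card_eq_zero.mp hm3
  have hno : ∀ x, G.Adj a x → G.Adj b x → G.Adj c x → False := by
    intro x h1 h2 h3
    have : x ∈ G.neighborFinset a ∩ G.neighborFinset b ∩ G.neighborFinset c := by
      simp [h1, h2, h3]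
    rw [hempty] at this
    exact absurd this (Finset.notMem_empty x)
  have hcab : (cn G a b).card = 4 := card_cn h hab.1.symm hab.2
  have hcac : (cn G a c).card = 4 := card_cn h hac.1.symm hac.2
  -- the four sets and weights
  set S : Fin 4 → Finset V := ![{b}, {c}, cn G a b, cn G a c] with hS
  set w : Fin 4 → ℚ := ![1, -1, 1 / 2, -1 / 2] with hw
  have hdisj : ∀ i j, i ≠ j → Disjoint (S i) (S j) := by
    have d01 : Disjoint ({b} : Finset V) {c} := by simpa using hbc
    have d02 : Disjoint ({b} : Finset V) (cn G a b) := by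
      rw [Finset.disjoint_singleton_left, mem_cn]
      exact fun hh => G.loopless.irrefl b hh.2
    have d03 : Disjoint ({b} : Finset V) (cn G a c) := by
      rw [Finset.disjoint_singleton_left, mem_cn]
      exact fun hh => hab.2 hh.1
    have d12 : Disjoint ({c} : Finset V) (cn G a b) := by
      rw [Finset.disjoint_singleton_left, mem_cn]
      exact fun hh => hac.2 hh.1
    have d13 : Disjoint ({c} : Finset V) (cn G a c) := by
      rw [Finset.disjoint_singleton_left, mem_cn]
      exact fun hh => G.loopless.irrefl c hh.2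
    have d23 : Disjoint (cn G a b) (cn G a c) := by
      rw [Finset.disjoint_left]
      intro x hx hx'
      exact hno x (mem_cn.mp hx).1 (mem_cn.mp hx).2 (mem_cn.mp hx').2
    intro i j hij
    fin_cases i <;> fin_cases j <;> first
      | exact absurd rfl hij
      | exact d01 | exact d02 | exact d03 | exact d12 | exact d13 | exact d23
      | exact d01.symm | exact d02.symm | exact d03.symm | exact d12.symm | exact d13.symm | exact d23.symm
  -- the matrix of the `E`
  have hNa : ∀ {x y : V}, G.Adj a x → G.Adj a y → ¬ G.Adj x y := fun hx hy => nadj_of_common h hx hy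
  have e00 : E G {b} {b} = 0 := EIGQ_aux_E_zero (by
    intro v hv y hy
    rw [Finset.mem_singleton] at hv hy
    subst hv; subst hy
    exact G.loopless.irrefl _)
  have e01 : E G {b} {c} = 0 := EIGQ_aux_E_zero (by
    intro v hv y hy
    rw [Finset.mem_singleton] at hv hy
    subst hv; subst hy
    exact hnbc)
  have e02 : E G {b} (cn G a b) = 4 := by
    rw [EIGQ_aux_E_sing_left]
    have : G.neighborFinset b ∩ cn G a b = cn G a b := by
      rw [Finset.inter_eq_right]
      intro x hx
      rw [SimpleGraph.mem_neighborFinset]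
      exact (mem_cn.mp hx).2
    rw [this, hcab]; norm_num
  have e03 : E G {b} (cn G a c) = 0 := EIGQ_aux_E_zero (by
    intro v hv y hy hadj
    rw [Finset.mem_singleton] at hv
    subst hv
    exact hno y (mem_cn.mp hy).1 hadj (mem_cn.mp hy).2)
  have e10 : E G {c} {b} = 0 := EIGQ_aux_E_zero (by
    intro v hv y hy
    rw [Finset.mem_singleton] at hv hy
    subst hv; subst hy
    exact fun hh => hnbc hh.symm)
  have e11 : E G {c} {c} = 0 := EIGQ_aux_E_zero (by
    intro v hv y hy
    rw [Finset.mem_singleton] at hv hy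
    subst hv; subst hy
    exact G.loopless.irrefl _)
  have e12 : E G {c} (cn G a b) = 0 := EIGQ_aux_E_zero (by
    intro v hv y hy hadj
    rw [Finset.mem_singleton] at hv
    subst hv
    exact hno y (mem_cn.mp hy).1 (mem_cn.mp hy).2 hadj)
  have e13 : E G {c} (cn G a c) = 4 := by
    rw [EIGQ_aux_E_sing_left]
    have : G.neighborFinset c ∩ cn G a c = cn G a c := by
      rw [Finset.inter_eq_right]
      intro x hx
      rw [SimpleGraph.mem_neighborFinset]
      exact (mem_cn.mp hx).2
    rw [this, hcac]; norm_num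
  have e20 : E G (cn G a b) {b} = 4 := by
    rw [EIGQ_aux_E_sing_right (fun v hv => ((mem_cn.mp hv).2).symm), hcab]; norm_num
  have e21 : E G (cn G a b) {c} = 0 := EIGQ_aux_E_zero (by
    intro v hv y hy hadj
    rw [Finset.mem_singleton] at hy
    subst hy
    exact hno v (mem_cn.mp hv).1 (mem_cn.mp hv).2 hadj.symm)
  have e22 : E G (cn G a b) (cn G a b) = 0 :=
    EIGQ_aux_E_zero (fun v hv y hy => hNa (mem_cn.mp hv).1 (mem_cn.mp hy).1)
  have e23 : E G (cn G a b) (cn G a c) = 0 :=
    EIGQ_aux_E_zero (fun v hv y hy => hNa (mem_cn.mp hv).1 (mem_cn.mp hy).1)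
  have e30 : E G (cn G a c) {b} = 0 := EIGQ_aux_E_zero (by
    intro v hv y hy hadj
    rw [Finset.mem_singleton] at hy
    subst hy
    exact hno v (mem_cn.mp hv).1 hadj.symm (mem_cn.mp hv).2)
  have e31 : E G (cn G a c) {c} = 4 := by
    rw [EIGQ_aux_E_sing_right (fun v hv => ((mem_cn.mp hv).2).symm), hcac]; norm_num
  have e32 : E G (cn G a c) (cn G a b) = 0 :=
    EIGQ_aux_E_zero (fun v hv y hy => hNa (mem_cn.mp hv).1 (mem_cn.mp hy).1)
  have e33 : E G (cn G a c) (cn G a c) = 0 :=
    EIGQ_aux_E_zero (fun v hv y hy => hNa (mem_cn.mp hv).1 (mem_cn.mp hy).1)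
  -- assemble
  have hg : eigVec G a b c = ind S w := rfl
  rw [hg]
  unfold Q2
  rw [sum_ind, sum_sq_ind S w hdisj, adjSum_ind]
  simp only [Fin.sum_univ_four, hS, hw, Matrix.cons_val_zero, Matrix.cons_val_one, Matrix.cons_val]
  simp only [e00, e01, e02, e03, e10, e11, e12, e13, e20, e21, e22, e23, e30, e31, e32, e33, hcab, hcac,
    Finset.card_singleton]
  norm_num

end Cfsg.Agent.S0429P
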