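import Mathlib
import Cfsg.Agent.Helper27.S0429Defs
import Cfsg.Agent.Helper20.S0429EIGQ
import Cfsg.Prelude.Def_Sporadic_a

/-! Board `s0429pieces`, row EIG: the eigenvector lemma `kap a z b = kap a z c` for mates `b, c`. -/

set_option autoImplicit false

namespace Cfsg.Agent.S0429P

open Finset

variable {V : Type*} [Fintype V] [DecidableEq V] {G : SimpleGraph V} [DecidableRel G.Adj]

theorem EIG_aux_sing (z b : V) :
    ((G.neighborFinset z ∩ {b}).card : ℚ) = if G.Adj z b then 1 else 0 := by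
  by_cases hzb : G.Adj z b
  · rw [if_pos hzb]
    have : G.neighborFinset z ∩ {b} = {b} := by
      rw [Finset.inter_eq_right, Finset.singleton_subset_iff, SimpleGraph.mem_neighborFinset]
      exact hzb
    rw [this]; simp
  · rw [if_neg hzb]
    have : G.neighborFinset z ∩ {b} = ∅ := by
      rw [Finset.eq_empty_iff_forall_notMem]
      intro y hy
      rw [Finset.mem_inter, SimpleGraph.mem_neighborFinset, Finset.mem_singleton] at hy
      exact hzb (hy.2 ▸ hy.1)
    rw [this]; simp

/-- EIG (M): EIGQ, then `Q2_eq_zero` at `z` and `nsum_ind`. -/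
theorem EIG (h : G.IsSRGWith 77 16 0 4) {a b c : V} (hm : Mate G a b c) {z : V} (hz : Far G a z)
    (hzb : z ≠ b) (hzc : z ≠ c) : kap G a z b = kap G a z c := by
  have h0 := EIGQ h hm
  have h1 := Q2_eq_zero h _ h0 z
  obtain ⟨hab, hac, hbc, hk⟩ := hm
  have hcab : (cn G a b).card = 4 := card_cn h hab.1.symm hab.2
  have hcac : (cn G a c).card = 4 := card_cn h hac.1.symm hac.2
  have hg : eigVec G a b c = ind ![{b}, {c}, cn G a b, cn G a c] ![1, -1, 1 / 2, -1 / 2] := rfl
  -- `g z = 0`
  have hgz : eigVec G a b c z = 0 := by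
    rw [hg]
    unfold ind
    simp only [Fin.sum_univ_four, Matrix.cons_val_zero, Matrix.cons_val_one, Matrix.cons_val]
    have n1 : z ∉ ({b} : Finset V) := by simpa using hzb
    have n2 : z ∉ ({c} : Finset V) := by simpa using hzc
    have n3 : z ∉ cn G a b := fun hh => hz.2 (mem_cn.mp hh).1
    have n4 : z ∉ cn G a c := fun hh => hz.2 (mem_cn.mp hh).1
    simp [n1, n2, n3, n4]
  -- `Σ g = 0`
  have hsum : ∑ v, eigVec G a b c v = 0 := by
    rw [hg, sum_ind]
    simp only [Fin.sum_univ_four, Matrix.cons_val_zero, Matrix.cons_val_one, Matrix.cons_val,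
      Finset.card_singleton, hcab, hcac]
    norm_num
  rw [hgz, hsum] at h1
  rw [hg, nsum_ind] at h1
  simp only [Fin.sum_univ_four, Matrix.cons_val_zero, Matrix.cons_val_one, Matrix.cons_val] at h1
  rw [EIG_aux_sing, EIG_aux_sing, ← m3_eq_card, ← m3_eq_card] at h1
  -- now in `ℚ`: `[z~b] - [z~c] + m3 a b z / 2 - m3 a c z / 2 = 0`
  have e1 : m3 G a z b = m3 G a b z := m3_comm23 a z b
  have e2 : m3 G a z c = m3 G a c z := m3_comm23 a z c
  unfold kap
  rw [e1, e2]
  have key : ((if G.Adj z b then 2 else 0 : ℕ) : ℚ) + (m3 G a b z : ℚ)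
      = ((if G.Adj z c then 2 else 0 : ℕ) : ℚ) + (m3 G a c z : ℚ) := by
    by_cases hb : G.Adj z b <;> by_cases hc : G.Adj z c <;> simp only [hb, hc, if_true, if_false] at h1 ⊢ <;>
      push_cast <;> linarith
  exact_mod_cast key

end Cfsg.Agent.S0429P
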