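import Mathlib
import Cfsg.Agent.Helper1.S4504MDefs

/-!
# S4504 (modular half), piece M-PROJ: the orthogonal projection of `End_k(M)` onto the span of an
`sl₂`-triple `E, H, F` with `tr (E F) ≠ 0`
-/

set_option autoImplicit false
set_option linter.unusedSectionVars false
set_option linter.unusedVariables false

namespace Cfsg.Agent.S4504P

open Cfsg.Agent.Helper5.GC Module

namespace PROJ

variable {k : Type*} [Field k] {M : Type*} [AddCommGroup M] [Module k M] [FiniteDimensional k M]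

local notation "tr" => LinearMap.trace k M

/-! ### the Gram matrix of the trace form on `E, H, F` -/

theorem tr_comm (a b : Module.End k M) : tr (a * b) = tr (b * a) := LinearMap.trace_mul_comm k a b

theorem trEE (h2 : (2 : k) ≠ 0) (E H₀ : Module.End k M) (hHE : H₀ * E - E * H₀ = (2 : k) • E) :
    tr (E * E) = 0 := by
  have h1 : tr (E * (H₀ * E - E * H₀)) = 0 := by
    rw [mul_sub, map_sub, ← mul_assoc, ← mul_assoc, tr_comm (E * H₀) E, mul_assoc, sub_self]
  rw [hHE, mul_smul_comm, map_smul, smul_eq_mul] at h1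
  exact (mul_eq_zero.mp h1).resolve_left h2

theorem trHE (h2 : (2 : k) ≠ 0) (E H₀ : Module.End k M) (hHE : H₀ * E - E * H₀ = (2 : k) • E) :
    tr (H₀ * E) = 0 := by
  have h1 : tr (H₀ * (H₀ * E - E * H₀)) = 0 := by
    rw [mul_sub, map_sub, ← mul_assoc, ← mul_assoc, tr_comm (H₀ * E) H₀, mul_assoc, sub_self]
  rw [hHE, mul_smul_comm, map_smul, smul_eq_mul] at h1
  exact (mul_eq_zero.mp h1).resolve_left h2

theorem trFF (h2 : (2 : k) ≠ 0) (H₀ F : Module.End k M) (hHF : H₀ * F - F * H₀ = -((2 : k) • F)) :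
    tr (F * F) = 0 := by
  have h1 : tr (F * (H₀ * F - F * H₀)) = 0 := by
    rw [mul_sub, map_sub, ← mul_assoc, ← mul_assoc, tr_comm (F * H₀) F, mul_assoc, sub_self]
  rw [hHF, mul_neg, mul_smul_comm, map_neg, map_smul, smul_eq_mul, neg_eq_zero] at h1
  exact (mul_eq_zero.mp h1).resolve_left h2

theorem trHF (h2 : (2 : k) ≠ 0) (H₀ F : Module.End k M) (hHF : H₀ * F - F * H₀ = -((2 : k) • F)) :
    tr (H₀ * F) = 0 := by
  have h1 : tr (H₀ * (H₀ * F - F * H₀)) = 0 := by
    rw [mul_sub, map_sub, ← mul_assoc, ← mul_assoc, tr_comm (H₀ * F) H₀, mul_assoc, sub_self]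
  rw [hHF, mul_neg, mul_smul_comm, map_neg, map_smul, smul_eq_mul, neg_eq_zero] at h1
  exact (mul_eq_zero.mp h1).resolve_left h2

theorem trHH (E H₀ F : Module.End k M) (hHE : H₀ * E - E * H₀ = (2 : k) • E)
    (hEF : E * F - F * E = H₀) : tr (H₀ * H₀) = 2 * tr (E * F) := by
  have h1 : tr (H₀ * H₀) = tr (H₀ * (E * F - F * E)) := by rw [hEF]
  have h2 : tr (H₀ * (E * F - F * E)) = tr ((H₀ * E - E * H₀) * F) := by
    rw [mul_sub, sub_mul, map_sub, map_sub, ← mul_assoc, ← mul_assoc,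
      tr_comm (H₀ * F) E, ← mul_assoc]
  rw [h1, h2, hHE, smul_mul_assoc, map_smul, smul_eq_mul]

/-! ### the projection -/

/-- the orthogonal projection onto `span {E, H, F}` -/
noncomputable def proj (E H₀ F : Module.End k M) : Module.End k (Module.End k M) :=
  (tr (E * F))⁻¹ • ((trF k M).flip F).smulRight E +
    (2 * tr (E * F))⁻¹ • ((trF k M).flip H₀).smulRight H₀ +
    (tr (E * F))⁻¹ • ((trF k M).flip E).smulRight F

theorem proj_apply (E H₀ F φ : Module.End k M) :
    proj E H₀ F φ = (tr (E * F))⁻¹ • (tr (φ * F) • E) +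
      (2 * tr (E * F))⁻¹ • (tr (φ * H₀) • H₀) + (tr (E * F))⁻¹ • (tr (φ * E) • F) := by
  simp [proj, trF_apply, LinearMap.smulRight_apply]

/-- the data: an `sl₂`-triple with `tr (E F) ≠ 0` in characteristic `≠ 2` -/
structure Triple (E H₀ F : Module.End k M) : Prop where
  h2 : (2 : k) ≠ 0
  hHE : H₀ * E - E * H₀ = (2 : k) • E
  hEF : E * F - F * E = H₀
  hHF : H₀ * F - F * H₀ = -((2 : k) • F)
  htr : tr (E * F) ≠ 0

namespace Triple

variable {E H₀ F : Module.End k M}

theorem proj_E (T : Triple E H₀ F) : proj E H₀ F E = E := by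
  rw [proj_apply, trEE T.h2 E H₀ T.hHE, tr_comm E H₀, trHE T.h2 E H₀ T.hHE, zero_smul, smul_zero,
    zero_smul, smul_zero, add_zero, add_zero, smul_smul, inv_mul_cancel₀ T.htr, one_smul]

theorem proj_F (T : Triple E H₀ F) : proj E H₀ F F = F := by
  rw [proj_apply, trFF T.h2 H₀ F T.hHF, tr_comm F H₀, trHF T.h2 H₀ F T.hHF, zero_smul, smul_zero,
    zero_smul, smul_zero, zero_add, zero_add, smul_smul, tr_comm F E, inv_mul_cancel₀ T.htr,
    one_smul]

theorem proj_H (T : Triple E H₀ F) : proj E H₀ F H₀ = H₀ := by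
  have h2t : 2 * tr (E * F) ≠ 0 := mul_ne_zero T.h2 T.htr
  rw [proj_apply, trHF T.h2 H₀ F T.hHF, trHE T.h2 E H₀ T.hHE, zero_smul, smul_zero,
    zero_smul, smul_zero, zero_add, add_zero, smul_smul, trHH E H₀ F T.hHE T.hEF,
    inv_mul_cancel₀ h2t, one_smul]

/-- the projection is idempotent -/
theorem proj_proj (T : Triple E H₀ F) (φ : Module.End k M) : proj E H₀ F (proj E H₀ F φ) = proj E H₀ F φ := by
  conv_lhs => rw [proj_apply E H₀ F φ]
  simp only [map_add, map_smul, T.proj_E, T.proj_F, T.proj_H]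
  rw [← proj_apply]

/-- the complement: the endomorphisms orthogonal to `E, H, F` -/
def Orth (E H₀ F χ : Module.End k M) : Prop :=
  tr (χ * E) = 0 ∧ tr (χ * H₀) = 0 ∧ tr (χ * F) = 0

theorem proj_eq_zero {χ : Module.End k M} (h : Orth E H₀ F χ) : proj E H₀ F χ = 0 := by
  rw [proj_apply, h.1, h.2.1, h.2.2]
  simp

theorem orth_sub (T : Triple E H₀ F) (φ : Module.End k M) : Orth E H₀ F (φ - proj E H₀ F φ) := by
  have h2t : 2 * tr (E * F) ≠ 0 := mul_ne_zero T.h2 T.htr
  have hEE := trEE T.h2 E H₀ T.hHE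
  have hFF := trFF T.h2 H₀ F T.hHF
  have hHE := trHE T.h2 E H₀ T.hHE
  have hHF := trHF T.h2 H₀ F T.hHF
  have hHH := trHH E H₀ F T.hHE T.hEF
  have hEH : tr (E * H₀) = 0 := by rw [tr_comm]; exact hHE
  have hFH : tr (F * H₀) = 0 := by rw [tr_comm]; exact hHF
  have hFE : tr (F * E) = tr (E * F) := tr_comm F E
  have ht := T.htr
  have h2 := T.h2
  refine ⟨?_, ?_, ?_⟩
  · rw [sub_mul, map_sub, proj_apply]
    simp only [add_mul, smul_mul_assoc, map_add, map_smul, smul_eq_mul, hEE, hHE, hFE]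
    field_simp
    ring
  · rw [sub_mul, map_sub, proj_apply]
    simp only [add_mul, smul_mul_assoc, map_add, map_smul, smul_eq_mul, hEH, hHH, hFH]
    field_simp
    ring
  · rw [sub_mul, map_sub, proj_apply]
    simp only [add_mul, smul_mul_assoc, map_add, map_smul, smul_eq_mul, hFF, hHF]
    field_simp
    ring

theorem E_ne_zero (T : Triple E H₀ F) : E ≠ 0 := by
  intro h
  apply T.htr
  rw [h, zero_mul, map_zero]

/-- a fixed vector of the projection is a combination of `E, H, F` -/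
theorem eq_comb_of_fixed {ψ : Module.End k M} (h : proj E H₀ F ψ = ψ) :
    ∃ a b c : k, ψ = a • E + b • H₀ + c • F := by
  refine ⟨(tr (E * F))⁻¹ * tr (ψ * F), (2 * tr (E * F))⁻¹ * tr (ψ * H₀),
    (tr (E * F))⁻¹ * tr (ψ * E), ?_⟩
  conv_lhs => rw [← h, proj_apply]
  simp only [smul_smul]

theorem fixed_comb (T : Triple E H₀ F) (a b c : k) :
    proj E H₀ F (a • E + b • H₀ + c • F) = a • E + b • H₀ + c • F := by
  simp only [map_add, map_smul, T.proj_E, T.proj_H, T.proj_F]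

theorem orth_comb {χ : Module.End k M} (h : Orth E H₀ F χ) (a b c : k) :
    tr (χ * (a • E + b • H₀ + c • F)) = 0 := by
  simp only [mul_add, mul_smul_comm, map_add, map_smul, h.1, h.2.1, h.2.2, smul_zero, add_zero]

/-- the projection is self-adjoint for the trace form -/
theorem proj_selfAdjoint (φ ψ : Module.End k M) :
    trF k M (proj E H₀ F φ) ψ = trF k M φ (proj E H₀ F ψ) := by
  rw [trF_apply, trF_apply, proj_apply, proj_apply]
  simp only [add_mul, mul_add, smul_mul_assoc, mul_smul_comm, map_add, map_smul, smul_eq_mul,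
    tr_comm E ψ, tr_comm H₀ ψ, tr_comm F ψ]
  ring

/-- the three generators are linearly independent -/
theorem linearIndependent (T : Triple E H₀ F) : LinearIndependent k ![E, H₀, F] := by
  rw [Fintype.linearIndependent_iff]
  intro g hg
  rw [Fin.sum_univ_three] at hg
  replace hg : g 0 • E + g 1 • H₀ + g 2 • F = 0 := hg
  have h2t : 2 * tr (E * F) ≠ 0 := mul_ne_zero T.h2 T.htr
  have hEE := trEE T.h2 E H₀ T.hHE
  have hFF := trFF T.h2 H₀ F T.hHF
  have hHE := trHE T.h2 E H₀ T.hHE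
  have hHF := trHF T.h2 H₀ F T.hHF
  have hHH := trHH E H₀ F T.hHE T.hEF
  have hFE : tr (F * E) = tr (E * F) := tr_comm F E
  have h0 : g 0 = 0 := by
    have := congrArg (fun ψ => tr (ψ * F)) hg
    simp only [add_mul, smul_mul_assoc, map_add, map_smul, smul_eq_mul, hFF, hHF, zero_mul,
      map_zero, mul_zero, add_zero] at this
    exact (mul_eq_zero.mp this).resolve_right T.htr
  have h1 : g 1 = 0 := by
    have := congrArg (fun ψ => tr (ψ * H₀)) hg
    rw [tr_comm] at hHE hHF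
    simp only [add_mul, smul_mul_assoc, map_add, map_smul, smul_eq_mul, hHH, hHE, hHF, zero_mul,
      map_zero, mul_zero, add_zero, zero_add] at this
    exact (mul_eq_zero.mp this).resolve_right h2t
  have h2 : g 2 = 0 := by
    have := congrArg (fun ψ => tr (ψ * E)) hg
    simp only [add_mul, smul_mul_assoc, map_add, map_smul, smul_eq_mul, hEE, hHE, hFE, zero_mul,
      map_zero, mul_zero, add_zero, zero_add] at this
    exact (mul_eq_zero.mp this).resolve_right T.htr
  intro i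
  fin_cases i
  · exact h0
  · exact h1
  · exact h2

theorem range_proj (T : Triple E H₀ F) :
    LinearMap.range (proj E H₀ F) = Submodule.span k (Set.range ![E, H₀, F]) := by
  have hrange : Set.range ![E, H₀, F] = {E, H₀, F} := by
    ext ψ
    simp only [Set.mem_range, Set.mem_insert_iff, Set.mem_singleton_iff]
    constructor
    · rintro ⟨i, rfl⟩
      fin_cases i <;> simp
    · rintro (h | h | h)
      · exact ⟨0, h.symm⟩
      · exact ⟨1, h.symm⟩
      · exact ⟨2, h.symm⟩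
  rw [hrange]
  apply le_antisymm
  · rintro _ ⟨φ, rfl⟩
    rw [Submodule.mem_span_triple]
    refine ⟨(tr (E * F))⁻¹ * tr (φ * F), (2 * tr (E * F))⁻¹ * tr (φ * H₀),
      (tr (E * F))⁻¹ * tr (φ * E), ?_⟩
    rw [proj_apply]
    simp only [smul_smul]
  · rw [Submodule.span_le]
    rintro ψ (h | h | h)
    · exact ⟨E, h ▸ T.proj_E⟩
    · exact ⟨H₀, h ▸ T.proj_H⟩
    · exact ⟨F, h ▸ T.proj_F⟩

theorem finrank_range_proj (T : Triple E H₀ F) :
    finrank k (LinearMap.range (proj E H₀ F)) = 3 := by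
  rw [T.range_proj, finrank_span_eq_card T.linearIndependent]
  rfl

/-- conjugation by an invertible `A` preserving `span {E, H, F}` (in both directions) commutes
with the projection -/
theorem proj_conj (T : Triple E H₀ F) (A A' : Module.End k M) (hAA' : A * A' = 1)
    (hA'A : A' * A = 1)
    (hE : proj E H₀ F (A * E * A') = A * E * A') (hH : proj E H₀ F (A * H₀ * A') = A * H₀ * A')
    (hF : proj E H₀ F (A * F * A') = A * F * A')
    (hE' : proj E H₀ F (A' * E * A) = A' * E * A) (hH' : proj E H₀ F (A' * H₀ * A) = A' * H₀ * A)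
    (hF' : proj E H₀ F (A' * F * A) = A' * F * A) (φ : Module.End k M) :
    proj E H₀ F (A * φ * A') = A * proj E H₀ F φ * A' := by
  have hsplit : A * φ * A' = A * proj E H₀ F φ * A' + A * (φ - proj E H₀ F φ) * A' := by
    rw [← add_mul, ← mul_add, add_sub_cancel]
  have horth := T.orth_sub φ
  -- the first summand is fixed
  obtain ⟨a, b, c, habc⟩ := eq_comb_of_fixed (T.proj_proj φ)
  have h1 : proj E H₀ F (A * proj E H₀ F φ * A') = A * proj E H₀ F φ * A' := by
    rw [habc]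
    simp only [mul_add, add_mul, mul_smul_comm, smul_mul_assoc, map_add, map_smul, hE, hH, hF]
  -- the second summand is orthogonal
  have h2 : proj E H₀ F (A * (φ - proj E H₀ F φ) * A') = 0 := by
    apply proj_eq_zero
    have key : ∀ ψ : Module.End k M, proj E H₀ F (A' * ψ * A) = A' * ψ * A →
        tr (A * (φ - proj E H₀ F φ) * A' * ψ) = 0 := by
      intro ψ hψ
      obtain ⟨a', b', c', h'⟩ := eq_comb_of_fixed hψ
      have : tr (A * (φ - proj E H₀ F φ) * A' * ψ) =
          tr ((φ - proj E H₀ F φ) * (A' * ψ * A)) := by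
        rw [mul_assoc, mul_assoc, tr_comm]
        simp only [mul_assoc]
      rw [this, h']
      exact orth_comb horth a' b' c'
    exact ⟨key E hE', key H₀ hH', key F hF'⟩
  rw [hsplit, map_add, h1, h2, add_zero]

end Triple

/-! ### equivariance -/

section Equivariance

variable {G : Type*} [Group G] (σ : Representation k G M) {E H₀ F : Module.End k M}

/-- `Ad g` maps `E, H, F` into the span -/
def Pres (σ : Representation k G M) (E H₀ F : Module.End k M) (g : G) : Prop :=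
  proj E H₀ F (σ g * E * σ g⁻¹) = σ g * E * σ g⁻¹ ∧
  proj E H₀ F (σ g * H₀ * σ g⁻¹) = σ g * H₀ * σ g⁻¹ ∧
  proj E H₀ F (σ g * F * σ g⁻¹) = σ g * F * σ g⁻¹

theorem rep_mul_inv (g : G) : σ g * σ g⁻¹ = 1 := by rw [← map_mul, mul_inv_cancel, map_one]

theorem rep_inv_mul (g : G) : σ g⁻¹ * σ g = 1 := by rw [← map_mul, inv_mul_cancel, map_one]

theorem Pres.fixed (T : Triple E H₀ F) {g : G} (hg : Pres σ E H₀ F g) {ψ : Module.End k M}
    (hψ : proj E H₀ F ψ = ψ) : proj E H₀ F (σ g * ψ * σ g⁻¹) = σ g * ψ * σ g⁻¹ := by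
  obtain ⟨a, b, c, h⟩ := Triple.eq_comb_of_fixed hψ
  rw [h]
  simp only [mul_add, add_mul, mul_smul_comm, smul_mul_assoc, map_add, map_smul, hg.1, hg.2.1,
    hg.2.2]

theorem Pres.one (T : Triple E H₀ F) : Pres σ E H₀ F 1 := by
  unfold Pres
  simp only [inv_one, map_one, one_mul, mul_one]
  exact ⟨T.proj_E, T.proj_H, T.proj_F⟩

theorem Pres.mul (T : Triple E H₀ F) {a b : G} (ha : Pres σ E H₀ F a) (hb : Pres σ E H₀ F b) :
    Pres σ E H₀ F (a * b) := by
  have key : ∀ ψ : Module.End k M, σ (a * b) * ψ * σ (a * b)⁻¹ =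
      σ a * (σ b * ψ * σ b⁻¹) * σ a⁻¹ := by
    intro ψ
    rw [mul_inv_rev, map_mul, map_mul]
    simp only [mul_assoc]
  refine ⟨?_, ?_, ?_⟩
  · rw [key]; exact ha.fixed σ T hb.1
  · rw [key]; exact ha.fixed σ T hb.2.1
  · rw [key]; exact ha.fixed σ T hb.2.2

theorem Pres.pow (T : Triple E H₀ F) {a : G} (ha : Pres σ E H₀ F a) (i : ℕ) :
    Pres σ E H₀ F (a ^ i) := by
  induction i with
  | zero => rw [pow_zero]; exact Pres.one σ T
  | succ i ih => rw [pow_succ]; exact Pres.mul σ T ih ha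

/-- the projection commutes with `Ad g` when `g` and `g⁻¹` preserve the span -/
theorem proj_Ad (T : Triple E H₀ F) {g : G} (hg : Pres σ E H₀ F g) (hg' : Pres σ E H₀ F g⁻¹)
    (φ : Module.End k M) : proj E H₀ F (Ad σ g φ) = Ad σ g (proj E H₀ F φ) := by
  rw [Ad_apply, Ad_apply]
  rw [Pres, inv_inv] at hg'
  exact T.proj_conj (σ g) (σ g⁻¹) (rep_mul_inv σ g) (rep_inv_mul σ g) hg.1 hg.2.1 hg.2.2
    hg'.1 hg'.2.1 hg'.2.2 φ

end Equivariance

end PROJ

/-- **M-PROJ** -/
theorem exists_sl2_projection {k : Type*} [Field k] {G : Type*} [Group G] {N H : Subgroup G}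
    {x : G} {p : ℕ} (hd : TIData G N H x p) (h2 : (2 : k) ≠ 0)
    {M : Type*} [AddCommGroup M] [Module k M] [FiniteDimensional k M]
    (σ : Representation k G M) (E H₀ F : Module.End k M)
    (hxE : σ x * E = E * σ x) (hxH : σ x * H₀ = (H₀ - (2 : k) • E) * σ x)
    (hxF : σ x * F = (F + H₀ - E) * σ x)
    (hH : ∀ h ∈ H, ∀ m : ℕ, h⁻¹ * x * h = x ^ m →
        (m : k) • (σ h * E) = E * σ h ∧ σ h * H₀ = H₀ * σ h ∧ σ h * F = (m : k) • (F * σ h))
    (hHE : H₀ * E - E * H₀ = (2 : k) • E) (hEF : E * F - F * E = H₀)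
    (hHF : H₀ * F - F * H₀ = -((2 : k) • F)) (htr : LinearMap.trace k M (E * F) ≠ 0) :
    ∃ π : Module.End k (Module.End k M), π * π = π ∧ IsHomOn (Ad σ) (Ad σ) N π ∧
      finrank k (LinearMap.range π) = 3 ∧ (∀ φ ψ, trF k M (π φ) ψ = trF k M φ (π ψ)) ∧
      ∃ φ, π φ = φ ∧ (uop (Ad σ) x ^ 2) φ ≠ 0 := by
  have T : PROJ.Triple E H₀ F := ⟨h2, hHE, hEF, hHF, htr⟩
  have hxx : σ x * σ x⁻¹ = 1 := PROJ.rep_mul_inv σ x
  -- conjugation by `x`
  have hcE : σ x * E * σ x⁻¹ = E := by rw [hxE, mul_assoc, hxx, mul_one]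
  have hcH : σ x * H₀ * σ x⁻¹ = H₀ - (2 : k) • E := by rw [hxH, mul_assoc, hxx, mul_one]
  have hcF : σ x * F * σ x⁻¹ = F + H₀ - E := by rw [hxF, mul_assoc, hxx, mul_one]
  have hPx : PROJ.Pres σ E H₀ F x := by
    refine ⟨?_, ?_, ?_⟩
    · rw [hcE]; exact T.proj_E
    · rw [hcH, map_sub, map_smul, T.proj_H, T.proj_E]
    · rw [hcF, map_sub, map_add, T.proj_F, T.proj_H, T.proj_E]
  -- conjugation by `h ∈ H`
  have hPh : ∀ h ∈ H, PROJ.Pres σ E H₀ F h := by
    intro h hh
    obtain ⟨m, hm⟩ := hd.norm h hh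
    obtain ⟨h1, h2', h3⟩ := hH h hh m hm
    have hhh : σ h * σ h⁻¹ = 1 := PROJ.rep_mul_inv σ h
    have hm0 : (m : k) ≠ 0 := by
      intro h0
      rw [h0, zero_smul] at h1
      apply T.E_ne_zero
      calc E = E * (σ h * σ h⁻¹) := by rw [hhh, mul_one]
        _ = (E * σ h) * σ h⁻¹ := by rw [mul_assoc]
        _ = 0 := by rw [← h1, zero_mul]
    have hcE' : σ h * E * σ h⁻¹ = (m : k)⁻¹ • E := by
      have : (m : k) • (σ h * E * σ h⁻¹) = E := by
        rw [← smul_mul_assoc, h1, mul_assoc, hhh, mul_one]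
      calc σ h * E * σ h⁻¹ = ((m : k)⁻¹ * (m : k)) • (σ h * E * σ h⁻¹) := by
            rw [inv_mul_cancel₀ hm0, one_smul]
        _ = (m : k)⁻¹ • E := by rw [← smul_smul, this]
    have hcH' : σ h * H₀ * σ h⁻¹ = H₀ := by rw [h2', mul_assoc, hhh, mul_one]
    have hcF' : σ h * F * σ h⁻¹ = (m : k) • F := by
      rw [h3, smul_mul_assoc, mul_assoc, hhh, mul_one]
    refine ⟨?_, ?_, ?_⟩
    · rw [hcE', map_smul, T.proj_E]
    · rw [hcH']; exact T.proj_H
    · rw [hcF', map_smul, T.proj_F]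
  have hPN : ∀ n ∈ N, PROJ.Pres σ E H₀ F n := by
    intro n hn
    obtain ⟨h, hh, i, rfl⟩ := hd.gen n hn
    exact PROJ.Pres.mul σ T (hPh h hh) (PROJ.Pres.pow σ T hPx i)
  refine ⟨PROJ.proj E H₀ F, ?_, ?_, T.finrank_range_proj, PROJ.Triple.proj_selfAdjoint, F, T.proj_F, ?_⟩
  · ext φ : 1
    exact T.proj_proj φ
  · intro g hg φ
    exact PROJ.proj_Ad σ T (hPN g hg) (hPN g⁻¹ (N.inv_mem hg)) φ
  · have hu : ∀ φ : Module.End k M, uop (Ad σ) x φ = σ x * φ * σ x⁻¹ - φ := by
      intro φ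
      rw [uop_apply, Ad_apply]
    rw [pow_two, Module.End.mul_apply, hu F, hcF]
    have h1 : F + H₀ - E - F = H₀ - E := by abel
    rw [h1, hu, mul_sub, sub_mul, hcH, hcE]
    have h3 : H₀ - (2 : k) • E - E - (H₀ - E) = -((2 : k) • E) := by abel
    rw [h3, neg_ne_zero]
    exact smul_ne_zero h2 T.E_ne_zero

end Cfsg.Agent.S4504P
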