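import Mathlib
import Cfsg.Agent.Helper1.S0997TDefs
import Cfsg.Agent.Helper1.S4504MainA

/-!
# S0997, TUAN half, piece T-SKEWE: `skew_of_weight`

On a single Jordan block `M` (JData) carrying a nondegenerate symmetric `G`-invariant form, an
endomorphism `E` commuting with `σ x` and of `h`-weight `m⁻¹` (`m` of large order) is skew-adjoint.
Filtration `Fil r = range (ν ^ r)`, `ν = σ x - 1`; leading coefficients are read off with the form.
-/

set_option autoImplicit false

namespace Cfsg.Agent.S0997P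

open Cfsg.Agent.Helper5.GC Module Cfsg.Agent.S4504P

namespace SKEWE

section Fil

variable {k : Type*} [Field k] {G : Type*} [Group G]
  {M : Type*} [AddCommGroup M] [Module k M]

/-- the filtration by powers of `ν = σ x - 1` -/
def Fil (σ : Representation k G M) (x : G) (r : ℕ) : Submodule k M :=
  LinearMap.range (uop σ x ^ r)

variable {σ : Representation k G M} {x : G}

theorem mem_Fil {r : ℕ} {w : M} : w ∈ Fil σ x r ↔ ∃ y, (uop σ x ^ r) y = w := Iff.rfl

theorem pow_mem_Fil (r : ℕ) (y : M) : (uop σ x ^ r) y ∈ Fil σ x r := ⟨y, rfl⟩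

theorem Fil_zero : Fil σ x 0 = ⊤ := by
  rw [eq_top_iff]
  intro w _
  exact ⟨w, by simp⟩

theorem uop_mem_Fil_succ {r : ℕ} {w : M} (hw : w ∈ Fil σ x r) : uop σ x w ∈ Fil σ x (r + 1) := by
  obtain ⟨y, rfl⟩ := hw
  exact ⟨y, by rw [pow_succ', Module.End.mul_apply]⟩

theorem pow_mem_Fil_add {r : ℕ} (j : ℕ) {w : M} (hw : w ∈ Fil σ x r) :
    (uop σ x ^ j) w ∈ Fil σ x (r + j) := by
  obtain ⟨y, rfl⟩ := hw
  exact ⟨y, by rw [add_comm, pow_add, Module.End.mul_apply]⟩

theorem Fil_succ_le (r : ℕ) : Fil σ x (r + 1) ≤ Fil σ x r := by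
  rintro _ ⟨y, rfl⟩
  exact ⟨uop σ x y, by rw [pow_succ, Module.End.mul_apply]⟩

theorem Fil_anti {r r' : ℕ} (h : r ≤ r') : Fil σ x r' ≤ Fil σ x r := by
  induction r', h using Nat.le_induction with
  | base => exact le_rfl
  | succ n _ ih => exact (Fil_succ_le n).trans ih

theorem comm_mem_Fil {Z : Module.End k M} (hZ : Commute Z (uop σ x)) {r : ℕ} {w : M}
    (hw : w ∈ Fil σ x r) : Z w ∈ Fil σ x r := by
  obtain ⟨y, rfl⟩ := hw
  refine ⟨Z y, ?_⟩
  have := (hZ.pow_right r).eq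
  rw [← Module.End.mul_apply, ← this, Module.End.mul_apply]

theorem comm_of_rep {Z : Module.End k M} (hZ : σ x * Z = Z * σ x) : Commute Z (uop σ x) := by
  unfold uop
  show Z * (σ x - 1) = (σ x - 1) * Z
  rw [mul_sub, sub_mul, hZ, mul_one, one_mul]

theorem rep_comm : Commute (σ x) (uop σ x) := (commute_uop_rep σ x).symm

theorem rep_mem_Fil {r : ℕ} {w : M} (hw : w ∈ Fil σ x r) : σ x w ∈ Fil σ x r :=
  comm_mem_Fil rep_comm hw

theorem rep_pow_mem_Fil {r : ℕ} (i : ℕ) {w : M} (hw : w ∈ Fil σ x r) :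
    (σ x ^ i) w ∈ Fil σ x r :=
  comm_mem_Fil (rep_comm.pow_left i) hw

/-- `σ x ^ i` is the identity modulo the next step of the filtration -/
theorem rep_pow_sub_mem {r : ℕ} (i : ℕ) {w : M} (hw : w ∈ Fil σ x r) :
    (σ x ^ i) w - w ∈ Fil σ x (r + 1) := by
  induction i with
  | zero => simp
  | succ i ih =>
    have h1 : (σ x ^ (i + 1)) w - w = ((σ x ^ i) w - w) + (σ x ^ i) (uop σ x w) := by
      rw [pow_succ, Module.End.mul_apply, uop_apply, map_sub]
      abel
    rw [h1]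
    exact (Fil σ x (r + 1)).add_mem ih (rep_pow_mem_Fil i (uop_mem_Fil_succ hw))

theorem geom_sub_mem {r : ℕ} (m : ℕ) {w : M} (hw : w ∈ Fil σ x r) :
    (∑ j ∈ Finset.range m, σ x ^ j) w - (m : k) • w ∈ Fil σ x (r + 1) := by
  induction m with
  | zero => simp
  | succ m ih =>
    rw [Finset.sum_range_succ, LinearMap.add_apply, Nat.cast_succ, add_smul, one_smul]
    have : (∑ j ∈ Finset.range m, σ x ^ j) w + (σ x ^ m) w - ((m : k) • w + w) =
        ((∑ j ∈ Finset.range m, σ x ^ j) w - (m : k) • w) + ((σ x ^ m) w - w) := by abel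
    rw [this]
    exact (Fil σ x (r + 1)).add_mem ih (rep_pow_sub_mem m hw)

theorem geom_comm (m : ℕ) : Commute (∑ j ∈ Finset.range m, σ x ^ j) (uop σ x) :=
  (commute_geom σ x m).symm

theorem geom_pow_sub_mem {r : ℕ} (m j : ℕ) {w : M} (hw : w ∈ Fil σ x r) :
    ((∑ i ∈ Finset.range m, σ x ^ i) ^ j) w - ((m : k) ^ j) • w ∈ Fil σ x (r + 1) := by
  induction j with
  | zero => simp
  | succ j ih =>
    set g := ∑ i ∈ Finset.range m, σ x ^ i with hg
    have h1 : (g ^ (j + 1)) w - ((m : k) ^ (j + 1)) • w =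
        (g ^ j) (g w - (m : k) • w) + (m : k) • ((g ^ j) w - ((m : k) ^ j) • w) := by
      rw [pow_succ, Module.End.mul_apply, map_sub, map_smul, smul_sub, smul_smul, pow_succ,
        mul_comm ((m : k)) ((m : k) ^ j)]
      abel
    rw [h1]
    exact (Fil σ x (r + 1)).add_mem
      (comm_mem_Fil ((geom_comm m).pow_left j) (geom_sub_mem m hw))
      ((Fil σ x (r + 1)).smul_mem _ ih)

end Fil

section Form

variable {k : Type*} [Field k] {G : Type*} [Group G] {H : Subgroup G} {x : G}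
  {M : Type*} [AddCommGroup M] [Module k M]
  {σ : Representation k G M} {d : ℕ}

theorem Fil_d (J : JData H x σ d) : Fil σ x d = ⊥ := by
  unfold Fil
  rw [uop_pow_eq_zero_of_JData J]
  exact LinearMap.range_zero

theorem Fil_ge_d (J : JData H x σ d) {r : ℕ} (h : d ≤ r) : Fil σ x r = ⊥ := by
  rw [eq_bot_iff, ← Fil_d J]
  exact Fil_anti h

theorem decomp (J : JData H x σ d) (y : M) :
    ∃ (c : k) (y' : M), y = c • J.v + uop σ x y' := by
  have hy : y ∈ Submodule.span k (Set.range fun j : Fin d => (uop σ x ^ (j : ℕ)) J.v) := by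
    rw [J.hspan]
    exact Submodule.mem_top
  induction hy using Submodule.span_induction with
  | mem z hz =>
    obtain ⟨j, rfl⟩ := hz
    rcases Nat.eq_zero_or_pos (j : ℕ) with h0 | h0
    · refine ⟨1, 0, ?_⟩
      simp [h0]
    · refine ⟨0, (uop σ x ^ ((j : ℕ) - 1)) J.v, ?_⟩
      rw [zero_smul, zero_add, ← Module.End.mul_apply, ← pow_succ']
      have hj : (j : ℕ) - 1 + 1 = (j : ℕ) := by omega
      rw [hj]
  | zero => exact ⟨0, 0, by simp⟩
  | add a b _ _ ha hb =>
    obtain ⟨c1, y1, h1⟩ := ha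
    obtain ⟨c2, y2, h2⟩ := hb
    refine ⟨c1 + c2, y1 + y2, ?_⟩
    rw [h1, h2, add_smul, map_add]
    abel
  | smul t a _ ha =>
    obtain ⟨c1, y1, h1⟩ := ha
    refine ⟨t * c1, t • y1, ?_⟩
    rw [h1, smul_add, smul_smul, map_smul]

theorem decomp_Fil (J : JData H x σ d) {r : ℕ} {w : M} (hw : w ∈ Fil σ x r) :
    ∃ c : k, w - c • (uop σ x ^ r) J.v ∈ Fil σ x (r + 1) := by
  obtain ⟨y, rfl⟩ := hw
  obtain ⟨c, y', hy⟩ := decomp J y
  refine ⟨c, y', ?_⟩
  rw [hy, map_add, map_smul, add_sub_cancel_left, pow_succ, Module.End.mul_apply]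

variable {β : LinearMap.BilinForm k M}

theorem form_uop (hβx : ∀ v w, β (σ x v) (σ x w) = β v w) (a b : M) :
    β (uop σ x a) b = - β (σ x a) (uop σ x b) := by
  rw [uop_apply, uop_apply, map_sub, map_sub, LinearMap.sub_apply, hβx]
  abel

theorem form_uop_pow (hβx : ∀ v w, β (σ x v) (σ x w) = β v w) (i : ℕ) (a b : M) :
    β ((uop σ x ^ i) a) b = (-1) ^ i * β ((σ x ^ i) a) ((uop σ x ^ i) b) := by
  induction i generalizing a b with
  | zero => simp
  | succ i ih =>
    have hc : (uop σ x ^ i) (σ x a) = σ x ((uop σ x ^ i) a) := by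
      have := ((rep_comm (σ := σ) (x := x)).pow_right i).eq
      rw [← Module.End.mul_apply, ← Module.End.mul_apply, this]
    calc β ((uop σ x ^ (i + 1)) a) b = β (uop σ x ((uop σ x ^ i) a)) b := by
          rw [pow_succ', Module.End.mul_apply]
      _ = - β (σ x ((uop σ x ^ i) a)) (uop σ x b) := form_uop hβx _ _
      _ = - β ((uop σ x ^ i) (σ x a)) (uop σ x b) := by rw [hc]
      _ = - ((-1) ^ i * β ((σ x ^ i) (σ x a)) ((uop σ x ^ i) (uop σ x b))) := by rw [ih]
      _ = (-1) ^ (i + 1) * β ((σ x ^ (i + 1)) a) ((uop σ x ^ (i + 1)) b) := by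
          rw [pow_succ (σ x) i, Module.End.mul_apply, pow_succ (uop σ x) i, Module.End.mul_apply]
          ring

theorem orth (J : JData H x σ d) (hβx : ∀ v w, β (σ x v) (σ x w) = β v w) {i j : ℕ}
    (hij : d ≤ i + j) {a b : M} (ha : a ∈ Fil σ x i) (hb : b ∈ Fil σ x j) : β a b = 0 := by
  obtain ⟨a', rfl⟩ := ha
  rw [form_uop_pow hβx]
  have h1 : (uop σ x ^ i) b ∈ Fil σ x (j + i) := pow_mem_Fil_add i hb
  rw [Fil_ge_d J (by omega), Submodule.mem_bot] at h1
  rw [h1, map_zero, mul_zero]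

theorem gamma (J : JData H x σ d) (hβx : ∀ v w, β (σ x v) (σ x w) = β v w) {r : ℕ}
    (hr : r < d) :
    β ((uop σ x ^ r) J.v) ((uop σ x ^ (d - 1 - r)) J.v) =
      (-1) ^ r * β J.v ((uop σ x ^ (d - 1)) J.v) := by
  rw [form_uop_pow hβx, ← Module.End.mul_apply, ← pow_add]
  have hrd : r + (d - 1 - r) = d - 1 := by omega
  rw [hrd]
  congr 1
  have hv : J.v ∈ Fil σ x 0 := by rw [Fil_zero]; exact Submodule.mem_top
  have h1 : (σ x ^ r) J.v - J.v ∈ Fil σ x (0 + 1) := rep_pow_sub_mem r hv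
  have h2 : β ((σ x ^ r) J.v - J.v) ((uop σ x ^ (d - 1)) J.v) = 0 :=
    orth J hβx (by omega) h1 (pow_mem_Fil (d - 1) J.v)
  rw [map_sub, LinearMap.sub_apply, sub_eq_zero] at h2
  exact h2

theorem b0_ne (J : JData H x σ d) (hβx : ∀ v w, β (σ x v) (σ x w) = β v w)
    (hβn : β.Nondegenerate) (hd1 : 1 ≤ d) : β J.v ((uop σ x ^ (d - 1)) J.v) ≠ 0 := by
  intro h0
  have hs : (uop σ x ^ (d - 1)) J.v ≠ 0 := J.hli.ne_zero ⟨d - 1, by omega⟩
  apply hs
  apply hβn.2
  intro a
  obtain ⟨c, a', ha⟩ := decomp J a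
  have h1 : uop σ x a' ∈ Fil σ x (0 + 1) :=
    uop_mem_Fil_succ (by rw [Fil_zero]; exact Submodule.mem_top)
  have h2 : β (uop σ x a') ((uop σ x ^ (d - 1)) J.v) = 0 :=
    orth J hβx (by omega) h1 (pow_mem_Fil (d - 1) J.v)
  rw [ha, map_add, LinearMap.add_apply, map_smul, LinearMap.smul_apply, h0, h2, smul_zero,
    add_zero]

/-- leading coefficient criterion -/
theorem LC (J : JData H x σ d) (hβx : ∀ v w, β (σ x v) (σ x w) = β v w)
    (hβn : β.Nondegenerate) {r : ℕ} (hr : r < d) {w : M} (hw : w ∈ Fil σ x r)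
    (h0 : β w ((uop σ x ^ (d - 1 - r)) J.v) = 0) : w ∈ Fil σ x (r + 1) := by
  obtain ⟨c, hc⟩ := decomp_Fil J hw
  have h1 : β (w - c • (uop σ x ^ r) J.v) ((uop σ x ^ (d - 1 - r)) J.v) = 0 :=
    orth J hβx (by omega) hc (pow_mem_Fil _ _)
  rw [map_sub, LinearMap.sub_apply, h0, map_smul, LinearMap.smul_apply, gamma J hβx hr,
    zero_sub, neg_eq_zero, smul_eq_mul] at h1
  have hb := b0_ne J hβx hβn (by omega)
  have hc0 : c = 0 := by
    rcases mul_eq_zero.mp h1 with h | h
    · exact h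
    · exfalso
      rcases mul_eq_zero.mp h with h' | h'
      · exact (pow_ne_zero r (by norm_num : (-1 : k) ≠ 0)) h'
      · exact hb h'
  rw [hc0, zero_smul, sub_zero] at hc
  exact hc

/-- `σ h` maps `g^j ν^j v` to `μ h • ν^j v` -/
theorem rep_h_geom (J : JData H x σ d) {h : G} (hh : h ∈ H) {m : ℕ}
    (hm : h⁻¹ * x * h = x ^ m) (j : ℕ) :
    σ h (((∑ i ∈ Finset.range m, σ x ^ i) ^ j) ((uop σ x ^ j) J.v)) =
      J.μ h • (uop σ x ^ j) J.v := by
  have h1 := uop_pow_mul_rep σ x h m hm j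
  have h2 := congrArg (fun T : Module.End k M => T J.v) h1
  simp only [Module.End.mul_apply] at h2
  rw [← h2, J.hμ h hh, map_smul]

theorem star (J : JData H x σ d) (hβx : ∀ v w, β (σ x v) (σ x w) = β v w) {h : G}
    (hβh : ∀ v w, β (σ h v) (σ h w) = β v w) (hh : h ∈ H) {m : ℕ}
    (hm : h⁻¹ * x * h = x ^ m) {r j : ℕ} (hrj : d ≤ r + j + 1) {w : M}
    (hw : w ∈ Fil σ x r) :
    J.μ h * β (σ h w) ((uop σ x ^ j) J.v) = (m : k) ^ j * β w ((uop σ x ^ j) J.v) := by
  set g := ∑ i ∈ Finset.range m, σ x ^ i with hg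
  set e := (uop σ x ^ j) J.v with he
  have h1 : σ h ((g ^ j) e) = J.μ h • e := rep_h_geom J hh hm j
  have h2 : (g ^ j) e - ((m : k) ^ j) • e ∈ Fil σ x (j + 1) :=
    geom_pow_sub_mem m j (pow_mem_Fil j J.v)
  have h3 : β w ((g ^ j) e - ((m : k) ^ j) • e) = 0 := orth J hβx (by omega) hw h2
  rw [map_sub, sub_eq_zero, map_smul, smul_eq_mul] at h3
  calc J.μ h * β (σ h w) e = β (σ h w) (J.μ h • e) := by rw [map_smul, smul_eq_mul]
    _ = β (σ h w) (σ h ((g ^ j) e)) := by rw [h1]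
    _ = β w ((g ^ j) e) := hβh _ _
    _ = (m : k) ^ j * β w e := h3

theorem mu_sq (J : JData H x σ d) (hβx : ∀ v w, β (σ x v) (σ x w) = β v w)
    (hβn : β.Nondegenerate) (hd1 : 1 ≤ d) {h : G}
    (hβh : ∀ v w, β (σ h v) (σ h w) = β v w) (hh : h ∈ H) {m : ℕ}
    (hm : h⁻¹ * x * h = x ^ m) : J.μ h * J.μ h = (m : k) ^ (d - 1) := by
  have hv : J.v ∈ Fil σ x 0 := by rw [Fil_zero]; exact Submodule.mem_top
  have h1 := star J hβx hβh hh hm (r := 0) (j := d - 1) (by omega) hv
  rw [J.hμ h hh, map_smul, LinearMap.smul_apply, smul_eq_mul, ← mul_assoc] at h1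
  exact mul_right_cancel₀ (b0_ne J hβx hβn hd1) h1

theorem mu_ne (J : JData H x σ d) (hβx : ∀ v w, β (σ x v) (σ x w) = β v w)
    (hβn : β.Nondegenerate) (hd1 : 1 ≤ d) {h : G} (hh : h ∈ H) : J.μ h ≠ 0 := by
  intro h0
  have h1 := J.hμ h hh
  rw [h0, zero_smul] at h1
  have h2 : J.v = 0 := by
    have := congrArg (σ h⁻¹) h1
    rw [rep_inv_apply, map_zero] at this
    exact this
  apply b0_ne J hβx hβn hd1
  rw [h2, map_zero, LinearMap.zero_apply]

/-- one step up the filtration -/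
theorem step (J : JData H x σ d) (hβx : ∀ v w, β (σ x v) (σ x w) = β v w)
    (hβn : β.Nondegenerate) {h : G}
    (hβh : ∀ v w, β (σ h v) (σ h w) = β v w) (hh : h ∈ H) {m : ℕ}
    (hm : h⁻¹ * x * h = x ^ m)
    {Z : Module.End k M} (hhZ : (m : k) • (σ h * Z) = Z * σ h)
    {r : ℕ} (hr : r < d) (hne : (m : k) ^ (d - 1) - (m : k) ^ (d - r) ≠ 0)
    (hw : Z J.v ∈ Fil σ x r) : Z J.v ∈ Fil σ x (r + 1) := by
  apply LC J hβx hβn hr hw
  set w := Z J.v with hwdef
  set e := (uop σ x ^ (d - 1 - r)) J.v with he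
  -- `m • σ h w = μ • w`
  have h1 : (m : k) • σ h w = J.μ h • w := by
    have := congrArg (fun T : Module.End k M => T J.v) hhZ
    simp only [LinearMap.smul_apply, Module.End.mul_apply] at this
    rw [this, J.hμ h hh, map_smul]
  have h2 := star J hβx hβh hh hm (r := r) (j := d - 1 - r) (by omega) hw
  -- multiply by `m`
  have h3 : J.μ h * ((m : k) * β (σ h w) e) = (m : k) ^ (d - r) * β w e := by
    have : (m : k) ^ (d - r) = (m : k) * (m : k) ^ (d - 1 - r) := by
      rw [← pow_succ']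
      congr 1
      omega
    rw [this, mul_assoc, ← h2]
    ring
  have h4 : (m : k) * β (σ h w) e = J.μ h * β w e := by
    have := congrArg (fun y => β y e) h1
    simp only [map_smul, LinearMap.smul_apply, smul_eq_mul] at this
    exact this
  rw [h4, ← mul_assoc, mu_sq J hβx hβn (by omega) hβh hh hm] at h3
  have h5 : ((m : k) ^ (d - 1) - (m : k) ^ (d - r)) * β w e = 0 := by
    rw [sub_mul, h3, sub_self]
  rcases mul_eq_zero.mp h5 with h | h
  · exact absurd h hne
  · exact h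

/-- **Lemma A**: an endomorphism commuting with `σ x`, of `h`-weight `m⁻¹`, sending the
generator into `Fil 2`, vanishes. -/
theorem lemmaA {p : ℕ} (hd : 2 * d = p + 1) (hp5 : 5 ≤ p)
    (J : JData H x σ d) (hβx : ∀ v w, β (σ x v) (σ x w) = β v w)
    (hβn : β.Nondegenerate) {h : G}
    (hβh : ∀ v w, β (σ h v) (σ h w) = β v w) (hh : h ∈ H) {m : ℕ}
    (hm : h⁻¹ * x * h = x ^ m)
    (hord : ∀ j : ℕ, 1 ≤ j → 2 * j < p - 1 → (m : k) ^ j ≠ 1)
    {Z : Module.End k M} (hxZ : σ x * Z = Z * σ x)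
    (hhZ : (m : k) • (σ h * Z) = Z * σ h) (h2 : Z J.v ∈ Fil σ x 2) : Z = 0 := by
  have hm0 : (m : k) ≠ 0 := by
    intro h0
    have h1 := mu_sq J hβx hβn (by omega) hβh hh hm
    rw [h0, zero_pow (by omega)] at h1
    exact mu_ne J hβx hβn (by omega) hh (mul_self_eq_zero.mp h1)
  have hall : ∀ r : ℕ, 2 ≤ r → r ≤ d → Z J.v ∈ Fil σ x r := by
    intro r hr2 hrd
    induction r, hr2 using Nat.le_induction with
    | base => exact h2
    | succ r hr2 ih =>
      have hr : r < d := by omega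
      apply step J hβx hβn hβh hh hm hhZ hr ?_ (ih (by omega))
      have h1 : (m : k) ^ (d - 1) = (m : k) ^ (d - r) * (m : k) ^ (r - 1) := by
        rw [← pow_add]
        congr 1
        omega
      rw [h1, ← mul_sub_one]
      apply mul_ne_zero (pow_ne_zero _ hm0)
      rw [sub_ne_zero]
      exact hord (r - 1) (by omega) (by omega)
  have hZv : Z J.v = 0 := by
    have := hall d (by omega) le_rfl
    rw [Fil_d J, Submodule.mem_bot] at this
    exact this
  have hc : Commute Z (uop σ x) := comm_of_rep hxZ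
  apply LinearMap.ext_on_range J.hspan
  intro j
  have := (hc.pow_right (j : ℕ)).eq
  rw [LinearMap.zero_apply, ← Module.End.mul_apply, this, Module.End.mul_apply, hZv, map_zero]

theorem form_rep_left {g : G} (hβg : ∀ v w, β (σ g v) (σ g w) = β v w) (a b : M) :
    β (σ g a) b = β a (σ g⁻¹ b) := by
  conv_lhs => rw [← rep_apply_inv σ g b]
  exact hβg _ _

/-- the adjoint inherits weight relations -/
theorem adj_weight [FiniteDimensional k M] (hβn : β.Nondegenerate) {g : G}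
    (hβg : ∀ v w, β (σ g v) (σ g w) = β v w) (c : k) {E : Module.End k M}
    (hc : c • (σ g * E) = E * σ g) :
    c • (σ g * β.leftAdjointOfNondegenerate hβn E) =
      β.leftAdjointOfNondegenerate hβn E * σ g := by
  have hadj : ∀ a b, β (β.leftAdjointOfNondegenerate hβn E a) b = β a (E b) :=
    LinearMap.BilinForm.isAdjointPairLeftAdjointOfNondegenerate β hβn E
  have hkey : ∀ b, c • E (σ g⁻¹ b) = σ g⁻¹ (E b) := by
    intro b
    have h1 := congrArg (fun T : Module.End k M => T (σ g⁻¹ b)) hc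
    simp only [LinearMap.smul_apply, Module.End.mul_apply, rep_apply_inv] at h1
    have h2 := congrArg (σ g⁻¹) h1
    rw [map_smul, rep_inv_apply] at h2
    exact h2
  apply LinearMap.ext
  intro a
  rw [← sub_eq_zero]
  apply hβn.1
  intro b
  rw [map_sub, LinearMap.sub_apply, sub_eq_zero]
  simp only [LinearMap.smul_apply, Module.End.mul_apply, map_smul, smul_eq_mul]
  rw [form_rep_left hβg, hadj, hadj, form_rep_left hβg, ← hkey, map_smul, smul_eq_mul]

end Form

end SKEWE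

open SKEWE in
/-- **T-SKEWE** -/
theorem skew_of_weight {k : Type*} [Field k] {G : Type*} [Group G] {p : ℕ} [Fact p.Prime]
    [CharP k p] {H : Subgroup G} {x : G}
    {M : Type*} [AddCommGroup M] [Module k M] [FiniteDimensional k M]
    (σ : Representation k G M) (d : ℕ) (hd : 2 * d = p + 1) (hp5 : 5 ≤ p) (J : JData H x σ d)
    (β : LinearMap.BilinForm k M) (hβs : ∀ v w, β v w = β w v) (hβn : β.Nondegenerate)
    (hβinv : ∀ g v w, β (σ g v) (σ g w) = β v w)
    (h : G) (hh : h ∈ H) (m : ℕ) (hm : h⁻¹ * x * h = x ^ m)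
    (hord : ∀ j : ℕ, 1 ≤ j → 2 * j < p - 1 → (m : k) ^ j ≠ 1)
    (E : Module.End k M) (hxE : σ x * E = E * σ x) (hhE : (m : k) • (σ h * E) = E * σ h) :
    E ∈ skewSub β := by
  have hβx := hβinv x
  have hβh := hβinv h
  have hd3 : 3 ≤ d := by omega
  set E' := β.leftAdjointOfNondegenerate hβn E with hE'
  have hadj : ∀ a b, β (E' a) b = β a (E b) :=
    LinearMap.BilinForm.isAdjointPairLeftAdjointOfNondegenerate β hβn E
  have hm0 : (m : k) ≠ 0 := by
    intro h0
    have h1 := mu_sq J hβx hβn (by omega) hβh hh hm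
    rw [h0, zero_pow (by omega)] at h1
    exact mu_ne J hβx hβn (by omega) hh (mul_self_eq_zero.mp h1)
  have hm1 : (m : k) ≠ 1 := by
    have := hord 1 le_rfl (by omega)
    rwa [pow_one] at this
  have hv0 : ∀ w : M, w ∈ Fil σ x 0 := fun w => by rw [Fil_zero]; exact Submodule.mem_top
  -- `E v ∈ Fil 1`
  have hE1 : E J.v ∈ Fil σ x (0 + 1) := by
    apply step J hβx hβn hβh hh hm hhE (by omega) ?_ (hv0 _)
    have h1 : (m : k) ^ (d - 0) = (m : k) ^ (d - 1) * (m : k) := by
      rw [← pow_succ]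
      congr 1
      omega
    rw [h1, ← mul_one_sub]
    exact mul_ne_zero (pow_ne_zero _ hm0) (sub_ne_zero.mpr (Ne.symm hm1))
  have hcE : Commute E (uop σ x) := comm_of_rep hxE
  have hEpow : ∀ j : ℕ, E ((uop σ x ^ j) J.v) = (uop σ x ^ j) (E J.v) := by
    intro j
    have := (hcE.pow_right j).eq
    rw [← Module.End.mul_apply, this, Module.End.mul_apply]
  -- the sum `D = E + E†`
  set D : Module.End k M := E + E' with hD
  have hxE' : σ x * E' = E' * σ x := by
    have := adj_weight hβn hβx (1 : k) (E := E) (by rw [one_smul]; exact hxE)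
    rwa [one_smul] at this
  have hhE' : (m : k) • (σ h * E') = E' * σ h := adj_weight hβn hβh (m : k) hhE
  have hxD : σ x * D = D * σ x := by rw [hD, mul_add, add_mul, hxE, hxE']
  have hhD : (m : k) • (σ h * D) = D * σ h := by
    rw [hD, mul_add, smul_add, add_mul, hhE, hhE']
  -- `D v ∈ Fil 1`
  have hs : (uop σ x ^ (d - 1)) J.v ∈ Fil σ x (d - 1) := pow_mem_Fil _ _
  have hD1 : D J.v ∈ Fil σ x (0 + 1) := by
    apply LC J hβx hβn (by omega) (hv0 _)
    rw [hD, LinearMap.add_apply, map_add, LinearMap.add_apply, hadj, Nat.sub_zero, hEpow]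
    have h1 : β (E J.v) ((uop σ x ^ (d - 1)) J.v) = 0 := orth J hβx (by omega) hE1 hs
    have h2 : (uop σ x ^ (d - 1)) (E J.v) ∈ Fil σ x (0 + 1 + (d - 1)) :=
      pow_mem_Fil_add (d - 1) hE1
    rw [Fil_ge_d J (by omega), Submodule.mem_bot] at h2
    rw [h1, h2, map_zero, add_zero]
  -- `D v ∈ Fil 2`
  have hD2 : D J.v ∈ Fil σ x 2 := by
    have : D J.v ∈ Fil σ x (1 + 1) := by
      apply LC J hβx hβn (by omega) hD1
      obtain ⟨c, hc⟩ := decomp_Fil J hE1
      set f := E J.v - c • (uop σ x ^ (0 + 1)) J.v with hf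
      have hEv : E J.v = c • (uop σ x ^ 1) J.v + f := by rw [hf]; simp
      have hdd : d - 1 - 1 = d - 2 := by omega
      rw [hdd, hD, LinearMap.add_apply, map_add, LinearMap.add_apply, hadj, hEpow]
      have h1 : β f ((uop σ x ^ (d - 2)) J.v) = 0 :=
        orth J hβx (by omega) hc (pow_mem_Fil _ _)
      have h2 : (uop σ x ^ (d - 2)) f ∈ Fil σ x (0 + 1 + 1 + (d - 2)) :=
        pow_mem_Fil_add (d - 2) hc
      rw [Fil_ge_d J (by omega), Submodule.mem_bot] at h2
      have h3 := gamma J hβx (r := 1) (by omega)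
      rw [hdd] at h3
      have h4 : (uop σ x ^ (d - 2)) ((uop σ x ^ 1) J.v) = (uop σ x ^ (d - 1)) J.v := by
        rw [← Module.End.mul_apply, ← pow_add]
        congr 2
        omega
      rw [hEv, map_add, map_add, LinearMap.add_apply, map_smul, map_smul, LinearMap.smul_apply,
        h1, h2, h3, h4, add_zero, add_zero, map_smul]
      simp only [smul_eq_mul]
      ring
    exact this
  have hD0 : D = 0 := lemmaA hd hp5 J hβx hβn hβh hh hm hord hxD hhD hD2
  rw [mem_skewSub]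
  intro a b
  have := congrArg (fun T : Module.End k M => β (T a) b) hD0
  simp only [hD, LinearMap.add_apply, LinearMap.zero_apply, map_add, map_zero] at this
  rw [hadj] at this
  exact this

end Cfsg.Agent.S0997P
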