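import Mathlib

/-!
# The socle of the group algebra of a `p`-group in characteristic `p`

For a finite `p`-group `P`, a field `k` of characteristic `p` and a non-zero function `c : P → k`
(an element of the group algebra), some left multiple `b * c` is the all-ones function (the sum of
all group elements).  Convolution is written out explicitly.
-/

set_option autoImplicit false

namespace Cfsg.Agent.Helper20.TiSocle

open MulAction

variable {P : Type*} [Group P] [Fintype P] {k : Type*} [Field k]

/-- Left translation of a function on `P`. -/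
def tr (x : P) (f : P → k) : P → k := fun y => f (x⁻¹ * y)

/-- Convolution `b * c`. -/
def conv (b c : P → k) : P → k := fun x => ∑ y : P, b y * c (y⁻¹ * x)

theorem tr_one (f : P → k) : tr (1 : P) f = f := by
  funext y; simp [tr]

theorem tr_mul (x y : P) (f : P → k) : tr (x * y) f = tr x (tr y f) := by
  funext z; simp [tr, mul_assoc]

theorem tr_add (x : P) (f g : P → k) : tr x (f + g) = tr x f + tr x g := rfl

theorem tr_conv (x : P) (b c : P → k) : tr x (conv b c) = conv (tr x b) c := by
  funext z
  simp only [tr, conv]
  refine Fintype.sum_equiv (Equiv.mulLeft x) _ _ (fun y => ?_)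
  simp [mul_assoc]

theorem conv_single [DecidableEq P] (x : P) (c : P → k) :
    conv (Pi.single x 1) c = tr x c := by
  funext z
  simp only [conv, tr]
  rw [Finset.sum_eq_single x]
  · simp
  · intro y _ hy
    simp [Pi.single_eq_of_ne hy]
  · intro h; exact absurd (Finset.mem_univ x) h

/-- Convolution with `c` as a linear map. -/
def convMap (c : P → k) : (P → k) →ₗ[k] (P → k) where
  toFun b := conv b c
  map_add' b b' := by
    funext x
    simp [conv, add_mul, Finset.sum_add_distrib]
  map_smul' r b := by
    funext x
    simp [conv, Finset.mul_sum, mul_assoc]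

theorem socle (p : ℕ) [hp : Fact p.Prime] [CharP k p] (hP : IsPGroup p P) (c : P → k)
    (hc : c ≠ 0) : ∃ b : P → k, ∀ x : P, conv b c x = 1 := by
  classical
  letI : Algebra (ZMod p) k := ZMod.algebra k p
  -- the `𝔽_p`-span of the translates of `c`
  let M : Submodule (ZMod p) (P → k) := Submodule.span (ZMod p) (Set.range fun x : P => tr x c)
  have htrM : ∀ (x : P) (f : P → k), f ∈ M → tr x f ∈ M := by
    intro x f hf
    induction hf using Submodule.span_induction with
    | mem g hg =>
      obtain ⟨y, rfl⟩ := hg
      rw [← tr_mul]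
      exact Submodule.subset_span ⟨x * y, rfl⟩
    | zero => exact M.zero_mem
    | add g g' _ _ hg hg' => rw [tr_add]; exact M.add_mem hg hg'
    | smul r g _ hg =>
      have : tr x (r • g) = r • tr x g := rfl
      rw [this]; exact M.smul_mem r hg
  letI : MulAction P M :=
    { smul := fun x f => ⟨tr x f.1, htrM x f.1 f.2⟩
      one_smul := fun f => Subtype.ext (tr_one f.1)
      mul_smul := fun x y f => Subtype.ext (tr_mul x y f.1) }
  have hsmul : ∀ (x : P) (f : M), ((x • f : M) : P → k) = tr x f.1 := fun _ _ => rfl
  haveI : Module.Finite (ZMod p) M := Module.Finite.span_of_finite (ZMod p) (Set.finite_range _)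
  haveI : Finite M := Module.finite_of_finite (ZMod p)
  have hcM : c ∈ M := Submodule.subset_span ⟨1, tr_one c⟩
  -- `p` divides the cardinality of `M`
  have hpM : p ∣ Nat.card M := by
    let c' : M := ⟨c, hcM⟩
    have hc' : c' ≠ 0 := fun h => hc (congrArg Subtype.val h)
    have h1 : p • c' = 0 := by
      apply Subtype.ext
      funext x
      simp [c', CharP.cast_eq_zero k p]
    have h2 : addOrderOf c' ∣ p := addOrderOf_dvd_of_nsmul_eq_zero h1
    have h3 : addOrderOf c' = p := by
      rcases (Nat.dvd_prime hp.out).mp h2 with h | h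
      · exact absurd (AddMonoid.addOrderOf_eq_one_iff.mp h) hc'
      · exact h
    have h4 : addOrderOf c' ∣ Nat.card M := addOrderOf_dvd_natCard c'
    exact (dvd_of_eq h3.symm).trans h4
  have h0 : (0 : M) ∈ fixedPoints P M := by
    intro x
    apply Subtype.ext
    rw [hsmul]
    funext y
    simp [tr]
  obtain ⟨f, hf, hf0⟩ := hP.exists_fixed_point_of_prime_dvd_card_of_fixed_point M hpM h0
  -- `f` is constant
  have hconst : ∀ y : P, f.1 y = f.1 1 := by
    intro y
    have := congrArg Subtype.val (hf y)
    rw [hsmul] at this
    have h2 := congrFun this y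
    simp only [tr, inv_mul_cancel] at h2
    exact h2.symm
  have hκ : f.1 1 ≠ 0 := by
    intro h
    apply hf0
    apply Subtype.ext
    funext y
    rw [hconst y, h]
    rfl
  -- `M` lies in the range of convolution with `c`
  have hMI : M ≤ (LinearMap.range (convMap c)).restrictScalars (ZMod p) := by
    apply Submodule.span_le.mpr
    rintro _ ⟨x, rfl⟩
    exact ⟨Pi.single x 1, conv_single x c⟩
  obtain ⟨b, hb⟩ := hMI f.2
  refine ⟨(f.1 1)⁻¹ • b, fun x => ?_⟩
  have h1 : conv ((f.1 1)⁻¹ • b) c = (f.1 1)⁻¹ • conv b c := (convMap c).map_smul _ b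
  have h2 : conv b c = f.1 := hb
  rw [h1, h2]
  simp only [Pi.smul_apply, smul_eq_mul]
  rw [hconst x]
  exact inv_mul_cancel₀ hκ

end Cfsg.Agent.Helper20.TiSocle
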