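import Mathlib
import Cfsg.Agent.Helper20.TiSocle

/-!
# A lattice criterion for a free orbit span

Let `P` be a finite `p`-group acting linearly on a complex vector space `V`, `A` a valuation
subring of `ℂ` in which `p` is not a unit, and `L` a finitely generated non-zero `A`-submodule of
`V` stable under `P`.  If `w ∈ L` is such that `∑ x, x • w ∈ 𝔪 L` would force `L ≤ 𝔪 L`, then the
vectors `x • w` (`x ∈ P`) are linearly independent over `ℂ`.
-/

set_option autoImplicit false

namespace Cfsg.Agent.Helper20.TiLattice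

open Cfsg.Agent.Helper20.TiSocle

theorem charP_residue (p : ℕ) [hp : Fact p.Prime] (A : ValuationSubring ℂ)
    (hpA : (p : ℂ) ∈ A.nonunits) : CharP (IsLocalRing.ResidueField A) p := by
  have hpmem : (p : ℂ) ∈ A := A.nonunits_subset hpA
  have h1 : (⟨(p : ℂ), hpmem⟩ : A) ∈ IsLocalRing.maximalIdeal A := by
    rw [IsLocalRing.mem_maximalIdeal, mem_nonunits_iff]
    intro hu
    have h2 := (A.mem_nonunits_iff_exists_mem_maximalIdeal).mp hpA
    obtain ⟨ha, hm⟩ := h2
    rw [IsLocalRing.mem_maximalIdeal, mem_nonunits_iff] at hm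
    exact hm hu
  have h0 : ((p : ℕ) : IsLocalRing.ResidueField A) = 0 := by
    have h3 : IsLocalRing.residue A (⟨(p : ℂ), hpmem⟩ : A) = 0 :=
      (IsLocalRing.residue_eq_zero_iff _).mpr h1
    have h4 : (⟨(p : ℂ), hpmem⟩ : A) = ((p : ℕ) : A) := by
      apply Subtype.ext
      simp
    rw [h4, map_natCast] at h3
    exact h3
  have h5 : ringChar (IsLocalRing.ResidueField A) ∣ p := ringChar.dvd h0
  rcases (Nat.dvd_prime hp.out).mp h5 with h | h
  · exact absurd h (CharP.ringChar_ne_one)
  · exact ringChar.of_eq h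

theorem linearIndependent_orbit {P : Type*} [Group P] [Fintype P] (p : ℕ) [hp : Fact p.Prime]
    (hP : IsPGroup p P) {V : Type*} [AddCommGroup V] [Module ℂ V] (σ : P →* (V →ₗ[ℂ] V))
    (A : ValuationSubring ℂ) (hpA : (p : ℂ) ∈ A.nonunits)
    (L : Submodule A V) (hfg : L.FG) (hLσ : ∀ x : P, ∀ u ∈ L, σ x u ∈ L)
    (w : V) (hw : w ∈ L)
    (hnak : (∑ x : P, σ x w) ∈ (IsLocalRing.maximalIdeal A) • L →
      L ≤ (IsLocalRing.maximalIdeal A) • L)
    (hL : L ≠ ⊥) : LinearIndependent ℂ (fun x : P => σ x w) := by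
  classical
  by_contra hdep
  obtain ⟨g, hg0, x₁, hx₁⟩ := Fintype.not_linearIndependent_iff.mp hdep
  -- normalise the relation
  obtain ⟨x₀, _, hmax⟩ := Finset.exists_max_image Finset.univ (fun x => A.valuation (g x))
    ⟨x₁, Finset.mem_univ _⟩
  have hgx₀ : g x₀ ≠ 0 := by
    intro h
    have h1 := hmax x₁ (Finset.mem_univ _)
    rw [h, map_zero] at h1
    exact hx₁ ((A.valuation.zero_iff).mp (le_antisymm h1 zero_le'))
  have hcmem : ∀ x : P, g x / g x₀ ∈ A := by
    intro x
    rw [← A.valuation_le_one_iff, map_div₀]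
    have hv0 : A.valuation (g x₀) ≠ 0 := (A.valuation.ne_zero_iff).mpr hgx₀
    exact div_le_one_of_le₀ (hmax x (Finset.mem_univ _)) zero_le'
  let c : P → A := fun x => ⟨g x / g x₀, hcmem x⟩
  have hc0 : ∑ x : P, (c x : ℂ) • σ x w = 0 := by
    have : ∑ x : P, (c x : ℂ) • σ x w = (g x₀)⁻¹ • ∑ x : P, g x • σ x w := by
      rw [Finset.smul_sum]
      refine Finset.sum_congr rfl (fun x _ => ?_)
      rw [smul_smul]
      congr 1
      show g x / g x₀ = (g x₀)⁻¹ * g x
      field_simp
    rw [this, hg0, smul_zero]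
  -- reduce modulo the maximal ideal
  haveI : CharP (IsLocalRing.ResidueField A) p := charP_residue p A hpA
  let res := IsLocalRing.residue A
  let cbar : P → IsLocalRing.ResidueField A := fun x => res (c x)
  have hcbar : cbar ≠ 0 := by
    intro h
    have h1 := congrFun h x₀
    have h2 : c x₀ = 1 := by
      apply Subtype.ext
      show g x₀ / g x₀ = 1
      exact div_self hgx₀
    simp only [cbar, h2, map_one, Pi.zero_apply] at h1
    exact one_ne_zero h1
  obtain ⟨bbar, hbbar⟩ := socle p hP cbar hcbar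
  have hsurj : Function.Surjective res := IsLocalRing.residue_surjective
  choose b hb using fun x => hsurj (bbar x)
  let d : P → A := fun x => ∑ y : P, b y * c (y⁻¹ * x)
  have hd : ∀ x : P, 1 - d x ∈ IsLocalRing.maximalIdeal A := by
    intro x
    rw [← IsLocalRing.residue_eq_zero_iff, map_sub, map_one, sub_eq_zero]
    have : res (d x) = conv bbar cbar x := by
      simp only [d, conv, map_sum, map_mul, cbar, hb]
    rw [show IsLocalRing.residue A (d x) = res (d x) from rfl, this, hbbar x]
  have hd0 : ∑ x : P, ((d x : A) : ℂ) • σ x w = 0 := by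
    have h1 : ∀ x : P, ((d x : A) : ℂ) • σ x w =
        ∑ y : P, ((b y : ℂ) * (c (y⁻¹ * x) : ℂ)) • σ x w := by
      intro x
      rw [← Finset.sum_smul]
      congr 1
      simp [d]
    simp_rw [h1]
    rw [Finset.sum_comm]
    have h2 : ∀ y : P, ∑ x : P, ((b y : ℂ) * (c (y⁻¹ * x) : ℂ)) • σ x w =
        (b y : ℂ) • σ y (∑ z : P, (c z : ℂ) • σ z w) := by
      intro y
      rw [map_sum, Finset.smul_sum]
      refine Fintype.sum_equiv (Equiv.mulLeft y⁻¹) _ _ (fun x => ?_)
      simp only [Equiv.coe_mulLeft, map_smul, smul_smul]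
      congr 1
      rw [← Module.End.mul_apply, ← map_mul, mul_inv_cancel_left]
    simp_rw [h2, hc0, map_zero, smul_zero, Finset.sum_const_zero]
  have htr : (∑ x : P, σ x w) ∈ (IsLocalRing.maximalIdeal A) • L := by
    have h1 : ∑ x : P, σ x w = ∑ x : P, (1 - d x) • σ x w := by
      have h2 : ∑ x : P, (1 - d x) • σ x w =
          ∑ x : P, σ x w - ∑ x : P, ((d x : A) : ℂ) • σ x w := by
        rw [← Finset.sum_sub_distrib]
        refine Finset.sum_congr rfl (fun x _ => ?_)
        rw [sub_smul, one_smul]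
        rfl
      rw [h2, hd0, sub_zero]
    rw [h1]
    refine Submodule.sum_mem _ (fun x _ => ?_)
    exact Submodule.smul_mem_smul (hd x) (hLσ x w hw)
  have hle := hnak htr
  have hbot := Submodule.eq_bot_of_le_smul_of_le_jacobson_bot _ L hfg hle
    (IsLocalRing.maximalIdeal_le_jacobson _)
  exact hL hbot

end Cfsg.Agent.Helper20.TiLattice
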