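import Mathlib
import Cfsg.Agent.Helper20.TiLattice

/-!
# Representations with a vector fixed by an overgroup of the normalizer of a TI Sylow subgroup

Let `P` be a Sylow `p`-subgroup of `G` meeting its conjugates `g P g⁻¹` (`g ∉ N_G(P)`) trivially,
and `H ≥ N_G(P)`.  If a complex representation of `G` without non-zero `G`-fixed vectors has a
non-zero `H`-fixed vector, then its dimension is at least `|P|`.
-/

set_option autoImplicit false

namespace Cfsg.Agent.Helper20.TiClaim

open Cfsg.Agent.Helper20.TiLattice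

open scoped Pointwise

variable {G : Type*} [Group G]

/-- Non-identity elements of `P` fix only the base coset of `G ⧸ H`. -/
theorem semiregular [Finite G] (p : ℕ) [Fact p.Prime] (P : Sylow p G)
    (hTI : ∀ g : G, g ∉ Subgroup.normalizer ((P : Subgroup G) : Set G) →
      (P : Subgroup G) ⊓ (MulAut.conj g • (P : Subgroup G)) = ⊥)
    (H : Subgroup G) (hH : Subgroup.normalizer ((P : Subgroup G) : Set G) ≤ H)
    (x : G) (hxP : x ∈ (P : Subgroup G)) (hx1 : x ≠ 1) (g : G)
    (hfix : g⁻¹ * x * g ∈ H) : g ∈ H := by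
  have hPH : (P : Subgroup G) ≤ H := Subgroup.le_normalizer.trans hH
  -- the `p`-subgroup `(g⁻¹ P g) ∩ H` of `H`
  let Q₀ : Subgroup G := MulAut.conj g⁻¹ • (P : Subgroup G)
  have hQ₀ : IsPGroup p Q₀ := by
    have : IsPGroup p ((g⁻¹ • P : Sylow p G) : Subgroup G) := (g⁻¹ • P : Sylow p G).isPGroup'
    rw [Sylow.coe_subgroup_smul] at this
    exact this
  have hR : IsPGroup p (Q₀.subgroupOf H) := hQ₀.comap_subtype
  obtain ⟨Q, hQ⟩ := hR.exists_le_sylow
  obtain ⟨h, hh⟩ := MulAction.exists_smul_eq H (P.subtype hPH) Q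
  have hy : (⟨g⁻¹ * x * g, hfix⟩ : H) ∈ Q₀.subgroupOf H := by
    rw [Subgroup.mem_subgroupOf]
    show g⁻¹ * x * g ∈ MulAut.conj g⁻¹ • (P : Subgroup G)
    rw [Subgroup.mem_pointwise_smul_iff_inv_smul_mem]
    have : (MulAut.conj g⁻¹)⁻¹ • (g⁻¹ * x * g) = x := by
      simp only [MulAut.smul_def, map_inv, inv_inv, MulAut.conj_apply]
      group
    rw [this]; exact hxP
  have hyQ := hQ hy
  rw [← hh, Sylow.smul_def] at hyQ
  have hyQ' : (h⁻¹ * (⟨g⁻¹ * x * g, hfix⟩ : H) * h : H) ∈
      ((P.subtype hPH : Sylow p H) : Subgroup H) := by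
    have := (Subgroup.mem_pointwise_smul_iff_inv_smul_mem (a := MulAut.conj h)
      (S := ((P.subtype hPH : Sylow p H) : Subgroup H))
      (x := (⟨g⁻¹ * x * g, hfix⟩ : H))).mp hyQ
    simpa using this
  have hz : (h : G)⁻¹ * (g⁻¹ * x * g) * (h : G) ∈ (P : Subgroup G) := by
    rw [Sylow.coe_subtype, Subgroup.mem_subgroupOf] at hyQ'
    simpa using hyQ'
  -- so `x ∈ P ∩ (g h) P (g h)⁻¹`
  by_contra hgH
  have hghN : g * (h : G) ∉ Subgroup.normalizer ((P : Subgroup G) : Set G) := by
    intro hn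
    have h1 : g * (h : G) ∈ H := hH hn
    have h2 : g = g * (h : G) * (h : G)⁻¹ := by group
    rw [h2] at hgH
    exact hgH (H.mul_mem h1 (H.inv_mem h.2))
  have hbot := hTI _ hghN
  have hxmem : x ∈ (P : Subgroup G) ⊓ (MulAut.conj (g * (h : G)) • (P : Subgroup G)) := by
    refine Subgroup.mem_inf.mpr ⟨hxP, ?_⟩
    rw [Subgroup.mem_pointwise_smul_iff_inv_smul_mem]
    have : (MulAut.conj (g * (h : G)))⁻¹ • x = (h : G)⁻¹ * (g⁻¹ * x * g) * (h : G) := by
      simp only [MulAut.smul_def, MulAut.conj_inv_apply]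
      group
    rw [this]; exact hz
  rw [hbot, Subgroup.mem_bot] at hxmem
  exact hx1 hxmem

/-- There is a valuation subring of `ℂ` in which the prime `p` is not a unit. -/
theorem exists_valuationSubring (p : ℕ) [hp : Fact p.Prime] :
    ∃ A : ValuationSubring ℂ, (p : ℂ) ∈ A.nonunits := by
  let A₀ : Subring ℂ := (Int.castRingHom ℂ).range
  have hpA₀ : (p : ℂ) ∈ A₀ := ⟨(p : ℤ), by simp⟩
  let I : Ideal A₀ := Ideal.span {⟨(p : ℂ), hpA₀⟩}
  have hI : I ≠ ⊤ := by
    intro h
    rw [Ideal.span_singleton_eq_top] at h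
    obtain ⟨⟨b, hb⟩, hbu⟩ := isUnit_iff_exists_inv.mp h
    obtain ⟨m, rfl⟩ := hb
    have h1 : ((p : ℂ)) * ((Int.castRingHom ℂ) m) = 1 := congrArg Subtype.val hbu
    have h2 : ((p * m : ℤ) : ℂ) = ((1 : ℤ) : ℂ) := by
      push_cast
      simpa using h1
    have h3 : (p : ℤ) * m = 1 := Int.cast_injective h2
    have h4 : (p : ℤ) ∣ 1 := Dvd.intro _ h3
    have h5 : p ∣ 1 := by exact_mod_cast h4
    exact hp.out.one_lt.ne' (Nat.dvd_one.mp h5)
  obtain ⟨B, _, hB⟩ := Ideal.image_subset_nonunits_valuationSubring I hI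
  refine ⟨B, hB ⟨⟨(p : ℂ), hpA₀⟩, Ideal.subset_span rfl, rfl⟩⟩

/-- **TI Sylow lemma.** -/
theorem card_le_finrank [Fintype G] (p : ℕ) [Fact p.Prime] (P : Sylow p G)
    (hTI : ∀ g : G, g ∉ Subgroup.normalizer ((P : Subgroup G) : Set G) →
      (P : Subgroup G) ⊓ (MulAut.conj g • (P : Subgroup G)) = ⊥)
    (H : Subgroup G) (hH : Subgroup.normalizer ((P : Subgroup G) : Set G) ≤ H)
    {V : Type*} [AddCommGroup V] [Module ℂ V] [FiniteDimensional ℂ V]
    (ρ : Representation ℂ G V) (hfix : ∀ u : V, (∀ g : G, ρ g u = u) → u = 0)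
    (v : V) (hv : v ≠ 0) (hvH : ∀ h ∈ H, ρ h v = v) :
    Nat.card (P : Subgroup G) ≤ Module.finrank ℂ V := by
  classical
  haveI : Fintype (G ⧸ H) := Fintype.ofFinite _
  haveI : Fintype (P : Subgroup G) := Fintype.ofFinite _
  -- the orbit map on cosets
  let F : G ⧸ H → V := fun ω => Quotient.liftOn' ω (fun g => ρ g v) (by
    intro a b hab
    have hab' : a⁻¹ * b ∈ H := QuotientGroup.leftRel_apply.mp hab
    show ρ a v = ρ b v
    have : b = a * (a⁻¹ * b) := by group
    rw [this, map_mul, Module.End.mul_apply, hvH _ hab'])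
  have hF : ∀ g : G, F (g : G ⧸ H) = ρ g v := fun g => rfl
  have hFsmul : ∀ (g : G) (ω : G ⧸ H), F (g • ω) = ρ g (F ω) := by
    intro g ω
    induction ω using QuotientGroup.induction_on with
    | H a =>
      rw [MulAction.Quotient.smul_mk, hF, hF, smul_eq_mul, map_mul]
      rfl
  have hsum : ∑ ω : G ⧸ H, F ω = 0 := by
    apply hfix
    intro g
    rw [map_sum]
    simp_rw [← hFsmul]
    exact Fintype.sum_equiv (MulAction.toPerm g) _ _ (fun ω => rfl)
  let ω₀ : G ⧸ H := ((1 : G) : G ⧸ H)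
  have hFω₀ : F ω₀ = v := by
    show ρ 1 v = v
    rw [map_one]; rfl
  have hPsmul : ∀ (x : (P : Subgroup G)) (ω : G ⧸ H), x • ω = (x : G) • ω := fun _ _ => rfl
  -- semiregularity
  have hsemi : ∀ x : (P : Subgroup G), x ≠ 1 → ∀ ω : G ⧸ H, x • ω = ω → ω = ω₀ := by
    intro x hx ω hω
    induction ω using QuotientGroup.induction_on with
    | H g =>
      rw [hPsmul, MulAction.Quotient.smul_mk, smul_eq_mul, QuotientGroup.eq] at hω
      have h1 : g⁻¹ * (x : G) * g ∈ H := by
        have := H.inv_mem hω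
        have e : (((x : G) * g)⁻¹ * g)⁻¹ = g⁻¹ * (x : G) * g := by group
        rwa [e] at this
      have hx1 : (x : G) ≠ 1 := fun h => hx (Subtype.ext h)
      have hg := semiregular p P hTI H hH (x : G) x.2 hx1 g h1
      show (g : G ⧸ H) = ((1 : G) : G ⧸ H)
      rw [QuotientGroup.eq]
      simpa using H.inv_mem hg
  have hfixω₀ : ∀ x : (P : Subgroup G), x • ω₀ = ω₀ := by
    intro x
    have hPH : (P : Subgroup G) ≤ H := Subgroup.le_normalizer.trans hH
    show (x : G) • ((1 : G) : G ⧸ H) = ((1 : G) : G ⧸ H)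
    rw [MulAction.Quotient.smul_mk, smul_eq_mul, mul_one, QuotientGroup.eq]
    simpa using H.inv_mem (hPH x.2)
  -- orbit decomposition
  let Q := MulAction.orbitRel.Quotient (P : Subgroup G) (G ⧸ H)
  haveI : Fintype Q := Fintype.ofFinite _
  let o₀ : Q := Quotient.mk'' ω₀
  have hq1 : ∀ ω : G ⧸ H, ∃ x : (P : Subgroup G),
      x • (Quotient.out (Quotient.mk'' ω : Q)) = ω := by
    intro ω
    have h1 : (Quotient.mk'' (Quotient.out (Quotient.mk'' ω : Q)) : Q) = Quotient.mk'' ω :=
      Quotient.out_eq' _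
    have h2 := Quotient.exact' h1
    rw [MulAction.orbitRel_apply] at h2
    obtain ⟨x, hx⟩ := h2
    refine ⟨x⁻¹, ?_⟩
    rw [← hx, inv_smul_smul]
  have hq2 : ∀ (x : (P : Subgroup G)) (a : G ⧸ H), (Quotient.mk'' (x • a) : Q) = Quotient.mk'' a := by
    intro x a
    apply Quotient.sound'
    rw [MulAction.orbitRel_apply]
    exact MulAction.mem_orbit a x
  let w : V := ∑ o ∈ Finset.univ.filter (fun o : Q => o ≠ o₀), F (Quotient.out o)
  have hdecomp : ∑ ω ∈ Finset.univ.filter (fun ω : G ⧸ H => ω ≠ ω₀), F ω =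
      ∑ x : (P : Subgroup G), ρ (x : G) w := by
    have h1 : ∑ x : (P : Subgroup G), ρ (x : G) w =
        ∑ a ∈ (Finset.univ.filter (fun o : Q => o ≠ o₀)) ×ˢ (Finset.univ : Finset (P : Subgroup G)),
          F (a.2 • Quotient.out a.1) := by
      rw [Finset.sum_product, Finset.sum_comm]
      refine Finset.sum_congr rfl (fun x _ => ?_)
      rw [map_sum]
      refine Finset.sum_congr rfl (fun o _ => ?_)
      show (ρ (x : G)) (F (Quotient.out o)) = F (x • Quotient.out o)
      rw [hPsmul, hFsmul]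
    rw [h1]
    symm
    refine Finset.sum_bij (fun a _ => a.2 • Quotient.out a.1) ?_ ?_ ?_ ?_
    · intro a ha
      rw [Finset.mem_product, Finset.mem_filter] at ha
      rw [Finset.mem_filter]
      refine ⟨Finset.mem_univ _, fun h => ha.1.2 ?_⟩
      have h2 : Quotient.out a.1 = ω₀ := by
        have := congrArg (fun t => a.2⁻¹ • t) h
        simp only [inv_smul_smul] at this
        rw [this, hfixω₀]
      have h3 : a.1 = Quotient.mk'' (Quotient.out a.1) := (Quotient.out_eq' a.1).symm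
      rw [h3, h2]
    · intro a ha b hb hab
      rw [Finset.mem_product, Finset.mem_filter] at ha hb
      have h1 : a.1 = b.1 := by
        have e1 : a.1 = Quotient.mk'' (Quotient.out a.1) := (Quotient.out_eq' a.1).symm
        have e2 : b.1 = Quotient.mk'' (Quotient.out b.1) := (Quotient.out_eq' b.1).symm
        rw [e1, e2, ← hq2 a.2, ← hq2 b.2 (Quotient.out b.1), hab]
      have h2 : a.2 = b.2 := by
        by_contra hne
        have h3 : (b.2⁻¹ * a.2) • Quotient.out a.1 = Quotient.out a.1 := by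
          rw [mul_smul, hab, h1, inv_smul_smul]
        have h4 : b.2⁻¹ * a.2 ≠ 1 := by
          intro h
          apply hne
          have := congrArg (fun t => b.2 * t) h
          simpa using this
        have h5 := hsemi _ h4 _ h3
        apply ha.1.2
        have e1 : a.1 = Quotient.mk'' (Quotient.out a.1) := (Quotient.out_eq' a.1).symm
        rw [e1, h5]
      exact Prod.ext h1 h2
    · intro ω hω
      rw [Finset.mem_filter] at hω
      obtain ⟨x, hx⟩ := hq1 ω
      refine ⟨(Quotient.mk'' ω, x), ?_, hx⟩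
      rw [Finset.mem_product, Finset.mem_filter]
      refine ⟨⟨Finset.mem_univ _, fun h => hω.2 ?_⟩, Finset.mem_univ _⟩
      have h2 := Quotient.exact' h
      rw [MulAction.orbitRel_apply] at h2
      obtain ⟨y, hy⟩ := h2
      have hy' : y • ω₀ = ω := hy
      rw [hfixω₀] at hy'
      exact hy'.symm
    · intro a _
      rfl
  have hrel : ∑ x : (P : Subgroup G), ρ (x : G) w = -v := by
    rw [← hdecomp]
    have h1 : ∑ ω : G ⧸ H, F ω = F ω₀ + ∑ ω ∈ Finset.univ.filter (fun ω : G ⧸ H => ω ≠ ω₀), F ω := by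
      rw [← Finset.sum_filter_add_sum_filter_not Finset.univ (fun ω : G ⧸ H => ω = ω₀)]
      congr 1
      rw [Finset.filter_eq' , if_pos (Finset.mem_univ _), Finset.sum_singleton]
    rw [hsum, hFω₀] at h1
    exact (eq_neg_of_add_eq_zero_right h1.symm)
  -- the lattice
  obtain ⟨A, hpA⟩ := exists_valuationSubring p
  let L : Submodule A V := Submodule.span A (Set.range F)
  have hfg : L.FG := Submodule.fg_span (Set.finite_range F)
  have hLρ : ∀ (g : G) (u : V), u ∈ L → ρ g u ∈ L := by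
    intro g u hu
    induction hu using Submodule.span_induction with
    | mem y hy =>
      obtain ⟨ω, rfl⟩ := hy
      rw [← hFsmul]
      exact Submodule.subset_span ⟨_, rfl⟩
    | zero => rw [map_zero]; exact L.zero_mem
    | add y z _ _ hy hz => rw [map_add]; exact L.add_mem hy hz
    | smul r y _ hy =>
      rw [LinearMap.map_smul_of_tower]
      exact L.smul_mem r hy
  have hmLρ : ∀ (g : G) (u : V), u ∈ (IsLocalRing.maximalIdeal A) • L →
      ρ g u ∈ (IsLocalRing.maximalIdeal A) • L := by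
    intro g u hu
    refine Submodule.smul_induction_on hu (fun r hr n hn => ?_) (fun y z hy hz => ?_)
    · rw [LinearMap.map_smul_of_tower]
      exact Submodule.smul_mem_smul hr (hLρ g n hn)
    · rw [map_add]; exact Submodule.add_mem _ hy hz
  have hvL : v ∈ L := by
    rw [← hFω₀]; exact Submodule.subset_span ⟨_, rfl⟩
  have hwL : w ∈ L := by
    refine Submodule.sum_mem _ (fun o _ => ?_)
    exact Submodule.subset_span ⟨_, rfl⟩
  have hLbot : L ≠ ⊥ := by
    intro h
    rw [h, Submodule.mem_bot] at hvL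
    exact hv hvL
  let σ : (P : Subgroup G) →* (V →ₗ[ℂ] V) := ρ.comp (P : Subgroup G).subtype
  have hσ : ∀ (x : (P : Subgroup G)) (u : V), σ x u = ρ (x : G) u := fun _ _ => rfl
  have hnak : (∑ x : (P : Subgroup G), σ x w) ∈ (IsLocalRing.maximalIdeal A) • L →
      L ≤ (IsLocalRing.maximalIdeal A) • L := by
    intro h
    simp_rw [hσ] at h
    rw [hrel] at h
    have hv' : v ∈ (IsLocalRing.maximalIdeal A) • L := by
      have := Submodule.neg_mem _ h
      rwa [neg_neg] at this
    apply Submodule.span_le.mpr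
    rintro _ ⟨ω, rfl⟩
    induction ω using QuotientGroup.induction_on with
    | H g =>
      rw [hF]
      exact hmLρ g v hv'
  have hli := linearIndependent_orbit p P.isPGroup' σ A hpA L hfg
    (fun x u hu => hLρ (x : G) u hu) w hwL hnak hLbot
  have := hli.fintype_card_le_finrank
  rwa [← Nat.card_eq_fintype_card] at this

end Cfsg.Agent.Helper20.TiClaim
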