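import Cfsg.Agent.Helper28.S2258Defs
import Cfsg.Agent.Helper18.Dickson45

set_option autoImplicit false

/-! S2258 project (driver helper28), piece DICT: dictionary `PSL₂ ↔ SL₂`. -/

namespace Cfsg.Agent.S2258P

open Cfsg.Agent.Helper18.Dickson

variable {F : Type*} [Field F] [Fintype F] {p : ℕ}

local notation "SF" => Matrix.SpecialLinearGroup (Fin 2) F
local notation "MF" => Matrix (Fin 2) (Fin 2) F
local notation "PF" => Matrix.ProjectiveSpecialLinearGroup (Fin 2) F
local notation "π" => QuotientGroup.mk' (Subgroup.center SF)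
local notation "q" => Fintype.card F

namespace DICT

omit [Fintype F] in
theorem sl_ext (A B : SF) (h00 : (A : MF) 0 0 = (B : MF) 0 0) (h01 : (A : MF) 0 1 = (B : MF) 0 1)
    (h10 : (A : MF) 1 0 = (B : MF) 1 0) (h11 : (A : MF) 1 1 = (B : MF) 1 1) : A = B := by
  apply Subtype.ext
  ext i j
  fin_cases i <;> fin_cases j <;> assumption

omit [Fintype F] in
/-- entries of `τ • Y - 1 = ε • 1` -/
theorem entries_of_smul_sub (Y : SF) (τ ε : F)
    (h : τ • (Y : MF) - 1 = ε • (1 : MF)) :
    τ * (Y : MF) 0 0 = 1 + ε ∧ τ * (Y : MF) 0 1 = 0 ∧ τ * (Y : MF) 1 0 = 0 ∧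
      τ * (Y : MF) 1 1 = 1 + ε := by
  have h00 := congrFun (congrFun h 0) 0
  have h01 := congrFun (congrFun h 0) 1
  have h10 := congrFun (congrFun h 1) 0
  have h11 := congrFun (congrFun h 1) 1
  simp [Matrix.sub_apply, Matrix.smul_apply] at h00 h01 h10 h11
  refine ⟨?_, mul_eq_zero.mpr h01, mul_eq_zero.mpr h10, ?_⟩
  · linear_combination h00
  · linear_combination h11

omit [Fintype F] in
/-- a scalar matrix in `SL₂` is `±1` -/
theorem eq_one_or_neg_one_of_scalar (Y : SF) (h01 : (Y : MF) 0 1 = 0) (h10 : (Y : MF) 1 0 = 0)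
    (had : (Y : MF) 0 0 = (Y : MF) 1 1) : Y = 1 ∨ Y = -1 := by
  have hdet := det_eq Y
  rw [h01, ← had] at hdet
  have h1 : ((Y : MF) 0 0 - 1) * ((Y : MF) 0 0 + 1) = 0 := by linear_combination hdet
  rcases mul_eq_zero.mp h1 with h | h
  · left
    have ha : (Y : MF) 0 0 = 1 := by linear_combination h
    apply sl_ext
    · simpa using ha
    · simpa using h01
    · simpa using h10
    · rw [← had]; simpa using ha
  · right
    have ha : (Y : MF) 0 0 = -1 := by linear_combination h
    apply sl_ext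
    · simpa using ha
    · simpa using h01
    · simpa using h10
    · rw [← had]; simpa using ha

end DICT

/-- DICT (S). -/
theorem mk_eq_mk_iff (A B : SF) : (π A : PF) = π B ↔ A = B ∨ A = -B := by
  rw [QuotientGroup.mk'_eq_mk']
  constructor
  · rintro ⟨z, hz, rfl⟩
    rcases (mem_center_iff' z).mp hz with rfl | rfl
    · left; simp
    · right; simp
  · rintro (rfl | rfl)
    · exact ⟨1, Subgroup.one_mem _, by simp⟩
    · exact ⟨-1, (mem_center_iff' _).mpr (Or.inr rfl), by simp⟩

/-- DICT (S). -/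
theorem mk_comm_iff (A B : SF) :
    (π A : PF) * π B = π B * π A ↔ A * B = B * A ∨ A * B = -(B * A) := by
  rw [← map_mul, ← map_mul, mk_eq_mk_iff]

/-- DICT (S). -/
theorem mk_conj_eq_iff (Y X X' : SF) :
    (π Y : PF) * π X * (π Y)⁻¹ = π X' ↔ Y * X = X' * Y ∨ Y * X = -(X' * Y) := by
  rw [mul_inv_eq_iff_eq_mul, ← map_mul, ← map_mul, mk_eq_mk_iff]

/-- DICT (S–M). -/
theorem mk_sq_eq_one_iff (h2 : (2 : F) ≠ 0) (Y : SF) :
    (π Y : PF) ^ 2 = 1 ↔ Y = 1 ∨ Y = -1 ∨ tr Y = 0 := by
  have _h2 := h2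
  rw [← map_pow, mk_eq_one_iff]
  have hch := ch_sq Y
  have hpow : ((Y ^ 2 : SF) : MF) = (Y : MF) * (Y : MF) := by
    rw [Matrix.SpecialLinearGroup.coe_pow, pow_two]
  constructor
  · rintro (h | h)
    · -- `Y ^ 2 = 1`
      have hm : (tr Y) • (Y : MF) - 1 = (1 : F) • (1 : MF) := by
        rw [one_smul]
        show ((Y : MF) 0 0 + (Y : MF) 1 1) • (Y : MF) - 1 = 1
        rw [← hch, ← hpow, h]
        rfl
      obtain ⟨e00, e01, e10, e11⟩ := DICT.entries_of_smul_sub Y (tr Y) 1 hm
      by_cases hτ : tr Y = 0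
      · exact Or.inr (Or.inr hτ)
      · have h01 : (Y : MF) 0 1 = 0 := (mul_eq_zero.mp e01).resolve_left hτ
        have h10 : (Y : MF) 1 0 = 0 := (mul_eq_zero.mp e10).resolve_left hτ
        have had : (Y : MF) 0 0 = (Y : MF) 1 1 := by
          apply mul_left_cancel₀ hτ
          rw [e00, e11]
        rcases DICT.eq_one_or_neg_one_of_scalar Y h01 h10 had with h' | h'
        · exact Or.inl h'
        · exact Or.inr (Or.inl h')
    · -- `Y ^ 2 = -1`
      have hm : (tr Y) • (Y : MF) - 1 = (-1 : F) • (1 : MF) := by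
        rw [neg_one_smul]
        show ((Y : MF) 0 0 + (Y : MF) 1 1) • (Y : MF) - 1 = -1
        rw [← hch, ← hpow, h]
        simp
      obtain ⟨e00, e01, e10, e11⟩ := DICT.entries_of_smul_sub Y (tr Y) (-1) hm
      right; right
      by_contra hτ
      have h01 : (Y : MF) 0 1 = 0 := (mul_eq_zero.mp e01).resolve_left hτ
      have h00 : (Y : MF) 0 0 = 0 := by
        have : tr Y * (Y : MF) 0 0 = 0 := by rw [e00]; ring
        exact (mul_eq_zero.mp this).resolve_left hτ
      have hdet := det_eq Y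
      rw [h00, h01] at hdet
      simp at hdet
  · rintro (rfl | rfl | hτ)
    · left; simp
    · left; simp
    · right
      apply Subtype.ext
      rw [hpow, hch]
      have : (Y : MF) 0 0 + (Y : MF) 1 1 = 0 := hτ
      rw [this, zero_smul, zero_sub]
      simp

/-- DICT (S–M): characteristic `3`. -/
theorem mk_cube_eq_one_iff (h3 : (3 : F) = 0) (Y : SF) :
    (π Y : PF) ^ 3 = 1 ↔ tr Y ^ 2 = 1 := by
  rw [← map_pow, mk_eq_one_iff]
  have hch := ch_pow3 (Y : MF) (tr Y) (ch_sq Y)
  have hpow : ((Y ^ 3 : SF) : MF) = (Y : MF) ^ 3 := Matrix.SpecialLinearGroup.coe_pow _ _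
  have h4 : (4 : F) = 1 := by linear_combination h3
  -- the common part: `Y ^ 3 = ε` forces `τ ^ 2 = 1`
  have key : ∀ ε : F, ε ^ 2 = 1 → (Y : MF) ^ 3 = ε • (1 : MF) → tr Y ^ 2 = 1 := by
    intro ε hε h
    rw [hch] at h
    by_contra hτ
    have hτ' : tr Y ^ 2 - 1 ≠ 0 := fun h0 => hτ (by linear_combination h0)
    have h00 := congrFun (congrFun h 0) 0
    have h01 := congrFun (congrFun h 0) 1
    have h10 := congrFun (congrFun h 1) 0
    have h11 := congrFun (congrFun h 1) 1
    simp [Matrix.sub_apply, Matrix.smul_apply] at h00 h01 h10 h11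
    have e01 : (Y : MF) 0 1 = 0 := h01.resolve_left hτ'
    have e10 : (Y : MF) 1 0 = 0 := h10.resolve_left hτ'
    have had : (Y : MF) 0 0 = (Y : MF) 1 1 := by
      apply mul_left_cancel₀ hτ'
      linear_combination h00 - h11
    have hdet := det_eq Y
    rw [e01, ← had] at hdet
    apply hτ
    unfold tr
    rw [← had]
    linear_combination 4 * hdet + h4
  constructor
  · rintro (h | h)
    · apply key 1 (by ring)
      rw [← hpow, h, one_smul]
      rfl
    · apply key (-1) (by ring)
      rw [← hpow, h, neg_one_smul]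
      simp
  · intro hτ
    have hτ2 : (tr Y - 1) * (tr Y + 1) = 0 := by linear_combination hτ
    have h2 : (2 : F) = -1 := by linear_combination h3
    rcases mul_eq_zero.mp hτ2 with h | h
    · right
      have hτ1 : tr Y = 1 := by linear_combination h
      apply Subtype.ext
      rw [hpow, hch, hτ1]
      simp
    · left
      have hτ1 : tr Y = -1 := by linear_combination h
      apply Subtype.ext
      rw [hpow, hch, hτ1]
      simp

end Cfsg.Agent.S2258P
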