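import Mathlib

set_option autoImplicit false

/-! S2258 project (driver helper28), piece DIH: involutions and rotations in dihedral groups. -/

namespace Cfsg.Agent.S2258P

namespace DIH

theorem sq_r {k : ℕ} (i : ZMod k) : (DihedralGroup.r i) ^ 2 = DihedralGroup.r (i + i) := by
  rw [pow_two, DihedralGroup.r_mul_r]

theorem sq_sr {k : ℕ} (i : ZMod k) : (DihedralGroup.sr i) ^ 2 = 1 := by
  rw [pow_two, DihedralGroup.sr_mul_sr, sub_self, DihedralGroup.one_def]

end DIH

/-- DIH (S). -/
theorem dih_invol (k : ℕ) (a b : DihedralGroup k) (ha : a ^ 2 = 1) :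
    a * b = b * a ∨ b ^ 2 = 1 ∨ (a * b) ^ 2 = 1 := by
  rcases a with i | i
  · left
    rw [DIH.sq_r, DihedralGroup.one_def] at ha
    have hi : i + i = 0 := DihedralGroup.r.inj ha
    rcases b with j | j
    · rw [DihedralGroup.r_mul_r, DihedralGroup.r_mul_r, add_comm]
    · rw [DihedralGroup.r_mul_sr, DihedralGroup.sr_mul_r]
      congr 1
      have : -i = i := by
        rw [neg_eq_iff_add_eq_zero]
        exact hi
      rw [sub_eq_add_neg, this]
  · rcases b with j | j
    · right; right
      rw [DihedralGroup.sr_mul_r, DIH.sq_sr]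
    · right; left
      exact DIH.sq_sr j

/-- DIH (S). -/
theorem dih_rot (k : ℕ) (a b : DihedralGroup k) (ha : a ^ 2 ≠ 1) :
    b * a * b⁻¹ = a ∨ b * a * b⁻¹ = a⁻¹ := by
  rcases a with i | i
  · rcases b with j | j
    · left
      rw [DihedralGroup.r_mul_r, mul_inv_eq_iff_eq_mul, DihedralGroup.r_mul_r, add_comm]
    · right
      rw [DihedralGroup.sr_mul_r, mul_inv_eq_iff_eq_mul, DihedralGroup.inv_r, DihedralGroup.r_mul_sr]
      congr 1
      ring
  · exact absurd (DIH.sq_sr i) ha

end Cfsg.Agent.S2258P
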