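import Cfsg.Agent.Helper28.S2258Defs
import Cfsg.Agent.Helper18.Dickson45
import Cfsg.Agent.Helper18.MinSimple4
import Cfsg.Agent.S0251

set_option autoImplicit false

/-! S2258 project (driver helper28), piece TYPES: Dickson's list for `q = 3 ^ p`, `p` an odd prime:
a proper subgroup of `PSL₂(q)` is cyclic, dihedral, `A₄` or conjugate into the Borel subgroup. -/

namespace Cfsg.Agent.S2258P

open Cfsg.Agent.Helper18.Dickson

variable {F : Type*} [Field F] [Fintype F] {p : ℕ}

local notation "SF" => Matrix.SpecialLinearGroup (Fin 2) F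
local notation "MF" => Matrix (Fin 2) (Fin 2) F
local notation "PF" => Matrix.ProjectiveSpecialLinearGroup (Fin 2) F
local notation "π" => QuotientGroup.mk' (Subgroup.center SF)
local notation "q" => Fintype.card F

namespace TYPES

theorem card_alt_four : Nat.card (alternatingGroup (Fin 4)) = 12 := by
  have h := two_mul_nat_card_alternatingGroup (α := Fin 4)
  rw [Nat.card_eq_fintype_card (α := Equiv.Perm (Fin 4)), Fintype.card_perm, Fintype.card_fin] at h
  have h24 : (4 : ℕ).factorial = 24 := by decide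
  rw [h24] at h
  omega

theorem card_perm_four : Nat.card (Equiv.Perm (Fin 4)) = 24 := by
  rw [Nat.card_eq_fintype_card, Fintype.card_perm, Fintype.card_fin]
  decide

theorem card_alt_five : Nat.card (alternatingGroup (Fin 5)) = 60 := by
  have h := two_mul_nat_card_alternatingGroup (α := Fin 5)
  rw [Nat.card_eq_fintype_card (α := Equiv.Perm (Fin 5)), Fintype.card_perm, Fintype.card_fin] at h
  have h120 : (5 : ℕ).factorial = 120 := by decide
  rw [h120] at h
  omega

/-- `5` does not divide `|PSL₂(3 ^ p)|`, `p` odd -/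
theorem five_not_dvd (h : Hyp F p) : ¬ 5 ∣ Nat.card PF := by
  intro h5
  have hcard := two_mul_card_psl (F := F) h.two_ne_zero
  have h5' : 5 ∣ (q + 1) * ((q - 1) * q) := by
    rw [← hcard]
    exact Dvd.dvd.mul_left h5 2
  have hq27 := h.card_ge
  have hmod := Cfsg.Agent.Helper18.MinSimple.three_pow_odd_mod h.odd
  rw [← h.card] at hmod
  have hp5 : Nat.Prime 5 := by norm_num
  rcases (Nat.Prime.dvd_mul hp5).mp h5' with h1 | h1
  · omega
  · rcases (Nat.Prime.dvd_mul hp5).mp h1 with h2 | h2 <;> omega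

end TYPES

/-- TYPES (M–L; `pprime_dickson`, `pdiv_dickson'`, `nonempty_map_SLK_equiv`, `S0251`). -/
theorem types (h : Hyp F p) (H : Subgroup PF) (hH : H ≠ ⊤) :
    (IsCyclic H ∧ (Nat.card H ∣ (q + 1) / 2 ∨ Nat.card H ∣ (q - 1) / 2)) ∨
    (∃ k : ℕ, (k ∣ (q + 1) / 2 ∨ k ∣ (q - 1) / 2) ∧ Nonempty (H ≃* DihedralGroup k)) ∨
    Nonempty (H ≃* alternatingGroup (Fin 4)) ∨
    (∃ g0 : SF, ∀ a ∈ H.comap π, ((g0 * a * g0⁻¹ : SF) : MF) 1 0 = 0) := by
  classical
  have hchar : CharP F 3 := h.charP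
  have hfact : Fact (Nat.Prime 3) := ⟨Nat.prime_three⟩
  have hp2 : p ≠ 2 := by
    rintro rfl
    exact absurd h.odd (by decide)
  by_cases h3H : 3 ∣ Nat.card H
  · rcases pdiv_dickson' 3 (by norm_num) H h3H with ⟨g0, hg0⟩ | ⟨K, s, hs, hs1, hKt, hc⟩ | ⟨-, h60⟩
    · exact Or.inr (Or.inr (Or.inr ⟨g0, hg0⟩))
    · rcases Cfsg.Agent.Helper18.MinSimple.subfield_three_pow h.prime hp2 h.card K s hs hs1 with
        hKtop | ⟨hk3, hodd⟩
      · exact absurd (hKt hKtop) hH
      · rcases hc with ⟨-, ⟨e⟩⟩ | ⟨-, hev, -⟩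
        · obtain ⟨e2⟩ := nonempty_map_SLK_equiv K
          have hfK : Fintype K := Fintype.ofFinite K
          have hK3 : Fintype.card K = 3 := by
            rw [← Nat.card_eq_fintype_card]
            exact hk3
          obtain ⟨e3⟩ := Cfsg.Agent.S0251.result hK3
          exact Or.inr (Or.inr (Or.inl ⟨(e.trans e2).trans e3⟩))
        · exact absurd hev (Nat.not_even_iff_odd.2 hodd)
    · exfalso
      apply TYPES.five_not_dvd h
      have h1 : Nat.card H ∣ Nat.card PF := Subgroup.card_subgroup_dvd_card H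
      rw [h60] at h1
      exact Dvd.dvd.trans (by norm_num) h1
  · rcases pprime_dickson 3 (by norm_num) H h3H with
      ⟨k, hk, ⟨hcyc, hcard⟩ | ⟨⟨e⟩⟩⟩ | ⟨⟨e⟩⟩ | ⟨⟨e⟩⟩ | ⟨⟨e⟩⟩
    · left
      exact ⟨hcyc, by rw [hcard]; exact hk⟩
    · right; left
      exact ⟨k, hk, ⟨e⟩⟩
    · exfalso
      apply h3H
      rw [Nat.card_congr e.toEquiv, TYPES.card_alt_four]
      norm_num
    · exfalso
      apply h3H
      rw [Nat.card_congr e.toEquiv, TYPES.card_perm_four]
      norm_num
    · exfalso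
      apply h3H
      rw [Nat.card_congr e.toEquiv, TYPES.card_alt_five]
      norm_num

end Cfsg.Agent.S2258P
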