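import Mathlib
import Cfsg.Agent.Helper14.S2481.Defs
import Cfsg.Agent.Helper14.S2481.DefsM
import Cfsg.Agent.Helper14.SLk.CENT
import Cfsg.Agent.Helper15.S2479BLOCKU
import Cfsg.Agent.Helper15.S2479BLOCKX
import Cfsg.Agent.Helper8.S2481FIELDH90
import Cfsg.Agent.Helper18.S2481SIGEX
import Cfsg.Agent.Helper24.S2481SEMIDET

set_option autoImplicit false
set_option linter.unusedVariables false

/-! # S2481 pieces CENTSD, CENTHYP (driver helper14; helper20): unitary elements of the blocks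
`F[X]/(ρ^m)` resp. `F[X]/(ρ^m) × F[X]/(ρ'^m)` with norm `z^m` (`z σz = 1`): Hilbert 90 gives
`z = c / σ c`, `κ` an element of norm `c^m`, and `y = κ (S κ)⁻¹` resp. `(y, y') = (κ, S⁻¹ κ⁻¹)`. -/

namespace Cfsg.Agent.S2481P

open Polynomial DirectSum Matrix Cfsg.Agent.S2478P Cfsg.Agent.S2479P

universe u

variable {F : Type u} [Field F] {σ : F →+* F}

namespace CENT

/-- an element of nonzero norm of a finite dimensional algebra is invertible -/
theorem exists_inv_of_norm_ne_zero {R : Type*} [CommRing R] [Algebra F R] [Module.Finite F R]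
    (x : R) (h : Algebra.norm F x ≠ 0) : ∃ w : R, x * w = 1 := by
  rw [Algebra.norm_apply] at h
  obtain ⟨w, hw⟩ := (LinearMap.equivOfDetNeZero _ h).surjective 1
  exact ⟨w, hw⟩

/-- an element `κ` of `F[X]/(ρ^m)` with norm `c^m`, with an inverse -/
theorem exists_kappa [Fintype F] {ρ : F[X]} (hρm : ρ.Monic) (hρ : Irreducible ρ) (m : ℕ)
    [Module.Finite F (AdjoinRoot (ρ ^ m))] {c : F} (hc : c ≠ 0) :
    ∃ κ w : AdjoinRoot (ρ ^ m), κ * w = 1 ∧ Algebra.norm F κ = c ^ m ∧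
      Algebra.norm F w = (c ^ m)⁻¹ := by
  obtain ⟨u₀, hu₀⟩ := exists_mulDet_eq ρ hρm hρ (Units.mk0 c hc)
  have hn : Algebra.norm F (AdjoinRoot.mk (ρ ^ m) u₀) = c ^ m := by
    rw [← BLOCKX.mulDet_eq_norm, mulDet_pow ρ u₀ hρm m, hu₀]
    rfl
  have hcm : c ^ m ≠ 0 := pow_ne_zero m hc
  obtain ⟨w, hw⟩ := exists_inv_of_norm_ne_zero (F := F) (AdjoinRoot.mk (ρ ^ m) u₀) (by rw [hn]; exact hcm)
  refine ⟨_, w, hw, hn, ?_⟩
  have h1 := congrArg (Algebra.norm F) hw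
  rw [map_mul, map_one, hn] at h1
  exact eq_inv_of_mul_eq_one_right h1

/-- the norm of the image under a `σ`-semilinear ring isomorphism -/
theorem norm_semi (hσ : IsInvol σ) {f f' : F[X]} [Module.Finite F (AdjoinRoot f)]
    [Module.Finite F (AdjoinRoot f')] (S : AdjoinRoot f' →+* AdjoinRoot f)
    (hS1 : ∀ c : F, S (AdjoinRoot.of f' c) = AdjoinRoot.of f (σ c)) (hSb : Function.Bijective S)
    (a : AdjoinRoot f') : Algebra.norm F (S a) = σ (Algebra.norm F a) := by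
  rw [Algebra.norm_apply, Algebra.norm_apply]
  apply det_semiconj hσ (fun v => S v) (fun v w => map_add S v w) _ hSb
  · intro v
    exact map_mul S a v
  · intro c v
    rw [Algebra.smul_def, Algebra.smul_def, map_mul]
    congr 1
    exact hS1 c

end CENT

open CENT

-- piece CENTSD
theorem exists_cent_sd [Fintype F] (hσ : IsInvol σ) {ρ : F[X]} (hρm : ρ.Monic) (hρ : Irreducible ρ)
    {m : ℕ} (hm : 1 ≤ m) (S : AdjoinRoot (ρ ^ m) →+* AdjoinRoot (ρ ^ m))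
    (hS1 : ∀ c : F, S (AdjoinRoot.of (ρ ^ m) c) = AdjoinRoot.of (ρ ^ m) (σ c))
    (hS2 : S (AdjoinRoot.root (ρ ^ m)) * AdjoinRoot.root (ρ ^ m) = 1) {z : F} (hz : z * σ z = 1) :
    ∃ y : AdjoinRoot (ρ ^ m), S y * y = 1 ∧ Algebra.norm F y = z ^ m := by
  have hfin : Module.Finite F (AdjoinRoot (ρ ^ m)) := (hρm.pow m).finite_adjoinRoot
  obtain ⟨c, hc, hzc⟩ := hilbert90 hσ hz
  obtain ⟨κ, w, hκw, hnκ, hnw⟩ := exists_kappa hρm hρ m hc
  have hSS : ∀ a, S (S a) = a := sig_involutive hσ S hS1 hS2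
  have hSb : Function.Bijective S := Function.Involutive.bijective hSS
  refine ⟨κ * S w, ?_, ?_⟩
  · rw [map_mul, hSS]
    calc S κ * w * (κ * S w) = (κ * w) * S (κ * w) := by rw [map_mul]; ring
      _ = 1 := by rw [hκw, map_one, mul_one]
  · rw [map_mul, norm_semi hσ S hS1 hSb, hnκ, hnw, map_inv₀, map_pow]
    have hσc : σ c ≠ 0 := by
      intro h0
      rw [h0, mul_zero] at hzc
      exact hc hzc.symm
    have e : c ^ m = z ^ m * σ c ^ m := by rw [← mul_pow, hzc]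
    rw [e]
    field_simp

-- piece CENTHYP
theorem exists_cent_hyp [Fintype F] (hσ : IsInvol σ) {ρ ρ' : F[X]} (hρm : ρ.Monic)
    (hρ : Irreducible ρ) (hρm' : ρ'.Monic) {m : ℕ} (hm : 1 ≤ m)
    (S : AdjoinRoot (ρ' ^ m) →+* AdjoinRoot (ρ ^ m))
    (hS1 : ∀ c : F, S (AdjoinRoot.of (ρ' ^ m) c) = AdjoinRoot.of (ρ ^ m) (σ c))
    (hSb : Function.Bijective S) {z : F} (hz : z * σ z = 1) :
    ∃ (y : AdjoinRoot (ρ ^ m)) (y' : AdjoinRoot (ρ' ^ m)), S y' * y = 1 ∧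
      Algebra.norm F y * Algebra.norm F y' = z ^ m := by
  have hfin : Module.Finite F (AdjoinRoot (ρ ^ m)) := (hρm.pow m).finite_adjoinRoot
  have hfin' : Module.Finite F (AdjoinRoot (ρ' ^ m)) := (hρm'.pow m).finite_adjoinRoot
  obtain ⟨c, hc, hzc⟩ := hilbert90 hσ hz
  obtain ⟨κ, w, hκw, hnκ, hnw⟩ := exists_kappa hρm hρ m hc
  obtain ⟨y', hy'⟩ := hSb.surjective w
  refine ⟨κ, y', ?_, ?_⟩
  · rw [hy', mul_comm]
    exact hκw
  · have h1 := norm_semi hσ S hS1 hSb y'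
    rw [hy', hnw] at h1
    have h2 : Algebra.norm F y' = σ ((c ^ m)⁻¹) := by
      rw [h1, hσ.sq]
    rw [hnκ, h2, map_inv₀, map_pow]
    have hσc : σ c ≠ 0 := by
      intro h0
      rw [h0, mul_zero] at hzc
      exact hc hzc.symm
    have e : c ^ m = z ^ m * σ c ^ m := by rw [← mul_pow, hzc]
    rw [e]
    field_simp

end Cfsg.Agent.S2481P
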