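import Mathlib
import Cfsg.Prelude.Def_Classical
import Cfsg.Agent.Helper13.S2511Defs
import Cfsg.Agent.S2495
import Cfsg.Agent.Helper16.S2496GENERATOR
import Cfsg.Agent.Helper18.S2511ARITHGS
import Cfsg.Agent.Helper18.S2511SUNUM
import Cfsg.Agent.Helper23.S2263UPFACTS

/-! S2511 piece TORODDA (helper20): an element `s` of norm one of `F_{q^{2n}}`, `n` odd, with
`s^j ∈ F_{q^2} ↔ suNum q n ∣ j`. -/

set_option autoImplicit false

namespace Cfsg.Agent.S2511P

open Polynomial Matrix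
open Cfsg.Agent.S2263P Cfsg.Agent.S2496P

namespace TORODDA

theorem wq_odd_rec {q : ℕ} (hq : 2 ≤ q) (k : ℕ) :
    wq q (2 * k + 3) = wq q (2 * k + 1) + q ^ (2 * k + 1) * (q - 1) := by
  have h1 := wq_mul hq (2 * k + 3)
  have h2 := wq_mul hq (2 * k + 1)
  have hne1 : ¬ Even (2 * k + 3) := by
    rw [Nat.not_even_iff_odd]
    exact ⟨k + 1, by ring⟩
  have hne2 : ¬ Even (2 * k + 1) := by
    rw [Nat.not_even_iff_odd]
    exact ⟨k, by ring⟩
  rw [if_neg hne1] at h1
  rw [if_neg hne2] at h2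
  obtain ⟨t, rfl⟩ : ∃ t, q = t + 1 := ⟨q - 1, by omega⟩
  apply Nat.eq_of_mul_eq_mul_left (show 0 < t + 1 + 1 by omega)
  rw [h1, mul_add, h2]
  have : t + 1 - 1 = t := by omega
  rw [this]
  ring

theorem wq_odd_eq {q : ℕ} (hq : 2 ≤ q) (k : ℕ) :
    ∃ m : ℕ, wq q (2 * k + 1) = 1 + (q - 1) * m := by
  induction k with
  | zero =>
    refine ⟨0, ?_⟩
    have h2 := wq_mul hq (2 * 0 + 1)
    have hne2 : ¬ Even (2 * 0 + 1) := by decide
    rw [if_neg hne2] at h2
    have : (q + 1) * wq q (2 * 0 + 1) = (q + 1) * 1 := by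
      rw [h2]
      ring
    have := Nat.eq_of_mul_eq_mul_left (show 0 < q + 1 by omega) this
    rw [this]
    ring
  | succ k ih =>
    obtain ⟨m, hm⟩ := ih
    refine ⟨m + q ^ (2 * k + 1), ?_⟩
    have : 2 * (k + 1) + 1 = 2 * k + 3 := by ring
    rw [this, wq_odd_rec hq, hm]
    ring

theorem coprime_wq {q : ℕ} (hq : 2 ≤ q) {n : ℕ} (hn : Odd n) : Nat.Coprime (wq q n) (q - 1) := by
  obtain ⟨k, rfl⟩ := hn
  obtain ⟨m, hm⟩ := wq_odd_eq hq k
  rw [hm, Nat.coprime_add_mul_left_left]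
  exact Nat.coprime_one_left _

end TORODDA

section layerT

variable {F : Type*} [Field F] [Fintype F] {p : ℕ} [Fact p.Prime] [CharP F p] {f q : ℕ}

/-- TORODDA (M-L) -/
theorem exists_norm_one {K : Type*} [Field K] [Algebra F K] [Finite K] [CharP K p]
    (hq : q = p ^ f) (hF : Fintype.card F = q ^ 2) {n : ℕ} (hK : Module.finrank F K = n)
    (hn : Odd n) :
    ∃ s : K, s ^ (q ^ n + 1) = 1 ∧ Algebra.norm F s = 1 ∧
      ∀ j : ℕ, (∃ c : F, s ^ j = algebraMap F K c) ↔ suNum q n ∣ j := by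
  have hq2 : 2 ≤ q := by
    have h2 : 2 ≤ Fintype.card F := Fintype.one_lt_card
    rw [hF] at h2
    have hq0 : q ≠ 0 := by
      rintro rfl
      omega
    have hq1 : q ≠ 1 := by
      rintro rfl
      omega
    omega
  have hn1 : 1 ≤ n := by
    obtain ⟨k, hk⟩ := hn
    omega
  have hne : ¬ Even n := by
    rw [Nat.not_even_iff_odd]
    exact hn
  have hQmul : (q + 1) * wq q n = q ^ n + 1 := by
    have := wq_mul hq2 n
    rwa [if_neg hne] at this
  have hQpos : 1 ≤ wq q n := wq_pos hq2 hn1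
  have hqn : 1 ≤ q ^ n := Nat.one_le_pow n q (by omega)
  have hdvd : wq q n ∣ q ^ (2 * n) - 1 := by
    have h1 : q ^ (2 * n) - 1 = (q ^ n + 1) * (q ^ n - 1) := by
      obtain ⟨t, ht⟩ : ∃ t, q ^ n = t + 1 := ⟨q ^ n - 1, by omega⟩
      rw [mul_comm 2 n, pow_mul, ht]
      have : (t + 1) ^ 2 - 1 = (t + 1 + 1) * (t + 1 - 1) := by
        have h3 : t + 1 - 1 = t := by omega
        rw [h3]
        have : (t + 1) ^ 2 = (t + 1 + 1) * t + 1 := by ring
        omega
      exact this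
    rw [h1, ← hQmul]
    exact Dvd.intro ((q + 1) * (q ^ n - 1)) (by ring)
  obtain ⟨s, hs⟩ := exists_orderOf_eq (K := K) hq hF hK hn1 (wq q n) hdvd
  have hsQ : s ^ wq q n = 1 := by
    rw [← hs]
    exact pow_orderOf_eq_one s
  have hs0 : s ≠ 0 := by
    intro h0
    rw [h0, zero_pow (by omega)] at hsQ
    exact zero_ne_one hsQ
  have hcop := TORODDA.coprime_wq hq2 hn
  have hg0 : 0 < Nat.gcd (wq q n) (q + 1) := Nat.gcd_pos_of_pos_left _ (by omega)
  have hsu0 : suNum q n * Nat.gcd (wq q n) (q + 1) = wq q n := suNum_mul q n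
  have hcop0 : Nat.Coprime (suNum q n) ((q + 1) / Nat.gcd (wq q n) (q + 1)) :=
    Nat.coprime_div_gcd_div_gcd hg0
  have ht0 : q + 1 = (q + 1) / Nat.gcd (wq q n) (q + 1) * Nat.gcd (wq q n) (q + 1) :=
    (Nat.div_mul_cancel (Nat.gcd_dvd_right _ _)).symm
  obtain ⟨g, hg, hsu, t, hcop2, ht⟩ : ∃ g : ℕ, 0 < g ∧ suNum q n * g = wq q n ∧
      ∃ t : ℕ, Nat.Coprime (suNum q n) t ∧ q + 1 = t * g :=
    ⟨_, hg0, hsu0, _, hcop0, ht0⟩
  have hcardF : Fintype.card F - 1 = (q + 1) * (q - 1) := by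
    rw [hF]
    obtain ⟨u, rfl⟩ : ∃ u, q = u + 1 := ⟨q - 1, by omega⟩
    have h3 : u + 1 - 1 = u := by omega
    rw [h3]
    have : (u + 1) ^ 2 = (u + 1 + 1) * u + 1 := by ring
    omega
  refine ⟨s, ?_, ?_, ?_⟩
  · rw [← hQmul, mul_comm, pow_mul, hsQ, one_pow]
  · have h := FiniteField.algebraMap_norm_eq_pow (K := F) (K' := K) (x := s)
    rw [Cfsg.Agent.S2495.norm_exp hK, hF, gs_sq_eq hq2 n hn, pow_mul, hsQ, one_pow] at h
    apply (algebraMap F K).injective
    rw [h, map_one]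
  · intro j
    constructor
    · rintro ⟨c, hc⟩
      have hc0 : c ≠ 0 := by
        intro h0
        rw [h0, map_zero] at hc
        exact hs0 (pow_eq_zero_iff (M₀ := K) (n := j) (by
          intro hj0
          rw [hj0, pow_zero] at hc
          exact one_ne_zero hc) |>.mp hc)
      have hc1 : c ^ (Fintype.card F - 1) = 1 := FiniteField.pow_card_sub_one_eq_one c hc0
      have h1 : s ^ (j * (Fintype.card F - 1)) = 1 := by
        rw [pow_mul, hc, ← map_pow, hc1, map_one]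
      have h2 : wq q n ∣ j * (Fintype.card F - 1) := by
        rw [← hs]
        exact orderOf_dvd_of_pow_eq_one h1
      rw [hcardF, ← mul_assoc] at h2
      have h3 : wq q n ∣ j * (q + 1) := hcop.dvd_of_dvd_mul_right h2
      rw [← hsu, ht, ← mul_assoc] at h3
      have h4 : suNum q n ∣ j * t := Nat.dvd_of_mul_dvd_mul_right hg h3
      exact hcop2.dvd_of_dvd_mul_right h4
    · rintro ⟨m, rfl⟩
      have h1 : (s ^ (suNum q n * m)) ^ (Fintype.card F - 1) = 1 := by
        rw [hcardF, ← pow_mul, ht]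
        have : suNum q n * m * (t * g * (q - 1)) =
            (suNum q n * g) * (m * t * (q - 1)) := by ring
        rw [this, hsu, pow_mul, hsQ, one_pow]
      obtain ⟨c, hc⟩ := Cfsg.Agent.S2495.mem_range_of_pow (F := F) (s ^ (suNum q n * m)) h1
      exact ⟨c, hc.symm⟩

end layerT

end Cfsg.Agent.S2511P
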