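import Mathlib
import Cfsg.Agent.Helper5.S2536Basic

set_option autoImplicit false

/-! S2536 project (driver helper5), piece ORBRES: restriction of a permutation group to an orbit. -/

namespace Cfsg.Agent.S2536P

open Equiv

universe u

namespace ORBRES

theorem smul_eq_apply {α : Type u} (H : Subgroup (Perm α)) (h : H) (x : α) :
    h • x = (h : Perm α) x := rfl

theorem mem_orbit_iff' {α : Type u} (H : Subgroup (Perm α)) (x y : α) :
    y ∈ MulAction.orbit H x ↔ ∃ g ∈ H, g x = y := by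
  constructor
  · rintro ⟨h, rfl⟩
    exact ⟨h, h.2, rfl⟩
  · rintro ⟨g, hg, rfl⟩
    exact ⟨⟨g, hg⟩, rfl⟩

theorem resHom_apply {α : Type u} (p : α → Prop) (H : Subgroup (Perm α)) (hp : Inv p H) (h : H)
    (y : {x // p x}) : ((resHom p H hp h) y : α) = (h : Perm α) y := rfl

theorem mem_orbit_res_iff {α : Type u} (p : α → Prop) (H : Subgroup (Perm α)) (hp : Inv p H)
    (y z : {x // p x}) :
    z ∈ MulAction.orbit (resGroup p H hp) y ↔ (z : α) ∈ MulAction.orbit H (y : α) := by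
  constructor
  · rintro ⟨⟨k, h, rfl⟩, rfl⟩
    exact ⟨h, rfl⟩
  · rintro ⟨h, hh⟩
    refine ⟨⟨resHom p H hp h, h, rfl⟩, ?_⟩
    apply Subtype.ext
    exact hh

end ORBRES

/-- ORBRES1 -/
theorem inv_orbit {α : Type u} (H : Subgroup (Perm α)) (x : α) :
    Inv (fun y => y ∈ MulAction.orbit H x) H := by
  intro g hg y
  show g y ∈ MulAction.orbit H x ↔ y ∈ MulAction.orbit H x
  rw [ORBRES.mem_orbit_iff', ORBRES.mem_orbit_iff']
  constructor
  · rintro ⟨k, hk, hky⟩
    refine ⟨g⁻¹ * k, H.mul_mem (H.inv_mem hg) hk, ?_⟩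
    rw [Perm.mul_apply, hky]
    simp
  · rintro ⟨k, hk, hky⟩
    refine ⟨g * k, H.mul_mem hg hk, ?_⟩
    rw [Perm.mul_apply, hky]

/-- ORBRES2 -/
theorem res_orbit_pretransitive {α : Type u} (H : Subgroup (Perm α)) (x : α) :
    MulAction.IsPretransitive (resGroup (fun y => y ∈ MulAction.orbit H x) H (inv_orbit H x))
      {y // y ∈ MulAction.orbit H x} := by
  constructor
  rintro ⟨y, hy⟩ ⟨z, hz⟩
  obtain ⟨h, hh⟩ := hy
  obtain ⟨k, hk⟩ := hz
  refine ⟨⟨resHom _ H (inv_orbit H x) (k * h⁻¹), (k * h⁻¹), rfl⟩, ?_⟩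
  apply Subtype.ext
  show ((k * h⁻¹ : H) : Perm α) y = z
  rw [← hh, ← hk]
  show ((k * h⁻¹ : H) : Perm α) ((h : Perm α) x) = (k : Perm α) x
  simp

/-- ORBRES3 -/
theorem card_orbit_res {α : Type u} [Finite α] (H : Subgroup (Perm α)) (p : α → Prop) (hp : Inv p H)
    (y : {x // p x}) :
    Nat.card (MulAction.orbit (resGroup p H hp) y) = Nat.card (MulAction.orbit H (y : α)) := by
  refine Nat.card_congr ?_
  refine Equiv.ofBijective
    (fun z => ⟨((z : {x // p x}) : α), (ORBRES.mem_orbit_res_iff p H hp y z).mp z.2⟩) ⟨?_, ?_⟩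
  · intro z w hzw
    apply Subtype.ext
    apply Subtype.ext
    exact congrArg (fun t : MulAction.orbit H (y : α) => (t : α)) hzw
  · rintro ⟨w, hw⟩
    have hpw : p w := by
      obtain ⟨h, rfl⟩ := hw
      exact (hp h h.2 y).mpr y.2
    exact ⟨⟨⟨w, hpw⟩, (ORBRES.mem_orbit_res_iff p H hp y ⟨w, hpw⟩).mpr hw⟩, rfl⟩

end Cfsg.Agent.S2536P
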