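import Mathlib
import Cfsg.Agent.Helper5.S2536Basic

set_option autoImplicit false

/-! S2536 project (driver helper5), piece CYCLE: a Hall `π`-subgroup of `Sym(n)` contains a `p`-cycle
for every prime `p ∈ π` with `p ≤ n`. -/

namespace Cfsg.Agent.S2536P

open Equiv

universe u

namespace CYCLE

/-- a subgroup of index prime to `p` contains a Sylow `p`-subgroup of the whole group -/
theorem exists_sylow_le {G : Type*} [Group G] [Finite G] {p : ℕ} [Fact p.Prime] (H : Subgroup G)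
    (h : ¬ p ∣ H.index) : ∃ P : Sylow p G, (P : Subgroup G) ≤ H := by
  obtain ⟨P⟩ : Nonempty (Sylow p H) := inferInstance
  have h1 : IsPGroup p ((P : Subgroup H).map H.subtype) := P.2.map H.subtype
  have h2 : ¬ p ∣ ((P : Subgroup H).map H.subtype).index := by
    rw [Subgroup.index_map_subtype]
    intro h3
    rcases (Nat.Prime.dvd_mul Fact.out).mp h3 with h4 | h4
    · exact P.not_dvd_index h4
    · exact h h4
  refine ⟨h1.toSylow h2, ?_⟩
  rw [IsPGroup.toSylow_coe]
  exact Subgroup.map_subtype_le _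

/-- a `p`-cycle exists in `Perm α` for a prime `p ≤ card α` -/
theorem exists_cycle {α : Type u} [Fintype α] [DecidableEq α] {p : ℕ} (hp : p.Prime)
    (hpn : p ≤ Fintype.card α) : ∃ g : Perm α, g.IsCycle ∧ g.support.card = p := by
  obtain ⟨g, hg⟩ := (Equiv.Perm.exists_with_cycleType_iff (α := α) (m := {p})).mpr
    ⟨by simpa using hpn, by
      intro a ha
      rw [Multiset.mem_singleton] at ha
      rw [ha]
      exact hp.two_le⟩
  refine ⟨g, ?_, ?_⟩
  · rw [← Equiv.Perm.card_cycleType_eq_one, hg]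
    simp
  · rw [← Equiv.Perm.sum_cycleType, hg]
    simp

end CYCLE

/-- CYCLE -/
theorem exists_cycle_mem {α : Type u} [Fintype α] [DecidableEq α] {π : Set ℕ} {H : Subgroup (Perm α)}
    (hH : Cfsg.IsPiHall π H) {p : ℕ} (hp : p.Prime) (hpπ : p ∈ π) (hpn : p ≤ Fintype.card α) :
    ∃ g ∈ H, g.IsCycle ∧ g.support.card = p := by
  have hfact : Fact p.Prime := ⟨hp⟩
  obtain ⟨g₀, hg₀c, hg₀p⟩ := CYCLE.exists_cycle (α := α) hp hpn
  have hord : orderOf g₀ = p := by
    rw [hg₀c.orderOf, hg₀p]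
  have hpg : IsPGroup p (Subgroup.zpowers g₀) := by
    apply IsPGroup.of_card (n := 1)
    rw [Nat.card_zpowers, hord, pow_one]
  obtain ⟨Q, hQ⟩ := hpg.exists_le_sylow
  obtain ⟨P, hP⟩ := CYCLE.exists_sylow_le (p := p) H (hH.2 p hp hpπ)
  obtain ⟨c, hc⟩ := MulAction.exists_smul_eq (Perm α) Q P
  have hgQ : g₀ ∈ Q := hQ (Subgroup.mem_zpowers g₀)
  have hmem : c * g₀ * c⁻¹ ∈ (P : Subgroup (Perm α)) := by
    rw [← hc, Sylow.coe_subgroup_smul]
    have h1 := Subgroup.smul_mem_pointwise_smul g₀ (MulAut.conj c) (Q : Subgroup (Perm α)) hgQ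
    rwa [MulAut.smul_def, MulAut.conj_apply] at h1
  refine ⟨c * g₀ * c⁻¹, hP hmem, ?_, ?_⟩
  · exact hg₀c.conj
  · rw [Equiv.Perm.card_support_conj, hg₀p]

end Cfsg.Agent.S2536P
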