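import Cfsg.Prelude.Def_LocalStructure
import Cfsg.Agent.Helper14.Amalgam6
import Cfsg.Agent.Helper14.Irreducible2
import Cfsg.Agent.Helper25.S2856DISTSMUL
import Cfsg.Agent.Helper25.S2856ZSMUL

/-! S2856/S2857 piece VSMUL (driver helper14; helper20): `V_{gν}^{(k)} = g V_ν^{(k)} g⁻¹`. -/

set_option autoImplicit false

namespace Cfsg.Agent.S2856P

open Cfsg Cfsg.Agent.Helper14

variable {X : Type*} [Group X] {p : ℕ} [Fact p.Prime] (M₁ M₂ : Subgroup X)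

/-- piece VSMUL: `V_{gν}^{(k)} = g V_ν^{(k)} g⁻¹`. -/
theorem vertexVIter_smul (g : X) (k : ℕ) (ν : CosetVertex M₁ M₂) :
    vertexVIter p M₁ M₂ k (g • ν) = (vertexVIter p M₁ M₂ k ν).map (cj g) := by
  unfold vertexVIter
  apply le_antisymm
  · refine iSup_le fun μ => ?_
    have hd : (cosetGraph M₁ M₂).dist ν (g⁻¹ • (μ : CosetVertex M₁ M₂)) ≤ k := by
      have h := dist_smul M₁ M₂ g ν (g⁻¹ • (μ : CosetVertex M₁ M₂))
      rw [smul_inv_smul] at h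
      rw [← h]
      exact μ.2
    have hz : vertexZ p (μ : CosetVertex M₁ M₂) =
        (vertexZ p (g⁻¹ • (μ : CosetVertex M₁ M₂))).map (cj g) := by
      rw [← vertexZ_smul M₁ M₂ g (g⁻¹ • (μ : CosetVertex M₁ M₂)), smul_inv_smul]
    rw [hz]
    apply Subgroup.map_mono
    exact le_iSup (fun μ' : {μ : CosetVertex M₁ M₂ // (cosetGraph M₁ M₂).dist ν μ ≤ k} =>
      vertexZ p (μ' : CosetVertex M₁ M₂)) ⟨g⁻¹ • (μ : CosetVertex M₁ M₂), hd⟩
  · rw [Subgroup.map_iSup]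
    refine iSup_le fun μ => ?_
    rw [← vertexZ_smul M₁ M₂ g (μ : CosetVertex M₁ M₂)]
    have hd : (cosetGraph M₁ M₂).dist (g • ν) (g • (μ : CosetVertex M₁ M₂)) ≤ k := by
      rw [dist_smul M₁ M₂ g ν (μ : CosetVertex M₁ M₂)]
      exact μ.2
    exact le_iSup (fun μ' : {μ : CosetVertex M₁ M₂ // (cosetGraph M₁ M₂).dist (g • ν) μ ≤ k} =>
      vertexZ p (μ' : CosetVertex M₁ M₂)) ⟨g • (μ : CosetVertex M₁ M₂), hd⟩

end Cfsg.Agent.S2856P
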