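import Cfsg.Prelude.Def_LocalStructure
import Cfsg.Agent.Helper14.Amalgam6
import Cfsg.Agent.Helper14.Irreducible2

/-! S2856/S2857 piece ZLE (driver helper14; helper20): `Z_λ` lies in the subgroup generated by the
`Z_μ`, `μ` a neighbour of `λ`. -/

set_option autoImplicit false

namespace Cfsg.Agent.S2856P

open Cfsg Cfsg.Agent.Helper14

variable {X : Type*} [Group X] {p : ℕ} [Fact p.Prime] (M₁ M₂ : Subgroup X)

/-- every vertex of the coset graph has a neighbour -/
theorem ZLE.exists_adj (lam : CosetVertex M₁ M₂) : ∃ μ, (cosetGraph M₁ M₂).Adj lam μ := by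
  rcases lam with a | a
  · obtain ⟨x, rfl⟩ := exists_rep_inl M₁ a
    exact ⟨_, adj_inl_inr M₁ M₂ x⟩
  · obtain ⟨x, rfl⟩ := exists_rep_inr M₂ a
    exact ⟨_, (adj_inl_inr M₁ M₂ x).symm⟩

/-- piece ZLE: `Z_λ` lies in the subgroup generated by the `Z_μ`, `μ` a neighbour of `λ`. -/
theorem vertexZ_le_iSup_adj (h : IsCharPAmalgamPair p M₁ M₂) (lam : CosetVertex M₁ M₂) :
    vertexZ p lam ≤ ⨆ μ : {μ : CosetVertex M₁ M₂ // (cosetGraph M₁ M₂).Adj lam μ},
      vertexZ p (μ : CosetVertex M₁ M₂) := by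
  obtain ⟨μ0, hadj⟩ := ZLE.exists_adj M₁ M₂ lam
  obtain ⟨U, hU1, hU2⟩ := edge_exists_common_sylow M₁ M₂ h lam μ0 hadj
  have : Finite ↥(MulAction.stabilizer X lam) := finite_stab M₁ M₂ h lam
  show sylowCenterClosure p (MulAction.stabilizer X lam) ≤ _
  rw [sylowCenterClosure_eq]
  refine iSup_le fun S => ?_
  have hS := isSylowIn_of_sylow (p := p) S
  obtain ⟨g, hg, hgS⟩ := hU1.exists_conj hS
  have hglam : g • lam = lam := hg
  have hadj' : (cosetGraph M₁ M₂).Adj lam (g • μ0) := by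
    have := adj_smul M₁ M₂ g hadj
    rwa [hglam] at this
  have hsyl : IsSylowIn p (U.map (cj g)) (MulAction.stabilizer X (g • μ0)) := by
    have := hU2.map_cj g
    rw [MulAction.stabilizer_smul_eq_stabilizer_map_conj]
    exact this
  rw [hgS]
  refine (ozc_le_sylowCenterClosure' (p := p) hsyl).trans ?_
  exact le_iSup (fun μ : {μ : CosetVertex M₁ M₂ // (cosetGraph M₁ M₂).Adj lam μ} =>
    vertexZ p (μ : CosetVertex M₁ M₂)) ⟨g • μ0, hadj'⟩

end Cfsg.Agent.S2856P
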