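import Mathlib
import Cfsg.Agent.Helper12.S2999Basic

/-! Board `s2999pieces`, rows OPP and MOVE (blueprint (B2)). -/

set_option autoImplicit false

namespace Cfsg.Agent.S2999P

open Cfsg.Agent.S2789P
open scoped commutatorElement

variable {G : Type*} [Group G] [Finite G] {p : ℕ} [Fact p.Prime] {V P Mg Tg R A : Subgroup G}

/-- OPP (S): blueprint (B2): conjugate (iii) by `g` (`x := g⁻¹h`), then `fix_sup`. -/
theorem OPP (S : Setup p V P Mg Tg R A) {g h : G} (hg : g ∈ P) (hh : h ∈ P) (hgh : g⁻¹ * h ∉ Mg) :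
    cjs g A ⊔ cjs h A = P ∧ fixV V (cjs g A) ⊓ fixV V (cjs h A) = fixV V P := by
  have hx : g⁻¹ * h ∈ P := P.mul_mem (P.inv_mem hg) hh
  have h1 := S.hiii (g⁻¹ * h) hx hgh
  have h2 : cjs g A ⊔ cjs h A = P := by
    have h3 := congrArg (cjs g) h1
    rw [cj_sup, cj_mul, S.cjP hg] at h3
    have e : g * (g⁻¹ * h) = h := by group
    rwa [e] at h3
  refine ⟨h2, ?_⟩
  rw [← fix_sup, h2]

/-- MOVE (S): some element of `gAg⁻¹` moves the point `hM` when `g⁻¹h ∉ M` [else `P = ᵍA ⊔ ʰA ≤ ʰM`]. -/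
theorem MOVE (S : Setup p V P Mg Tg R A) {g h : G} (hg : g ∈ P) (hh : h ∈ P) (hgh : g⁻¹ * h ∉ Mg) :
    ∃ c ∈ cjs g A, c ∉ cjs h Mg := by
  by_contra hcon
  push_neg at hcon
  have h1 : cjs g A ≤ cjs h Mg := fun c hc => hcon c hc
  have h2 : cjs h A ≤ cjs h Mg := cj_mono S.hAM
  have h3 : P ≤ cjs h Mg := by
    rw [← (OPP S hg hh hgh).1]
    exact sup_le h1 h2
  have h4 : cjs h⁻¹ P ≤ cjs h⁻¹ (cjs h Mg) := cj_mono h3
  rw [cj_inv_cj, S.cjP (P.inv_mem hh)] at h4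
  obtain ⟨x, hxP, hxM⟩ := S.hMne
  exact hxM (h4 hxP)

end Cfsg.Agent.S2999P
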