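import Mathlib
import Cfsg.Agent.Helper12.S2999Basic

/-! Board `s2999pieces`, row REPS: a left transversal of `Mg` in `P` containing `1`. -/

set_option autoImplicit false

namespace Cfsg.Agent.S2999P

open Cfsg.Agent.S2789P
open scoped commutatorElement

variable {G : Type*} [Group G] [Finite G] {p : ℕ} [Fact p.Prime] {V P Mg Tg R A : Subgroup G}

/-- REPS (S/M): a left transversal of `Mg` in `P` containing `1`. Pure group theory (`Subgroup.exists_isComplement_left`). -/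
theorem REPS (P Mg : Subgroup G) (hMP : Mg ≤ P) :
    ∃ Rp : Set G, (1 : G) ∈ Rp ∧ Rp ⊆ (P : Set G) ∧ (∀ g ∈ Rp, ∀ h ∈ Rp, g ≠ h → g⁻¹ * h ∉ Mg) ∧
      Rp.ncard = Mg.relIndex P := by
  obtain ⟨S, hS, h1S⟩ := Subgroup.exists_isComplement_left (Mg.subgroupOf P) (1 : ↥P)
  refine ⟨Subtype.val '' S, ⟨1, h1S, rfl⟩, ?_, ?_, ?_⟩
  · rintro _ ⟨s, _, rfl⟩
    exact s.2
  · rintro _ ⟨s, hs, rfl⟩ _ ⟨t, ht, rfl⟩ hne hmem
    have hU := (Subgroup.isComplement_iff_existsUnique_inv_mul_mem.mp hS) t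
    have h1 : ((⟨s, hs⟩ : S) : ↥P)⁻¹ * t ∈ ((Mg.subgroupOf P : Subgroup ↥P) : Set ↥P) := by
      show s⁻¹ * t ∈ Mg.subgroupOf P
      rw [Subgroup.mem_subgroupOf]
      simpa using hmem
    have h2 : ((⟨t, ht⟩ : S) : ↥P)⁻¹ * t ∈ ((Mg.subgroupOf P : Subgroup ↥P) : Set ↥P) := by
      show t⁻¹ * t ∈ Mg.subgroupOf P
      rw [inv_mul_cancel]
      exact Subgroup.one_mem _
    have h3 := hU.unique h1 h2
    apply hne
    have h4 : s = t := congrArg Subtype.val h3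
    rw [h4]
  · rw [Set.ncard_image_of_injective S Subtype.val_injective, hS.ncard_left]
    rfl

end Cfsg.Agent.S2999P
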