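import Mathlib
import Cfsg.Agent.Helper20.S2999REPS

/-! Board `s2999pieces`, row COUNT (blueprint §4), core: SPLIT and PACK enter as hypotheses. -/

set_option autoImplicit false

namespace Cfsg.Agent.S2999P

open Cfsg.Agent.S2789P
open scoped commutatorElement

variable {G : Type*} [Group G] [Finite G] {p : ℕ} [Fact p.Prime] {V P Mg Tg R A : Subgroup G}

/-- the arithmetic of COUNT -/
theorem COUNT_aux_arith {z a y n : ℕ} (hz : 0 < z) (hdvd : z ∣ a) (hne : a ≠ z)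
    (hsplit : y * z = a ^ 2) (hpack : z + n * (a - z) ≤ y) : n * z ≤ a + z := by
  obtain ⟨α, rfl⟩ := hdvd
  have hα0 : α ≠ 0 := by
    rintro rfl
    simp at hsplit
    rcases hsplit with h | h
    · subst h
      have : z ≤ 0 := by simpa using hpack
      omega
    · omega
  have hα1 : α ≠ 1 := by
    rintro rfl
    exact hne (by ring)
  have hα : 2 ≤ α := by omega
  obtain ⟨β, rfl⟩ : ∃ β, α = β + 1 := ⟨α - 1, by omega⟩
  have hβ : 1 ≤ β := by omega
  have hy : y = (β + 1) ^ 2 * z := by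
    have : y * z = ((β + 1) ^ 2 * z) * z := by rw [hsplit]; ring
    exact Nat.eq_of_mul_eq_mul_right hz this
  have hsub : z * (β + 1) - z = z * β := by
    have : z * (β + 1) = z * β + z := by ring
    omega
  rw [hsub, hy] at hpack
  -- z + n * (z * β) ≤ (β+1)^2 * z  ⇒  n * β ≤ β^2 + 2β  ⇒ n ≤ β + 2
  have h1 : z * (1 + n * β) ≤ z * ((β + 1) ^ 2) := by
    calc z * (1 + n * β) = z + n * (z * β) := by ring
      _ ≤ (β + 1) ^ 2 * z := hpack
      _ = z * ((β + 1) ^ 2) := by ring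
  have h2 : 1 + n * β ≤ (β + 1) ^ 2 := Nat.le_of_mul_le_mul_left h1 hz
  have h3 : n * β ≤ (β + 2) * β := by
    have : (β + 1) ^ 2 = 1 + (β + 2) * β := by ring
    omega
  have h4 : n ≤ β + 2 := Nat.le_of_mul_le_mul_right h3 (by omega)
  calc n * z ≤ (β + 2) * z := Nat.mul_le_mul_right z h4
    _ = z * (β + 1) + z := by ring

/-- COUNT with the conclusions of SPLIT and PACK as hypotheses. -/
theorem COUNT_aux_core (S : Setup p V P Mg Tg R A) (Y : Subgroup G) (hYP : P ≤ Subgroup.normalizer (Y : Set G))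
    (hY0 : fixV V P ≤ Y) (hY1 : Y ≤ V1 V P A) (hne : ¬ (Y ⊓ fixV V A : Subgroup G) ≤ fixV V P)
    (hSPLIT : Nat.card ↥Y * Nat.card ↥(fixV V P) = Nat.card ↥(Y ⊓ fixV V A : Subgroup G) ^ 2)
    (hPACK : ∀ (Rp : Set G), Rp ⊆ (P : Set G) → (∀ g ∈ Rp, ∀ h ∈ Rp, g ≠ h → g⁻¹ * h ∉ Mg) →
      Nat.card ↥(fixV V P) + Rp.ncard * (Nat.card ↥(Y ⊓ fixV V A : Subgroup G) - Nat.card ↥(fixV V P)) ≤ Nat.card ↥Y) :
    Mg.relIndex P * Nat.card ↥(fixV V P) ≤ Nat.card ↥(Y ⊓ fixV V A : Subgroup G) + Nat.card ↥(fixV V P) := by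
  obtain ⟨Rp, _, hRpP, hopp, hRpn⟩ := REPS P Mg S.hMP
  have hpack := hPACK Rp hRpP hopp
  rw [hRpn] at hpack
  have hle : fixV V P ≤ (Y ⊓ fixV V A : Subgroup G) := le_inf hY0 (S.V0_le_fix S.hAP)
  have hdvd : Nat.card ↥(fixV V P) ∣ Nat.card ↥(Y ⊓ fixV V A : Subgroup G) := Subgroup.card_dvd_of_le hle
  have hcne : Nat.card ↥(Y ⊓ fixV V A : Subgroup G) ≠ Nat.card ↥(fixV V P) := by
    intro hcon
    apply hne
    exact le_of_eq (Subgroup.eq_of_le_of_card_ge hle (le_of_eq hcon)).symm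
  exact COUNT_aux_arith Nat.card_pos hdvd hcne hSPLIT hpack

end Cfsg.Agent.S2999P
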