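import Mathlib
import Cfsg.Agent.Helper20.S2999COUNTCore
import Cfsg.Agent.Helper14.S2999SPLIT
import Cfsg.Agent.Helper8.S2999PACK

/-! Board `s2999pieces`, row COUNT (blueprint §4): wrapper of `COUNT_aux_core` with the real SPLIT and PACK. -/

set_option autoImplicit false

namespace Cfsg.Agent.S2999P

open Cfsg.Agent.S2789P
open scoped commutatorElement

variable {G : Type*} [Group G] [Finite G] {p : ℕ} [Fact p.Prime] {V P Mg Tg R A : Subgroup G}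

/-- COUNT (M): blueprint §4 COUNT, from PACK + REPS + SPLIT: `n·|V₀| ≤ |Y ∩ U(A)| + |V₀|` if `Y ∩ U(A) ≰ V₀`. -/
theorem COUNT (S : Setup p V P Mg Tg R A) (Y : Subgroup G) (hYP : P ≤ Subgroup.normalizer (Y : Set G))
    (hY0 : fixV V P ≤ Y) (hY1 : Y ≤ V1 V P A) (hne : ¬ (Y ⊓ fixV V A : Subgroup G) ≤ fixV V P) :
    Mg.relIndex P * Nat.card ↥(fixV V P) ≤ Nat.card ↥(Y ⊓ fixV V A : Subgroup G) + Nat.card ↥(fixV V P) :=
  COUNT_aux_core S Y hYP hY0 hY1 hne (SPLIT S Y hYP hY0 hY1) (fun Rp h1 h2 => (PACK S Y hYP hY0 Rp h1 h2).1)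

end Cfsg.Agent.S2999P
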