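import Mathlib
import Cfsg.Agent.Helper20.S2999OPP
import Cfsg.Agent.Helper20.S2999REPS

/-! Board `s2999pieces`, row SPREAD (blueprint §8), core: NUM and PACK (for `Y = V`) enter as hypotheses. -/

set_option autoImplicit false

namespace Cfsg.Agent.S2999P

open Cfsg.Agent.S2789P
open scoped commutatorElement

variable {G : Type*} [Group G] [Finite G] {p : ℕ} [Fact p.Prime] {V P Mg Tg R A : Subgroup G}

/-- SPREAD with the conclusions of NUM and of PACK (`Y = V`) as hypotheses. -/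
theorem SPREAD_aux_core (S : Setup p V P Mg Tg R A)
    (hNUM : Mg.relIndex P = Nat.card ↥A + 1 ∧ Nat.card ↥(fixV V A) = Nat.card ↥A * Nat.card ↥(fixV V P) ∧
      V1 V P A = V ∧ Nat.card ↥V = Nat.card ↥A ^ 2 * Nat.card ↥(fixV V P))
    (hPACK : ∀ (Rp : Set G), Rp ⊆ (P : Set G) → (∀ g ∈ Rp, ∀ h ∈ Rp, g ≠ h → g⁻¹ * h ∉ Mg) →
      (Nat.card ↥(fixV V P) + Rp.ncard * (Nat.card ↥(V ⊓ fixV V A : Subgroup G) - Nat.card ↥(fixV V P)) ≤ Nat.card ↥V ∧
      (Nat.card ↥(fixV V P) + Rp.ncard * (Nat.card ↥(V ⊓ fixV V A : Subgroup G) - Nat.card ↥(fixV V P)) = Nat.card ↥V →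
        ∀ y ∈ V, y ∈ fixV V P ∨ ∃ g ∈ Rp, y ∈ fixV V (cjs g A))))
    {m : G} (hm : m ∈ Mg) : fixV V (cjs m A) = fixV V A := by
  obtain ⟨hn, hUA, _, hVc⟩ := hNUM
  obtain ⟨Rp, h1Rp, hRpP, hopp, hRpn⟩ := REPS P Mg S.hMP
  have hmP : m ∈ P := S.hMP hm
  have hVA : (V ⊓ fixV V A : Subgroup G) = fixV V A := inf_eq_right.mpr (fix_le V A)
  obtain ⟨_, hcov⟩ := hPACK Rp hRpP hopp
  rw [hVA, hRpn, hn, hUA, hVc] at hcov
  have hApos : 1 ≤ Nat.card ↥A := Nat.one_le_iff_ne_zero.mpr Nat.card_pos.ne'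
  have hz : Nat.card ↥(fixV V P) ≤ Nat.card ↥A * Nat.card ↥(fixV V P) := Nat.le_mul_of_pos_left _ hApos
  have e : Nat.card ↥A * Nat.card ↥(fixV V P) - Nat.card ↥(fixV V P) + Nat.card ↥(fixV V P) =
      Nat.card ↥A * Nat.card ↥(fixV V P) := Nat.sub_add_cancel hz
  have hcover := hcov (by
    generalize Nat.card ↥A * Nat.card ↥(fixV V P) - Nat.card ↥(fixV V P) = w at e ⊢
    generalize Nat.card ↥A = q at e ⊢
    generalize Nat.card ↥(fixV V P) = z at e ⊢
    calc z + (q + 1) * w = q * w + (w + z) := by ring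
      _ = q * w + q * z := by rw [e]
      _ = q * (w + z) := by ring
      _ = q * (q * z) := by rw [e]
      _ = q ^ 2 * z := by ring)
  have hle : fixV V (cjs m A) ≤ fixV V A := by
    intro v hv
    have hvV : v ∈ V := fix_le V _ hv
    rcases hcover v hvV with h0 | ⟨g, hgR, hvg⟩
    · exact S.V0_le_fix S.hAP h0
    · by_cases hg1 : g = 1
      · rw [hg1, cj_one] at hvg
        exact hvg
      · have hgM : g ∉ Mg := by
          have := hopp 1 h1Rp g hgR (Ne.symm hg1)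
          simpa using this
        have hgP : g ∈ P := hRpP hgR
        have hmg : m⁻¹ * g ∉ Mg := by
          intro hcon
          apply hgM
          have : m * (m⁻¹ * g) ∈ Mg := Mg.mul_mem hm hcon
          simpa using this
        have h2 := (OPP S hmP hgP hmg).2
        have h3 : v ∈ fixV V (cjs m A) ⊓ fixV V (cjs g A) := Subgroup.mem_inf.mpr ⟨hv, hvg⟩
        rw [h2] at h3
        exact S.V0_le_fix S.hAP h3
  exact Subgroup.eq_of_le_of_card_ge hle (le_of_eq (S.cardfix A hmP).symm)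

end Cfsg.Agent.S2999P
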