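import Mathlib
import Cfsg.Agent.Helper28.S3000Defs

/-! Board `s3000pieces`, row TOOLa, matrix part: the diagonal torus, the Weyl element and the upper unitriangular matrices
of `SL₂(F)`. -/

set_option autoImplicit false
set_option linter.unusedSimpArgs false

namespace Cfsg.Agent.S3000P

open Matrix

variable {F : Type} [Field F]

local notation "SL2" => Matrix.SpecialLinearGroup (Fin 2) F

/-- entries of a product in `SL₂` -/
theorem TOOLa_aux_mul_apply (a b : SL2) (i j : Fin 2) :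
    ((a * b : SL2) : Matrix (Fin 2) (Fin 2) F) i j =
      (a : Matrix (Fin 2) (Fin 2) F) i 0 * (b : Matrix (Fin 2) (Fin 2) F) 0 j +
        (a : Matrix (Fin 2) (Fin 2) F) i 1 * (b : Matrix (Fin 2) (Fin 2) F) 1 j := by
  rw [Matrix.SpecialLinearGroup.coe_mul, Matrix.mul_apply, Fin.sum_univ_two]

/-- entries of an inverse in `SL₂` -/
theorem TOOLa_aux_inv_apply (a : SL2) :
    ((a⁻¹ : SL2) : Matrix (Fin 2) (Fin 2) F) 0 0 = (a : Matrix (Fin 2) (Fin 2) F) 1 1 ∧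
    ((a⁻¹ : SL2) : Matrix (Fin 2) (Fin 2) F) 0 1 = -(a : Matrix (Fin 2) (Fin 2) F) 0 1 ∧
    ((a⁻¹ : SL2) : Matrix (Fin 2) (Fin 2) F) 1 0 = -(a : Matrix (Fin 2) (Fin 2) F) 1 0 ∧
    ((a⁻¹ : SL2) : Matrix (Fin 2) (Fin 2) F) 1 1 = (a : Matrix (Fin 2) (Fin 2) F) 0 0 := by
  rw [Matrix.SpecialLinearGroup.coe_inv, Matrix.adjugate_fin_two]
  simp

theorem TOOLa_aux_det (a : SL2) :
    (a : Matrix (Fin 2) (Fin 2) F) 0 0 * (a : Matrix (Fin 2) (Fin 2) F) 1 1 -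
      (a : Matrix (Fin 2) (Fin 2) F) 0 1 * (a : Matrix (Fin 2) (Fin 2) F) 1 0 = 1 := by
  have := a.2
  rwa [Matrix.det_fin_two] at this

theorem TOOLa_aux_ext {a b : SL2}
    (h00 : (a : Matrix (Fin 2) (Fin 2) F) 0 0 = (b : Matrix (Fin 2) (Fin 2) F) 0 0)
    (h01 : (a : Matrix (Fin 2) (Fin 2) F) 0 1 = (b : Matrix (Fin 2) (Fin 2) F) 0 1)
    (h10 : (a : Matrix (Fin 2) (Fin 2) F) 1 0 = (b : Matrix (Fin 2) (Fin 2) F) 1 0)
    (h11 : (a : Matrix (Fin 2) (Fin 2) F) 1 1 = (b : Matrix (Fin 2) (Fin 2) F) 1 1) : a = b := by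
  apply Subtype.ext
  ext i j
  fin_cases i <;> fin_cases j <;> assumption

/-- the upper unitriangular condition of `Coord.hA` -/
def TOOLa_aux_IsU (g : SL2) : Prop :=
  (g : Matrix (Fin 2) (Fin 2) F) 1 0 = 0 ∧ (g : Matrix (Fin 2) (Fin 2) F) 0 0 = 1

theorem TOOLa_aux_IsU_one_one {g : SL2} (h : TOOLa_aux_IsU g) : (g : Matrix (Fin 2) (Fin 2) F) 1 1 = 1 := by
  have := TOOLa_aux_det g
  rw [h.1, h.2] at this
  simpa using this

/-- the torus normalises the unitriangular matrices -/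
theorem TOOLa_aux_diag_conj {d u : SL2} (hd : d ∈ diagSL F) (hu : TOOLa_aux_IsU u) : TOOLa_aux_IsU (d * u * d⁻¹) := by
  obtain ⟨i00, i01, i10, i11⟩ := TOOLa_aux_inv_apply d
  have hdet := TOOLa_aux_det d
  obtain ⟨d01, d10⟩ := hd
  rw [d01, d10] at hdet
  constructor
  · simp only [TOOLa_aux_mul_apply, i00, i10, d10, hu.1]
    ring
  · simp only [TOOLa_aux_mul_apply, i00, i10, d10, d01, hu.2]
    linear_combination hdet

theorem TOOLa_aux_weyl_entries :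
    ((weylSL F : SL2) : Matrix (Fin 2) (Fin 2) F) 0 0 = 0 ∧ ((weylSL F : SL2) : Matrix (Fin 2) (Fin 2) F) 0 1 = 1 ∧
    ((weylSL F : SL2) : Matrix (Fin 2) (Fin 2) F) 1 0 = -1 ∧ ((weylSL F : SL2) : Matrix (Fin 2) (Fin 2) F) 1 1 = 0 := by
  unfold weylSL
  simp

/-- the Weyl element normalises the torus -/
theorem TOOLa_aux_weyl_conj_diag {d : SL2} (hd : d ∈ diagSL F) : weylSL F * d * (weylSL F)⁻¹ ∈ diagSL F := by
  obtain ⟨i00, i01, i10, i11⟩ := TOOLa_aux_inv_apply (weylSL F)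
  obtain ⟨w00, w01, w10, w11⟩ := TOOLa_aux_weyl_entries (F := F)
  obtain ⟨d01, d10⟩ := hd
  constructor
  · show ((weylSL F * d * (weylSL F)⁻¹ : SL2) : Matrix (Fin 2) (Fin 2) F) 0 1 = 0
    simp only [TOOLa_aux_mul_apply, i01, i11, w00, w01, d10]
    ring
  · show ((weylSL F * d * (weylSL F)⁻¹ : SL2) : Matrix (Fin 2) (Fin 2) F) 1 0 = 0
    simp only [TOOLa_aux_mul_apply, i00, i10, w11, w10, d01]
    ring

/-- the matrix `[[1,t],[0,1]]` -/
def TOOLa_aux_unip (t : F) : SL2 := ⟨!![1, t; 0, 1], by simp [Matrix.det_fin_two]⟩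

theorem TOOLa_aux_unip_entries (t : F) :
    ((TOOLa_aux_unip t : SL2) : Matrix (Fin 2) (Fin 2) F) 0 0 = 1 ∧
    ((TOOLa_aux_unip t : SL2) : Matrix (Fin 2) (Fin 2) F) 0 1 = t ∧
    ((TOOLa_aux_unip t : SL2) : Matrix (Fin 2) (Fin 2) F) 1 0 = 0 ∧
    ((TOOLa_aux_unip t : SL2) : Matrix (Fin 2) (Fin 2) F) 1 1 = 1 := by
  unfold TOOLa_aux_unip
  simp

theorem TOOLa_aux_unip_isU (t : F) : TOOLa_aux_IsU (TOOLa_aux_unip t) :=
  ⟨(TOOLa_aux_unip_entries t).2.2.1, (TOOLa_aux_unip_entries t).1⟩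

/-- a unitriangular matrix is `[[1,t],[0,1]]` -/
theorem TOOLa_aux_isU_eq {g : SL2} (h : TOOLa_aux_IsU g) :
    g = TOOLa_aux_unip ((g : Matrix (Fin 2) (Fin 2) F) 0 1) := by
  obtain ⟨u00, u01, u10, u11⟩ := TOOLa_aux_unip_entries ((g : Matrix (Fin 2) (Fin 2) F) 0 1)
  apply TOOLa_aux_ext
  · rw [h.2, u00]
  · rw [u01]
  · rw [h.1, u10]
  · rw [TOOLa_aux_IsU_one_one h, u11]

theorem TOOLa_aux_unip_zero : TOOLa_aux_unip (0 : F) = 1 := by
  obtain ⟨u00, u01, u10, u11⟩ := TOOLa_aux_unip_entries (0 : F)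
  apply TOOLa_aux_ext <;> simp [u00, u01, u10, u11]

/-- the Weyl conjugate of `[[1,1],[0,1]]` is not unitriangular -/
theorem TOOLa_aux_weyl_conj_unip : ¬ TOOLa_aux_IsU (weylSL F * TOOLa_aux_unip (1 : F) * (weylSL F)⁻¹) := by
  obtain ⟨i00, i01, i10, i11⟩ := TOOLa_aux_inv_apply (weylSL F)
  obtain ⟨w00, w01, w10, w11⟩ := TOOLa_aux_weyl_entries (F := F)
  obtain ⟨u00, u01, u10, u11⟩ := TOOLa_aux_unip_entries (1 : F)
  rintro ⟨h, -⟩
  simp only [TOOLa_aux_mul_apply, i00, i10, w11, w10, u00, u01, u10, u11] at h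
  have : (-1 : F) = 0 := by linear_combination h
  exact one_ne_zero (neg_eq_zero.mp this)

/-- the diagonal matrix `diag(l, l⁻¹)` -/
def TOOLa_aux_diag (l : F) (hl : l ≠ 0) : SL2 := ⟨!![l, 0; 0, l⁻¹], by simp [Matrix.det_fin_two, hl]⟩

theorem TOOLa_aux_diag_entries (l : F) (hl : l ≠ 0) :
    ((TOOLa_aux_diag l hl : SL2) : Matrix (Fin 2) (Fin 2) F) 0 0 = l ∧
    ((TOOLa_aux_diag l hl : SL2) : Matrix (Fin 2) (Fin 2) F) 0 1 = 0 ∧
    ((TOOLa_aux_diag l hl : SL2) : Matrix (Fin 2) (Fin 2) F) 1 0 = 0 ∧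
    ((TOOLa_aux_diag l hl : SL2) : Matrix (Fin 2) (Fin 2) F) 1 1 = l⁻¹ := by
  unfold TOOLa_aux_diag
  simp

theorem TOOLa_aux_diag_mem (l : F) (hl : l ≠ 0) : TOOLa_aux_diag l hl ∈ diagSL F :=
  ⟨(TOOLa_aux_diag_entries l hl).2.1, (TOOLa_aux_diag_entries l hl).2.2.1⟩

/-- `diag(l,l⁻¹) [[1,t],[0,1]] diag(l,l⁻¹)⁻¹ = [[1,l² t],[0,1]]` -/
theorem TOOLa_aux_diag_conj_unip (l : F) (hl : l ≠ 0) (t : F) :
    TOOLa_aux_diag l hl * TOOLa_aux_unip t * (TOOLa_aux_diag l hl)⁻¹ = TOOLa_aux_unip (l ^ 2 * t) := by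
  obtain ⟨i00, i01, i10, i11⟩ := TOOLa_aux_inv_apply (TOOLa_aux_diag l hl)
  obtain ⟨d00, d01, d10, d11⟩ := TOOLa_aux_diag_entries l hl
  obtain ⟨u00, u01, u10, u11⟩ := TOOLa_aux_unip_entries t
  obtain ⟨v00, v01, v10, v11⟩ := TOOLa_aux_unip_entries (l ^ 2 * t)
  apply TOOLa_aux_ext
  · simp only [TOOLa_aux_mul_apply, i00, i10, d00, d01, d10, d11, u00, u01, u10, u11, v00]
    field_simp
    ring
  · simp only [TOOLa_aux_mul_apply, i01, i11, d00, d01, u00, u01, u10, u11, v01]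
    ring
  · simp only [TOOLa_aux_mul_apply, i00, i10, d00, d01, d10, d11, u00, u01, u10, u11, v10]
    ring
  · simp only [TOOLa_aux_mul_apply, i01, i11, d00, d01, d10, d11, u00, u01, u10, u11, v11]
    field_simp
    ring

/-- the torus embeds into `Fˣ` -/
theorem TOOLa_aux_card_diag_dvd [Fintype F] : Nat.card ↥(diagSL F) ∣ Fintype.card F - 1 := by
  classical
  have hne : ∀ d : ↥(diagSL F), ((d : SL2) : Matrix (Fin 2) (Fin 2) F) 0 0 ≠ 0 := by
    intro d h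
    have := TOOLa_aux_det (d : SL2)
    rw [h, d.2.1] at this
    simp at this
  let f : ↥(diagSL F) →* Fˣ :=
    { toFun := fun d => Units.mk0 _ (hne d)
      map_one' := by
        apply Units.ext
        simp
      map_mul' := by
        intro a b
        apply Units.ext
        show (((a * b : ↥(diagSL F)) : SL2) : Matrix (Fin 2) (Fin 2) F) 0 0 = _
        rw [Subgroup.coe_mul, TOOLa_aux_mul_apply, a.2.1]
        simp }
  have hinj : Function.Injective f := by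
    intro a b hab
    have h00 : ((a : SL2) : Matrix (Fin 2) (Fin 2) F) 0 0 = ((b : SL2) : Matrix (Fin 2) (Fin 2) F) 0 0 :=
      congrArg Units.val hab
    apply Subtype.ext
    have ha := TOOLa_aux_det (a : SL2)
    have hb := TOOLa_aux_det (b : SL2)
    rw [a.2.1] at ha
    rw [b.2.1] at hb
    apply TOOLa_aux_ext h00
    · rw [a.2.1, b.2.1]
    · rw [a.2.2, b.2.2]
    · have h1 : ((a : SL2) : Matrix (Fin 2) (Fin 2) F) 0 0 * ((a : SL2) : Matrix (Fin 2) (Fin 2) F) 1 1 = 1 := by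
        linear_combination ha
      have h2 : ((a : SL2) : Matrix (Fin 2) (Fin 2) F) 0 0 * ((b : SL2) : Matrix (Fin 2) (Fin 2) F) 1 1 = 1 := by
        rw [h00]; linear_combination hb
      exact mul_left_cancel₀ (hne a) (h1.trans h2.symm)
  have h1 := Subgroup.card_dvd_of_injective f hinj
  rwa [Nat.card_eq_fintype_card (α := Fˣ), Fintype.card_units] at h1

end Cfsg.Agent.S3000P
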