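import Mathlib
import Cfsg.Agent.Helper28.S3000Defs
import Cfsg.Agent.Helper20.S3000TOOLaMat

/-! Board `s3000pieces`, row TOOLa: the group-side fields of `Tool` from the coordinates of a package. -/

set_option autoImplicit false

namespace Cfsg.Agent.S3000P

open Cfsg.Agent.S2789P Cfsg.Agent.S2999P
open scoped commutatorElement

variable {G : Type*} [Group G]

section coord
variable {F : Type} [Field F] {V A E : Subgroup G} (c : Coord F V A E)

theorem TOOLa_aux_mem_torus {h : G} :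
    h ∈ c.torus ↔ ∃ h' : ↥E, c.ρ h' ∈ diagSL F ∧ (h' : G) = h := by
  unfold Coord.torus
  rw [Subgroup.mem_map]
  constructor
  · rintro ⟨x, hx, rfl⟩
    exact ⟨x, hx, rfl⟩
  · rintro ⟨x, hx, rfl⟩
    exact ⟨x, hx, rfl⟩

theorem TOOLa_aux_mem_A (e : ↥E) : (e : G) ∈ A ↔ TOOLa_aux_IsU (c.ρ e) := c.hA e

theorem TOOLa_aux_symm_mem_torus {d : Matrix.SpecialLinearGroup (Fin 2) F} (hd : d ∈ diagSL F) :
    ((c.ρ.symm d : ↥E) : G) ∈ c.torus :=
  (TOOLa_aux_mem_torus c).mpr ⟨c.ρ.symm d, by rw [MulEquiv.apply_symm_apply]; exact hd, rfl⟩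

/-- the torus normalises `A`, one inclusion -/
theorem TOOLa_aux_torus_conj_le (hAE : A ≤ E) {h : G} (hh : h ∈ c.torus) : cjs h A ≤ A := by
  intro x hx
  rw [cj_mem] at hx
  obtain ⟨h', hd, rfl⟩ := (TOOLa_aux_mem_torus c).mp hh
  set a' : ↥E := ⟨(h' : G)⁻¹ * x * (h' : G), hAE hx⟩ with ha'
  have h1 : ((h' * a' * h'⁻¹ : ↥E) : G) ∈ A := by
    rw [TOOLa_aux_mem_A c, map_mul, map_mul, map_inv]
    exact TOOLa_aux_diag_conj hd ((TOOLa_aux_mem_A c a').mp hx)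
  have h2 : ((h' * a' * h'⁻¹ : ↥E) : G) = x := by
    rw [Subgroup.coe_mul, Subgroup.coe_mul, Subgroup.coe_inv, ha']
    show (h' : G) * ((h' : G)⁻¹ * x * (h' : G)) * (h' : G)⁻¹ = x
    group
  rwa [h2] at h1

theorem TOOLa_aux_torus_conj (hAE : A ≤ E) {h : G} (hh : h ∈ c.torus) : cjs h A = A := by
  apply le_antisymm (TOOLa_aux_torus_conj_le c hAE hh)
  have h1 := TOOLa_aux_torus_conj_le c hAE (c.torus.inv_mem hh)
  have h2 := cj_mono (g := h) h1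
  rwa [cj_cj_inv] at h2

theorem TOOLa_aux_weyl_conj_le : cjs c.weyl c.torus ≤ c.torus := by
  intro x hx
  rw [cj_mem] at hx
  obtain ⟨h', hd, hh'⟩ := (TOOLa_aux_mem_torus c).mp hx
  rw [TOOLa_aux_mem_torus]
  refine ⟨c.ρ.symm (weylSL F) * h' * (c.ρ.symm (weylSL F))⁻¹, ?_, ?_⟩
  · rw [map_mul, map_mul, map_inv, MulEquiv.apply_symm_apply]
    exact TOOLa_aux_weyl_conj_diag hd
  · rw [Subgroup.coe_mul, Subgroup.coe_mul, Subgroup.coe_inv, hh']
    show c.weyl * (c.weyl⁻¹ * x * c.weyl) * c.weyl⁻¹ = x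
    group

theorem TOOLa_aux_weyl_ne (hAE : A ≤ E) : cjs c.weyl A ≠ A := by
  intro heq
  set a₁ : ↥E := c.ρ.symm (TOOLa_aux_unip (1 : F)) with ha₁
  have h1 : (a₁ : G) ∈ A := by
    rw [TOOLa_aux_mem_A c, ha₁, MulEquiv.apply_symm_apply]
    exact TOOLa_aux_unip_isU 1
  have h2 : c.weyl * (a₁ : G) * c.weyl⁻¹ ∈ A :=
    le_of_eq heq (cj_mem_conj.mpr h1)
  have h3 : ((c.ρ.symm (weylSL F) * a₁ * (c.ρ.symm (weylSL F))⁻¹ : ↥E) : G) ∈ A := by
    rw [Subgroup.coe_mul, Subgroup.coe_mul, Subgroup.coe_inv]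
    exact h2
  rw [TOOLa_aux_mem_A c, map_mul, map_mul, map_inv, MulEquiv.apply_symm_apply, ha₁, MulEquiv.apply_symm_apply] at h3
  exact TOOLa_aux_weyl_conj_unip h3

/-- an element of order `p` of the torus gives one of `diagSL F` -/
theorem TOOLa_aux_torus_coprime [Fintype F] {p : ℕ} [Fact p.Prime] [Finite G] (hp : p ∣ Fintype.card F) :
    (Nat.card ↥c.torus).Coprime p := by
  have hpp : p.Prime := Fact.out
  rw [Nat.coprime_comm, Nat.Prime.coprime_iff_not_dvd hpp]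
  intro hdvd
  obtain ⟨x, hx⟩ := exists_prime_orderOf_dvd_card' (G := ↥c.torus) p hdvd
  obtain ⟨h', hd, hh'⟩ := (TOOLa_aux_mem_torus c).mp x.2
  have ho : orderOf (⟨c.ρ h', hd⟩ : ↥(diagSL F)) = p := by
    rw [← hx, ← Subgroup.orderOf_coe x, ← hh', Subgroup.orderOf_coe h', ← Subgroup.orderOf_coe (⟨c.ρ h', hd⟩ : ↥(diagSL F))]
    exact MulEquiv.orderOf_eq c.ρ h'
  have h1 : p ∣ Nat.card ↥(diagSL F) := by
    rw [← ho]; exact orderOf_dvd_natCard _
  have h2 : p ∣ Fintype.card F - 1 := h1.trans TOOLa_aux_card_diag_dvd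
  have hpos : 1 ≤ Fintype.card F := Fintype.card_pos
  have h3 : p ∣ 1 := by
    have := (Nat.dvd_sub hp h2)
    have e : Fintype.card F - (Fintype.card F - 1) = 1 := by omega
    rwa [e] at this
  exact hpp.one_lt.ne' (Nat.dvd_one.mp h3)

/-- the unitriangular parameter of a nonidentity element of `A` -/
theorem TOOLa_aux_param (hAE : A ≤ E) {a : G} (ha : a ∈ A) (ha1 : a ≠ 1) :
    ∃ t : F, t ≠ 0 ∧ c.ρ ⟨a, hAE ha⟩ = TOOLa_aux_unip t := by
  have hU := (TOOLa_aux_mem_A c ⟨a, hAE ha⟩).mp ha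
  refine ⟨_, ?_, TOOLa_aux_isU_eq hU⟩
  intro h0
  have h1 := TOOLa_aux_isU_eq hU
  rw [h0, TOOLa_aux_unip_zero] at h1
  have h2 : (⟨a, hAE ha⟩ : ↥E) = 1 := by
    have := c.ρ.injective (h1.trans (map_one c.ρ).symm)
    exact this
  exact ha1 (congrArg Subtype.val h2)

/-- `p = 2`: transitivity of the torus on `A \ 1` -/
theorem TOOLa_aux_transA [Finite F] (h2 : (2 : F) = 0) (hAE : A ≤ E) {a a' : G} (ha : a ∈ A) (ha1 : a ≠ 1)
    (ha' : a' ∈ A) (ha'1 : a' ≠ 1) : ∃ h ∈ c.torus, h * a * h⁻¹ = a' := by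
  obtain ⟨t, ht, hta⟩ := TOOLa_aux_param c hAE ha ha1
  obtain ⟨t', ht', hta'⟩ := TOOLa_aux_param c hAE ha' ha'1
  -- squaring is onto
  have hinj : Function.Injective (fun x : F => x ^ 2) := by
    intro x y hxy
    have hxy' : x ^ 2 = y ^ 2 := hxy
    have h3 : (x - y) ^ 2 = 0 := by
      have : (x - y) ^ 2 = x ^ 2 - y ^ 2 + 2 * (y ^ 2 - x * y) := by ring
      rw [this, hxy', h2]; ring
    exact sub_eq_zero.mp (pow_eq_zero_iff (two_ne_zero)|>.mp h3)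
  have hsurj : Function.Surjective (fun x : F => x ^ 2) := Finite.injective_iff_surjective.mp hinj
  obtain ⟨l, hl⟩ := hsurj (t' / t)
  have hl' : l ^ 2 = t' / t := hl
  have hl0 : l ≠ 0 := by
    intro h0
    rw [h0] at hl'
    have : t' / t ≠ 0 := div_ne_zero ht' ht
    apply this
    rw [← hl']; ring
  refine ⟨_, TOOLa_aux_symm_mem_torus c (TOOLa_aux_diag_mem l hl0), ?_⟩
  have h3 : c.ρ.symm (TOOLa_aux_diag l hl0) * ⟨a, hAE ha⟩ * (c.ρ.symm (TOOLa_aux_diag l hl0))⁻¹ = ⟨a', hAE ha'⟩ := by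
    apply c.ρ.injective
    rw [map_mul, map_mul, map_inv, MulEquiv.apply_symm_apply, hta, hta', TOOLa_aux_diag_conj_unip, hl']
    congr 1
    field_simp
  have h4 := congrArg Subtype.val h3
  rw [Subgroup.coe_mul, Subgroup.coe_mul, Subgroup.coe_inv] at h4
  exact h4

/-- `2 ≠ 0`: the central involution -/
theorem TOOLa_aux_central (h2 : (2 : F) ≠ 0) : ∃ z ∈ c.torus, z ≠ 1 ∧ ∀ e ∈ E, z * e = e * z := by
  have hm : (-1 : F) ≠ 0 := neg_ne_zero.mpr one_ne_zero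
  obtain ⟨d00, d01, d10, d11⟩ := TOOLa_aux_diag_entries (-1 : F) hm
  have d11' : ((TOOLa_aux_diag (-1 : F) hm : Matrix.SpecialLinearGroup (Fin 2) F) : Matrix (Fin 2) (Fin 2) F) 1 1 = -1 := by
    rw [d11]; norm_num
  refine ⟨_, TOOLa_aux_symm_mem_torus c (TOOLa_aux_diag_mem (-1) hm), ?_, ?_⟩
  · intro h1
    have h3 : c.ρ.symm (TOOLa_aux_diag (-1 : F) hm) = 1 := Subtype.ext h1
    have h4 : TOOLa_aux_diag (-1 : F) hm = 1 := by
      have := congrArg c.ρ h3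
      rwa [MulEquiv.apply_symm_apply, map_one] at this
    have h5 := congrArg (fun g : Matrix.SpecialLinearGroup (Fin 2) F => (g : Matrix (Fin 2) (Fin 2) F) 0 0) h4
    simp only [d00, Matrix.SpecialLinearGroup.coe_one, Matrix.one_apply_eq] at h5
    apply h2
    have : (2 : F) = 1 - (-1) := by ring
    rw [this, h5]; ring
  · intro e he
    have h3 : c.ρ.symm (TOOLa_aux_diag (-1 : F) hm) * ⟨e, he⟩ = ⟨e, he⟩ * c.ρ.symm (TOOLa_aux_diag (-1 : F) hm) := by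
      apply c.ρ.injective
      rw [map_mul, map_mul, MulEquiv.apply_symm_apply]
      apply TOOLa_aux_ext <;> simp only [TOOLa_aux_mul_apply, d00, d01, d10, d11'] <;> ring
    have h4 := congrArg Subtype.val h3
    rw [Subgroup.coe_mul, Subgroup.coe_mul] at h4
    exact h4

end coord

variable [Finite G] {p : ℕ} [Fact p.Prime] {V P : Subgroup G} {T : Sylow p ↥P} {M : Subgroup ↥P} {q : ℕ}

/-- `p ∣ q` for the order `q` of a member of `𝒜` -/
theorem TOOLa_aux_p_dvd {A : Subgroup G} (hA : InA p V P q A) : ∃ k : ℕ, k ≠ 0 ∧ q = p ^ k := by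
  have hpg : IsPGroup p ↥A := F2_aux_isPGroup hA.so.hA
  obtain ⟨k, hk⟩ := IsPGroup.iff_card.mp hpg
  refine ⟨k, ?_, by rw [← hA.card, hk]⟩
  intro h0
  rw [h0, pow_zero] at hk
  exact hA.so.ne (Subgroup.card_eq_one.mp hk)

/-- TOOLa (L): the group side. -/
theorem TOOLa (Hy : Hyp p V P T M) (hq2 : 2 < q) {A E : Subgroup G} (hA : InA p V P q A) (hAE : A ≤ E) (hEP : E ≤ P)
    {F : Type} [Field F] [Fintype F] (hF : Fintype.card F = q) (c : Coord F V A E) :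
    c.torus ≤ E ∧ c.weyl ∈ E ∧ (∀ h ∈ c.torus, cjs h A = A) ∧ cjs c.weyl c.torus = c.torus ∧ cjs c.weyl A ≠ A ∧
      (Nat.card ↥c.torus).Coprime p ∧
      (p = 2 → ∀ a ∈ A, a ≠ 1 → ∀ a' ∈ A, a' ≠ 1 → ∃ h ∈ c.torus, h * a * h⁻¹ = a') ∧
      (p ≠ 2 → ∃ z ∈ c.torus, z ≠ 1 ∧ ∀ e ∈ E, z * e = e * z) := by
  obtain ⟨k, hk0, hqk⟩ := TOOLa_aux_p_dvd hA
  have hpp : p.Prime := Fact.out
  have hpF : ((p : ℕ) : F) = 0 := by
    have h1 : ((Fintype.card F : ℕ) : F) = 0 := Nat.cast_card_eq_zero F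
    rw [hF, hqk, Nat.cast_pow] at h1
    exact (pow_eq_zero_iff hk0).mp h1
  refine ⟨Subgroup.map_subtype_le _, (c.ρ.symm (weylSL F)).2, fun h hh => TOOLa_aux_torus_conj c hAE hh, ?_,
    TOOLa_aux_weyl_ne c hAE, ?_, ?_, ?_⟩
  · apply Subgroup.eq_of_le_of_card_ge (TOOLa_aux_weyl_conj_le c)
    rw [cj_card]
  · apply TOOLa_aux_torus_coprime c
    rw [hF, hqk]
    exact dvd_pow_self p hk0
  · intro hp2 a ha ha1 a' ha' ha'1
    have h2 : (2 : F) = 0 := by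
      rw [hp2] at hpF
      exact_mod_cast hpF
    exact TOOLa_aux_transA c h2 hAE ha ha1 ha' ha'1
  · intro hp2
    apply TOOLa_aux_central c
    intro h2
    -- `p` is odd, so `(p : F) = 1`
    obtain ⟨m, hm⟩ := hpp.eq_two_or_odd'.resolve_left hp2
    have h3 : ((p : ℕ) : F) = 1 := by
      rw [hm, Nat.cast_add, Nat.cast_mul, Nat.cast_ofNat, h2]
      simp
    rw [hpF] at h3
    exact zero_ne_one h3

end Cfsg.Agent.S3000P
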