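import Mathlib
import Cfsg.Agent.Helper28.S3000Defs
import Cfsg.Agent.Helper19.S3000BASIC
import Cfsg.Agent.Helper10.S3000PKG2

/-! s3000pieces, row PKG3 (core): a package inside `T` based at `M`, with the output of `PKG1` as a hypothesis. -/

set_option autoImplicit false

namespace Cfsg.Agent.S3000P

open Cfsg.Agent.S2789P Cfsg.Agent.S2999P
open scoped commutatorElement

variable {G : Type*} [Group G] [Finite G] {p : ℕ} [Fact p.Prime] {V P : Subgroup G} {T : Sylow p ↥P}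
  {M : Subgroup ↥P} {q : ℕ}

/-- `PKG3` with the statement of `PKG1` as a hypothesis. -/
theorem PKG3_core (Hy : Hyp p V P T M) (hq : MinQ p V P q)
    (hPKG1 : ∀ {A : Subgroup G}, InA p V P q A → A ≤ TT T →
      ∃ (E : Subgroup G) (g : G), g ∈ P ∧ Pack p V P q A E ∧ Based (cjs g (MM M)) A E) :
    ∃ A E : Subgroup G, A ≤ TT T ∧ Pack p V P q A E ∧ Based (MM M) A E := by
  obtain ⟨A₀, hA₀P, hS₀, hc₀⟩ := hq.1
  have hA₀ : InA p V P q A₀ := ⟨hA₀P, hS₀, hc₀⟩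
  obtain ⟨h, hh, hhT⟩ := F2_aux_conj_into P T hA₀P (F2_aux_isPGroup hS₀.hA)
  have hA₁ : InA p V P q (cjs h A₀) := InA.conj Hy hA₀ hh
  obtain ⟨E₁, g, hg, hK₁, hB₁⟩ := hPKG1 hA₁ hhT
  -- conjugate by `g⁻¹`
  have hK₂ : Pack p V P q (cjs g⁻¹ (cjs h A₀)) (cjs g⁻¹ E₁) := Pack.conj Hy hK₁ (P.inv_mem hg)
  have hB₂ : Based (MM M) (cjs g⁻¹ (cjs h A₀)) (cjs g⁻¹ E₁) := by
    have := Based.conj hB₁ g⁻¹
    rwa [cj_inv_cj] at this
  -- move into `T` inside `M`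
  have hpg : IsPGroup p ↥(cjs g⁻¹ (cjs h A₀)) := F2_aux_isPGroup hK₂.hA.so.hA
  obtain ⟨m, hm, hmT⟩ := J_aux_conj_into P T M Hy.hTM hB₂.hAM hpg
  have hmP : m ∈ P := Subgroup.map_subtype_le M hm
  refine ⟨cjs m (cjs g⁻¹ (cjs h A₀)), cjs m (cjs g⁻¹ E₁), hmT, Pack.conj Hy hK₂ hmP, ?_⟩
  have := Based.conj hB₂ m
  rwa [cj_self hm] at this

end Cfsg.Agent.S3000P
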