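import Mathlib
import Cfsg.Agent.Helper20.S3000PKG3Core
import Cfsg.Agent.Helper12.S3000PKG1w

/-! s3000pieces, row PKG3: a package inside `T` based at `M`. -/

set_option autoImplicit false

namespace Cfsg.Agent.S3000P

open Cfsg.Agent.S2789P Cfsg.Agent.S2999P
open scoped commutatorElement

variable {G : Type*} [Group G] [Finite G] {p : ℕ} [Fact p.Prime] {V P : Subgroup G} {T : Sylow p ↥P}
  {M : Subgroup ↥P} {q : ℕ}

/-- PKG3 (M): a package inside `T` based at `M`. -/
theorem PKG3 (Hy : Hyp p V P T M) (hq : MinQ p V P q) :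
    ∃ A E : Subgroup G, A ≤ TT T ∧ Pack p V P q A E ∧ Based (MM M) A E :=
  PKG3_core Hy hq (fun hA hAT => PKG1 Hy hq hA hAT)

end Cfsg.Agent.S3000P
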