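import Mathlib
import Cfsg.Agent.Helper11.S3786Defs

/-! Board `s3786pieces`, rows Y_avg and Y_D_zero: stub-free cores (the dependencies `Y_norm`, `Y_swap`, `Y_homsum`, `Y_fix`
enter as hypotheses). -/

set_option autoImplicit false
set_option linter.unusedSectionVars false
set_option linter.unusedVariables false

namespace Cfsg.Agent.S3786P

open Subgroup

section Y

variable {p : ℕ} [Fact p.Prime] {Γ : Type*} [Group Γ] {M : Type*} [AddCommGroup M] [DistribMulAction Γ M] {Z : Type*}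
  [AddCommGroup Z] {B : Subgroup Γ} {w z : Γ} {N : ℕ} {β : M → M → Z}

/-- an odd multiple of `m` is `m` (exponent 2) -/
theorem Y_avg_aux_odd_smul (htwo : ∀ m : M, m + m = 0) (n : ℕ) (hn : Odd n) (m : M) : n • m = m := by
  obtain ⟨l, rfl⟩ := hn
  rw [add_smul, one_smul, mul_comm, mul_smul, two_smul, htwo, smul_zero, zero_add]

/-- `|B|` is odd -/
theorem Y_avg_aux_card_odd (S : YSet p B w z N β) [Fintype ↥B] : Odd (Fintype.card ↥B) := by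
  obtain ⟨j, hj⟩ := S.Bp.exists_card_eq
  rw [Nat.card_eq_fintype_card] at hj
  rw [hj]
  exact ((Fact.out : p.Prime).odd_of_ne_two S.p_odd).pow

/-- powers of `w` normalise `B` (inverse form) -/
theorem Y_avg_aux_pow_norm (hnorm : ∀ b ∈ B, w⁻¹ * b * w ∈ B) (k : ℕ) : ∀ b ∈ B, (w ^ k)⁻¹ * b * w ^ k ∈ B := by
  induction k with
  | zero => intro b hb; simpa using hb
  | succ k ih =>
    intro b hb
    have h := hnorm _ (ih b hb)
    have e : (w ^ (k + 1))⁻¹ * b * w ^ (k + 1) = w⁻¹ * ((w ^ k)⁻¹ * b * w ^ k) * w := by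
      rw [pow_succ]; group
    rw [e]; exact h

/-- Y2 (core). -/
theorem Y_avg_aux_core (S : YSet p B w z N β) [Fintype ↥B] (Y₁ : Subgroup Γ) [Fintype ↥Y₁]
    (hnorm : ∀ b ∈ B, w⁻¹ * b * w ∈ B)
    (hswap : ∀ m : M, ∑ b : ↥B, (b : Γ) • ∑ k ∈ Finset.range N, w ^ k • ((b : Γ)⁻¹ • m) =
      ∑ k ∈ Finset.range N, w ^ k • ∑ b : ↥B, ((w ^ k)⁻¹ * (b : Γ) * w ^ k * (b : Γ)⁻¹) • m)
    (hhom : ∀ u : Γ, (∀ b ∈ B, u⁻¹ * b * u ∈ B) → (∀ y ∈ Y₁, ∃ b ∈ B, y = u⁻¹ * b * u * b⁻¹) →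
      ∀ m : M, ∑ y : ↥Y₁, (y : Γ) • m = 0 → ∑ b : ↥B, (u⁻¹ * (b : Γ) * u * (b : Γ)⁻¹) • m = 0)
    (hYk : ∀ k, 0 < k → k < N → ∀ y ∈ Y₁, ∃ b ∈ B, y = (w ^ k)⁻¹ * b * w ^ k * b⁻¹)
    (m : M) (hm : ∑ y : ↥Y₁, (y : Γ) • m = 0) :
    m = ∑ b : ↥B, (b : Γ) • ∑ k ∈ Finset.range N, w ^ k • ((b : Γ)⁻¹ • m) := by
  rw [hswap m]
  have h0 : (0 : ℕ) ∈ Finset.range N := Finset.mem_range.mpr (by have := S.N2; omega)
  rw [Finset.sum_eq_single_of_mem 0 h0]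
  · have e : ∀ b : ↥B, ((w ^ 0)⁻¹ * (b : Γ) * w ^ 0 * (b : Γ)⁻¹) • m = m := by
      intro b
      have : (w ^ 0)⁻¹ * (b : Γ) * w ^ 0 * (b : Γ)⁻¹ = 1 := by simp
      rw [this, one_smul]
    rw [Finset.sum_congr rfl (fun b _ => e b), Finset.sum_const, Finset.card_univ,
      Y_avg_aux_odd_smul S.two _ (Y_avg_aux_card_odd S), pow_zero, one_smul]
  · intro k hk hk0
    have hkN : k < N := Finset.mem_range.mp hk
    have hkpos : 0 < k := Nat.pos_of_ne_zero hk0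
    rw [hhom (w ^ k) (Y_avg_aux_pow_norm hnorm k) (hYk k hkpos hkN) m hm, smul_zero]

/-- the trace `Σ_{k<N} w^k v` is fixed by `w` when `w ^ N = 1` -/
theorem Y_D_zero_aux_trace_fixed (hwN : w ^ N = 1) (v : M) :
    w • ∑ k ∈ Finset.range N, w ^ k • v = ∑ k ∈ Finset.range N, w ^ k • v := by
  rw [Finset.smul_sum]
  have e : ∀ k ∈ Finset.range N, w • (w ^ k • v) = w ^ (k + 1) • v := by
    intro k _
    rw [← mul_smul, ← pow_succ']
  rw [Finset.sum_congr rfl e]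
  have h1 := Finset.sum_range_succ' (fun k => w ^ k • v) N
  have h2 := Finset.sum_range_succ (fun k => w ^ k • v) N
  rw [h1] at h2
  simp only [pow_zero, one_smul, hwN] at h2
  exact add_right_cancel h2

/-- elements of the abelian group `B` commute in their action -/
theorem Y_D_zero_aux_comm (hBc : ∀ a ∈ B, ∀ b ∈ B, a * b = b * a) {c b' : Γ} (hc : c ∈ B) (hb' : b' ∈ B) (v : M) :
    c • (b' • v) = b' • (c • v) := by
  rw [← mul_smul, ← mul_smul, hBc c hc b' hb']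

/-- Y3 (core). -/
theorem Y_D_zero_aux_core (S : YSet p B w z N β) [Fintype ↥B]
    (hnormz : ∀ b ∈ B, z * b * z⁻¹ ∈ B)
    (hfix : ∀ {m : M}, w • m = m → ∀ {b : Γ}, b ∈ B →
      (z * b * z⁻¹) • m + (z * b⁻¹ * z⁻¹) • m + b • m + b⁻¹ • m = 0)
    (m : M) (havg : m = ∑ b : ↥B, (b : Γ) • ∑ k ∈ Finset.range N, w ^ k • ((b : Γ)⁻¹ • m)) {b : Γ} (hb : b ∈ B) :
    (z * b * z⁻¹) • m + (z * b⁻¹ * z⁻¹) • m + b • m + b⁻¹ • m = 0 := by
  set T : ↥B → M := fun b' => ∑ k ∈ Finset.range N, w ^ k • ((b' : Γ)⁻¹ • m) with hT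
  have hTfix : ∀ b' : ↥B, w • T b' = T b' := fun b' => Y_D_zero_aux_trace_fixed S.wN _
  have hmR : m = ∑ b' : ↥B, (b' : Γ) • T b' := havg
  have hc : ∀ c : Γ, c ∈ B → c • m = ∑ b' : ↥B, (b' : Γ) • (c • T b') := by
    intro c hc
    calc c • m = c • ∑ b' : ↥B, (b' : Γ) • T b' := congrArg (fun x => c • x) hmR
      _ = ∑ b' : ↥B, c • ((b' : Γ) • T b') := Finset.smul_sum
      _ = ∑ b' : ↥B, (b' : Γ) • (c • T b') :=
          Finset.sum_congr rfl (fun b' _ => Y_D_zero_aux_comm S.Bcomm hc b'.2 _)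
  have hbi : b⁻¹ ∈ B := B.inv_mem hb
  rw [hc _ (hnormz b hb), hc _ (hnormz b⁻¹ hbi), hc b hb, hc b⁻¹ hbi, ← Finset.sum_add_distrib,
    ← Finset.sum_add_distrib, ← Finset.sum_add_distrib]
  apply Finset.sum_eq_zero
  intro b' _
  rw [← smul_add, ← smul_add, ← smul_add, hfix (hTfix b') hb, smul_zero]

end Y

end Cfsg.Agent.S3786P
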