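import Mathlib
import Cfsg.Agent.Helper11.S3786Defs
import Cfsg.Agent.Helper20.S3786YavgCore
import Cfsg.Agent.Helper19.S3786Ynorm
import Cfsg.Agent.Helper14.S3786Yswap
import Cfsg.Agent.Helper10.S3786Y_homsum
import Cfsg.Agent.Helper6.S3786Y_fix

/-! Board `s3786pieces`, rows Y_avg and Y_D_zero (official wrappers over `Helper20.S3786YavgCore`). -/

set_option autoImplicit false
set_option linter.unusedSectionVars false

namespace Cfsg.Agent.S3786P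

open Subgroup

section Y

variable {p : ℕ} [Fact p.Prime] {Γ : Type*} [Group Γ] {M : Type*} [AddCommGroup M] [DistribMulAction Γ M] {Z : Type*}
  [AddCommGroup Z] {B : Subgroup Γ} {w z : Γ} {N : ℕ} {β : M → M → Z}

/-- Y2. The averaging identity on `L = ker N_{Y₁}`. -/
theorem Y_avg (S : YSet p B w z N β) [Fintype ↥B] (Y₁ : Subgroup Γ) [Fintype ↥Y₁]
    (hYk : ∀ k, 0 < k → k < N → ∀ y ∈ Y₁, ∃ b ∈ B, y = (w ^ k)⁻¹ * b * w ^ k * b⁻¹)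
    (m : M) (hm : ∑ y : ↥Y₁, (y : Γ) • m = 0) :
    m = ∑ b : ↥B, (b : Γ) • ∑ k ∈ Finset.range N, w ^ k • ((b : Γ)⁻¹ • m) :=
  Y_avg_aux_core S Y₁ (Y_norm S).1 (Y_swap S) (fun u hu hY m hm => Y_homsum S u hu Y₁ hY m hm) hYk m hm

/-- Y3. `D_b = 0` on `L`. -/
theorem Y_D_zero (S : YSet p B w z N β) [Fintype ↥B] (Y₁ : Subgroup Γ) [Fintype ↥Y₁]
    (hYk : ∀ k, 0 < k → k < N → ∀ y ∈ Y₁, ∃ b ∈ B, y = (w ^ k)⁻¹ * b * w ^ k * b⁻¹)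
    (m : M) (hm : ∑ y : ↥Y₁, (y : Γ) • m = 0) {b : Γ} (hb : b ∈ B) :
    (z * b * z⁻¹) • m + (z * b⁻¹ * z⁻¹) • m + b • m + b⁻¹ • m = 0 :=
  Y_D_zero_aux_core S (Y_norm S).2.1 (fun hm _ hb => Y_fix S hm hb) m (Y_avg S Y₁ hYk m hm) hb

end Y

end Cfsg.Agent.S3786P
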