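import Mathlib
import Cfsg.Agent.Helper26.S3911Defs
import Cfsg.Agent.S3909

/-! s3911pieces ML6c, core (helper20): ML6c with its dependency ML5 taken as a hypothesis. -/

set_option autoImplicit false
set_option linter.unusedVariables false
set_option linter.style.haveILetI false

namespace Cfsg.Agent.S3911P

/-- ML6c with ML5 as a hypothesis. -/
theorem ML6c_aux_core {G : Type*} [Group G] [Finite G] (hB : BProp G) (M : Subgroup G) [M.Normal]
    (hgood : Hgood M) (A₀ : Subgroup G) (p : ℕ) [Fact p.Prime] (hpM : p ∣ Nat.card ↥M)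
    (S : Sylow p ↥A₀)
    (hML5 : (∀ s ∈ S, (s : G) ∈ M) → (S : Subgroup ↥A₀) = ⊥)
    (hS : (S : Subgroup ↥A₀) ≠ ⊥) : ∀ P : Sylow p G, IsCyclic ↥(P : Subgroup G) := by
  intro P
  have hp : p.Prime := Fact.out
  -- the image of `S` in `G` lies in a conjugate of `P`
  have hSp : IsPGroup p ↥((S : Subgroup ↥A₀).map A₀.subtype) := S.2.map A₀.subtype
  obtain ⟨P'', hP''⟩ := hSp.exists_le_sylow
  obtain ⟨g, hg⟩ := MulAction.exists_smul_eq G P P''
  have hmem : ∀ s ∈ S, ∃ x ∈ (P : Subgroup G), (s : G) = g * x * g⁻¹ := by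
    intro s hs
    have h1 : (s : G) ∈ (P'' : Subgroup G) := hP'' ⟨s, hs, rfl⟩
    rw [← hg, Sylow.coe_subgroup_smul, Subgroup.mem_pointwise_smul_iff_inv_smul_mem] at h1
    refine ⟨(MulAut.conj g)⁻¹ • (s : G), h1, ?_⟩
    simp [MulAut.smul_def, mul_assoc]
  rcases hgood p hp hpM P with hc | hexp | hle
  · exact hc
  · exfalso
    apply hS
    apply hML5
    intro s hs
    obtain ⟨x, hx, hsx⟩ := hmem s hs
    have hsp : (s : G) ^ p = 1 := by
      rw [hsx, conj_pow, hexp x hx]; group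
    by_cases h1 : (s : G) = 1
    · rw [h1]; exact M.one_mem
    · have hord : orderOf (s : G) = p := orderOf_eq_prime hsp h1
      obtain ⟨m, hm⟩ := exists_prime_orderOf_dvd_card' (G := M) p hpM
      exact (Cfsg.Agent.S3909.result hB M).1 (s : G)
        ⟨(m : G), m.2, by rw [Subgroup.orderOf_coe, hm, hord]⟩
  · exfalso
    apply hS
    apply hML5
    intro s hs
    obtain ⟨x, hx, hsx⟩ := hmem s hs
    rw [hsx]
    exact ‹M.Normal›.conj_mem x (hle hx) g

end Cfsg.Agent.S3911P
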