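import Mathlib
import Cfsg.Agent.Helper26.S3911Defs
import Cfsg.Agent.Helper20.S3911ML6cCore
import Cfsg.Agent.Helper21.S3911ML5

/-! s3911pieces ML6c (helper20): `ML6c_aux_core` + `ML5`. -/

set_option autoImplicit false
set_option linter.unusedVariables false

namespace Cfsg.Agent.S3911P

/-- ML6c (M/L): a nontrivial Sylow `p`-subgroup of a minimal lift, `p ∣ |M|`, forces cyclic Sylow
`p`-subgroups in `G`. -/
theorem ML6c {G : Type*} [Group G] [Finite G] (hB : BProp G) (M : Subgroup G) [M.Normal]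
    (hgood : Hgood M) (Ab : Subgroup (G ⧸ M)) (A₀ : Subgroup G) (h : MinLift M Ab A₀)
    (hnil : Group.IsNilpotent ↥A₀) (p : ℕ) [Fact p.Prime] (hpM : p ∣ Nat.card ↥M)
    (S : Sylow p ↥A₀) (hS : (S : Subgroup ↥A₀) ≠ ⊥) : ∀ P : Sylow p G, IsCyclic ↥(P : Subgroup G) :=
  ML6c_aux_core hB M hgood A₀ p hpM S (fun hSM => ML5 M Ab A₀ h hnil p S hSM) hS

end Cfsg.Agent.S3911P
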