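import Mathlib
import Cfsg.Agent.Helper26.S3911Defs
import Cfsg.Agent.Helper10.S3911ML6core
import Cfsg.Agent.Helper20.S3911ML6c
import Cfsg.Agent.Helper19.S3911ML3

/-! s3911pieces ML6 (helper20): `ML6_aux_core` (Helper10) + `ML3` + `ML6c`. -/

set_option autoImplicit false
set_option linter.unusedVariables false

namespace Cfsg.Agent.S3911P

/-- ML6 (M/L): the Sylow subgroups of a minimal lift of an abelian subgroup are commutative. -/
theorem ML6 {G : Type*} [Group G] [Finite G] (hB : BProp G) (M : Subgroup G) [M.Normal]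
    (hgood : Hgood M) (Ab : Subgroup (G ⧸ M)) (A₀ : Subgroup G) (h : MinLift M Ab A₀)
    (hAb : IsMulCommutative ↥Ab) (hnil : Group.IsNilpotent ↥A₀) (p : ℕ) [Fact p.Prime]
    (S : Sylow p ↥A₀) : ∀ a ∈ S, ∀ b ∈ S, a * b = b * a :=
  ML6_aux_core M A₀ p S (ML3 M Ab A₀ h.1 hAb)
    (fun hpM hS => ML6c hB M hgood Ab A₀ h hnil p hpM S hS)

end Cfsg.Agent.S3911P
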