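import Mathlib
import Cfsg.Agent.Helper26.S3911Defs

/-! s3912pieces QF3 (helper20): a generalized quaternion group has a unique involution. -/

set_option autoImplicit false
set_option linter.unusedVariables false
set_option linter.style.haveILetI false

namespace Cfsg.Agent.S3912P

open Cfsg.Agent.S3911P

/-- an element of order `2` of `QuaternionGroup m` is `a m` -/
theorem QF3_aux_inv (m : ℕ) (hm : m ≠ 0) (x : QuaternionGroup m) (hx : orderOf x = 2) :
    x = QuaternionGroup.a (m : ZMod (2 * m)) := by
  haveI : NeZero m := ⟨hm⟩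
  haveI : NeZero (2 * m) := ⟨by omega⟩
  cases x with
  | a i =>
    have h2 : (QuaternionGroup.a i : QuaternionGroup m) ^ 2 = 1 := by
      rw [← hx]; exact pow_orderOf_eq_one _
    have h1 : (QuaternionGroup.a i : QuaternionGroup m) ≠ 1 := by
      intro h; rw [h, orderOf_one] at hx; omega
    rw [sq, QuaternionGroup.a_mul_a, QuaternionGroup.one_def] at h2
    have h20 : i + i = 0 := QuaternionGroup.a.inj h2
    have hi0 : i ≠ 0 := by
      intro h; apply h1; rw [h, QuaternionGroup.a_zero]
    congr 1
    -- `i + i = 0`, `i ≠ 0` in `ZMod (2 m)` forces `i = m`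
    have hv : (i + i).val = 0 := by rw [h20, ZMod.val_zero]
    rw [ZMod.val_add] at hv
    have hlt : i.val < 2 * m := ZMod.val_lt i
    have hpos : 0 < i.val := Nat.pos_of_ne_zero (fun h => hi0 ((ZMod.val_eq_zero i).mp h))
    have hdvd : 2 * m ∣ i.val + i.val := Nat.dvd_of_mod_eq_zero hv
    obtain ⟨c, hc⟩ := hdvd
    have hc1 : c = 1 := by
      rcases c with _ | _ | c
      · omega
      · rfl
      · nlinarith
    rw [hc1] at hc
    have hval : i.val = m := by omega
    calc i = ((i.val : ℕ) : ZMod (2 * m)) := (ZMod.natCast_zmod_val i).symm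
      _ = (m : ZMod (2 * m)) := by rw [hval]
  | xa i =>
    rw [QuaternionGroup.orderOf_xa] at hx
    omega

/-- QF3 (S/M): a generalized quaternion `2`-group has a unique involution; stated for elements. -/
theorem QF3 {P : Type*} [Group P] (m : ℕ) (hm : m ≠ 0) (e : P ≃* QuaternionGroup m)
    (s t : P) (hs : orderOf s = 2) (ht : orderOf t = 2) : s = t := by
  apply e.injective
  rw [QF3_aux_inv m hm (e s) (by rw [MulEquiv.orderOf_eq, hs]),
    QF3_aux_inv m hm (e t) (by rw [MulEquiv.orderOf_eq, ht])]

end Cfsg.Agent.S3912P
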