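import Mathlib
import Cfsg.Agent.Helper26.S3911Defs
import Cfsg.Agent.S3909
import Cfsg.Agent.Helper20.S3912QF3

/-! s3912pieces QC, core (helper20): QC with QF1 (generation by elements of order 4) taken as a hypothesis.
ABS is used in the form `Cfsg.Agent.S3909.result`, QF3 from `Helper20.S3912QF3`. -/

set_option autoImplicit false
set_option linter.unusedVariables false
set_option linter.style.haveILetI false

namespace Cfsg.Agent.S3912P

open Cfsg.Agent.S3911P

/-- a `2`-group having a nonidentity element whose order is not `2` contains an element of order `4`. -/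
theorem QC_aux_order_four {N : Type*} [Group N] [Finite N] (hN : IsPGroup 2 N) (x : N) (h1 : x ≠ 1)
    (h2 : orderOf x ≠ 2) : ∃ y : N, orderOf y = 4 := by
  obtain ⟨k, hk⟩ := (IsPGroup.iff_orderOf.mp hN) x
  have hk2 : 2 ≤ k := by
    rcases k with _ | _ | k
    · exfalso; apply h1; rw [pow_zero, orderOf_eq_one_iff] at hk; exact hk
    · exfalso; apply h2; rw [hk]; norm_num
    · omega
  refine ⟨x ^ (2 ^ (k - 2)), ?_⟩
  have hdvd : 2 ^ (k - 2) ∣ orderOf x := by rw [hk]; exact pow_dvd_pow 2 (by omega)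
  rw [orderOf_pow_of_dvd (by positivity) hdvd, hk]
  have : (2 : ℕ) ^ k = 2 ^ (k - 2) * 4 := by
    rw [show (4 : ℕ) = 2 ^ 2 by norm_num, ← pow_add]; congr 1; omega
  rw [this, Nat.mul_div_cancel_left _ (by positivity)]

/-- QC with QF1 as a hypothesis. -/
theorem QC_aux_core {G : Type*} [Group G] [Finite G] (hB : BProp G) (P : Sylow 2 G) (m : ℕ) (hm : 2 ≤ m)
    (e : ↥(P : Subgroup G) ≃* QuaternionGroup m)
    (hQF1 : Subgroup.closure {x : ↥(P : Subgroup G) | orderOf x = 4} = ⊤)
    (N₂ : Subgroup G) [N₂.Normal]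
    (hN₂ : IsPGroup 2 ↥N₂) (hcard : 4 ≤ Nat.card ↥N₂) : (P : Subgroup G) ≤ N₂ := by
  classical
  have hNP : N₂ ≤ (P : Subgroup G) := Cfsg.Agent.Lead.le_sylow_of_normal_isPGroup P N₂ hN₂
  -- `N₂` contains an element of order `4`
  have h4 : ∃ y : ↥N₂, orderOf y = 4 := by
    by_contra hno
    have hall : ∀ x : ↥N₂, x ≠ 1 → orderOf x = 2 := by
      intro x hx
      by_contra h2
      exact hno (QC_aux_order_four hN₂ x hx h2)
    -- two distinct nonidentity elements
    have h3 : 2 < Nat.card ↥N₂ := by omega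
    haveI : Fintype ↥N₂ := Fintype.ofFinite _
    rw [Nat.card_eq_fintype_card, Fintype.two_lt_card_iff] at h3
    obtain ⟨a, b, c, hab, hac, hbc⟩ := h3
    obtain ⟨s, t, hs1, ht1, hst⟩ : ∃ s t : ↥N₂, s ≠ 1 ∧ t ≠ 1 ∧ s ≠ t := by
      by_cases ha : a = 1
      · exact ⟨b, c, fun h => hab (ha.trans h.symm), fun h => hac (ha.trans h.symm), hbc⟩
      · by_cases hb : b = 1
        · exact ⟨a, c, ha, fun h => hbc (hb.trans h.symm), hac⟩
        · exact ⟨a, b, ha, hb, hab⟩
    have hs2 := hall s hs1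
    have ht2 := hall t ht1
    have hsP : orderOf (⟨(s : G), hNP s.2⟩ : ↥(P : Subgroup G)) = 2 := by
      rw [Subgroup.orderOf_mk, Subgroup.orderOf_coe]; exact hs2
    have htP : orderOf (⟨(t : G), hNP t.2⟩ : ↥(P : Subgroup G)) = 2 := by
      rw [Subgroup.orderOf_mk, Subgroup.orderOf_coe]; exact ht2
    have := QF3 m (by omega) e _ _ hsP htP
    apply hst
    apply Subtype.ext
    exact congrArg (fun z : ↥(P : Subgroup G) => (z : G)) this
  obtain ⟨y, hy⟩ := h4
  -- absorption: all elements of order `4` of `G` lie in `N₂`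
  have habs : ∀ g : G, orderOf g = 4 → g ∈ N₂ := by
    intro g hg
    exact (Cfsg.Agent.S3909.result hB N₂).1 g ⟨(y : G), y.2, by rw [Subgroup.orderOf_coe, hy, hg]⟩
  -- `P` is generated by its elements of order `4`
  have hle : (⊤ : Subgroup ↥(P : Subgroup G)) ≤ N₂.subgroupOf (P : Subgroup G) := by
    rw [← hQF1, Subgroup.closure_le]
    intro x hx
    rw [SetLike.mem_coe, Subgroup.mem_subgroupOf]
    apply habs
    rw [Subgroup.orderOf_coe]
    exact hx
  intro g hg
  have := hle (Subgroup.mem_top (⟨g, hg⟩ : ↥(P : Subgroup G)))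
  rw [Subgroup.mem_subgroupOf] at this
  exact this

end Cfsg.Agent.S3912P
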