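import Mathlib
import Cfsg.Agent.Helper26.S3911Defs
import Cfsg.Agent.Helper20.S3912QCCore
import Cfsg.Agent.Helper21.S3912QF1

/-! s3912pieces QC (helper20): `QC_aux_core` + `QF1`. -/

set_option autoImplicit false
set_option linter.unusedVariables false

namespace Cfsg.Agent.S3912P

open Cfsg.Agent.S3911P

/-- QC (M): a normal `2`-subgroup of order `≥ 4` of a B-group with a (non-cyclic) quaternion Sylow
`2`-subgroup `P` contains `P`. -/
theorem QC {G : Type*} [Group G] [Finite G] (hB : BProp G) (P : Sylow 2 G) (m : ℕ) (hm : 2 ≤ m)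
    (e : ↥(P : Subgroup G) ≃* QuaternionGroup m) (N₂ : Subgroup G) [N₂.Normal]
    (hN₂ : IsPGroup 2 ↥N₂) (hcard : 4 ≤ Nat.card ↥N₂) : (P : Subgroup G) ≤ N₂ :=
  QC_aux_core hB P m hm e (QF1 m hm e) N₂ hN₂ hcard

end Cfsg.Agent.S3912P
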