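import Mathlib
import Cfsg.Agent.Helper11.S4409Defs

/-! s4409pieces, row STEP0: if `P = [P,K]` there is no `K`-invariant subgroup of index `2` in `P`. -/

set_option autoImplicit false
set_option linter.unusedVariables false

namespace Cfsg.Agent.S4409P

open Subgroup
open scoped commutatorElement

variable {S : Type*} [Group S] [Finite S]

omit [Finite S] in
/-- relative index two: a product of two elements of `P` lies in `H` iff both or none do. -/
theorem STEP0_aux_mul_mem {P H : Subgroup S} (hidx : H.relIndex P = 2) {a b : S} (ha : a ∈ P) (hb : b ∈ P) :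
    a * b ∈ H ↔ (a ∈ H ↔ b ∈ H) := by
  have h := Subgroup.mul_mem_iff_of_index_two (H := H.subgroupOf P) hidx (a := ⟨a, ha⟩) (b := ⟨b, hb⟩)
  simpa [Subgroup.mem_subgroupOf] using h

/-- STEP0 : if `P = [P,K]` there is no `K`-invariant subgroup of index `2` in `P`. -/
theorem no_inv_index_two (P K : Subgroup S) (hKP : K ≤ normalizer (P : Set S)) (hPK : ⁅P, K⁆ = P)
    (H : Subgroup S) (hHP : H ≤ P) (hKH : K ≤ normalizer (H : Set S)) (hidx : H.relIndex P = 2) : False := by
  have hle : ⁅P, K⁆ ≤ H := by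
    rw [Subgroup.commutator_le]
    intro x hx k hk
    have hkP := hKP hk
    have hkH := hKH hk
    rw [Subgroup.mem_normalizer_iff] at hkP hkH
    have hx' : k * x⁻¹ * k⁻¹ ∈ P := (hkP x⁻¹).mp (P.inv_mem hx)
    have e : ⁅x, k⁆ = x * (k * x⁻¹ * k⁻¹) := by
      rw [commutatorElement_def]; group
    rw [e, STEP0_aux_mul_mem hidx hx hx']
    rw [← hkH x⁻¹, inv_mem_iff]
  rw [hPK] at hle
  have h1 : H.relIndex P = 1 := Subgroup.relIndex_eq_one.mpr hle
  omega

end Cfsg.Agent.S4409P
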