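import Mathlib
import Cfsg.Prelude.Def_Characters
import Cfsg.Agent.Helper8.D1Base

/-!
# S4705, piece BLK: shared definition

`mult H ψ χ = ⟨χ|_H, ψ⟩` (so that `Dnum H μ θ χ = mult H (μ θ) χ - mult H θ χ` by definition).
-/

set_option autoImplicit false

namespace Cfsg.Agent.S4705P

open Cfsg

/-- `⟨χ|_H, ψ⟩` for a subgroup `H` of a finite group -/
noncomputable def mult {G : Type*} [Group G] [Finite G] (H : Subgroup G) (ψ : H → ℂ) (χ : G → ℂ) : ℂ :=
  haveI := Fintype.ofFinite H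
  classInner (fun c : H => χ c) ψ

theorem Dnum_eq_mult {G : Type*} [Group G] [Finite G] (H : Subgroup G) (μ θ : H → ℂ) (χ : G → ℂ) :
    Cfsg.Agent.Helper8.D1.Dnum H μ θ χ = mult H (fun c => μ c * θ c) χ - mult H θ χ := rfl

theorem mult_eq {G : Type*} [Group G] [Finite G] (H : Subgroup G) [inst : Fintype H] (ψ : H → ℂ)
    (χ : G → ℂ) : mult H ψ χ = classInner (fun c : H => χ c) ψ := by
  unfold mult
  congr!

end Cfsg.Agent.S4705P
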