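import Mathlib

/-!
# Piece CNT of the defect-one cluster: counting through a block-wise bijection of two partitions
-/

namespace Cfsg.Agent.Helper20.D1CNT

open Classical in
/-- the cardinality of a set partitioned by a family of sets -/
theorem card_eq_sum_of_partition {γ : Type*} [Fintype γ] (P : Finset (Set γ)) (T : Set γ)
    (hsub : ∀ a ∈ P, a ⊆ T) (hcov : ∀ x ∈ T, ∃ a ∈ P, x ∈ a)
    (hdisj : ∀ a ∈ P, ∀ a' ∈ P, ∀ x, x ∈ a → x ∈ a' → a = a') :
    Nat.card T = ∑ a ∈ P, Nat.card a := by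
  have h1 : T.toFinset = P.biUnion (fun a => a.toFinset) := by
    ext x
    simp only [Set.mem_toFinset, Finset.mem_biUnion]
    constructor
    · intro hx
      exact hcov x hx
    · rintro ⟨a, ha, hxa⟩
      exact hsub a ha hxa
  have h2 : ∀ a ∈ P, ∀ a' ∈ P, a ≠ a' →
      Disjoint ((fun a : Set γ => a.toFinset) a) ((fun a : Set γ => a.toFinset) a') := by
    intro a ha a' ha' hne
    rw [Finset.disjoint_left]
    intro x hx hx'
    rw [Set.mem_toFinset] at hx hx'
    exact hne (hdisj a ha a' ha' x hx hx')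
  rw [Nat.card_eq_card_toFinset, h1, Finset.card_biUnion h2]
  apply Finset.sum_congr rfl
  intro a _
  rw [Nat.card_eq_card_toFinset]

/-- (CNT) -/
theorem card_eq_of_partition {α β : Type*} [Finite α] [Finite β] (A : Set (Set α))
    (𝔅 : Set (Set β)) (S : Set α) (hA : ∀ a ∈ A, a ⊆ S) (hAcov : ∀ x ∈ S, ∃ a ∈ A, x ∈ a)
    (hAdisj : ∀ a ∈ A, ∀ a' ∈ A, ∀ x, x ∈ a → x ∈ a' → a = a')
    (hBcov : ∀ y : β, ∃ b ∈ 𝔅, y ∈ b)
    (hBdisj : ∀ b ∈ 𝔅, ∀ b' ∈ 𝔅, ∀ y, y ∈ b → y ∈ b' → b = b')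
    (R : Set β → Set α → Prop) (hR1 : ∀ b ∈ 𝔅, ∃ a ∈ A, R b a) (hR2 : ∀ a ∈ A, ∃ b ∈ 𝔅, R b a)
    (hRfun : ∀ b a a', R b a → R b a' → a = a') (hRinj : ∀ b b' a, R b a → R b' a → b = b')
    (hcard : ∀ b ∈ 𝔅, ∀ a ∈ A, R b a → Nat.card b = Nat.card a) :
    Nat.card S = Nat.card β := by
  classical
  have := Fintype.ofFinite α
  have := Fintype.ofFinite β
  have hSsum : Nat.card S = ∑ a ∈ A.toFinset, Nat.card a := by
    apply card_eq_sum_of_partition
    · intro a ha; exact hA a (Set.mem_toFinset.mp ha)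
    · intro x hx
      obtain ⟨a, ha, hxa⟩ := hAcov x hx
      exact ⟨a, Set.mem_toFinset.mpr ha, hxa⟩
    · intro a ha a' ha' x hx hx'
      exact hAdisj a (Set.mem_toFinset.mp ha) a' (Set.mem_toFinset.mp ha') x hx hx'
  have hBsum : Nat.card (Set.univ : Set β) = ∑ b ∈ 𝔅.toFinset, Nat.card b := by
    apply card_eq_sum_of_partition
    · intro b _; exact Set.subset_univ b
    · intro y _
      obtain ⟨b, hb, hyb⟩ := hBcov y
      exact ⟨b, Set.mem_toFinset.mpr hb, hyb⟩
    · intro b hb b' hb' y hy hy'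
      exact hBdisj b (Set.mem_toFinset.mp hb) b' (Set.mem_toFinset.mp hb') y hy hy'
  have huniv : Nat.card (Set.univ : Set β) = Nat.card β :=
    Nat.card_congr (Equiv.Set.univ β)
  rw [hSsum, ← huniv, hBsum]
  -- the bijection between the blocks
  let f : Set β → Set α := fun b => if h : b ∈ 𝔅 then Classical.choose (hR1 b h) else ∅
  let g : Set α → Set β := fun a => if h : a ∈ A then Classical.choose (hR2 a h) else ∅
  have hf : ∀ b (h : b ∈ 𝔅), f b ∈ A ∧ R b (f b) := by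
    intro b h
    simp only [f, dif_pos h]
    exact Classical.choose_spec (hR1 b h)
  have hg : ∀ a (h : a ∈ A), g a ∈ 𝔅 ∧ R (g a) a := by
    intro a h
    simp only [g, dif_pos h]
    exact Classical.choose_spec (hR2 a h)
  symm
  refine Finset.sum_nbij' f g ?_ ?_ ?_ ?_ ?_
  · intro b hb
    exact Set.mem_toFinset.mpr (hf b (Set.mem_toFinset.mp hb)).1
  · intro a ha
    exact Set.mem_toFinset.mpr (hg a (Set.mem_toFinset.mp ha)).1
  · intro b hb
    have hb' := (Set.mem_toFinset (s := 𝔅)).mp hb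
    have h1 := hf b hb'
    have h2 := hg (f b) h1.1
    exact hRinj _ _ _ h2.2 h1.2
  · intro a ha
    have ha' := (Set.mem_toFinset (s := A)).mp ha
    have h1 := hg a ha'
    have h2 := hf (g a) h1.1
    exact hRfun _ _ _ h2.2 h1.2
  · intro b hb
    have hb' := (Set.mem_toFinset (s := 𝔅)).mp hb
    have h1 := hf b hb'
    exact hcard b hb' (f b) h1.1 h1.2

end Cfsg.Agent.Helper20.D1CNT
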