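import Mathlib
import Cfsg.Agent.Helper24.Clifford
import Cfsg.Agent.Helper5.CentralChar

/-!
# Defect-one cluster, piece (PY): central characters of characters lying over `ϑ`
-/

set_option autoImplicit false

namespace Cfsg.Agent.Helper20.D1PY

open Cfsg Cfsg.Agent.Helper24 Cfsg.Agent.Helper5.CC

/-- (PY) -/
theorem act_of_over {Γ : Type*} [Group Γ] [Fintype Γ] (A : Subgroup Γ)
    [hA : A.Normal] [Fintype A] (ϑ : IrrCharacter A) (ξ : IrrCharacter Γ)
    (hover : classInner (fun a : A => (ξ : Γ → ℂ) a) (ϑ : A → ℂ) ≠ 0) :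
    (∀ z : Γ → ℂ, IsClassFunction Γ z → (∀ g, g ∉ A → z g = 0) →
      act z ξ = act (fun a : A => z a) ϑ) ∧
    (∀ u : A, (∀ g : Γ, (ϑ : A → ℂ) ⟨g * u * g⁻¹, hA.conj_mem (u : Γ) u.2 g⟩ = (ϑ : A → ℂ) 1) →
      (ξ : Γ → ℂ) u = (ξ : Γ → ℂ) 1) := by
  classical
  have hcl := clifford_finset A ξ.2 ϑ.2 hover
  generalize hm : classInner (fun a : A => (ξ : Γ → ℂ) a) (ϑ : A → ℂ) = m at hcl hover
  generalize hT : Finset.univ.image (conjFun A (ϑ : A → ℂ)) = T at hcl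
  have hval : ∀ a : A, (ξ : Γ → ℂ) a = m * ∑ ψ ∈ T, ψ a := by
    intro a
    have := congrFun hcl a
    simpa [Finset.sum_apply, Pi.smul_apply] using this
  have hmemT : ∀ ψ ∈ T, ∃ g : Γ, ψ = conjFun A (ϑ : A → ℂ) g := by
    intro ψ hψ
    rw [← hT] at hψ
    obtain ⟨g, _, rfl⟩ := Finset.mem_image.mp hψ
    exact ⟨g, rfl⟩
  have hTne : (T.card : ℂ) ≠ 0 := by
    have : T.Nonempty := by
      rw [← hT]
      exact ⟨_, Finset.mem_image_of_mem _ (Finset.mem_univ (1 : Γ))⟩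
    exact_mod_cast this.card_pos.ne'
  have h1 : ∀ ψ ∈ T, ψ 1 = (ϑ : A → ℂ) 1 := by
    intro ψ hψ
    obtain ⟨g, rfl⟩ := hmemT ψ hψ
    rw [conjFun_apply]
    have e0 : (⟨g * ((1 : A) : Γ) * g⁻¹, hA.conj_mem ((1 : A) : Γ) (1 : A).2 g⟩ : A) = 1 := by
      apply Subtype.ext
      simp
    rw [e0]
  have hone : (ξ : Γ → ℂ) 1 = m * (T.card * (ϑ : A → ℂ) 1) := by
    have h2 : (ξ : Γ → ℂ) 1 = (ξ : Γ → ℂ) ((1 : A) : Γ) := by rw [Subgroup.coe_one]
    rw [h2, hval 1, Finset.sum_congr rfl h1, Finset.sum_const, nsmul_eq_mul]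
  refine ⟨?_, ?_⟩
  · intro z hz hzA
    unfold act
    have hsum : ∑ t : Γ, z t * (ξ : Γ → ℂ) t = ∑ a : A, z a * (ξ : Γ → ℂ) a := by
      rw [← Finset.sum_subtype (Finset.univ.filter (fun t : Γ => t ∈ A)) (by simp)
        (fun t => z t * (ξ : Γ → ℂ) t)]
      symm
      apply Finset.sum_subset (Finset.filter_subset _ _)
      intro t _ ht
      have : t ∉ A := fun h => ht (Finset.mem_filter.mpr ⟨Finset.mem_univ _, h⟩)
      rw [hzA t this, zero_mul]
    have hψsum : ∀ ψ ∈ T, ∑ a : A, z a * ψ a = ∑ a : A, z a * (ϑ : A → ℂ) a := by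
      intro ψ hψ
      obtain ⟨g, rfl⟩ := hmemT ψ hψ
      refine Fintype.sum_equiv (MulAut.conjNormal g : A ≃* A).toEquiv _ _ ?_
      intro a
      simp only [MulEquiv.toEquiv_eq_coe, EquivLike.coe_coe]
      have e1 : ((MulAut.conjNormal g : A ≃* A) a : Γ) = g * a * g⁻¹ :=
        MulAut.conjNormal_apply g a
      have e2 : (MulAut.conjNormal g : A ≃* A) a = ⟨g * a * g⁻¹, hA.conj_mem a a.2 g⟩ :=
        Subtype.ext e1
      rw [conjFun_apply, e1, hz a g, e2]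
    have htot : ∑ a : A, z a * (ξ : Γ → ℂ) a
        = m * (T.card * ∑ a : A, z a * (ϑ : A → ℂ) a) := by
      simp only [hval, Finset.mul_sum]
      rw [Finset.sum_comm]
      have : ∀ ψ ∈ T, ∑ a : A, z a * (m * ψ a) = m * ∑ a : A, z a * (ϑ : A → ℂ) a := by
        intro ψ hψ
        rw [← hψsum ψ hψ, Finset.mul_sum]
        refine Finset.sum_congr rfl fun a _ => ?_
        ring
      rw [Finset.sum_congr rfl this, Finset.sum_const, nsmul_eq_mul]
      simp only [Finset.mul_sum]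
      refine Finset.sum_congr rfl fun a _ => ?_
      ring
    rw [hsum, htot, hone]
    have h3 : (ϑ : A → ℂ) 1 ≠ 0 := irr_one_ne_zero ϑ
    field_simp
  · intro u hu
    rw [hval u, hone]
    have h2 : ∀ ψ ∈ T, ψ u = (ϑ : A → ℂ) 1 := by
      intro ψ hψ
      obtain ⟨g, rfl⟩ := hmemT ψ hψ
      rw [conjFun_apply]
      exact hu g
    rw [Finset.sum_congr rfl h2, Finset.sum_const, nsmul_eq_mul]

end Cfsg.Agent.Helper20.D1PY
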