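import Mathlib

/-!
# Piece (PE) of the defect-one cluster: the lattice lemma for exceptional characters
-/

set_option autoImplicit false
set_option linter.unusedSectionVars false

namespace Cfsg.Agent.Helper20.D1Lattice

open Finset

section
variable {ι β : Type*} [Fintype ι] [Fintype β] [DecidableEq ι] [DecidableEq β]

lemma sum_ite_sub_mul (p q : β) (f : β → ℤ) :
    ∑ x, ((if x = p then (1 : ℤ) else 0) - (if x = q then 1 else 0)) * f x = f p - f q := by
  simp [sub_mul, Finset.sum_sub_distrib]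

/-- integer vectors of norm 2 orthogonal to a positive vector are of the form `e_a - e_b`. -/
lemma norm_two (d deg : β → ℤ) (hdeg : ∀ b, 0 < deg b)
    (h2 : ∑ b, d b * d b = 2) (h0 : ∑ b, d b * deg b = 0) :
    ∃ a b : β, a ≠ b ∧ ∀ x, d x = (if x = a then 1 else 0) - (if x = b then 1 else 0) := by
  have hle : ∀ x, d x * d x ≤ 2 := by
    intro x
    rw [← h2]
    exact Finset.single_le_sum (f := fun b => d b * d b) (fun b _ => mul_self_nonneg (d b))
      (Finset.mem_univ x)
  have hval : ∀ x, d x = -1 ∨ d x = 0 ∨ d x = 1 := by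
    intro x
    have h := hle x
    have h1 : -1 ≤ d x := by nlinarith
    have h2 : d x ≤ 1 := by nlinarith
    omega
  have hsq : ∀ x, d x * d x = if d x ≠ 0 then 1 else 0 := by
    intro x; rcases hval x with h | h | h <;> simp [h]
  have hcard : (Finset.univ.filter (fun x => d x ≠ 0)).card = 2 := by
    have h3 : (∑ b, d b * d b) = ((Finset.univ.filter (fun x => d x ≠ 0)).card : ℤ) := by
      simp only [hsq]
      rw [Finset.sum_boole]
    rw [h2] at h3; exact_mod_cast h3.symm
  obtain ⟨a, b, hab, hSab⟩ := Finset.card_eq_two.mp hcard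
  have hmem : ∀ x, d x ≠ 0 ↔ x = a ∨ x = b := by
    intro x
    have h3 : x ∈ Finset.univ.filter (fun x => d x ≠ 0) ↔ x = a ∨ x = b := by
      rw [hSab]; simp
    rw [← h3]; simp
  have hda : d a ≠ 0 := (hmem a).mpr (Or.inl rfl)
  have hdb : d b ≠ 0 := (hmem b).mpr (Or.inr rfl)
  have hzero : ∀ x, x ≠ a → x ≠ b → d x = 0 := by
    intro x hxa hxb
    by_contra h
    rcases (hmem x).mp h with h | h
    · exact hxa h
    · exact hxb h
  have hsum : ∑ x, d x * deg x = d a * deg a + d b * deg b := by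
    rw [← Finset.sum_subset (Finset.subset_univ {a, b})]
    · rw [Finset.sum_pair hab]
    · intro x _ hx
      have hxa : x ≠ a := fun h => hx (by rw [h]; simp)
      have hxb : x ≠ b := fun h => hx (by rw [h]; simp)
      rw [hzero x hxa hxb, zero_mul]
  rw [hsum] at h0
  have hpa := hdeg a
  have hpb := hdeg b
  rcases hval a with ha | ha | ha
  · rcases hval b with hb | hb | hb
    · exfalso; rw [ha, hb] at h0; linarith
    · exact absurd hb hdb
    · refine ⟨b, a, hab.symm, fun x => ?_⟩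
      by_cases hxa : x = a
      · rw [hxa, ha, if_neg hab, if_pos rfl]; norm_num
      · by_cases hxb : x = b
        · rw [hxb, hb, if_pos rfl, if_neg hab.symm]; norm_num
        · rw [hzero x hxa hxb, if_neg hxb, if_neg hxa]; norm_num
  · exact absurd ha hda
  · rcases hval b with hb | hb | hb
    · refine ⟨a, b, hab, fun x => ?_⟩
      by_cases hxa : x = a
      · rw [hxa, ha, if_pos rfl, if_neg hab]; norm_num
      · by_cases hxb : x = b
        · rw [hxb, hb, if_neg hab.symm, if_pos rfl]; norm_num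
        · rw [hzero x hxa hxb, if_neg hxa, if_neg hxb]; norm_num
    · exact absurd hb hdb
    · exfalso; rw [ha, hb] at h0; linarith

end

section
variable {ι β : Type*} [Fintype ι] [Fintype β] [DecidableEq ι] [DecidableEq β]

/-- a decomposition `D j = w0 + ε e_{ψ j}`. -/
structure Dec (D : ι → β → ℤ) (ψ : ι → β) (ε : ℤ) (w0 : β → ℤ) : Prop where
  inj : Function.Injective ψ
  eps : ε = 1 ∨ ε = -1
  dec : ∀ j x, D j x = w0 x + if x = ψ j then ε else 0

variable (e : ℕ) (D : ι → β → ℤ) (deg : β → ℤ)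

lemma exists_dec (hdeg : ∀ b, 0 < deg b)
    (hgram : ∀ i j, ∑ b, D i b * D j b = (e : ℤ) + if i = j then 1 else 0)
    (horth : ∀ i, ∑ b, D i b * deg b = 0) (i0 : ι) (b0 : β) :
    ∃ ψ ε w0, Dec D ψ ε w0 := by
  classical
  have : Inhabited β := ⟨b0⟩
  have key : ∀ j, j ≠ i0 → ∃ a b : β, a ≠ b ∧
      ∀ x, D i0 x - D j x = (if x = a then 1 else 0) - (if x = b then 1 else 0) := by
    intro j hj
    apply norm_two (fun x => D i0 x - D j x) deg hdeg
    · have h1 := hgram i0 i0
      have h2 := hgram i0 j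
      have h3 := hgram j i0
      have h4 := hgram j j
      rw [if_pos rfl] at h1 h4
      rw [if_neg (Ne.symm hj)] at h2
      rw [if_neg hj] at h3
      simp only [sub_mul, mul_sub, Finset.sum_sub_distrib, h1, h2, h3, h4]
      ring
    · simp only [sub_mul, Finset.sum_sub_distrib, horth]
      ring
  choose! a b hab using key
  -- pairwise dichotomy
  have hdich : ∀ j k, j ≠ i0 → k ≠ i0 → j ≠ k →
      (a j = a k ∧ b j ≠ b k) ∨ (b j = b k ∧ a j ≠ a k) := by
    intro j k hj hk hjk
    have h1 : ∑ x, (D i0 x - D j x) * (D i0 x - D k x) = 1 := by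
      have g1 := hgram i0 i0
      have g2 := hgram i0 k
      have g3 := hgram j i0
      have g4 := hgram j k
      rw [if_pos rfl] at g1
      rw [if_neg (Ne.symm hk)] at g2
      rw [if_neg hj] at g3
      rw [if_neg hjk] at g4
      simp only [sub_mul, mul_sub, Finset.sum_sub_distrib, g1, g2, g3, g4]
      ring
    obtain ⟨hj1, hj2⟩ := hab j hj
    obtain ⟨hk1, hk2⟩ := hab k hk
    simp only [hj2] at h1
    rw [sum_ite_sub_mul] at h1
    rw [hk2, hk2] at h1
    have ind : ∀ u v : β, ((if u = v then (1 : ℤ) else 0) = 1 ∧ u = v) ∨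
        ((if u = v then (1 : ℤ) else 0) = 0 ∧ u ≠ v) := by
      intro u v
      by_cases h : u = v
      · exact Or.inl ⟨if_pos h, h⟩
      · exact Or.inr ⟨if_neg h, h⟩
    rcases ind (a j) (a k) with ⟨v1, c1⟩ | ⟨v1, c1⟩ <;>
    rcases ind (a j) (b k) with ⟨v2, c2⟩ | ⟨v2, c2⟩ <;>
    rcases ind (b j) (a k) with ⟨v3, c3⟩ | ⟨v3, c3⟩ <;>
    rcases ind (b j) (b k) with ⟨v4, c4⟩ | ⟨v4, c4⟩ <;>
    rw [v1, v2, v3, v4] at h1 <;>
      first
        | (exfalso; omega)
        | (exfalso; exact hj1 (c1.trans c3.symm))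
        | (exfalso; exact hj1 (c2.trans c4.symm))
        | exact Or.inl ⟨c1, c4⟩
        | exact Or.inr ⟨c4, c1⟩
  -- sunflower
  have hsun : (∀ j k, j ≠ i0 → k ≠ i0 → a j = a k) ∨ (∀ j k, j ≠ i0 → k ≠ i0 → b j = b k) := by
    by_cases hA : ∀ j k, j ≠ i0 → k ≠ i0 → a j = a k
    · exact Or.inl hA
    · right
      push Not at hA
      obtain ⟨j, k, hj, hk, hjk⟩ := hA
      have hne : j ≠ k := fun h => hjk (by rw [h])
      have hbjk : b j = b k := by
        rcases hdich j k hj hk hne with h | h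
        · exact absurd h.1 hjk
        · exact h.1
      have hall : ∀ l, l ≠ i0 → b l = b j := by
        intro l hl
        by_cases hlj : l = j
        · rw [hlj]
        by_cases hlk : l = k
        · rw [hlk, hbjk]
        rcases hdich l j hl hj hlj with h1 | h1
        · rcases hdich l k hl hk hlk with h2 | h2
          · exact absurd (h1.1.symm.trans h2.1) hjk
          · rw [h2.1, hbjk]
        · exact h1.1
      intro l m hl hm
      rw [hall l hl, hall m hm]
  rcases hsun with hA | hB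
  · -- common `a`
    by_cases hex : ∃ j0, j0 ≠ i0
    · obtain ⟨j0, hj0⟩ := hex
      refine ⟨fun j => if j = i0 then a j0 else b j, 1,
        fun x => D i0 x - if x = a j0 then 1 else 0, ?_, Or.inl rfl, ?_⟩
      · intro j k hjk
        simp only at hjk
        by_cases hj : j = i0
        · by_cases hk : k = i0
          · rw [hj, hk]
          · rw [if_pos hj, if_neg hk] at hjk
            exact absurd ((hA k j0 hk hj0).trans hjk) (hab k hk).1
        · by_cases hk : k = i0
          · rw [if_neg hj, if_pos hk] at hjk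
            exact absurd ((hA j j0 hj hj0).trans hjk.symm) (hab j hj).1
          · rw [if_neg hj, if_neg hk] at hjk
            by_contra hne
            rcases hdich j k hj hk hne with h | h
            · exact h.2 hjk
            · exact h.2 (hA j k hj hk)
      · intro j x
        by_cases hj : j = i0
        · simp only [if_pos hj]
          rw [hj]; ring
        · simp only [if_neg hj]
          have h1 := (hab j hj).2 x
          rw [hA j j0 hj hj0] at h1
          linarith
    · push Not at hex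
      refine ⟨fun _ => b0, 1, fun x => D i0 x - if x = b0 then 1 else 0, ?_, Or.inl rfl, ?_⟩
      · intro j k _
        rw [hex j, hex k]
      · intro j x
        rw [hex j]; ring
  · -- common `b`
    by_cases hex : ∃ j0, j0 ≠ i0
    · obtain ⟨j0, hj0⟩ := hex
      refine ⟨fun j => if j = i0 then b j0 else a j, -1,
        fun x => D i0 x + if x = b j0 then 1 else 0, ?_, Or.inr rfl, ?_⟩
      · intro j k hjk
        simp only at hjk
        by_cases hj : j = i0
        · by_cases hk : k = i0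
          · rw [hj, hk]
          · rw [if_pos hj, if_neg hk] at hjk
            exact absurd (hjk.symm.trans (hB j0 k hj0 hk)) (hab k hk).1
        · by_cases hk : k = i0
          · rw [if_neg hj, if_pos hk] at hjk
            exact absurd (hjk.trans (hB j0 j hj0 hj)) (hab j hj).1
          · rw [if_neg hj, if_neg hk] at hjk
            by_contra hne
            rcases hdich j k hj hk hne with h | h
            · exact h.2 (hB j k hj hk)
            · exact h.2 hjk
      · intro j x
        by_cases hj : j = i0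
        · simp only [if_pos hj]
          rw [hj]
          split_ifs <;> ring
        · simp only [if_neg hj]
          have h1 := (hab j hj).2 x
          rw [hB j j0 hj hj0] at h1
          split_ifs at h1 ⊢ <;> linarith
    · push Not at hex
      refine ⟨fun _ => b0, 1, fun x => D i0 x - if x = b0 then 1 else 0, ?_, Or.inl rfl, ?_⟩
      · intro j k _
        rw [hex j, hex k]
      · intro j x
        rw [hex j]; ring

end

section
variable {ι β : Type*} [Fintype ι] [Fintype β] [DecidableEq ι] [DecidableEq β]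
variable {e : ℕ} {D : ι → β → ℤ}

lemma w0_const (hgram : ∀ i j, ∑ b, D i b * D j b = (e : ℤ) + if i = j then 1 else 0)
    {ψ : ι → β} {ε : ℤ} {w0 : β → ℤ} (hd : Dec D ψ ε w0) (i j : ι) : w0 (ψ i) = w0 (ψ j) := by
  by_cases hij : i = j
  · rw [hij]
  have g1 := hgram i i
  have g2 := hgram i j
  rw [if_pos rfl] at g1
  rw [if_neg hij] at g2
  have h1 : ∑ x, D i x * (D i x - D j x) = 1 := by
    simp only [mul_sub, Finset.sum_sub_distrib, g1, g2]; ring
  have h2 : ∀ x, D i x * (D i x - D j x)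
      = ε * (((if x = ψ i then (1 : ℤ) else 0) - (if x = ψ j then 1 else 0)) * D i x) := by
    intro x
    rw [hd.dec i x, hd.dec j x]
    split_ifs <;> ring
  simp only [h2, ← Finset.mul_sum, sum_ite_sub_mul] at h1
  rw [hd.dec i (ψ i), hd.dec i (ψ j), if_pos rfl, if_neg (fun h => hij (hd.inj h).symm)] at h1
  rcases hd.eps with h | h <;> rw [h] at h1 <;> linarith

lemma sum_w0_sq (hgram : ∀ i j, ∑ b, D i b * D j b = (e : ℤ) + if i = j then 1 else 0)
    {ψ : ι → β} {ε : ℤ} {w0 : β → ℤ} (hd : Dec D ψ ε w0) (i : ι) :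
    ∑ x, w0 x * w0 x = (e : ℤ) - 2 * ε * w0 (ψ i) := by
  have g1 := hgram i i
  rw [if_pos rfl] at g1
  have h2 : ∀ x, D i x * D i x
      = w0 x * w0 x + (if x = ψ i then 2 * ε * w0 x + ε * ε else 0) := by
    intro x; rw [hd.dec i x]; split_ifs <;> ring
  simp only [h2, Finset.sum_add_distrib, Finset.sum_ite_eq', Finset.mem_univ, if_true] at g1
  have hee : ε * ε = 1 := by rcases hd.eps with h | h <;> rw [h] <;> norm_num
  linarith

lemma w0_ne_zero (hsupp : ∀ b, ∑ i, D i b ≠ 0)
    {ψ : ι → β} {ε : ℤ} {w0 : β → ℤ} (hd : Dec D ψ ε w0) (x : β)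
    (hx : ∀ i, x ≠ ψ i) : w0 x ≠ 0 := by
  intro h
  apply hsupp x
  apply Finset.sum_eq_zero
  intro i _
  rw [hd.dec i x, if_neg (hx i), h, add_zero]

lemma g_facts (hsupp : ∀ b, ∑ i, D i b ≠ 0)
    {ψ : ι → β} {ε : ℤ} {w0 : β → ℤ} (hd : Dec D ψ ε w0) (c : ℤ) (hc : ∀ i, w0 (ψ i) = c) :
    (∀ x, (if x ∈ Finset.univ.image ψ then c * c else 1) ≤ w0 x * w0 x) ∧
    ∑ x, (if x ∈ Finset.univ.image ψ then c * c else (1 : ℤ))
      = (Fintype.card β : ℤ) + (Fintype.card ι : ℤ) * (c * c - 1) := by
  constructor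
  · intro x
    by_cases hx : x ∈ Finset.univ.image ψ
    · rw [if_pos hx]
      obtain ⟨i, _, rfl⟩ := Finset.mem_image.mp hx
      rw [hc i]
    · rw [if_neg hx]
      have h1 : w0 x ≠ 0 := w0_ne_zero hsupp hd x (fun i h => hx (Finset.mem_image.mpr
        ⟨i, Finset.mem_univ _, h.symm⟩))
      have := mul_self_pos.mpr h1
      omega
  · have h1 : ∀ x : β, (if x ∈ Finset.univ.image ψ then c * c else (1 : ℤ))
        = 1 + (if x ∈ Finset.univ.image ψ then (c * c - 1) else 0) := by
      intro x; split_ifs <;> ring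
    simp only [h1, Finset.sum_add_distrib, Finset.sum_ite_mem, Finset.univ_inter,
      Finset.sum_const, Finset.card_univ, Finset.card_image_of_injective _ hd.inj, nsmul_eq_mul,
      mul_one]

lemma main_ineq (hgram : ∀ i j, ∑ b, D i b * D j b = (e : ℤ) + if i = j then 1 else 0)
    (hsupp : ∀ b, ∑ i, D i b ≠ 0) (hcard : e + Fintype.card ι ≤ Fintype.card β)
    {ψ : ι → β} {ε : ℤ} {w0 : β → ℤ} (hd : Dec D ψ ε w0) (c : ℤ) (hc : ∀ i, w0 (ψ i) = c)
    (i0 : ι) : (Fintype.card ι : ℤ) * (c * c) + 2 * ε * c ≤ 0 := by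
  obtain ⟨h1, h2⟩ := g_facts hsupp hd c hc
  have h3 := Finset.sum_le_sum (fun x (_ : x ∈ Finset.univ) => h1 x)
  rw [h2, sum_w0_sq hgram hd i0, hc i0] at h3
  have h4 : ((e : ℤ) + Fintype.card ι) ≤ Fintype.card β := by exact_mod_cast hcard
  linarith

lemma finish (hgram : ∀ i j, ∑ b, D i b * D j b = (e : ℤ) + if i = j then 1 else 0)
    (hsupp : ∀ b, ∑ i, D i b ≠ 0) (hcard : e + Fintype.card ι ≤ Fintype.card β)
    {ψ : ι → β} {ε : ℤ} {w0 : β → ℤ} (hd : Dec D ψ ε w0) (hc : ∀ i, w0 (ψ i) = 0) (i0 : ι) :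
    Fintype.card β = e + Fintype.card ι ∧
    ∃ (ψ : ι → β) (ε : ℤ) (w : β → ℤ), Function.Injective ψ ∧ (ε = 1 ∨ ε = -1) ∧
      (∀ i, w (ψ i) = 0) ∧ (∀ b, b ∉ Set.range ψ → (w b = 1 ∨ w b = -1)) ∧
      ∀ i b, D i b = w b + if b = ψ i then ε else 0 := by
  obtain ⟨h1, h2⟩ := g_facts hsupp hd 0 hc
  have h3 := Finset.sum_le_sum (fun x (_ : x ∈ Finset.univ) => h1 x)
  have hs := sum_w0_sq hgram hd i0
  rw [hc i0] at hs
  have h4 : ((e : ℤ) + Fintype.card ι) ≤ Fintype.card β := by exact_mod_cast hcard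
  have hcardeq : (Fintype.card β : ℤ) = e + Fintype.card ι := by
    rw [h2, hs] at h3
    linarith
  refine ⟨by exact_mod_cast hcardeq, ψ, ε, w0, hd.inj, hd.eps, hc, ?_, hd.dec⟩
  -- termwise equality
  have h5 : ∑ x, (w0 x * w0 x - (if x ∈ Finset.univ.image ψ then (0 : ℤ) * 0 else 1)) = 0 := by
    rw [Finset.sum_sub_distrib, h2, hs, hcardeq]; ring
  have h6 := (Finset.sum_eq_zero_iff_of_nonneg (fun x _ => sub_nonneg.mpr (h1 x))).mp h5
  intro b hb
  have hb' : b ∉ Finset.univ.image ψ := by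
    intro h
    obtain ⟨i, _, hi⟩ := Finset.mem_image.mp h
    exact hb ⟨i, hi⟩
  have h7 := h6 b (Finset.mem_univ b)
  rw [if_neg hb'] at h7
  have h8 : w0 b * w0 b = 1 := by linarith
  exact mul_self_eq_one_iff.mp h8

end

section
variable {ι β : Type*} [Fintype ι] [Fintype β] [DecidableEq ι] [DecidableEq β]
variable {e : ℕ} {D : ι → β → ℤ}

lemma dec_flip_one (ht : Fintype.card ι = 1) {ψ : ι → β} {ε : ℤ} {w0 : β → ℤ}
    (hd : Dec D ψ ε w0) (c : ℤ) (hc : ∀ i, w0 (ψ i) = c) (hcε : c = -2 * ε) :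
    Dec D ψ (-ε) (fun x => if x ∈ Finset.univ.image ψ then 0 else w0 x) := by
  have hsub : ∀ i j : ι, i = j := fun i j => (Fintype.card_le_one_iff.mp ht.le) i j
  refine ⟨hd.inj, ?_, ?_⟩
  · rcases hd.eps with h | h <;> rw [h] <;> simp
  · intro j x
    by_cases hx : x = ψ j
    · rw [if_pos hx, hx, if_pos (Finset.mem_image.mpr ⟨j, Finset.mem_univ _, rfl⟩),
        hd.dec j (ψ j), if_pos rfl, hc j, hcε]
      ring
    · have hx' : x ∉ Finset.univ.image ψ := by
        intro h
        obtain ⟨i, _, hi⟩ := Finset.mem_image.mp h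
        exact hx (by rw [← hi, hsub i j])
      rw [if_neg hx, if_neg hx', hd.dec j x, if_neg hx]

lemma dec_swap_two (ht : Fintype.card ι = 2) {ψ : ι → β} {ε : ℤ} {w0 : β → ℤ}
    (hd : Dec D ψ ε w0) (c : ℤ) (hc : ∀ i, w0 (ψ i) = c) (hcε : c = -ε) :
    ∃ ψ' : ι → β, Dec D ψ' (-ε) (fun x => if x ∈ Finset.univ.image ψ then 0 else w0 x) ∧
      ∀ i, ψ' i ∈ Finset.univ.image ψ := by
  have ht' : Nat.card ι = 2 := by rw [Nat.card_eq_fintype_card]; exact ht
  obtain ⟨i0, j0, hne, huniv⟩ := Nat.card_eq_two_iff.mp ht'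
  have hall : ∀ k, k = i0 ∨ k = j0 := by
    intro k
    have : k ∈ ({i0, j0} : Set ι) := by rw [huniv]; exact Set.mem_univ k
    simpa using this
  have hσ1 : ∀ j, (Equiv.swap i0 j0) j ≠ j := by
    intro j
    rcases hall j with h | h
    · rw [h, Equiv.swap_apply_left]; exact hne.symm
    · rw [h, Equiv.swap_apply_right]; exact hne
  have hσ2 : ∀ j k, k = j ∨ k = (Equiv.swap i0 j0) j := by
    intro j k
    rcases hall j with h | h
    · rw [h, Equiv.swap_apply_left]; exact hall k
    · rw [h, Equiv.swap_apply_right]; exact (hall k).symm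
  refine ⟨ψ ∘ (Equiv.swap i0 j0), ⟨hd.inj.comp (Equiv.swap i0 j0).injective, ?_, ?_⟩, ?_⟩
  · rcases hd.eps with h | h <;> rw [h] <;> simp
  · intro j x
    simp only [Function.comp]
    have hψne : ψ j ≠ ψ ((Equiv.swap i0 j0) j) := fun h => hσ1 j (hd.inj h).symm
    by_cases hx : x = ψ j
    · rw [hx, if_pos (Finset.mem_image.mpr ⟨j, Finset.mem_univ _, rfl⟩), if_neg hψne,
        hd.dec j (ψ j), if_pos rfl, hc j, hcε]
      ring
    · by_cases hx2 : x = ψ ((Equiv.swap i0 j0) j)
      · rw [hx2, if_pos (Finset.mem_image.mpr ⟨_, Finset.mem_univ _, rfl⟩), if_pos rfl,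
          hd.dec j _, if_neg hψne.symm, hc _, hcε]
        ring
      · have hx' : x ∉ Finset.univ.image ψ := by
          intro h
          obtain ⟨i, _, hi⟩ := Finset.mem_image.mp h
          rcases hσ2 j i with h1 | h1
          · exact hx (by rw [← hi, h1])
          · exact hx2 (by rw [← hi, h1])
        rw [if_neg hx', if_neg hx2, hd.dec j x, if_neg hx]
  · intro i
    exact Finset.mem_image.mpr ⟨_, Finset.mem_univ _, rfl⟩

end

/-- **Piece (PE)**: the lattice lemma for exceptional characters. -/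
theorem lattice_structure {ι β : Type*} [Fintype ι] [Fintype β] [DecidableEq ι] [DecidableEq β]
    [Nonempty ι] (e : ℕ) (D : ι → β → ℤ) (deg : β → ℤ) (hdeg : ∀ b, 0 < deg b)
    (hgram : ∀ i j, ∑ b, D i b * D j b = (e : ℤ) + if i = j then 1 else 0)
    (horth : ∀ i, ∑ b, D i b * deg b = 0)
    (hsupp : ∀ b, ∑ i, D i b ≠ 0)
    (hcard : e + Fintype.card ι ≤ Fintype.card β) :
    Fintype.card β = e + Fintype.card ι ∧
    ∃ (ψ : ι → β) (ε : ℤ) (w : β → ℤ), Function.Injective ψ ∧ (ε = 1 ∨ ε = -1) ∧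
      (∀ i, w (ψ i) = 0) ∧ (∀ b, b ∉ Set.range ψ → (w b = 1 ∨ w b = -1)) ∧
      ∀ i b, D i b = w b + if b = ψ i then ε else 0 := by
  obtain ⟨i0⟩ := ‹Nonempty ι›
  have hιpos : 0 < Fintype.card ι := Fintype.card_pos_iff.mpr ⟨i0⟩
  have hβ : 0 < Fintype.card β := by omega
  obtain ⟨b0⟩ := Fintype.card_pos_iff.mp hβ
  obtain ⟨ψ, ε, w0, hd⟩ := exists_dec e D deg hdeg hgram horth i0 b0
  have hc : ∀ i, w0 (ψ i) = w0 (ψ i0) := fun i => w0_const hgram hd i i0
  have hineq := main_ineq hgram hsupp hcard hd (w0 (ψ i0)) hc i0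
  by_cases hc0 : w0 (ψ i0) = 0
  · exact finish hgram hsupp hcard hd (fun i => (hc i).trans hc0) i0
  have ht1 : (1 : ℤ) ≤ Fintype.card ι := by exact_mod_cast hιpos
  generalize hcdef : w0 (ψ i0) = c at hc hineq hc0
  have hcases : (Fintype.card ι = 1 ∧ c = -2 * ε) ∨ (Fintype.card ι = 1 ∧ c = -ε) ∨
      (Fintype.card ι = 2 ∧ c = -ε) := by
    rcases hd.eps with h | h
    · rw [h] at hineq ⊢
      have hcneg : c ≤ -1 := by
        by_contra hh
        push Not at hh
        have : 1 ≤ c := by omega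
        nlinarith
      have hcge : -2 ≤ c := by
        by_contra hh
        push Not at hh
        nlinarith
      have h12 : c = -1 ∨ c = -2 := by omega
      rcases h12 with h1 | h1
      · rw [h1] at hineq ⊢
        have : (Fintype.card ι : ℤ) ≤ 2 := by linarith
        have h2 : Fintype.card ι = 1 ∨ Fintype.card ι = 2 := by omega
        rcases h2 with h2 | h2
        · right; left; exact ⟨h2, by norm_num⟩
        · right; right; exact ⟨h2, by norm_num⟩
      · rw [h1] at hineq ⊢
        have : (Fintype.card ι : ℤ) ≤ 1 := by linarith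
        left; exact ⟨by omega, by norm_num⟩
    · rw [h] at hineq ⊢
      have hcpos : 1 ≤ c := by
        by_contra hh
        push Not at hh
        have : c ≤ -1 := by omega
        nlinarith
      have hcle : c ≤ 2 := by
        by_contra hh
        push Not at hh
        nlinarith
      have h12 : c = 1 ∨ c = 2 := by omega
      rcases h12 with h1 | h1
      · rw [h1] at hineq ⊢
        have : (Fintype.card ι : ℤ) ≤ 2 := by linarith
        have h2 : Fintype.card ι = 1 ∨ Fintype.card ι = 2 := by omega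
        rcases h2 with h2 | h2
        · right; left; exact ⟨h2, by norm_num⟩
        · right; right; exact ⟨h2, by norm_num⟩
      · rw [h1] at hineq ⊢
        have : (Fintype.card ι : ℤ) ≤ 1 := by linarith
        left; exact ⟨by omega, by norm_num⟩
  rcases hcases with ⟨ht, hcε⟩ | ⟨ht, hcε⟩ | ⟨ht, hcε⟩
  · have hd' := dec_flip_one ht hd c hc hcε
    exact finish hgram hsupp hcard hd'
      (fun i => if_pos (Finset.mem_image.mpr ⟨i, Finset.mem_univ _, rfl⟩)) i0
  · exfalso
    apply hsupp (ψ i0)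
    have hsub : ∀ i : ι, i = i0 := fun i => (Fintype.card_le_one_iff.mp ht.le) i i0
    rw [Finset.sum_eq_single i0 (fun i _ hi => absurd (hsub i) hi)
      (fun h => absurd (Finset.mem_univ _) h), hd.dec, if_pos rfl, hc i0, hcε]
    ring
  · obtain ⟨ψ', hd', hmem⟩ := dec_swap_two ht hd c hc hcε
    exact finish hgram hsupp hcard hd' (fun i => if_pos (hmem i)) i0

end Cfsg.Agent.Helper20.D1Lattice
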