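import Mathlib
import Cfsg.Agent.Helper8.D1Main
import Cfsg.Agent.Helper5.PDD1APP
import Cfsg.Agent.Helper5.D1QB
import Cfsg.Agent.Helper5.D1Count
import Cfsg.Agent.Helper18.D1QOFinal
import Cfsg.Agent.Helper18.D1QT0
import Cfsg.Agent.Helper24.Codegree
import Cfsg.Agent.Helper24.DefectZero

/-!
# S4705, piece BLK, part a: Brauer's defect-one theorem for the block of an irreducible character of
degree prime to `p` (extraction from `Helper8.D1.core`)
-/

set_option autoImplicit false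
set_option maxHeartbeats 800000

namespace Cfsg.Agent.Helper20.S4705BLK

open Cfsg Cfsg.Agent.Helper24 Cfsg.Agent.Helper5 Cfsg.Agent.Helper5.Loc Cfsg.Agent.Helper5.CC
  Cfsg.Agent.Helper5.D1Q Cfsg.Agent.Helper8.D1

universe u

theorem core_of_irr {G : Type u} [Group G] [Finite G] (p : ℕ) [hr : Fact p.Prime]
    (P : Sylow p G) (hP : Nat.card P = p) (ζ : IrrCharacter G) (hζ : ¬ p ∣ irrDeg ζ) :
    ∃ (θ : IrrCharacter (Subgroup.centralizer ((P : Subgroup G) : Set G))) (T : Subgroup G)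
      (B : Set (IrrCharacter G))
      (Ψ : (Subgroup.centralizer ((P : Subgroup G) : Set G) → ℂ) → IrrCharacter G) (ε : ℤ)
      (w : IrrCharacter G → ℤ) (e f : ℕ),
      ζ ∈ B ∧
      (∀ x : Subgroup.centralizer ((P : Subgroup G) : Set G), (x : G) ∈ (P : Subgroup G) →
        (θ : Subgroup.centralizer ((P : Subgroup G) : Set G) → ℂ) x =
          (θ : Subgroup.centralizer ((P : Subgroup G) : Set G) → ℂ) 1) ∧
      (∀ g : G, g ∈ T ↔ (g ∈ Subgroup.normalizer ((P : Subgroup G) : Set G) ∧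
        ∀ c c' : Subgroup.centralizer ((P : Subgroup G) : Set G), (c' : G) = g * c * g⁻¹ →
          (θ : Subgroup.centralizer ((P : Subgroup G) : Set G) → ℂ) c' =
            (θ : Subgroup.centralizer ((P : Subgroup G) : Set G) → ℂ) c)) ∧
      (Subgroup.centralizer ((P : Subgroup G) : Set G)).relIndex T = e ∧
      (Subgroup.centralizer ((P : Subgroup G) : Set G)).relIndex
        (Subgroup.normalizer ((P : Subgroup G) : Set G)) = f ∧
      e ∣ p - 1 ∧ e ∣ f ∧ f ∣ p - 1 ∧ Nat.card B = e + (p - 1) / e ∧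
      (ε = 1 ∨ ε = -1) ∧
      (∀ μ, NT p μ → Ψ μ ∈ B) ∧
      (∀ μ ν, NT p μ → NT p ν → (Ψ μ = Ψ ν ↔ TConj (P : Subgroup G) T μ ν)) ∧
      (∀ μ, NT p μ → w (Ψ μ) = 0) ∧
      (∀ χ ∈ B, (∀ μ, NT p μ → χ ≠ Ψ μ) → (w χ = 1 ∨ w χ = -1)) ∧
      (∀ χ, χ ∉ B → w χ = 0) ∧
      (∀ μ, NT p μ → Dnum (Subgroup.centralizer ((P : Subgroup G) : Set G)) μ
        (θ : Subgroup.centralizer ((P : Subgroup G) : Set G) → ℂ)
        ((Ψ μ : IrrCharacter G) : G → ℂ) = (ε : ℂ)) ∧
      (∀ μ, NT p μ → ∀ χ : IrrCharacter G, χ ≠ Ψ μ →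
        Dnum (Subgroup.centralizer ((P : Subgroup G) : Set G)) μ
          (θ : Subgroup.centralizer ((P : Subgroup G) : Set G) → ℂ) (χ : G → ℂ) = (w χ : ℂ)) ∧
      Nat.card {χ : IrrCharacter G // ∃ μ, NT p μ ∧ χ = Ψ μ} = (p - 1) / e ∧
      (∀ χ ∈ B, (∀ μ, NT p μ → χ ≠ Ψ μ) → (irrDeg χ : ℤ) ≡
        - w χ * ((f / e * irrDeg θ : ℕ) : ℤ) [ZMOD p]) ∧
      (∀ μ, NT p μ → (irrDeg (Ψ μ) : ℤ) ≡ ε * ((f * irrDeg θ : ℕ) : ℤ) [ZMOD p]) ∧
      (∀ μ, NT p μ → ∀ x : G, ¬ p ∣ orderOf x →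
        ∑ᶠ χ : IrrCharacter G, (w χ : ℂ) * (χ : G → ℂ) x +
          (ε : ℂ) * ((Ψ μ : IrrCharacter G) : G → ℂ) x = 0) ∧
      (∀ μ, NT p μ → Nat.card {ν : Subgroup.centralizer ((P : Subgroup G) : Set G) → ℂ //
        TConj (P : Subgroup G) T μ ν} = e) := by
  classical
  have : Fintype G := Fintype.ofFinite G
  let _ : Fintype (IrrCharacter G) := Fintype.ofFinite _
  obtain ⟨M, hM⟩ := Cfsg.Agent.Helper24.exists_isPModular p hr.out
  have hMp := isPrime_of_isPModular hM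
  have hcardR : Nat.card P = p ^ (Nat.card G).factorization p := P.card_eq_multiplicity
  have hfac : (Nat.card G).factorization p = 1 := by
    rw [hP] at hcardR
    have h1 : p ^ 1 = p ^ (Nat.card G).factorization p := by rw [pow_one]; exact hcardR
    exact (Nat.pow_right_injective hr.out.two_le h1).symm
  have h0 : Nat.card G ≠ 0 := Nat.card_pos.ne'
  have hdiv : p ∣ Nat.card G := (hr.out.dvd_iff_one_le_factorization h0).mpr (by omega)
  have hsq : ¬ p ^ 2 ∣ Nat.card G := fun h => by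
    have := (hr.out.pow_dvd_iff_le_factorization h0).mp h
    omega
  set B : Set (IrrCharacter G) := blockOf M (ζ : G → ℂ) with hBdef
  have hB : IsPBlock M B := isPBlock_blockOf ζ
  have hζB : ζ ∈ B := mem_blockOf_self hMp ζ
  have hζdeg : charDegree (ζ : G → ℂ) = irrDeg ζ := charDegree_irr ζ
  have hd : 0 < blockDefect p B := by
    unfold blockDefect
    have h1 : sInf ((fun ψ : IrrCharacter G => (charDegree (ψ : G → ℂ)).factorization p) '' B) = 0 := by
      apply Nat.eq_zero_of_le_zero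
      apply Nat.sInf_le
      refine ⟨ζ, hζB, ?_⟩
      show (charDegree (ζ : G → ℂ)).factorization p = 0
      rw [hζdeg]
      exact Nat.factorization_eq_zero_of_not_dvd hζ
    rw [h1, Nat.sub_zero, hfac]
    exact Nat.one_pos
  have hBP : IsDefectGroup p M B P := isDefectGroup_sylow_of_pos hM hdiv hsq P B hB hd
  obtain ⟨b, θ, hind, hθ, hθP⟩ := exists_root_of_defectGroup p M hM P hP B hB hBP
  obtain ⟨T, hT⟩ := Cfsg.Agent.Helper18.D1QT0.exists_stab (P : Subgroup G)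
    (θ : Subgroup.centralizer ((P : Subgroup G) : Set G) → ℂ)
  obtain ⟨hediv, hef, hBcard, Ψ, ε, w, hε, hΨB, hΨconj, hwΨ, hwX, hwO, hDΨ, hDw, -, hYcard,
    hdegX, hdegY, hrel⟩ :=
    core p M hM P hP B hB hBP b hind θ hθ hθP T hT _ _ rfl rfl
  have hTN : T ≤ Subgroup.normalizer ((P : Subgroup G) : Set G) := fun g hg => ((hT g).mp hg).1
  have hCT : Subgroup.centralizer ((P : Subgroup G) : Set G) ≤ T := by
    intro g hg
    rw [hT]
    refine ⟨Subgroup.centralizer_le_normalizer _ hg, ?_⟩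
    intro c c' hcc'
    have h1 : c' = ⟨g, hg⟩ * c * (⟨g, hg⟩ : Subgroup.centralizer ((P : Subgroup G) : Set G))⁻¹ :=
      Subtype.ext (by rw [hcc']; rfl)
    rw [h1]
    exact isClassFunction_irr θ c ⟨g, hg⟩
  obtain ⟨-, R, -, -, -, -, hR4⟩ :=
    Cfsg.Agent.Helper18.D1QO.exists_orbit_reps P hP T hCT hTN
  obtain ⟨hfdiv, -⟩ :=
    Cfsg.Agent.Helper18.D1QO.exists_orbit_reps P hP (Subgroup.normalizer ((P : Subgroup G) : Set G))
      (Subgroup.centralizer_le_normalizer _) le_rfl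
  refine ⟨θ, T, B, Ψ, ε, w, _, _, hζB, hθP, hT, rfl, rfl, hediv, hef, hfdiv, hBcard, hε, hΨB, hΨconj,
    hwΨ, hwX, hwO, hDΨ, hDw, hYcard, ?_, ?_, ?_, ?_⟩
  · intro χ hχ hne
    have := hdegX χ hχ hne
    rw [charDegree_irr, charDegree_irr] at this
    exact this
  · intro μ hμ
    have := hdegY μ hμ
    rw [charDegree_irr, charDegree_irr] at this
    exact this
  · intro μ hμ x hx
    rw [finsum_eq_sum_of_fintype]
    exact hrel μ hμ x hx
  · intro μ hμ
    exact hR4 μ hμ.1 hμ.2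

end Cfsg.Agent.Helper20.S4705BLK
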