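import Mathlib
import Cfsg.Agent.Helper20.S4705BLKa
import Cfsg.Agent.Helper20.S4705BLKDefs
import Cfsg.Agent.Helper24.CharBasic
import Cfsg.Agent.Helper24.Expansion
import Cfsg.Agent.Helper8.CharComp
import Cfsg.Agent.Helper8.W2pT1b
import Cfsg.Agent.Helper5.LinChar
import Cfsg.Agent.Helper24.Monomial

/-!
# S4705, piece BLK, part c: the packaged defect-one data and the multiplicities of `χ|_C`
-/

set_option autoImplicit false

namespace Cfsg.Agent.Helper20.S4705BLK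

open Cfsg Cfsg.Agent.Helper24 Cfsg.Agent.Helper8.D1 Cfsg.Agent.S4705P

universe u

/-- Brauer's defect-one data for the block of `ζ` -/
structure CoreData {G : Type u} [Group G] [Finite G] (p : ℕ) (P : Sylow p G)
    (ζ : IrrCharacter G) where
  θ : IrrCharacter (Subgroup.centralizer ((P : Subgroup G) : Set G))
  T : Subgroup G
  B : Set (IrrCharacter G)
  Ψ : (Subgroup.centralizer ((P : Subgroup G) : Set G) → ℂ) → IrrCharacter G
  ε : ℤ
  w : IrrCharacter G → ℤ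
  e : ℕ
  f : ℕ
  mem : ζ ∈ B
  θP : ∀ x : Subgroup.centralizer ((P : Subgroup G) : Set G), (x : G) ∈ (P : Subgroup G) →
    (θ : Subgroup.centralizer ((P : Subgroup G) : Set G) → ℂ) x =
      (θ : Subgroup.centralizer ((P : Subgroup G) : Set G) → ℂ) 1
  hT : ∀ g : G, g ∈ T ↔ (g ∈ Subgroup.normalizer ((P : Subgroup G) : Set G) ∧
    ∀ c c' : Subgroup.centralizer ((P : Subgroup G) : Set G), (c' : G) = g * c * g⁻¹ →
      (θ : Subgroup.centralizer ((P : Subgroup G) : Set G) → ℂ) c' =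
        (θ : Subgroup.centralizer ((P : Subgroup G) : Set G) → ℂ) c)
  he : (Subgroup.centralizer ((P : Subgroup G) : Set G)).relIndex T = e
  hf : (Subgroup.centralizer ((P : Subgroup G) : Set G)).relIndex
    (Subgroup.normalizer ((P : Subgroup G) : Set G)) = f
  e_dvd : e ∣ p - 1
  e_dvd_f : e ∣ f
  f_dvd : f ∣ p - 1
  card_B : Nat.card B = e + (p - 1) / e
  ε_pm : ε = 1 ∨ ε = -1
  Ψ_mem : ∀ μ, NT p μ → Ψ μ ∈ B
  Ψ_conj : ∀ μ ν, NT p μ → NT p ν → (Ψ μ = Ψ ν ↔ TConj (P : Subgroup G) T μ ν)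
  w_Ψ : ∀ μ, NT p μ → w (Ψ μ) = 0
  w_X : ∀ χ ∈ B, (∀ μ, NT p μ → χ ≠ Ψ μ) → (w χ = 1 ∨ w χ = -1)
  w_out : ∀ χ, χ ∉ B → w χ = 0
  D_Ψ : ∀ μ, NT p μ → Dnum (Subgroup.centralizer ((P : Subgroup G) : Set G)) μ
    (θ : Subgroup.centralizer ((P : Subgroup G) : Set G) → ℂ)
    ((Ψ μ : IrrCharacter G) : G → ℂ) = (ε : ℂ)
  D_w : ∀ μ, NT p μ → ∀ χ : IrrCharacter G, χ ≠ Ψ μ →
    Dnum (Subgroup.centralizer ((P : Subgroup G) : Set G)) μ
      (θ : Subgroup.centralizer ((P : Subgroup G) : Set G) → ℂ) (χ : G → ℂ) = (w χ : ℂ)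
  card_Y : Nat.card {χ : IrrCharacter G // ∃ μ, NT p μ ∧ χ = Ψ μ} = (p - 1) / e
  deg_X : ∀ χ ∈ B, (∀ μ, NT p μ → χ ≠ Ψ μ) → (irrDeg χ : ℤ) ≡
    - w χ * ((f / e * irrDeg θ : ℕ) : ℤ) [ZMOD p]
  deg_Y : ∀ μ, NT p μ → (irrDeg (Ψ μ) : ℤ) ≡ ε * ((f * irrDeg θ : ℕ) : ℤ) [ZMOD p]
  rel : ∀ μ, NT p μ → ∀ x : G, ¬ p ∣ orderOf x →
    ∑ᶠ χ : IrrCharacter G, (w χ : ℂ) * (χ : G → ℂ) x +
      (ε : ℂ) * ((Ψ μ : IrrCharacter G) : G → ℂ) x = 0
  orb : ∀ μ, NT p μ → Nat.card {ν : Subgroup.centralizer ((P : Subgroup G) : Set G) → ℂ //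
    TConj (P : Subgroup G) T μ ν} = e

theorem nonempty_coreData {G : Type u} [Group G] [Finite G] (p : ℕ) [Fact p.Prime]
    (P : Sylow p G) (hP : Nat.card P = p) (ζ : IrrCharacter G) (hζ : ¬ p ∣ irrDeg ζ) :
    Nonempty (CoreData p P ζ) := by
  obtain ⟨θ, T, B, Ψ, ε, w, e, f, h1, h2, h3, h4, h5, h6, h7, h8, h9, h10, h11, h12, h13, h14, h15,
    h16, h17, h18, h19, h20, h21, h22⟩ := core_of_irr p P hP ζ hζ
  exact ⟨⟨θ, T, B, Ψ, ε, w, e, f, h1, h2, h3, h4, h5, h6, h7, h8, h9, h10, h11, h12, h13, h14, h15,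
    h16, h17, h18, h19, h20, h21, h22⟩⟩

section

variable {G : Type u} [Group G] [Finite G]

/-- a faithful irreducible character: elements with `|ζ(g)| = ζ(1)` are central -/
theorem mem_center_of_norm_eq (ζ : IrrCharacter G)
    (hfaith : ∀ g : G, (ζ : G → ℂ) g = (ζ : G → ℂ) 1 → g = 1) (g : G)
    (h : ‖(ζ : G → ℂ) g‖ = (irrDeg ζ : ℝ)) : g ∈ Subgroup.center G := by
  obtain ⟨n, ρ, _, hρ⟩ := ζ.2
  have hdeg : (irrDeg ζ : ℂ) = (Module.finrank ℂ (Fin n → ℂ) : ℂ) := by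
    rw [← irrDeg_spec, ← hρ, Representation.char_one]
  have hdeg' : irrDeg ζ = Module.finrank ℂ (Fin n → ℂ) := by exact_mod_cast hdeg
  rw [← hρ, hdeg'] at h
  obtain ⟨ω, hω⟩ := (norm_char_eq_iff ρ g).mp h
  have hinj : Function.Injective ρ := by
    intro a b hab
    have h1 : ρ (a * b⁻¹) = 1 := by
      rw [map_mul, hab, ← map_mul, mul_inv_cancel, map_one]
    have h2 : ρ.character (a * b⁻¹) = ρ.character 1 := by
      unfold Representation.character
      rw [h1, ← map_one ρ]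
    rw [hρ] at h2
    have := hfaith _ h2
    exact mul_inv_eq_one.mp this
  exact Cfsg.Agent.Helper24.mem_center_of_scalar ρ hinj g ω hω

variable {p : ℕ} [Fact p.Prime] (P : Sylow p G)

/-- the multiplicities of the `μ θ` in `χ|_C` are natural numbers -/
theorem exists_mult_nat (θ : IrrCharacter (Subgroup.centralizer ((P : Subgroup G) : Set G)))
    (χ : IrrCharacter G) :
    ∃ a : (Subgroup.centralizer ((P : Subgroup G) : Set G) → ℂ) → ℕ, ∀ μ, IsPLin p μ →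
      mult (Subgroup.centralizer ((P : Subgroup G) : Set G))
        (fun c => μ c * (θ : Subgroup.centralizer ((P : Subgroup G) : Set G) → ℂ) c) (χ : G → ℂ) =
          (a μ : ℂ) := by
  classical
  have hres : IsCharacter (Subgroup.centralizer ((P : Subgroup G) : Set G))
      (fun c : Subgroup.centralizer ((P : Subgroup G) : Set G) => (χ : G → ℂ) c) :=
    Cfsg.Agent.Helper8.isCharacter_restrict _ (IsIrrCharacter.isCharacter χ.2)
  have hex : ∀ μ : Subgroup.centralizer ((P : Subgroup G) : Set G) → ℂ, ∃ n : ℕ, IsPLin p μ →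
      mult (Subgroup.centralizer ((P : Subgroup G) : Set G))
        (fun c => μ c * (θ : Subgroup.centralizer ((P : Subgroup G) : Set G) → ℂ) c) (χ : G → ℂ) =
          (n : ℂ) := by
    intro μ
    by_cases hμ : IsPLin p μ
    · let _ : Fintype (Subgroup.centralizer ((P : Subgroup G) : Set G)) := Fintype.ofFinite _
      let _ : Fintype (IrrCharacter (Subgroup.centralizer ((P : Subgroup G) : Set G))) :=
        Fintype.ofFinite _
      obtain ⟨n, hn⟩ := IsCharacter.classInner_irr_nat hres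
        (⟨fun c => μ c * (θ : Subgroup.centralizer ((P : Subgroup G) : Set G) → ℂ) c,
          hμ.isIrr_mul θ.2⟩ : IrrCharacter (Subgroup.centralizer ((P : Subgroup G) : Set G)))
      refine ⟨n, fun _ => ?_⟩
      rw [mult_eq]
      exact hn
    · exact ⟨0, fun h => absurd h hμ⟩
  choose a ha using hex
  exact ⟨a, ha⟩

end

end Cfsg.Agent.Helper20.S4705BLK
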