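import Mathlib

/-!
# S4705, piece BLK, part b: the arithmetic of the restriction to `C_G(P)`
-/

set_option autoImplicit false

namespace Cfsg.Agent.Helper20.S4705BLK

/-- a natural number `x` with `1 ≤ x ≤ p - 2` congruent to `p - 2` modulo `p` equals `p - 2` -/
theorem eq_of_modEq_of_le {p x : ℕ} (hp : 2 ≤ p) (hx : x ≤ p - 2)
    (h : ((p - 2 : ℕ) : ℤ) ≡ (x : ℤ) [ZMOD p]) : x = p - 2 := by
  have h1 : (p : ℤ) ∣ ((p - 2 : ℕ) : ℤ) - x := (Int.modEq_iff_dvd.mp h.symm)
  obtain ⟨c, hc⟩ := h1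
  have h2 : ((p - 2 : ℕ) : ℤ) = (p : ℤ) - 2 := by
    rw [Nat.cast_sub hp]; simp
  have hx' : (x : ℤ) ≤ (p : ℤ) - 2 := by rw [← h2]; exact_mod_cast hx
  have hx0 : (0 : ℤ) ≤ x := Int.natCast_nonneg _
  have hp0 : (0 : ℤ) < p := by exact_mod_cast (by omega : 0 < p)
  have hc0 : c = 0 := by
    by_contra hne
    rcases lt_or_gt_of_ne hne with h | h
    · have : c ≤ -1 := by omega
      have : (p : ℤ) * c ≤ (p : ℤ) * (-1) := mul_le_mul_of_nonneg_left this hp0.le
      omega
    · have : 1 ≤ c := by omega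
      have : (p : ℤ) * 1 ≤ (p : ℤ) * c := mul_le_mul_of_nonneg_left this hp0.le
      omega
  rw [hc0, mul_zero] at hc
  have : (x : ℤ) = ((p - 2 : ℕ) : ℤ) := by linarith
  exact_mod_cast this

/-- a common divisor of `p - 1` and `p - 2` is `1` -/
theorem eq_one_of_dvd_dvd {p k : ℕ} (hp : 2 ≤ p) (h1 : k ∣ p - 1) (h2 : k ∣ p - 2) : k = 1 := by
  have h3 : k ∣ (p - 1) - (p - 2) := Nat.dvd_sub h1 h2
  have h4 : (p - 1) - (p - 2) = 1 := by omega
  rw [h4] at h3
  exact Nat.dvd_one.mp h3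

theorem arith_nonexc {p : ℕ} (hp5 : 5 < p) (w : ℤ) (hw : w = 1 ∨ w = -1)
    (a1 S k t : ℕ) (hk : k ∣ p - 1) (ht : 1 ≤ t)
    (hS : (S : ℤ) = p * a1 + ((p : ℤ) - 1) * w)
    (hbound : k * (t * S) ≤ p - 2)
    (hcong : ((p - 2 : ℕ) : ℤ) ≡ -w * ((k * t : ℕ) : ℤ) [ZMOD p]) :
    w = -1 ∧ a1 = 1 ∧ k = 1 ∧ t = p - 2 ∧ S = 1 := by
  have hk1 : 1 ≤ k := Nat.pos_of_dvd_of_pos hk (by omega)
  have hkt : 1 ≤ k * t := Nat.mul_pos hk1 ht
  have hSle : S ≤ p - 2 := by
    calc S = 1 * S := (one_mul S).symm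
      _ ≤ (k * t) * S := Nat.mul_le_mul_right S hkt
      _ = k * (t * S) := Nat.mul_assoc k t S
      _ ≤ p - 2 := hbound
  have hSle' : (S : ℤ) ≤ (p : ℤ) - 2 := by
    have : ((S : ℕ) : ℤ) ≤ ((p - 2 : ℕ) : ℤ) := by exact_mod_cast hSle
    rw [Nat.cast_sub (by omega)] at this
    simpa using this
  have ha0 : (0 : ℤ) ≤ a1 := Int.natCast_nonneg _
  have hp0 : (0 : ℤ) < p := by exact_mod_cast (by omega : 0 < p)
  rcases hw with rfl | rfl
  · exfalso
    have : (p : ℤ) * a1 ≥ 0 := mul_nonneg hp0.le ha0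
    linarith
  · have hS0 : (0 : ℤ) ≤ S := Int.natCast_nonneg _
    have ha1 : a1 = 1 := by
      rcases Nat.lt_or_ge a1 1 with h | h
      · have : a1 = 0 := by omega
        subst this
        simp at hS
        linarith
      · rcases Nat.lt_or_ge a1 2 with h' | h'
        · omega
        · exfalso
          have : (2 : ℤ) ≤ a1 := by exact_mod_cast h'
          have : (p : ℤ) * 2 ≤ (p : ℤ) * a1 := mul_le_mul_of_nonneg_left this hp0.le
          linarith
    subst ha1
    have hS1 : S = 1 := by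
      have : (S : ℤ) = 1 := by rw [hS]; push_cast; ring
      exact_mod_cast this
    subst hS1
    have hkt' : k * t ≤ p - 2 := by simpa using hbound
    have hcong' : ((p - 2 : ℕ) : ℤ) ≡ ((k * t : ℕ) : ℤ) [ZMOD p] := by
      simpa using hcong
    have hkteq := eq_of_modEq_of_le (by omega) hkt' hcong'
    have hk2 : k ∣ p - 2 := ⟨t, hkteq.symm⟩
    have hk1' := eq_one_of_dvd_dvd (by omega) hk hk2
    subst hk1'
    refine ⟨rfl, rfl, rfl, ?_, rfl⟩
    simpa using hkteq

theorem arith_exc {p : ℕ} (hp5 : 5 < p) (ε : ℤ) (hε : ε = 1 ∨ ε = -1)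
    (a1 S e f t : ℕ) (he : e ∣ p - 1) (hef : e ∣ f) (hf : f ∣ p - 1) (ht : 1 ≤ t)
    (hS : (S : ℤ) = p * a1 + (e : ℤ) * ε)
    (hbound : f / e * (t * S) ≤ p - 2)
    (hcong : ((p - 2 : ℕ) : ℤ) ≡ ε * ((f * t : ℕ) : ℤ) [ZMOD p]) :
    (ε = 1 ∧ a1 = 0 ∧ f = 1 ∧ e = 1 ∧ t = p - 2 ∧ S = 1) ∨
    (ε = -1 ∧ a1 = 1 ∧ e = p - 1 ∧ f = p - 1 ∧ t = p - 2 ∧ S = 1) ∨
    (ε = -1 ∧ a1 = 1 ∧ e = 2 ∧ f = 2 ∧ t = 1 ∧ S = p - 2) := by
  have he1 : 1 ≤ e := Nat.pos_of_dvd_of_pos he (by omega)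
  have hf1 : 1 ≤ f := Nat.pos_of_dvd_of_pos hf (by omega)
  obtain ⟨k, hk⟩ := hef
  have hk1 : 1 ≤ k := by
    rcases Nat.eq_zero_or_pos k with h | h
    · rw [h, mul_zero] at hk; omega
    · exact h
  have hdiv : f / e = k := by rw [hk]; exact Nat.mul_div_cancel_left k he1
  rw [hdiv] at hbound
  have hele : e ≤ p - 1 := Nat.le_of_dvd (by omega) he
  have hfle : f ≤ p - 1 := Nat.le_of_dvd (by omega) hf
  have hkt : 1 ≤ k * t := Nat.mul_pos hk1 ht
  have hSle : S ≤ p - 2 := by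
    calc S = 1 * S := (one_mul S).symm
      _ ≤ (k * t) * S := Nat.mul_le_mul_right S hkt
      _ = k * (t * S) := Nat.mul_assoc k t S
      _ ≤ p - 2 := hbound
  have hSle' : (S : ℤ) ≤ (p : ℤ) - 2 := by
    have : ((S : ℕ) : ℤ) ≤ ((p - 2 : ℕ) : ℤ) := by exact_mod_cast hSle
    rw [Nat.cast_sub (by omega)] at this
    simpa using this
  have ha0 : (0 : ℤ) ≤ a1 := Int.natCast_nonneg _
  have hp0 : (0 : ℤ) < p := by exact_mod_cast (by omega : 0 < p)
  have he0 : (1 : ℤ) ≤ e := by exact_mod_cast he1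
  have hele' : (e : ℤ) ≤ (p : ℤ) - 1 := by
    have : ((e : ℕ) : ℤ) ≤ ((p - 1 : ℕ) : ℤ) := by exact_mod_cast hele
    rw [Nat.cast_sub (by omega)] at this
    simpa using this
  have hS0 : (0 : ℤ) ≤ S := Int.natCast_nonneg _
  rcases hε with rfl | rfl
  · left
    have ha1 : a1 = 0 := by
      rcases Nat.eq_zero_or_pos a1 with h | h
      · exact h
      · exfalso
        have : (1 : ℤ) ≤ a1 := by exact_mod_cast h
        have : (p : ℤ) * 1 ≤ (p : ℤ) * a1 := mul_le_mul_of_nonneg_left this hp0.le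
        linarith
    subst ha1
    have hSe : S = e := by
      have : (S : ℤ) = e := by rw [hS]; push_cast; ring
      exact_mod_cast this
    subst hSe
    have hft : f * t ≤ p - 2 := by
      calc f * t = k * (t * S) := by rw [hk]; ring
        _ ≤ p - 2 := hbound
    have hcong' : ((p - 2 : ℕ) : ℤ) ≡ ((f * t : ℕ) : ℤ) [ZMOD p] := by simpa using hcong
    have hfteq := eq_of_modEq_of_le (by omega) hft hcong'
    have hf2 : f ∣ p - 2 := ⟨t, hfteq.symm⟩
    have hf1' := eq_one_of_dvd_dvd (by omega) hf hf2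
    subst hf1'
    have hS1 : S = 1 := by
      have : S * k = 1 := hk.symm
      exact Nat.eq_one_of_mul_eq_one_right this
    refine ⟨rfl, rfl, rfl, hS1, ?_, hS1⟩
    simpa using hfteq
  · right
    have ha1 : a1 = 1 := by
      rcases Nat.lt_or_ge a1 1 with h | h
      · have : a1 = 0 := by omega
        subst this
        simp at hS
        linarith
      · rcases Nat.lt_or_ge a1 2 with h' | h'
        · omega
        · exfalso
          have : (2 : ℤ) ≤ a1 := by exact_mod_cast h'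
          have : (p : ℤ) * 2 ≤ (p : ℤ) * a1 := mul_le_mul_of_nonneg_left this hp0.le
          linarith
    subst ha1
    have hSe : S = p - e := by
      have : (S : ℤ) = ((p - e : ℕ) : ℤ) := by
        rw [hS, Nat.cast_sub (by omega)]; push_cast; ring
      exact_mod_cast this
    -- `k t (p - e) = p - 2`
    have hcong' : ((p - 2 : ℕ) : ℤ) ≡ ((k * (t * S) : ℕ) : ℤ) [ZMOD p] := by
      refine hcong.trans ?_
      rw [Int.modEq_iff_dvd]
      refine ⟨(k : ℤ) * t, ?_⟩
      rw [hSe, hk, Nat.cast_mul, Nat.cast_mul, Nat.cast_sub (by omega)]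
      push_cast
      ring
    have hkts := eq_of_modEq_of_le (by omega) hbound hcong'
    rcases Nat.lt_or_ge e (p - 1) with hlt | hge
    · -- `e ≤ (p - 1) / 2`
      right
      obtain ⟨m, hm⟩ := he
      have hm2 : 2 ≤ m := by
        rcases Nat.lt_or_ge m 2 with h | h
        · interval_cases m
          · omega
          · omega
        · exact h
      have h2e : 2 * e ≤ p - 1 := by
        calc 2 * e ≤ m * e := Nat.mul_le_mul_right e hm2
          _ = p - 1 := by rw [hm]; ring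
      have hkt1 : k * t = 1 := by
        by_contra hne
        have h2 : 2 ≤ k * t := by omega
        have : 2 * S ≤ k * t * S := Nat.mul_le_mul_right S h2
        have h3 : k * t * S = p - 2 := by rw [Nat.mul_assoc]; exact hkts
        omega
      have hk1' : k = 1 := Nat.eq_one_of_mul_eq_one_right hkt1
      have ht1' : t = 1 := Nat.eq_one_of_mul_eq_one_left hkt1
      subst hk1' ht1'
      have hS2 : S = p - 2 := by simpa using hkts
      have he2 : e = 2 := by omega
      refine ⟨rfl, rfl, he2, ?_, rfl, hS2⟩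
      rw [hk, he2]
    · left
      have hee : e = p - 1 := by omega
      have hS1 : S = 1 := by omega
      have hkk : k = 1 := by
        have : e * k ≤ p - 1 := by rw [← hk]; exact hfle
        rw [hee] at this
        rcases Nat.lt_or_ge k 2 with h | h
        · omega
        · exfalso
          have : (p - 1) * 2 ≤ (p - 1) * k := Nat.mul_le_mul_left _ h
          omega
      subst hkk
      refine ⟨rfl, rfl, hee, by rw [hk, hee, mul_one], ?_, hS1⟩
      rw [hS1] at hkts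
      simpa using hkts

end Cfsg.Agent.Helper20.S4705BLK
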