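import Mathlib
import Cfsg.Agent.Helper20.S4705BLKc
import Cfsg.Agent.Helper20.S4705BLKb

/-!
# S4705, piece BLK, part d: the sum of the multiplicities of the `μ θ` in `ζ|_C`
-/

set_option autoImplicit false

namespace Cfsg.Agent.Helper20.S4705BLK

open Cfsg Cfsg.Agent.Helper24 Cfsg.Agent.Helper8.D1 Cfsg.Agent.S4705P Cfsg.Agent.Helper8.W2p

universe u

variable {G : Type u} [Group G] [Finite G] {p : ℕ} [Fact p.Prime] (P : Sylow p G)

/-- the difference of multiplicities is the number `Dnum` -/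
theorem mult_sub_eq_Dnum {ζ : IrrCharacter G} (D : CoreData p P ζ) (χ : IrrCharacter G)
    (a : (Subgroup.centralizer ((P : Subgroup G) : Set G) → ℂ) → ℕ)
    (ha : ∀ μ, IsPLin p μ → mult (Subgroup.centralizer ((P : Subgroup G) : Set G))
      (fun c => μ c * (D.θ : Subgroup.centralizer ((P : Subgroup G) : Set G) → ℂ) c) (χ : G → ℂ) =
        (a μ : ℂ))
    (μ : Subgroup.centralizer ((P : Subgroup G) : Set G) → ℂ) (hμ : IsPLin p μ) :
    ((a μ : ℂ)) - (a (fun _ => 1) : ℂ) =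
      Dnum (Subgroup.centralizer ((P : Subgroup G) : Set G)) μ
        (D.θ : Subgroup.centralizer ((P : Subgroup G) : Set G) → ℂ) (χ : G → ℂ) := by
  rw [Dnum_eq_mult, ha μ hμ]
  have h1 := ha (fun _ => 1) (isPLin_one p)
  have h2 : (fun c : Subgroup.centralizer ((P : Subgroup G) : Set G) =>
      (1 : ℂ) * (D.θ : Subgroup.centralizer ((P : Subgroup G) : Set G) → ℂ) c) =
      (D.θ : Subgroup.centralizer ((P : Subgroup G) : Set G) → ℂ) := by
    funext c; rw [one_mul]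
  rw [h2] at h1
  rw [h1]

/-- the sum of the multiplicities, `ζ` not exceptional -/
theorem sum_nonexc (hP : Nat.card P = p) {ζ : IrrCharacter G} (D : CoreData p P ζ)
    (a : (Subgroup.centralizer ((P : Subgroup G) : Set G) → ℂ) → ℕ)
    (ha : ∀ μ, IsPLin p μ → mult (Subgroup.centralizer ((P : Subgroup G) : Set G))
      (fun c => μ c * (D.θ : Subgroup.centralizer ((P : Subgroup G) : Set G) → ℂ) c) (ζ : G → ℂ) =
        (a μ : ℂ))
    (hne : ∀ μ, NT p μ → ζ ≠ D.Ψ μ) :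
    ((∑ᶠ μ : PL P, a μ.1 : ℕ) : ℤ) = p * (a (fun _ => 1) : ℤ) + ((p : ℤ) - 1) * D.w ζ := by
  classical
  have hp : p.Prime := Fact.out
  have := finite_PL P hP
  let _ : Fintype (PL P) := Fintype.ofFinite _
  have hkey : ∀ μ : PL P, μ ≠ onePL P → (a μ.1 : ℤ) = (a (fun _ => 1) : ℤ) + D.w ζ := by
    intro μ hμ
    have hnt : NT p μ.1 := (nt_iff_ne_one P μ).mpr hμ
    have h1 := mult_sub_eq_Dnum P D ζ a ha μ.1 μ.2
    rw [D.D_w μ.1 hnt ζ (hne μ.1 hnt)] at h1
    have h2 : ((a μ.1 : ℤ) : ℂ) = (((a (fun _ => 1) : ℤ) + D.w ζ : ℤ) : ℂ) := by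
      push_cast
      linear_combination h1
    exact_mod_cast h2
  rw [finsum_eq_sum_of_fintype, Nat.cast_sum,
    ← Finset.add_sum_erase Finset.univ _ (Finset.mem_univ (onePL P)),
    Finset.sum_congr rfl (fun μ hμ => hkey μ (Finset.ne_of_mem_erase hμ)),
    Finset.sum_const, Finset.card_erase_of_mem (Finset.mem_univ _), Finset.card_univ,
    ← Nat.card_eq_fintype_card, card_PL P hP, nsmul_eq_mul, Nat.cast_sub hp.one_le]
  show (a (fun _ => 1) : ℤ) + _ = _
  push_cast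
  ring

/-- the sum of the multiplicities, `ζ` exceptional -/
theorem sum_exc (hP : Nat.card P = p) {ζ : IrrCharacter G} (D : CoreData p P ζ)
    (a : (Subgroup.centralizer ((P : Subgroup G) : Set G) → ℂ) → ℕ)
    (ha : ∀ μ, IsPLin p μ → mult (Subgroup.centralizer ((P : Subgroup G) : Set G))
      (fun c => μ c * (D.θ : Subgroup.centralizer ((P : Subgroup G) : Set G) → ℂ) c) (ζ : G → ℂ) =
        (a μ : ℂ))
    (μ₀ : Subgroup.centralizer ((P : Subgroup G) : Set G) → ℂ) (hμ₀ : NT p μ₀)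
    (hζ : ζ = D.Ψ μ₀) :
    ((∑ᶠ μ : PL P, a μ.1 : ℕ) : ℤ) = p * (a (fun _ => 1) : ℤ) + (D.e : ℤ) * D.ε ∧
    (∀ μ : PL P, μ ≠ onePL P → TConj (P : Subgroup G) D.T μ₀ μ.1 →
      (a μ.1 : ℤ) = (a (fun _ => 1) : ℤ) + D.ε) ∧
    (∀ μ : PL P, μ ≠ onePL P → ¬ TConj (P : Subgroup G) D.T μ₀ μ.1 →
      (a μ.1 : ℤ) = (a (fun _ => 1) : ℤ)) := by
  classical
  have hp : p.Prime := Fact.out
  have := finite_PL P hP
  let _ : Fintype (PL P) := Fintype.ofFinite _
  have hkey : ∀ μ : PL P, μ ≠ onePL P → (a μ.1 : ℤ) = (a (fun _ => 1) : ℤ) +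
      if TConj (P : Subgroup G) D.T μ₀ μ.1 then D.ε else 0 := by
    intro μ hμ
    have hnt : NT p μ.1 := (nt_iff_ne_one P μ).mpr hμ
    have h1 := mult_sub_eq_Dnum P D ζ a ha μ.1 μ.2
    by_cases hc : TConj (P : Subgroup G) D.T μ₀ μ.1
    · rw [if_pos hc]
      have h3 : D.Ψ μ.1 = ζ := (hζ.trans ((D.Ψ_conj μ₀ μ.1 hμ₀ hnt).mpr hc)).symm
      have h4 := D.D_Ψ μ.1 hnt
      rw [h3] at h4
      rw [h4] at h1
      have h2 : ((a μ.1 : ℤ) : ℂ) = (((a (fun _ => 1) : ℤ) + D.ε : ℤ) : ℂ) := by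
        push_cast
        linear_combination h1
      exact_mod_cast h2
    · rw [if_neg hc]
      have h3 : ζ ≠ D.Ψ μ.1 := by
        intro h
        exact hc ((D.Ψ_conj μ₀ μ.1 hμ₀ hnt).mp (hζ.symm.trans h))
      have hw0 : D.w ζ = 0 := by
        have := D.w_Ψ μ₀ hμ₀
        rwa [← hζ] at this
      rw [D.D_w μ.1 hnt ζ h3, hw0] at h1
      have h2 : ((a μ.1 : ℤ) : ℂ) = (((a (fun _ => 1) : ℤ) + 0 : ℤ) : ℂ) := by
        push_cast
        linear_combination h1
      exact_mod_cast h2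
  refine ⟨?_, fun μ hμ hc => by rw [hkey μ hμ, if_pos hc],
    fun μ hμ hc => by rw [hkey μ hμ, if_neg hc, add_zero]⟩
  -- the orbit
  set O : Finset (PL P) := Finset.univ.filter (fun μ : PL P => TConj (P : Subgroup G) D.T μ₀ μ.1)
    with hO
  have hOcard : O.card = D.e := by
    rw [← D.orb μ₀ hμ₀, ← Fintype.card_coe, ← Nat.card_eq_fintype_card]
    refine Nat.card_congr ⟨fun ν => ⟨ν.1.1, ?_⟩, fun ν => ⟨⟨ν.1, (ν.2.nt hμ₀).1⟩, ?_⟩, ?_, ?_⟩
    · exact (Finset.mem_filter.1 ν.2).2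
    · exact Finset.mem_filter.2 ⟨Finset.mem_univ _, ν.2⟩
    · intro ν; rfl
    · intro ν; rfl
  have hOone : onePL P ∉ O := by
    intro h
    have h1 := (Finset.mem_filter.1 h).2
    have h2 := h1.nt hμ₀
    exact ((nt_iff_ne_one P (onePL P)).mp h2) rfl
  rw [finsum_eq_sum_of_fintype, Nat.cast_sum,
    ← Finset.add_sum_erase Finset.univ _ (Finset.mem_univ (onePL P)),
    Finset.sum_congr rfl (fun μ hμ => hkey μ (Finset.ne_of_mem_erase hμ)),
    Finset.sum_add_distrib, Finset.sum_const, Finset.card_erase_of_mem (Finset.mem_univ _),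
    Finset.card_univ, ← Nat.card_eq_fintype_card, card_PL P hP, nsmul_eq_mul,
    Nat.cast_sub hp.one_le]
  have h5 : ∑ μ ∈ Finset.univ.erase (onePL P),
      (if TConj (P : Subgroup G) D.T μ₀ μ.1 then D.ε else 0) = (D.e : ℤ) * D.ε := by
    rw [← Finset.sum_filter]
    have : (Finset.univ.erase (onePL P)).filter
        (fun μ : PL P => TConj (P : Subgroup G) D.T μ₀ μ.1) = O := by
      ext μ
      simp only [Finset.mem_filter, Finset.mem_erase, Finset.mem_univ, and_true, true_and, hO]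
      constructor
      · exact fun h => h.2
      · intro h
        refine ⟨?_, h⟩
        intro h1
        apply hOone
        rw [← h1, hO]
        exact Finset.mem_filter.2 ⟨Finset.mem_univ _, h⟩
    rw [this, Finset.sum_const, hOcard, nsmul_eq_mul]
  rw [h5]
  show (a (fun _ => 1) : ℤ) + _ = _
  push_cast
  ring

end Cfsg.Agent.Helper20.S4705BLK
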