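import Mathlib
import Cfsg.Agent.Helper20.S4705BLKd
import Cfsg.Agent.Helper1.S4705BLKO
import Cfsg.Agent.Helper7.S4705BLKE
import Cfsg.Agent.Helper3.S4705BLKZ
import Cfsg.Agent.Helper1.D1PA

/-!
# S4705, piece BLK, part e: the case analysis
-/

set_option autoImplicit false

namespace Cfsg.Agent.Helper20.S4705BLK

open Cfsg Cfsg.Agent.Helper24 Cfsg.Agent.Helper8.D1 Cfsg.Agent.S4705P Cfsg.Agent.Helper8.W2p

universe u

variable {G : Type u} [Group G] [Finite G] {p : ℕ} [Fact p.Prime] (P : Sylow p G)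

/-- `|N : T| = f / e` -/
theorem relIndex_T_N {ζ : IrrCharacter G} (D : CoreData p P ζ) :
    D.T.relIndex (Subgroup.normalizer ((P : Subgroup G) : Set G)) = D.f / D.e := by
  have hTN : D.T ≤ Subgroup.normalizer ((P : Subgroup G) : Set G) :=
    fun g hg => ((D.hT g).mp hg).1
  have hCT : Subgroup.centralizer ((P : Subgroup G) : Set G) ≤ D.T := by
    intro g hg
    rw [D.hT]
    refine ⟨Subgroup.centralizer_le_normalizer _ hg, ?_⟩
    intro c c' hcc'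
    have h1 : c' = ⟨g, hg⟩ * c * (⟨g, hg⟩ : Subgroup.centralizer ((P : Subgroup G) : Set G))⁻¹ :=
      Subtype.ext (by rw [hcc']; rfl)
    rw [h1]
    exact isClassFunction_irr D.θ c ⟨g, hg⟩
  have h := Subgroup.relIndex_mul_relIndex _ _ _ hCT hTN
  rw [D.he, D.hf] at h
  have hp : p.Prime := Fact.out
  have hepos : 0 < D.e := Nat.pos_of_dvd_of_pos D.e_dvd (by have := hp.two_le; omega)
  rw [← h, Nat.mul_div_cancel_left _ hepos]

/-- the bad cases: `θ(1) = p - 2` and a single constituent `μ₁ θ` -/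
theorem false_of_bad (hP : Nat.card P = p) (hnn : ¬ (P : Subgroup G).Normal)
    {ζ : IrrCharacter G} (hfaith : ∀ g : G, (ζ : G → ℂ) g = (ζ : G → ℂ) 1 → g = 1)
    (D : CoreData p P ζ)
    (a : (Subgroup.centralizer ((P : Subgroup G) : Set G) → ℂ) → ℕ)
    (ha : ∀ μ, IsPLin p μ → mult (Subgroup.centralizer ((P : Subgroup G) : Set G))
      (fun c => μ c * (D.θ : Subgroup.centralizer ((P : Subgroup G) : Set G) → ℂ) c) (ζ : G → ℂ) =
        (a μ : ℂ))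
    (hS : ∑ᶠ μ : PL P, a μ.1 = 1) (ht : irrDeg D.θ = irrDeg ζ) : False := by
  classical
  have := finite_PL P hP
  let _ : Fintype (PL P) := Fintype.ofFinite _
  have hex := blk_exact p P hP D.θ D.θP ζ a ha (by rw [hS, mul_one, ht])
  -- the unique constituent
  rw [finsum_eq_sum_of_fintype] at hS
  obtain ⟨μ₁, hμ₁⟩ : ∃ μ₁ : PL P, a μ₁.1 ≠ 0 := by
    by_contra hno
    push Not at hno
    rw [Finset.sum_eq_zero (fun μ _ => hno μ)] at hS
    exact zero_ne_one hS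
  have hμ₁1 : a μ₁.1 = 1 ∧ ∀ μ : PL P, μ ≠ μ₁ → a μ.1 = 0 := by
    rw [← Finset.add_sum_erase Finset.univ _ (Finset.mem_univ μ₁)] at hS
    have h1 : a μ₁.1 = 1 := by omega
    refine ⟨h1, ?_⟩
    intro μ hμ
    rw [h1] at hS
    have h2 : ∑ x ∈ Finset.univ.erase μ₁, a x.1 = 0 := by omega
    exact Finset.sum_eq_zero_iff.mp h2 μ (Finset.mem_erase.mpr ⟨hμ, Finset.mem_univ _⟩)
  have hval : ∀ c : Subgroup.centralizer ((P : Subgroup G) : Set G), (ζ : G → ℂ) c =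
      μ₁.1 c * (D.θ : Subgroup.centralizer ((P : Subgroup G) : Set G) → ℂ) c := by
    intro c
    rw [hex c, finsum_eq_sum_of_fintype, Finset.sum_eq_single μ₁]
    · rw [hμ₁1.1]; simp
    · intro μ _ hμ
      rw [hμ₁1.2 μ hμ]; simp
    · intro h; exact absurd (Finset.mem_univ _) h
  apply hnn
  have hPC : (P : Subgroup G) ≤ Subgroup.centralizer ((P : Subgroup G) : Set G) :=
    Cfsg.Agent.Helper1.D1PA.le_centralizer P hP
  have hcent : ∀ x ∈ (P : Subgroup G), x ∈ Subgroup.center G := by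
    intro x hx
    apply mem_center_of_norm_eq ζ hfaith
    have h1 := hval ⟨x, hPC hx⟩
    simp only at h1
    rw [h1, norm_mul, μ₁.2.norm_eq_one, one_mul, D.θP ⟨x, hPC hx⟩ hx, irrDeg_spec, ← ht]
    simp
  constructor
  intro x hx g
  have := Subgroup.mem_center_iff.mp (hcent x hx) g
  rw [this]
  simpa using hx


/-- the case analysis: only the good case survives -/
theorem good_case (hp5 : 5 < p) (hP : Nat.card P = p) (hnn : ¬ (P : Subgroup G).Normal)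
    {ζ : IrrCharacter G} (hfaith : ∀ g : G, (ζ : G → ℂ) g = (ζ : G → ℂ) 1 → g = 1)
    (hdeg : irrDeg ζ = p - 2) (D : CoreData p P ζ)
    (a : (Subgroup.centralizer ((P : Subgroup G) : Set G) → ℂ) → ℕ)
    (ha : ∀ μ, IsPLin p μ → mult (Subgroup.centralizer ((P : Subgroup G) : Set G))
      (fun c => μ c * (D.θ : Subgroup.centralizer ((P : Subgroup G) : Set G) → ℂ) c) (ζ : G → ℂ) =
        (a μ : ℂ)) :
    D.ε = -1 ∧ a (fun _ => 1) = 1 ∧ D.e = 2 ∧ D.f = 2 ∧ irrDeg D.θ = 1 ∧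
      (∑ᶠ μ : PL P, a μ.1 = p - 2) ∧ ∃ μ₀, NT p μ₀ ∧ ζ = D.Ψ μ₀ := by
  classical
  have hp : p.Prime := Fact.out
  have hbound := blk_orbit_bound p P hP D.θ D.θP D.T D.hT ζ a ha
  rw [relIndex_T_N P D, hdeg] at hbound
  have ht1 : 1 ≤ irrDeg D.θ := irrDeg_pos D.θ
  by_cases hex : ∃ μ₀, NT p μ₀ ∧ ζ = D.Ψ μ₀
  · obtain ⟨μ₀, hμ₀, hζ⟩ := hex
    obtain ⟨hS, -, -⟩ := sum_exc P hP D a ha μ₀ hμ₀ hζ
    have hcong : ((p - 2 : ℕ) : ℤ) ≡ D.ε * ((D.f * irrDeg D.θ : ℕ) : ℤ) [ZMOD p] := by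
      have h := D.deg_Y μ₀ hμ₀
      rw [← hζ, hdeg] at h
      exact h
    rcases arith_exc hp5 D.ε D.ε_pm (a (fun _ => 1)) (∑ᶠ μ : PL P, a μ.1) D.e D.f (irrDeg D.θ)
      D.e_dvd D.e_dvd_f D.f_dvd ht1 hS hbound hcong with h | h | h
    · exfalso
      exact false_of_bad P hP hnn hfaith D a ha h.2.2.2.2.2 (by rw [h.2.2.2.2.1, hdeg])
    · exfalso
      exact false_of_bad P hP hnn hfaith D a ha h.2.2.2.2.2 (by rw [h.2.2.2.2.1, hdeg])
    · exact ⟨h.1, h.2.1, h.2.2.1, h.2.2.2.1, h.2.2.2.2.1, h.2.2.2.2.2, μ₀, hμ₀, hζ⟩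
  · exfalso
    push Not at hex
    have hne : ∀ μ, NT p μ → ζ ≠ D.Ψ μ := fun μ hμ h => hex μ hμ h
    have hS := sum_nonexc P hP D a ha hne
    have hcong : ((p - 2 : ℕ) : ℤ) ≡ -D.w ζ * ((D.f / D.e * irrDeg D.θ : ℕ) : ℤ) [ZMOD p] := by
      have h := D.deg_X ζ D.mem hne
      rw [hdeg] at h
      exact h
    have hk : D.f / D.e ∣ p - 1 := (Nat.div_dvd_of_dvd D.e_dvd_f).trans D.f_dvd
    obtain ⟨-, -, -, h4, h5⟩ := arith_nonexc hp5 (D.w ζ) (D.w_X ζ D.mem hne) (a (fun _ => 1))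
      (∑ᶠ μ : PL P, a μ.1) (D.f / D.e) (irrDeg D.θ) hk ht1 hS hbound hcong
    exact false_of_bad P hP hnn hfaith D a ha h5 (by rw [h4, hdeg])

end Cfsg.Agent.Helper20.S4705BLK
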