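import Mathlib
import Cfsg.Agent.Helper1.S4503Defs
import Cfsg.Agent.Helper20.S4705BLKe
import Cfsg.Agent.Helper11.D1QCc
import Cfsg.Agent.Helper23.D1QI
import Cfsg.Agent.Helper5.D1QS

/-!
# S4503, piece PSIAN, part a: a faithful character has a constituent `μ θ` with `μ` non-trivial
-/

set_option autoImplicit false

namespace Cfsg.Agent.Helper20.S4503PSIAN

open Cfsg Cfsg.Agent.Helper24 Cfsg.Agent.Helper8.D1 Cfsg.Agent.S4705P Cfsg.Agent.Helper11.D1QC

universe u

variable {G : Type u} [Group G] [Finite G]

/-- if `P` is not in the kernel of `ψ` then `ψ|_C` has a constituent `μ θ` with `μ` non-trivial -/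
theorem exists_nt_constituent (p : ℕ) [Fact p.Prime] (P : Sylow p G) (hP : Nat.card P = p)
    (ψ : IrrCharacter G)
    (hnot : ¬ ∀ x : Subgroup.centralizer ((P : Subgroup G) : Set G), (x : G) ∈ (P : Subgroup G) →
      (ψ : G → ℂ) x = (ψ : G → ℂ) 1) :
    ∃ (θ : IrrCharacter (Subgroup.centralizer ((P : Subgroup G) : Set G)))
      (μ : Subgroup.centralizer ((P : Subgroup G) : Set G) → ℂ),
      (∀ x : Subgroup.centralizer ((P : Subgroup G) : Set G), (x : G) ∈ (P : Subgroup G) →
        (θ : Subgroup.centralizer ((P : Subgroup G) : Set G) → ℂ) x =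
          (θ : Subgroup.centralizer ((P : Subgroup G) : Set G) → ℂ) 1) ∧
      NT p μ ∧
      mult (Subgroup.centralizer ((P : Subgroup G) : Set G))
        (fun c => μ c * (θ : Subgroup.centralizer ((P : Subgroup G) : Set G) → ℂ) c)
        (ψ : G → ℂ) ≠ 0 := by
  classical
  by_contra hcon
  push Not at hcon
  apply hnot
  have hp : p.Prime := Fact.out
  obtain ⟨hZ, hZc, hZi⟩ := Cfsg.Agent.Helper18.D1QO.subgroupOf_facts P hP
  have hcardL0 : Nat.card (Lty p (P : Subgroup G)) = p :=
    Cfsg.Agent.Helper11.D1QL.card_pLin _ hZ hZc hZi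
  have : Finite (Lty p (P : Subgroup G)) :=
    Nat.finite_of_card_ne_zero (by rw [hcardL0]; exact hp.ne_zero)
  let _ : Fintype (Subgroup.centralizer ((P : Subgroup G) : Set G)) := Fintype.ofFinite _
  have : Fintype (IrrCharacter (Subgroup.centralizer ((P : Subgroup G) : Set G))) :=
    Fintype.ofFinite _
  have : Fintype (Lty p (P : Subgroup G)) := Fintype.ofFinite _
  have : Fintype (Tty (P : Subgroup G)) := Fintype.ofFinite _
  have hres : IsCharacter (Subgroup.centralizer ((P : Subgroup G) : Set G))
      (fun c : Subgroup.centralizer ((P : Subgroup G) : Set G) => (ψ : G → ℂ) c) :=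
    Cfsg.Agent.Helper8.isCharacter_restrict _ (IsIrrCharacter.isCharacter ψ.2)
  set one : Lty p (P : Subgroup G) := ⟨fun _ => 1, isPLin_one p⟩ with hone
  -- the expansion of `ψ` on `C`
  have hexp : ∀ c : Subgroup.centralizer ((P : Subgroup G) : Set G), (ψ : G → ℂ) c =
      ∑ θ' : Tty (P : Subgroup G),
        classInner (fun c : Subgroup.centralizer ((P : Subgroup G) : Set G) => (ψ : G → ℂ) c)
          (mulIrr one θ'.1 : Subgroup.centralizer ((P : Subgroup G) : Set G) → ℂ) *
          (θ'.1 : Subgroup.centralizer ((P : Subgroup G) : Set G) → ℂ) c := by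
    intro c
    have h1 := congrFun (IsCharacter.eq_sum_classInner hres) c
    simp only [Finset.sum_apply, Pi.smul_apply, smul_eq_mul] at h1
    rw [sum_irr_eq_sum_prod P hP] at h1
    rw [h1]
    refine Finset.sum_congr rfl fun θ' _ => ?_
    rw [Finset.sum_eq_single one]
    · congr 1
      show (1 : ℂ) * _ = _
      rw [one_mul]
    · intro μ _ hμ
      have hnt : NT p μ.1 := by
        refine ⟨μ.2, ?_⟩
        by_contra hno
        push Not at hno
        apply hμ
        apply Subtype.ext
        funext x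
        exact hno x
      have hθ'P : ∀ x : Subgroup.centralizer ((P : Subgroup G) : Set G),
          (x : G) ∈ (P : Subgroup G) →
          (θ'.1 : Subgroup.centralizer ((P : Subgroup G) : Set G) → ℂ) x =
            (θ'.1 : Subgroup.centralizer ((P : Subgroup G) : Set G) → ℂ) 1 :=
        fun x hx => θ'.2 x (Subgroup.mem_subgroupOf.mpr hx)
      have h2 := hcon θ'.1 μ.1 hθ'P hnt
      rw [mult_eq] at h2
      have h3 : classInner
          (fun c : Subgroup.centralizer ((P : Subgroup G) : Set G) => (ψ : G → ℂ) c)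
          (mulIrr μ θ'.1 : Subgroup.centralizer ((P : Subgroup G) : Set G) → ℂ) = 0 := h2
      rw [h3, zero_mul]
    · intro h
      exact absurd (Finset.mem_univ _) h
  intro x hx
  have h1 := hexp x
  have h2 := hexp 1
  simp only [Subgroup.coe_one] at h2
  rw [h1, h2]
  refine Finset.sum_congr rfl fun θ' _ => ?_
  rw [θ'.2 x (Subgroup.mem_subgroupOf.mpr hx)]

end Cfsg.Agent.Helper20.S4503PSIAN
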