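import Mathlib
import Cfsg.Agent.Helper20.S4503PSIANa

/-!
# S4503, piece PSIAN, part b: the defect-one data for a prescribed root character `θ`
-/

set_option autoImplicit false
set_option maxHeartbeats 800000

namespace Cfsg.Agent.Helper20.S4503PSIAN

open Cfsg Cfsg.Agent.Helper24 Cfsg.Agent.Helper5 Cfsg.Agent.Helper5.Loc Cfsg.Agent.Helper5.CC
  Cfsg.Agent.Helper5.D1Q Cfsg.Agent.Helper8.D1 Cfsg.Agent.Helper20.S4705BLK

universe u

theorem exists_coreData_of_theta {G : Type u} [Group G] [Finite G] (p : ℕ) [hr : Fact p.Prime]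
    (M : Ideal AlgInt) (hM : IsPModular p M)
    (P : Sylow p G) (hP : Nat.card P = p) (ζ : IrrCharacter G) (hζ : ¬ p ∣ irrDeg ζ)
    (B : Set (IrrCharacter G))
    (b : Set (IrrCharacter (Subgroup.centralizer ((P : Subgroup G) : Set G))))
    (hind : IsInducedBlock M (Subgroup.centralizer ((P : Subgroup G) : Set G)) b B)
    (hζB : ζ ∈ B)
    (θ : IrrCharacter (Subgroup.centralizer ((P : Subgroup G) : Set G))) (hθ : θ ∈ b)
    (hθP : ∀ x : Subgroup.centralizer ((P : Subgroup G) : Set G), (x : G) ∈ (P : Subgroup G) →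
      (θ : Subgroup.centralizer ((P : Subgroup G) : Set G) → ℂ) x =
        (θ : Subgroup.centralizer ((P : Subgroup G) : Set G) → ℂ) 1) :
    ∃ D : CoreData p P ζ, D.θ = θ ∧ D.B = B := by
  classical
  have : Fintype G := Fintype.ofFinite G
  let _ : Fintype (IrrCharacter G) := Fintype.ofFinite _
  have hMp := isPrime_of_isPModular hM
  have hcardR : Nat.card P = p ^ (Nat.card G).factorization p := P.card_eq_multiplicity
  have hfac : (Nat.card G).factorization p = 1 := by
    rw [hP] at hcardR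
    have h1 : p ^ 1 = p ^ (Nat.card G).factorization p := by rw [pow_one]; exact hcardR
    exact (Nat.pow_right_injective hr.out.two_le h1).symm
  have h0 : Nat.card G ≠ 0 := Nat.card_pos.ne'
  have hdiv : p ∣ Nat.card G := (hr.out.dvd_iff_one_le_factorization h0).mpr (by omega)
  have hsq : ¬ p ^ 2 ∣ Nat.card G := fun h => by
    have := (hr.out.pow_dvd_iff_le_factorization h0).mp h
    omega
  have hB : IsPBlock M B := hind.2.1
  have hζdeg : charDegree (ζ : G → ℂ) = irrDeg ζ := charDegree_irr ζ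
  have hd : 0 < blockDefect p B := by
    unfold blockDefect
    have h1 : sInf ((fun ψ : IrrCharacter G => (charDegree (ψ : G → ℂ)).factorization p) '' B) = 0 := by
      apply Nat.eq_zero_of_le_zero
      apply Nat.sInf_le
      refine ⟨ζ, hζB, ?_⟩
      show (charDegree (ζ : G → ℂ)).factorization p = 0
      rw [hζdeg]
      exact Nat.factorization_eq_zero_of_not_dvd hζ
    rw [h1, Nat.sub_zero, hfac]
    exact Nat.one_pos
  have hBP : IsDefectGroup p M B P := isDefectGroup_sylow_of_pos hM hdiv hsq P B hB hd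
  obtain ⟨T, hT⟩ := Cfsg.Agent.Helper18.D1QT0.exists_stab (P : Subgroup G)
    (θ : Subgroup.centralizer ((P : Subgroup G) : Set G) → ℂ)
  obtain ⟨hediv, hef, hBcard, Ψ, ε, w, hε, hΨB, hΨconj, hwΨ, hwX, hwO, hDΨ, hDw, -, hYcard,
    hdegX, hdegY, hrel⟩ :=
    core p M hM P hP B hB hBP b hind θ hθ hθP T hT _ _ rfl rfl
  have hTN : T ≤ Subgroup.normalizer ((P : Subgroup G) : Set G) := fun g hg => ((hT g).mp hg).1
  have hCT : Subgroup.centralizer ((P : Subgroup G) : Set G) ≤ T := by
    intro g hg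
    rw [hT]
    refine ⟨Subgroup.centralizer_le_normalizer _ hg, ?_⟩
    intro c c' hcc'
    have h1 : c' = ⟨g, hg⟩ * c * (⟨g, hg⟩ : Subgroup.centralizer ((P : Subgroup G) : Set G))⁻¹ :=
      Subtype.ext (by rw [hcc']; rfl)
    rw [h1]
    exact isClassFunction_irr θ c ⟨g, hg⟩
  obtain ⟨-, R, -, -, -, -, hR4⟩ :=
    Cfsg.Agent.Helper18.D1QO.exists_orbit_reps P hP T hCT hTN
  obtain ⟨hfdiv, -⟩ :=
    Cfsg.Agent.Helper18.D1QO.exists_orbit_reps P hP (Subgroup.normalizer ((P : Subgroup G) : Set G))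
      (Subgroup.centralizer_le_normalizer _) le_rfl
  refine ⟨⟨θ, T, B, Ψ, ε, w, _, _, hζB, hθP, hT, rfl, rfl, hediv, hef, hfdiv, hBcard, hε, hΨB,
    hΨconj, hwΨ, hwX, hwO, hDΨ, hDw, hYcard, ?_, ?_, ?_, ?_⟩, rfl, rfl⟩
  · intro χ hχ hne
    have := hdegX χ hχ hne
    rw [charDegree_irr, charDegree_irr] at this
    exact this
  · intro μ hμ
    have := hdegY μ hμ
    rw [charDegree_irr, charDegree_irr] at this
    exact this
  · intro μ hμ x hx
    rw [finsum_eq_sum_of_fintype]
    exact hrel μ hμ x hx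
  · intro μ hμ
    exact hR4 μ hμ.1 hμ.2

end Cfsg.Agent.Helper20.S4503PSIAN
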