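import Mathlib
import Cfsg.Agent.Helper20.S4503PSIANb

/-!
# S4503, piece PSIAN, part c: orbits of `T` on the non-trivial `p`-linear characters
-/

set_option autoImplicit false

namespace Cfsg.Agent.Helper20.S4503PSIAN

open Cfsg Cfsg.Agent.Helper24 Cfsg.Agent.Helper8.D1 Cfsg.Agent.S4705P Cfsg.Agent.Helper8.W2p
  Cfsg.Agent.Helper20.S4705BLK

universe u

variable {G : Type u} [Group G] [Finite G] {p : ℕ} [Fact p.Prime] (P : Sylow p G)

/-- an orbit of length `n` misses a non-trivial `p`-linear character iff `n < p - 1` -/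
theorem orbit_lt_iff (hP : Nat.card P = p) (T : Subgroup G)
    (μ : Subgroup.centralizer ((P : Subgroup G) : Set G) → ℂ) (hμ : NT p μ) (n : ℕ)
    (hcard : Nat.card {ν : Subgroup.centralizer ((P : Subgroup G) : Set G) → ℂ //
      TConj (P : Subgroup G) T μ ν} = n) :
    n < p - 1 ↔ ∃ ν, NT p ν ∧ ¬ TConj (P : Subgroup G) T μ ν := by
  classical
  have hp : p.Prime := Fact.out
  have := finite_PL P hP
  let _ : Fintype (PL P) := Fintype.ofFinite _
  set O : Finset (PL P) := Finset.univ.filter (fun ν : PL P => TConj (P : Subgroup G) T μ ν.1)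
    with hO
  have hOcard : O.card = n := by
    rw [← hcard, ← Fintype.card_coe, ← Nat.card_eq_fintype_card]
    refine Nat.card_congr ⟨fun ν => ⟨ν.1.1, ?_⟩, fun ν => ⟨⟨ν.1, (ν.2.nt hμ).1⟩, ?_⟩, ?_, ?_⟩
    · exact (Finset.mem_filter.1 ν.2).2
    · exact Finset.mem_filter.2 ⟨Finset.mem_univ _, ν.2⟩
    · intro ν; rfl
    · intro ν; rfl
  have hsub : O ⊆ Finset.univ.erase (onePL P) := by
    intro ν hν
    have h1 := (Finset.mem_filter.1 hν).2
    have h2 := h1.nt hμ
    exact Finset.mem_erase.mpr ⟨(nt_iff_ne_one P ν).mp h2, Finset.mem_univ _⟩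
  have hE : (Finset.univ.erase (onePL P)).card = p - 1 := by
    rw [Finset.card_erase_of_mem (Finset.mem_univ _), Finset.card_univ, ← Nat.card_eq_fintype_card,
      card_PL P hP]
  constructor
  · intro hlt
    have h1 : O.card < (Finset.univ.erase (onePL P)).card := by rw [hOcard, hE]; exact hlt
    obtain ⟨ν, hν, hνO⟩ := Finset.exists_mem_notMem_of_card_lt_card h1
    refine ⟨ν.1, (nt_iff_ne_one P ν).mpr (Finset.ne_of_mem_erase hν), ?_⟩
    intro hc
    exact hνO (Finset.mem_filter.2 ⟨Finset.mem_univ _, hc⟩)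
  · rintro ⟨ν, hν, hc⟩
    have hssub : O ⊂ Finset.univ.erase (onePL P) := by
      refine Finset.ssubset_iff_subset_ne.mpr ⟨hsub, ?_⟩
      intro heq
      have h1 : (⟨ν, hν.1⟩ : PL P) ∈ Finset.univ.erase (onePL P) :=
        Finset.mem_erase.mpr ⟨(nt_iff_ne_one P ⟨ν, hν.1⟩).mp hν, Finset.mem_univ _⟩
      rw [← heq] at h1
      exact hc (Finset.mem_filter.1 h1).2
    have := Finset.card_lt_card hssub
    rwa [hOcard, hE] at this

/-- the sum of the multiplicities is at least the number of characters with positive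
multiplicity, in the crude form needed below: all `a μ ≥ 1` gives `Σ ≥ p` -/
theorem p_le_sum (hP : Nat.card P = p)
    (a : (Subgroup.centralizer ((P : Subgroup G) : Set G) → ℂ) → ℕ)
    (h : ∀ μ : PL P, 1 ≤ a μ.1) : p ≤ ∑ᶠ μ : PL P, a μ.1 := by
  classical
  have := finite_PL P hP
  let _ : Fintype (PL P) := Fintype.ofFinite _
  rw [finsum_eq_sum_of_fintype]
  calc p = ∑ _μ : PL P, 1 := by
        rw [Finset.sum_const, Finset.card_univ, ← Nat.card_eq_fintype_card, card_PL P hP,
          smul_eq_mul, mul_one]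
    _ ≤ ∑ μ : PL P, a μ.1 := Finset.sum_le_sum fun μ _ => h μ

/-- congruent natural numbers below `p` are equal -/
theorem eq_of_modEq_lt {p x y : ℕ} (hx : x < p) (hy : y < p)
    (h : (x : ℤ) ≡ (y : ℤ) [ZMOD p]) : x = y := by
  have h1 : x ≡ y [MOD p] := Int.natCast_modEq_iff.mp h
  exact Nat.ModEq.eq_of_lt_of_lt h1 hx hy

end Cfsg.Agent.Helper20.S4503PSIAN
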