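import Mathlib
import Cfsg.Agent.Helper20.S4503PSIANc

/-!
# S4503, piece PSIAN: the analysis of `Helper8.D1.core` for the block of a faithful irreducible
character `ψ` of degree `< (p - 1)/2`
-/

set_option autoImplicit false
set_option maxHeartbeats 1000000

namespace Cfsg.Agent.S4503P

open Cfsg Cfsg.Agent.Helper24 Cfsg.Agent.Helper8.D1 Cfsg.Agent.S4705P Cfsg.Agent.Helper8.W2p
  Cfsg.Agent.Helper20.S4705BLK Cfsg.Agent.Helper20.S4503PSIAN Cfsg.Agent.Helper5 Cfsg.Agent.Helper5.D1Q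
  Cfsg.Agent.Helper5.Loc Cfsg.Agent.Helper5.CC
open scoped ComplexConjugate

universe u

variable {G : Type u} [Group G] [Finite G]

theorem psi_analysis (p : ℕ) [Fact p.Prime] (P : Sylow p G) (hP : Nat.card P = p)
    (hnn : ¬ (P : Subgroup G).Normal) (ψ : IrrCharacter G)
    (hfaith : ∀ g : G, (ψ : G → ℂ) g = (ψ : G → ℂ) 1 → g = 1)
    (hdeg : 2 * irrDeg ψ + 1 < p) :
    ∃ (θ : IrrCharacter (Subgroup.centralizer ((P : Subgroup G) : Set G)))
      (μ₁ μ₂ : Subgroup.centralizer ((P : Subgroup G) : Set G) → ℂ) (ψ₂ : IrrCharacter G),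
      (∀ x : Subgroup.centralizer ((P : Subgroup G) : Set G), (x : G) ∈ (P : Subgroup G) →
        (θ : Subgroup.centralizer ((P : Subgroup G) : Set G) → ℂ) x =
          (θ : Subgroup.centralizer ((P : Subgroup G) : Set G) → ℂ) 1) ∧
      NT p μ₁ ∧ NT p μ₂ ∧
      ¬ TConj (P : Subgroup G) (Subgroup.normalizer ((P : Subgroup G) : Set G)) μ₁ μ₂ ∧
      (∀ g : G, ¬ p ∣ orderOf g → (ψ₂ : G → ℂ) g = (ψ : G → ℂ) g) ∧
      mult (Subgroup.centralizer ((P : Subgroup G) : Set G))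
        (fun c => μ₁ c * (θ : Subgroup.centralizer ((P : Subgroup G) : Set G) → ℂ) c)
        (ψ : G → ℂ) ≠ 0 ∧
      mult (Subgroup.centralizer ((P : Subgroup G) : Set G))
        (fun c => μ₂ c * (θ : Subgroup.centralizer ((P : Subgroup G) : Set G) → ℂ) c)
        (ψ₂ : G → ℂ) ≠ 0 ∧
      irrDeg ψ = fN (P : Subgroup G) * irrDeg θ := by
  classical
  have hp : p.Prime := Fact.out
  have hd1 : 1 ≤ irrDeg ψ := irrDeg_pos ψ
  have hζ : ¬ p ∣ irrDeg ψ := fun h => by
    have := Nat.le_of_dvd hd1 h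
    omega
  have hPC : (P : Subgroup G) ≤ Subgroup.centralizer ((P : Subgroup G) : Set G) :=
    Cfsg.Agent.Helper1.D1PA.le_centralizer P hP
  -- `P` is not in the kernel of `ψ`
  have hnot : ¬ ∀ x : Subgroup.centralizer ((P : Subgroup G) : Set G),
      (x : G) ∈ (P : Subgroup G) → (ψ : G → ℂ) x = (ψ : G → ℂ) 1 := by
    intro h
    have h1 : ∀ x ∈ (P : Subgroup G), x = 1 := fun x hx => hfaith x (h ⟨x, hPC hx⟩ hx)
    have h2 : (P : Subgroup G) = ⊥ := (Subgroup.eq_bot_iff_forall _).mpr h1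
    have h3 : Nat.card (P : Subgroup G) = 1 := by rw [h2]; exact Subgroup.card_bot
    have h4 : Nat.card P = 1 := h3
    have := hp.two_le
    omega
  obtain ⟨θ, μ', hθP, hμ', hne'⟩ := exists_nt_constituent p P hP ψ hnot
  obtain ⟨M, hM⟩ := Cfsg.Agent.Helper24.exists_isPModular p hp
  have hMp := isPrime_of_isPModular hM
  obtain ⟨B, hind⟩ := Cfsg.Agent.Helper23.D1QI.exists_induced hM P hP θ
  have hθb : θ ∈ blockOf M (θ : Subgroup.centralizer ((P : Subgroup G) : Set G) → ℂ) :=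
    mem_blockOf_self hMp θ
  obtain ⟨a, ha⟩ := exists_mult_nat P θ ψ
  have ha' : 1 ≤ a μ' := by
    rcases Nat.eq_zero_or_pos (a μ') with h | h
    · exfalso
      apply hne'
      rw [ha μ' hμ'.1, h]
      simp
    · exact h
  have ht1 : 1 ≤ irrDeg θ := irrDeg_pos θ
  -- `ψ` lies in the induced block
  have hψB : ψ ∈ B := by
    by_contra hψ
    obtain ⟨T, hT⟩ := Cfsg.Agent.Helper18.D1QT0.exists_stab (P : Subgroup G)
      (θ : Subgroup.centralizer ((P : Subgroup G) : Set G) → ℂ)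
    have hbound := blk_orbit_bound p P hP θ hθP T hT ψ a ha
    have hk1 : 1 ≤ T.relIndex (Subgroup.normalizer ((P : Subgroup G) : Set G)) :=
      Nat.pos_of_ne_zero (by unfold Subgroup.relIndex; exact Subgroup.index_ne_zero_of_finite)
    have h0 : ∀ μ, IsPLin p μ → a μ = a (fun _ => 1) := by
      intro μ hμ
      have h1 := Cfsg.Agent.Helper5.D1Q.Dnum_eq_zero_of_not_mem hM P hP _ B hind θ hθb μ hμ ψ hψ
      rw [Dnum_eq_mult, ha μ hμ] at h1
      have h2 := ha (fun _ => 1) (isPLin_one p)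
      have h3 : (fun c : Subgroup.centralizer ((P : Subgroup G) : Set G) =>
          (1 : ℂ) * (θ : Subgroup.centralizer ((P : Subgroup G) : Set G) → ℂ) c) =
          (θ : Subgroup.centralizer ((P : Subgroup G) : Set G) → ℂ) := by
        funext c; rw [one_mul]
      rw [h3] at h2
      rw [h2] at h1
      have h4 : ((a μ : ℕ) : ℂ) = (a (fun _ => 1) : ℂ) := sub_eq_zero.mp h1
      exact_mod_cast h4
    have h1 : ∀ μ : PL P, 1 ≤ a μ.1 := by
      intro μ
      rw [h0 μ.1 μ.2, ← h0 μ' hμ'.1]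
      exact ha'
    have h2 := p_le_sum P hP a h1
    have h3 : ∑ᶠ μ : PL P, a μ.1 ≤ irrDeg ψ := by
      calc ∑ᶠ μ : PL P, a μ.1 = 1 * (1 * ∑ᶠ μ : PL P, a μ.1) := by rw [one_mul, one_mul]
        _ ≤ T.relIndex (Subgroup.normalizer ((P : Subgroup G) : Set G)) *
            (irrDeg θ * ∑ᶠ μ : PL P, a μ.1) :=
          Nat.mul_le_mul hk1 (Nat.mul_le_mul_right _ ht1)
        _ ≤ irrDeg ψ := hbound
    omega
  obtain ⟨D, hDθ, -⟩ := exists_coreData_of_theta p M hM P hP ψ hζ B _ hind hψB θ hθb hθP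
  have ha2 : ∀ μ, IsPLin p μ → mult (Subgroup.centralizer ((P : Subgroup G) : Set G))
      (fun c => μ c * (D.θ : Subgroup.centralizer ((P : Subgroup G) : Set G) → ℂ) c) (ψ : G → ℂ) =
        (a μ : ℂ) := by
    rw [hDθ]
    exact ha
  have hbound := blk_orbit_bound p P hP D.θ D.θP D.T D.hT ψ a ha2
  rw [relIndex_T_N P D] at hbound
  have hp1 : 0 < p - 1 := by have := hp.two_le; omega
  have hepos : 0 < D.e := Nat.pos_of_dvd_of_pos D.e_dvd hp1
  have hele : D.e ≤ p - 1 := Nat.le_of_dvd hp1 D.e_dvd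
  have hfe : D.f / D.e * D.e = D.f := Nat.div_mul_cancel D.e_dvd_f
  have hfpos : 0 < D.f := Nat.pos_of_dvd_of_pos D.f_dvd hp1
  have hk1 : 1 ≤ D.f / D.e := by
    rcases Nat.eq_zero_or_pos (D.f / D.e) with h | h
    · rw [h, zero_mul] at hfe
      omega
    · exact h
  have ht1' : 1 ≤ irrDeg D.θ := irrDeg_pos D.θ
  set Sn : ℕ := ∑ᶠ μ : PL P, a μ.1 with hSn
  have hSle : Sn ≤ irrDeg ψ := by
    calc Sn = 1 * (1 * Sn) := by rw [one_mul, one_mul]
      _ ≤ D.f / D.e * (irrDeg D.θ * Sn) := Nat.mul_le_mul hk1 (Nat.mul_le_mul_right _ ht1')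
      _ ≤ irrDeg ψ := hbound
  have hSleZ : (Sn : ℤ) ≤ (irrDeg ψ : ℤ) := by exact_mod_cast hSle
  have hdegZ : 2 * (irrDeg ψ : ℤ) + 1 < (p : ℤ) := by exact_mod_cast hdeg
  have hpZ : (0 : ℤ) < (p : ℤ) := by exact_mod_cast hp.pos
  have ha1Z : (0 : ℤ) ≤ (a (fun _ => 1) : ℤ) := Int.natCast_nonneg _
  have ha'Z : (1 : ℤ) ≤ (a μ' : ℤ) := by exact_mod_cast ha'
  have heZ : (D.e : ℤ) ≤ (p : ℤ) - 1 := by
    have : ((D.e : ℕ) : ℤ) ≤ ((p - 1 : ℕ) : ℤ) := by exact_mod_cast hele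
    rwa [Nat.cast_sub hp.one_le, Nat.cast_one] at this
  have hμ'ne : (⟨μ', hμ'.1⟩ : PL P) ≠ onePL P := (nt_iff_ne_one P ⟨μ', hμ'.1⟩).mp hμ'
  by_cases hex : ∃ μ₀, NT p μ₀ ∧ ψ = D.Ψ μ₀
  · obtain ⟨μ₀, hμ₀, hψ⟩ := hex
    obtain ⟨hS, hconj, hnconj⟩ := sum_exc P hP D a ha2 μ₀ hμ₀ hψ
    rw [← hSn] at hS
    have hμ₀ne : (⟨μ₀, hμ₀.1⟩ : PL P) ≠ onePL P := (nt_iff_ne_one P ⟨μ₀, hμ₀.1⟩).mp hμ₀
    rcases D.ε_pm with hε | hε
    · -- `ε = 1`: the good case
      rw [hε, mul_one] at hS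
      have ha10 : a (fun _ => 1) = 0 := by
        by_contra hne0
        have h1 : (1 : ℤ) ≤ (a (fun _ => 1) : ℤ) := by
          have : 1 ≤ a (fun _ => 1) := Nat.one_le_iff_ne_zero.mpr hne0
          exact_mod_cast this
        have h2 : (p : ℤ) * 1 ≤ (p : ℤ) * (a (fun _ => 1) : ℤ) :=
          mul_le_mul_of_nonneg_left h1 hpZ.le
        have h3 : (0 : ℤ) ≤ (D.e : ℤ) := Int.natCast_nonneg _
        linarith
      have hμ'conj : TConj (P : Subgroup G) D.T μ₀ μ' := by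
        by_contra hc
        have h1 := hnconj ⟨μ', hμ'.1⟩ hμ'ne hc
        rw [ha10] at h1
        simp only [Nat.cast_zero] at h1
        linarith
      have hψμ' : D.Ψ μ' = ψ := ((D.Ψ_conj μ₀ μ' hμ₀ hμ').mpr hμ'conj).symm.trans hψ.symm
      have hSe : Sn = D.e := by
        rw [ha10] at hS
        simp only [Nat.cast_zero, mul_zero, zero_add] at hS
        exact_mod_cast hS
      rw [hSe] at hbound
      have hft : D.f * irrDeg D.θ ≤ irrDeg ψ := by
        calc D.f * irrDeg D.θ = D.f / D.e * (irrDeg D.θ * D.e) := by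
              rw [← hfe]
              rw [Nat.mul_div_cancel _ hepos]
              ring
          _ ≤ irrDeg ψ := hbound
      have hcong : (irrDeg ψ : ℤ) ≡ ((D.f * irrDeg D.θ : ℕ) : ℤ) [ZMOD p] := by
        have h := D.deg_Y μ₀ hμ₀
        rw [← hψ, hε, one_mul] at h
        exact h
      have hdeq : irrDeg ψ = D.f * irrDeg D.θ :=
        eq_of_modEq_lt (by omega) (by omega) hcong
      have hfN : fN (P : Subgroup G) = D.f := D.hf
      have hflt : D.f < p - 1 := by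
        have : D.f ≤ D.f * irrDeg D.θ := Nat.le_mul_of_pos_right _ ht1'
        omega
      obtain ⟨-, R, -, -, -, -, hR4⟩ :=
        Cfsg.Agent.Helper18.D1QO.exists_orbit_reps P hP
          (Subgroup.normalizer ((P : Subgroup G) : Set G))
          (Subgroup.centralizer_le_normalizer _) le_rfl
      have hNorb : Nat.card {ν : Subgroup.centralizer ((P : Subgroup G) : Set G) → ℂ //
          TConj (P : Subgroup G) (Subgroup.normalizer ((P : Subgroup G) : Set G)) μ' ν} = D.f := by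
        rw [← D.hf]
        exact hR4 μ' hμ'.1 hμ'.2
      obtain ⟨μ₂, hμ₂, hnc⟩ := (orbit_lt_iff P hP _ μ' hμ' D.f hNorb).mp hflt
      refine ⟨D.θ, μ', μ₂, D.Ψ μ₂, D.θP, hμ', hμ₂, hnc, ?_, ?_, ?_, ?_⟩
      · intro g hg
        have h1 := D.rel μ' hμ' g hg
        have h2 := D.rel μ₂ hμ₂ g hg
        rw [hψμ', hε] at h1
        rw [hε] at h2
        push_cast at h1 h2
        linear_combination h2 - h1
      · rw [hDθ]
        exact hne'
      · obtain ⟨a₂, ha₂⟩ := exists_mult_nat P D.θ (D.Ψ μ₂)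
        intro h0
        have h1 := D.D_Ψ μ₂ hμ₂
        rw [Dnum_eq_mult, h0, hε] at h1
        have h2 := ha₂ (fun _ => 1) (isPLin_one p)
        have h3 : (fun c : Subgroup.centralizer ((P : Subgroup G) : Set G) =>
            (1 : ℂ) * (D.θ : Subgroup.centralizer ((P : Subgroup G) : Set G) → ℂ) c) =
            (D.θ : Subgroup.centralizer ((P : Subgroup G) : Set G) → ℂ) := by
          funext c; rw [one_mul]
        rw [h3] at h2
        rw [h2] at h1
        have h4 : ((a₂ (fun _ => 1) : ℤ) : ℂ) = ((-1 : ℤ) : ℂ) := by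
          push_cast
          linear_combination -h1
        have h5 : (a₂ (fun _ => 1) : ℤ) = -1 := by exact_mod_cast h4
        have h6 : (0 : ℤ) ≤ (a₂ (fun _ => 1) : ℤ) := Int.natCast_nonneg _
        omega
      · rw [hfN]
        exact hdeq
    · -- `ε = -1`
      exfalso
      rw [hε] at hS
      have hμ₀a := hconj ⟨μ₀, hμ₀.1⟩ hμ₀ne (TConj.refl _ _ _)
      rw [hε] at hμ₀a
      have h0 : (0 : ℤ) ≤ (a μ₀ : ℤ) := Int.natCast_nonneg _
      simp only at hμ₀a
      have ha1 : (1 : ℤ) ≤ (a (fun _ => 1) : ℤ) := by linarith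
      by_cases ha2' : (2 : ℤ) ≤ (a (fun _ => 1) : ℤ)
      · have h2 : (p : ℤ) * 2 ≤ (p : ℤ) * (a (fun _ => 1) : ℤ) :=
          mul_le_mul_of_nonneg_left ha2' hpZ.le
        linarith
      · have ha1' : (a (fun _ => 1) : ℤ) = 1 := by omega
        have hc : ¬ TConj (P : Subgroup G) D.T μ₀ μ' := by
          intro hc
          have h1 := hconj ⟨μ', hμ'.1⟩ hμ'ne hc
          rw [hε, ha1'] at h1
          simp only at h1
          linarith
        have helt : D.e < p - 1 :=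
          (orbit_lt_iff P hP D.T μ₀ hμ₀ D.e (D.orb μ₀ hμ₀)).mpr ⟨μ', hμ', hc⟩
        obtain ⟨c, hc'⟩ := D.e_dvd
        have hc2 : 2 ≤ c := by
          rcases c with _ | _ | c
          · omega
          · omega
          · omega
        have h2e : 2 * D.e ≤ p - 1 := by
          rw [hc']
          calc 2 * D.e = D.e * 2 := by ring
            _ ≤ D.e * c := Nat.mul_le_mul_left _ hc2
        have h2eZ : 2 * (D.e : ℤ) ≤ (p : ℤ) - 1 := by
          have : ((2 * D.e : ℕ) : ℤ) ≤ ((p - 1 : ℕ) : ℤ) := by exact_mod_cast h2e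
          rw [Nat.cast_sub hp.one_le] at this
          push_cast at this
          exact this
        rw [ha1'] at hS
        linarith
  · exfalso
    push Not at hex
    have hne : ∀ μ, NT p μ → ψ ≠ D.Ψ μ := fun μ hμ h => hex μ hμ h
    have hS := sum_nonexc P hP D a ha2 hne
    rw [← hSn] at hS
    have hμ'w : (a μ' : ℤ) = (a (fun _ => 1) : ℤ) + D.w ψ := by
      have h1 := mult_sub_eq_Dnum P D ψ a ha2 μ' hμ'.1
      rw [D.D_w μ' hμ' ψ (hne μ' hμ')] at h1
      have h2 : ((a μ' : ℤ) : ℂ) = (((a (fun _ => 1) : ℤ) + D.w ψ : ℤ) : ℂ) := by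
        push_cast
        linear_combination h1
      exact_mod_cast h2
    rcases D.w_X ψ D.mem hne with hw | hw
    · rw [hw] at hS
      have h2 : (0 : ℤ) ≤ (p : ℤ) * (a (fun _ => 1) : ℤ) := mul_nonneg hpZ.le ha1Z
      linarith
    · rw [hw] at hS hμ'w
      have ha2' : (2 : ℤ) ≤ (a (fun _ => 1) : ℤ) := by linarith
      have h2 : (p : ℤ) * 2 ≤ (p : ℤ) * (a (fun _ => 1) : ℤ) :=
        mul_le_mul_of_nonneg_left ha2' hpZ.le
      linarith

end Cfsg.Agent.S4503P
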