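import Mathlib
import Cfsg.Agent.Helper20.S4503PSIANb
import Cfsg.Agent.Helper8.S4503FZ
import Cfsg.Agent.Helper8.S4503VAL
import Cfsg.Agent.Helper23.S4503LIN
import Cfsg.Agent.Helper5.S4503KER
import Cfsg.Agent.S0936

/-!
# S4503, piece B0ASM: the defect-one data of the principal block
-/

set_option autoImplicit false
set_option maxHeartbeats 1000000

namespace Cfsg.Agent.S4503P

open Cfsg Cfsg.Agent.Helper24 Cfsg.Agent.Helper8.D1 Cfsg.Agent.S4705P Cfsg.Agent.Helper8.W2p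
  Cfsg.Agent.Helper20.S4705BLK Cfsg.Agent.Helper20.S4503PSIAN Cfsg.Agent.Helper5 Cfsg.Agent.Helper5.D1Q
  Cfsg.Agent.Helper5.Loc Cfsg.Agent.Helper5.CC
open scoped ComplexConjugate

universe u

variable {G : Type u} [Group G] [Finite G]

theorem exists_b0Data (p : ℕ) [Fact p.Prime] (P : Sylow p G) (hP : Nat.card P = p) :
    Nonempty (B0Data p P) := by
  classical
  have hp : p.Prime := Fact.out
  obtain ⟨M, hM⟩ := Cfsg.Agent.Helper24.exists_isPModular p hp
  have hMp := isPrime_of_isPModular hM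
  let _ : Fintype (IrrCharacter G) := Fintype.ofFinite _
  -- the principal block of `C` induces the principal block of `G`
  set θ₁ : IrrCharacter (Subgroup.centralizer ((P : Subgroup G) : Set G)) := trivIrr _ with hθ₁
  obtain ⟨B', hind'⟩ := Cfsg.Agent.Helper23.D1QI.exists_induced hM P hP θ₁
  have hb : blockOf M (θ₁ : Subgroup.centralizer ((P : Subgroup G) : Set G) → ℂ) =
      principalBlock M (Subgroup.centralizer ((P : Subgroup G) : Set G)) := rfl
  have hind : IsInducedBlock M (Subgroup.centralizer ((P : Subgroup G) : Set G))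
      (blockOf M (θ₁ : Subgroup.centralizer ((P : Subgroup G) : Set G) → ℂ))
      (principalBlock M G) :=
    (Cfsg.Agent.S0936.result p M hM _ _ ⟨B', hind'⟩).mpr hb
  have hθb : θ₁ ∈ blockOf M (θ₁ : Subgroup.centralizer ((P : Subgroup G) : Set G) → ℂ) :=
    mem_blockOf_self hMp θ₁
  have hθP : ∀ x : Subgroup.centralizer ((P : Subgroup G) : Set G), (x : G) ∈ (P : Subgroup G) →
      (θ₁ : Subgroup.centralizer ((P : Subgroup G) : Set G) → ℂ) x =
        (θ₁ : Subgroup.centralizer ((P : Subgroup G) : Set G) → ℂ) 1 := fun _ _ => rfl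
  have hζB : trivIrr G ∈ principalBlock M G := mem_blockOf_self hMp (trivIrr G)
  have hζdeg : irrDeg (trivIrr G) = 1 := by
    have h1 := irrDeg_spec (trivIrr G)
    rw [trivIrr_apply] at h1
    exact_mod_cast h1.symm
  have hζ : ¬ p ∣ irrDeg (trivIrr G) := by
    rw [hζdeg]
    exact hp.one_lt.not_ge ∘ Nat.le_of_dvd Nat.one_pos
  obtain ⟨D, hDθ, hDB⟩ := exists_coreData_of_theta p M hM P hP (trivIrr G) hζ _ _ hind hζB θ₁ hθb hθP
  -- `T = N`
  have hTeq : D.T = Subgroup.normalizer ((P : Subgroup G) : Set G) := by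
    ext g
    rw [D.hT g, hDθ]
    exact ⟨fun h => h.1, fun h => ⟨h, fun _ _ _ => rfl⟩⟩
  have hef : D.e = D.f := by
    rw [← D.he, ← D.hf, hTeq]
  have hfN : fN (P : Subgroup G) = D.f := D.hf
  have hp1 : 0 < p - 1 := by have := hp.two_le; omega
  have hepos : 0 < D.e := Nat.pos_of_dvd_of_pos D.e_dvd hp1
  -- the non-exceptional characters
  set X : Finset (IrrCharacter G) :=
    Finset.univ.filter (fun χ => χ ∈ D.B ∧ ∀ μ, NT p μ → χ ≠ D.Ψ μ) with hX
  set Bf : Finset (IrrCharacter G) := Finset.univ.filter (fun χ => χ ∈ D.B) with hBf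
  set Yf : Finset (IrrCharacter G) := Finset.univ.filter (fun χ => ∃ μ, NT p μ ∧ χ = D.Ψ μ) with hYf
  have hBfcard : Bf.card = D.e + (p - 1) / D.e := by
    rw [← D.card_B, hBf, Nat.card_eq_fintype_card, Fintype.card_subtype]
  have hYfcard : Yf.card = (p - 1) / D.e := by
    rw [← D.card_Y, hYf, Nat.card_eq_fintype_card, Fintype.card_subtype]
  have hYB : Yf ⊆ Bf := by
    intro χ hχ
    obtain ⟨μ, hμ, rfl⟩ := (Finset.mem_filter.1 hχ).2
    exact Finset.mem_filter.2 ⟨Finset.mem_univ _, D.Ψ_mem μ hμ⟩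
  have hXeq : X = Bf \ Yf := by
    ext χ
    simp only [hX, hBf, hYf, Finset.mem_filter, Finset.mem_univ, true_and, Finset.mem_sdiff]
    constructor
    · rintro ⟨h1, h2⟩
      exact ⟨h1, fun ⟨μ, hμ, h⟩ => h2 μ hμ h⟩
    · rintro ⟨h1, h2⟩
      exact ⟨h1, fun μ hμ h => h2 ⟨μ, hμ, h⟩⟩
  have hXcard : X.card = fN (P : Subgroup G) := by
    rw [hXeq, Finset.card_sdiff_of_subset hYB, hBfcard, hYfcard, hfN, ← hef]
    omega
  have hXB : ∀ χ ∈ X, χ ∈ principalBlock M G := by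
    intro χ hχ
    rw [← hDB]
    exact (Finset.mem_filter.1 hχ).2.1
  have hmemB : ∀ χ : IrrCharacter G, (χ ∈ X ∨ ∃ μ, NT p μ ∧ χ = D.Ψ μ) →
      χ ∈ principalBlock M G := by
    rintro χ (h | ⟨μ, hμ, rfl⟩)
    · exact hXB χ h
    · rw [← hDB]
      exact D.Ψ_mem μ hμ
  -- the multiplicities
  have hθfun : (D.θ : Subgroup.centralizer ((P : Subgroup G) : Set G) → ℂ) =
      triv (Subgroup.centralizer ((P : Subgroup G) : Set G)) := by
    rw [hDθ]
    rfl
  have hdn : ∀ μ, IsPLin p μ → ∀ χ : IrrCharacter G,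
      Dnum (Subgroup.centralizer ((P : Subgroup G) : Set G)) μ
        (D.θ : Subgroup.centralizer ((P : Subgroup G) : Set G) → ℂ) (χ : G → ℂ) =
      (((multN (Subgroup.centralizer ((P : Subgroup G) : Set G)) μ (χ : G → ℂ) : ℤ) -
        multN (Subgroup.centralizer ((P : Subgroup G) : Set G)) (triv _) (χ : G → ℂ) : ℤ) : ℂ) := by
    intro μ hμ χ
    have hχc : IsCharacter G (χ : G → ℂ) := IsIrrCharacter.isCharacter χ.2
    rw [Dnum_eq_mult, hθfun]
    have h1 : (fun c : Subgroup.centralizer ((P : Subgroup G) : Set G) =>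
        μ c * triv (Subgroup.centralizer ((P : Subgroup G) : Set G)) c) = μ := by
      funext c
      show μ c * 1 = μ c
      rw [mul_one]
    rw [h1, ← multN_cast _ μ (isIrr_of_isPLin hμ) _ hχc,
      ← multN_cast _ (triv _) (isIrr_of_isPLin (isPLin_one p)) _ hχc]
    push_cast
    rfl
  have hZ : ∀ χ : IrrCharacter G, χ ∈ principalBlock M G →
      ∀ φ : IrrCharacter (Subgroup.centralizer ((P : Subgroup G) : Set G)),
      (∀ x : Subgroup.centralizer ((P : Subgroup G) : Set G), (x : G) ∈ (P : Subgroup G) →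
        (φ : Subgroup.centralizer ((P : Subgroup G) : Set G) → ℂ) x =
          (φ : Subgroup.centralizer ((P : Subgroup G) : Set G) → ℂ) 1) →
      (∃ c, (φ : Subgroup.centralizer ((P : Subgroup G) : Set G) → ℂ) c ≠ 1) →
      ∀ μ, IsPLin p μ → Dnum (Subgroup.centralizer ((P : Subgroup G) : Set G)) μ
        (φ : Subgroup.centralizer ((P : Subgroup G) : Set G) → ℂ) (χ : G → ℂ) = 0 :=
    fun χ hχ φ hφP hφ μ hμ => dnum_eq_zero_of_ne_triv p M hM P hP χ hχ φ hφP hφ μ hμ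
  refine ⟨⟨X, D.Ψ, D.ε, D.w, D.ε_pm, hXcard, ?_, ?_, ?_, ?_, ?_, ?_, ?_, ?_⟩⟩
  · intro χ hχ
    exact D.w_X χ (Finset.mem_filter.1 hχ).2.1 (Finset.mem_filter.1 hχ).2.2
  · intro χ hχ
    by_cases hB : χ ∈ D.B
    · have h1 : ¬ ∀ μ, NT p μ → χ ≠ D.Ψ μ := fun h =>
        hχ (Finset.mem_filter.2 ⟨Finset.mem_univ _, hB, h⟩)
      push Not at h1
      obtain ⟨μ, hμ, rfl⟩ := h1
      exact D.w_Ψ μ hμ
    · exact D.w_out χ hB
  · intro μ hμ h
    exact (Finset.mem_filter.1 h).2.2 μ hμ rfl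
  · intro μ ν hμ hν
    rw [← hTeq]
    exact D.Ψ_conj μ ν hμ hν
  · intro μ hμ
    have h1 := D.D_Ψ μ hμ
    rw [hdn μ hμ.1] at h1
    exact_mod_cast h1
  · intro μ hμ χ hχ
    have h1 := D.D_w μ hμ χ hχ
    rw [hdn μ hμ.1] at h1
    exact_mod_cast h1
  · intro χ hχ c hc
    exact val_of_dnum_zero p P hP χ (hZ χ (hmemB χ hχ)) c hc
  · intro χ hχ h0
    exact ker_of_dnum_zero p P hP χ (hZ χ (hmemB χ hχ)) h0

end Cfsg.Agent.S4503P
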