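import Mathlib
import Cfsg.Agent.Helper9.S5650.Defs
import Cfsg.Agent.Helper9.S5650.Lib
import Cfsg.Agent.Helper28.SpFrames
import Cfsg.Agent.Helper28.SpMax

/-! S5650 piece TRANSF (helper20): Witt's theorem over the subfield `F₀`: the rational symplectic
group is transitive on the rational isotropic frames. -/

set_option autoImplicit false

namespace Cfsg.Agent.S5650P

open Matrix Cfsg.Agent.Helper28

variable {F : Type*} [Field F] {m : ℕ}

namespace TRANSF

/-- the symplectic form commutes with the inclusion of the subfield -/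
theorem sympForm_coe (F₀ : Subfield F) (u v : Fin m ⊕ Fin m → ↥F₀) :
    ((Cfsg.sympForm m ↥F₀ u v : ↥F₀) : F) =
      Cfsg.sympForm m F (fun i => (u i : F)) (fun i => (v i : F)) := by
  rw [sympForm_explicit, sympForm_explicit]
  push_cast
  rfl

/-- `J` is rational -/
theorem J_map (F₀ : Subfield F) :
    (Matrix.J (Fin m) ↥F₀).map F₀.subtype = Matrix.J (Fin m) F := by
  ext i j
  rcases i with i | i <;> rcases j with j | j <;>
    simp [Matrix.J, Matrix.one_apply, apply_ite]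

/-- the scalar extension of a symplectic matrix is symplectic -/
theorem map_mem (F₀ : Subfield F) (A : Matrix (Fin m ⊕ Fin m) (Fin m ⊕ Fin m) ↥F₀)
    (hA : A ∈ Matrix.symplecticGroup (Fin m) ↥F₀) :
    A.map F₀.subtype ∈ Matrix.symplecticGroup (Fin m) F := by
  rw [SymplecticGroup.mem_iff] at hA ⊢
  have := congrArg (fun B => B.map F₀.subtype) hA
  simp only [Matrix.map_mul, J_map] at this
  rw [Matrix.transpose_map] at this
  exact this

/-- linear independence descends to the subfield -/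
theorem linIndep_descend (F₀ : Subfield F) {k : ℕ} (x₀ : Fin k → (Fin m ⊕ Fin m → ↥F₀))
    (h : LinearIndependent F (fun i => (fun j => ((x₀ i j : ↥F₀) : F)) : Fin k → Vec m F)) :
    LinearIndependent ↥F₀ x₀ := by
  rw [Fintype.linearIndependent_iff] at h ⊢
  intro c hc i
  have h1 := h (fun i => (c i : F)) ?_ i
  · exact_mod_cast h1
  · funext j
    have := congrArg (fun w => ((w j : ↥F₀) : F)) hc
    simp only [Finset.sum_apply, Pi.smul_apply, smul_eq_mul, Pi.zero_apply] at this ⊢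
    push_cast at this
    exact this

end TRANSF

open TRANSF in
theorem TRANSF.exists_rat_sp (F₀ : Subfield F) {k : ℕ} (x y : Fin k → Vec m F)
    (hx : ∀ i, Rat F₀ (x i)) (hy : ∀ i, Rat F₀ (y i))
    (hxi : LinearIndependent F x) (hyi : LinearIndependent F y)
    (hxo : ∀ i j, om (x i) (x j) = 0) (hyo : ∀ i j, om (y i) (y j) = 0) :
    ∃ g : GLm m F, RatM F₀ (g : Mat m F) ∧ g ∈ Cfsg.spGL m F ∧ ∀ i, (g : Mat m F) *ᵥ x i = y i := by
  set x₀ : Fin k → (Fin m ⊕ Fin m → ↥F₀) := fun i j => ⟨x i j, hx i j⟩ with hx₀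
  set y₀ : Fin k → (Fin m ⊕ Fin m → ↥F₀) := fun i j => ⟨y i j, hy i j⟩ with hy₀
  have hx₀i : LinearIndependent ↥F₀ x₀ := linIndep_descend F₀ x₀ hxi
  have hy₀i : LinearIndependent ↥F₀ y₀ := linIndep_descend F₀ y₀ hyi
  have hx₀o : ∀ i j, Cfsg.sympForm m ↥F₀ (x₀ i) (x₀ j) = 0 := by
    intro i j
    apply Subtype.ext
    rw [sympForm_coe]
    exact hxo i j
  have hy₀o : ∀ i j, Cfsg.sympForm m ↥F₀ (y₀ i) (y₀ j) = 0 := by
    intro i j
    apply Subtype.ext
    rw [sympForm_coe]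
    exact hyo i j
  obtain ⟨g₀, hg₀⟩ := SpFrames.exists_smul_eq (F := ↥F₀) (m := m) (k := k)
    ⟨x₀, hx₀i, hx₀o⟩ ⟨y₀, hy₀i, hy₀o⟩
  set A : Matrix.symplecticGroup (Fin m) F := ⟨g₀.1.map F₀.subtype, map_mem F₀ g₀.1 g₀.2⟩ with hA
  refine ⟨SpMax.toGL A, ?_, SpMax.toGL_mem A, ?_⟩
  · intro i j
    rw [SpMax.toGL_val]
    exact (g₀.1 i j).2
  · intro i
    rw [SpMax.toGL_val]
    have h1 : (g₀ : Matrix _ _ ↥F₀) *ᵥ x₀ i = y₀ i := by
      have := congrArg (fun z : SpFrames.Fr ↥F₀ m k => z.1 i) hg₀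
      exact this
    funext j
    have h2 := RingHom.map_mulVec F₀.subtype g₀.1 (x₀ i) j
    rw [h1] at h2
    exact h2.symm

end Cfsg.Agent.S5650P
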