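import Cfsg.Agent.Helper1.S5665.Lib
import Cfsg.Agent.Helper5.S5700EXK
import Cfsg.Agent.Helper25.S5700DUAL
import Cfsg.Agent.Helper2.FieldBasics

set_option autoImplicit false
set_option linter.unusedSectionVars false
set_option linter.unusedVariables false

/-! # S5665 piece RNORM: the normaliser of `K = F[δ]` is `{g | g δ = ± δ g}` -/

namespace Cfsg.Agent.S5665P

open Matrix Module Cfsg.Agent.Helper2.Sp Cfsg.Agent.Helper28.Sg Cfsg.Agent.S5700P

variable {F : Type*} [Field F] [Fintype F] {m : ℕ}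
  {δ : Matrix (Fin m ⊕ Fin m) (Fin m ⊕ Fin m) F} {d : F}

local notation "V" => (Fin m ⊕ Fin m → F)
local notation "Mat" => Matrix (Fin m ⊕ Fin m) (Fin m ⊕ Fin m) F
local notation "Sp" => Matrix.symplecticGroup (Fin m) F

theorem RNORM.smul_one_eq_zero (hm : 1 ≤ m) (s : F) (hs : s • (1 : Mat) = 0) : s = 0 := by
  have h := congrFun (congrFun hs (Sum.inl ⟨0, by omega⟩)) (Sum.inl ⟨0, by omega⟩)
  simpa using h

/-- `1, δ` are linearly independent -/
theorem RNORM.indep (hm : 1 ≤ m) (U : SData δ d) (s u : F) (h : s • (1 : Mat) + u • δ = 0) :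
    s = 0 ∧ u = 0 := by
  have hu : u = 0 := by
    by_contra hu
    have h3 : u • δ = -(s • (1 : Mat)) := eq_neg_of_add_eq_zero_right h
    have hδ : δ = (-(u⁻¹ * s)) • (1 : Mat) := by
      calc δ = u⁻¹ • (u • δ) := by rw [smul_smul, inv_mul_cancel₀ hu, one_smul]
        _ = (-(u⁻¹ * s)) • (1 : Mat) := by rw [h3, smul_neg, smul_smul, neg_smul]
    have hsq := U.sq
    rw [hδ, Matrix.smul_mul, Matrix.mul_smul, Matrix.one_mul, smul_smul] at hsq
    have h4 : ((-(u⁻¹ * s)) * (-(u⁻¹ * s)) - d) • (1 : Mat) = 0 := by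
      rw [sub_smul, hsq, sub_self]
    have h5 := RNORM.smul_one_eq_zero hm _ h4
    exact U.nonsq (-(u⁻¹ * s)) (sub_eq_zero.mp h5)
  refine ⟨?_, hu⟩
  rw [hu, zero_smul, add_zero] at h
  exact RNORM.smul_one_eq_zero hm s h

/-- an element of `K` with square `d` is `± δ` -/
theorem RNORM.root_cases (hm : 1 ≤ m) (h2 : (2 : F) ≠ 0) (U : SData δ d) (a b : F)
    (hsq : (a • (1 : Mat) + b • δ) * (a • (1 : Mat) + b • δ) = d • (1 : Mat)) :
    a • (1 : Mat) + b • δ = δ ∨ a • (1 : Mat) + b • δ = -δ := by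
  have hexp : (a • (1 : Mat) + b • δ) * (a • (1 : Mat) + b • δ) =
      (a * a + b * b * d) • (1 : Mat) + (2 * a * b) • δ := by
    simp only [Matrix.add_mul, Matrix.mul_add, Matrix.smul_mul, Matrix.mul_smul, Matrix.one_mul,
      Matrix.mul_one, U.sq]
    module
  rw [hexp] at hsq
  have h0 : (a * a + b * b * d - d) • (1 : Mat) + (2 * a * b) • δ = 0 := by
    rw [sub_smul, sub_add_eq_add_sub, hsq, sub_self]
  obtain ⟨h1, h3⟩ := RNORM.indep hm U _ _ h0
  have hd0 : d ≠ 0 := by
    intro hd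
    exact U.nonsq 0 (by rw [hd, mul_zero])
  have hab : a * b = 0 := by
    have : 2 * (a * b) = 0 := by linear_combination h3
    exact (mul_eq_zero.mp this).resolve_left h2
  rcases mul_eq_zero.mp hab with ha | hb
  · -- a = 0, b = ±1
    have hb2 : (b * b - 1) * d = 0 := by rw [ha] at h1; linear_combination h1
    have hb1 : (b - 1) * (b + 1) = 0 := by
      have := (mul_eq_zero.mp hb2).resolve_right hd0
      linear_combination this
    rcases mul_eq_zero.mp hb1 with hb | hb
    · left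
      have : b = 1 := by linear_combination hb
      rw [ha, this, zero_smul, zero_add, one_smul]
    · right
      have : b = -1 := by linear_combination hb
      rw [ha, this, zero_smul, zero_add, neg_smul, one_smul]
  · exfalso
    rw [hb] at h1
    apply U.nonsq a
    linear_combination h1

theorem RNORM.mem_iff (hm : 1 ≤ m) (h2 : (2 : F) ≠ 0) (U : SData δ d) (K : Subalgebra F Mat) (hδ : δ ∈ K)
    (hspan : ∀ k ∈ K, ∃ a b : F, k = a • (1 : Mat) + b • δ) (g : GL (Fin m ⊕ Fin m) F) :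
    g ∈ Cfsg.Geo.subalgebraNormalizer K ↔
      ((g : Mat) * δ = δ * (g : Mat) ∨ (g : Mat) * δ = -(δ * (g : Mat))) := by
  obtain ⟨Gm, hGm⟩ : ∃ Gm : Mat, Gm = (g : Mat) := ⟨_, rfl⟩
  obtain ⟨Gi, hGi⟩ : ∃ Gi : Mat, Gi = ((g⁻¹ : GL (Fin m ⊕ Fin m) F) : Mat) := ⟨_, rfl⟩
  have h1 : Gm * Gi = 1 := by rw [hGm, hGi, ← Units.val_mul, mul_inv_cancel, Units.val_one]
  have h2' : Gi * Gm = 1 := by rw [hGm, hGi, ← Units.val_mul, inv_mul_cancel, Units.val_one]
  rw [← hGm]
  constructor
  · intro hg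
    have hmem : Gm * δ * Gi ∈ K := by
      have := (hg δ).mp hδ
      rw [← hGm, ← hGi] at this
      exact this
    obtain ⟨a, b, hab⟩ := hspan _ hmem
    have hsq : (Gm * δ * Gi) * (Gm * δ * Gi) = d • (1 : Mat) := by
      calc (Gm * δ * Gi) * (Gm * δ * Gi) = Gm * δ * (Gi * Gm) * δ * Gi := by
            simp only [Matrix.mul_assoc]
        _ = Gm * (δ * δ) * Gi := by rw [h2', Matrix.mul_one]; simp only [Matrix.mul_assoc]
        _ = d • (1 : Mat) := by
            rw [U.sq, Matrix.mul_smul, Matrix.smul_mul, Matrix.mul_one, h1]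
    have hback : Gm * δ = (Gm * δ * Gi) * Gm := by
      rw [Matrix.mul_assoc (Gm * δ), h2', Matrix.mul_one]
    rw [hab] at hsq
    rcases RNORM.root_cases hm h2 U a b hsq with h | h
    · left
      rw [hback, hab, h]
    · right
      rw [hback, hab, h, Matrix.neg_mul]
  · intro h
    have hfw : Gm * δ * Gi ∈ K ∧ Gi * δ * Gm ∈ K := by
      rcases h with h | h
      · constructor
        · rw [h, Matrix.mul_assoc, h1, Matrix.mul_one]; exact hδ
        · rw [Matrix.mul_assoc, ← h, ← Matrix.mul_assoc, h2', Matrix.one_mul]; exact hδ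
      · constructor
        · rw [h, Matrix.neg_mul, Matrix.mul_assoc, h1, Matrix.mul_one]; exact K.neg_mem hδ
        · have h3 : δ * Gm = -(Gm * δ) := by rw [h, neg_neg]
          rw [Matrix.mul_assoc, h3, Matrix.mul_neg, ← Matrix.mul_assoc, h2', Matrix.one_mul]
          exact K.neg_mem hδ
    change ∀ k : Mat, k ∈ K ↔
      (g : Mat) * k * ((g⁻¹ : GL (Fin m ⊕ Fin m) F) : Mat) ∈ K
    rw [← hGm, ← hGi]
    intro k
    constructor
    · intro hk
      obtain ⟨a, b, rfl⟩ := hspan k hk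
      have h3 : Gm * (a • (1 : Mat) + b • δ) * Gi = a • (1 : Mat) + b • (Gm * δ * Gi) := by
        rw [Matrix.mul_add, Matrix.add_mul, Matrix.mul_smul, Matrix.mul_smul, Matrix.smul_mul,
          Matrix.smul_mul, Matrix.mul_one, h1]
      rw [h3]
      exact K.add_mem (K.smul_mem K.one_mem a) (K.smul_mem hfw.1 b)
    · intro hk
      obtain ⟨a, b, hab⟩ := hspan _ hk
      have h4 : k = a • (1 : Mat) + b • (Gi * δ * Gm) := by
        have h3 : k = Gi * (Gm * k * Gi) * Gm := by
          rw [Matrix.mul_assoc Gm k Gi, ← Matrix.mul_assoc Gi Gm, h2', Matrix.one_mul,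
            Matrix.mul_assoc, h2', Matrix.mul_one]
        rw [h3, hab, Matrix.mul_add, Matrix.add_mul, Matrix.mul_smul, Matrix.mul_smul,
          Matrix.smul_mul, Matrix.smul_mul, Matrix.mul_one, h2']
      rw [h4]
      exact K.add_mem (K.smul_mem K.one_mem a) (K.smul_mem hfw.2 b)

end Cfsg.Agent.S5665P
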