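import Mathlib
import Cfsg.Prelude.Def_GeometricClasses

set_option autoImplicit false
open scoped MatrixGroups Matrix

/-! # S6000 / S6001 (driver helper20): shared definitions.

`R ≤ GL_4(F)` a 2-group of symplectic type of order `2^6` with centre the scalars `{±1, ±ι}` (`ι² = -1`),
acting absolutely irreducibly; `N = Cfsg.Geo.subgroupNormalizer R`.  Everything is generic over the field `F`. -/

namespace Cfsg.Agent.S6000P

/-- `4 × 4` matrices -/
abbrev M4 (F : Type*) : Type _ := Matrix (Fin 4) (Fin 4) F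

/-- Element-level description of `R = 4 ∘ 2^{1+4}`: order 64, contains the scalar `ι` with `ι² = -1`,
squares and commutators in `{1, -1}`, absolutely irreducible (so the centre of `R` is `{±1, ±ι}`). -/
structure Hyp64 {F : Type*} [Field F] (R : Subgroup (GL (Fin 4) F)) (ι : F) : Prop where
  two_ne : (2 : F) ≠ 0
  iota_sq : ι * ι = -1
  card : Nat.card R = 64
  iota_mem : ∃ c ∈ R, (c : M4 F) = ι • (1 : M4 F)
  sq : ∀ a ∈ R, a * a = 1 ∨ a * a = -1
  comm : ∀ a ∈ R, ∀ b ∈ R, a * b = b * a ∨ a * b = -(b * a)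
  irr : Cfsg.Geo.ActsAbsolutelyIrreducibly (Cfsg.Geo.matrixSet R)

variable {F : Type*} [Field F]

/-- the commutant of a matrix -/
def commSub (y : M4 F) : Submodule F (M4 F) where
  carrier := {m | m * y = y * m}
  add_mem' := by
    intro a b ha hb
    simp only [Set.mem_setOf_eq] at ha hb ⊢
    rw [add_mul, mul_add, ha, hb]
  zero_mem' := by simp
  smul_mem' := by
    intro c a ha
    simp only [Set.mem_setOf_eq] at ha ⊢
    rw [Matrix.smul_mul, Matrix.mul_smul, ha]

theorem mem_commSub (y m : M4 F) : m ∈ commSub y ↔ m * y = y * m := Iff.rfl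

/-- the dimension of the commutant -/
noncomputable def cdim (y : M4 F) : ℕ := Module.finrank F (commSub y)

theorem coe_neg_one : ((-1 : GL (Fin 4) F) : M4 F) = -1 := rfl

theorem coe_neg (a : GL (Fin 4) F) : ((-a : GL (Fin 4) F) : M4 F) = -(a : M4 F) := rfl

theorem neg_one_ne_one (h2 : (2 : F) ≠ 0) : (-1 : GL (Fin 4) F) ≠ 1 := by
  intro h
  have h1 : ((-1 : GL (Fin 4) F) : M4 F) 0 0 = (1 : M4 F) 0 0 := by rw [h]; rfl
  rw [coe_neg_one] at h1
  simp only [Matrix.neg_apply, Matrix.one_apply_eq] at h1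
  apply h2
  linear_combination -h1

theorem neg_ne_self (h2 : (2 : F) ≠ 0) (a : GL (Fin 4) F) : -a ≠ a := by
  intro h
  apply neg_one_ne_one h2
  have : (-1 : GL (Fin 4) F) * a = 1 * a := by rw [neg_one_mul, one_mul, h]
  exact mul_right_cancel this

/-- scalar matrices are central -/
theorem scalar_comm (z : F) (M : M4 F) : (z • (1 : M4 F)) * M = M * (z • (1 : M4 F)) := by
  rw [Matrix.smul_mul, Matrix.mul_smul, Matrix.one_mul, Matrix.mul_one]

theorem gl_comm_of_scalar {y : GL (Fin 4) F} {z : F} (hy : (y : M4 F) = z • 1) (a : GL (Fin 4) F) :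
    y * a = a * y := by
  apply Units.ext
  rw [Units.val_mul, Units.val_mul, hy]
  exact scalar_comm z _

theorem conj_eq_of_scalar {y : GL (Fin 4) F} {z : F} (hy : (y : M4 F) = z • 1) (a : GL (Fin 4) F) :
    y * a * y⁻¹ = a := by
  rw [gl_comm_of_scalar hy a, mul_assoc, mul_inv_cancel, mul_one]

theorem mem_normalizer_iff' (R : Subgroup (GL (Fin 4) F)) (y : GL (Fin 4) F) :
    y ∈ Cfsg.Geo.subgroupNormalizer R ↔ ∀ a, a ∈ R ↔ y * a * y⁻¹ ∈ R := by
  unfold Cfsg.Geo.subgroupNormalizer
  rw [Subgroup.mem_normalizer_iff]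

theorem le_normalizer' (R : Subgroup (GL (Fin 4) F)) : R ≤ Cfsg.Geo.subgroupNormalizer R := by
  intro y hy
  rw [mem_normalizer_iff']
  intro a
  constructor
  · intro ha
    exact R.mul_mem (R.mul_mem hy ha) (R.inv_mem hy)
  · intro ha
    have := R.mul_mem (R.mul_mem (R.inv_mem hy) ha) hy
    have e : y⁻¹ * (y * a * y⁻¹) * y = a := by group
    rwa [e] at this

/-- scalars normalize `R` -/
theorem scalar_mem_normalizer (R : Subgroup (GL (Fin 4) F)) {y : GL (Fin 4) F} {z : F}
    (hy : (y : M4 F) = z • 1) : y ∈ Cfsg.Geo.subgroupNormalizer R := by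
  rw [mem_normalizer_iff']
  intro a
  rw [conj_eq_of_scalar hy a]

theorem mem_specialLinear_iff (x : GL (Fin 4) F) :
    x ∈ Cfsg.Geo.specialLinear (Fin 4) F ↔ (x : M4 F).det = 1 := by
  unfold Cfsg.Geo.specialLinear
  rw [MonoidHom.mem_ker]
  constructor
  · intro h
    have := congrArg Units.val h
    simpa using this
  · intro h
    apply Units.ext
    simpa using h

/-- a matrix commuting with `R` is scalar -/
theorem Hyp64.scalar_of_commute {R : Subgroup (GL (Fin 4) F)} {ι : F} (h : Hyp64 R ι) (M : M4 F)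
    (hM : ∀ a ∈ R, M * (a : M4 F) = (a : M4 F) * M) : ∃ c : F, M = c • (1 : M4 F) := by
  apply h.irr.2 M
  rintro s ⟨a, ha, rfl⟩
  exact hM a ha

end Cfsg.Agent.S6000P
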