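import Mathlib
import Cfsg.Prelude.Def_OddOrderLocal
import Cfsg.Agent.Lead.BG142a
import Cfsg.Agent.Helper5.FrobModH
import Cfsg.Agent.Helper20.BG15K
import Cfsg.Agent.Helper16.BG11b
import Cfsg.Agent.Helper10.BG16A
import Cfsg.Agent.Helper9.BG12a
import Cfsg.Agent.Helper9.BG12b

/-!
# B&G §13, towards `Tau3`: reduction to CONFIG A

`configA_of_pair` (helper10's reduction, msg 999 (1)–(3)): in the setting `E = E₃ ⋊ E₁` (complement
of `M_σ`), with `C_{M_σ}(e) = Y₀` for all `e ∈ E₃^#`, `Y₀ ≠ M_σ`, `E₁` acting in a prime manner on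
`M_σ`, if some subgroup `R₀ ≤ E₁` of prime order does not centralize some `T₀ ≤ E₃` of prime order
then `E₃ E₁` is a Frobenius group (every `k ∈ E₁^#` acts fixed point freely on `E₃`) and `|E₁|` is
prime.
-/

set_option autoImplicit false
set_option linter.unusedSectionVars false
set_option linter.unusedVariables false

namespace Cfsg.Agent.Helper20.BG13N

open Subgroup Cfsg
open Cfsg.Agent.Lead.BG142 (St1428)

universe u

variable {G : Type u} [Group G] [Finite G]

theorem centralizer_sup_eq (A B : Subgroup G) :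
    centralizer ((A ⊔ B : Subgroup G) : Set G) = centralizer (A : Set G) ⊓ centralizer (B : Set G) := by
  apply le_antisymm
  · apply le_inf
    · exact centralizer_le (by exact_mod_cast (le_sup_left : A ≤ A ⊔ B))
    · exact centralizer_le (by exact_mod_cast (le_sup_right : B ≤ A ⊔ B))
  · intro x hx
    rw [Subgroup.mem_inf] at hx
    have h1 : A ≤ centralizer ({x} : Set G) := by
      intro a ha
      rw [Subgroup.mem_centralizer_iff]
      intro y hy
      rw [Set.mem_singleton_iff] at hy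
      subst hy
      exact ((Subgroup.mem_centralizer_iff.mp hx.1) a ha).symm
    have h2 : B ≤ centralizer ({x} : Set G) := by
      intro a ha
      rw [Subgroup.mem_centralizer_iff]
      intro y hy
      rw [Set.mem_singleton_iff] at hy
      subst hy
      exact ((Subgroup.mem_centralizer_iff.mp hx.2) a ha).symm
    rw [Subgroup.mem_centralizer_iff]
    intro y hy
    have h3 := (sup_le h1 h2) hy
    rw [Subgroup.mem_centralizer_iff] at h3
    exact (h3 x rfl).symm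

theorem centralizer_zpowers_eq (x : G) :
    centralizer ((zpowers x : Subgroup G) : Set G) = centralizer ({x} : Set G) := by
  rw [Subgroup.zpowers_eq_closure, Subgroup.centralizer_closure]

/-- the centralizer of a subgroup of prime order is the centralizer of any of its nonidentity
elements -/
theorem centralizer_eq_of_card_prime {P : Subgroup G} (hP : (Nat.card P).Prime) {x : G}
    (hx : x ∈ P) (hx1 : x ≠ 1) : centralizer (P : Set G) = centralizer ({x} : Set G) := by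
  have := Cfsg.Agent.Helper16.BG11.zpowers_eq_of_card_prime hP rfl hx hx1
  rw [← this, centralizer_zpowers_eq]

theorem exists_mem_ne_one_of_ne_bot {H : Subgroup G} (h : H ≠ ⊥) : ∃ x ∈ H, x ≠ 1 := by
  by_contra hcon
  push Not at hcon
  exact h ((Subgroup.eq_bot_iff_forall H).mpr hcon)

/-- **Reduction to CONFIG A** -/
theorem configA_of_pair (hG : Cfsg.IsMinSimpleOddOrder G) (h1428 : St1428 G)
    {M E E3 E1 Y0 R0 T0 : Subgroup G} (hM : IsCoatom M)
    (hE : Cfsg.IsComplIn E (Cfsg.sigmaCore M) M) (hE3E : E3 ≤ E) (hE1E : E1 ≤ E)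
    (hE3n : E ≤ normalizer (E3 : Set G)) (hE3c : IsCyclic ↥E3)
    (hcopE : (Nat.card E).Coprime (Nat.card (Cfsg.sigmaCore M)))
    (hcop31 : (Nat.card E3).Coprime (Nat.card E1))
    (htau1 : ∀ r : ℕ, r.Prime → r ∣ Nat.card E1 → r ∈ Cfsg.tau1 M)
    (hF3 : ∀ e ∈ E3, e ≠ 1 → Cfsg.sigmaCore M ⊓ centralizer ({e} : Set G) = Y0)
    (hY0 : Y0 ≠ Cfsg.sigmaCore M)
    (hF4 : ∀ x ∈ E1, x ≠ 1 → Cfsg.sigmaCore M ⊓ centralizer ({x} : Set G)
      = Cfsg.sigmaCore M ⊓ centralizer (E1 : Set G))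
    (hR0 : R0 ≤ E1) (hR0p : (Nat.card R0).Prime) (hT0 : T0 ≤ E3) (hT0p : (Nat.card T0).Prime)
    (hpair : ¬ R0 ≤ centralizer (T0 : Set G)) :
    (∀ k ∈ E1, k ≠ 1 → E3 ⊓ centralizer ({k} : Set G) = ⊥) ∧ (Nat.card E1).Prime := by
  have hMsolv : Group.IsSolvable M := hG.2.2.2 M hM.1
  have hEM : E ≤ M := hE.1
  have hNsolv : Group.IsSolvable (Cfsg.sigmaCore M) :=
    Cfsg.Agent.Lead.isSolvable_of_le (Cfsg.Agent.H9.BG12.sigmaCore_le M) hMsolv
  have hEN : E ≤ normalizer (Cfsg.sigmaCore M : Set G) :=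
    hEM.trans (Cfsg.Agent.H9.BG12.le_normalizer_sigmaCore M)
  set C1 := Cfsg.sigmaCore M ⊓ centralizer (E1 : Set G) with hC1
  obtain ⟨r0, hr0, hr01⟩ := Cfsg.Agent.Helper16.BG11.exists_mem_ne_one_of_card_prime hR0p rfl
  obtain ⟨t0, ht0, ht01⟩ := Cfsg.Agent.Helper16.BG11.exists_mem_ne_one_of_card_prime hT0p rfl
  have hCR0 : Cfsg.sigmaCore M ⊓ centralizer (R0 : Set G) = C1 := by
    rw [centralizer_eq_of_card_prime hR0p hr0 hr01]
    exact hF4 r0 (hR0 hr0) hr01
  have hCT0 : Cfsg.sigmaCore M ⊓ centralizer (T0 : Set G) = Y0 := by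
    rw [centralizer_eq_of_card_prime hT0p ht0 ht01]
    exact hF3 t0 (hT0 ht0) ht01
  have hY0le : Y0 ≤ Cfsg.sigmaCore M := hCT0 ▸ inf_le_left
  -- the Frobenius formula for `T0 R0` on `M_σ`
  have hT0n : E ≤ normalizer (T0 : Set G) :=
    hE3n.trans (Cfsg.Agent.H9.BG12.normalizer_le_normalizer_of_isCyclic hE3c hT0)
  have hUn : ∀ e ∈ R0, ∀ u ∈ T0, e * u * e⁻¹ ∈ T0 := by
    intro e he u hu
    exact (Subgroup.mem_normalizer_iff.mp (hT0n (hE1E (hR0 he))) u).mp hu
  have hfpf : ∀ e ∈ R0, e ≠ 1 → ∀ u ∈ T0, e * u = u * e → u = 1 := by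
    intro e he he1 u hu hcomm
    by_contra hu1
    apply hpair
    rw [centralizer_eq_of_card_prime hT0p hu hu1,
      ← Cfsg.Agent.Helper16.BG11.zpowers_eq_of_card_prime hR0p rfl he he1, Subgroup.zpowers_le,
      Subgroup.mem_centralizer_iff]
    intro y hy
    rw [Set.mem_singleton_iff] at hy
    subst hy
    exact hcomm.symm
  have hTRE : T0 ⊔ R0 ≤ E := sup_le (hT0.trans hE3E) (hR0.trans hE1E)
  have hinv : ∀ x ∈ T0 ⊔ R0, ∀ h ∈ Cfsg.sigmaCore M, x * h * x⁻¹ ∈ Cfsg.sigmaCore M := by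
    intro x hx h hh
    exact (Subgroup.mem_normalizer_iff.mp (hEN (hTRE hx)) h).mp hh
  have hcopTR : Nat.Coprime (Nat.card (Cfsg.sigmaCore M)) (Nat.card ↥(T0 ⊔ R0)) :=
    (Nat.Coprime.coprime_dvd_left (Subgroup.card_dvd_of_le hTRE) hcopE).symm
  have hform := Cfsg.Agent.Helper5.FrobMod.frobenius_fixed_point_formula T0 R0 hUn hfpf
    (Cfsg.sigmaCore M) hinv hNsolv hcopTR
  rw [hCR0, hCT0, centralizer_sup_eq, ← inf_assoc, hCT0] at hform
  -- FACT 1
  have hfact : ∀ k ∈ E1, k ≠ 1 → E3 ⊓ centralizer ({k} : Set G) = ⊥ := by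
    intro k hk hk1
    by_contra hne
    obtain ⟨e, he, he1⟩ := exists_mem_ne_one_of_ne_bot hne
    rw [Subgroup.mem_inf] at he
    obtain ⟨R', hR'le, hR'p⟩ := Cfsg.Agent.Helper10.BG16.exists_prime_card_le_zpowers he1
    obtain ⟨P, hPle, hPp⟩ := Cfsg.Agent.Helper10.BG16.exists_prime_card_le_zpowers hk1
    have hPE1 : P ≤ E1 := hPle.trans (Subgroup.zpowers_le.mpr hk)
    have hs' : Nat.card P ∈ Cfsg.tau1 M := htau1 _ hPp (Subgroup.card_dvd_of_le hPE1)
    have hR'E3 : R' ≤ E3 := hR'le.trans (Subgroup.zpowers_le.mpr he.1)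
    have hR'cP : R' ≤ centralizer (P : Set G) := by
      have h1 : zpowers e ≤ centralizer ((zpowers k : Subgroup G) : Set G) := by
        rw [centralizer_zpowers_eq, Subgroup.zpowers_le]
        exact he.2
      exact hR'le.trans (h1.trans (centralizer_le (by exact_mod_cast hPle)))
    have h := h1428 M hM E hE (Nat.card P) hs' P (hPE1.trans hE1E) rfl R'
      (le_inf (hR'E3.trans hE3E) hR'cP) hR'p
    obtain ⟨x, hx, hx1⟩ := Cfsg.Agent.Helper16.BG11.exists_mem_ne_one_of_card_prime hPp rfl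
    obtain ⟨y, hy, hy1⟩ := Cfsg.Agent.Helper16.BG11.exists_mem_ne_one_of_card_prime hR'p rfl
    rw [centralizer_eq_of_card_prime hPp hx hx1, centralizer_eq_of_card_prime hR'p hy hy1,
      hF4 x (hPE1 hx) hx1, hF3 y (hR'E3 hy) hy1] at h
    -- so `C1 ≤ Y0`
    have hinf : Y0 ⊓ C1 = C1 := inf_eq_right.mpr h
    have hinf' : Y0 ⊓ centralizer (R0 : Set G) = C1 := by
      apply le_antisymm
      · rw [← hCR0]
        exact le_inf (inf_le_left.trans hY0le) inf_le_right
      · rw [← hCR0]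
        exact le_inf (hCR0 ▸ h) inf_le_right
    rw [hinf'] at hform
    have hpos : 0 < Nat.card ↥C1 ^ Nat.card ↥R0 := Nat.pow_pos Nat.card_pos
    have hcard : Nat.card (Cfsg.sigmaCore M) = Nat.card Y0 := Nat.eq_of_mul_eq_mul_left hpos hform
    exact hY0 (Subgroup.eq_of_le_of_card_ge hY0le hcard.le)
  refine ⟨hfact, ?_⟩
  have hE3ne : E3 ≠ ⊥ := by
    intro h
    apply ht01
    have : t0 ∈ (⊥ : Subgroup G) := h ▸ hT0 ht0
    exact Subgroup.mem_bot.mp this
  have hE1ne : E1 ≠ ⊥ := by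
    intro h
    apply hr01
    have : r0 ∈ (⊥ : Subgroup G) := h ▸ hR0 hr0
    exact Subgroup.mem_bot.mp this
  have h31E : E3 ⊔ E1 ≤ E := sup_le hE3E hE1E
  have hodd : Odd (Nat.card ↥(E3 ⊔ E1)) :=
    Odd.of_dvd_nat hG.1 (Subgroup.card_subgroup_dvd_card _)
  have hnc : ¬ E3 ≤ centralizer (Cfsg.sigmaCore M : Set G) := by
    intro hc
    apply hY0
    rw [← hF3 t0 (hT0 ht0) ht01]
    apply inf_eq_left.mpr
    have h1 : t0 ∈ centralizer (Cfsg.sigmaCore M : Set G) := hc (hT0 ht0)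
    intro m hm
    rw [Subgroup.mem_centralizer_iff]
    intro y hy
    rw [Set.mem_singleton_iff] at hy
    subst hy
    exact ((Subgroup.mem_centralizer_iff.mp h1) m hm).symm
  exact Cfsg.Agent.Helper20.BG15K.prime_of_frobenius_on_solvable E3 E1 (Cfsg.sigmaCore M) hE3ne hE1ne
    (hE1E.trans hE3n) (hE3E.trans hEN) (hE1E.trans hEN) hfact
    (Cfsg.Agent.Lead.isSolvable_of_le (h31E.trans hEM) hMsolv) hodd hNsolv hcop31
    (Nat.Coprime.coprime_dvd_left (Subgroup.card_dvd_of_le h31E) hcopE) hnc hF4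

end Cfsg.Agent.Helper20.BG13N
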