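import Mathlib
import Cfsg.Prelude.Def_OddOrderLocal
import Cfsg.Agent.Helper20.BG13N
import Cfsg.Agent.Helper28.BG11SIG
import Cfsg.Agent.Helper21.BG12h
import Cfsg.Agent.Lead.CoprimeSylow
import Cfsg.Agent.Helper7.RankSylow
import Cfsg.Agent.Helper19.Cores
import Cfsg.Agent.S1414
import Cfsg.Agent.S1426

/-!
# B&G §13, towards `Tau3`: the configuration BAD1 is impossible

`not_bad1` (helper10 msg 1003 / helper20 msg 1013): in the setting `E = E₃ E₁` (complement of `M_σ`),
`C_{M_σ}(e) = Y₀ ≠ 1` for all `e ∈ E₃^#`, `E₁` acting in a prime manner on `M_σ`, there is no pair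
`R₀ ≤ E₁`, `T₀ ≤ E₃` of subgroups of prime order with `[T₀, R₀] ≠ 1` and `[Y₀, R₀] = 1`.
-/

set_option autoImplicit false
set_option linter.unusedSectionVars false
set_option linter.unusedVariables false
set_option linter.style.haveILetI false

namespace Cfsg.Agent.Helper20.BG13N

open Subgroup Cfsg

universe u

section abstract

variable {N : Type*} [Group N] [Finite N]

/-- In a group with a normal `p`-complement (and order divisible by `p`) a Sylow `p`-subgroup is not
contained in the derived subgroup. -/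
theorem not_le_commutator_of_hasNormalPComplement {p : ℕ} [hp : Fact p.Prime]
    (h : Cfsg.HasNormalPComplement p N) (hpd : p ∣ Nat.card N) (P : Sylow p N) :
    ¬ (P : Subgroup N) ≤ _root_.commutator N := by
  obtain ⟨P0, K, hKn, hc⟩ := h
  intro hle
  have hcard1 : Nat.card K * Nat.card (P0 : Subgroup N) = Nat.card N := hc.card_mul_card
  have hcard2 : Nat.card N = Nat.card (N ⧸ K) * Nat.card K :=
    Subgroup.card_eq_card_quotient_mul_card_subgroup K
  have hKpos : 0 < Nat.card K := Nat.card_pos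
  have hq : Nat.card (N ⧸ K) = Nat.card (P0 : Subgroup N) := by
    have : Nat.card K * Nat.card (N ⧸ K) = Nat.card K * Nat.card (P0 : Subgroup N) := by
      rw [hcard1, hcard2, mul_comm]
    exact Nat.eq_of_mul_eq_mul_left hKpos this
  have hP0 : Nat.card (P0 : Subgroup N) = p ^ (Nat.card N).factorization p := P0.card_eq_multiplicity
  have hfac : 1 ≤ (Nat.card N).factorization p :=
    (hp.out.dvd_iff_one_le_factorization Nat.card_pos.ne').mp hpd
  have hpg : IsPGroup p (N ⧸ K) := IsPGroup.of_card (hq.trans hP0)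
  have hnt : Nontrivial (N ⧸ K) := by
    rw [← Finite.one_lt_card_iff_nontrivial, hq, hP0]
    exact Nat.one_lt_pow (by omega) hp.out.one_lt
  have hnil : Group.IsNilpotent (N ⧸ K) := hpg.isNilpotent
  have hlt : _root_.commutator (N ⧸ K) < ⊤ := Group.IsSolvable.commutator_lt_top_of_nontrivial (N ⧸ K)
  set D : Subgroup N := (_root_.commutator (N ⧸ K)).comap (QuotientGroup.mk' K) with hD
  have hcD : _root_.commutator N ≤ D := by
    rw [hD, ← Subgroup.map_le_iff_le_comap, commutator_def, Subgroup.map_commutator, commutator_def]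
    exact Subgroup.commutator_mono le_top le_top
  have hidx : D.index = (_root_.commutator (N ⧸ K)).index :=
    Subgroup.index_comap_of_surjective _ (QuotientGroup.mk'_surjective K)
  have hidx1 : D.index ≠ 1 := by
    rw [hidx]
    intro h1
    exact hlt.ne (Subgroup.index_eq_one.mp h1)
  have hdvd : D.index ∣ p ^ (Nat.card N).factorization p := by
    rw [hidx, ← hP0, ← hq]
    exact Subgroup.index_dvd_card _
  obtain ⟨j, -, hj⟩ := (Nat.dvd_prime_pow hp.out).mp hdvd
  have hj0 : j ≠ 0 := by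
    intro h0
    rw [h0, pow_zero] at hj
    exact hidx1 hj
  have hpD : p ∣ D.index := by
    rw [hj]
    exact dvd_pow_self p hj0
  have h2 : D.index ∣ (P : Subgroup N).index := Subgroup.index_dvd_of_le (hle.trans hcD)
  exact P.not_dvd_index (hpD.trans h2)

end abstract

variable {G : Type u} [Group G] [Finite G]

/-- a subgroup containing a Sylow `p`-subgroup of `A` for every prime `p` contains `A` -/
theorem le_of_forall_sylow_le {A C : Subgroup G}
    (h : ∀ (p : ℕ) [Fact p.Prime] (P : Sylow p A), (P : Subgroup A).map A.subtype ≤ C) : A ≤ C := by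
  have hdvd : Nat.card A ∣ Nat.card ↥(A ⊓ C) := by
    rw [← Nat.factorization_prime_le_iff_dvd Nat.card_pos.ne' Nat.card_pos.ne']
    intro p hp
    haveI : Fact p.Prime := ⟨hp⟩
    obtain ⟨P⟩ : Nonempty (Sylow p A) := inferInstance
    have h1 : (P : Subgroup A).map A.subtype ≤ A ⊓ C := le_inf (Subgroup.map_subtype_le _) (h p P)
    have h2 : Nat.card ((P : Subgroup A).map A.subtype) = p ^ (Nat.card A).factorization p := by
      rw [Subgroup.card_map_of_injective A.subtype_injective]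
      exact P.card_eq_multiplicity
    have h3 : p ^ (Nat.card A).factorization p ∣ Nat.card ↥(A ⊓ C) := h2 ▸ Subgroup.card_dvd_of_le h1
    exact (hp.pow_dvd_iff_le_factorization Nat.card_pos.ne').mp h3
  have hle : Nat.card A ≤ Nat.card ↥(A ⊓ C) := Nat.le_of_dvd Nat.card_pos hdvd
  have : A ⊓ C = A := Subgroup.eq_of_le_of_card_ge inf_le_left hle
  exact this ▸ inf_le_right

/-- `M_σ ≤ M_α` when every prime divisor of `|M_σ|` lies in `α(M)`. -/
theorem sigmaCore_le_alphaCore_of_forall {M : Subgroup G}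
    (h : ∀ q : ℕ, q.Prime → q ∣ Nat.card (Cfsg.sigmaCore M) → q ∈ Cfsg.alpha M) :
    Cfsg.sigmaCore M ≤ Cfsg.alphaCore M := by
  unfold Cfsg.alphaCore
  have h0 : Nat.card (Cfsg.sigmaCore M) = Nat.card (Cfsg.piCore (Cfsg.sigma M) ↥M) := by
    unfold Cfsg.sigmaCore
    exact Subgroup.card_map_of_injective M.subtype_injective
  have hn : (Cfsg.piCore (Cfsg.sigma M) ↥M).Normal := inferInstance
  have h1 : Cfsg.piCore (Cfsg.sigma M) ↥M ≤ Cfsg.piCore (Cfsg.alpha M) ↥M :=
    Cfsg.Agent.Helper19.le_piCore hn (fun q hq hd => h q hq (h0 ▸ hd))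
  unfold Cfsg.sigmaCore
  exact Subgroup.map_mono h1

/-- **BAD1 is impossible.** -/
theorem not_bad1 (hG : Cfsg.IsMinSimpleOddOrder G)
    {M E E3 E1 Y0 R0 T0 : Subgroup G} (hM : IsCoatom M)
    (hE : Cfsg.IsComplIn E (Cfsg.sigmaCore M) M) (hE3E : E3 ≤ E) (hE1E : E1 ≤ E)
    (hE31 : E ≤ E3 ⊔ E1) (hE3c : IsCyclic ↥E3) (hE3n : E ≤ normalizer (E3 : Set G))
    (hE3comm : E3 ≤ ⁅E, E⁆)
    (hcopE : (Nat.card E).Coprime (Nat.card (Cfsg.sigmaCore M)))
    (htau1 : ∀ r : ℕ, r.Prime → r ∣ Nat.card E1 → r ∈ Cfsg.tau1 M)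
    (hF3 : ∀ e ∈ E3, e ≠ 1 → Cfsg.sigmaCore M ⊓ centralizer ({e} : Set G) = Y0)
    (hY0 : Y0 ≠ ⊥)
    (hF4 : ∀ x ∈ E1, x ≠ 1 → Cfsg.sigmaCore M ⊓ centralizer ({x} : Set G)
      = Cfsg.sigmaCore M ⊓ centralizer (E1 : Set G))
    (hR0 : R0 ≤ E1) (hR0p : (Nat.card R0).Prime) (hT0 : T0 ≤ E3) (hT0p : (Nat.card T0).Prime)
    (hT0α : Nat.card T0 ∉ Cfsg.alpha M)
    (hnu : ¬ Cfsg.InUniqueMaximal (M ⊓ centralizer (T0 : Set G)))
    (hpair : ¬ R0 ≤ centralizer (T0 : Set G))
    (hcent : R0 ≤ centralizer (Y0 : Set G)) : False := by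
  have hMsolv : Group.IsSolvable M := hG.2.2.2 M hM.1
  have hEM : E ≤ M := hE.1
  have hNM : Cfsg.sigmaCore M ≤ M := Cfsg.Agent.H9.BG12.sigmaCore_le M
  have hNsolv : Group.IsSolvable (Cfsg.sigmaCore M) := Cfsg.Agent.Lead.isSolvable_of_le hNM hMsolv
  have hEN : E ≤ normalizer (Cfsg.sigmaCore M : Set G) :=
    hEM.trans (Cfsg.Agent.H9.BG12.le_normalizer_sigmaCore M)
  obtain ⟨r0, hr0, hr01⟩ := Cfsg.Agent.Helper16.BG11.exists_mem_ne_one_of_card_prime hR0p rfl
  obtain ⟨t0, ht0, ht01⟩ := Cfsg.Agent.Helper16.BG11.exists_mem_ne_one_of_card_prime hT0p rfl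
  have hCR0 : Cfsg.sigmaCore M ⊓ centralizer (R0 : Set G)
      = Cfsg.sigmaCore M ⊓ centralizer (E1 : Set G) := by
    rw [centralizer_eq_of_card_prime hR0p hr0 hr01]
    exact hF4 r0 (hR0 hr0) hr01
  have hCT0 : Cfsg.sigmaCore M ⊓ centralizer (T0 : Set G) = Y0 := by
    rw [centralizer_eq_of_card_prime hT0p ht0 ht01]
    exact hF3 t0 (hT0 ht0) ht01
  have hY0le : Y0 ≤ Cfsg.sigmaCore M := hCT0 ▸ inf_le_left
  have hY0T0 : Y0 ≤ centralizer (T0 : Set G) := hCT0 ▸ inf_le_right
  have hY0R0 : Y0 ≤ centralizer (R0 : Set G) := Subgroup.le_centralizer_iff.mp hcent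
  have h1426 := (Cfsg.Agent.S1426.result hG M hM E hE).1
  -- Step 1: every prime divisor of `|M_σ|` is in `α(M)`
  have hstep1 : ∀ q : ℕ, q.Prime → q ∣ Nat.card (Cfsg.sigmaCore M) → q ∈ Cfsg.alpha M := by
    intro q hq hqd
    by_contra hqα
    haveI : Fact q.Prime := ⟨hq⟩
    have hrk : Cfsg.PRankLE q 2 M := by
      by_contra hrk
      exact hqα ⟨hq, hrk⟩
    obtain ⟨P, hPn⟩ := Cfsg.Agent.Lead.coprime_exists_invariant_sylow E (Cfsg.sigmaCore M) hEN hcopE
      (Or.inr hNsolv) q
    set S : Subgroup G := (P : Subgroup ↥(Cfsg.sigmaCore M)).map (Cfsg.sigmaCore M).subtype with hS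
    have hSN : S ≤ Cfsg.sigmaCore M := Subgroup.map_subtype_le _
    have hSq : IsPGroup q ↥S := by
      rw [hS]
      exact P.isPGroup'.map _
    have hnarrow : Cfsg.IsNarrow q ↥S :=
      Or.inl (Cfsg.Agent.Helper7.PRankLE.of_injective (Subgroup.inclusion (hSN.trans hNM))
        (Subgroup.inclusion_injective _) hrk)
    have hq2 : q ≠ 2 := by
      rintro rfl
      have h2 : 2 ∣ Nat.card G := hqd.trans (Subgroup.card_subgroup_dvd_card _)
      exact (Nat.not_even_iff_odd.mpr hG.1) (even_iff_two_dvd.mpr h2)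
    have hqE : ¬ q ∣ Nat.card E := by
      intro hd
      have := Nat.Coprime.eq_one_of_dvd (Nat.Coprime.coprime_dvd_left hd hcopE) hqd
      exact hq.one_lt.ne' this
    -- `E3` centralizes `S`
    have hE3S : E3 ≤ centralizer (S : Set G) := by
      apply le_of_forall_sylow_le
      intro p hpF P3
      have hP3p : IsPGroup p ↥((P3 : Subgroup ↥E3).map E3.subtype) := P3.isPGroup'.map _
      have hP3E3 : (P3 : Subgroup ↥E3).map E3.subtype ≤ E3 := Subgroup.map_subtype_le _
      by_cases hpq : q = p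
      · -- then the Sylow subgroup is trivial
        subst hpq
        have hcard : Nat.card ((P3 : Subgroup ↥E3).map E3.subtype) = 1 := by
          obtain ⟨k, hk⟩ := IsPGroup.iff_card.mp hP3p
          have hdE : q ^ k ∣ Nat.card E := by
            rw [← hk]
            exact Subgroup.card_dvd_of_le (hP3E3.trans hE3E)
          rcases Nat.eq_zero_or_pos k with h0 | hpos
          · rw [hk, h0, pow_zero]
          · exact absurd ((dvd_pow_self q hpos.ne').trans hdE) hqE
        rw [Subgroup.card_eq_one.mp hcard]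
        exact bot_le
      · apply Cfsg.Agent.Helper28.BG11.le_centralizer_of_isNarrow hG.1 hpq hq2 hSq hnarrow hP3p
        exact (hP3E3.trans hE3comm).trans (Subgroup.commutator_mono hPn hPn)
    have hSE3 : S ≤ centralizer (E3 : Set G) := Subgroup.le_centralizer_iff.mp hE3S
    have hSY0 : S ≤ Y0 := by
      rw [← hCT0]
      exact le_inf hSN (hSE3.trans (centralizer_le (by exact_mod_cast hT0)))
    have hSE1 : S ≤ centralizer (E1 : Set G) := by
      have : S ≤ Cfsg.sigmaCore M ⊓ centralizer (R0 : Set G) := le_inf hSN (hSY0.trans hY0R0)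
      rw [hCR0] at this
      exact this.trans inf_le_right
    have hSE : S ≤ centralizer (E : Set G) := by
      have h1 : S ≤ centralizer ((E3 ⊔ E1 : Subgroup G) : Set G) := by
        rw [centralizer_sup_eq]
        exact le_inf hSE3 hSE1
      exact h1.trans (centralizer_le (by exact_mod_cast hE31))
    have hScomm : S ≤ ⁅Cfsg.sigmaCore M, Cfsg.sigmaCore M⁆ := (le_inf hSN hSE).trans h1426
    -- normal `q`-complement of `M_σ`
    have hqM : q ∣ Nat.card M := hqd.trans (Subgroup.card_dvd_of_le hNM)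
    have hqβ : q ∉ Cfsg.beta M := fun hb => hqα hb.1
    have hnpc := ((Cfsg.Agent.S1414.result hG M hM).2.2.2.2 q hq hqM hqβ).2.1
    apply not_le_commutator_of_hasNormalPComplement hnpc hqd P
    rw [← Subgroup.map_subtype_commutator] at hScomm
    exact (Subgroup.map_le_map_iff_of_injective (Cfsg.sigmaCore M).subtype_injective).mp hScomm
  -- Step 2
  have hstep2 := sigmaCore_le_alphaCore_of_forall hstep1
  -- Step 3: 12.16
  haveI : Fact (Nat.card R0).Prime := ⟨hR0p⟩
  haveI : Fact (Nat.card T0).Prime := ⟨hT0p⟩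
  have hs1 : Nat.card R0 ∈ Cfsg.tau1 M := htau1 _ hR0p (Subgroup.card_dvd_of_le hR0)
  have hT0n : E ≤ normalizer (T0 : Set G) :=
    hE3n.trans (Cfsg.Agent.H9.BG12.normalizer_le_normalizer_of_isCyclic hE3c hT0)
  have hfpf : T0 ⊓ centralizer (R0 : Set G) = ⊥ := by
    by_contra hne
    obtain ⟨u, hu, hu1⟩ := exists_mem_ne_one_of_ne_bot hne
    rw [Subgroup.mem_inf] at hu
    apply hpair
    rw [centralizer_eq_of_card_prime hT0p hu.1 hu1]
    intro x hx
    rw [Subgroup.mem_centralizer_iff]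
    intro y hy
    rw [Set.mem_singleton_iff] at hy
    subst hy
    exact (Subgroup.mem_centralizer_iff.mp hu.2) x hx |>.symm
  have h1216 := Cfsg.Agent.Helper21.BG12.lem_12_16 hG Cfsg.Agent.Helper21.BG12.lemX hM hs1
    ((hR0.trans hE1E).trans hEM) rfl (IsPGroup.of_card (n := 1) (by rw [pow_one]))
    ((hT0.trans hE3E).trans hEM) hT0α ((hR0.trans hE1E).trans hT0n) hfpf hnu
  apply hY0
  rw [eq_bot_iff, ← h1216]
  exact le_inf (le_inf (hY0le.trans hstep2) hY0R0) hY0T0

end Cfsg.Agent.Helper20.BG13N
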