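import Mathlib

set_option autoImplicit false

namespace Cfsg.Agent.Helper20

open scoped commutatorElement Pointwise

-- (copied from Cfsg.Agent.Helper14.Frattini to avoid a long import chain)
/-- If `P/K` is elementary abelian (all commutators and `p`-th powers lie in `K`) then `Φ(P) ≤ K`. -/
theorem frattini_le_of_elemAb' {P : Type*} [Group P] [Finite P] (p : ℕ) [hp : Fact p.Prime]
    (K : Subgroup P) (hcomm : ∀ a b : P, ⁅a, b⁆ ∈ K) (hpow : ∀ a : P, a ^ p ∈ K) :
    frattini P ≤ K := by
  intro x hxF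
  by_contra hxK
  obtain ⟨M, hKM, hMmax⟩ := Finite.exists_le_maximal (p := fun M : Subgroup P => K ≤ M ∧ x ∉ M)
    (a := K) ⟨le_rfl, hxK⟩
  have hKM' : K ≤ M := hMmax.prop.1
  have hxM : x ∉ M := hMmax.prop.2
  have hMn : M.Normal := by
    constructor
    intro m hm g
    have : g * m * g⁻¹ = ⁅g, m⁆ * m := by rw [commutatorElement_def]; group
    rw [this]
    exact M.mul_mem (hKM' (hcomm g m)) hm
  have hco : IsCoatom M := by
    refine ⟨fun h => hxM (h ▸ Subgroup.mem_top x), ?_⟩
    intro M' hlt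
    have hxM' : x ∈ M' := by
      by_contra hx'
      exact absurd (hMmax.le_of_ge ⟨hKM'.trans hlt.le, hx'⟩ hlt.le) (not_le_of_gt hlt)
    rw [eq_top_iff]
    intro y _
    by_cases hy : y ∈ M
    · exact hlt.le hy
    · have hlt2 : M < M ⊔ Subgroup.zpowers y := by
        apply lt_of_le_of_ne le_sup_left
        intro h
        apply hy
        rw [h]
        exact le_sup_right (a := M) (Subgroup.mem_zpowers y)
      have hx2 : x ∈ M ⊔ Subgroup.zpowers y := by
        by_contra hx'
        exact absurd (hMmax.le_of_ge ⟨hKM'.trans hlt2.le, hx'⟩ hlt2.le) (not_le_of_gt hlt2)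
      have hx3 : x ∈ ((M ⊔ Subgroup.zpowers y : Subgroup P) : Set P) := hx2
      rw [Subgroup.normal_mul] at hx3
      obtain ⟨m, hm, z, hz, hmz⟩ := hx3
      obtain ⟨k, rfl⟩ := Subgroup.mem_zpowers_iff.1 hz
      have hyk : y ^ k ∈ M' := by
        have : y ^ k = m⁻¹ * x := by rw [← hmz]; group
        rw [this]
        exact M'.mul_mem (M'.inv_mem (hlt.le hm)) hxM'
      have hyp : y ^ (p : ℤ) ∈ M' := by
        rw [zpow_natCast]
        exact hlt.le (hKM' (hpow y))
      have hndvd : ¬ (p : ℤ) ∣ k := by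
        rintro ⟨t, rfl⟩
        apply hxM
        rw [← hmz]
        refine M.mul_mem hm ?_
        rw [zpow_mul, zpow_natCast]
        exact M.zpow_mem (hKM' (hpow y)) t
      have hcop : IsCoprime k (p : ℤ) := by
        have hpp : Prime (p : ℤ) := Nat.prime_iff_prime_int.1 hp.out
        exact ((hpp.coprime_iff_not_dvd).2 hndvd).symm
      obtain ⟨a, b, hab⟩ := hcop
      have : y = (y ^ k) ^ a * (y ^ (p : ℤ)) ^ b := by
        rw [← zpow_mul, ← zpow_mul, ← zpow_add, mul_comm k a, mul_comm (p : ℤ) b, hab, zpow_one]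
      rw [this]
      exact M'.mul_mem (M'.zpow_mem hyk a) (M'.zpow_mem hyp b)
  exact hxM (frattini_le_coatom hco hxF)

end Cfsg.Agent.Helper20
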