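import Cfsg.Agent.Helper15.Iso44Defs

/-! Board `s3044pieces`, row GEN: `gen` (relative version of `Helper14.le_pMinJoin_sup_normalizer`) and `dich`. -/

set_option autoImplicit false

namespace Cfsg.Agent.Helper15.Iso44

open Cfsg Subgroup

variable {G : Type*} [Group G] [Finite G] {p : ℕ} [Fact p.Prime] {S : Sylow p G} {P : Subgroup G}

/-- every `H ≥ S` is generated by `N_H(S)` and the `p`-minimal subgroups between `S` and `H`. -/
theorem gen (H : Subgroup G) (hSH : (S : Subgroup G) ≤ H) :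
    H ≤ (normalizer ((S : Subgroup G) : Set G) ⊓ H) ⊔
      ⨆ P' : {P' : Subgroup G // (S : Subgroup G) ≤ P' ∧ P' ≤ H ∧ Cfsg.IsPMinimal p ↥P'},
        (P' : Subgroup G) := by
  induction' hn : Nat.card ↥H using Nat.strong_induction_on with n ih generalizing H
  by_cases hHN : H ≤ Subgroup.normalizer ((S : Subgroup G) : Set G)
  · exact (le_inf hHN le_rfl).trans le_sup_left
  have hSyl : Cfsg.Agent.Helper14.IsSylowIn p (S : Subgroup G) H :=
    Cfsg.Agent.Helper14.isSylowIn_of_sylow_le S hSH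
  set S₀ : Sylow p ↥H := hSyl.toSylow with hS₀
  have hS₀c : (S₀ : Subgroup ↥H) = (S : Subgroup G).subgroupOf H := rfl
  have hS₀n : ¬ (S₀ : Subgroup ↥H).Normal := by
    intro hnorm
    rw [hS₀c, Subgroup.normal_subgroupOf_iff_le_normalizer hSH] at hnorm
    exact hHN hnorm
  have hS₀top : (S₀ : Subgroup ↥H) ≠ ⊤ := by
    intro htop; apply hS₀n; rw [htop]; infer_instance
  obtain ⟨M1, hM1, hle1⟩ := Cfsg.Agent.Helper14.exists_coatom_ge_of_ne_top hS₀top
  by_cases hu : ∀ M2 : Subgroup ↥H, IsCoatom M2 → (S₀ : Subgroup ↥H) ≤ M2 → M2 = M1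
  · have hmin : IsPMinimal p ↥H :=
      Cfsg.Agent.Helper14.isPMinimal_of_sylow S₀ hS₀n ⟨M1, ⟨hM1, hle1⟩, fun M2 h => hu M2 h.1 h.2⟩
    exact (le_iSup (fun P' : {P' : Subgroup G // (S : Subgroup G) ≤ P' ∧ P' ≤ H ∧ IsPMinimal p ↥P'} =>
      (P' : Subgroup G)) ⟨H, hSH, le_rfl, hmin⟩).trans le_sup_right
  · push Not at hu
    obtain ⟨M2, hM2, hle2, hne⟩ := hu
    have hsup : M1 ⊔ M2 = ⊤ := by
      by_contra hcon
      have h1 : M1 = M1 ⊔ M2 := by
        by_contra hne1
        exact hcon (hM1.2 _ (lt_of_le_of_ne le_sup_left hne1))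
      have h2 : M2 = M1 ⊔ M2 := by
        by_contra hne2
        exact hcon (hM2.2 _ (lt_of_le_of_ne le_sup_right hne2))
      exact hne (h2.trans h1.symm)
    have hK : ∀ M : Subgroup ↥H, IsCoatom M → (S₀ : Subgroup ↥H) ≤ M →
        M.map H.subtype ≤ (normalizer ((S : Subgroup G) : Set G) ⊓ H) ⊔
          ⨆ P' : {P' : Subgroup G // (S : Subgroup G) ≤ P' ∧ P' ≤ H ∧ Cfsg.IsPMinimal p ↥P'},
            (P' : Subgroup G) := by
      intro M hM hle
      have hMH : M.map H.subtype ≤ H := by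
        rintro _ ⟨x, _, rfl⟩
        exact x.2
      have hlt : Nat.card ↥(M.map H.subtype) < Nat.card ↥H := by
        rw [Cfsg.Agent.Helper14.card_map_subtype]
        by_contra hge
        push Not at hge
        exact hM.1 (Subgroup.eq_top_of_le_card M hge)
      have hSM : (S : Subgroup G) ≤ M.map H.subtype := by
        intro s hs
        exact ⟨⟨s, hSH hs⟩, hle (by rw [hS₀c, Subgroup.mem_subgroupOf]; exact hs), rfl⟩
      have h1 := ih _ (hn ▸ hlt) _ hSM rfl
      refine h1.trans (sup_le ((inf_le_inf_left _ hMH).trans le_sup_left) ?_)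
      refine iSup_le fun P' => ?_
      exact (le_iSup (fun P' : {P' : Subgroup G // (S : Subgroup G) ≤ P' ∧ P' ≤ H ∧ IsPMinimal p ↥P'} =>
        (P' : Subgroup G)) ⟨P'.1, P'.2.1, P'.2.2.1.trans hMH, P'.2.2.2⟩).trans le_sup_right
    have hH : H = (M1 ⊔ M2).map H.subtype := by
      rw [hsup, ← MonoidHom.range_eq_map, Subgroup.range_subtype]
    conv_lhs => rw [hH, Subgroup.map_sup]
    exact sup_le (hK M1 hM1 hle1) (hK M2 hM2 hle2)

theorem dich (P : Subgroup G) (H : Subgroup G) (hSH : (S : Subgroup G) ≤ H) :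
    P ≤ H ∨ H ≤ Lsub p S P := by
  by_cases hPH : P ≤ H
  · exact Or.inl hPH
  · right
    refine (gen H hSH).trans (sup_le (inf_le_left.trans le_sup_left) ?_)
    refine iSup_le fun P' => ?_
    have hne : (P' : Subgroup G) ≠ P := by
      intro h
      exact hPH (h ▸ P'.2.2.1)
    exact (le_iSup (fun P'' : {P' : Subgroup G // (S : Subgroup G) ≤ P' ∧ Cfsg.IsPMinimal p ↥P' ∧ P' ≠ P} =>
      (P'' : Subgroup G)) ⟨P'.1, P'.2.1, P'.2.2.2, hne⟩).trans le_sup_right

end Cfsg.Agent.Helper15.Iso44
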