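import Cfsg.Agent.Helper15.Iso44Defs
import Cfsg.Agent.Helper14.Irreducible2
import Cfsg.Agent.Helper20.Iso44GEN

/-! Board `s3044pieces`, row YL1: `Y_sup_L` (conclusion 1 of S3044) and `claim2` (conclusion 2). Self-contained: the few basic facts
needed are proved in the sub-namespace `YL1`. -/

set_option autoImplicit false

namespace Cfsg.Agent.Helper15.Iso44

open Cfsg Subgroup

variable {G : Type*} [Group G] [Finite G] {p : ℕ} [Fact p.Prime] {S : Sylow p G} {P : Subgroup G}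

namespace YL1

theorem aux_S_le_L : (S : Subgroup G) ≤ Lsub p S P :=
  Subgroup.le_normalizer.trans le_sup_left

theorem aux_D_le_Y : Dsub p P ≤ Ysub p P := Subgroup.le_normalClosure

theorem aux_D_sup_S (hSP : (S : Subgroup G) ≤ P) : Dsub p P ⊔ (S : Subgroup G) = P := by
  have hSyl : Cfsg.Agent.Helper14.IsSylowIn p (S : Subgroup G) P :=
    Cfsg.Agent.Helper14.isSylowIn_of_sylow_le S hSP
  have h1 := Cfsg.Agent.Helper14.pResidual_sup_sylow (p := p) hSyl.toSylow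
  have h2 := congrArg (Subgroup.map P.subtype) h1
  rw [Subgroup.map_sup, hSyl.toSylow_map, ← MonoidHom.range_eq_map, Subgroup.range_subtype] at h2
  exact h2

theorem aux_QL_le_S : QLsub p S P ≤ (S : Subgroup G) := by
  have hSyl : Cfsg.Agent.Helper14.IsSylowIn p (S : Subgroup G) (Lsub p S P) :=
    Cfsg.Agent.Helper14.isSylowIn_of_sylow_le S aux_S_le_L
  have h1 : (Cfsg.pCore p ↥(Lsub p S P)).map (Lsub p S P).subtype ≤
      ((hSyl.toSylow : Sylow p ↥(Lsub p S P)) : Subgroup ↥(Lsub p S P)).map (Lsub p S P).subtype :=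
    Subgroup.map_mono (Cfsg.Agent.Helper14.pCore_le_sylow p hSyl.toSylow)
  rw [hSyl.toSylow_map] at h1
  exact h1

end YL1

theorem Y_sup_L (h : Ctx p S P) : Ysub p P ⊔ Lsub p S P = ⊤ := by
  rw [eq_top_iff]
  have h1 := gen (S := S) (⊤ : Subgroup G) le_top
  refine h1.trans (sup_le (inf_le_left.trans (le_sup_left.trans le_sup_right)) ?_)
  refine iSup_le fun P' => ?_
  by_cases hP' : (P' : Subgroup G) = P
  · have hPle : P ≤ Ysub p P ⊔ Lsub p S P := by
      have h2 : Dsub p P ⊔ (S : Subgroup G) ≤ Ysub p P ⊔ Lsub p S P :=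
        sup_le (YL1.aux_D_le_Y.trans le_sup_left) (YL1.aux_S_le_L.trans le_sup_right)
      exact (le_of_eq (YL1.aux_D_sup_S h.hSP).symm).trans h2
    exact (le_of_eq hP').trans hPle
  · exact ((le_iSup (fun P'' : {P' : Subgroup G // (S : Subgroup G) ≤ P' ∧ Cfsg.IsPMinimal p ↥P' ∧ P' ≠ P} =>
      (P'' : Subgroup G)) ⟨P'.1, P'.2.1, P'.2.2.2, hP'⟩).trans le_sup_right).trans le_sup_right

theorem claim2 (h : Ctx p S P) :
    ¬ (Cfsg.pCore p ↥((Subgroup.normalizer ((S : Subgroup G) : Set G) ⊓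
          (Ysub p P ⊔ (S : Subgroup G))) ⊔
          ⨆ P' : {P' : Subgroup G // (S : Subgroup G) ≤ P' ∧ P' ≤ Ysub p P ⊔ (S : Subgroup G) ∧
            Cfsg.IsPMinimal p ↥P' ∧ P' ≠ P}, (P' : Subgroup G))).map
        (Subgroup.subtype _) ≤ (Cfsg.pCore p ↥P).map P.subtype := by
  intro hcon
  apply h.hiso
  set L0 : Subgroup G := (Subgroup.normalizer ((S : Subgroup G) : Set G) ⊓
          (Ysub p P ⊔ (S : Subgroup G))) ⊔
          ⨆ P' : {P' : Subgroup G // (S : Subgroup G) ≤ P' ∧ P' ≤ Ysub p P ⊔ (S : Subgroup G) ∧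
            Cfsg.IsPMinimal p ↥P' ∧ P' ≠ P}, (P' : Subgroup G) with hL0
  have hSL0 : (S : Subgroup G) ≤ L0 :=
    (le_inf Subgroup.le_normalizer le_sup_right).trans le_sup_left
  have hL0L : L0 ≤ Lsub p S P := by
    refine sup_le (inf_le_left.trans le_sup_left) (iSup_le fun P' => ?_)
    exact (le_iSup (fun P'' : {P' : Subgroup G // (S : Subgroup G) ≤ P' ∧ Cfsg.IsPMinimal p ↥P' ∧ P' ≠ P} =>
      (P'' : Subgroup G)) ⟨P'.1, P'.2.1, P'.2.2.2.1, P'.2.2.2.2⟩).trans le_sup_right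
  have hQL0 : QLsub p S P ≤ pCoreOf p L0 :=
    Cfsg.Agent.Helper14.le_pCoreOf p (YL1.aux_QL_le_S.trans hSL0)
      (hL0L.trans (Cfsg.Agent.Helper14.le_normalizer_pCoreOf p (Lsub p S P)))
      (Cfsg.Agent.Helper14.pCoreOf_isPGroup p (Lsub p S P))
  exact hQL0.trans hcon

end Cfsg.Agent.Helper15.Iso44
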