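import Mathlib

set_option autoImplicit false

namespace Cfsg.Agent.Helper20

/-- The set of conjugates of `g` is the `ConjAct` orbit. -/
lemma setOf_isConj_eq_orbit {G : Type*} [Group G] (g : G) :
    {h : G | IsConj g h} = MulAction.orbit (ConjAct G) g := by
  ext h
  rw [ConjAct.mem_orbit_conjAct]
  exact ⟨fun hh => IsConj.symm hh, fun hh => IsConj.symm hh⟩

/-- Class size equals the index of the centralizer. -/
lemma ncard_setOf_isConj {G : Type*} [Group G] (g : G) :
    {h : G | IsConj g h}.ncard = (Subgroup.centralizer ({g} : Set G)).index := by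
  rw [setOf_isConj_eq_orbit, ← MulAction.index_stabilizer, Subgroup.centralizer_eq_comap_stabilizer]
  exact (Subgroup.index_comap_of_surjective _ ConjAct.toConjAct.surjective).symm

lemma ncard_carrier_eq_index {G : Type*} [Group G] (g : G) :
    (ConjClasses.mk g).carrier.ncard = (Subgroup.centralizer ({g} : Set G)).index := by
  rw [← ncard_setOf_isConj]
  congr 1

end Cfsg.Agent.Helper20
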