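import Mathlib
import Cfsg.Agent.Helper10.Pearl3Defs
import Cfsg.Agent.Helper10.Pearl3A3
import Cfsg.Agent.Helper18.PearlU
import Cfsg.Agent.Helper18.PearlR2
import Cfsg.Agent.Helper18.Pearl3A1
import Cfsg.Agent.Helper1.PGroup
import Cfsg.Agent.S0065

/-!
S5239 piece E (driver helper10): order `81`, a subgroup of `Γ₁` that is not 2-generated gives a
core-free subgroup of index `9`.
-/

set_option autoImplicit false

namespace Cfsg.Agent.Helper20.Pearl3

open scoped commutatorElement
open Cfsg.Agent.Helper10.Pearl3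

variable {X : Type*} [Group X] [Finite X]

local notation "L" => Subgroup.lowerCentralSeries (⊤ : Subgroup X)

theorem card_lt_card_of_lt {A B : Subgroup X} (h : A < B) : Nat.card A < Nat.card B :=
  lt_of_le_of_ne (Subgroup.card_le_of_le h.le)
    (fun e => h.ne (Subgroup.eq_of_le_of_card_ge h.le e.ge))

omit [Finite X] in
/-- `x³ = 1`, `x ∉ N`, `x^i ∈ N` implies `x^i = 1` -/
theorem zpow_eq_one_of_mem {x : X} (hx3 : x ^ 3 = 1) (N : Subgroup X) (hxN : x ∉ N) (i : ℤ)
    (hi : x ^ i ∈ N) : x ^ i = 1 := by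
  have h3 : x ^ (3 : ℤ) = 1 := by exact_mod_cast hx3
  have hdecomp : x ^ i = x ^ (i % 3) := by
    conv_lhs => rw [← Int.mul_ediv_add_emod i 3]
    rw [zpow_add, zpow_mul, h3, one_zpow, one_mul]
  have hcases : i % 3 = 0 ∨ i % 3 = 1 ∨ i % 3 = 2 := by omega
  rcases hcases with h | h | h
  · rw [hdecomp, h, zpow_zero]
  · exfalso
    rw [hdecomp, h, zpow_one] at hi
    exact hxN hi
  · exfalso
    rw [hdecomp, h] at hi
    have h2 : x ^ (2 : ℤ) * x ^ (2 : ℤ) ∈ N := N.mul_mem hi hi
    have h4 : x ^ (2 : ℤ) * x ^ (2 : ℤ) = x := by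
      rw [← zpow_add]
      have : (2 : ℤ) + 2 = 3 + 1 := by norm_num
      rw [this, zpow_add, h3, one_mul, zpow_one]
    rw [h4] at h2
    exact hxN h2

theorem exists_core_free_of_not_two_generated [Fact (Nat.Prime 3)] (hX : Nat.card X = 3 ^ 4)
    (s : X) (hs : Nat.card (Subgroup.centralizer ({s} : Set X)) = 3 ^ 2)
    (H : Subgroup X) (hH : H ≤ gammaOne X)
    (hH2 : ¬ ∃ T : Finset X, T.card ≤ 2 ∧ Subgroup.closure (T : Set X) = H) :
    ∃ B : Subgroup X, B.index = 9 ∧ B.normalCore = ⊥ := by
  classical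
  have hXp : IsPGroup 3 X := IsPGroup.of_card hX
  have hanti := Subgroup.lowerCentralSeries_antitone (⊤ : Subgroup X)
  have hc1 : Nat.card (L 1) = 9 := by
    have := Cfsg.Agent.Helper18.Pearl.card_lcs_of_uniform hX (by norm_num) s hs 1 le_rfl (by norm_num)
    rw [this]; norm_num
  have hc2 : Nat.card (L 2) = 3 := by
    have := Cfsg.Agent.Helper18.Pearl.card_lcs_of_uniform hX (by norm_num) s hs 2 (by norm_num) (by norm_num)
    rw [this]; norm_num
  have hc3 : Nat.card (L 3) = 1 := by
    have := Cfsg.Agent.Helper18.Pearl.card_lcs_of_uniform hX (by norm_num) s hs 3 (by norm_num) (by norm_num)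
    rw [this]; norm_num
  have hL3 : L 3 = ⊥ := Subgroup.card_eq_one.1 hc3
  obtain ⟨hsΓ, hidx⟩ := Cfsg.Agent.Helper18.Pearl3.index_twoStep (p := 3) hX (by norm_num) s hs 1 le_rfl
    (by norm_num)
  have hL1Γ : L 1 ≤ gammaOne X := Cfsg.Agent.Helper18.Pearl3.lcs_one_le_twoStep 1 le_rfl
  have hcΓ : Nat.card (gammaOne X) = 27 := by
    have h := Subgroup.card_mul_index (gammaOne X)
    have hidx' : (gammaOne X).index = 3 := hidx
    rw [hidx', hX] at h
    omega
  -- |H| > 9
  have hHp : IsPGroup 3 H := hXp.to_subgroup H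
  obtain ⟨k, hk⟩ := IsPGroup.iff_card.1 hHp
  have hfr1 : 1 ≤ Nat.card (frattini ↥H) := Nat.one_le_iff_ne_zero.2 Nat.card_pos.ne'
  have hH9 : ¬ Nat.card H ≤ 9 := by
    intro h
    apply hH2
    apply Cfsg.Agent.Helper18.Pearl.exists_finset_closure_eq_of_card_le_frattini hXp H 2
    calc Nat.card H ≤ 9 := h
      _ = 3 ^ 2 * 1 := by norm_num
      _ ≤ 3 ^ 2 * Nat.card (frattini ↥H) := Nat.mul_le_mul_left _ hfr1
  have hHle : Nat.card H ≤ 27 := by
    rw [← hcΓ]; exact Subgroup.card_le_of_le hH
  have hH27 : Nat.card H = 27 := by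
    have hk3 : k = 3 := by
      rw [hk] at hH9 hHle
      have h1 : ¬ k ≤ 2 := by
        intro h
        apply hH9
        calc 3 ^ k ≤ 3 ^ 2 := Nat.pow_le_pow_right (by norm_num) h
          _ = 9 := by norm_num
      have h2 : k ≤ 3 := by
        by_contra h
        have : 3 ^ 4 ≤ 3 ^ k := Nat.pow_le_pow_right (by norm_num) (by omega)
        omega
      omega
    rw [hk, hk3]; norm_num
  have hHΓ : H = gammaOne X := Subgroup.eq_of_le_of_card_ge hH (by rw [hcΓ, hH27])
  -- frattini of H trivial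
  have hfrH : frattini ↥H = ⊥ := by
    have h1 : ¬ Nat.card H ≤ 3 ^ 2 * Nat.card (frattini ↥H) := by
      intro h
      apply hH2
      exact Cfsg.Agent.Helper18.Pearl.exists_finset_closure_eq_of_card_le_frattini hXp H 2 h
    rw [hH27] at h1
    have h2 : Nat.card (frattini ↥H) ∣ 27 := by
      rw [← hH27]; exact Subgroup.card_subgroup_dvd_card _
    have h3 : Nat.card (frattini ↥H) < 3 := by omega
    have h4 : Nat.card (frattini ↥H) = 1 := by
      have h5 : Nat.card (frattini ↥H) = 1 ∨ Nat.card (frattini ↥H) = 2 := by omega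
      rcases h5 with h5 | h5
      · exact h5
      · rw [h5] at h2; omega
    exact Subgroup.card_eq_one.1 h4
  -- H is abelian of exponent 3
  have hHcomm : ∀ a ∈ H, ∀ b ∈ H, a * b = b * a := by
    intro a ha b hb
    have h1 : ⁅(⟨a, ha⟩ : ↥H), ⟨b, hb⟩⁆ ∈ commutator ↥H :=
      Subgroup.commutator_mem_commutator (Subgroup.mem_top _) (Subgroup.mem_top _)
    have h2 := Cfsg.Agent.Helper1.IsPGroup.commutator_le_frattini hHp h1
    rw [hfrH, Subgroup.mem_bot] at h2
    have h3 := congrArg Subtype.val h2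
    simp only [commutatorElement_def, Subgroup.coe_mul, Subgroup.coe_inv, Subgroup.coe_one] at h3
    have := congrArg (fun u => u * b * a) h3
    simpa using this
  have hHexp : ∀ a ∈ H, a ^ 3 = 1 := by
    intro a ha
    have h2 := Cfsg.Agent.Helper1.IsPGroup.pow_mem_frattini hHp (⟨a, ha⟩ : ↥H)
    rw [hfrH, Subgroup.mem_bot] at h2
    have h3 := congrArg Subtype.val h2
    simpa using h3
  -- the two generators
  obtain ⟨t, htΓ, htL⟩ : ∃ t ∈ gammaOne X, t ∉ L 1 := by
    by_contra hcon
    push Not at hcon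
    have hle : gammaOne X ≤ L 1 := fun x hx => hcon x hx
    have := Subgroup.card_le_of_le hle
    rw [hcΓ, hc1] at this
    omega
  obtain ⟨g, hgL1, hgL2⟩ := Cfsg.Agent.Helper10.Pearl3.exists_mem_lcs_not_mem_succ (p := 3) hX
    (by norm_num) s hs 1 le_rfl (by norm_num)
  have htH : t ∈ H := by rw [hHΓ]; exact htΓ
  have hgH : g ∈ H := by rw [hHΓ]; exact hL1Γ hgL1
  have htg : Commute t g := hHcomm t htH g hgH
  let B : Subgroup X := Subgroup.closure {t, g}
  have hBH : B ≤ H := by
    rw [Subgroup.closure_le]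
    rintro x (rfl | rfl)
    · exact htH
    · exact hgH
  have hBform : ∀ b ∈ B, ∃ i j : ℤ, b = t ^ i * g ^ j := by
    intro b hb
    induction hb using Subgroup.closure_induction with
    | mem x hx =>
      rcases hx with rfl | rfl
      · exact ⟨1, 0, by simp⟩
      · exact ⟨0, 1, by simp⟩
    | one => exact ⟨0, 0, by simp⟩
    | mul a b _ _ ha hb =>
      obtain ⟨i, j, rfl⟩ := ha
      obtain ⟨k, l, rfl⟩ := hb
      refine ⟨i + k, j + l, ?_⟩
      rw [zpow_add, zpow_add]
      have h1 : Commute (g ^ j) (t ^ k) := (htg.zpow_zpow k j).symm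
      calc t ^ i * g ^ j * (t ^ k * g ^ l) = t ^ i * (g ^ j * t ^ k) * g ^ l := by group
        _ = t ^ i * (t ^ k * g ^ j) * g ^ l := by rw [h1.eq]
        _ = _ := by group
    | inv a _ ha =>
      obtain ⟨i, j, rfl⟩ := ha
      refine ⟨-i, -j, ?_⟩
      rw [mul_inv_rev, zpow_neg, zpow_neg]
      exact ((htg.zpow_zpow i j).inv_inv).symm.eq
  have hL21 : L 2 ≤ L 1 := hanti (by norm_num)
  have hBL2 : B ⊓ L 2 = ⊥ := by
    rw [eq_bot_iff]
    intro b hb
    obtain ⟨hbB, hbL⟩ := Subgroup.mem_inf.1 hb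
    obtain ⟨i, j, rfl⟩ := hBform b hbB
    rw [Subgroup.mem_bot]
    have hgj : g ^ j ∈ L 1 := Subgroup.zpow_mem _ hgL1 j
    have hti : t ^ i ∈ L 1 := by
      have : t ^ i = (t ^ i * g ^ j) * (g ^ j)⁻¹ := by group
      rw [this]
      exact Subgroup.mul_mem _ (hL21 hbL) (Subgroup.inv_mem _ hgj)
    have hti1 : t ^ i = 1 := zpow_eq_one_of_mem (hHexp t htH) (L 1) htL i hti
    rw [hti1, one_mul] at hbL ⊢
    exact zpow_eq_one_of_mem (hHexp g hgH) (L 2) hgL2 j hbL
  -- |B| = 9
  have hBp : IsPGroup 3 B := hXp.to_subgroup B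
  obtain ⟨kB, hkB⟩ := IsPGroup.iff_card.1 hBp
  have hBle : Nat.card B * 3 ≤ 27 := by
    have h1 : Nat.card B * Nat.card (L 2) ≤ Nat.card (gammaOne X) := by
      have hinj : Function.Injective (fun q : B × (L 2 : Subgroup X) => (q.1 : X) * (q.2 : X)) := by
        rintro ⟨b1, l1⟩ ⟨b2, l2⟩ h
        simp only at h
        have h1 : (b2 : X)⁻¹ * b1 = l2 * (l1 : X)⁻¹ := by
          have := congrArg (fun u => (b2 : X)⁻¹ * u * (l1 : X)⁻¹) h
          simp only [mul_assoc, mul_inv_cancel, mul_one, inv_mul_cancel_left] at this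
          exact this
        have h2 : (b2 : X)⁻¹ * b1 ∈ B ⊓ L 2 := by
          refine Subgroup.mem_inf.2 ⟨B.mul_mem (B.inv_mem b2.2) b1.2, ?_⟩
          rw [h1]
          exact Subgroup.mul_mem _ l2.2 (Subgroup.inv_mem _ l1.2)
        rw [hBL2, Subgroup.mem_bot] at h2
        have hb : (b1 : X) = b2 := by
          have := congrArg (fun u => (b2 : X) * u) h2
          simpa using this
        have hl : (l1 : X) = l2 := by
          rw [hb] at h
          exact mul_left_cancel h
        exact Prod.ext (Subtype.ext hb) (Subtype.ext hl)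
      have hmaps : ∀ q : B × (L 2 : Subgroup X), (q.1 : X) * (q.2 : X) ∈ gammaOne X := by
        intro q
        exact Subgroup.mul_mem _ (hHΓ ▸ hBH q.1.2) (hL1Γ (hL21 q.2.2))
      have := Nat.card_le_card_of_injective
        (fun q : B × (L 2 : Subgroup X) => (⟨(q.1 : X) * (q.2 : X), hmaps q⟩ : gammaOne X))
        (fun q q' h => hinj (congrArg Subtype.val h))
      rwa [Nat.card_prod] at this
    rw [hc2, hcΓ] at h1
    exact h1
  have hBgt : 3 < Nat.card B := by
    -- zpowers g has order 3 and t is outside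
    have hg1 : g ≠ 1 := by
      intro h
      apply hgL2
      rw [h]; exact Subgroup.one_mem _
    have hog : orderOf g = 3 := orderOf_eq_prime (hHexp g hgH) hg1
    have hzg : Nat.card (Subgroup.zpowers g) = 3 := by rw [Nat.card_zpowers, hog]
    have hzle : Subgroup.zpowers g ≤ B := by
      rw [Subgroup.zpowers_le]
      exact Subgroup.subset_closure (by simp)
    have hne : Subgroup.zpowers g ≠ B := by
      intro h
      have htB : t ∈ B := Subgroup.subset_closure (by simp)
      rw [← h] at htB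
      obtain ⟨j, hj⟩ := Subgroup.mem_zpowers_iff.1 htB
      apply htL
      rw [← hj]
      exact Subgroup.zpow_mem _ hgL1 j
    have hlt : Subgroup.zpowers g < B := lt_of_le_of_ne hzle hne
    have := card_lt_card_of_lt hlt
    rw [hzg] at this
    exact this
  have hB9 : Nat.card B = 9 := by
    rw [hkB] at hBle hBgt ⊢
    have h1 : 1 < kB := by
      by_contra h
      have : 3 ^ kB ≤ 3 ^ 1 := Nat.pow_le_pow_right (by norm_num) (by omega)
      omega
    have h2 : kB ≤ 2 := by
      by_contra h
      have : 3 ^ 3 ≤ 3 ^ kB := Nat.pow_le_pow_right (by norm_num) (by omega)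
      omega
    have : kB = 2 := by omega
    rw [this]; norm_num
  refine ⟨B, ?_, ?_⟩
  · have h := Subgroup.card_mul_index B
    rw [hB9, hX] at h
    omega
  · -- the centre is L 2
    have hL2Z : L 2 ≤ Subgroup.center X := by
      intro z hz
      rw [Subgroup.mem_center_iff]
      intro x
      have h1 : ⁅z, x⁆ ∈ L 3 := by
        show ⁅z, x⁆ ∈ ⁅L 2, (⊤ : Subgroup X)⁆
        exact Subgroup.commutator_mem_commutator hz (Subgroup.mem_top x)
      rw [hL3, Subgroup.mem_bot, commutatorElement_def] at h1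
      have := congrArg (fun u => u * x * z) h1
      simpa [mul_assoc] using this.symm
    have hZle : Subgroup.center X ≤ Subgroup.centralizer ({s} : Set X) := by
      intro z hz
      rw [Subgroup.mem_centralizer_iff]
      intro y hy
      rw [Set.mem_singleton_iff] at hy
      rw [hy]
      exact (Subgroup.mem_center_iff.1 hz) s
    have hZne : Subgroup.center X ≠ Subgroup.centralizer ({s} : Set X) := by
      intro h
      have hsC : s ∈ Subgroup.centralizer ({s} : Set X) := by
        rw [Subgroup.mem_centralizer_iff]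
        intro y hy
        rw [Set.mem_singleton_iff] at hy
        rw [hy]
      rw [← h] at hsC
      -- s central means its centralizer is everything
      have htop : Subgroup.centralizer ({s} : Set X) = ⊤ := by
        rw [eq_top_iff]
        intro x _
        rw [Subgroup.mem_centralizer_iff]
        intro y hy
        rw [Set.mem_singleton_iff] at hy
        rw [hy]
        exact ((Subgroup.mem_center_iff.1 hsC) x).symm
      rw [htop, Subgroup.card_top, hX] at hs
      norm_num at hs
    have hZlt : Nat.card (Subgroup.center X) < 9 := by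
      have := card_lt_card_of_lt (lt_of_le_of_ne hZle hZne)
      rw [hs] at this
      norm_num at this
      exact this
    have hZp : IsPGroup 3 (Subgroup.center X) := hXp.to_subgroup _
    obtain ⟨kZ, hkZ⟩ := IsPGroup.iff_card.1 hZp
    have hZ3 : Nat.card (Subgroup.center X) ≤ 3 := by
      rw [hkZ] at hZlt ⊢
      have : kZ ≤ 1 := by
        by_contra h
        have : 3 ^ 2 ≤ 3 ^ kZ := Nat.pow_le_pow_right (by norm_num) (by omega)
        omega
      calc 3 ^ kZ ≤ 3 ^ 1 := Nat.pow_le_pow_right (by norm_num) this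
        _ = 3 := by norm_num
    have hZL2 : Subgroup.center X = L 2 :=
      (Subgroup.eq_of_le_of_card_ge hL2Z (by rw [hc2]; exact hZ3)).symm
    by_contra hne
    have : Group.IsNilpotent X := hXp.isNilpotent
    have h1 := Cfsg.Agent.S0065.inf_center_ne_bot B.normalCore hne
    apply h1
    rw [eq_bot_iff, ← hBL2, hZL2]
    exact inf_le_inf_right _ (Subgroup.normalCore_le B)
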