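import Mathlib
import Cfsg.Agent.Helper2.S2096.Defs

set_option autoImplicit false
set_option linter.unusedSectionVars false
set_option linter.unusedVariables false

/-! S2096/S2097 part A, piece ORTHGEN (helper20): the relation `orth` follows from the other
relations and the centrality of the commutators of the orthogonal pairs. -/

namespace Cfsg.Agent.S2096P

open Cfsg.Agent.S3352P Cfsg.Agent.S3351P Cfsg.Agent.S2086P
open scoped commutatorElement

variable {n : ℕ} {F : Type*} [Field F] [Fintype F] {G : Type*} [Group G] {E : Type*} [Group E]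
  {X : J n → J n → F → G}

namespace ORTHGEN

theorem ne_of_ab {n : ℕ} {x y : J n} (h : ab x ≠ ab y) :
    x ≠ y ∧ x ≠ ng y ∧ ng x ≠ y ∧ ng x ≠ ng y := by
  refine ⟨?_, ?_, ?_, ?_⟩
  · intro e
    exact h (by rw [e])
  · intro e
    exact h (by rw [e, ab_ng])
  · intro e
    exact h (by rw [← e, ab_ng])
  · intro e
    have := congrArg ab e
    rw [ab_ng, ab_ng] at this
    exact h this

/-- the abstract group computation -/
theorem comm_of_rel {E : Type*} [Group E] (x A B P Q R z : E)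
    (hzc : ∀ g : E, g * z = z * g)
    (hxA : x * A * x⁻¹ = P * A) (hxB : x * B * x⁻¹ = Q * B) (hz : A * B = z * B * A)
    (hPB : P * B = R * B * P) (hQA : Q * A = R * A * Q) (hRP : R * P = P * R)
    (hRQ : R * Q = Q * R) : P * Q = Q * P := by
  have hAQ : A * Q = R⁻¹ * Q * A := by
    rw [mul_assoc, hQA]
    simp [mul_assoc]
  have hBP : B * P = R⁻¹ * P * B := by
    rw [mul_assoc, hPB]
    simp [mul_assoc]
  have hzm : ∀ g h : E, z * (g * h) = g * (z * h) := by
    intro g h
    rw [← mul_assoc, ← hzc g, mul_assoc]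
  have e1 : P * A * (Q * B) = z * (Q * B * (P * A)) := by
    rw [← hxA, ← hxB]
    have : x * A * x⁻¹ * (x * B * x⁻¹) = x * (A * B) * x⁻¹ := by
      simp [mul_assoc]
    rw [this, hz]
    have : x * B * x⁻¹ * (x * A * x⁻¹) = x * (B * A) * x⁻¹ := by
      simp [mul_assoc]
    rw [this]
    simp only [mul_assoc]
    rw [hzm x]
  have e2 : P * A * (Q * B) = P * R⁻¹ * Q * (A * B) := by
    calc P * A * (Q * B) = P * (A * Q) * B := by simp only [mul_assoc]
      _ = P * (R⁻¹ * Q * A) * B := by rw [hAQ]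
      _ = P * R⁻¹ * Q * (A * B) := by simp only [mul_assoc]
  have e3 : z * (Q * B * (P * A)) = Q * R⁻¹ * P * (A * B) := by
    calc z * (Q * B * (P * A)) = z * (Q * (B * P) * A) := by simp only [mul_assoc]
      _ = z * (Q * (R⁻¹ * P * B) * A) := by rw [hBP]
      _ = Q * R⁻¹ * P * (z * B * A) := by
        simp only [mul_assoc]
        rw [hzm Q, hzm R⁻¹, hzm P]
      _ = Q * R⁻¹ * P * (A * B) := by rw [← hz]
  have e4 : P * R⁻¹ * Q = Q * R⁻¹ * P := by
    apply mul_right_cancel (b := A * B)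
    rw [← e2, ← e3, e1]
  have hRP' : Commute R⁻¹ P := (show Commute R P from hRP).inv_left
  have hRQ' : Commute R⁻¹ Q := (show Commute R Q from hRQ).inv_left
  have e5 : R⁻¹ * (P * Q) = R⁻¹ * (Q * P) := by
    calc R⁻¹ * (P * Q) = P * R⁻¹ * Q := by rw [← mul_assoc, hRP'.eq]
      _ = Q * R⁻¹ * P := e4
      _ = R⁻¹ * (Q * P) := by rw [← mul_assoc, hRQ'.eq]
  exact mul_left_cancel e5

end ORTHGEN

/-- ORTHGEN: the relation `orth` follows from the other relations and the centrality of the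
commutators of the orthogonal pairs -/
theorem orth_of_central {Z : J n → J n → F → E} (hn : 3 ≤ n)
    (hflip : ∀ a b, IsRoot a b → ∀ t : F, Z (ng b) (ng a) t = Z a b (-t))
    (hadd : ∀ a b, IsRoot a b → ∀ s t : F, Z a b (s + t) = Z a b s * Z a b t)
    (hmul : ∀ a b c, IsRoot a b → IsRoot b c → IsRoot a c → ∀ s t : F,
      cm (Z a b s) (Z b c t) = Z a c (s * t))
    (hcomm : ∀ a b c d, IsRoot a b → IsRoot c d → b ≠ c → a ≠ d → a ≠ ng c → a ≠ ng d →
      b ≠ ng c → b ≠ ng d → ∀ s t : F, Z a b s * Z c d t = Z c d t * Z a b s)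
    (hcen : ∀ a b, IsRoot a b → ∀ s t : F, cm (Z a b s) (Z a (ng b) t) ∈ Subgroup.center E) :
    ∀ a b, IsRoot a b → ∀ s t : F, Z a b s * Z a (ng b) t = Z a (ng b) t * Z a b s := by
  intro a b hab s t
  obtain ⟨k, hka, hkb⟩ := exists_third_ab hn (ab a) (ab b)
  obtain ⟨c, hc⟩ : ∃ c : J n, c = Sum.inl k := ⟨_, rfl⟩
  have hca : ab c ≠ ab a := by rw [hc]; exact hka
  have hcb : ab c ≠ ab b := by rw [hc]; exact hkb
  have hab' : ab a ≠ ab b := isRoot_iff_ab.1 hab
  -- roots
  have r_ac : IsRoot a c := isRoot_iff_ab.2 hca.symm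
  have r_cb : IsRoot c b := isRoot_iff_ab.2 hcb
  have r_cnb : IsRoot c (ng b) := isRoot_iff_ab.2 (by rw [ab_ng]; exact hcb)
  have r_anb : IsRoot a (ng b) := isRoot_iff_ab.2 (by rw [ab_ng]; exact hab')
  have r_bnc : IsRoot b (ng c) := isRoot_iff_ab.2 (by rw [ab_ng]; exact hcb.symm)
  have r_nbnc : IsRoot (ng b) (ng c) := isRoot_iff_ab.2 (by rw [ab_ng, ab_ng]; exact hcb.symm)
  have r_anc : IsRoot a (ng c) := isRoot_iff_ab.2 (by rw [ab_ng]; exact hca.symm)
  obtain ⟨d1, d2, d3, d4⟩ := ORTHGEN.ne_of_ab hca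
  obtain ⟨f1, f2, f3, f4⟩ := ORTHGEN.ne_of_ab hcb
  obtain ⟨g1, g2, g3, g4⟩ := ORTHGEN.ne_of_ab hab'
  -- the elements
  have hz := hcen c b r_cb s t
  rw [Subgroup.mem_center_iff] at hz
  have hxA : Z a c 1 * Z c b s * (Z a c 1)⁻¹ = Z a b s * Z c b s := by
    have := hmul a c b r_ac r_cb hab 1 s
    rw [cm_def, one_mul] at this
    rw [← this]
    simp [mul_assoc]
  have hxB : Z a c 1 * Z c (ng b) t * (Z a c 1)⁻¹ = Z a (ng b) t * Z c (ng b) t := by
    have := hmul a c (ng b) r_ac r_cnb r_anb 1 t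
    rw [cm_def, one_mul] at this
    rw [← this]
    simp [mul_assoc]
  have hzAB : Z c b s * Z c (ng b) t =
      cm (Z c b s) (Z c (ng b) t) * Z c (ng b) t * Z c b s := by
    rw [cm_def]
    simp [mul_assoc]
  have hB : Z c (ng b) t = Z b (ng c) (-t) := by
    have := hflip b (ng c) r_bnc t
    rw [ng_ng] at this
    exact this
  have hA : Z c b s = Z (ng b) (ng c) (-s) := by
    have := hflip (ng b) (ng c) r_nbnc s
    rw [ng_ng, ng_ng] at this
    exact this
  have hPB : Z a b s * Z c (ng b) t = Z a (ng c) (-(s * t)) * Z c (ng b) t * Z a b s := by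
    have := hmul a b (ng c) hab r_bnc r_anc s (-t)
    rw [cm_def, ← hB, mul_neg] at this
    rw [← this]
    simp [mul_assoc]
  have hQA : Z a (ng b) t * Z c b s = Z a (ng c) (-(s * t)) * Z c b s * Z a (ng b) t := by
    have := hmul a (ng b) (ng c) r_anb r_nbnc r_anc t (-s)
    rw [cm_def, ← hA, mul_neg, mul_comm t s] at this
    rw [← this]
    simp [mul_assoc]
  have hRP : Z a (ng c) (-(s * t)) * Z a b s = Z a b s * Z a (ng c) (-(s * t)) := by
    apply hcomm a (ng c) a b r_anc hab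
    · exact d3
    · exact g1
    · exact (ng_ne a).symm
    · exact g2
    · exact fun e => d1 (ng_injective e)
    · exact f4
  have hRQ : Z a (ng c) (-(s * t)) * Z a (ng b) t = Z a (ng b) t * Z a (ng c) (-(s * t)) := by
    apply hcomm a (ng c) a (ng b) r_anc r_anb
    · exact d3
    · exact g2
    · exact (ng_ne a).symm
    · rw [ng_ng]; exact g1
    · exact fun e => d1 (ng_injective e)
    · rw [ng_ng]; exact f3
  exact ORTHGEN.comm_of_rel (Z a c 1) (Z c b s) (Z c (ng b) t) (Z a b s) (Z a (ng b) t)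
    (Z a (ng c) (-(s * t))) (cm (Z c b s) (Z c (ng b) t)) hz hxA hxB hzAB hPB hQA hRP hRQ

end Cfsg.Agent.S2096P
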