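import Mathlib
import Cfsg.Prelude.Def_KGroupFacts
import Cfsg.Agent.Helper20.StemGen

set_option autoImplicit false

namespace Cfsg.Agent.Helper20

open scoped commutatorElement

/-- A subgroup is normal as soon as a generating set and its inverses conjugate it into itself. -/
lemma normal_of_closure_conj {Γ : Type*} [Group Γ] (S : Set Γ) (hS : Subgroup.closure S = ⊤)
    (N : Subgroup Γ) (h : ∀ s ∈ S, ∀ x ∈ N, s * x * s⁻¹ ∈ N ∧ s⁻¹ * x * s ∈ N) : N.Normal := by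
  have key : ∀ g : Γ, ∀ x ∈ N, g * x * g⁻¹ ∈ N ∧ g⁻¹ * x * g ∈ N := by
    intro g
    have hg : g ∈ Subgroup.closure S := by rw [hS]; trivial
    induction hg using Subgroup.closure_induction with
    | mem s hs => exact h s hs
    | one => intro x hx; simpa using hx
    | mul a b _ _ iha ihb =>
      intro x hx
      constructor
      · have := (iha _ (ihb x hx).1).1
        have e : a * b * x * (a * b)⁻¹ = a * (b * x * b⁻¹) * a⁻¹ := by group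
        rw [e]; exact this
      · have := (ihb _ (iha x hx).2).2
        have e : (a * b)⁻¹ * x * (a * b) = b⁻¹ * (a⁻¹ * x * a) * b := by group
        rw [e]; exact this
    | inv a _ iha =>
      intro x hx
      constructor
      · have := (iha x hx).2
        simpa using this
      · have := (iha x hx).1
        simpa using this
  exact ⟨fun x hx g => (key g x hx).1⟩

section

variable {Γ : Type*} [Group Γ] (ρ τ : Γ)

/-- the "dihedral" commutator element `k₁ ρ⁻²` where `k₁ = τ ρ τ⁻¹ ρ` -/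
def dihC : Γ := τ * ρ * τ⁻¹ * ρ * ρ⁻¹ * ρ⁻¹

lemma dihC_eq_comm : dihC ρ τ = ⁅τ, ρ⁆ := by
  rw [dihC, commutatorElement_def]; group

variable (hk : τ * ρ * τ⁻¹ * ρ ∈ Subgroup.center Γ)
include hk

lemma dih_rho_comm : ρ * dihC ρ τ * ρ⁻¹ = dihC ρ τ := by
  have c := Subgroup.mem_center_iff.1 hk
  unfold dihC
  calc ρ * (τ * ρ * τ⁻¹ * ρ * ρ⁻¹ * ρ⁻¹) * ρ⁻¹
      = (ρ * (τ * ρ * τ⁻¹ * ρ)) * ρ⁻¹ * ρ⁻¹ * ρ⁻¹ := by group
    _ = ((τ * ρ * τ⁻¹ * ρ) * ρ) * ρ⁻¹ * ρ⁻¹ * ρ⁻¹ := by rw [c ρ]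
    _ = τ * ρ * τ⁻¹ * ρ * ρ⁻¹ * ρ⁻¹ := by group

lemma dih_tau_inv : τ * dihC ρ τ * τ⁻¹ = (dihC ρ τ)⁻¹ := by
  obtain ⟨k, hkdef⟩ : ∃ k, k = τ * ρ * τ⁻¹ * ρ := ⟨_, rfl⟩
  rw [← hkdef] at hk
  have c := Subgroup.mem_center_iff.1 hk
  have h1 : τ * ρ * τ⁻¹ = k * ρ⁻¹ := by rw [hkdef]; group
  have h2 : τ * ρ⁻¹ * τ⁻¹ = ρ * k⁻¹ := by
    have : τ * ρ⁻¹ * τ⁻¹ = (τ * ρ * τ⁻¹)⁻¹ := by group
    rw [this, h1]; group
  have hd : dihC ρ τ = k * ρ⁻¹ * ρ⁻¹ := by rw [dihC, hkdef]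
  have ck : ∀ g : Γ, g * k⁻¹ = k⁻¹ * g := by
    intro g
    have := c g⁻¹
    calc g * k⁻¹ = (k * g⁻¹)⁻¹ := by group
      _ = (g⁻¹ * k)⁻¹ := by rw [this]
      _ = k⁻¹ * g := by group
  rw [hd]
  calc τ * (k * ρ⁻¹ * ρ⁻¹) * τ⁻¹ = (τ * k) * τ⁻¹ * (τ * ρ⁻¹ * τ⁻¹) * (τ * ρ⁻¹ * τ⁻¹) := by group
    _ = (k * τ) * τ⁻¹ * (ρ * k⁻¹) * (ρ * k⁻¹) := by rw [c τ, h2]
    _ = k * (ρ * k⁻¹) * ρ * k⁻¹ := by group
    _ = k * (k⁻¹ * ρ) * ρ * k⁻¹ := by rw [ck ρ]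
    _ = ρ * (ρ * k⁻¹) := by group
    _ = (k * ρ⁻¹ * ρ⁻¹)⁻¹ := by simp [mul_assoc]

end

end Cfsg.Agent.Helper20

namespace Cfsg.Agent.Helper20

open scoped commutatorElement

lemma conj_mem_zpowers {Γ : Type*} [Group Γ] (s c : Γ)
    (h1 : s * c * s⁻¹ ∈ Subgroup.zpowers c) (h2 : s⁻¹ * c * s ∈ Subgroup.zpowers c) :
    ∀ x ∈ Subgroup.zpowers c, s * x * s⁻¹ ∈ Subgroup.zpowers c ∧ s⁻¹ * x * s ∈ Subgroup.zpowers c := by
  rintro x ⟨j, rfl⟩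
  constructor
  · have : s * c ^ j * s⁻¹ = (s * c * s⁻¹) ^ j := (conj_zpow).symm
    rw [this]; exact Subgroup.zpow_mem _ h1 j
  · have : s⁻¹ * c ^ j * s = (s⁻¹ * c * s) ^ j := by
      have := (conj_zpow (a := s⁻¹) (b := c) (i := j)).symm
      simpa using this
    rw [this]; exact Subgroup.zpow_mem _ h2 j

lemma dih_commutator_le {Γ : Type*} [Group Γ] (ρ τ : Γ)
    (hk : τ * ρ * τ⁻¹ * ρ ∈ Subgroup.center Γ)
    (hgen : Subgroup.closure ({τ, ρ} : Set Γ) = ⊤) :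
    commutator Γ ≤ Subgroup.zpowers (dihC ρ τ) := by
  have h1 := dih_rho_comm ρ τ hk
  have h2 := dih_tau_inv ρ τ hk
  have : (Subgroup.zpowers (dihC ρ τ)).Normal := by
    apply normal_of_closure_conj _ hgen
    rintro s (rfl | rfl)
    · apply conj_mem_zpowers
      · rw [h2]; exact Subgroup.inv_mem _ (Subgroup.mem_zpowers _)
      · have : s⁻¹ * dihC ρ s * s = (dihC ρ s)⁻¹ := by
          have := congrArg (fun x => s⁻¹ * x * s) h2
          beta_reduce at this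
          have e : s⁻¹ * (s * dihC ρ s * s⁻¹) * s = dihC ρ s := by group
          rw [e] at this
          calc s⁻¹ * dihC ρ s * s = (s⁻¹ * (dihC ρ s)⁻¹ * s)⁻¹ := by group
            _ = (dihC ρ s)⁻¹ := by rw [← this]
        rw [this]; exact Subgroup.inv_mem _ (Subgroup.mem_zpowers _)
    · apply conj_mem_zpowers
      · rw [h1]; exact Subgroup.mem_zpowers _
      · have : s⁻¹ * dihC s τ * s = dihC s τ := by
          have := congrArg (fun x => s⁻¹ * x * s) h1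
          beta_reduce at this
          rw [← this]; group
        rw [this]; exact Subgroup.mem_zpowers _
  apply commutator_le_of_two_gen τ ρ hgen
  rw [← dihC_eq_comm]
  exact Subgroup.mem_zpowers _

lemma dih_pow_eq_one {Γ : Type*} [Group Γ] (ρ τ : Γ)
    (hk : τ * ρ * τ⁻¹ * ρ ∈ Subgroup.center Γ) (e : ℕ)
    (he : τ * ρ ^ e * τ⁻¹ = ρ ^ e) : (dihC ρ τ) ^ e = 1 := by
  obtain ⟨k, hkdef⟩ : ∃ k, k = τ * ρ * τ⁻¹ * ρ := ⟨_, rfl⟩
  rw [← hkdef] at hk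
  have c := Subgroup.mem_center_iff.1 hk
  have h1 : τ * ρ * τ⁻¹ = k * ρ⁻¹ := by rw [hkdef]; group
  have hcomm : Commute k ρ⁻¹ := (c ρ⁻¹).symm
  have h2 : ρ ^ e = k ^ e * (ρ⁻¹) ^ e := by
    rw [← hcomm.mul_pow, ← h1, conj_pow, he]
  have hd : dihC ρ τ = k * (ρ⁻¹ * ρ⁻¹) := by rw [dihC, hkdef]; group
  have hcomm2 : Commute k (ρ⁻¹ * ρ⁻¹) := (c _).symm
  rw [hd, hcomm2.mul_pow, (Commute.refl ρ⁻¹).mul_pow, ← mul_assoc, ← h2, inv_pow, mul_inv_cancel]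

end Cfsg.Agent.Helper20

namespace Cfsg.Agent.Helper20

universe u

/-- If every finite stem extension of the finite group `G` has trivial kernel, then the Schur
multiplier of `G` is trivial. -/
lemma hasCyclicSchurMultiplier_one_of_forall_ker {G : Type u} [Group G] [Finite G]
    (h : ∀ (Γ : Type u) [Group Γ] [Finite Γ] (σ : Γ →* G), Cfsg.IsStemExtension σ → σ.ker = ⊥) :
    Cfsg.HasCyclicSchurMultiplier G 1 := by
  constructor
  · have hk : (MonoidHom.id G).ker = ⊥ := by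
      ext x; simp
    refine ⟨G, inferInstance, inferInstance, MonoidHom.id G, ⟨Function.surjective_id, ?_, ?_⟩, ⟨?_⟩⟩
    · rw [hk]; exact bot_le
    · rw [hk]; exact bot_le
    · haveI : Unique (MonoidHom.id G).ker := by
        rw [hk]; infer_instance
      exact MulEquiv.ofUnique
  · intro Γ _ _ σ hσ
    have hker : σ.ker = ⊥ := h Γ σ hσ
    refine ⟨1, ?_⟩
    intro x
    refine ⟨1, ?_⟩
    have hx : (x : Γ) ∈ (⊥ : Subgroup Γ) := hker ▸ x.2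
    rw [Subgroup.mem_bot] at hx
    apply Subtype.ext
    simp [hx]

/-- Kernel elements of a stem extension of a "dihedral-like" group: if `σ τ` inverts `σ ρ` and
the two generate, each kernel element is a power `c ^ j` of the dihedral commutator with
`(σ ρ) ^ (2 j) = 1`. -/
lemma dih_ker_elt {Γ G : Type*} [Group Γ] [Group G] (σ : Γ →* G) (hσ : Cfsg.IsStemExtension σ)
    (ρ τ : Γ) (hgen : Subgroup.closure ({σ τ, σ ρ} : Set G) = ⊤)
    (hinv : σ τ * σ ρ * (σ τ)⁻¹ * σ ρ = 1) :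
    τ * ρ * τ⁻¹ * ρ ∈ Subgroup.center Γ ∧
    ∀ x ∈ σ.ker, ∃ j : ℤ, x = (dihC ρ τ) ^ j ∧ (σ ρ) ^ (2 * j) = 1 := by
  have hk1 : τ * ρ * τ⁻¹ * ρ ∈ σ.ker := by
    rw [MonoidHom.mem_ker]; simpa using hinv
  have hk : τ * ρ * τ⁻¹ * ρ ∈ Subgroup.center Γ := hσ.2.1 hk1
  refine ⟨hk, ?_⟩
  have hgenΓ : Subgroup.closure ({τ, ρ} : Set Γ) = ⊤ := by
    apply closure_eq_top_of_stem σ hσ
    rw [Set.image_pair]; exact hgen
  have hle := dih_commutator_le ρ τ hk hgenΓ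
  intro x hx
  obtain ⟨j, hj⟩ := Subgroup.mem_zpowers_iff.1 (hle (hσ.2.2 hx))
  refine ⟨j, hj.symm, ?_⟩
  have hσc : σ (dihC ρ τ) = (σ ρ)⁻¹ * (σ ρ)⁻¹ := by
    have : σ (dihC ρ τ) = (σ τ * σ ρ * (σ τ)⁻¹ * σ ρ) * (σ ρ)⁻¹ * (σ ρ)⁻¹ := by
      simp [dihC]
    rw [this, hinv, one_mul]
  have h1 : σ ((dihC ρ τ) ^ j) = 1 := by rw [hj]; exact hx
  rw [map_zpow, hσc] at h1
  have h2 : ((σ ρ)⁻¹ * (σ ρ)⁻¹) ^ j = ((σ ρ) ^ (2 * j))⁻¹ := by
    rw [← mul_inv_rev, inv_zpow, ← pow_two, zpow_mul, zpow_ofNat]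
  rw [h2, inv_eq_one] at h1
  exact h1

end Cfsg.Agent.Helper20
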