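import Mathlib
import Cfsg.Agent.Helper2.S2096.Defs
import Cfsg.Agent.Helper2.StnD
import Cfsg.Agent.Helper6.S3352HALFHOM

set_option autoImplicit false
set_option linter.unusedSectionVars false
set_option linter.unusedVariables false

/-! S2096/S2097 part A, piece HALFSL (helper20): the homomorphism `SL_n(F) → G` of a half. -/

namespace Cfsg.Agent.S2096P

open Cfsg.Agent.S3352P Cfsg.Agent.S3351P Cfsg.Agent.S2086P
open scoped commutatorElement

variable {n : ℕ} {F : Type*} [Field F] [Fintype F] {G : Type*} [Group G] {E : Type*} [Group E]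
  {X : J n → J n → F → G}

/-- HALFSL -/
theorem exists_half_sl (hn : 3 ≤ n) (hX : DRel X) (B : Finset (Fin n)) :
    ∃ Θ : Matrix.SpecialLinearGroup (Fin n) F →* G, ∀ (i j : Fin n) (hij : i ≠ j) (t : F),
      Θ (Matrix.SpecialLinearGroup.transvection hij t) = X (half B i) (half B j) t := by
  obtain ⟨θ, hθ⟩ := exists_half_hom hX B
  let e : Cfsg.Agent.Helper2.Stn.G F n ≃* Matrix.SpecialLinearGroup (Fin n) F :=
    MulEquiv.ofBijective Cfsg.Agent.Helper2.Stn.phi
      ⟨Cfsg.Agent.Helper2.Stn.phi_injective hn, Cfsg.Agent.Helper2.Stn.phi_surjective (by omega)⟩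
  refine ⟨θ.comp e.symm.toMonoidHom, ?_⟩
  intro i j hij t
  have h1 : e (Cfsg.Agent.Helper2.Stn.xg i j t) = Matrix.SpecialLinearGroup.transvection hij t :=
    Cfsg.Agent.Helper2.Stn.phi_xg hij t
  rw [← h1]
  simp only [MonoidHom.coe_comp, MulEquiv.coe_toMonoidHom, Function.comp_apply,
    MulEquiv.symm_apply_apply]
  exact hθ i j t hij

end Cfsg.Agent.S2096P
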