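import Mathlib
import Cfsg.Agent.Helper10.S2092.DefsT
import Cfsg.Agent.Helper22.S2092B2CS

set_option autoImplicit false
set_option linter.unusedSectionVars false
set_option linter.unusedVariables false

/-! S2092, part T, piece LIFTB2 (helper20): the lifts `Ys, Yl` give a `Lift` on every circle. -/

namespace Cfsg.Agent.S2092P

open scoped commutatorElement
open Cfsg.Agent.S3352P Cfsg.Agent.S2096P Cfsg.Agent.S2400P
open Cfsg.Agent.S2086P (CL cl)

variable {n : ℕ} {F : Type*} [Field F] {G : Type*} [Group G] {E : Type*} [Group E]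

namespace LIFTB2

variable {M : Type*} [Group M] (Xs : J n → J n → F → M) (Xl : J n → F → M) (i j : Fin n) (t : F)

theorem cX_0 : cX Xs Xl i j 0 t = Xs (Sum.inl i) (Sum.inl j) t := rfl
theorem cX_1 : cX Xs Xl i j 1 t = Xl (Sum.inl i) t := rfl
theorem cX_2 : cX Xs Xl i j 2 t = Xs (Sum.inl i) (Sum.inr j) t := rfl
theorem cX_3 : cX Xs Xl i j 3 t = Xl (Sum.inl j) (-t) := rfl
theorem cX_4 : cX Xs Xl i j 4 t = Xs (Sum.inl j) (Sum.inl i) t := rfl
theorem cX_5 : cX Xs Xl i j 5 t = Xl (Sum.inr i) t := rfl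
theorem cX_6 : cX Xs Xl i j 6 t = Xs (Sum.inr i) (Sum.inl j) t := rfl
theorem cX_7 : cX Xs Xl i j 7 t = Xl (Sum.inr j) (-t) := rfl

theorem k_cases (k : ZMod 8) :
    k = 0 ∨ k = 1 ∨ k = 2 ∨ k = 3 ∨ k = 4 ∨ k = 5 ∨ k = 6 ∨ k = 7 := by
  revert k
  decide

end LIFTB2

open LIFTB2 in
theorem lift_of_eLift (S : CnT n F G) (ψ : E →* G) {Ys : J n → J n → F → E} {Yl : J n → F → E}
    (h : ELift S ψ Ys Yl) (i j : Fin n) (hij : i ≠ j) (B : B2C F G)
    (hBX : B.X = cX S.Xs S.Xl i j) (hBH : B.H = cH S.H i j) : Lift B ψ (cX Ys Yl i j) := by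
  have r0 : IsRoot (Sum.inl i : J n) (Sum.inl j) := isRoot_iff_ab.2 (by simpa using hij)
  have r2 : IsRoot (Sum.inl i : J n) (Sum.inr j) := isRoot_iff_ab.2 (by simpa using hij)
  have r4 : IsRoot (Sum.inl j : J n) (Sum.inl i) := isRoot_iff_ab.2 (by simpa using hij.symm)
  have r6 : IsRoot (Sum.inr i : J n) (Sum.inl j) := isRoot_iff_ab.2 (by simpa using hij)
  refine ⟨?_, ?_, ?_⟩
  · intro k t
    rw [hBX]
    rcases k_cases k with rfl | rfl | rfl | rfl | rfl | rfl | rfl | rfl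
    · rw [cX_0, cX_0]; exact h.maps _ _ r0 t
    · rw [cX_1, cX_1]; exact h.mapl _ t
    · rw [cX_2, cX_2]; exact h.maps _ _ r2 t
    · rw [cX_3, cX_3]; exact h.mapl _ _
    · rw [cX_4, cX_4]; exact h.maps _ _ r4 t
    · rw [cX_5, cX_5]; exact h.mapl _ t
    · rw [cX_6, cX_6]; exact h.maps _ _ r6 t
    · rw [cX_7, cX_7]; exact h.mapl _ _
  · intro k t u
    rcases k_cases k with rfl | rfl | rfl | rfl | rfl | rfl | rfl | rfl
    · rw [cX_0, cX_0, cX_0]; exact (h.adds _ _ r0 t u).symm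
    · rw [cX_1, cX_1, cX_1]; exact (h.addl _ t u).symm
    · rw [cX_2, cX_2, cX_2]; exact (h.adds _ _ r2 t u).symm
    · rw [cX_3, cX_3, cX_3, neg_add]; exact (h.addl _ _ _).symm
    · rw [cX_4, cX_4, cX_4]; exact (h.adds _ _ r4 t u).symm
    · rw [cX_5, cX_5, cX_5]; exact (h.addl _ t u).symm
    · rw [cX_6, cX_6, cX_6]; exact (h.adds _ _ r6 t u).symm
    · rw [cX_7, cX_7, cX_7, neg_add]; exact (h.addl _ _ _).symm
  · intro g j' w hw hg k t
    rw [hBH, cH_of_ne S.H i j j' hw] at hg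
    have := cX_conj_of Ys Yl g (corD i j j' (Units.mk0 w hw)) (h.conjs g _ hg) (h.conjl g _ hg)
      i j hij j' (Units.mk0 w hw) rfl k t
    rw [Units.val_mk0] at this
    exact this

end Cfsg.Agent.S2092P
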