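import Mathlib
import Cfsg.Agent.Helper10.S2092.DefsT
import Cfsg.Agent.Helper19.S2400SECQB
import Cfsg.Agent.Helper18.S2092ORTHBI
import Cfsg.Agent.Helper18.S2092ORTHHW

set_option autoImplicit false
set_option linter.unusedSectionVars false
set_option linter.unusedVariables false

/-! S2092, part T, piece ORTH3 (helper20): for `|F| = 3` all commutators
`⁅Ys a b s, Ys b (ng a) t⁆` agree with the chosen lift `qYl` of the long root element. -/

namespace Cfsg.Agent.S2092P

open scoped commutatorElement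
open Cfsg.Agent.S3352P Cfsg.Agent.S2096P Cfsg.Agent.S2400P
open Cfsg.Agent.S2086P (CL cl)

variable {n : ℕ} {F : Type*} [Field F] {G : Type*} [Group G] {E : Type*} [Group E]

namespace ORTH3

/-- a biadditive map over `𝔽₃` only depends on the product of its arguments -/
theorem biadd3 [Fintype F] (h3 : Fintype.card F = 3) (Φ : F → F → E)
    (h1 : ∀ s s' t, Φ (s + s') t = Φ s t * Φ s' t) (h2 : ∀ s t t', Φ s (t + t') = Φ s t * Φ s t')
    (s t : F) : Φ s t = Φ (s * t) 1 := by
  have hz1 : ∀ t, Φ 0 t = 1 := by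
    intro t
    have := h1 0 0 t
    rw [add_zero] at this
    exact (mul_eq_left.mp this.symm)
  have hz2 : ∀ s, Φ s 0 = 1 := by
    intro s
    have := h2 s 0 0
    rw [add_zero] at this
    exact (mul_eq_left.mp this.symm)
  have hn1 : ∀ s t, Φ (-s) t = (Φ s t)⁻¹ := by
    intro s t
    apply eq_inv_of_mul_eq_one_left
    rw [← h1, neg_add_cancel, hz1]
  have hn2 : ∀ s t, Φ s (-t) = (Φ s t)⁻¹ := by
    intro s t
    apply eq_inv_of_mul_eq_one_left
    rw [← h2, neg_add_cancel, hz2]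
  rcases Cfsg.Agent.S2400P.SECQB.cases3 h3 t with rfl | rfl | rfl
  · rw [mul_zero, hz2, hz1]
  · rw [mul_one]
  · rw [mul_neg, mul_one, hn1, hn2]

/-- inverse of a commutator -/
theorem comm_inv' (x y : E) : ⁅x, y⁆ = ⁅y, x⁆⁻¹ := (commutatorElement_inv y x).symm

end ORTH3

theorem orth_of_eLiftS [Fintype F] (h3 : Fintype.card F = 3) (hn : 2 ≤ n) (S : CnT n F G)
    (ψ : E →* G) (hψ : Function.Surjective ψ) (hc : ψ.ker ≤ Subgroup.center E)
    {Ys : J n → J n → F → E} (h : ELiftS S ψ Ys) (a b : J n) (hab : IsRoot a b) (s t : F) :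
    ⁅Ys a b s, Ys b (ng a) t⁆ = qYl hn Ys a (2 * s * t) := by
  have hF : 3 ≤ Fintype.card F := by rw [h3]
  have h20 : (2 : F) ≠ 0 := Cfsg.Agent.S2400P.SECQB.two_ne_zero3 h3
  set p : J n := pt hn a with hp
  have hpa : ab p ≠ ab a := ab_pt_ne hn a
  have hrp : IsRoot a p := isRoot_iff_ab.2 (Ne.symm hpa)
  -- the biadditive maps
  have hbi : ∀ b' : J n, IsRoot a b' → ∀ s t : F,
      ⁅Ys a b' s, Ys b' (ng a) t⁆ = ⁅Ys a b' (s * t), Ys b' (ng a) 1⁆ := by
    intro b' hab' s t
    obtain ⟨k1, k2, -⟩ := orth_biadd hF S ψ hψ hc h a b' hab'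
    exact ORTH3.biadd3 h3 (fun s t => ⁅Ys a b' s, Ys b' (ng a) t⁆) k1 k2 s t
  have hq : qYl hn Ys a (2 * s * t) = ⁅Ys a p (s * t), Ys p (ng a) 1⁆ := by
    unfold qYl
    rw [← hp]
    congr 2
    field_simp
  rw [hq]
  by_cases hbp : ab b = ab p
  · rcases eq_or_eq_ng_of_ab_eq hbp with rfl | hb
    · exact hbi _ hab s t
    · -- `b = ng p`
      subst hb
      have hrpa : IsRoot p (ng a) := isRoot_iff_ab.2 (by rw [ab_ng]; exact hpa)
      have e1 : ∀ u : F, Ys a (ng p) u = Ys p (ng a) (sgF F a * sgF F p * u) := by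
        intro u
        have := h.flip p (ng a) hrpa u
        rw [ng_ng] at this
        rw [this, sgF_ng]
        congr 1
        ring
      have e2 : ∀ u : F, Ys (ng p) (ng a) u = Ys a p (-(sgF F a * sgF F p) * u) :=
        fun u => h.flip a p hrp u
      obtain ⟨k1, k2, -⟩ := orth_biadd hF S ψ hψ hc h a p hrp
      have hn1 : ∀ x y : F, ⁅Ys a p (-x), Ys p (ng a) y⁆ = ⁅Ys a p x, Ys p (ng a) y⁆⁻¹ := by
        intro x y
        apply eq_inv_of_mul_eq_one_left
        rw [← k1, neg_add_cancel]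
        have := k1 0 0 y
        rw [add_zero] at this
        exact (mul_eq_left.mp this.symm)
      have hεε : (sgF F a * sgF F p) * (sgF F a * sgF F p) = 1 := by
        rw [mul_mul_mul_comm, sgF_mul_self, sgF_mul_self, mul_one]
      rw [e1, e2, ORTH3.comm_inv', neg_mul, hn1, inv_inv, hbi p hrp]
      congr 2
      calc sgF F a * sgF F p * t * (sgF F a * sgF F p * s)
          = (sgF F a * sgF F p) * (sgF F a * sgF F p) * (s * t) := by ring
        _ = s * t := by rw [hεε, one_mul]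
  · rw [orth_hw hF S ψ hψ hc h a b p (isRoot_iff_ab.1 hab) (Ne.symm hpa) hbp s t]
    exact hbi p hrp s t

end Cfsg.Agent.S2092P
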