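import Mathlib
import Cfsg.Agent.Helper13.S2276Defs

/-! S2276 piece FORMGLUE (driver helper13; helper20): `glue 1 ·` of a `formPerm`. Self-contained
(the few `glue` facts needed are proved here in the namespace `FORMGLUE`). -/

set_option autoImplicit false
set_option linter.unusedSectionVars false
set_option linter.unusedVariables false

namespace Cfsg.Agent.S2276P

open Equiv Equiv.Perm

namespace FORMGLUE

theorem glue_castAdd {a b : ℕ} (x : Perm (Fin a)) (y : Perm (Fin b)) (i : Fin a) :
    glue x y (Fin.castAdd b i) = Fin.castAdd b (x i) := by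
  unfold glue
  simp [Equiv.permCongr_apply]

theorem glue_natAdd {a b : ℕ} (x : Perm (Fin a)) (y : Perm (Fin b)) (i : Fin b) :
    glue x y (Fin.natAdd a i) = Fin.natAdd a (y i) := by
  unfold glue
  simp [Equiv.permCongr_apply]

theorem glue_one_mul (a : ℕ) {b : ℕ} (y y' : Perm (Fin b)) :
    glue (1 : Perm (Fin a)) (y * y') = glue 1 y * glue 1 y' := by
  ext i
  refine Fin.addCases (fun j => ?_) (fun j => ?_) i
  · simp [glue_castAdd]
  · simp [glue_natAdd]

theorem glue_one_one (a b : ℕ) : glue (1 : Perm (Fin a)) (1 : Perm (Fin b)) = 1 := by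
  ext i
  refine Fin.addCases (fun j => ?_) (fun j => ?_) i
  · simp [glue_castAdd]
  · simp [glue_natAdd]

theorem glue_one_swap (a : ℕ) {b : ℕ} (i j : Fin b) :
    glue (1 : Perm (Fin a)) (swap i j) = swap (Fin.natAdd a i) (Fin.natAdd a j) := by
  ext k
  refine Fin.addCases (fun l => ?_) (fun l => ?_) k
  · rw [glue_castAdd, swap_apply_of_ne_of_ne]
    · simp
    · intro h
      have := congrArg Fin.val h
      simp at this
      omega
    · intro h
      have := congrArg Fin.val h
      simp at this
      omega
  · rw [glue_natAdd]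
    by_cases h1 : l = i
    · subst h1
      simp
    · by_cases h2 : l = j
      · subst h2
        simp
      · rw [swap_apply_of_ne_of_ne h1 h2, swap_apply_of_ne_of_ne]
        · intro h
          exact h1 (Fin.natAdd_injective _ _ h)
        · intro h
          exact h2 (Fin.natAdd_injective _ _ h)

end FORMGLUE

theorem FORMGLUE.right (a : ℕ) {b : ℕ} (S : List (Fin b)) :
    glue (1 : Perm (Fin a)) S.formPerm = (S.map (Fin.natAdd a)).formPerm := by
  induction S with
  | nil => simpa using FORMGLUE.glue_one_one a b
  | cons x l ih =>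
    cases l with
    | nil => simpa using FORMGLUE.glue_one_one a b
    | cons y l =>
      rw [List.formPerm_cons_cons, FORMGLUE.glue_one_mul, ih, FORMGLUE.glue_one_swap]
      simp [List.formPerm_cons_cons]

end Cfsg.Agent.S2276P
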