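import Mathlib
import Cfsg.Agent.Helper10.S2548Defs
import Cfsg.Agent.Helper10.MatBNC
import Cfsg.Agent.Helper17.S2548SUPP
import Cfsg.Agent.Helper23.S2546MONALG
import Cfsg.Agent.Helper19.S2548WMON
import Cfsg.Agent.Lead.S2548N0PERM

set_option autoImplicit false
open scoped Matrix

/-! S2548 project (driver helper10), piece N0: a lift of the longest element to the subgroup
generated by the lifts of the simple reflections. -/

namespace Cfsg.Agent.S2548P

open Cfsg.Agent.MatBN
open Cfsg.Agent.S2546P (E)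

variable {K : Type*} [Field K] {n : ℕ}

namespace N0

theorem exists_n0 (hn : n % 2 = 0) (hn4 : 4 ≤ n) (s : Fin (n / 2) → OmJ K n)
    (hs : ∀ j, rho n (s j) = sMat n j) :
    ∃ n₀ ∈ Subgroup.closure (Set.range s), Mon (rho n n₀) (pi0 n) := by
  have key : ∀ π ∈ Subgroup.closure (Set.range (fun j : Fin (n / 2) => tau n j)),
      ∃ g ∈ Subgroup.closure (Set.range s), Mon (rho n g) π := by
    intro π hπ
    induction hπ using Subgroup.closure_induction with
    | mem π hπ =>
      obtain ⟨j, rfl⟩ := hπ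
      refine ⟨s j, Subgroup.subset_closure ⟨j, rfl⟩, ?_⟩
      rw [hs j]
      exact WMON.mon_wM hn (SUPP.isRt_node hn hn4 j.2).1
    | one =>
      refine ⟨1, Subgroup.one_mem _, ?_⟩
      rw [map_one]
      exact Mon.one
    | mul π₁ π₂ _ _ ih₁ ih₂ =>
      obtain ⟨g₁, hg₁, hm₁⟩ := ih₁
      obtain ⟨g₂, hg₂, hm₂⟩ := ih₂
      refine ⟨g₁ * g₂, Subgroup.mul_mem _ hg₁ hg₂, ?_⟩
      rw [map_mul]
      exact Mon.mul hm₁ hm₂
    | inv π _ ih =>
      obtain ⟨g, hg, hm⟩ := ih
      refine ⟨g⁻¹, Subgroup.inv_mem _ hg, ?_⟩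
      have hinv : rho n g * rho n g⁻¹ = 1 := by
        rw [← map_mul, mul_inv_cancel, map_one]
      exact Mon.of_mul_eq_one hm hinv
  exact key (pi0 n) (N0PERM.pi0_mem hn hn4)

end N0

end Cfsg.Agent.S2548P
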