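import Mathlib
import Cfsg.Agent.Helper10.S2548Defs

set_option autoImplicit false
open scoped Matrix

/-! S2548 project (driver helper10): elementary facts on the permutation `pi0 n` of the longest
element (helper20; used by the pieces N0OPP and N0LOW). -/

namespace Cfsg.Agent.S2548P

open Cfsg.Agent.MatBN

namespace PI0

variable {n : ℕ}

theorem midSwap_val (hn2 : 2 ≤ n) (a : Fin n) :
    (midSwap n a).val = if a.val = n / 2 - 1 then n / 2 else if a.val = n / 2 then n / 2 - 1
      else a.val := by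
  unfold midSwap
  rw [dif_pos hn2, Equiv.swap_apply_def]
  by_cases h1 : a.val = n / 2 - 1
  · have : a = ⟨n / 2 - 1, by omega⟩ := Fin.ext h1
    rw [if_pos this, if_pos h1]
  · have h1' : a ≠ ⟨n / 2 - 1, by omega⟩ := fun h => h1 (congrArg Fin.val h)
    rw [if_neg h1', if_neg h1]
    by_cases h2 : a.val = n / 2
    · have : a = ⟨n / 2, by omega⟩ := Fin.ext h2
      rw [if_pos this, if_pos h2]
    · have h2' : a ≠ ⟨n / 2, by omega⟩ := fun h => h2 (congrArg Fin.val h)
      rw [if_neg h2', if_neg h2]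

/-- the values of `pi0` -/
theorem pi0_val (hn : n % 2 = 0) (hn2 : 2 ≤ n) (a : Fin n) :
    (pi0 n a).val = if (n / 2) % 2 = 0 then n - 1 - a.val else
      if a.val = n / 2 - 1 ∨ a.val = n / 2 then a.val else n - 1 - a.val := by
  unfold pi0
  by_cases hm : (n / 2) % 2 = 0
  · rw [if_pos hm, if_pos hm, Fin.revPerm_apply, Fin.val_rev]
    omega
  · rw [if_neg hm, if_neg hm, Equiv.Perm.mul_apply, Fin.revPerm_apply, Fin.val_rev, midSwap_val hn2]
    have := a.2
    split_ifs <;> omega

/-- `pi0` is an involution -/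
theorem pi0_pi0 (hn : n % 2 = 0) (hn2 : 2 ≤ n) (a : Fin n) : pi0 n (pi0 n a) = a := by
  apply Fin.ext
  rw [pi0_val hn hn2, pi0_val hn hn2]
  have := a.2
  split_ifs <;> omega

theorem pi0_inv (hn : n % 2 = 0) (hn2 : 2 ≤ n) : (pi0 n)⁻¹ = pi0 n := by
  apply Equiv.ext
  intro a
  rw [Equiv.Perm.inv_eq_iff_eq]
  exact (pi0_pi0 hn hn2 a).symm

/-- `pi0` reverses the order, except possibly on the two middle positions -/
theorem pi0_lt (hn : n % 2 = 0) (hn2 : 2 ≤ n) {a c : Fin n} (hac : a < c) :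
    pi0 n c < pi0 n a ∨ (a.val + 1 = n / 2 ∧ c.val = n / 2) := by
  have ha := a.2
  have hc := c.2
  have hac' : a.val < c.val := hac
  by_cases hex : a.val + 1 = n / 2 ∧ c.val = n / 2
  · exact Or.inr hex
  · left
    show (pi0 n c).val < (pi0 n a).val
    rw [pi0_val hn hn2, pi0_val hn hn2]
    split_ifs <;> omega

/-- `pi0` reverses the order on roots -/
theorem pi0_lt_of_isRt (hn : n % 2 = 0) (hn2 : 2 ≤ n) {a c : Fin n} (h : IsRt n a.val c.val)
    (hca : c < a) : pi0 n a < pi0 n c := by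
  rcases pi0_lt hn hn2 hca with h1 | ⟨h1, h2⟩
  · exact h1
  · exfalso
    obtain ⟨-, -, -, h4⟩ := h
    omega

end PI0

end Cfsg.Agent.S2548P
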