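import Mathlib
import Cfsg.Agent.Helper10.S2548Defs
import Cfsg.Agent.Helper10.MatBNC
import Cfsg.Agent.Helper17.S2548SUPP
import Cfsg.Agent.Helper20.S2548PI0
import Cfsg.Agent.Helper10.S2548MONCONJ
import Cfsg.Agent.Helper18.S2548MONREV

set_option autoImplicit false
open scoped Matrix

/-! S2548 project (driver helper10), piece N0LOW: the longest element conjugates negative root
elements to upper triangular matrices. -/

namespace Cfsg.Agent.S2548P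

open Cfsg.Agent.MatBN
open Cfsg.Agent.S2546P (E)

variable {K : Type*} [Field K] {n : ℕ}

namespace N0LOW

theorem n0_low (hn : n % 2 = 0) (hn4 : 4 ≤ n) (n₀ : OJ K n) (h₀ : Mon (mat n n₀) (pi0 n))
    {i k : ℕ} (h : IsRt n i k) (hki : k < i) (t : K) :
    IsTri (mat n n₀ * xR n i k t * mat n n₀⁻¹) := by
  have hrt : IsRt n (⟨i, h.1⟩ : Fin n).val (⟨k, h.2.1⟩ : Fin n).val := h
  obtain ⟨t', -, heq⟩ := MONCONJ.mon_conj hn n₀ (pi0 n) h₀ ⟨i, h.1⟩ ⟨k, h.2.1⟩ hrt t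
  have heq' : mat n n₀ * xR n i k t * mat n n₀⁻¹ =
      xR n (pi0 n ⟨i, h.1⟩).val (pi0 n ⟨k, h.2.1⟩).val t' := heq
  rw [heq']
  have hrt' := MONREV.mon_isRt hn n₀ (pi0 n) h₀ ⟨i, h.1⟩ ⟨k, h.2.1⟩ hrt
  have hlt : pi0 n ⟨i, h.1⟩ < pi0 n ⟨k, h.2.1⟩ :=
    PI0.pi0_lt_of_isRt hn (by omega) hrt (by exact hki)
  exact (SUPP.isUni_xR hn hrt' hlt t').1

end N0LOW

end Cfsg.Agent.S2548P
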