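import Mathlib
import Cfsg.Agent.Helper10.S2548Defs
import Cfsg.Agent.Helper10.MatBNC
import Cfsg.Agent.Helper10.S2548PRES
import Cfsg.Agent.Helper23.S2546MONALG
import Cfsg.Agent.Helper20.S2548PI0
import Cfsg.Agent.Helper18.S2548TRIMID

set_option autoImplicit false
open scoped Matrix

/-! S2548 project (driver helper10), piece N0OPP: `U ∩ n₀ B n₀⁻¹ = 1`. -/

namespace Cfsg.Agent.S2548P

open Cfsg.Agent.MatBN
open Cfsg.Agent.S2546P (E)

variable {K : Type*} [Field K] {n : ℕ}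

namespace N0OPP

theorem n0_opp (hn : n % 2 = 0) (hn4 : 4 ≤ n) (n₀ : OJ K n) (h₀ : Mon (mat n n₀) (pi0 n))
    (x : OJ K n) (hx : IsUni (mat n x)) (hc : IsTri (mat n (n₀⁻¹ * x * n₀))) : x = 1 := by
  have hn2 : 2 ≤ n := by omega
  have hinv : mat n n₀ * mat n n₀⁻¹ = 1 := by
    rw [← map_mul, mul_inv_cancel, map_one]
  have hinv' : mat n n₀⁻¹ * mat n n₀ = 1 := by
    rw [← map_mul, inv_mul_cancel, map_one]
  have hM : Mon (mat n n₀⁻¹) (pi0 n) := by
    have := Mon.of_mul_eq_one h₀ hinv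
    rwa [PI0.pi0_inv hn hn2] at this
  have hc' : IsTri (mat n n₀⁻¹ * mat n x * mat n n₀) := by
    rw [← map_mul, ← map_mul]
    exact hc
  have hup : ∀ a c : Fin n, a < c → mat n x a c = 0 := by
    intro a c hac
    rcases PI0.pi0_lt hn hn2 hac with hlt | ⟨h1, h2⟩
    · have h0 := hc' (pi0 n a) (pi0 n c) hlt
      by_contra hne
      apply (Mon.conj_apply_ne_zero_iff (A := mat n x) hM hinv' (pi0 n a) (pi0 n c)).mpr _ h0
      rw [PI0.pi0_inv hn hn2, PI0.pi0_pi0 hn hn2, PI0.pi0_pi0 hn hn2]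
      exact hne
    · exact TRIMID.tri_mid hn x hx.1 a c h1 h2
  have hone : mat n x = 1 := by
    ext a c
    rcases lt_trichotomy a c with hac | hac | hac
    · rw [hup a c hac, Matrix.one_apply_ne hac.ne]
    · rw [hac, hx.2 c, Matrix.one_apply_eq]
    · rw [hx.1 a c hac, Matrix.one_apply_ne hac.ne']
  apply PRES.mat_injective
  rw [hone, map_one]

end N0OPP

end Cfsg.Agent.S2548P
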