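import Mathlib
import Cfsg.Agent.Helper7.S2862Defs
import Cfsg.Agent.Helper14.PCore
import Cfsg.Agent.Helper17.S2862CP9
import Cfsg.Agent.Helper19.S2862CP3
import Cfsg.Agent.Helper22.S2862CP4
import Cfsg.Agent.Helper22.S2862CP11

/-! Board `s2862pieces`, row CP1: `O_p(H)` acts trivially on a chief factor inside it
(`C_X(O_p(H))` is `H`-invariant and nontrivial by CP9, so it is everything), hence `[Vt,Vt] ≤ Vb`. -/

set_option autoImplicit false
set_option linter.unusedVariables false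

namespace Cfsg.Agent.S2862P

open Cfsg
open Cfsg.Agent.Helper14 (cj)
open Subgroup
open scoped commutatorElement

variable {G : Type*} [Group G] [Finite G] {p : ℕ} [Fact p.Prime]
variable {H Y D L L0 Vt Vb : Subgroup G}

/-- CP1 : `O_p(H)` acts trivially on a chief factor inside it. -/
theorem CP_comm_core (C : ChiefPair p H Vt Vb) : ⁅Vt, pCoreOf p H⁆ ≤ Vb := by
  have hQH : pCoreOf p H ≤ H := Cfsg.Agent.Helper14.pCoreOf_le p H
  obtain ⟨v, hv, hvb, hfix⟩ := exists_fix C (U := pCoreOf p H) (Zt := Vt) (Zb := Vb)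
    (Cfsg.Agent.Helper14.pCoreOf_isPGroup p H) le_rfl C.lt le_rfl (hQH.trans C.nt) (hQH.trans C.nb)
  have hinv : H ≤ normalizer ((fixP Vt Vb (pCoreOf p H) : Subgroup G) : Set G) := by
    intro g hg
    exact fixP_inv C hQH hg (Cfsg.Agent.Helper14.le_normalizer_pCoreOf p H hg)
  have hZ : fixP Vt Vb (pCoreOf p H) = Vt := by
    rcases C.chief (fixP Vt Vb (pCoreOf p H)) hinv (le_fixP C hQH) (fixP_le C hQH) with h | h
    · exfalso
      apply hvb
      rw [← h]
      exact (mem_fixP C hQH).2 ⟨hv, hfix⟩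
    · exact h
  rw [Subgroup.commutator_le]
  intro x hx a ha
  have hx' : x ∈ fixP Vt Vb (pCoreOf p H) := by rw [hZ]; exact hx
  exact ((mem_fixP C hQH).1 hx').2 a ha

/-- CP1b -/
theorem CP_abel (C : ChiefPair p H Vt Vb) : ⁅Vt, Vt⁆ ≤ Vb :=
  (Subgroup.commutator_mono le_rfl C.le).trans (CP_comm_core C)

end Cfsg.Agent.S2862P
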