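import Mathlib

set_option autoImplicit false

/-! # S3557 piece DICH -/

namespace Cfsg.Agent.S3557P

open MulAction

/-- DICH: a normal subgroup `M` of index `p` either contains all point stabilizers of the orbit of `b`
or is transitive on that orbit. -/
theorem DICH {P Ω : Type*} [Group P] [Finite P] [MulAction P Ω] (p : ℕ) [Fact p.Prime]
    (M : Subgroup P) (hMn : M.Normal) (hMi : M.index = p) (b : Ω) :
    (∀ y ∈ orbit P b, stabilizer P y ≤ M) ∨
      (∀ y ∈ orbit P b, ∀ y' ∈ orbit P b, ∃ m ∈ M, m • y = y') := by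
  have hp : p.Prime := Fact.out
  by_cases h : stabilizer P b ≤ M
  · left
    rintro y ⟨g, rfl⟩ k hk
    have hk' : k • (g • b) = g • b := hk
    have h1 : g⁻¹ * k * g ∈ stabilizer P b := by
      rw [mem_stabilizer_iff, mul_smul, mul_smul, hk', inv_smul_smul]
    have h2 : g⁻¹ * k * g ∈ M := h h1
    have h3 := hMn.conj_mem _ h2 g
    have h4 : g * (g⁻¹ * k * g) * g⁻¹ = k := by group
    rwa [h4] at h3
  · right
    -- `M ⊔ stabilizer = ⊤`
    have hle : M ≤ M ⊔ stabilizer P b := le_sup_left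
    have hrel := Subgroup.relIndex_mul_index hle
    rw [hMi] at hrel
    have hdvd : (M ⊔ stabilizer P b).index ∣ p := Dvd.intro_left _ hrel
    have htop : M ⊔ stabilizer P b = ⊤ := by
      rcases (Nat.dvd_prime hp).mp hdvd with h1 | h1
      · exact Subgroup.index_eq_one.mp h1
      · exfalso
        rw [h1] at hrel
        have h2 : M.relIndex (M ⊔ stabilizer P b) = 1 := by
          have hp0 : 0 < p := hp.pos
          exact Nat.eq_of_mul_eq_mul_right hp0 (by rw [hrel, one_mul])
        have h3 : M ⊔ stabilizer P b ≤ M := Subgroup.relIndex_eq_one.mp h2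
        exact h (le_trans le_sup_right h3)
    have hdec : ∀ k : P, ∃ m ∈ M, m • b = k • b := by
      intro k
      have hk : k ∈ M ⊔ stabilizer P b := by rw [htop]; trivial
      have := hMn
      rw [← SetLike.mem_coe, Subgroup.normal_mul] at hk
      obtain ⟨m, hm, s, hs, rfl⟩ := Set.mem_mul.mp hk
      refine ⟨m, hm, ?_⟩
      have hs' : s • b = b := hs
      rw [mul_smul, hs']
    rintro y ⟨g, rfl⟩ y' ⟨g', rfl⟩
    obtain ⟨m0, hm0, hm0b⟩ := hdec (g⁻¹ * g')
    refine ⟨g * m0 * g⁻¹, hMn.conj_mem _ hm0 g, ?_⟩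
    show (g * m0 * g⁻¹) • (g • b) = g' • b
    rw [mul_smul, inv_smul_smul, mul_smul, hm0b, mul_smul, smul_inv_smul]

end Cfsg.Agent.S3557P
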