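import Mathlib

set_option autoImplicit false

/-! # S3557 piece MAX -/

namespace Cfsg.Agent.S3557P

open MulAction

/-- MAX: a normal subgroup of index `p` containing all point stabilizers of an orbit of size `p²`. -/
theorem MAX {P Ω : Type*} [Group P] [Finite P] [MulAction P Ω] (p : ℕ) [Fact p.Prime]
    (hP : IsPGroup p P) (a : Ω) (ha : Nat.card (orbit P a) = p ^ 2) :
    ∃ M : Subgroup P, M.Normal ∧ M.index = p ∧ ∀ x ∈ orbit P a, stabilizer P x ≤ M := by
  have hp : p.Prime := Fact.out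
  -- index of the stabilizer
  have hidx : (stabilizer P a).index = p ^ 2 := by
    rw [index_stabilizer, ← ha, Nat.card_coe_set_eq]
  obtain ⟨n, hn⟩ := IsPGroup.iff_card.mp hP
  obtain ⟨k, hk⟩ := IsPGroup.iff_card.mp (hP.to_subgroup (stabilizer P a))
  have hmul := (stabilizer P a).card_mul_index
  rw [hidx, hn, hk, ← pow_add] at hmul
  have hnk : k + 2 = n := Nat.pow_right_injective hp.two_le hmul
  -- subgroup of order p^(k+1)
  have hdvd : p ^ (k + 1) ∣ Nat.card P := by
    rw [hn, ← hnk]; exact pow_dvd_pow p (by omega)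
  obtain ⟨M, hMcard, hMle⟩ := Sylow.exists_subgroup_card_pow_succ hdvd hk
  have hMidx : M.index = p := by
    have h1 := M.card_mul_index
    rw [hMcard, hn, ← hnk] at h1
    have h2 : p ^ (k + 2) = p ^ (k + 1) * p := by ring
    rw [h2] at h1
    exact Nat.eq_of_mul_eq_mul_left (pow_pos hp.pos _) h1
  have hMn : M.Normal := by
    apply Subgroup.normal_of_index_eq_minFac_card
    rw [hMidx, hn, ← hnk, Nat.Prime.pow_minFac hp (by omega)]
  refine ⟨M, hMn, hMidx, ?_⟩
  rintro x ⟨g, rfl⟩ h hh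
  have hh' : h • (g • a) = g • a := hh
  have h1 : g⁻¹ * h * g ∈ stabilizer P a := by
    rw [mem_stabilizer_iff, mul_smul, mul_smul, hh', inv_smul_smul]
  have h2 : g⁻¹ * h * g ∈ M := hMle h1
  have h3 := hMn.conj_mem _ h2 g
  have h4 : g * (g⁻¹ * h * g) * g⁻¹ = h := by group
  rwa [h4] at h3

end Cfsg.Agent.S3557P
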