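import Mathlib
import Cfsg.Agent.Helper13.S3816Defs
import Cfsg.Agent.Helper13.S3816Basic
import Cfsg.Agent.Helper1.PGroup
import Cfsg.Agent.Lead.CoprimeFrattini

/-! Board `s3816pieces`, row PHI: basic facts on `Phi K = Φ(K)` inside `G`. -/

set_option autoImplicit false

namespace Cfsg.Agent.S3816P

universe u

variable {G : Type u} [Group G] [Finite G] {p : ℕ} [Fact p.Prime] {A K N : Subgroup G}

local notation "CA" => Subgroup.centralizer (A : Set G)

/-- PHI -/
theorem Phi_le (K : Subgroup G) : Phi K ≤ K := Subgroup.map_subtype_le _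

/-- PHI -/
theorem Phi_normalizer_le (K : Subgroup G) :
    Subgroup.normalizer (K : Set G) ≤ Subgroup.normalizer (Phi K : Set G) :=
  Cfsg.Agent.Lead.normalizer_le_normalizer_map_of_characteristic K (frattini ↥K)

/-- PHI -/
theorem Phi_ne (hK : K ≠ ⊥) : Phi K ≠ K := by
  intro h
  -- `frattini K = ⊤`
  have h1 : frattini ↥K = ⊤ := by
    apply Subgroup.map_injective K.subtype_injective
    rw [← MonoidHom.range_eq_map, Subgroup.range_subtype]
    exact h
  -- a coatom of `K`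
  have hnt : (⊥ : Subgroup ↥K) ≠ ⊤ := by
    intro hbt
    apply hK
    rw [Subgroup.eq_bot_iff_forall]
    intro x hx
    have : (⟨x, hx⟩ : ↥K) ∈ (⊤ : Subgroup ↥K) := Subgroup.mem_top _
    rw [← hbt, Subgroup.mem_bot] at this
    exact congrArg Subtype.val this
  obtain ⟨M, hM, -⟩ := (eq_top_or_exists_le_coatom (⊥ : Subgroup ↥K)).resolve_left hnt
  have h2 : frattini ↥K ≤ M := (Cfsg.Agent.Helper1.le_frattini_iff _).mp le_rfl M hM
  rw [h1] at h2
  exact hM.1 (top_le_iff.mp h2)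

/-- PHI -/
theorem comm_le_Phi {r : ℕ} (hr : r.Prime) (hK : IsPGroup r K) : ⁅K, K⁆ ≤ Phi K := by
  haveI : Fact r.Prime := ⟨hr⟩
  have h1 : commutator ↥K ≤ frattini ↥K := Cfsg.Agent.Helper1.IsPGroup.commutator_le_frattini hK
  have h2 : ⁅K, K⁆ = (commutator ↥K).map K.subtype := by
    rw [commutator_def, Subgroup.map_commutator, ← MonoidHom.range_eq_map, Subgroup.range_subtype]
  rw [h2]
  exact Subgroup.map_mono h1

/-- C2J -/
theorem c2_abelian {s : ℕ} (hs : s.Prime) {W : Subgroup G} (hW : IsPGroup s W) (hΦ : Phi W = ⊥) :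
    ∀ x ∈ W, ∀ y ∈ W, x * y = y * x := by
  have h1 : ⁅W, W⁆ ≤ Phi W := comm_le_Phi hs hW
  rw [hΦ, le_bot_iff, Subgroup.commutator_eq_bot_iff_le_centralizer] at h1
  intro x hx y hy
  have := Subgroup.mem_centralizer_iff.mp (h1 hx) y hy
  exact this.symm

end Cfsg.Agent.S3816P
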