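import Mathlib
import Cfsg.Agent.Helper13.S3816Defs
import Cfsg.Agent.Helper13.S3816Basic

/-! Board `s3816pieces`, row QUOT: the hypotheses pass to `G ⧸ N` for `N ≤ K` normal, and `|K N / N| < |K|`. -/

set_option autoImplicit false

namespace Cfsg.Agent.S3816P

universe u

variable {G : Type u} [Group G] [Finite G] {p : ℕ} [Fact p.Prime] {A K N : Subgroup G}

local notation "CA" => Subgroup.centralizer (A : Set G)

/-- QUOT -/
theorem Hyp.map_mk (h : Hyp p A K) (N : Subgroup G) [N.Normal] (hNK : N ≤ K) :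
    Hyp p (A.map (QuotientGroup.mk' N)) (K.map (QuotientGroup.mk' N)) := by
  have hAK : A ⊓ K = ⊥ := by
    apply disjoint_iff.mp
    apply Subgroup.disjoint_of_coprime_natCard
    rw [h.card]
    exact h.cop.symm
  refine ⟨?_, ?_, ?_, ?_⟩
  · -- the order of the image of `A`
    have hinj : Function.Injective ((QuotientGroup.mk' N).subgroupMap A) := by
      intro a b hab
      have h1 : (QuotientGroup.mk' N) (a : G) = (QuotientGroup.mk' N) (b : G) := congrArg Subtype.val hab
      have h2 : (a : G)⁻¹ * (b : G) ∈ N := QuotientGroup.eq.mp h1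
      have h3 : (a : G)⁻¹ * (b : G) ∈ A ⊓ K :=
        Subgroup.mem_inf.mpr ⟨A.mul_mem (A.inv_mem a.2) b.2, hNK h2⟩
      rw [hAK, Subgroup.mem_bot] at h3
      apply Subtype.ext
      exact inv_mul_eq_one.mp h3
    have hbij : Function.Bijective ((QuotientGroup.mk' N).subgroupMap A) :=
      ⟨hinj, (QuotientGroup.mk' N).subgroupMap_surjective A⟩
    rw [← Nat.card_congr (Equiv.ofBijective _ hbij), h.card]
  · exact (Subgroup.map_mono h.norm).trans (Subgroup.le_normalizer_map _)
  · exact Nat.Coprime.coprime_dvd_left (Subgroup.card_map_dvd K (QuotientGroup.mk' N)) h.cop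
  · have := h.solv
    exact Group.isSolvable_of_surjective ((QuotientGroup.mk' N).subgroupMap_surjective K)

/-- QUOT -/
theorem card_map_mk_lt (N : Subgroup G) [N.Normal] (hNK : N ≤ K) (hN : N ≠ ⊥) :
    Nat.card (K.map (QuotientGroup.mk' N)) < Nat.card K := by
  classical
  letI : Fintype ↥K := Fintype.ofFinite _
  letI : Fintype ↥(K.map (QuotientGroup.mk' N)) := Fintype.ofFinite _
  rw [Nat.card_eq_fintype_card, Nat.card_eq_fintype_card]
  apply Fintype.card_lt_of_surjective_not_injective ((QuotientGroup.mk' N).subgroupMap K)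
    ((QuotientGroup.mk' N).subgroupMap_surjective K)
  intro hinj
  apply hN
  rw [Subgroup.eq_bot_iff_forall]
  intro n hn
  have h1 : (QuotientGroup.mk' N).subgroupMap K ⟨n, hNK hn⟩ = (QuotientGroup.mk' N).subgroupMap K 1 := by
    apply Subtype.ext
    show (QuotientGroup.mk' N) n = (QuotientGroup.mk' N) ((1 : ↥K) : G)
    rw [Subgroup.coe_one, map_one]
    exact (QuotientGroup.eq_one_iff n).mpr hn
  have h2 := hinj h1
  exact congrArg Subtype.val h2

end Cfsg.Agent.S3816P
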