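import Mathlib
import Cfsg.Agent.Helper13.S3816Defs
import Cfsg.Agent.Helper13.S3816Basic
import Cfsg.Agent.Helper20.S3816QUOT
import Cfsg.Agent.Helper17.S3816QUOT2
import Cfsg.Agent.Helper22.S3816MC1

/-! Board `s3816pieces`, row MC3: `C_K(A) ≤ D · C_N(A)` for a nontrivial normal `N ≤ K` of the minimal counterexample,
and `C_N(A) ≰ D` for a minimal normal `N`. -/

set_option autoImplicit false

namespace Cfsg.Agent.S3816P

universe u

variable {G : Type u} [Group G] [Finite G] {p : ℕ} [Fact p.Prime] {A K N : Subgroup G}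

local notation "CA" => Subgroup.centralizer (A : Set G)

/-- MC3 -/
theorem MC.fix_le_sup (mc : MC p A K) {N : Subgroup G} (hNn : N.Normal) (hNK : N ≤ K) (hN : N ≠ ⊥) :
    K ⊓ Subgroup.centralizer (A : Set G) ≤ DD A K ⊔ (N ⊓ Subgroup.centralizer (A : Set G)) := by
  haveI := hNn
  have hq : Thm (A.map (QuotientGroup.mk' N)) (K.map (QuotientGroup.mk' N)) :=
    mc.ih (G ⧸ N) (A.map (QuotientGroup.mk' N)) (K.map (QuotientGroup.mk' N))
      (card_map_mk_lt N hNK hN) (mc.hyp.map_mk N hNK)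
  have h1 := quot_step mc.hyp N hNK hq
  rw [mc.comm_eq] at h1
  intro x hx
  have hxC : x ∈ Subgroup.centralizer (A : Set G) := (Subgroup.mem_inf.mp hx).2
  have h2 : x ∈ DD A K ⊔ N := h1 hx
  rw [← SetLike.mem_coe, Subgroup.mul_normal (DD A K) N] at h2
  obtain ⟨d, hd, n, hn, rfl⟩ := h2
  have hdC : d ∈ Subgroup.centralizer (A : Set G) := DD_le_fix A K hd
  have hnC : n ∈ Subgroup.centralizer (A : Set G) := by
    have : n = d⁻¹ * (d * n) := by group
    rw [this]
    exact Subgroup.mul_mem _ (Subgroup.inv_mem _ hdC) hxC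
  exact Subgroup.mul_mem_sup hd (Subgroup.mem_inf.mpr ⟨hn, hnC⟩)

/-- MC3 -/
theorem MC.not_fixN_le (mc : MC p A K) (hN : MinN K N) :
    ¬ (N ⊓ Subgroup.centralizer (A : Set G) ≤ DD A K) := by
  intro hle
  apply mc.neg
  unfold Thm
  rw [mc.comm_eq]
  exact (mc.fix_le_sup hN.normal hN.le hN.ne).trans (sup_le le_rfl hle)

end Cfsg.Agent.S3816P
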