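import Mathlib
import Cfsg.Agent.Helper10.S4017Defs

set_option autoImplicit false

/-! # S4017 piece ACENT (helper20) -/

namespace Cfsg.Agent.S4017P

/-- an element of odd prime-power order with square one is trivial -/
theorem ACENT_aux_sq {G : Type*} [Group G] {p : ℕ} (hp : p.Prime) (hp2 : p ≠ 2) (x : G)
    (hx : IsPEl p x) (hsq : x * x = 1) : x = 1 := by
  obtain ⟨k, hk⟩ := hx
  have h2 : orderOf x ∣ 2 := orderOf_dvd_of_pow_eq_one (by rw [pow_two]; exact hsq)
  have hcop : Nat.Coprime (p ^ k) 2 :=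
    Nat.Coprime.pow_left k ((Nat.coprime_primes hp Nat.prime_two).2 hp2)
  rw [hk] at h2
  have h1 : p ^ k = 1 := Nat.Coprime.eq_one_of_dvd hcop h2
  rw [← hk] at h1
  exact orderOf_eq_one_iff.1 h1

/-- every element of a `p`-subgroup is a `p`-element -/
theorem ACENT_aux_pel {G : Type*} [Group G] {p : ℕ} (hp : p.Prime) (P : Subgroup G)
    (hP : IsPGroup p P) (x : G) (hx : x ∈ P) : IsPEl p x := by
  have : Fact p.Prime := ⟨hp⟩
  obtain ⟨k, hk⟩ := (IsPGroup.iff_orderOf.1 hP) ⟨x, hx⟩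
  exact ⟨k, by rw [← hk, Subgroup.orderOf_mk]⟩

theorem ACENT {G : Type*} [Group G] [Finite G] {p a : ℕ} {Q : Subgroup G} {z : G}
    (h : Cfg G p a Q z) (f : Facts G p a Q z) (hA : CaseA p Q) :
    (∀ t ∈ Q, t ≠ 1 → ∀ g : G, g * t = t * g → ∃ x ∈ U p t, ∃ v ∈ Q, g = x * v) ∧
    (∀ t ∈ Q, t ≠ 1 → ∀ w : G, orderOf w = 2 → w * t = t * w → w ∈ Q) := by
  have : Fact p.Prime := ⟨h.hp⟩
  -- `Q` is abelian
  have hQab : ∀ v ∈ Q, ∀ w ∈ Q, v * w = w * v := by
    intro v hv w hw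
    have h1 := f.elem (v * w) (Q.mul_mem hv hw)
    have hv1 := f.elem v hv
    have hw1 := f.elem w hw
    have hvi : v⁻¹ = v := inv_eq_of_mul_eq_one_right hv1
    have hwi : w⁻¹ = w := inv_eq_of_mul_eq_one_right hw1
    have hvwi : (v * w)⁻¹ = v * w := inv_eq_of_mul_eq_one_right h1
    calc v * w = (v * w)⁻¹ := hvwi.symm
      _ = w⁻¹ * v⁻¹ := mul_inv_rev _ _
      _ = w * v := by rw [hvi, hwi]
  have part1 : ∀ t ∈ Q, t ≠ 1 → ∀ g : G, g * t = t * g → ∃ x ∈ U p t, ∃ v ∈ Q, g = x * v := by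
    intro t htQ ht1 g hg
    have ht2 : orderOf t = 2 :=
      orderOf_eq_prime (by rw [pow_two]; exact f.elem t htQ) ht1
    set C : Subgroup G := Subgroup.centralizer ({t} : Set G) with hC
    have hmemC : ∀ y : G, y ∈ C ↔ y * t = t * y := by
      intro y
      rw [hC, Subgroup.mem_centralizer_iff]
      constructor
      · intro hy; exact (hy t rfl).symm
      · intro hy s hs
        rw [Set.mem_singleton_iff] at hs
        rw [hs]; exact hy.symm
    have hUC : U p t ≤ C := by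
      unfold U
      rw [Subgroup.closure_le]
      intro y hy
      exact (hmemC y).2 hy.1
    have hQC : Q ≤ C := fun v hv => (hmemC v).2 (hQab v hv t htQ)
    have hcU : Nat.card ↥((U p t).subgroupOf C) = Nat.card ↥(U p t) :=
      Nat.card_congr (Subgroup.subgroupOfEquivOfLe hUC).toEquiv
    have hcQ : Nat.card ↥(Q.subgroupOf C) = Nat.card ↥Q :=
      Nat.card_congr (Subgroup.subgroupOfEquivOfLe hQC).toEquiv
    obtain ⟨k, hk⟩ := (f.utp t ht2).exists_card_eq
    have hcompl : Subgroup.IsComplement' ((U p t).subgroupOf C) (Q.subgroupOf C) := by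
      apply Subgroup.isComplement'_of_coprime
      · rw [hcU, hcQ, h.hQ, f.utcard t ht2, mul_comm]
      · rw [hcU, hcQ, h.hQ, hk]
        exact Nat.Coprime.pow k a ((Nat.coprime_primes h.hp Nat.prime_two).2 h.hp2)
    obtain ⟨⟨⟨x, hx⟩, ⟨v, hv⟩⟩, hxv⟩ := hcompl.2 ⟨g, (hmemC g).2 hg⟩
    refine ⟨x.1, hx, v.1, hv, ?_⟩
    have := congrArg Subtype.val hxv
    exact this.symm
  refine ⟨part1, ?_⟩
  intro t htQ ht1 w hw2 hwt
  obtain ⟨x, hx, v, hv, rfl⟩ := part1 t htQ ht1 w hwt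
  have hcomm : x * v = v * x := hA t htQ ht1 x hx v hv
  have ht2 : orderOf t = 2 :=
    orderOf_eq_prime (by rw [pow_two]; exact f.elem t htQ) ht1
  have hww : (x * v) * (x * v) = 1 := by
    have := pow_orderOf_eq_one (x * v)
    rwa [hw2, pow_two] at this
  have hxx : x * x = 1 := by
    calc x * x = x * x * (v * v) := by rw [f.elem v hv, mul_one]
      _ = x * (x * v) * v := by group
      _ = x * (v * x) * v := by rw [hcomm]
      _ = (x * v) * (x * v) := by group
      _ = 1 := hww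
  have hx1 : x = 1 :=
    ACENT_aux_sq h.hp h.hp2 x (ACENT_aux_pel h.hp (U p t) (f.utp t ht2) x hx) hxx
  rw [hx1, one_mul]
  exact hv

end Cfsg.Agent.S4017P
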