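import Mathlib
import Cfsg.Agent.Helper10.S4017Defs
import Cfsg.Agent.Helper13.S4017MINV
import Cfsg.Agent.Helper27.S4017UCONJ
import Cfsg.Agent.Helper20.S4017ACENT

set_option autoImplicit false

/-! # S4017 piece BY (helper20) -/

namespace Cfsg.Agent.S4017P

theorem BY {G : Type*} [Group G] [Finite G] {p a : ℕ} {Q : Subgroup G} {z : G}
    (h : Cfg G p a Q z) (f : Facts G p a Q z) (h0 : NoCQ p Q) :
    ∀ t ∈ Q, t ≠ 1 → U p t ≠ ⊥ → ∃ y ∈ U p t, NYh p Q y := by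
  intro t htQ ht1 hU
  have ht2 : orderOf t = 2 :=
    orderOf_eq_prime (by rw [pow_two]; exact f.elem t htQ) ht1
  have hUp : IsPGroup p (U p t) := f.utp t ht2
  -- `Q` is abelian
  have hQab : ∀ v ∈ Q, ∀ w ∈ Q, v * w = w * v := by
    intro v hv w hw
    have h1 := f.elem (v * w) (Q.mul_mem hv hw)
    have hv1 := f.elem v hv
    have hw1 := f.elem w hw
    have hvi : v⁻¹ = v := inv_eq_of_mul_eq_one_right hv1
    have hwi : w⁻¹ = w := inv_eq_of_mul_eq_one_right hw1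
    have hvwi : (v * w)⁻¹ = v * w := inv_eq_of_mul_eq_one_right h1
    calc v * w = (v * w)⁻¹ := hvwi.symm
      _ = w⁻¹ * v⁻¹ := mul_inv_rev _ _
      _ = w * v := by rw [hvi, hwi]
  have hodd : ∀ x ∈ U p t, Odd (orderOf x) := by
    intro x hx
    obtain ⟨k, hk⟩ := ACENT_aux_pel h.hp (U p t) hUp x hx
    rw [hk]
    exact Odd.pow (h.hp.odd_of_ne_two h.hp2)
  have hAN : ∀ v ∈ Q, ∀ x ∈ U p t, v * x * v⁻¹ ∈ U p t := by
    intro v hv x hx
    have h1 := UCONJ p v t x hx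
    have h2 : v * t * v⁻¹ = t := by
      rw [hQab v hv t htQ, mul_inv_cancel_right]
    rwa [h2] at h1
  obtain ⟨y, hyU, hy1, hyQ⟩ := MINV (U p t) Q hU (h.hab (U p t) hUp) hodd f.elem hQab hAN
  refine ⟨y, hyU, hy1, ACENT_aux_pel h.hp (U p t) hUp y hyU, hyQ, ?_⟩
  by_contra hno
  apply hy1
  apply h0 y (ACENT_aux_pel h.hp (U p t) hUp y hyU)
  intro v hv
  rcases hyQ v hv with h1 | h1
  · calc y * v = (v * y * v⁻¹) * v := by rw [h1]
      _ = v * y := by group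
  · exact absurd ⟨v, hv, h1⟩ hno

end Cfsg.Agent.S4017P
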