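import Mathlib
import Cfsg.Agent.Helper21.BswDefs2
import Cfsg.Agent.Helper16.BswLoc

/-!
Brauer–Suzuki–Wall, abstract form: core of piece D2Md (`ε = -1`): the normalizer of `Q = C(x)` for
`x` of `R`-type not inverted by any involution, written against the conclusions of D2Ma/b/c.
-/

set_option autoImplicit false
set_option linter.unusedSectionVars false

namespace Cfsg.Agent.Helper20.BswMinusD

open Cfsg.Agent.Helper21.Bsw

universe u
variable {G : Type u} [Group G] [Finite G] {t s : G} {K : Subgroup G}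

/-- if `cj g A = A` then `g` normalizes `A`. -/
lemma mem_normalizer_of_cj_eq {A : Subgroup G} {g : G} (hcj : cj g A = A) :
    g ∈ Subgroup.normalizer (A : Set G) := by
  rw [Subgroup.mem_normalizer_iff]
  intro z
  constructor
  · intro hz
    have := conj_mem_cj (g := g) hz
    rwa [hcj] at this
  · intro hz
    rw [← hcj, mem_cj] at hz
    have e : g⁻¹ * (g * z * g⁻¹) * g = z := by group
    rwa [e] at hz

/-- Schur–Zassenhaus inside a subgroup. -/
lemma exists_complement_in (Q N : Subgroup G) (hQN : Q ≤ N)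
    (hnorm : ∀ n ∈ N, ∀ y ∈ Q, n * y * n⁻¹ ∈ Q)
    (hcop : Nat.Coprime (Nat.card Q) (Nat.card N / Nat.card Q)) :
    ∃ E : Subgroup G, E ≤ N ∧ Q ⊓ E = ⊥ ∧ (∀ n ∈ N, ∃ y ∈ Q, ∃ e ∈ E, n = y * e) ∧
      Nat.card Q * Nat.card E = Nat.card N := by
  have hnormal : (Q.subgroupOf N).Normal := by
    constructor
    intro y hy n
    rw [Subgroup.mem_subgroupOf] at hy ⊢
    simp only [Subgroup.coe_mul, InvMemClass.coe_inv]
    exact hnorm n n.2 y hy
  have hcardQ : Nat.card (Q.subgroupOf N) = Nat.card Q :=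
    Nat.card_congr (Subgroup.subgroupOfEquivOfLe hQN).toEquiv
  have hidx : (Q.subgroupOf N).index = Nat.card N / Nat.card Q := by
    have h1 := (Q.subgroupOf N).card_mul_index
    rw [hcardQ] at h1
    have hpos : 0 < Nat.card Q := Nat.card_pos
    rw [← h1, Nat.mul_div_cancel_left _ hpos]
  have hcop' : Nat.Coprime (Nat.card (Q.subgroupOf N)) (Q.subgroupOf N).index := by
    rw [hcardQ, hidx]; exact hcop
  obtain ⟨E', hE'⟩ := Subgroup.exists_right_complement'_of_coprime hcop'
  refine ⟨E'.map N.subtype, ?_, ?_, ?_, ?_⟩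
  · intro z hz
    obtain ⟨e, _, rfl⟩ := Subgroup.mem_map.mp hz
    exact e.2
  · rw [eq_bot_iff]
    intro z hz
    rw [Subgroup.mem_inf] at hz
    obtain ⟨e, he, rfl⟩ := Subgroup.mem_map.mp hz.2
    have hd := hE'.disjoint
    rw [Subgroup.disjoint_def] at hd
    have : e = 1 := hd (by rw [Subgroup.mem_subgroupOf]; exact hz.1) he
    rw [this]; simp
  · intro n hn
    obtain ⟨⟨y, e⟩, hye, -⟩ := hE'.existsUnique (⟨n, hn⟩ : N)
    refine ⟨(y : N), Subgroup.mem_subgroupOf.mp y.2, (e : N), Subgroup.mem_map.mpr ⟨e, e.2, rfl⟩, ?_⟩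
    have := congrArg Subtype.val hye
    simpa using this.symm
  · have h1 := hE'.card_mul_card
    rw [hcardQ] at h1
    have h2 : Nat.card (E'.map N.subtype) = Nat.card E' :=
      Nat.card_congr (E'.equivMapOfInjective _ N.subtype_injective).toEquiv.symm
    rw [h2, h1]

/-- the conjugates of `Q#` are pairwise disjoint subsets of `R0`. -/
lemma index_mul_le {x : G}
    (hcent : ∀ y ∈ Subgroup.centralizer ({x} : Set G), y ≠ 1 → RType K y ∧ invCount y = 0 ∧
      Subgroup.centralizer ({y} : Set G) = Subgroup.centralizer ({x} : Set G)) :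
    (Subgroup.normalizer ((Subgroup.centralizer ({x} : Set G) : Subgroup G) : Set G)).index *
      (Nat.card (Subgroup.centralizer ({x} : Set G)) - 1)
      ≤ Nat.card {z : G // RType K z ∧ invCount z = 0} := by
  classical
  set Q := Subgroup.centralizer ({x} : Set G) with hQ
  set N := Subgroup.normalizer (Q : Set G) with hN
  have hcq : Nat.card {y : Q // y ≠ 1} = Nat.card Q - 1 := by
    have e := Equiv.optionSubtypeNe (1 : Q)
    have h1 := Nat.card_congr e
    rw [Finite.card_option] at h1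
    omega
  suffices key : Nat.card ((G ⧸ N) × {y : Q // y ≠ 1}) ≤
      Nat.card {z : G // RType K z ∧ invCount z = 0} by
    rw [Nat.card_prod, hcq] at key
    exact key
  let f : (G ⧸ N) × {y : Q // y ≠ 1} → {z : G // RType K z ∧ invCount z = 0} :=
    fun p => ⟨(Quotient.out p.1) * (p.2.1 : G) * (Quotient.out p.1)⁻¹, by
      have hy1 : (p.2.1 : G) ≠ 1 := fun h1 => p.2.2 (Subtype.ext h1)
      have := hcent (p.2.1 : G) p.2.1.2 hy1
      rw [rType_conj_iff, invCount_conj]
      exact ⟨this.1, this.2.1⟩⟩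
  apply Nat.card_le_card_of_injective f
  rintro ⟨c, ⟨y, hy⟩⟩ ⟨c', ⟨y', hy'⟩⟩ hff
  have hff' : (Quotient.out c) * (y : G) * (Quotient.out c)⁻¹
      = (Quotient.out c') * (y' : G) * (Quotient.out c')⁻¹ := congrArg Subtype.val hff
  set a := Quotient.out c with ha
  set a' := Quotient.out c' with ha'
  have hy1 : (y : G) ≠ 1 := fun h1 => hy (Subtype.ext h1)
  have hy1' : (y' : G) ≠ 1 := fun h1 => hy' (Subtype.ext h1)
  have hb : (a'⁻¹ * a) * (y : G) * (a'⁻¹ * a)⁻¹ = (y' : G) := by
    calc (a'⁻¹ * a) * (y : G) * (a'⁻¹ * a)⁻¹ = a'⁻¹ * (a * (y : G) * a⁻¹) * a' := by group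
      _ = (y' : G) := by rw [hff']; group
  have hc1 := (hcent (y : G) y.2 hy1).2.2
  have hc2 := (hcent (y' : G) y'.2 hy1').2.2
  have hcj : cj (a'⁻¹ * a) Q = Q := by
    rw [← hb, centralizer_conj, hc1] at hc2
    exact hc2
  have hbN : a'⁻¹ * a ∈ N := mem_normalizer_of_cj_eq hcj
  have hcc : c' = c := by
    rw [← QuotientGroup.out_eq' c, ← QuotientGroup.out_eq' c']
    exact QuotientGroup.eq.mpr hbN
  subst hcc
  have hyy : (y : G) = (y' : G) := by
    have : a * (y : G) * a⁻¹ = a * (y' : G) * a⁻¹ := hff'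
    exact mul_left_cancel (mul_right_cancel this)
  have : y = y' := Subtype.ext hyy
  subst this
  rfl

/-- no involution normalizes `Q`. -/
lemma no_involution {x : G} (hx0 : invCount x = 0)
    (hcent : ∀ y ∈ Subgroup.centralizer ({x} : Set G), y ≠ 1 →
      Subgroup.centralizer ({y} : Set G) = Subgroup.centralizer ({x} : Set G))
    (hodd : Odd (Nat.card (Subgroup.centralizer ({x} : Set G)))) (u : G)
    (hu : u ∈ Subgroup.normalizer ((Subgroup.centralizer ({x} : Set G) : Subgroup G) : Set G)) :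
    orderOf u ≠ 2 := by
  intro hu2
  set Q := Subgroup.centralizer ({x} : Set G) with hQ
  have huu : u * u = 1 := by
    have := pow_orderOf_eq_one u
    rwa [hu2, pow_two] at this
  have hnorm : ∀ c ∈ Q, u * c * u⁻¹ ∈ Q := fun c hc =>
    ((Subgroup.mem_normalizer_iff.mp hu) c).mp hc
  by_cases hfix : ∃ c ∈ Q, c ≠ 1 ∧ u * c * u⁻¹ = c
  · obtain ⟨c, hc, hc1, hcu⟩ := hfix
    have huQ : u ∈ Q := by
      rw [← hcent c hc hc1, Subgroup.mem_centralizer_singleton_iff]
      calc u * c = (u * c * u⁻¹) * u := by group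
        _ = c * u := by rw [hcu]
    have h2 : orderOf (⟨u, huQ⟩ : Q) = 2 := by
      rw [← hu2]; exact Subgroup.orderOf_mk u huQ
    have hdvd : 2 ∣ Nat.card Q := by
      rw [← h2]; exact orderOf_dvd_natCard _
    rcases hodd with ⟨m, hm⟩
    omega
  · push Not at hfix
    have hfpf : ∀ c ∈ Q, u * c * u⁻¹ = c → c = 1 := by
      intro c hc hcu
      by_contra hc1
      exact hfix c hc hc1 hcu
    have hinv := (Loc.inverts_of_fpf Q u huu hnorm hfpf).1
    have hxQ : x ∈ Q := by
      rw [hQ, Subgroup.mem_centralizer_singleton_iff]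
    have hux := hinv x hxQ
    unfold invCount at hx0
    rcases Nat.card_eq_zero.mp hx0 with h | h
    · exact h.false ⟨u, hu2, hux⟩
    · exact h.false

lemma coprime_of_succ_eq_mul {a b c : ℕ} (h : a + 1 = b * c) : Nat.Coprime a b := by
  have h1 : Nat.gcd a b ∣ a := Nat.gcd_dvd_left a b
  have h2 : Nat.gcd a b ∣ a + 1 := by
    rw [h]; exact Dvd.dvd.mul_right (Nat.gcd_dvd_right a b) c
  have h3 : Nat.gcd a b ∣ 1 := (Nat.dvd_add_right h1).mp h2
  exact Nat.dvd_one.mp h3

/-- the conclusions of D2Ma-2 at `z`. -/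
def OddTorusAt (z : G) : Prop :=
  (∀ a ∈ Subgroup.centralizer ({z} : Set G), ∀ b ∈ Subgroup.centralizer ({z} : Set G),
    a * b = b * a) ∧
  (∀ a ∈ Subgroup.centralizer ({z} : Set G), a ≠ 1 → Odd (orderOf a) →
    Subgroup.centralizer ({a} : Set G) = Subgroup.centralizer ({z} : Set G)) ∧
  (∀ n ∈ Subgroup.normalizer ((Subgroup.centralizer ({z} : Set G) : Subgroup G) : Set G),
    Odd (orderOf n) → n ∈ Subgroup.centralizer ({z} : Set G))

lemma mem_of_conj_mem {z g : G} (hz : OddTorusAt z) (hz1 : z ≠ 1) (hzodd : Odd (orderOf z))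
    (hgodd : Odd (orderOf g)) (hg : g * z * g⁻¹ ∈ Subgroup.centralizer ({z} : Set G)) :
    g ∈ Subgroup.centralizer ({z} : Set G) := by
  obtain ⟨_, h2, h3⟩ := hz
  have hne : g * z * g⁻¹ ≠ 1 := by
    intro h
    apply hz1
    calc z = g⁻¹ * (g * z * g⁻¹) * g := by group
      _ = 1 := by rw [h]; group
  have hodd' : Odd (orderOf (g * z * g⁻¹)) := by rw [orderOf_conj']; exact hzodd
  have h4 := h2 _ hg hne hodd'
  rw [centralizer_conj] at h4
  exact h3 g (mem_normalizer_of_cj_eq h4) hgodd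

/-- core of D2Md, against the conclusions of D2Ma/b/c as hypotheses. -/
theorem normalizer_core (h : Hyp t s K) (c : CountMinus K)
    (hTorus : ∀ w : G, RType K w → invCount w ≠ 0 →
      Nat.card (Subgroup.centralizer ({w} : Set G)) = Nat.card K - 1)
    (hOdd : ∀ z : G, z ≠ 1 → Odd (orderOf z) → (KType K z ∨ (RType K z ∧ invCount z ≠ 0)) →
      OddTorusAt z)
    (hUni : ∃ p : ℕ, p.Prime ∧ (∃ a : ℕ, 2 * Nat.card K - 1 = p ^ a) ∧
      (∀ x : G, RType K x → invCount x = 0 →
        orderOf x = p ∧ Nat.card (Subgroup.centralizer ({x} : Set G)) = 2 * Nat.card K - 1 ∧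
        ∀ y ∈ Subgroup.centralizer ({x} : Set G), y ≠ 1 → RType K y ∧ invCount y = 0) ∧
      (∀ y : G, y ≠ 1 → (∃ n : ℕ, y ^ (p ^ n) = 1) → RType K y ∧ invCount y = 0))
    (hTI : ∀ x : G, RType K x → invCount x = 0 →
      ∀ y ∈ Subgroup.centralizer ({x} : Set G), y ≠ 1 →
        Subgroup.centralizer ({y} : Set G) = Subgroup.centralizer ({x} : Set G))
    {x : G} (hx : RType K x) (hx0 : invCount x = 0) :
    (Nat.card K = 2 ∧
      Subgroup.normalizer ((Subgroup.centralizer ({x} : Set G) : Subgroup G) : Set G)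
        = Subgroup.centralizer ({x} : Set G)) ∨
    ∃ w : G, RType K w ∧ invCount w ≠ 0 ∧
      Subgroup.normalizer ((Subgroup.centralizer ({x} : Set G) : Subgroup G) : Set G)
        = Subgroup.centralizer ({x} : Set G) ⊔ Subgroup.centralizer ({w} : Set G) ∧
      Subgroup.centralizer ({x} : Set G) ⊓ Subgroup.centralizer ({w} : Set G) = ⊥ := by
  obtain ⟨p, hp, ⟨a, hqa⟩, hU1, -⟩ := hUni
  obtain ⟨hxp, hQcard, hQR0⟩ := hU1 x hx hx0
  have hk2 : 2 ∣ Nat.card K := h.two_dvd_card_K
  have hkpos : 0 < Nat.card K := Nat.card_pos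
  have hk2' : 2 ≤ Nat.card K := Nat.le_of_dvd hkpos hk2
  obtain ⟨m, hm⟩ : ∃ m, Nat.card K = m + 1 := ⟨Nat.card K - 1, by omega⟩
  have hm1 : 1 ≤ m := by omega
  have hmodd : Odd m := by
    rcases hk2 with ⟨j, hj⟩
    exact ⟨j - 1, by omega⟩
  have e1 : 2 * Nat.card K - 1 = 2 * m + 1 := by omega
  have e2 : Nat.card K - 1 = m := by omega
  rw [e1] at hQcard hqa
  -- notation
  have hcent : ∀ y ∈ Subgroup.centralizer ({x} : Set G), y ≠ 1 → RType K y ∧ invCount y = 0 ∧
      Subgroup.centralizer ({y} : Set G) = Subgroup.centralizer ({x} : Set G) :=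
    fun y hy hy1 => ⟨(hQR0 y hy hy1).1, (hQR0 y hy hy1).2, hTI x hx hx0 y hy hy1⟩
  have hidx := index_mul_le (K := K) (x := x) hcent
  rw [c.card_R0, hQcard, e1] at hidx
  set Q := Subgroup.centralizer ({x} : Set G) with hQ
  set N := Subgroup.normalizer (Q : Set G) with hN
  have hQN : Q ≤ N := Subgroup.le_normalizer
  have hidx2 : N.index ≤ 2 * m + 2 := by
    have e3 : (2 * m + 1) ^ 2 - 1 = (2 * m + 2) * (2 * m) := by
      have : (2 * m + 1) ^ 2 = (2 * m + 2) * (2 * m) + 1 := by ring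
      rw [this]; simp
    have e4 : 2 * m + 1 - 1 = 2 * m := by omega
    rw [e3, e4] at hidx
    exact Nat.le_of_mul_le_mul_right hidx (by omega)
  have hG : Nat.card G = (2 * m + 1) * m * (2 * m + 2) := by
    have := c.card_G
    rw [e1, hm] at this
    have e5 : 2 * (m + 1) - 2 = 2 * m := by omega
    rw [e5] at this
    have e6 : (2 * m + 1) * (2 * (m + 1)) * (2 * m) = 2 * ((2 * m + 1) * m * (2 * m + 2)) := by ring
    rw [e6] at this
    exact Nat.eq_of_mul_eq_mul_left (by norm_num) this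
  have hNG : Nat.card N * N.index = Nat.card G := N.card_mul_index
  have hNge : (2 * m + 1) * m ≤ Nat.card N := by
    have h1 : (2 * m + 1) * m * (2 * m + 2) ≤ Nat.card N * (2 * m + 2) := by
      rw [← hG, ← hNG]
      exact Nat.mul_le_mul_left _ hidx2
    exact Nat.le_of_mul_le_mul_right h1 (by omega)
  -- Schur–Zassenhaus
  have hQdvd : Nat.card Q ∣ Nat.card N := Subgroup.card_dvd_of_le hQN
  obtain ⟨e', he'⟩ := hQdvd
  rw [hQcard] at he'
  have hcop : Nat.Coprime (Nat.card Q) (Nat.card N / Nat.card Q) := by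
    rw [hQcard, he', Nat.mul_div_cancel_left _ (by omega : 0 < 2 * m + 1)]
    have hd : e' ∣ m * (2 * m + 2) := by
      have h1 : (2 * m + 1) * e' ∣ (2 * m + 1) * (m * (2 * m + 2)) := by
        rw [← he', ← mul_assoc, ← hG]
        exact Subgroup.card_subgroup_dvd_card N
      exact Nat.dvd_of_mul_dvd_mul_left (by omega) h1
    refine Nat.Coprime.coprime_dvd_right hd (Nat.Coprime.mul_right ?_ ?_)
    · have h1 : Nat.Coprime (2 * m) (2 * m + 1) := coprime_of_succ_eq_mul (c := 1) (by ring)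
      exact Nat.Coprime.coprime_dvd_right (Dvd.intro_left 2 rfl) h1.symm
    · exact coprime_of_succ_eq_mul (c := 1) (by ring)
  have hnormN : ∀ n ∈ N, ∀ y ∈ Q, n * y * n⁻¹ ∈ Q := fun n hn y hy =>
    ((Subgroup.mem_normalizer_iff.mp hn) y).mp hy
  obtain ⟨E, hEN, hQE, hprod, hcardE⟩ := exists_complement_in Q N hQN hnormN hcop
  rw [hQcard] at hcardE
  have hEge : m ≤ Nat.card E := by
    have : (2 * m + 1) * m ≤ (2 * m + 1) * Nat.card E := by rw [hcardE]; exact hNge
    exact Nat.le_of_mul_le_mul_left this (by omega)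
  -- free action
  have hfree : ∀ e ∈ E, ∀ d ∈ Q, d ≠ 1 → e * d * e⁻¹ = d → e = 1 := by
    intro e he d hd hd1 hed
    have heQ : e ∈ Q := by
      rw [← (hcent d hd hd1).2.2, Subgroup.mem_centralizer_singleton_iff]
      calc e * d = (e * d * e⁻¹) * e := by group
        _ = d * e := by rw [hed]
    have : e ∈ Q ⊓ E := Subgroup.mem_inf.mpr ⟨heQ, he⟩
    rw [hQE] at this
    exact Subgroup.mem_bot.mp this
  have hdvd := Loc.card_dvd_of_free Q E (fun e he d hd => hnormN e (hEN he) d hd) hfree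
  rw [hQcard] at hdvd
  have e4 : 2 * m + 1 - 1 = 2 * m := by omega
  rw [e4] at hdvd
  have hQodd : Odd (Nat.card Q) := by rw [hQcard]; exact ⟨m, rfl⟩
  have hnoinv : ∀ u ∈ N, orderOf u ≠ 2 := fun u hu =>
    no_involution hx0 (fun y hy hy1 => (hcent y hy hy1).2.2) hQodd u hu
  have hEodd : ¬ 2 ∣ Nat.card E := by
    intro h2
    have : Fact (Nat.Prime 2) := ⟨Nat.prime_two⟩
    obtain ⟨e, he⟩ := exists_prime_orderOf_dvd_card' (G := E) 2 h2
    apply hnoinv (e : G) (hEN e.2)
    rw [← he]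
    exact (Subgroup.orderOf_coe e)
  have hEdvd : Nat.card E ∣ m := by
    have hc2 : Nat.Coprime (Nat.card E) 2 :=
      (Nat.coprime_comm.mp ((Nat.Prime.coprime_iff_not_dvd Nat.prime_two).mpr hEodd))
    exact hc2.dvd_of_dvd_mul_left hdvd
  have hEcard : Nat.card E = m := le_antisymm (Nat.le_of_dvd (by omega) hEdvd) hEge
  have hNle : N ≤ Q ⊔ E := by
    intro n hn
    obtain ⟨y, hy, e, he, rfl⟩ := hprod n hn
    exact Subgroup.mul_mem _ (Subgroup.mem_sup_left hy) (Subgroup.mem_sup_right he)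
  have hNeq : N = Q ⊔ E := le_antisymm hNle (sup_le hQN hEN)
  by_cases hm1' : m = 1
  · left
    refine ⟨by omega, ?_⟩
    have hE1 : E = ⊥ := Subgroup.card_eq_one.mp (by rw [hEcard, hm1'])
    rw [hNeq, hE1, sup_bot_eq]
  right
  have hm3 : 3 ≤ m := by
    rcases hmodd with ⟨j, hj⟩
    omega
  -- elements of E
  have hEelt : ∀ e ∈ E, e ≠ 1 → Odd (orderOf e) ∧ RType K e ∧ invCount e ≠ 0 := by
    intro e he he1
    have hord : orderOf e ∣ m := by
      rw [← hEcard, ← Subgroup.orderOf_mk e he]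
      exact orderOf_dvd_natCard _
    have hodd : Odd (orderOf e) := Odd.of_dvd_nat hmodd hord
    have hnotK : ¬ KType K e := by
      rintro ⟨-, g, hg⟩
      have h1 : orderOf (g⁻¹ * e * g) = orderOf e := by
        have := orderOf_conj' g⁻¹ e
        rwa [inv_inv] at this
      have h2 : orderOf e ∣ Nat.card K := by
        rw [← h1, ← Subgroup.orderOf_mk _ hg]
        exact orderOf_dvd_natCard _
      rw [hm] at h2
      have h3 : orderOf e ∣ 1 := (Nat.dvd_add_right hord).mp h2
      exact he1 (orderOf_eq_one_iff.mp (Nat.dvd_one.mp h3))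
    have hR : RType K e := ⟨he1, hnotK⟩
    refine ⟨hodd, hR, ?_⟩
    intro h0
    have hep := (hU1 e hR h0).1
    have ha : a ≠ 0 := by
      intro ha
      rw [ha, pow_zero] at hqa
      omega
    have hpq : p ∣ 2 * m + 1 := by
      rw [hqa]; exact dvd_pow_self p ha
    have hpm : p ∣ m := by rw [← hep]; exact hord
    have hp1 : p ∣ 1 := by
      have h2m : p ∣ 2 * m := Dvd.dvd.mul_left hpm 2
      exact (Nat.dvd_add_right h2m).mp hpq
    exact hp.one_lt.ne' (Nat.dvd_one.mp hp1)
  have hEbot : E ≠ ⊥ := by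
    intro hE
    rw [hE, Subgroup.card_bot] at hEcard
    omega
  have hOddE : ∀ e ∈ E, e ≠ 1 → OddTorusAt e := fun e he he1 =>
    hOdd e he1 (hEelt e he he1).1 (Or.inr (hEelt e he he1).2)
  have hoddall : ∀ e ∈ E, Odd (orderOf e) := by
    intro e he
    by_cases he1 : e = 1
    · rw [he1, orderOf_one]; exact odd_one
    · exact (hEelt e he he1).1
  obtain ⟨w, hwE, hw1, hEw⟩ := Loc.le_centralizer_of_local E
    (by
      intro r hr R hRE hRp hRbot n hnE hnR
      have : Fact r.Prime := ⟨hr⟩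
      have : Nontrivial R := (Subgroup.nontrivial_iff_ne_bot R).mpr hRbot
      have : Nontrivial (Subgroup.center R) := hRp.center_nontrivial
      obtain ⟨z', hz'⟩ := exists_ne (1 : Subgroup.center R)
      have hzR : ((z' : R) : G) ∈ R := (z' : R).2
      have hz1 : ((z' : R) : G) ≠ 1 := by
        intro h1
        apply hz'
        apply Subtype.ext
        apply Subtype.ext
        exact h1
      have hzc : ∀ y ∈ R, y * ((z' : R) : G) = ((z' : R) : G) * y := by
        intro y hy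
        have := Subgroup.mem_center_iff.mp z'.2 ⟨y, hy⟩
        exact congrArg Subtype.val this
      have hzE := hRE hzR
      have hT := hOddE _ hzE hz1
      have hnA : n ∈ Subgroup.centralizer ({((z' : R) : G)} : Set G) := by
        apply mem_of_conj_mem hT hz1 (hoddall _ hzE) (hoddall n hnE)
        have h1 : n * ((z' : R) : G) * n⁻¹ ∈ R := ((Subgroup.mem_normalizer_iff.mp hnR) _).mp hzR
        rw [Subgroup.mem_centralizer_singleton_iff]
        exact hzc _ h1
      rw [Subgroup.mem_centralizer_iff]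
      intro y hy
      have hyA : y ∈ Subgroup.centralizer ({((z' : R) : G)} : Set G) := by
        rw [Subgroup.mem_centralizer_singleton_iff]
        exact hzc y hy
      exact hT.1 y hyA n hnA)
    (by
      intro w hwE hw1 g hgE hg
      exact mem_of_conj_mem (hOddE w hwE hw1) hw1 (hoddall w hwE) (hoddall g hgE) hg)
    hEbot
  obtain ⟨-, hwR, hw0⟩ := hEelt w hwE hw1
  have hCw : Nat.card (Subgroup.centralizer ({w} : Set G)) = m := by
    rw [hTorus w hwR hw0, e2]
  have hEeq : E = Subgroup.centralizer ({w} : Set G) :=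
    Subgroup.eq_of_le_of_card_ge hEw (by rw [hCw, hEcard])
  refine ⟨w, hwR, hw0, ?_, ?_⟩
  · rw [← hEeq]; exact hNeq
  · rw [← hEeq]; exact hQE

end Cfsg.Agent.Helper20.BswMinusD
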