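import Mathlib
import Cfsg.Agent.Helper20.BswMinusDCore
import Cfsg.Agent.Helper13.BswMinusC

/-!
Brauer–Suzuki–Wall, abstract form: piece D2Md (`ε = -1`): `N(Q) = Q · C(w)`.
-/

set_option autoImplicit false

namespace Cfsg.Agent.Helper21.Bsw

universe u
variable {G : Type u} [Group G] [Finite G] {t s : G} {K : Subgroup G}

/-- D2Md -/
theorem Minus.normalizer (h : Hyp t s K) (c : CountMinus K) {x : G} (hx : RType K x)
    (hx0 : invCount x = 0) :
    (Nat.card K = 2 ∧
      Subgroup.normalizer ((Subgroup.centralizer ({x} : Set G) : Subgroup G) : Set G)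
        = Subgroup.centralizer ({x} : Set G)) ∨
    ∃ w : G, RType K w ∧ invCount w ≠ 0 ∧
      Subgroup.normalizer ((Subgroup.centralizer ({x} : Set G) : Subgroup G) : Set G)
        = Subgroup.centralizer ({x} : Set G) ⊔ Subgroup.centralizer ({w} : Set G) ∧
      Subgroup.centralizer ({x} : Set G) ⊓ Subgroup.centralizer ({w} : Set G) = ⊥ :=
  Cfsg.Agent.Helper20.BswMinusD.normalizer_core h c
    (fun _ hw hw1 => (Minus.torus h c hw hw1).2.1)
    (fun _ hz1 hzodd hz => Minus.odd_torus h c hz1 hzodd hz)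
    (Minus.unipotent h c)
    (fun _ hx hx0 => Minus.ti h c hx hx0)
    hx hx0

end Cfsg.Agent.Helper21.Bsw
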