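import Mathlib
import Cfsg.Prelude.Def_GeometricClasses
import Cfsg.Agent.Helper18.S5707.Defs

/-! S5707 piece TENS: algebra of pure tensor matrices. -/

set_option autoImplicit false

namespace Cfsg.Agent.S5707P

open Matrix

variable {F : Type*} [Field F] {k t : ℕ}

/-- entries of a pure tensor with one updated factor -/
theorem TENS.tensM_update_apply (Ms : Fin t → Matrix (Fin k) (Fin k) F) (i : Fin t)
    (M : Matrix (Fin k) (Fin k) F) (x y : X k t) :
    tensM (Function.update Ms i M) x y =
      M (x i) (y i) * ∏ j ∈ Finset.univ.erase i, Ms j (x j) (y j) := by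
  unfold tensM
  rw [← Finset.mul_prod_erase _ _ (Finset.mem_univ i), Function.update_self]
  congr 1
  apply Finset.prod_congr rfl
  intro j hj
  rw [Function.update_of_ne (Finset.ne_of_mem_erase hj)]

theorem TENS.tensM_mul (A B : Fin t → Matrix (Fin k) (Fin k) F) :
    tensM A * tensM B = tensM (fun i => A i * B i) := by
  ext x y
  rw [Matrix.mul_apply]
  unfold tensM
  simp only [Matrix.mul_apply]
  rw [Finset.prod_univ_sum, Fintype.piFinset_univ]
  apply Finset.sum_congr rfl
  intro z _
  rw [Finset.prod_mul_distrib]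

theorem TENS.tensM_one : tensM (fun _ : Fin t => (1 : Matrix (Fin k) (Fin k) F)) = 1 := by
  ext x y
  unfold tensM
  simp only [Matrix.one_apply]
  rw [Finset.prod_ite_zero]
  by_cases hxy : x = y
  · subst hxy
    simp
  · rw [if_neg hxy, if_neg]
    intro h
    apply hxy
    funext i
    exact h i (Finset.mem_univ i)

theorem TENS.tensM_update_add (Ms : Fin t → Matrix (Fin k) (Fin k) F) (i : Fin t)
    (A B : Matrix (Fin k) (Fin k) F) :
    tensM (Function.update Ms i (A + B)) =
      tensM (Function.update Ms i A) + tensM (Function.update Ms i B) := by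
  ext x y
  rw [Matrix.add_apply, TENS.tensM_update_apply, TENS.tensM_update_apply, TENS.tensM_update_apply,
    Matrix.add_apply, add_mul]

theorem TENS.tensM_update_smul (Ms : Fin t → Matrix (Fin k) (Fin k) F) (i : Fin t) (a : F)
    (A : Matrix (Fin k) (Fin k) F) :
    tensM (Function.update Ms i (a • A)) = a • tensM (Function.update Ms i A) := by
  ext x y
  rw [Matrix.smul_apply, TENS.tensM_update_apply, TENS.tensM_update_apply, Matrix.smul_apply,
    smul_eq_mul, smul_eq_mul, mul_assoc]

theorem TENS.tensM_eq_zero (Ms : Fin t → Matrix (Fin k) (Fin k) F) (i : Fin t) (h : Ms i = 0) :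
    tensM Ms = 0 := by
  ext x y
  unfold tensM
  rw [Matrix.zero_apply]
  apply Finset.prod_eq_zero (Finset.mem_univ i)
  rw [h, Matrix.zero_apply]

theorem TENS.tensM_sq_zero (Ms : Fin t → Matrix (Fin k) (Fin k) F) (i : Fin t) (h : Ms i * Ms i = 0) :
    tensM Ms * tensM Ms = 0 := by
  rw [TENS.tensM_mul]
  exact TENS.tensM_eq_zero _ i h

theorem TENS.tensM_transpose (Ms : Fin t → Matrix (Fin k) (Fin k) F) :
    (tensM Ms)ᵀ = tensM (fun i => (Ms i)ᵀ) := by
  ext x y
  rfl

end Cfsg.Agent.S5707P
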