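import Mathlib
import Cfsg.Agent.Helper12.LSUDefs

set_option autoImplicit false

/-! S2335 piece NI: a nonzero Hermitian matrix is moved to one with nonzero corner. -/

namespace Cfsg.Agent.Helper12.LSU

open Matrix Cfsg Cfsg.Agent.Helper2.SUGen

variable {F : Type*} [Field F] {q : ℕ}

theorem ni_hact_apply (σ : F →+* F) {m : ℕ} (A H : Matrix (Fin m) (Fin m) F) (i j : Fin m) :
    hact σ A H i j = ∑ l, (∑ k, A i k * H k l) * σ (A j l) := by
  unfold hact
  rw [Matrix.mul_apply]
  refine Finset.sum_congr rfl fun l _ => ?_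
  rw [Matrix.mul_apply, ct_apply]

/-- the corner when the row `0` of `A` is `e_i + c e_j` -/
theorem ni_corner (σ : F →+* F) {n : ℕ} (A H : Matrix (Fin (n + 1)) (Fin (n + 1)) F)
    (i j : Fin (n + 1)) (c : F)
    (hrow : ∀ k, A 0 k = (if k = i then 1 else 0) + (if k = j then c else 0)) :
    hact σ A H 0 0 = H i i + c * H j i + H i j * σ c + c * H j j * σ c := by
  classical
  rw [ni_hact_apply]
  have hs : ∀ f : Fin (n + 1) → F, ∑ k, A 0 k * f k = f i + c * f j := by
    intro f
    simp only [hrow, add_mul, ite_mul, one_mul, zero_mul, Finset.sum_add_distrib,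
      Finset.sum_ite_eq', Finset.mem_univ, if_true]
  have hs' : ∀ f : Fin (n + 1) → F, ∑ l, f l * σ (A 0 l) = f i + f j * σ c := by
    intro f
    simp only [hrow, map_add, apply_ite σ, map_one, map_zero, mul_add, mul_ite, mul_one,
      mul_zero, Finset.sum_add_distrib, Finset.sum_ite_eq', Finset.mem_univ, if_true]
  have h1 : ∀ l, (∑ k, A 0 k * H k l) * σ (A 0 l) = (H i l + c * H j l) * σ (A 0 l) := by
    intro l
    rw [hs fun k => H k l]
  rw [Finset.sum_congr rfl fun l _ => h1 l, hs' fun l => H i l + c * H j l]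
  ring

theorem exists_corner_ne_zero [Finite F] (D : Frob F q) {m : ℕ}
    (H : Matrix (Fin (m + 1)) (Fin (m + 1)) F) (hH : H ∈ Herm D.σ (m + 1)) (h0 : H ≠ 0) :
    ∃ A : Matrix (Fin (m + 1)) (Fin (m + 1)) F, A.det ≠ 0 ∧ D.σ A.det = A.det ∧
      hact D.σ A H 0 0 ≠ 0 := by
  classical
  have hH' : ∀ a b, D.σ (H a b) = H b a := by
    intro a b
    have h1 : ct D.σ H = H := hH
    have h2 := congrFun (congrFun h1 b) a
    rwa [ct_apply] at h2
  -- the shape of the matrices used
  have hdet : ∀ (i j : Fin (m + 1)) (c : F), i ≠ j ∨ c = 0 →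
      ((1 + Matrix.single i j c).submatrix (Equiv.swap 0 i) id).det ≠ 0 ∧
        D.σ ((1 + Matrix.single i j c).submatrix (Equiv.swap 0 i) id).det =
          ((1 + Matrix.single i j c).submatrix (Equiv.swap 0 i) id).det := by
    intro i j c hc
    have hd1 : (1 + Matrix.single i j c).det = 1 := by
      rcases hc with hne | hc0
      · exact Matrix.det_transvection_of_ne _ _ hne _
      · rw [hc0]
        simp
    rw [Matrix.det_permute, hd1, mul_one]
    refine ⟨?_, map_intCast _ _⟩
    rcases Int.units_eq_one_or (Equiv.Perm.sign (Equiv.swap (0 : Fin (m + 1)) i)) with h | h <;>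
      rw [h] <;> simp
  have hrow : ∀ (i j : Fin (m + 1)) (c : F) (k : Fin (m + 1)),
      ((1 + Matrix.single i j c).submatrix (Equiv.swap 0 i) id) 0 k =
        (if k = i then 1 else 0) + (if k = j then c else 0) := by
    intro i j c k
    rw [Matrix.submatrix_apply, Equiv.swap_apply_left, Matrix.add_apply, Matrix.one_apply,
      Matrix.single_apply]
    simp only [id, true_and, eq_comm]
  by_cases hdiag : ∃ i, H i i ≠ 0
  · obtain ⟨i, hi⟩ := hdiag
    refine ⟨(1 + Matrix.single i i (0 : F)).submatrix (Equiv.swap 0 i) id, (hdet i i 0 (Or.inr rfl)).1,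
      (hdet i i 0 (Or.inr rfl)).2, ?_⟩
    rw [ni_corner D.σ _ H i i 0 (hrow i i 0)]
    simpa using hi
  · push Not at hdiag
    obtain ⟨i, j, hij⟩ : ∃ i j, H i j ≠ 0 := by
      by_contra hcon
      push Not at hcon
      exact h0 (by ext a b; exact hcon a b)
    have hne : i ≠ j := by
      intro h
      rw [h] at hij
      exact hij (hdiag j)
    have hji : H j i ≠ 0 := by
      rw [← hH' i j]
      exact σ_ne_zero D hij
    obtain ⟨t, ht⟩ := exists_trace_ne D
    set c : F := t * (H j i)⁻¹ with hc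
    refine ⟨(1 + Matrix.single i j c).submatrix (Equiv.swap 0 i) id, (hdet i j c (Or.inl hne)).1,
      (hdet i j c (Or.inl hne)).2, ?_⟩
    rw [ni_corner D.σ _ H i j c (hrow i j c), hdiag i, hdiag j]
    have h1 : c * H j i = t := by
      rw [hc, mul_assoc, inv_mul_cancel₀ hji, mul_one]
    have h2 : H i j * D.σ c = D.σ t := by
      rw [← hH' j i, ← map_mul, mul_comm, h1]
    rw [h1, h2]
    simpa using ht

end Cfsg.Agent.Helper12.LSU
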