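import Mathlib
import Cfsg.Agent.Helper12.LSUDefs

set_option autoImplicit false

/-! S2335 piece DUAL: orthogonality for the characters `H ↦ ψ (tr (H Y))` of the Hermitian matrices. -/

namespace Cfsg.Agent.Helper12.LSU

open Matrix Cfsg Cfsg.Agent.Helper2.SUGen

variable {F : Type*} [Field F] {q : ℕ}

theorem dual_ct_single (σ : F →+* F) {m : ℕ} (i j : Fin m) (c : F) :
    ct σ (Matrix.single i j c) = Matrix.single j i (σ c) := by
  ext a b
  rw [ct_apply, Matrix.single_apply, Matrix.single_apply]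
  by_cases h : i = b ∧ j = a
  · rw [if_pos h, if_pos ⟨h.2, h.1⟩]
  · rw [if_neg h, if_neg (fun h' => h ⟨h'.2, h'.1⟩), map_zero]

theorem dual_ct_add (σ : F →+* F) {m : ℕ} (A B : Matrix (Fin m) (Fin m) F) :
    ct σ (A + B) = ct σ A + ct σ B := by
  ext a b
  rw [ct_apply, Matrix.add_apply, Matrix.add_apply, map_add, ct_apply, ct_apply]

/-- a Hermitian matrix pairing to `1` with `Y` -/
theorem dual_exists_trace_one (D : Frob F q) (m : ℕ)
    (Y : Matrix (Fin m) (Fin m) F) (hY : Y ∈ Herm D.σ m) (hY0 : Y ≠ 0) :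
    ∃ H : Matrix (Fin m) (Fin m) F, H ∈ Herm D.σ m ∧ Matrix.trace (H * Y) = 1 := by
  classical
  have hY' : ∀ a b, D.σ (Y a b) = Y b a := by
    intro a b
    have h1 : ct D.σ Y = Y := hY
    have h2 := congrFun (congrFun h1 b) a
    rwa [ct_apply] at h2
  obtain ⟨i, j, hij⟩ : ∃ i j, Y i j ≠ 0 := by
    by_contra hcon
    push Not at hcon
    exact hY0 (by ext a b; exact hcon a b)
  by_cases hdiag : i = j
  · subst hdiag
    refine ⟨Matrix.single i i (Y i i)⁻¹, ?_, ?_⟩
    · rw [mem_Herm, dual_ct_single, map_inv₀, hY' i i]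
    · rw [Matrix.trace_single_mul, smul_eq_mul, inv_mul_cancel₀ hij]
  · obtain ⟨t, ht⟩ := exists_trace D 1 (map_one _)
    have hji : Y j i ≠ 0 := by
      rw [← hY' i j]
      exact σ_ne_zero D hij
    set c : F := t * (Y j i)⁻¹ with hc
    refine ⟨Matrix.single i j c + Matrix.single j i (D.σ c), ?_, ?_⟩
    · rw [mem_Herm, dual_ct_add, dual_ct_single, dual_ct_single, D.invol, add_comm]
    · rw [add_mul, Matrix.trace_add, Matrix.trace_single_mul, Matrix.trace_single_mul, smul_eq_mul,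
        smul_eq_mul]
      have h1 : c * Y j i = t := by
        rw [hc, mul_assoc, inv_mul_cancel₀ hji, mul_one]
      have h2 : D.σ c * Y i j = D.σ t := by
        rw [← hY' j i, ← map_mul, h1]
      rw [h1, h2, ht]

theorem sum_addChar_herm [Fintype F] (D : Frob F q) (m : ℕ) [Fintype ↥(Herm D.σ m)]
    (ψ : AddChar F ℂ) (hψ : ψ 1 ≠ 1)
    (Y : Matrix (Fin m) (Fin m) F) (hY : Y ∈ Herm D.σ m) (hY0 : Y ≠ 0) :
    ∑ H : ↥(Herm D.σ m), ψ (Matrix.trace ((H : Matrix (Fin m) (Fin m) F) * Y)) = 0 := by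
  classical
  let f : ↥(Herm D.σ m) →+ F :=
    { toFun := fun H => Matrix.trace ((H : Matrix (Fin m) (Fin m) F) * Y)
      map_zero' := by simp
      map_add' := by
        intro a b
        simp [add_mul, Matrix.trace_add] }
  let χ : AddChar ↥(Herm D.σ m) ℂ := ψ.compAddMonoidHom f
  have hχ : χ ≠ 1 := by
    intro h1
    obtain ⟨H, hH, htr⟩ := dual_exists_trace_one D m Y hY hY0
    have h2 : χ ⟨H, hH⟩ = 1 := by rw [h1]; rfl
    have h3 : χ ⟨H, hH⟩ = ψ 1 := by
      show ψ (Matrix.trace (H * Y)) = ψ 1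
      rw [htr]
    exact hψ (h3.symm.trans h2)
  have := AddChar.sum_eq_zero_of_ne_one hχ
  exact this

end Cfsg.Agent.Helper12.LSU
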