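import Mathlib
import Cfsg.Prelude.Def_Characters
import Cfsg.Prelude.Def_Blocks
import Cfsg.Agent.Helper20.TiClaim
import Cfsg.Agent.Helper24.Invariants
import Cfsg.Agent.Helper24.Restrict
import Cfsg.Agent.Helper24.Product
import Cfsg.Agent.Helper24.RealChar
import Cfsg.Agent.Helper24.Abelian

/-!
# Characters of groups with a TI Sylow subgroup

If `P` is a TI Sylow `p`-subgroup of `G`, `H ≥ N_G(P)`, and `ξ` is a non-principal irreducible
character of `G` whose restriction to `H` contains the principal character, then `ξ(1) ≥ |P|`.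
-/

set_option autoImplicit false

namespace Cfsg.Agent.Helper20.TiChar

open Cfsg Cfsg.Agent.Helper24 Representation Module
open scoped Pointwise ComplexConjugate

universe u

variable {G : Type u} [Group G] [Fintype G]

theorem card_le_irrDeg (p : ℕ) [Fact p.Prime] (P : Sylow p G)
    (hTI : ∀ g : G, g ∉ Subgroup.normalizer ((P : Subgroup G) : Set G) →
      (P : Subgroup G) ⊓ (MulAut.conj g • (P : Subgroup G)) = ⊥)
    (H : Subgroup G) [Fintype H] (hH : Subgroup.normalizer ((P : Subgroup G) : Set G) ≤ H)
    (ξ : IrrCharacter G) (hξ1 : (ξ : G → ℂ) ≠ fun _ => 1)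
    (hne : classInner (fun x : H => (ξ : G → ℂ) x) (fun _ => 1) ≠ 0) :
    Nat.card (P : Subgroup G) ≤ irrDeg ξ := by
  classical
  have hdeg := irrDeg_spec ξ
  obtain ⟨n, ρ, hρ, hρξ⟩ := ξ.2
  haveI := hρ
  have hinv0 : invariants ρ = ⊥ := by
    haveI : Invertible (Nat.card G : ℂ) := by
      apply invertibleOfNonzero
      have := Nat.card_pos (α := G)
      exact_mod_cast this.ne'
    have h1 := card_inv_mul_sum_char_eq_finrank ρ
    have h2 : classInner ρ.character (fun _ => (1 : ℂ)) = 0 := by
      rw [classInner_of_isIrrCharacter ⟨n, ρ, hρ, rfl⟩ isIrrCharacter_const_one,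
        if_neg (by rw [hρξ]; exact hξ1)]
    have h3 : classInner ρ.character (fun _ => (1 : ℂ)) =
        (Nat.card G : ℂ)⁻¹ * ∑ g : G, ρ.character g := by
      unfold classInner
      congr 1
      refine Finset.sum_congr rfl ?_
      intro g _
      rw [map_one, mul_one]
    rw [← h3, h2] at h1
    have h4 : finrank ℂ (invariants ρ) = 0 := by exact_mod_cast h1.symm
    exact Submodule.finrank_eq_zero.mp h4
  rw [← hρξ, classInner_restrict_one_eq_finrank_invariants ρ H] at hne
  have hne' : invariants (ρ.comp H.subtype) ≠ ⊥ := by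
    intro h0
    apply hne
    rw [h0, finrank_bot]
    simp
  obtain ⟨v, hvmem, hv0⟩ := Submodule.exists_mem_ne_zero_of_ne_bot hne'
  rw [mem_invariants_comp_subtype] at hvmem
  have hfix : ∀ u : Fin n → ℂ, (∀ g : G, ρ g u = u) → u = 0 := by
    intro u hu
    have : u ∈ invariants ρ := by
      rw [mem_invariants]
      exact hu
    rw [hinv0] at this
    simpa using this
  have hmain := TiClaim.card_le_finrank p P hTI H hH ρ hfix v hv0 hvmem
  have hn : (irrDeg ξ : ℂ) = (finrank ℂ (Fin n → ℂ) : ℂ) := by
    rw [← hdeg, ← hρξ, Representation.char_one]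
  have hn' : irrDeg ξ = finrank ℂ (Fin n → ℂ) := by exact_mod_cast hn
  rw [hn']
  exact hmain


theorem classInner_self_eq_mul_star (K : Type u) [Group K] [Fintype K] (χ : K → ℂ) :
    classInner χ χ = classInner (fun k => χ k * (starRingEnd ℂ) (χ k)) (fun _ => 1) := by
  unfold classInner
  congr 1
  refine Finset.sum_congr rfl ?_
  intro g _
  rw [map_one, mul_one]

theorem classInner_self_ne_zero {χ : G → ℂ} (h1 : χ 1 ≠ 0) : classInner χ χ ≠ 0 := by
  unfold classInner
  have hcard : (Nat.card G : ℂ)⁻¹ ≠ 0 := by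
    apply inv_ne_zero
    have := Nat.card_pos (α := G)
    exact_mod_cast this.ne'
  refine mul_ne_zero hcard ?_
  have hsum : ∑ g : G, χ g * (starRingEnd ℂ) (χ g) =
      ((∑ g : G, Complex.normSq (χ g) : ℝ) : ℂ) := by
    push_cast
    refine Finset.sum_congr rfl ?_
    intro g _
    exact Complex.mul_conj (χ g)
  rw [hsum]
  have hpos : 0 < ∑ g : G, Complex.normSq (χ g) := by
    apply Finset.sum_pos'
    · intro g _
      exact Complex.normSq_nonneg _
    · exact ⟨1, Finset.mem_univ _, Complex.normSq_pos.mpr h1⟩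
  exact_mod_cast hpos.ne'

/-- Isaacs-style lemma: if `P` is a TI Sylow subgroup, `χ(1)² ≤ |P|` and `H ≥ N_G(P)`, then
`[χ, χ]_G = [χ_H, χ_H]_H`. -/
theorem norm_restrict (p : ℕ) [Fact p.Prime] (P : Sylow p G)
    (hTI : ∀ g : G, g ∉ Subgroup.normalizer ((P : Subgroup G) : Set G) →
      (P : Subgroup G) ⊓ (MulAut.conj g • (P : Subgroup G)) = ⊥)
    (χ : G → ℂ) (hχ : IsCharacter G χ)
    (hdeg : charDegree χ ^ 2 ≤ Nat.card (P : Subgroup G))
    (H : Subgroup G) [Fintype H] (hH : Subgroup.normalizer ((P : Subgroup G) : Set G) ≤ H) :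
    classInner χ χ = classInner (fun h : H => χ h) (fun h : H => χ h) := by
  classical
  haveI : Fintype (IrrCharacter G) := Fintype.ofFinite _
  obtain ⟨d, hd⟩ := isCharacter_one hχ
  have hcd : charDegree χ = d := by
    unfold charDegree
    rw [hd]
    simp
  rw [hcd] at hdeg
  set ψ : G → ℂ := χ * (fun g => (starRingEnd ℂ) (χ g)) with hψdef
  have hψ : IsCharacter G ψ := IsCharacter.mul hχ (isCharacter_star hχ)
  rw [classInner_self_eq_mul_star G χ, classInner_self_eq_mul_star H (fun h : H => χ h)]
  change classInner ψ (fun _ => 1) = classInner (fun h : H => ψ h) (fun _ => 1)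
  obtain ⟨n, hn⟩ := IsCharacter.exists_nat_coeff hψ
  let triv : IrrCharacter G := ⟨fun _ => 1, isIrrCharacter_const_one⟩
  have hcoef : ∀ φ : IrrCharacter G, classInner ψ (φ : G → ℂ) = n φ := by
    intro φ
    rw [hn]
    exact classInner_sum_irr _ φ
  have hleft : classInner ψ (fun _ => 1) = n triv := hcoef triv
  -- the restriction
  have hres : (fun h : H => ψ h) =
      ∑ φ : IrrCharacter G, (n φ : ℂ) • (fun h : H => (φ : G → ℂ) h) := by
    funext h
    rw [hn]
    simp [Finset.sum_apply]
  have hright : classInner (fun h : H => ψ h) (fun _ => 1) =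
      ∑ φ : IrrCharacter G, (n φ : ℂ) *
        classInner (fun h : H => (φ : G → ℂ) h) (fun _ => 1) := by
    rw [hres, classInner_sum_left]
    refine Finset.sum_congr rfl ?_
    intro φ _
    rw [classInner_smul_left]
  -- degree count
  have hψ1 : ψ 1 = (d : ℂ) * d := by
    rw [hψdef]
    simp [hd]
  have hsumdeg : d * d = ∑ φ : IrrCharacter G, n φ * irrDeg φ := by
    have h1 : ((d * d : ℕ) : ℂ) = ((∑ φ : IrrCharacter G, n φ * irrDeg φ : ℕ) : ℂ) := by
      push_cast
      rw [← hψ1, hn, Finset.sum_apply]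
      refine Finset.sum_congr rfl ?_
      intro φ _
      rw [Pi.smul_apply, smul_eq_mul, irrDeg_spec]
    exact_mod_cast h1
  rw [hleft, hright]
  rw [Finset.sum_eq_single triv]
  · have : classInner (fun h : H => (triv : G → ℂ) h) (fun _ => 1) = 1 := by
      have hcardH : (Nat.card H : ℂ) ≠ 0 := by
        have := Nat.card_pos (α := H)
        exact_mod_cast this.ne'
      unfold classInner
      simp only [triv, map_one, mul_one, Finset.sum_const, Finset.card_univ, nsmul_eq_mul]
      rw [← Nat.card_eq_fintype_card]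
      exact inv_mul_cancel₀ hcardH
    rw [this, mul_one]
  · intro ξ _ hξ
    by_contra hcon
    have hnξ : n ξ ≠ 0 := by
      intro h0
      apply hcon
      rw [h0]
      simp
    have hrξ : classInner (fun h : H => (ξ : G → ℂ) h) (fun _ => 1) ≠ 0 := by
      intro h0
      apply hcon
      rw [h0, mul_zero]
    have hξ1 : (ξ : G → ℂ) ≠ fun _ => 1 := by
      intro h
      apply hξ
      exact Subtype.ext h
    have hge := card_le_irrDeg p P hTI H hH ξ hξ1 hrξ
    -- the trivial character is a constituent of ψ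
    have hd0 : d ≠ 0 := by
      intro h0
      have hz : ∑ φ : IrrCharacter G, n φ * irrDeg φ = 0 := by
        rw [← hsumdeg, h0]
      have := (Finset.sum_eq_zero_iff.mp hz) ξ (Finset.mem_univ _)
      rcases Nat.mul_eq_zero.mp this with h | h
      · exact hnξ h
      · exact (irrDeg_pos ξ).ne' h
    have hntriv : n triv ≠ 0 := by
      intro h0
      have h1 : classInner χ χ ≠ 0 := by
        apply classInner_self_ne_zero
        rw [hd]
        exact_mod_cast hd0
      apply h1
      rw [classInner_self_eq_mul_star G χ]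
      change classInner ψ (fun _ => 1) = 0
      rw [hleft, h0]
      simp
    have hpair : n triv * irrDeg triv + n ξ * irrDeg ξ ≤
        ∑ φ : IrrCharacter G, n φ * irrDeg φ := by
      have hsub : ({triv, ξ} : Finset (IrrCharacter G)) ⊆ Finset.univ := Finset.subset_univ _
      have := Finset.sum_le_sum_of_subset (f := fun φ => n φ * irrDeg φ) hsub
      rwa [Finset.sum_pair (Ne.symm hξ)] at this
    have h1 : 1 ≤ n triv * irrDeg triv :=
      Nat.mul_pos (Nat.pos_of_ne_zero hntriv) (irrDeg_pos triv)
    have h2 : irrDeg ξ ≤ n ξ * irrDeg ξ := Nat.le_mul_of_pos_left _ (Nat.pos_of_ne_zero hnξ)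
    have h3 : d * d ≤ Nat.card (P : Subgroup G) := by
      rw [← pow_two]
      exact hdeg
    omega
  · intro h
    exact absurd (Finset.mem_univ _) h

end Cfsg.Agent.Helper20.TiChar
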