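import Mathlib
import Cfsg.Prelude.Def_Characters
import Cfsg.Prelude.Def_Blocks
import Cfsg.Agent.Helper20.TiChar
import Cfsg.Agent.Helper24.Regular
import Cfsg.Agent.Helper24.Restrict
import Cfsg.Agent.Helper24.Abelian
import Cfsg.Agent.Helper24.Codegree
import Cfsg.Agent.Helper24.SmallDegree
import Cfsg.Agent.Helper8.CharComp

/-!
# Groups all of whose irreducible characters have degree less than `p`: character-theoretic part
-/

set_option autoImplicit false

namespace Cfsg.Agent.Helper20.SmallDeg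

open Cfsg Cfsg.Agent.Helper24
open scoped Pointwise ComplexConjugate

universe u

section
variable {G : Type u} [Group G] [Fintype G]

/-- `∑ χ(1) χ(g)` is `|G|` at `g = 1` and `0` elsewhere. -/
theorem sum_irr_one_mul [Fintype (IrrCharacter G)] [DecidableEq G] (g : G) :
    ∑ χ : IrrCharacter G, (χ : G → ℂ) 1 * (χ : G → ℂ) g =
      if g = 1 then (Nat.card G : ℂ) else 0 := by
  split_ifs with h
  · rw [h, ← sum_sq_irr_one]
    refine Finset.sum_congr ?_ ?_
    · ext; simp
    · intro χ _
      rw [pow_two]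
  · convert sum_irr_one_mul_eq_zero h

/-- The regular character restricted to a subgroup `K`, paired with `θ`. -/
theorem sum_irr_one_mul_classInner_restrict [Fintype (IrrCharacter G)]
    (K : Subgroup G) [Fintype K] (θ : K → ℂ) :
    ∑ χ : IrrCharacter G, (χ : G → ℂ) 1 * classInner (fun k : K => (χ : G → ℂ) k) θ =
      (Nat.card K : ℂ)⁻¹ * (Nat.card G : ℂ) * (starRingEnd ℂ) (θ 1) := by
  classical
  unfold classInner
  have h1 : ∀ χ : IrrCharacter G, (χ : G → ℂ) 1 *
      ((Nat.card K : ℂ)⁻¹ * ∑ k : K, (χ : G → ℂ) k * (starRingEnd ℂ) (θ k)) =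
      (Nat.card K : ℂ)⁻¹ * ∑ k : K, ((χ : G → ℂ) 1 * (χ : G → ℂ) k) * (starRingEnd ℂ) (θ k) := by
    intro χ
    rw [mul_left_comm, Finset.mul_sum]
    congr 1
    refine Finset.sum_congr rfl ?_
    intro k _
    ring
  rw [Finset.sum_congr rfl (fun χ _ => h1 χ), ← Finset.mul_sum, Finset.sum_comm, mul_assoc]
  congr 1
  have h2 : ∀ k : K, ∑ χ : IrrCharacter G,
      ((χ : G → ℂ) 1 * (χ : G → ℂ) k) * (starRingEnd ℂ) (θ k) =
      (if (k : G) = 1 then (Nat.card G : ℂ) else 0) * (starRingEnd ℂ) (θ k) := by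
    intro k
    rw [← Finset.sum_mul, sum_irr_one_mul]
  rw [Finset.sum_congr rfl (fun k _ => h2 k)]
  rw [Finset.sum_eq_single (1 : K)]
  · simp
  · intro k _ hk
    have : (k : G) ≠ 1 := by
      intro h
      apply hk
      exact Subtype.ext h
    rw [if_neg this, zero_mul]
  · intro h
    exact absurd (Finset.mem_univ _) h

/-- Every irreducible character of a subgroup lies under an irreducible character of `G`. -/
theorem exists_irr_over (K : Subgroup G) [Fintype K] (θ : IrrCharacter K) :
    ∃ χ : IrrCharacter G, classInner (fun k : K => (χ : G → ℂ) k) (θ : K → ℂ) ≠ 0 := by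
  classical
  haveI : Fintype (IrrCharacter G) := Fintype.ofFinite _
  by_contra hcon
  push Not at hcon
  have h := sum_irr_one_mul_classInner_restrict K (θ : K → ℂ)
  rw [Finset.sum_eq_zero (fun χ _ => by rw [hcon χ, mul_zero])] at h
  have hK : (Nat.card K : ℂ)⁻¹ ≠ 0 := by
    apply inv_ne_zero
    have := Nat.card_pos (α := K)
    exact_mod_cast this.ne'
  have hG : (Nat.card G : ℂ) ≠ 0 := by
    have := Nat.card_pos (α := G)
    exact_mod_cast this.ne'
  have hθ : (starRingEnd ℂ) ((θ : K → ℂ) 1) ≠ 0 := by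
    rw [Ne, map_eq_zero]
    exact irr_one_ne_zero θ
  exact (mul_ne_zero (mul_ne_zero hK hG) hθ) h.symm

/-- A proper subgroup fixes a vector in some non-principal irreducible representation. -/
theorem exists_nonprincipal (H : Subgroup G) [Fintype H] (hH : H ≠ ⊤) :
    ∃ ξ : IrrCharacter G, (ξ : G → ℂ) ≠ (fun _ => 1) ∧
      classInner (fun h : H => (ξ : G → ℂ) h) (fun _ => 1) ≠ 0 := by
  classical
  haveI : Fintype (IrrCharacter G) := Fintype.ofFinite _
  by_contra hcon
  push Not at hcon
  apply hH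
  have h := sum_irr_one_mul_classInner_restrict H (fun _ => (1 : ℂ))
  let triv : IrrCharacter G := ⟨fun _ => 1, isIrrCharacter_const_one⟩
  have hHne : (Nat.card H : ℂ) ≠ 0 := by
    have := Nat.card_pos (α := H)
    exact_mod_cast this.ne'
  rw [Finset.sum_eq_single triv] at h
  · have h1 : classInner (fun h : H => (triv : G → ℂ) h) (fun _ => 1) = 1 := by
      unfold classInner
      simp only [triv, map_one, mul_one, Finset.sum_const, Finset.card_univ, nsmul_eq_mul]
      rw [← Nat.card_eq_fintype_card]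
      exact inv_mul_cancel₀ hHne
    rw [h1] at h
    simp only [triv, map_one, mul_one] at h
    have h2 : (Nat.card H : ℂ) = (Nat.card G : ℂ) := by
      field_simp at h
      exact h
    have h3 : Nat.card H = Nat.card G := by exact_mod_cast h2
    exact Subgroup.eq_top_of_card_eq H h3
  · intro ξ _ hξ
    have hξ1 : (ξ : G → ℂ) ≠ fun _ => 1 := by
      intro h
      apply hξ
      exact Subtype.ext h
    rw [hcon ξ hξ1, mul_zero]
  · intro h
    exact absurd (Finset.mem_univ _) h

end

section
variable {G : Type u} [Group G] [Finite G]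

/-- The hypothesis passes to subgroups. -/
theorem charDegree_lt_of_subgroup (p : ℕ)
    (hb : ∀ χ : IrrCharacter G, charDegree (χ : G → ℂ) < p) (K : Subgroup G)
    (θ : IrrCharacter K) : charDegree (θ : K → ℂ) < p := by
  classical
  haveI : Fintype G := Fintype.ofFinite G
  haveI : Fintype K := Fintype.ofFinite K
  haveI : Fintype (IrrCharacter K) := Fintype.ofFinite _
  obtain ⟨χ, hχ⟩ := exists_irr_over K θ
  have h1 : IsCharacter K (fun k : K => (χ : G → ℂ) k) :=
    Cfsg.Agent.Helper8.isCharacter_restrict K (IsIrrCharacter.isCharacter χ.2)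
  have h2 := irrDeg_le_of_constituent h1 θ hχ (irrDeg χ) (by
    change (χ : G → ℂ) ((1 : K) : G) = _
    rw [Subgroup.coe_one, irrDeg_spec])
  have h3 := hb χ
  rw [charDegree_irr] at h3 ⊢
  omega

/-- The hypothesis passes to quotients. -/
theorem charDegree_lt_of_quotient (p : ℕ)
    (hb : ∀ χ : IrrCharacter G, charDegree (χ : G → ℂ) < p) (N : Subgroup G) [N.Normal]
    (θ : IrrCharacter (G ⧸ N)) : charDegree (θ : G ⧸ N → ℂ) < p := by
  have h1 : IsIrrCharacter G (fun g => (θ : G ⧸ N → ℂ) (QuotientGroup.mk' N g)) :=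
    Cfsg.Agent.Helper8.isIrrCharacter_comp_surjective (QuotientGroup.mk' N)
      (QuotientGroup.mk'_surjective N) θ.2
  have h2 := hb ⟨_, h1⟩
  unfold charDegree at h2 ⊢
  simpa using h2

/-- Under the hypothesis, `p`-subgroups are abelian. -/
theorem comm_of_isPGroup (p : ℕ) (hp : p.Prime)
    (hb : ∀ χ : IrrCharacter G, charDegree (χ : G → ℂ) < p) (K : Subgroup G)
    (hK : IsPGroup p K) : ∀ x ∈ K, ∀ y ∈ K, x * y = y * x := by
  haveI : Fact p.Prime := ⟨hp⟩
  have hall : ∀ θ : IrrCharacter K, (θ : K → ℂ) 1 = 1 := by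
    intro θ
    have h1 := charDegree_lt_of_subgroup p hb K θ
    rw [charDegree_irr] at h1
    have h2 := irrDeg_dvd_card θ
    obtain ⟨n, hn⟩ := IsPGroup.iff_card.mp hK
    rw [hn] at h2
    obtain ⟨k, _, hk⟩ := (Nat.dvd_prime_pow hp).mp h2
    have hk0 : k = 0 := by
      by_contra hk0
      have : p ≤ irrDeg θ := by
        rw [hk]
        calc p = p ^ 1 := (pow_one p).symm
          _ ≤ p ^ k := Nat.pow_le_pow_right hp.pos (Nat.one_le_iff_ne_zero.mpr hk0)
      omega
    rw [hk0, pow_zero] at hk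
    rw [irrDeg_spec, hk]
    simp
  have hcomm := (comm_iff_forall_irr_one (G := K)).mpr hall
  intro x hx y hy
  have := hcomm ⟨x, hx⟩ ⟨y, hy⟩
  exact congrArg Subtype.val this

end

end Cfsg.Agent.Helper20.SmallDeg
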