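import Mathlib
import Cfsg.Prelude.Def_Characters
import Cfsg.Agent.Helper20.SmallDegA
import Cfsg.Agent.Helper24.Span
import Cfsg.Agent.Helper24.RealChar

/-!
# Central idempotents attached to irreducible characters, acting on a representation
-/

set_option autoImplicit false

namespace Cfsg.Agent.Helper20.PermChar

open Cfsg Cfsg.Agent.Helper24 Module

universe u v

section CentIdem

variable {G : Type u} [Group G] [Fintype G]
variable {V : Type v} [AddCommGroup V] [Module ℂ V]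

/-- The operator `(χ(1)/|G|) ∑ χ(g⁻¹) σ(g)`. -/
noncomputable def centIdem (σ : Representation ℂ G V) (χ : G → ℂ) : Module.End ℂ V :=
  (χ 1 / (Fintype.card G : ℂ)) • ∑ g : G, χ g⁻¹ • σ g

/-- Anything commuting with the action commutes with `centIdem`. -/
theorem centIdem_comm_of_comm (σ : Representation ℂ G V) (χ : G → ℂ) (S : Module.End ℂ V)
    (hS : ∀ g : G, σ g * S = S * σ g) : centIdem σ χ * S = S * centIdem σ χ := by
  unfold centIdem
  rw [smul_mul_assoc, mul_smul_comm, Finset.sum_mul, Finset.mul_sum]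
  congr 1
  refine Finset.sum_congr rfl ?_
  intro g _
  rw [smul_mul_assoc, mul_smul_comm, hS g]

theorem isClassFunction_inv (χ : IrrCharacter G) :
    IsClassFunction G (fun g : G => (χ : G → ℂ) g⁻¹) := by
  intro g h
  have := isClassFunction_irr χ g⁻¹ h
  simp only [mul_inv_rev, inv_inv]
  rw [← mul_assoc]
  exact this

/-- `centIdem` commutes with the action. -/
theorem centIdem_comm (σ : Representation ℂ G V) (χ : IrrCharacter G) (x : G) :
    σ x * centIdem σ (χ : G → ℂ) = centIdem σ (χ : G → ℂ) * σ x := by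
  unfold centIdem
  rw [mul_smul_comm, smul_mul_assoc]
  congr 1
  have := sum_smul_rho_comm σ (fun g : G => (χ : G → ℂ) g⁻¹) (isClassFunction_inv χ) x
  rw [← Module.End.mul_eq_comp, ← Module.End.mul_eq_comp] at this
  exact this.symm

/-- The convolution of two characters. -/
theorem sum_inv_mul (χ ψ : IrrCharacter G) [Decidable (χ = ψ)] (k : G) :
    ∑ g : G, (χ : G → ℂ) g⁻¹ * (ψ : G → ℂ) (k⁻¹ * g) =
      if χ = ψ then (Fintype.card G : ℂ) / (ψ : G → ℂ) 1 * (ψ : G → ℂ) k⁻¹ else 0 := by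
  have h1 := irr_sum_mul_char_mul ψ (fun g : G => (χ : G → ℂ) g⁻¹) (isClassFunction_inv χ) k⁻¹
  have h2 : ∀ g : G, (ψ : G → ℂ) (k⁻¹ * g) = (ψ : G → ℂ) (g * k⁻¹) := by
    intro g
    have := isClassFunction_irr ψ (g * k⁻¹) k⁻¹
    rw [← this]
    congr 1
    group
  simp_rw [h2]
  have h3 : ∑ g : G, (χ : G → ℂ) g⁻¹ * (ψ : G → ℂ) g =
      (Fintype.card G : ℂ) * (if χ = ψ then 1 else 0) := by
    have h4 := classInner_irr ψ χ
    unfold classInner at h4
    have h5 : ∑ g : G, (ψ : G → ℂ) g * (starRingEnd ℂ) ((χ : G → ℂ) g) =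
        ∑ g : G, (χ : G → ℂ) g⁻¹ * (ψ : G → ℂ) g := by
      refine Finset.sum_congr rfl ?_
      intro g _
      rw [irr_inv, mul_comm]
    rw [h5] at h4
    have hG : (Nat.card G : ℂ) ≠ 0 := by exact_mod_cast (Nat.card_pos (α := G)).ne'
    rw [← Nat.card_eq_fintype_card]
    have h6 : (if ψ = χ then (1 : ℂ) else 0) = if χ = ψ then 1 else 0 := by
      by_cases h : χ = ψ
      · simp [h]
      · have : ψ ≠ χ := fun h' => h h'.symm
        simp [h, this]
    rw [← h6, ← h4]
    field_simp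
  have hψ1 : (ψ : G → ℂ) 1 ≠ 0 := irr_one_ne_zero ψ
  have h7 : ∑ g : G, (χ : G → ℂ) g⁻¹ * (ψ : G → ℂ) (g * k⁻¹) =
      (ψ : G → ℂ) k⁻¹ * (∑ g : G, (χ : G → ℂ) g⁻¹ * (ψ : G → ℂ) g) / (ψ : G → ℂ) 1 := by
    rw [← h1]
    field_simp
  rw [h7, h3]
  split_ifs
  · field_simp
  · simp

/-- Orthogonality of the central idempotents. -/
theorem centIdem_mul (σ : Representation ℂ G V) (χ ψ : IrrCharacter G) [Decidable (χ = ψ)] :
    centIdem σ (χ : G → ℂ) * centIdem σ (ψ : G → ℂ) =
      if χ = ψ then centIdem σ (ψ : G → ℂ) else 0 := by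
  classical
  have hG : (Fintype.card G : ℂ) ≠ 0 := by exact_mod_cast Fintype.card_ne_zero
  have hψ1 : (ψ : G → ℂ) 1 ≠ 0 := irr_one_ne_zero ψ
  unfold centIdem
  rw [smul_mul_assoc, mul_smul_comm, Finset.sum_mul]
  have h1 : ∀ g : G, ((χ : G → ℂ) g⁻¹ • σ g) * ∑ h : G, (ψ : G → ℂ) h⁻¹ • σ h =
      ∑ k : G, ((χ : G → ℂ) g⁻¹ * (ψ : G → ℂ) (k⁻¹ * g)) • σ k := by
    intro g
    rw [Finset.mul_sum]
    rw [← Equiv.sum_comp (Equiv.mulLeft g)
      (fun k : G => ((χ : G → ℂ) g⁻¹ * (ψ : G → ℂ) (k⁻¹ * g)) • σ k)]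
    refine Finset.sum_congr rfl ?_
    intro h _
    rw [Equiv.coe_mulLeft, smul_mul_smul_comm, ← map_mul]
    have : (g * h)⁻¹ * g = h⁻¹ := by group
    rw [this]
  simp_rw [h1]
  rw [Finset.sum_comm]
  simp_rw [← Finset.sum_smul, sum_inv_mul]
  split_ifs with h
  · simp only [Finset.smul_sum]
    apply Finset.sum_congr rfl
    intro k _
    simp only [smul_smul]
    congr 1
    rw [h]
    field_simp
  · simp

/-- The central idempotents sum to one. -/
theorem sum_centIdem (σ : Representation ℂ G V) [Fintype (IrrCharacter G)] :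
    ∑ χ : IrrCharacter G, centIdem σ (χ : G → ℂ) = 1 := by
  classical
  have hG : (Fintype.card G : ℂ) ≠ 0 := by exact_mod_cast Fintype.card_ne_zero
  unfold centIdem
  simp_rw [Finset.smul_sum, smul_smul]
  rw [Finset.sum_comm]
  simp_rw [← Finset.sum_smul]
  have h1 : ∀ g : G, ∑ χ : IrrCharacter G,
      (χ : G → ℂ) 1 / (Fintype.card G : ℂ) * (χ : G → ℂ) g⁻¹ = if g = 1 then 1 else 0 := by
    intro g
    have := Cfsg.Agent.Helper20.SmallDeg.sum_irr_one_mul (G := G) g⁻¹
    have h2 : ∑ χ : IrrCharacter G,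
        (χ : G → ℂ) 1 / (Fintype.card G : ℂ) * (χ : G → ℂ) g⁻¹ =
        (∑ χ : IrrCharacter G, (χ : G → ℂ) 1 * (χ : G → ℂ) g⁻¹) / (Fintype.card G : ℂ) := by
      rw [Finset.sum_div]
      refine Finset.sum_congr rfl ?_
      intro χ _
      ring
    rw [h2, this]
    by_cases hg : g = 1
    · rw [if_pos hg, if_pos (by simpa using hg), Nat.card_eq_fintype_card, div_self hG]
    · rw [if_neg hg, if_neg (by simpa using hg), zero_div]
  simp_rw [h1]
  rw [Finset.sum_eq_single 1]
  · simp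
  · intro g _ hg
    simp [hg]
  · intro h; exact absurd (Finset.mem_univ _) h

/-- The trace of a central idempotent. -/
theorem trace_centIdem [FiniteDimensional ℂ V] (σ : Representation ℂ G V) (χ : IrrCharacter G) :
    LinearMap.trace ℂ V (centIdem σ (χ : G → ℂ)) =
      (χ : G → ℂ) 1 * classInner σ.character (χ : G → ℂ) := by
  have hG : (Fintype.card G : ℂ) ≠ 0 := by exact_mod_cast Fintype.card_ne_zero
  unfold centIdem classInner
  rw [map_smul, map_sum, smul_eq_mul, Nat.card_eq_fintype_card]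
  have : ∑ g : G, LinearMap.trace ℂ V ((χ : G → ℂ) g⁻¹ • σ g) =
      ∑ g : G, σ.character g * (starRingEnd ℂ) ((χ : G → ℂ) g) := by
    refine Finset.sum_congr rfl ?_
    intro g _
    rw [map_smul, smul_eq_mul, irr_inv, mul_comm]
    rfl
  rw [this]
  field_simp

end CentIdem

end Cfsg.Agent.Helper20.PermChar
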