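import Mathlib
import Cfsg.Agent.Helper18.K2P.Defs
import Cfsg.Agent.Helper18.K2P.QB
import Cfsg.Agent.Helper18.K2P.STAB

set_option autoImplicit false
set_option linter.unusedSectionVars false
set_option linter.unusedVariables false

/-! # K2P (S5692, `k = 2`, hyperbolic blocks), chapter A, piece A-CLS (helper20; driver helper18):
an isometry mapping every nonsingular block vector of one square class to a block vector permutes the blocks. -/

namespace Cfsg.Agent.K2P

open Matrix Cfsg.Agent.OC2P Cfsg.Agent.Helper28.Sg Cfsg.Agent.Helper28.Spin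
  Cfsg.Agent.Helper12.OrthGen Cfsg.Agent.K2M

variable {F : Type*} [Field F] [Fintype F] {t : ℕ} {Q : QuadraticForm F (Fin t × Fin 2 → F)}
  {q : QuadraticForm F (Fin 2 → F)} {e f : Fin 2 → F} {M : Subgroup (OG Q)}

namespace A.CLS

/-- two vectors of the plane with nonzero determinant span it (Cramer) -/
theorem aux_span2 {y₁ y₂ : Fin 2 → F} (hd : y₁ 0 * y₂ 1 - y₁ 1 * y₂ 0 ≠ 0) (z : Fin 2 → F) :
    ∃ a b : F, z = a • y₁ + b • y₂ := by
  set d := y₁ 0 * y₂ 1 - y₁ 1 * y₂ 0 with hdd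
  refine ⟨(z 0 * y₂ 1 - z 1 * y₂ 0) / d, (y₁ 0 * z 1 - y₁ 1 * z 0) / d, ?_⟩
  funext i
  fin_cases i
  · simp only [Fin.zero_eta, Pi.add_apply, Pi.smul_apply, smul_eq_mul]
    rw [div_mul_eq_mul_div, div_mul_eq_mul_div, ← add_div, eq_div_iff hd, hdd]
    ring
  · simp only [Fin.mk_one, Pi.add_apply, Pi.smul_apply, smul_eq_mul]
    rw [div_mul_eq_mul_div, div_mul_eq_mul_div, ← add_div, eq_div_iff hd, hdd]
    ring

/-- the hyperbolic pair has nonzero determinant -/
theorem aux_det_ef (bp : BP Q q e f) : e 0 * f 1 - e 1 * f 0 ≠ 0 := by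
  intro hd
  -- then `f 1 • e - e 1 • f = 0` and `f 0 • e - e 0 • f = 0`
  have e1 : (f 1) • e + (-(e 1)) • f = 0 := by
    funext i
    fin_cases i
    · simp only [Fin.zero_eta, Pi.add_apply, Pi.smul_apply, smul_eq_mul, Pi.zero_apply]
      linear_combination hd
    · simp only [Fin.mk_one, Pi.add_apply, Pi.smul_apply, smul_eq_mul, Pi.zero_apply]
      ring
  have e2 : (f 0) • e + (-(e 0)) • f = 0 := by
    funext i
    fin_cases i
    · simp only [Fin.zero_eta, Pi.add_apply, Pi.smul_apply, smul_eq_mul, Pi.zero_apply]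
      ring
    · simp only [Fin.mk_one, Pi.add_apply, Pi.smul_apply, smul_eq_mul, Pi.zero_apply]
      linear_combination -hd
  have pee : QuadraticMap.polar ⇑q e e = 0 := by
    rw [QuadraticMap.polar_self, bp.qe, smul_zero]
  have pff : QuadraticMap.polar ⇑q f f = 0 := by
    rw [QuadraticMap.polar_self, bp.qf, smul_zero]
  have pfe : QuadraticMap.polar ⇑q f e = 1 := by rw [QuadraticMap.polar_comm]; exact bp.ef
  -- pair with `f` and with `e`
  have k1 := congrArg (fun z => QuadraticMap.polar ⇑q z f) e1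
  have k2 := congrArg (fun z => QuadraticMap.polar ⇑q z e) e1
  have k3 := congrArg (fun z => QuadraticMap.polar ⇑q z f) e2
  have k4 := congrArg (fun z => QuadraticMap.polar ⇑q z e) e2
  simp only [QuadraticMap.polar_add_left, QuadraticMap.polar_smul_left, smul_eq_mul, bp.ef, pee, pff,
    pfe, QuadraticMap.polar_zero_left, mul_one, mul_zero, add_zero, zero_add] at k1 k2 k3 k4
  -- `f 1 = 0`, `e 1 = 0`, `f 0 = 0`, `e 0 = 0`
  have he : e = 0 := by
    funext i
    fin_cases i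
    · simpa using k4
    · simpa using k2
  have := bp.ef
  rw [he, QuadraticMap.polar_zero_left] at this
  exact zero_ne_one this

/-- the form in the hyperbolic basis -/
theorem aux_q (bp : BP Q q e f) (a b : F) : q (a • e + b • f) = a * b := by
  have h := QuadraticMap.map_add (⇑q) (a • e) (b • f)
  have h' : q (a • e + b • f) = q (a • e) + q (b • f) + QuadraticMap.polar ⇑q (a • e) (b • f) := by
    simp only [QuadraticMap.polar]; ring
  rw [h', QuadraticMap.map_smul, QuadraticMap.map_smul, bp.qe, bp.qf, QuadraticMap.polar_smul_left,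
    QuadraticMap.polar_smul_right, bp.ef]
  simp only [smul_eq_mul, mul_zero, zero_add, mul_one]

/-- determinant of two vectors in hyperbolic coordinates -/
theorem aux_det (a b a' b' : F) :
    (a • e + b • f) 0 * (a' • e + b' • f) 1 - (a • e + b • f) 1 * (a' • e + b' • f) 0
      = (a * b' - b * a') * (e 0 * f 1 - e 1 * f 0) := by
  simp only [Pi.add_apply, Pi.smul_apply, smul_eq_mul]
  ring

/-- the one-directional `StabD` criterion (port of helper27's `K2M.STAB.of_forall'`) -/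
theorem aux_of_forall' (g : OG Q)
    (h : ∀ i : Fin t, ∃ j : Fin t, ∀ y : Fin 2 → F, mt Q g *ᵥ binj i y ∈ Dblk F t 2 j) : StabD Q g := by
  choose φ hφ using h
  have heq : ∀ i, (Dblk F t 2 i).map (Matrix.toLin' (mt Q g)) = Dblk F t 2 (φ i) := by
    intro i
    have hle : (Dblk F t 2 i).map (Matrix.toLin' (mt Q g)) ≤ Dblk F t 2 (φ i) := by
      rintro _ ⟨x, hx, rfl⟩
      rw [Matrix.toLin'_apply, ← BLKDEC.binj_bproj hx]
      exact hφ i _
    apply Submodule.eq_of_le_of_finrank_eq hle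
    rw [BLKDEC.finrank_Dblk, ← (Submodule.equivMapOfInjective _ (STAB.aux_inj g) _).finrank_eq,
      BLKDEC.finrank_Dblk]
  have hinj : Function.Injective φ := by
    intro i i' hii
    have h1 : (Dblk F t 2 i).map (Matrix.toLin' (mt Q g))
        = (Dblk F t 2 i').map (Matrix.toLin' (mt Q g)) := by
      rw [heq, heq, hii]
    have h2 := Submodule.map_injective_of_injective (STAB.aux_inj g) h1
    by_contra hne
    set y0 : Fin 2 → F := fun _ => 1 with hy0
    have h3 : binj i y0 ∈ Dblk F t 2 i' := by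
      rw [← h2]
      exact binj_mem i y0
    have h4 := h3 i 0 hne
    simp [binj, hy0] at h4
  have hbij : Function.Bijective φ := Finite.injective_iff_bijective.mp hinj
  exact STAB.aux_of_perm g (Equiv.ofBijective φ hbij) (fun i y => hφ i y)

/-- a nonsingular vector of block `j` has a nonzero `j`-component -/
theorem aux_bproj_ne_zero {j : Fin t} {v : Fin t × Fin 2 → F} (hv : v ∈ Dblk F t 2 j)
    (hQ : Q v ≠ 0) : bproj j v ≠ 0 := by
  intro h
  have h1 := QB.mem_Dblk_iff'.mp hv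
  rw [h, QB.binj_zero] at h1
  rw [h1, map_zero] at hQ
  exact hQ rfl

/-- two nonzero scalars with `s₂² ≠ 1`, `s₃² ≠ 1`, `s₂² ≠ s₃²` -/
theorem aux_scalars (hq : 7 ≤ Fintype.card F) :
    ∃ s₂ s₃ : F, s₂ ≠ 0 ∧ s₃ ≠ 0 ∧ s₂ ^ 2 ≠ 1 ∧ s₃ ^ 2 ≠ 1 ∧ s₂ ^ 2 ≠ s₃ ^ 2 := by
  classical
  -- `s₂ ∉ {0, 1, -1}`
  have h1 : ∃ s₂ : F, s₂ ∉ ({0, 1, -1} : Finset F) := by
    by_contra hcon
    push Not at hcon
    have : Fintype.card F ≤ ({0, 1, -1} : Finset F).card := by
      rw [← Finset.card_univ]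
      exact Finset.card_le_card (fun x _ => hcon x)
    have h3 : ({0, 1, -1} : Finset F).card ≤ 3 := Finset.card_le_three
    omega
  obtain ⟨s₂, hs₂⟩ := h1
  have h2 : ∃ s₃ : F, s₃ ∉ ({0, 1, -1, s₂, -s₂} : Finset F) := by
    by_contra hcon
    push Not at hcon
    have : Fintype.card F ≤ ({0, 1, -1, s₂, -s₂} : Finset F).card := by
      rw [← Finset.card_univ]
      exact Finset.card_le_card (fun x _ => hcon x)
    have h5 : ({0, 1, -1, s₂, -s₂} : Finset F).card ≤ 5 := Finset.card_le_five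
    omega
  obtain ⟨s₃, hs₃⟩ := h2
  simp only [Finset.mem_insert, Finset.mem_singleton, not_or] at hs₂ hs₃
  refine ⟨s₂, s₃, hs₂.1, hs₃.1, ?_, ?_, ?_⟩
  · intro h
    have : (s₂ - 1) * (s₂ + 1) = 0 := by linear_combination h
    rcases mul_eq_zero.mp this with h | h
    · exact hs₂.2.1 (sub_eq_zero.mp h)
    · exact hs₂.2.2 (eq_neg_of_add_eq_zero_left h)
  · intro h
    have : (s₃ - 1) * (s₃ + 1) = 0 := by linear_combination h
    rcases mul_eq_zero.mp this with h | h
    · exact hs₃.2.1 (sub_eq_zero.mp h)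
    · exact hs₃.2.2.1 (eq_neg_of_add_eq_zero_left h)
  · intro h
    have : (s₃ - s₂) * (s₃ + s₂) = 0 := by linear_combination -h
    rcases mul_eq_zero.mp this with h | h
    · exact hs₃.2.2.2.1 (sub_eq_zero.mp h)
    · exact hs₃.2.2.2.2 (eq_neg_of_add_eq_zero_left h)

/-- the image of a whole block lies in one block -/
theorem aux_block (bp : BP Q q e f) (hq : 7 ≤ Fintype.card F) (x : OG Q) {c : F} (hc : c ≠ 0)
    (h : ∀ (l : Fin t) (y : Fin 2 → F), q y ≠ 0 → IsSquare (q y * c) → IsBlk (mt Q x *ᵥ binj l y))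
    (l : Fin t) : ∃ j : Fin t, ∀ y : Fin 2 → F, mt Q x *ᵥ binj l y ∈ Dblk F t 2 j := by
  obtain ⟨s₂, s₃, hs₂, hs₃, h21, h31, h23⟩ := aux_scalars (F := F) hq
  have hdet := aux_det_ef bp
  set y₁ : Fin 2 → F := (1 : F) • e + c • f with hy₁
  set y₂ : Fin 2 → F := s₂ • e + (c / s₂) • f with hy₂
  set y₃ : Fin 2 → F := s₃ • e + (c / s₃) • f with hy₃
  have q1 : q y₁ = c := by rw [hy₁, aux_q bp, one_mul]
  have q2 : q y₂ = c := by rw [hy₂, aux_q bp]; field_simp
  have q3 : q y₃ = c := by rw [hy₃, aux_q bp]; field_simp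
  have hsq : ∀ y : Fin 2 → F, q y = c → IsSquare (q y * c) := fun y hy => ⟨c, by rw [hy]⟩
  obtain ⟨j₁, hj1⟩ := h l y₁ (by rw [q1]; exact hc) (hsq y₁ q1)
  obtain ⟨j₂, hj2⟩ := h l y₂ (by rw [q2]; exact hc) (hsq y₂ q2)
  obtain ⟨j₃, hj3⟩ := h l y₃ (by rw [q3]; exact hc) (hsq y₃ q3)
  -- `y₁, y₂` span
  have d12 : y₁ 0 * y₂ 1 - y₁ 1 * y₂ 0 ≠ 0 := by
    rw [hy₁, hy₂, aux_det]
    refine mul_ne_zero ?_ hdet
    intro h0
    apply h21
    have : c * (1 - s₂ ^ 2) = 0 := by
      field_simp at h0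
      linear_combination h0
    rcases mul_eq_zero.mp this with h | h
    · exact absurd h hc
    · linear_combination -h
  -- `y₃ = a y₁ + b y₂` with explicit nonzero `a, b`
  set b : F := (s₃ ^ 2 - 1) * s₂ / ((s₂ ^ 2 - 1) * s₃) with hb
  set a : F := (s₂ ^ 2 - s₃ ^ 2) / ((s₂ ^ 2 - 1) * s₃) with ha
  have n21 : s₂ ^ 2 - 1 ≠ 0 := sub_ne_zero.mpr h21
  have n31 : s₃ ^ 2 - 1 ≠ 0 := sub_ne_zero.mpr h31
  have n23 : s₂ ^ 2 - s₃ ^ 2 ≠ 0 := sub_ne_zero.mpr h23
  have hb0 : b ≠ 0 := by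
    rw [hb]; exact div_ne_zero (mul_ne_zero n31 hs₂) (mul_ne_zero n21 hs₃)
  have ha0 : a ≠ 0 := by
    rw [ha]; exact div_ne_zero n23 (mul_ne_zero n21 hs₃)
  have hab : y₃ = a • y₁ + b • y₂ := by
    rw [hy₁, hy₂, hy₃, smul_add, smul_add, smul_smul, smul_smul, smul_smul, smul_smul]
    have c1 : s₃ = a * 1 + b * s₂ := by
      rw [ha, hb]; field_simp; ring
    have c2 : c / s₃ = a * c + b * (c / s₂) := by
      rw [ha, hb]; field_simp; ring
    rw [add_add_add_comm, ← add_smul, ← add_smul, ← c1, ← c2]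
  have hQ1 : Q (mt Q x *ᵥ binj l y₁) ≠ 0 := by
    rw [Q_isom, QB.Q_binj bp.toBM0, q1]; exact hc
  have hQ2 : Q (mt Q x *ᵥ binj l y₂) ≠ 0 := by
    rw [Q_isom, QB.Q_binj bp.toBM0, q2]; exact hc
  have hv3 : mt Q x *ᵥ binj l y₃ = a • (mt Q x *ᵥ binj l y₁) + b • (mt Q x *ᵥ binj l y₂) := by
    rw [hab, QB.binj_add, QB.binj_smul, QB.binj_smul, Matrix.mulVec_add, Matrix.mulVec_smul,
      Matrix.mulVec_smul]
  have hj : j₁ = j₂ := by
    by_contra hne
    have hne' : j₂ ≠ j₁ := fun e => hne e.symm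
    have e1 : bproj j₁ (mt Q x *ᵥ binj l y₃) = a • bproj j₁ (mt Q x *ᵥ binj l y₁) := by
      rw [hv3, QB.bproj_add, QB.bproj_smul, QB.bproj_smul, QB.mem_Dblk_iff.mp hj2 j₁ hne,
        smul_zero, add_zero]
    have e2 : bproj j₂ (mt Q x *ᵥ binj l y₃) = b • bproj j₂ (mt Q x *ᵥ binj l y₂) := by
      rw [hv3, QB.bproj_add, QB.bproj_smul, QB.bproj_smul, QB.mem_Dblk_iff.mp hj1 j₂ hne',
        smul_zero, zero_add]
    have n1 : bproj j₁ (mt Q x *ᵥ binj l y₃) ≠ 0 := by
      rw [e1]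
      exact smul_ne_zero ha0 (aux_bproj_ne_zero hj1 hQ1)
    have n2 : bproj j₂ (mt Q x *ᵥ binj l y₃) ≠ 0 := by
      rw [e2]
      exact smul_ne_zero hb0 (aux_bproj_ne_zero hj2 hQ2)
    have k1 : j₁ = j₃ := by
      by_contra hk
      exact n1 (QB.mem_Dblk_iff.mp hj3 j₁ hk)
    have k2 : j₂ = j₃ := by
      by_contra hk
      exact n2 (QB.mem_Dblk_iff.mp hj3 j₂ hk)
    exact hne (k1.trans k2.symm)
  subst hj
  refine ⟨j₁, fun y => ?_⟩
  obtain ⟨a', b', hy⟩ := aux_span2 d12 y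
  rw [hy, QB.binj_add, QB.binj_smul, QB.binj_smul, Matrix.mulVec_add, Matrix.mulVec_smul,
    Matrix.mulVec_smul]
  exact Submodule.add_mem _ (Submodule.smul_mem _ _ hj1) (Submodule.smul_mem _ _ hj2)

end A.CLS

/-- A-CLS (M; port of helper22's `CLS.main` / `CLS.block` / `THREE.main` with nonsingularity made explicit): an isometry mapping every
nonsingular block vector of one square class to a block vector permutes the blocks.  Three pairwise independent vectors of norm `c` in the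
binary space: `e + c • f`, `s • e + (c / s) • f`, … (`(q-1)/2 ≥ 3` class points; `7 ≤ card F`); `STAB.of_forall'`. -/
theorem A.CLS (bp : BP Q q e f) (hq : 7 ≤ Fintype.card F) (x : OG Q) {c : F} (hc : c ≠ 0)
    (h : ∀ (l : Fin t) (y : Fin 2 → F), q y ≠ 0 → IsSquare (q y * c) → IsBlk (mt Q x *ᵥ binj l y)) :
    StabD Q x := by
  exact A.CLS.aux_of_forall' x (fun l => A.CLS.aux_block bp hq x hc h l)

end Cfsg.Agent.K2P
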