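import Cfsg.Agent.Helper29.OC2K.Main
import Cfsg.Agent.Helper17.OC2KC2Defs
import Cfsg.Agent.Helper17.OC2KC2PM

set_option autoImplicit false
set_option linter.unusedSectionVars false
set_option linter.unusedVariables false

/-! # OC2K chapter CHAR2, Part B, piece GEOPAIR: two vectors of a block, both perpendicular to a given
singular vector `x` and not perpendicular to each other. -/

namespace Cfsg.Agent.OC2K

open Matrix Cfsg.Agent.Helper28.Sg Cfsg.Agent.Helper28.Spin Cfsg.Agent.Helper12.OrthGen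
  Cfsg.Agent.S2614 Cfsg.Agent.S5683P Cfsg.Agent.Helper28.NDM

variable {F : Type*} [Field F] [Fintype F] {t k : ℕ} {ι : Type} [Fintype ι] [DecidableEq ι] {Q : QuadraticForm F (ι → F)} [QHyp Q] {D : Fin t → Submodule F (ι → F)}
  {M : Subgroup (OGq Q)}

/-- GEOPAIR (S-M): `W = {z ∈ D c | B x z = 0}` has `finrank ≥ k - 1 ≥ 3`; if `B` vanished on `W × W` then `W ≤ W^⊥ ∩ D c`, which has
`finrank = k - finrank W ≤ 1` in the nondegenerate `D c`. -/
theorem C2.GEOPAIR.main (hD : HD Q k D) (hk : 4 ≤ k) {c : Fin t} {x : ι → F} (hx : x ∈ D c) (hx0 : x ≠ 0)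
    (hQx : Q x = 0) :
    ∃ w ∈ D c, ∃ w' ∈ D c, B (Q) x w = 0 ∧ B (Q) x w' = 0 ∧ B (Q) w w' ≠ 0 := by
  classical
  let Bc : LinearMap.BilinForm F (D c) :=
    LinearMap.BilinForm.restrict (QuadraticMap.polarBilin Q) (D c)
  have hBc : ∀ u v : D c, Bc u v = B Q (u : ι → F) (v : ι → F) := fun u v => rfl
  have hfin : Module.finrank F (D c) = k := hD.rank c
  let f : (D c) →ₗ[F] F := Bc ⟨x, hx⟩
  have hWmem : ∀ z : D c, z ∈ LinearMap.ker f ↔ B Q x (z : ι → F) = 0 := by
    intro z
    rw [LinearMap.mem_ker]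
    show Bc ⟨x, hx⟩ z = 0 ↔ _
    rw [hBc]
  have hWdim : k ≤ Module.finrank F (LinearMap.ker f) + 1 := by
    have h1 := LinearMap.finrank_range_add_finrank_ker f
    have h2 : Module.finrank F (LinearMap.range f) ≤ 1 := by
      have := Submodule.finrank_le (LinearMap.range f)
      rw [Module.finrank_self] at this
      exact this
    rw [hfin] at h1
    omega
  by_contra hcon
  push Not at hcon
  have hle : LinearMap.ker f ≤ Bc.orthogonal (LinearMap.ker f) := by
    intro z hz
    rw [LinearMap.BilinForm.mem_orthogonal_iff]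
    intro n hn
    exact hcon n n.2 z z.2 ((hWmem n).mp hn) ((hWmem z).mp hz)
  have hker : LinearMap.ker Bc = ⊥ := by
    rw [LinearMap.ker_eq_bot']
    intro u hu
    by_contra hu0
    have hu0' : (u : ι → F) ≠ 0 := fun h => hu0 (Subtype.ext h)
    obtain ⟨y, hy, hne⟩ := hD.nd c u u.2 hu0'
    apply hne
    have : Bc u ⟨y, hy⟩ = 0 := by rw [hu]; rfl
    exact this
  have hsum := LinearMap.BilinForm.finrank_add_finrank_orthogonal' (B := Bc) (LinearMap.ker f)
  rw [hker, inf_bot_eq, finrank_bot, add_zero, hfin] at hsum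
  have h3 := Submodule.finrank_mono hle
  omega

end Cfsg.Agent.OC2K
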