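import Mathlib
import Cfsg.Prelude.Def_LieExceptional
import Cfsg.Agent.Helper4.Zassenhaus
import Cfsg.Agent.Helper5.Zassenhaus

/-!
# Involutions in Zassenhaus groups whose two-point stabilizers have odd order and are inverted
-/

set_option autoImplicit false

namespace Cfsg.Agent.Helper20.Zass

open Cfsg MulAction

section Basic

variable {G Ω : Type*} [Group G] [MulAction G Ω]

/-- An element of order two squares to one. -/
theorem mul_self_of_orderOf_two {x : G} (hx : orderOf x = 2) : x * x = 1 := by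
  have := pow_orderOf_eq_one x
  rwa [hx, pow_two] at this

theorem inv_of_orderOf_two {x : G} (hx : orderOf x = 2) : x⁻¹ = x :=
  inv_eq_of_mul_eq_one_left (mul_self_of_orderOf_two hx)

/-- In a group of odd order every element is a square of an element of the same subgroup. -/
theorem exists_sq_eq_of_odd [Finite G] (E : Subgroup G) (hodd : Odd (Nat.card E)) (y : G)
    (hy : y ∈ E) : ∃ z ∈ E, z * z = y := by
  obtain ⟨k, hk⟩ := hodd
  refine ⟨y ^ (k + 1), E.pow_mem hy _, ?_⟩
  rw [← pow_add]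
  have h1 : y ^ Nat.card E = 1 := by
    have := pow_card_eq_one' (G := E) (x := ⟨y, hy⟩)
    exact congrArg Subtype.val this
  have : k + 1 + (k + 1) = Nat.card E + 1 := by omega
  rw [this, pow_succ, h1, one_mul]

variable {a b : Ω}

/-- The involutions swapping `a` and `b` are exactly the elements `s₀ y` with `y` in the
two-point stabilizer, and they are all conjugate to `s₀`. -/
theorem swap_involution_iff [Finite G] (hab : a ≠ b)
    (hinv : ∀ s : G, s • a = b → s • b = a → ∀ x ∈ stabilizer G a ⊓ stabilizer G b,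
      s * x * s⁻¹ = x⁻¹)
    (s₀ : G) (hs₀ : orderOf s₀ = 2) (h1 : s₀ • a = b) (h2 : s₀ • b = a) (x : G) :
    (orderOf x = 2 ∧ x • a = b ∧ x • b = a) ↔ ∃ y ∈ stabilizer G a ⊓ stabilizer G b,
      x = s₀ * y := by
  have hs2 := mul_self_of_orderOf_two hs₀
  have hsinv := inv_of_orderOf_two hs₀
  constructor
  · rintro ⟨hx, hxa, hxb⟩
    refine ⟨s₀⁻¹ * x, ?_, by rw [mul_inv_cancel_left]⟩
    rw [Subgroup.mem_inf, mem_stabilizer_iff, mem_stabilizer_iff, mul_smul, mul_smul, hxa, hxb,
      hsinv]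
    exact ⟨h2, h1⟩
  · rintro ⟨y, hy, rfl⟩
    have hy' := hy
    rw [Subgroup.mem_inf, mem_stabilizer_iff, mem_stabilizer_iff] at hy'
    refine ⟨?_, by rw [mul_smul, hy'.1, h1], by rw [mul_smul, hy'.2, h2]⟩
    have hsq : (s₀ * y) * (s₀ * y) = 1 := by
      have := hinv s₀ h1 h2 y hy
      rw [hsinv] at this
      calc (s₀ * y) * (s₀ * y) = (s₀ * y * s₀) * y := by group
        _ = 1 := by rw [this, inv_mul_cancel]
    have hne : s₀ * y ≠ 1 := by
      intro h
      have : (s₀ * y) • a = a := by rw [h, one_smul]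
      rw [mul_smul, hy'.1, h1] at this
      exact hab this.symm
    exact orderOf_eq_prime (by rw [pow_two]; exact hsq) hne

/-- All involutions swapping `a` and `b` are conjugate. -/
theorem swap_involution_isConj [Finite G] (hab : a ≠ b)
    (hodd : Odd (Nat.card ↥(stabilizer G a ⊓ stabilizer G b)))
    (hinv : ∀ s : G, s • a = b → s • b = a → ∀ x ∈ stabilizer G a ⊓ stabilizer G b,
      s * x * s⁻¹ = x⁻¹)
    (s₀ : G) (hs₀ : orderOf s₀ = 2) (h1 : s₀ • a = b) (h2 : s₀ • b = a) (x : G)
    (hx : orderOf x = 2) (hxa : x • a = b) (hxb : x • b = a) : IsConj s₀ x := by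
  obtain ⟨y, hy, rfl⟩ := (swap_involution_iff hab hinv s₀ hs₀ h1 h2 x).1 ⟨hx, hxa, hxb⟩
  obtain ⟨z, hz, hzz⟩ := exists_sq_eq_of_odd _ hodd y⁻¹ (Subgroup.inv_mem _ hy)
  have hsinv := inv_of_orderOf_two hs₀
  have hs2 := mul_self_of_orderOf_two hs₀
  have hzinv := hinv s₀ h1 h2 z hz
  rw [hsinv] at hzinv
  rw [isConj_iff]
  refine ⟨z, ?_⟩
  have hy2 : y = z⁻¹ * z⁻¹ := by
    have : y⁻¹ = z * z := hzz.symm
    calc y = (y⁻¹)⁻¹ := (inv_inv y).symm
      _ = z⁻¹ * z⁻¹ := by rw [this, mul_inv_rev]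
  have h3 : s₀ * z⁻¹ = z * s₀ := by
    have : s₀ * z⁻¹ * s₀ = z := by
      have h4 : (s₀ * z * s₀)⁻¹ = (z⁻¹)⁻¹ := by rw [hzinv]
      rw [mul_inv_rev, mul_inv_rev, hsinv, inv_inv, ← mul_assoc] at h4
      exact h4
    calc s₀ * z⁻¹ = s₀ * z⁻¹ * (s₀ * s₀) := by rw [hs2, mul_one]
      _ = (s₀ * z⁻¹ * s₀) * s₀ := by group
      _ = z * s₀ := by rw [this]
  rw [hy2, ← mul_assoc, h3]

/-- The number of involutions swapping `a` and `b` is the order of the two-point stabilizer. -/
theorem card_swap_involutions [Finite G] (hab : a ≠ b)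
    (hinv : ∀ s : G, s • a = b → s • b = a → ∀ x ∈ stabilizer G a ⊓ stabilizer G b,
      s * x * s⁻¹ = x⁻¹)
    (s₀ : G) (hs₀ : orderOf s₀ = 2) (h1 : s₀ • a = b) (h2 : s₀ • b = a) :
    Nat.card {x : G // orderOf x = 2 ∧ x • a = b ∧ x • b = a} =
      Nat.card ↥(stabilizer G a ⊓ stabilizer G b) := by
  symm
  apply Nat.card_congr
  refine
    { toFun := fun y => ⟨s₀ * y, (swap_involution_iff hab hinv s₀ hs₀ h1 h2 _).2 ⟨y, y.2, rfl⟩⟩
      invFun := fun x => ⟨s₀⁻¹ * x, ?_⟩
      left_inv := ?_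
      right_inv := ?_ }
  · obtain ⟨y, hy, hxy⟩ := (swap_involution_iff hab hinv s₀ hs₀ h1 h2 _).1 x.2
    rw [hxy, inv_mul_cancel_left]
    exact hy
  · intro y
    apply Subtype.ext
    simp
  · intro x
    apply Subtype.ext
    simp

end Basic

section General

variable {G Ω : Type*} [Group G] [MulAction G Ω] {a b : Ω}

/-- Conjugation transports the involutions swapping `c, d` to those swapping `a, b`. -/
theorem card_swap_involutions_conj (g : G) (c d : Ω) (hc : g • c = a) (hd : g • d = b) :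
    Nat.card {x : G // orderOf x = 2 ∧ x • c = d ∧ x • d = c} =
      Nat.card {x : G // orderOf x = 2 ∧ x • a = b ∧ x • b = a} := by
  apply Nat.card_congr
  refine
    { toFun := fun x => ⟨g * x * g⁻¹, ?_, ?_, ?_⟩
      invFun := fun x => ⟨g⁻¹ * x * g, ?_, ?_, ?_⟩
      left_inv := ?_
      right_inv := ?_ }
  · have : g * (x : G) * g⁻¹ = MulAut.conj g x := by simp [MulAut.conj_apply]
    rw [this, MulEquiv.orderOf_eq]
    exact x.2.1
  · rw [mul_smul, mul_smul, ← hc, inv_smul_smul, x.2.2.1, hd]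
  · rw [mul_smul, mul_smul, ← hd, inv_smul_smul, x.2.2.2, hc]
  · have : g⁻¹ * (x : G) * g = MulAut.conj g⁻¹ x := by simp [MulAut.conj_apply]
    rw [this, MulEquiv.orderOf_eq]
    exact x.2.1
  · rw [mul_smul, mul_smul, hc, x.2.2.1, ← hd, inv_smul_smul]
  · rw [mul_smul, mul_smul, hd, x.2.2.2, ← hc, inv_smul_smul]
  · intro x
    apply Subtype.ext
    simp only
    group
  · intro x
    apply Subtype.ext
    simp only
    group

end General

section Count

variable {G Ω : Type*} [Group G] [MulAction G Ω] {a b : Ω}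

/-- With two-point stabilizers of odd order, an involution fixes one point (odd degree) or
none (even degree). -/
theorem card_fixedBy_involution [Finite G] [Fintype Ω] (hZ : IsZassenhausGroup G Ω) (hab : a ≠ b)
    (hodd : Odd (Nat.card ↥(stabilizer G a ⊓ stabilizer G b))) (x : G) (hx : orderOf x = 2) :
    Nat.card (fixedBy Ω x) = if Odd (Fintype.card Ω) then 1 else 0 := by
  classical
  have hx1 : x ≠ 1 := by
    intro e; rw [e, orderOf_one] at hx; omega
  have hle := Cfsg.Agent.Helper4.zassenhaus_card_fixedBy_le_two hZ x hx1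
  have hmod := Cfsg.Agent.Helper4.card_modEq_card_fixedBy_of_orderOf_two (Ω := Ω) x hx
  rw [Nat.card_eq_fintype_card] at hmod
  have hmod' : Fintype.card Ω % 2 = Nat.card (fixedBy Ω x) % 2 := hmod
  have hne2 : Nat.card (fixedBy Ω x) ≠ 2 := by
    intro h2
    rw [Nat.card_coe_set_eq, Set.ncard_eq_two] at h2
    obtain ⟨c, d, hcd, hset⟩ := h2
    have hc : x • c = c := by
      have : c ∈ fixedBy Ω x := by rw [hset]; simp
      exact this
    have hd : x • d = d := by
      have : d ∈ fixedBy Ω x := by rw [hset]; simp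
      exact this
    obtain ⟨t, htc, htd⟩ := Cfsg.Agent.Helper5.Zassenhaus.two_trans hZ hcd hab
    have hmem : t * x * t⁻¹ ∈ stabilizer G a ⊓ stabilizer G b := by
      rw [Subgroup.mem_inf, mem_stabilizer_iff, mem_stabilizer_iff]
      constructor
      · rw [mul_smul, mul_smul, ← htc, inv_smul_smul, hc]
      · rw [mul_smul, mul_smul, ← htd, inv_smul_smul, hd]
    have hord : orderOf (t * x * t⁻¹) = 2 := by
      have : t * x * t⁻¹ = MulAut.conj t x := by simp [MulAut.conj_apply]
      rw [this, MulEquiv.orderOf_eq]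
      exact hx
    have hdvd : 2 ∣ Nat.card ↥(stabilizer G a ⊓ stabilizer G b) := by
      have h := orderOf_dvd_natCard (⟨t * x * t⁻¹, hmem⟩ : ↥(stabilizer G a ⊓ stabilizer G b))
      rw [← Subgroup.orderOf_coe] at h
      rw [← hord]
      exact h
    exact (Nat.not_even_iff_odd.mpr hodd) (even_iff_two_dvd.mpr hdvd)
  by_cases hn : Odd (Fintype.card Ω)
  · rw [if_pos hn]
    have := Nat.odd_iff.mp hn
    omega
  · rw [if_neg hn]
    have := Nat.even_iff.mp (Nat.not_odd_iff_even.mp hn)
    omega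

/-- The number of involutions mapping `c` to `d ≠ c`. -/
theorem card_involutions_map [Finite G] [Fintype Ω] (hZ : IsZassenhausGroup G Ω) (hab : a ≠ b)
    (hinv : ∀ s : G, s • a = b → s • b = a → ∀ x ∈ stabilizer G a ⊓ stabilizer G b,
      s * x * s⁻¹ = x⁻¹) (c d : Ω) (hcd : c ≠ d) :
    Nat.card {x : G // orderOf x = 2 ∧ x • c = d} =
      Nat.card ↥(stabilizer G a ⊓ stabilizer G b) := by
  obtain ⟨⟨s₀, hs₀, h1, h2⟩, -, -⟩ := Cfsg.Agent.Helper4.zassenhaus_involutions hZ hab
  obtain ⟨g, hgc, hgd⟩ := Cfsg.Agent.Helper5.Zassenhaus.two_trans hZ hcd hab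
  rw [← card_swap_involutions hab hinv s₀ hs₀ h1 h2, ← card_swap_involutions_conj g c d hgc hgd]
  apply Nat.card_congr
  refine Equiv.subtypeEquivRight ?_
  intro x
  constructor
  · rintro ⟨hx, hxc⟩
    refine ⟨hx, hxc, ?_⟩
    rw [← hxc, ← mul_smul, mul_self_of_orderOf_two hx, one_smul]
  · rintro ⟨hx, hxc, -⟩
    exact ⟨hx, hxc⟩

/-- Double counting of involutions against the points they move. -/
theorem card_involutions_mul [Finite G] [Fintype Ω] (hZ : IsZassenhausGroup G Ω) (hab : a ≠ b)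
    (hodd : Odd (Nat.card ↥(stabilizer G a ⊓ stabilizer G b)))
    (hinv : ∀ s : G, s • a = b → s • b = a → ∀ x ∈ stabilizer G a ⊓ stabilizer G b,
      s * x * s⁻¹ = x⁻¹) :
    Nat.card {x : G // orderOf x = 2} *
        (Fintype.card Ω - (if Odd (Fintype.card Ω) then 1 else 0)) =
      Fintype.card Ω * ((Fintype.card Ω - 1) *
        Nat.card ↥(stabilizer G a ⊓ stabilizer G b)) := by
  classical
  haveI : Fintype G := Fintype.ofFinite G
  set e := Nat.card ↥(stabilizer G a ⊓ stabilizer G b) with he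
  set I : Finset G := Finset.univ.filter (fun x => orderOf x = 2) with hI
  have hIcard : Nat.card {x : G // orderOf x = 2} = I.card := by
    rw [Nat.card_eq_fintype_card, Fintype.card_subtype]
  let r : G → Ω → Prop := fun x c => x • c ≠ c
  have dc := Finset.sum_card_bipartiteAbove_eq_sum_card_bipartiteBelow (s := I)
    (t := (Finset.univ : Finset Ω)) r
  have hL : ∀ x ∈ I, ((Finset.univ : Finset Ω).bipartiteAbove r x).card =
      Fintype.card Ω - (if Odd (Fintype.card Ω) then 1 else 0) := by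
    intro x hx
    have hx2 : orderOf x = 2 := (Finset.mem_filter.mp hx).2
    have h1 := card_fixedBy_involution hZ hab hodd x hx2
    have h2 : Nat.card (fixedBy Ω x) = (Finset.univ.filter (fun c : Ω => x • c = c)).card := by
      rw [Nat.card_eq_fintype_card, Fintype.card_subtype]
      rfl
    have h3 := Finset.card_filter_add_card_filter_not (s := (Finset.univ : Finset Ω))
      (fun c : Ω => x • c = c)
    rw [Finset.card_univ] at h3
    have h4 : ((Finset.univ : Finset Ω).bipartiteAbove r x) =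
        Finset.univ.filter (fun c : Ω => ¬ x • c = c) := rfl
    rw [h4]
    omega
  have hR : ∀ c ∈ (Finset.univ : Finset Ω), (I.bipartiteBelow r c).card =
      (Fintype.card Ω - 1) * e := by
    intro c _
    have h1 : I.bipartiteBelow r c = I.filter (fun x => x • c ≠ c) := rfl
    rw [h1]
    have hmaps : ∀ x ∈ I.filter (fun x => x • c ≠ c), x • c ∈ (Finset.univ : Finset Ω).erase c := by
      intro x hx
      exact Finset.mem_erase.mpr ⟨(Finset.mem_filter.mp hx).2, Finset.mem_univ _⟩
    rw [Finset.card_eq_sum_card_fiberwise hmaps]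
    have hfib : ∀ d ∈ (Finset.univ : Finset Ω).erase c,
        ((I.filter (fun x => x • c ≠ c)).filter (fun x => x • c = d)).card = e := by
      intro d hd
      have hdc : d ≠ c := (Finset.mem_erase.mp hd).1
      rw [he, ← card_involutions_map hZ hab hinv c d (Ne.symm hdc), Nat.card_eq_fintype_card,
        Fintype.card_subtype]
      congr 1
      ext x
      simp only [Finset.mem_filter, Finset.mem_univ, true_and, hI]
      constructor
      · rintro ⟨⟨hx, -⟩, hxd⟩
        exact ⟨hx, hxd⟩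
      · rintro ⟨hx, hxd⟩
        exact ⟨⟨hx, by rw [hxd]; exact hdc⟩, hxd⟩
    rw [Finset.sum_congr rfl hfib, Finset.sum_const, Finset.card_erase_of_mem (Finset.mem_univ _),
      Finset.card_univ, smul_eq_mul]
  rw [Finset.sum_congr rfl hL, Finset.sum_congr rfl hR, Finset.sum_const, Finset.sum_const,
    smul_eq_mul, smul_eq_mul, Finset.card_univ] at dc
  rw [hIcard]
  exact dc

/-- A non-identity element moves some point. -/
theorem exists_moved (hZ : IsZassenhausGroup G Ω) (g : G) (hg : g ≠ 1) : ∃ c : Ω, g • c ≠ c := by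
  by_contra hcon
  push Not at hcon
  apply hg
  apply hZ.1.eq_of_smul_eq_smul
  intro x
  rw [hcon x, one_smul]

/-- All involutions are conjugate, and their number. -/
theorem involutions_main [Finite G] [Fintype Ω] (hZ : IsZassenhausGroup G Ω) (hab : a ≠ b)
    (h e : ℕ) (hh : Fintype.card Ω = h + 1)
    (he : Nat.card ↥(stabilizer G a ⊓ stabilizer G b) = e) (hodd : Odd e)
    (hinv : ∀ s : G, s • a = b → s • b = a → ∀ x ∈ stabilizer G a ⊓ stabilizer G b,
      s * x * s⁻¹ = x⁻¹) :
    (∀ x y : G, orderOf x = 2 → orderOf y = 2 → IsConj x y) ∧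
      Nat.card {x : G // orderOf x = 2} = (if Even h then e * (h + 1) else e * h) := by
  classical
  obtain ⟨⟨s₀, hs₀, h1, h2⟩, -, -⟩ := Cfsg.Agent.Helper4.zassenhaus_involutions hZ hab
  have hodd' : Odd (Nat.card ↥(stabilizer G a ⊓ stabilizer G b)) := by rw [he]; exact hodd
  have hconj : ∀ x : G, orderOf x = 2 → IsConj s₀ x := by
    intro x hx
    have hx1 : x ≠ 1 := by
      intro e; rw [e, orderOf_one] at hx; omega
    obtain ⟨c, hc⟩ := exists_moved hZ x hx1
    obtain ⟨g, hg1, hg2, hg3, -, -⟩ :=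
      Cfsg.Agent.Helper4.exists_involution_swapping hZ.2.1 x hx c hc hab
    have h3 := swap_involution_isConj hab hodd' hinv s₀ hs₀ h1 h2 _ hg1 hg2 hg3
    have h4 : IsConj x (g * x * g⁻¹) := isConj_iff.mpr ⟨g, rfl⟩
    exact h3.trans h4.symm
  refine ⟨fun x y hx hy => (hconj x hx).symm.trans (hconj y hy), ?_⟩
  have hmul := card_involutions_mul hZ hab hodd' hinv
  rw [he, hh] at hmul
  have h3 := Cfsg.Agent.Helper5.Zassenhaus.exists_third hZ hab
  have hn3 : 2 ≤ h := by
    obtain ⟨c, hca, hcb⟩ := h3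
    have : 2 < Fintype.card Ω := by
      rw [Fintype.two_lt_card_iff]
      exact ⟨a, b, c, hab, Ne.symm hca, Ne.symm hcb⟩
    omega
  by_cases hev : Even h
  · rw [if_pos hev]
    have hodd1 : Odd (h + 1) := Even.add_one hev
    rw [if_pos hodd1, Nat.add_sub_cancel] at hmul
    have : Nat.card {x : G // orderOf x = 2} * h = (e * (h + 1)) * h := by
      rw [hmul]; ring
    exact Nat.eq_of_mul_eq_mul_right (by omega) this
  · rw [if_neg hev]
    have hnodd : ¬ Odd (h + 1) := by
      intro h'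
      apply hev
      have := Nat.odd_add_one.mp h'
      exact Nat.not_odd_iff_even.mp this
    rw [if_neg hnodd, Nat.sub_zero, Nat.add_sub_cancel] at hmul
    have : Nat.card {x : G // orderOf x = 2} * (h + 1) = (e * h) * (h + 1) := by
      rw [hmul]; ring
    exact Nat.eq_of_mul_eq_mul_right (by omega) this

end Count

end Cfsg.Agent.Helper20.Zass
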