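import Mathlib
import Cfsg.Prelude.Def_LieExceptional
import Cfsg.Agent.Helper20.ZassA
import Cfsg.Agent.Helper5.Zassenhaus2

/-!
# The Frobenius kernel of a point stabilizer in a Zassenhaus group; products of involutions
-/

set_option autoImplicit false

namespace Cfsg.Agent.Helper20.Zass

open Cfsg MulAction

section Kernel

variable {G Ω : Type*} [Group G] [MulAction G Ω] {a b : Ω}

/-- The subgroup `H` is exactly the set of elements of the stabilizer of `a` which are trivial or
fix only `a`. -/
theorem mem_kernel_iff [Finite G] [Fintype Ω] (hZ : IsZassenhausGroup G Ω) (a : Ω)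
    (H : Subgroup G) (hHa : H ≤ stabilizer G a) (hHcard : Nat.card H + 1 = Fintype.card Ω)
    (hHfix : ∀ u ∈ H, u ≠ 1 → ∀ c : Ω, u • c = c → c = a) (g : G) (hg : g • a = a) :
    g ∈ H ↔ (g = 1 ∨ ∀ c : Ω, g • c = c → c = a) := by
  constructor
  · intro hgH
    by_cases h1 : g = 1
    · exact Or.inl h1
    · exact Or.inr (hHfix g hgH h1)
  · intro hK
    let f : H → {g : stabilizer G a // g = 1 ∨ ∀ c : Ω, (g : G) • c = c → c = a} :=
      fun u => ⟨⟨u, hHa u.2⟩, by
        by_cases h1 : (u : G) = 1
        · exact Or.inl (Subtype.ext h1)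
        · exact Or.inr (hHfix u u.2 h1)⟩
    have hf : Function.Injective f := by
      intro u v huv
      have := congrArg (fun w : {g : stabilizer G a // g = 1 ∨ ∀ c : Ω, (g : G) • c = c → c = a} =>
        ((w : stabilizer G a) : G)) huv
      exact Subtype.ext this
    have hc := Cfsg.Agent.Helper5.Zassenhaus.card_kernel_set hZ a
    have hbij := hf.bijective_of_nat_card_le (by omega)
    have hmem : (⟨⟨g, hg⟩, by
        rcases hK with h | h
        · exact Or.inl (Subtype.ext h)
        · exact Or.inr h⟩ :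
        {g : stabilizer G a // g = 1 ∨ ∀ c : Ω, (g : G) • c = c → c = a}) ∈ Set.range f :=
      hbij.2 _
    obtain ⟨u, hu⟩ := hmem
    have := congrArg (fun w : {g : stabilizer G a // g = 1 ∨ ∀ c : Ω, (g : G) • c = c → c = a} =>
        ((w : stabilizer G a) : G)) hu
    simp only [f] at this
    rw [← this]
    exact u.2

end Kernel

section FixCount

variable {G Ω : Type*} [Group G] [MulAction G Ω] {a b : Ω}

/-- Conjugation transports the involutions fixing `c` to those fixing `a`. -/
theorem card_fix_involutions_conj (g : G) (c : Ω) (hc : g • c = a) :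
    Nat.card {x : G // orderOf x = 2 ∧ x • c = c} =
      Nat.card {x : G // orderOf x = 2 ∧ x • a = a} := by
  apply Nat.card_congr
  refine
    { toFun := fun x => ⟨g * x * g⁻¹, ?_, ?_⟩
      invFun := fun x => ⟨g⁻¹ * x * g, ?_, ?_⟩
      left_inv := ?_
      right_inv := ?_ }
  · have : g * (x : G) * g⁻¹ = MulAut.conj g x := by simp
    rw [this, MulEquiv.orderOf_eq]
    exact x.2.1
  · rw [mul_smul, mul_smul, ← hc, inv_smul_smul, x.2.2]
  · have : g⁻¹ * (x : G) * g = MulAut.conj g⁻¹ x := by simp
    rw [this, MulEquiv.orderOf_eq]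
    exact x.2.1
  · rw [mul_smul, mul_smul, hc, x.2.2, ← hc, inv_smul_smul]
  · intro x
    apply Subtype.ext
    simp only
    group
  · intro x
    apply Subtype.ext
    simp only
    group

/-- In odd degree, the number of involutions fixing `a` is the order of the two-point
stabilizer. -/
theorem card_involutions_fixing [Finite G] [Fintype Ω] (hZ : IsZassenhausGroup G Ω) (hab : a ≠ b)
    (hodd : Odd (Nat.card ↥(stabilizer G a ⊓ stabilizer G b)))
    (hinv : ∀ s : G, s • a = b → s • b = a → ∀ x ∈ stabilizer G a ⊓ stabilizer G b,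
      s * x * s⁻¹ = x⁻¹) (hn : Odd (Fintype.card Ω)) :
    Nat.card {x : G // orderOf x = 2 ∧ x • a = a} =
      Nat.card ↥(stabilizer G a ⊓ stabilizer G b) := by
  classical
  haveI : Fintype G := Fintype.ofFinite G
  haveI := Cfsg.Agent.Helper5.Zassenhaus.isPretransitive_of_zassenhaus hZ
  set e := Nat.card ↥(stabilizer G a ⊓ stabilizer G b) with he
  set I : Finset G := Finset.univ.filter (fun x => orderOf x = 2) with hI
  have hIcard : Nat.card {x : G // orderOf x = 2} = I.card := by
    rw [Nat.card_eq_fintype_card, Fintype.card_subtype]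
  let r : G → Ω → Prop := fun x c => x • c = c
  have dc := Finset.sum_card_bipartiteAbove_eq_sum_card_bipartiteBelow (s := I)
    (t := (Finset.univ : Finset Ω)) r
  have hL : ∀ x ∈ I, ((Finset.univ : Finset Ω).bipartiteAbove r x).card = 1 := by
    intro x hx
    have hx2 : orderOf x = 2 := (Finset.mem_filter.mp hx).2
    have h1 := card_fixedBy_involution hZ hab hodd x hx2
    rw [if_pos hn] at h1
    have h2 : Nat.card (fixedBy Ω x) = (Finset.univ.filter (fun c : Ω => x • c = c)).card := by
      rw [Nat.card_eq_fintype_card, Fintype.card_subtype]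
      rfl
    rw [← h1, h2]
    rfl
  have hR : ∀ c ∈ (Finset.univ : Finset Ω), (I.bipartiteBelow r c).card =
      Nat.card {x : G // orderOf x = 2 ∧ x • a = a} := by
    intro c _
    obtain ⟨g, hg⟩ := exists_smul_eq G c a
    rw [← card_fix_involutions_conj g c hg, Nat.card_eq_fintype_card, Fintype.card_subtype]
    congr 1
    ext x
    simp [Finset.bipartiteBelow, hI, r]
  rw [Finset.sum_congr rfl hL, Finset.sum_congr rfl hR, Finset.sum_const, Finset.sum_const,
    smul_eq_mul, smul_eq_mul, Finset.card_univ, mul_one] at dc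
  -- the total number of involutions
  obtain ⟨h, hh⟩ : ∃ h, Fintype.card Ω = h + 1 := by
    have := Cfsg.Agent.Helper5.Zassenhaus.three_le_card hZ
    exact ⟨Fintype.card Ω - 1, by omega⟩
  have hmain := (involutions_main hZ hab h e hh rfl hodd hinv).2
  have hev : Even h := by
    rw [hh] at hn
    have := Nat.odd_add_one.mp hn
    exact Nat.not_odd_iff_even.mp this
  rw [if_pos hev, hIcard, dc, hh] at hmain
  have : (h + 1) * Nat.card {x : G // orderOf x = 2 ∧ x • a = a} = (h + 1) * e := by
    rw [hmain]; ring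
  exact Nat.eq_of_mul_eq_mul_left (by omega) this

end FixCount

section Product

variable {G Ω : Type*} [Group G] [MulAction G Ω] {a b : Ω}

/-- A non-identity element of the kernel which is a product of two involutions is an
involution. -/
theorem orderOf_prod_involutions [Finite G] [Fintype Ω] (hZ : IsZassenhausGroup G Ω) (hab : a ≠ b)
    (hodd : Odd (Nat.card ↥(stabilizer G a ⊓ stabilizer G b)))
    (hinv : ∀ s : G, s • a = b → s • b = a → ∀ x ∈ stabilizer G a ⊓ stabilizer G b,
      s * x * s⁻¹ = x⁻¹)
    (H : Subgroup G) (hHa : H ≤ stabilizer G a) (hHcard : Nat.card H + 1 = Fintype.card Ω)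
    (hHfix : ∀ u ∈ H, u ≠ 1 → ∀ c : Ω, u • c = c → c = a)
    (u : G) (hu : u ∈ H) (hu1 : u ≠ 1) (x y : G) (hx : orderOf x = 2) (hy : orderOf y = 2)
    (hxy : x * y = u) : orderOf u = 2 := by
  classical
  have hxx := mul_self_of_orderOf_two hx
  have hyy := mul_self_of_orderOf_two hy
  have hxinv := inv_of_orderOf_two hx
  have hyinv := inv_of_orderOf_two hy
  have hua : u • a = a := hHa hu
  have huinv : u⁻¹ = y * x := by rw [← hxy, mul_inv_rev, hxinv, hyinv]
  have hconj : x * u * x⁻¹ = u⁻¹ := by
    rw [huinv, ← hxy, hxinv]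
    calc x * (x * y) * x = (x * x) * y * x := by group
      _ = y * x := by rw [hxx, one_mul]
  have hxa : x • a = a := by
    have h1 : u⁻¹ • (x • a) = x • a := by
      rw [← hconj, mul_smul, mul_smul, inv_smul_smul, hua]
    exact hHfix u⁻¹ (H.inv_mem hu) (inv_ne_one.mpr hu1) _ h1
  have hya : y • a = a := by
    have : y = x * u := by rw [← hxy, ← mul_assoc, hxx, one_mul]
    rw [this, mul_smul, hua, hxa]
  -- the degree is odd
  have hfx := card_fixedBy_involution hZ hab hodd x hx
  have hfy := card_fixedBy_involution hZ hab hodd y hy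
  have hn : Odd (Fintype.card Ω) := by
    by_contra hn
    rw [if_neg hn, Nat.card_eq_zero] at hfx
    rcases hfx with h | h
    · exact h.false ⟨a, hxa⟩
    · exact h.not_finite inferInstance
  rw [if_pos hn] at hfx hfy
  have honly : ∀ z : G, Nat.card (fixedBy Ω z) = 1 → z • a = a → ∀ c : Ω, z • c = c → c = a := by
    intro z hz hza c hc
    have hsub : Subsingleton (fixedBy Ω z) := (Nat.card_eq_one_iff_unique.mp hz).1
    have := hsub.elim ⟨c, hc⟩ ⟨a, hza⟩
    exact congrArg Subtype.val this
  have hxonly := honly x hfx hxa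
  have hyonly := honly y hfy hya
  have hxH : x ∈ H := (mem_kernel_iff hZ a H hHa hHcard hHfix x hxa).2 (Or.inr hxonly)
  have hyH : y ∈ H := (mem_kernel_iff hZ a H hHa hHcard hHfix y hya).2 (Or.inr hyonly)
  -- centralizing elements of the stabilizer of `a` lie in `H`
  have hcent : ∀ k : G, k • a = a → k * x * k⁻¹ = x → k ∈ H := by
    intro k hka hkx
    rw [mem_kernel_iff hZ a H hHa hHcard hHfix k hka]
    by_contra hcon
    push Not at hcon
    obtain ⟨hk1, c, hkc, hca⟩ := hcon
    have hkx' : k * x = x * k := by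
      have := congrArg (fun w => w * k) hkx
      simpa [mul_assoc] using this
    have hxc : x • c ≠ c := fun h => hca (hxonly c h)
    have hxca : x • c ≠ a := by
      intro h
      apply hca
      have : x • c = x • a := by rw [h, hxa]
      exact MulAction.injective x this
    have hkxc : k • (x • c) = x • c := by rw [← mul_smul, hkx', mul_smul, hkc]
    exact hk1 (Cfsg.Agent.Helper5.Zassenhaus.eq_one_of_fix3 hZ (Ne.symm hca) (Ne.symm hxc)
      (Ne.symm hxca) hka hkc hkxc)
  -- the map from the two-point stabilizer to the involutions fixing `a`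
  let φ : ↥(stabilizer G a ⊓ stabilizer G b) → {z : G // orderOf z = 2 ∧ z • a = a} :=
    fun g => ⟨(g : G) * x * (g : G)⁻¹, by
      have : (g : G) * x * (g : G)⁻¹ = MulAut.conj (g : G) x := by simp
      rw [this, MulEquiv.orderOf_eq]
      exact hx, by
      have hga : (g : G) • a = a := g.2.1
      have hga' : (g : G)⁻¹ • a = a := by rw [inv_smul_eq_iff, hga]
      rw [mul_smul, mul_smul, hga', hxa, hga]⟩
  have hE1 : ∀ g : G, g ∈ stabilizer G a ⊓ stabilizer G b → g ∈ H → g = 1 := by
    intro g hgE hgH
    by_contra hg1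
    exact hab (hHfix g hgH hg1 b hgE.2).symm
  have hφinj : Function.Injective φ := by
    intro g g' hgg
    have h1 : (g : G) * x * (g : G)⁻¹ = (g' : G) * x * (g' : G)⁻¹ := congrArg Subtype.val hgg
    have hk : ((g' : G)⁻¹ * (g : G)) * x * ((g' : G)⁻¹ * (g : G))⁻¹ = x := by
      calc ((g' : G)⁻¹ * (g : G)) * x * ((g' : G)⁻¹ * (g : G))⁻¹
          = (g' : G)⁻¹ * ((g : G) * x * (g : G)⁻¹) * (g' : G) := by group
        _ = x := by rw [h1]; group
    have hmemE : (g' : G)⁻¹ * (g : G) ∈ stabilizer G a ⊓ stabilizer G b :=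
      Subgroup.mul_mem _ (Subgroup.inv_mem _ g'.2) g.2
    have hkH := hcent _ hmemE.1 hk
    have := hE1 _ hmemE hkH
    apply Subtype.ext
    have h2 : (g : G) = (g' : G) * ((g' : G)⁻¹ * (g : G)) := by group
    rw [h2, this, mul_one]
  have hcardI := card_involutions_fixing hZ hab hodd hinv hn
  have hφbij := hφinj.bijective_of_nat_card_le (by rw [hcardI])
  obtain ⟨g, hg⟩ := hφbij.2 ⟨y * x * y⁻¹, by
      have : y * x * y⁻¹ = MulAut.conj y x := by simp
      rw [this, MulEquiv.orderOf_eq]
      exact hx, by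
      have hya' : y⁻¹ • a = a := by rw [inv_smul_eq_iff, hya]
      rw [mul_smul, mul_smul, hya', hxa, hya]⟩
  have hg' : (g : G) * x * (g : G)⁻¹ = y * x * y⁻¹ := congrArg Subtype.val hg
  have hk : ((g : G)⁻¹ * y) * x * ((g : G)⁻¹ * y)⁻¹ = x := by
    calc ((g : G)⁻¹ * y) * x * ((g : G)⁻¹ * y)⁻¹ = (g : G)⁻¹ * (y * x * y⁻¹) * (g : G) := by group
      _ = x := by rw [← hg']; group
  have hka : ((g : G)⁻¹ * y) • a = a := by
    have hga' : (g : G)⁻¹ • a = a := by rw [inv_smul_eq_iff]; exact g.2.1.symm
    rw [mul_smul, hya, hga']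
  have hkH := hcent _ hka hk
  have hgH : (g : G) ∈ H := by
    have : (g : G) = y * ((g : G)⁻¹ * y)⁻¹ := by group
    rw [this]
    exact H.mul_mem hyH (H.inv_mem hkH)
  have hg1 := hE1 _ g.2 hgH
  rw [hg1, one_mul, inv_one, mul_one] at hg'
  have hcomm : y * x = x * y := by
    have := congrArg (fun w => w * y) hg'
    simpa [mul_assoc] using this.symm
  have huu : u * u = 1 := by
    rw [← hxy]
    calc x * y * (x * y) = x * (y * x) * y := by group
      _ = x * (x * y) * y := by rw [hcomm]
      _ = (x * x) * (y * y) := by group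
      _ = 1 := by rw [hxx, hyy, one_mul]
  exact orderOf_eq_prime (by rw [pow_two]; exact huu) hu1

end Product

end Cfsg.Agent.Helper20.Zass
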