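import Mathlib
import Cfsg.Prelude.Def_LieExceptional
import Cfsg.Agent.Helper20.ZassB
import Cfsg.Agent.Helper16.ZassOdd2

/-!
# Simple Zassenhaus groups with two-point stabilizers of odd order: the swapping elements invert
-/

set_option autoImplicit false

namespace Cfsg.Agent.Helper20.Zass

open Cfsg MulAction

section Simple

variable {G Ω : Type*} [Group G] [MulAction G Ω] {a b : Ω}

/-- A simple Zassenhaus group has no normal subgroup of prime power index `q^k` for `q` dividing
the odd order of the two-point stabilizer. -/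
theorem hnil_of_simple [Finite G] [Fintype Ω] [IsSimpleGroup G] (hZ : IsZassenhausGroup G Ω)
    (hab : a ≠ b) (hodd : Odd (Nat.card ↥(stabilizer G a ⊓ stabilizer G b))) :
    ∀ q : ℕ, q.Prime → q ∣ Nat.card ↥(stabilizer G a ⊓ stabilizer G b) →
      ¬ ∃ N : Subgroup G, N.Normal ∧ N.index = q ^ (Nat.card G).factorization q := by
  intro q hq hqd
  rintro ⟨N, hN, hidx⟩
  have hqG : q ∣ Nat.card G := hqd.trans (Subgroup.card_subgroup_dvd_card _)
  have hpos : 0 < (Nat.card G).factorization q :=
    hq.factorization_pos_of_dvd Nat.card_pos.ne' hqG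
  rcases hN.eq_bot_or_eq_top with h | h
  · -- the group would be a `q`-group; but it has even order and `q` is odd
    rw [h, Subgroup.index_bot] at hidx
    obtain ⟨⟨s, hs, -, -⟩, -, -⟩ := Cfsg.Agent.Helper4.zassenhaus_involutions hZ hab
    have h2 : 2 ∣ Nat.card G := by rw [← hs]; exact orderOf_dvd_natCard s
    rw [hidx] at h2
    have h2q : 2 ∣ q := Nat.Prime.dvd_of_dvd_pow Nat.prime_two h2
    have : q = 2 := ((Nat.prime_dvd_prime_iff_eq Nat.prime_two hq).mp h2q).symm
    rw [this] at hqd
    exact (Nat.not_even_iff_odd.mpr hodd) (even_iff_two_dvd.mpr hqd)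
  · rw [h, Subgroup.index_top] at hidx
    have : 1 < q ^ (Nat.card G).factorization q := Nat.one_lt_pow hpos.ne' hq.one_lt
    omega

/-- In a simple Zassenhaus group with two-point stabilizers of odd order, every element swapping
`a` and `b` inverts the two-point stabilizer. -/
theorem hinv_of_simple [Finite G] [Fintype Ω] [IsSimpleGroup G] (hZ : IsZassenhausGroup G Ω)
    (hab : a ≠ b) (hodd : Odd (Nat.card ↥(stabilizer G a ⊓ stabilizer G b))) :
    ∀ s : G, s • a = b → s • b = a → ∀ x ∈ stabilizer G a ⊓ stabilizer G b,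
      s * x * s⁻¹ = x⁻¹ :=
  (Cfsg.Agent.Helper16.ZassOdd.main hZ hab hodd (hnil_of_simple hZ hab hodd)).2.2

end Simple

end Cfsg.Agent.Helper20.Zass
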