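import Mathlib
import Cfsg.Prelude.Def_LieExceptional
import Cfsg.Agent.Helper20.ZassC

/-!
# Simple Zassenhaus groups with odd two-point stabilizers: counting classes that avoid the kernel

We count the pairs of involutions `(x, y)` according to the conjugacy class of the product `x y`.
-/

set_option autoImplicit false

namespace Cfsg.Agent.Helper20.Zass

open Cfsg MulAction

section Pairs

variable {G : Type*} [Group G]

/-- The pairs of involutions whose product lies in a fixed conjugacy class inject into the
group. -/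
theorem card_pairs_class_le [Fintype G] [DecidableEq G] (T : Finset G)
    (hT : ∀ x ∈ T, x * x = 1) (C : ConjClasses G)
    [DecidablePred fun p : G × G => ConjClasses.mk (p.1 * p.2) = C] :
    ((T ×ˢ T).filter (fun p : G × G => ConjClasses.mk (p.1 * p.2) = C)).card ≤
      Fintype.card G := by
  classical
  obtain ⟨g₀, rfl⟩ := ConjClasses.exists_rep C
  have hk : ∀ g : G, ∃ k : G, ConjClasses.mk g = ConjClasses.mk g₀ → k * g₀ * k⁻¹ = g := by
    intro g
    by_cases h : ConjClasses.mk g = ConjClasses.mk g₀
    · rw [ConjClasses.mk_eq_mk_iff_isConj, isConj_comm, isConj_iff] at h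
      obtain ⟨k, hk⟩ := h
      exact ⟨k, fun _ => hk⟩
    · exact ⟨1, fun h' => absurd h' h⟩
  choose k hk using hk
  rw [← Finset.card_univ]
  have key : ∀ p ∈ (T ×ˢ T).filter (fun p : G × G => ConjClasses.mk (p.1 * p.2) =
      ConjClasses.mk g₀),
      (p.1 * k (p.1 * p.2)) * g₀ * (p.1 * k (p.1 * p.2))⁻¹ = (p.1 * p.2)⁻¹ := by
    intro p hp
    rw [Finset.mem_filter, Finset.mem_product] at hp
    obtain ⟨⟨h1, h2⟩, h3⟩ := hp
    have e1 := hT _ h1
    have e2 := hT _ h2
    have i1 : p.1⁻¹ = p.1 := inv_eq_of_mul_eq_one_left e1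
    have i2 : p.2⁻¹ = p.2 := inv_eq_of_mul_eq_one_left e2
    have hk' := hk _ h3
    calc (p.1 * k (p.1 * p.2)) * g₀ * (p.1 * k (p.1 * p.2))⁻¹
        = p.1 * (k (p.1 * p.2) * g₀ * (k (p.1 * p.2))⁻¹) * p.1⁻¹ := by
          rw [mul_inv_rev]; group
      _ = p.1 * (p.1 * p.2) * p.1⁻¹ := by rw [hk']
      _ = (p.1 * p.1) * p.2 * p.1 := by rw [i1]; group
      _ = p.2 * p.1 := by rw [e1, one_mul]
      _ = (p.1 * p.2)⁻¹ := by rw [mul_inv_rev, i1, i2]
  apply Finset.card_le_card_of_injOn (fun p => p.1 * k (p.1 * p.2))
    (fun _ _ => Finset.mem_coe.mpr (Finset.mem_univ _))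
  intro p hp q hq hpq
  have hp' := key p (Finset.mem_coe.mp hp)
  have hq' := key q (Finset.mem_coe.mp hq)
  simp only at hpq
  rw [hpq, hq'] at hp'
  have hg : p.1 * p.2 = q.1 * q.2 := (inv_injective hp').symm
  rw [hg] at hpq
  have h1 : p.1 = q.1 := mul_right_cancel hpq
  have h2 : p.2 = q.2 := by
    rw [h1] at hg
    exact mul_left_cancel hg
  exact Prod.ext h1 h2

end Pairs

section Classes

variable {G Ω : Type*} [Group G] [MulAction G Ω] {a b : Ω}

/-- In odd degree, an involution `g` is a product of two involutions in at most `e - 1` ways. -/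
theorem card_pairs_involution_le [Fintype G] [DecidableEq G] [Fintype Ω]
    (hZ : IsZassenhausGroup G Ω) (hab : a ≠ b)
    (hodd : Odd (Nat.card ↥(stabilizer G a ⊓ stabilizer G b)))
    (hinv : ∀ s : G, s • a = b → s • b = a → ∀ x ∈ stabilizer G a ⊓ stabilizer G b,
      s * x * s⁻¹ = x⁻¹) (hn : Odd (Fintype.card Ω))
    (T : Finset G) (hT : ∀ x, x ∈ T ↔ orderOf x = 2) (g : G) (hg : orderOf g = 2) :
    ((T ×ˢ T).filter (fun p : G × G => p.1 * p.2 = g)).card ≤
      Nat.card ↥(stabilizer G a ⊓ stabilizer G b) - 1 := by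
  classical
  haveI := Cfsg.Agent.Helper5.Zassenhaus.isPretransitive_of_zassenhaus hZ
  have hgg := mul_self_of_orderOf_two hg
  -- the fixed point of `g`
  have hfix := card_fixedBy_involution hZ hab hodd g hg
  rw [if_pos hn, Nat.card_eq_one_iff_unique] at hfix
  obtain ⟨hss, ⟨⟨c, hc⟩⟩⟩ := hfix
  have hc' : g • c = c := hc
  have huniq : ∀ d : Ω, g • d = d → d = c := by
    intro d hd
    have := hss.elim (⟨d, hd⟩ : fixedBy Ω g) ⟨c, hc⟩
    exact congrArg Subtype.val this
  -- the involutions fixing `c`
  set F : Finset G := Finset.univ.filter (fun x => orderOf x = 2 ∧ x • c = c) with hF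
  have hFcard : F.card = Nat.card ↥(stabilizer G a ⊓ stabilizer G b) := by
    obtain ⟨k, hk⟩ := MulAction.exists_smul_eq G c a
    have h1 := card_fix_involutions_conj (G := G) (a := a) k c hk
    have h2 := card_involutions_fixing hZ hab hodd hinv hn
    rw [← h2, ← h1, Nat.card_eq_fintype_card, Fintype.card_subtype]
  have hgF : g ∈ F := by
    rw [hF, Finset.mem_filter]
    exact ⟨Finset.mem_univ _, hg, hc'⟩
  rw [← hFcard, ← Finset.card_erase_of_mem hgF]
  apply Finset.card_le_card_of_injOn (fun p => p.1)
  · intro p hp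
    rw [Finset.mem_coe, Finset.mem_filter, Finset.mem_product] at hp
    obtain ⟨⟨h1, h2⟩, h3⟩ := hp
    have o1 := (hT _).mp h1
    have o2 := (hT _).mp h2
    have e1 := mul_self_of_orderOf_two o1
    have e2 := mul_self_of_orderOf_two o2
    rw [Finset.mem_coe, Finset.mem_erase, hF, Finset.mem_filter]
    refine ⟨?_, Finset.mem_univ _, o1, ?_⟩
    · intro hEq
      have hEq' : p.1 = g := hEq
      have : p.2 = 1 := by
        have h4 : g * p.2 = g * 1 := by
          calc g * p.2 = p.1 * p.2 := by rw [hEq']
            _ = g := h3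
            _ = g * 1 := (mul_one g).symm
        exact mul_left_cancel h4
      rw [this, orderOf_one] at o2
      omega
    · -- `p.1` commutes with `g`
      have hcomm : g * p.1 = p.1 * g := by
        have h5 : p.1 * g = p.2 := by rw [← h3, ← mul_assoc, e1, one_mul]
        have h6 : g * p.1 = p.2 := by
          have h7 : g * p.1 * p.2 = 1 := by rw [mul_assoc, h3, hgg]
          have h8 : g * p.1 * p.2 = p.2 * p.2 := by rw [h7, e2]
          exact mul_right_cancel h8
        rw [h5, h6]
      apply huniq
      rw [← mul_smul, hcomm, mul_smul, hc']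
  · intro p hp q hq hpq
    rw [Finset.mem_coe, Finset.mem_filter] at hp hq
    simp only at hpq
    have h2 : p.2 = q.2 := by
      have : p.1 * p.2 = p.1 * q.2 := by rw [hp.2, hpq, hq.2]
      exact mul_left_cancel this
    exact Prod.ext hpq h2

/-- At least `e` conjugacy classes of a simple Zassenhaus group with odd two-point stabilizers
of order `e < (h-1)/2` avoid the kernel `H` of a point stabilizer. -/
theorem classes_avoiding_kernel [Finite G] [Fintype Ω] [IsSimpleGroup G]
    (hZ : IsZassenhausGroup G Ω) (hab : a ≠ b) (h e : ℕ) (hh : Fintype.card Ω = h + 1)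
    (he : Nat.card ↥(stabilizer G a ⊓ stabilizer G b) = e) (hodd : Odd e)
    (hlt : 2 * e < h - 1)
    (H : Subgroup G) (hHa : H ≤ stabilizer G a) (hHcard : Nat.card H + 1 = Fintype.card Ω)
    (hHfix : ∀ u ∈ H, u ≠ 1 → ∀ c : Ω, u • c = c → c = a) :
    e ≤ Nat.card {C : ConjClasses G // ∀ g : G, ConjClasses.mk g = C → g ∉ H} := by
  classical
  haveI : Fintype G := Fintype.ofFinite G
  haveI : Fintype (ConjClasses G) := Fintype.ofFinite _
  have hodd' : Odd (Nat.card ↥(stabilizer G a ⊓ stabilizer G b)) := by rw [he]; exact hodd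
  have hinv := hinv_of_simple hZ hab hodd'
  set T : Finset G := Finset.univ.filter (fun x => orderOf x = 2) with hTdef
  have hTmem : ∀ x, x ∈ T ↔ orderOf x = 2 := by
    intro x; rw [hTdef, Finset.mem_filter]; simp
  have hTsq : ∀ x ∈ T, x * x = 1 := fun x hx => mul_self_of_orderOf_two ((hTmem x).mp hx)
  -- the number of involutions and the order of the group
  have hI : T.card = if Even h then e * (h + 1) else e * h := by
    have := (involutions_main hZ hab h e hh he hodd hinv).2
    rw [Nat.card_eq_fintype_card, Fintype.card_subtype] at this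
    exact this
  have hG : Fintype.card G = (h + 1) * h * e := by
    have := Cfsg.Agent.Helper5.Zassenhaus.card_group hZ hab
    rw [Nat.card_eq_fintype_card, hh, he] at this
    simpa using this
  have hHh : Nat.card H = h := by omega
  -- the classes avoiding `H`
  set avoid : ConjClasses G → Prop := fun C => ∀ g : G, ConjClasses.mk g = C → g ∉ H with havoid
  set K : Finset (ConjClasses G) := Finset.univ.filter avoid with hK
  have hKcard : Nat.card {C : ConjClasses G // ∀ g : G, ConjClasses.mk g = C → g ∉ H} = K.card := by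
    rw [Nat.card_eq_fintype_card, Fintype.card_subtype]
  rw [hKcard]
  set f : G × G → ConjClasses G := fun p => ConjClasses.mk (p.1 * p.2) with hf
  set P1 := (T ×ˢ T).filter (fun p => avoid (f p)) with hP1
  set P2 := (T ×ˢ T).filter (fun p => ¬ avoid (f p)) with hP2
  have hsplit : P1.card + P2.card = T.card * T.card := by
    rw [hP1, hP2, Finset.card_filter_add_card_filter_not, Finset.card_product]
  -- the pairs whose product avoids `H`
  have hP1le : P1.card ≤ K.card * Fintype.card G := by
    have hmaps : ∀ p ∈ P1, f p ∈ K := by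
      intro p hp
      rw [hP1, Finset.mem_filter] at hp
      rw [hK, Finset.mem_filter]
      exact ⟨Finset.mem_univ _, hp.2⟩
    rw [Finset.card_eq_sum_card_fiberwise hmaps]
    calc ∑ C ∈ K, (P1.filter (fun p => f p = C)).card
        ≤ ∑ _C ∈ K, Fintype.card G := by
          apply Finset.sum_le_sum
          intro C _
          refine le_trans (Finset.card_le_card ?_) (card_pairs_class_le T hTsq C)
          intro p hp
          rw [Finset.mem_filter, hP1, Finset.mem_filter] at hp
          rw [Finset.mem_filter]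
          exact ⟨hp.1.1, hp.2⟩
      _ = K.card * Fintype.card G := by rw [Finset.sum_const, smul_eq_mul]
  -- the pairs whose product meets `H`
  set Q1 := (T ×ˢ T).filter (fun p : G × G => p.1 * p.2 = 1) with hQ1
  set Q2 := (T ×ˢ T).filter (fun p : G × G => orderOf (p.1 * p.2) = 2 ∧ Even h) with hQ2
  have hP2sub : P2 ⊆ Q1 ∪ Q2 := by
    intro p hp
    rw [hP2, Finset.mem_filter] at hp
    obtain ⟨hpT, hna⟩ := hp
    have hpT' := hpT
    rw [Finset.mem_product] at hpT'
    rw [havoid] at hna
    push Not at hna
    obtain ⟨g, hgC, hgH⟩ := hna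
    rw [hf] at hgC
    simp only at hgC
    rw [ConjClasses.mk_eq_mk_iff_isConj, isConj_iff] at hgC
    obtain ⟨k, hk⟩ := hgC
    rw [Finset.mem_union]
    by_cases hg1 : g = 1
    · left
      rw [hQ1, Finset.mem_filter]
      refine ⟨hpT, ?_⟩
      rw [← hk, hg1, mul_one, mul_inv_cancel]
    · right
      have o1 := (hTmem _).mp hpT'.1
      have o2 := (hTmem _).mp hpT'.2
      have ox : orderOf (k⁻¹ * p.1 * k) = 2 := by
        have : SemiconjBy k⁻¹ p.1 (k⁻¹ * p.1 * k) := by unfold SemiconjBy; group
        rw [← SemiconjBy.orderOf_eq k⁻¹ this]; exact o1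
      have oy : orderOf (k⁻¹ * p.2 * k) = 2 := by
        have : SemiconjBy k⁻¹ p.2 (k⁻¹ * p.2 * k) := by unfold SemiconjBy; group
        rw [← SemiconjBy.orderOf_eq k⁻¹ this]; exact o2
      have hxy : (k⁻¹ * p.1 * k) * (k⁻¹ * p.2 * k) = g := by
        have hg' : g = k⁻¹ * (p.1 * p.2) * k := by rw [← hk]; group
        rw [hg']; group
      have og := orderOf_prod_involutions hZ hab hodd' hinv H hHa hHcard hHfix g hgH hg1 _ _
        ox oy hxy
      have ogp : orderOf (p.1 * p.2) = 2 := by
        have : SemiconjBy k g (p.1 * p.2) := by unfold SemiconjBy; rw [← hk]; group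
        rw [← SemiconjBy.orderOf_eq k this]; exact og
      have hev : Even h := by
        have hd : orderOf (⟨g, hgH⟩ : H) ∣ Nat.card H := orderOf_dvd_natCard _
        rw [Subgroup.orderOf_mk, og, hHh] at hd
        exact even_iff_two_dvd.mpr hd
      rw [hQ2, Finset.mem_filter]
      exact ⟨hpT, ogp, hev⟩
  have hQ1le : Q1.card ≤ T.card := by
    apply Finset.card_le_card_of_injOn (fun p => p.1)
    · intro p hp
      rw [Finset.mem_coe, hQ1, Finset.mem_filter, Finset.mem_product] at hp
      exact Finset.mem_coe.mpr hp.1.1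
    · intro p hp q hq hpq
      rw [Finset.mem_coe, hQ1, Finset.mem_filter] at hp hq
      simp only at hpq
      have h2 : p.2 = q.2 := by
        have : p.1 * p.2 = p.1 * q.2 := by rw [hp.2, hpq, hq.2]
        exact mul_left_cancel this
      exact Prod.ext hpq h2
  have hQ2le : Q2.card ≤ if Even h then T.card * (e - 1) else 0 := by
    by_cases hev : Even h
    · rw [if_pos hev]
      have hn : Odd (Fintype.card Ω) := by rw [hh]; exact Even.add_one hev
      have hmaps : ∀ p ∈ Q2, p.1 * p.2 ∈ T := by
        intro p hp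
        rw [hQ2, Finset.mem_filter] at hp
        exact (hTmem _).mpr hp.2.1
      rw [Finset.card_eq_sum_card_fiberwise hmaps]
      calc ∑ g ∈ T, (Q2.filter (fun p => p.1 * p.2 = g)).card
          ≤ ∑ _g ∈ T, (e - 1) := by
            apply Finset.sum_le_sum
            intro g hgT
            have hle := card_pairs_involution_le hZ hab hodd' hinv hn T hTmem g
              ((hTmem g).mp hgT)
            rw [he] at hle
            refine le_trans (Finset.card_le_card ?_) hle
            intro p hp
            rw [Finset.mem_filter, hQ2, Finset.mem_filter] at hp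
            rw [Finset.mem_filter]
            exact ⟨hp.1.1, hp.2⟩
        _ = T.card * (e - 1) := by rw [Finset.sum_const, smul_eq_mul]
    · rw [if_neg hev]
      have : Q2 = ∅ := by
        rw [hQ2]
        apply Finset.filter_eq_empty_iff.mpr
        intro p _ hp
        exact hev hp.2
      rw [this, Finset.card_empty]
  have hP2le : P2.card ≤ T.card + (if Even h then T.card * (e - 1) else 0) :=
    le_trans (Finset.card_le_card hP2sub) (le_trans (Finset.card_union_le _ _)
      (Nat.add_le_add hQ1le hQ2le))
  -- arithmetic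
  have htotal : T.card * T.card ≤
      K.card * Fintype.card G + (T.card + (if Even h then T.card * (e - 1) else 0)) := by
    rw [← hsplit]
    exact Nat.add_le_add hP1le hP2le
  obtain ⟨e', rfl⟩ : ∃ e', e = e' + 1 := by
    obtain ⟨m, hm⟩ := hodd
    exact ⟨2 * m, by omega⟩
  by_contra hcon
  push Not at hcon
  have hKle : K.card ≤ e' := by omega
  by_cases hev : Even h
  · rw [if_pos hev] at hI htotal
    rw [hI, hG] at htotal
    have h1 : K.card * ((h + 1) * h * (e' + 1)) ≤ e' * ((h + 1) * h * (e' + 1)) :=
      Nat.mul_le_mul_right _ hKle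
    have hh2 : 2 ≤ h := by omega
    simp only [Nat.add_sub_cancel] at htotal
    nlinarith
  · rw [if_neg hev] at hI htotal
    rw [hI, hG] at htotal
    have h1 : K.card * ((h + 1) * h * (e' + 1)) ≤ e' * ((h + 1) * h * (e' + 1)) :=
      Nat.mul_le_mul_right _ hKle
    have hh2 : 2 * (e' + 1) + 2 ≤ h := by omega
    nlinarith

end Classes

end Cfsg.Agent.Helper20.Zass
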