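import Mathlib
import Cfsg.Prelude.Def_Characters
import Cfsg.Prelude.Def_LieExceptional
import Cfsg.Agent.Helper20.ZassC
import Cfsg.Agent.Helper8.Ind
import Cfsg.Agent.Helper24.Induced
import Cfsg.Agent.Helper5.LinChar

/-!
# Induction from a point stabilizer as a sum over fixed points
-/

set_option autoImplicit false

namespace Cfsg.Agent.Helper20.Zass

open Cfsg MulAction Cfsg.Agent.Helper8

section IndStab

variable {G Ω : Type*} [Group G] [Fintype G] [MulAction G Ω] [Fintype Ω] [DecidableEq Ω]

/-- The value of a function induced from the stabilizer of `a` in a transitive action, as a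
sum over the fixed points. -/
theorem indFun_stabilizer (a : Ω) (μ : stabilizer G a → ℂ)
    (hμ : IsClassFunction (stabilizer G a) μ) (t : Ω → G) (ht : ∀ c : Ω, t c • a = c) (g : G) :
    indFun (stabilizer G a) μ g =
      ∑ c : Ω, if g • c = c then extendByZero (stabilizer G a) μ ((t c)⁻¹ * g * t c) else 0 := by
  classical
  have hNpos : (Nat.card (stabilizer G a) : ℂ) ≠ 0 := by
    exact_mod_cast (Nat.card_pos (α := stabilizer G a)).ne'
  rw [indFun_def]
  rw [← Finset.sum_fiberwise (Finset.univ : Finset G) (fun x : G => x • a)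
    (fun x => extendByZero (stabilizer G a) μ (x⁻¹ * g * x)), Finset.mul_sum]
  refine Finset.sum_congr rfl ?_
  intro c _
  by_cases hc : g • c = c
  · rw [if_pos hc]
    -- reindex the fibre by `N`
    have hfib : ∑ x ∈ Finset.univ.filter (fun x : G => x • a = c),
        extendByZero (stabilizer G a) μ (x⁻¹ * g * x) =
        ∑ k : stabilizer G a, extendByZero (stabilizer G a) μ (((t c) * (k : G))⁻¹ * g * ((t c) * (k : G))) := by
      symm
      apply Finset.sum_bij (fun (k : stabilizer G a) _ => (t c) * (k : G))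
      · intro k _
        rw [Finset.mem_filter]
        refine ⟨Finset.mem_univ _, ?_⟩
        rw [mul_smul, k.2, ht c]
      · intro k _ k' _ h
        exact Subtype.ext (mul_left_cancel h)
      · intro x hx
        rw [Finset.mem_filter] at hx
        refine ⟨⟨(t c)⁻¹ * x, ?_⟩, Finset.mem_univ _, ?_⟩
        · rw [mem_stabilizer_iff, mul_smul, hx.2, inv_smul_eq_iff, ht c]
        · simp
      · intro k _
        rfl
    rw [hfib]
    have hmem : (t c)⁻¹ * g * t c ∈ stabilizer G a := by
      rw [mem_stabilizer_iff, mul_smul, mul_smul, ht c, hc, inv_smul_eq_iff, ht c]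
    have hterm : ∀ k : stabilizer G a, extendByZero (stabilizer G a) μ (((t c) * (k : G))⁻¹ * g * ((t c) * (k : G))) =
        extendByZero (stabilizer G a) μ ((t c)⁻¹ * g * t c) := by
      intro k
      have e : ((t c) * (k : G))⁻¹ * g * ((t c) * (k : G)) =
          (k : G)⁻¹ * ((t c)⁻¹ * g * t c) * (k : G) := by group
      have hmem2 : (k : G)⁻¹ * ((t c)⁻¹ * g * t c) * (k : G) ∈ stabilizer G a :=
        (stabilizer G a).mul_mem ((stabilizer G a).mul_mem ((stabilizer G a).inv_mem k.2) hmem) k.2
      rw [e, ebz_mem (stabilizer G a) μ hmem2, ebz_mem (stabilizer G a) μ hmem]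
      have := hμ ⟨(t c)⁻¹ * g * t c, hmem⟩ k⁻¹
      rw [← this]
      congr 1
      apply Subtype.ext
      simp
    rw [Finset.sum_congr rfl (fun k _ => hterm k), Finset.sum_const, Finset.card_univ,
      nsmul_eq_mul, ← Nat.card_eq_fintype_card, ← mul_assoc, inv_mul_cancel₀ hNpos, one_mul]
  · rw [if_neg hc]
    have : ∑ x ∈ Finset.univ.filter (fun x : G => x • a = c),
        extendByZero (stabilizer G a) μ (x⁻¹ * g * x) = 0 := by
      apply Finset.sum_eq_zero
      intro x hx
      rw [Finset.mem_filter] at hx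
      apply ebz_not_mem
      intro hmem
      apply hc
      rw [mem_stabilizer_iff, mul_smul, mul_smul, hx.2, inv_smul_eq_iff, hx.2] at hmem
      exact hmem
    rw [this, mul_zero]

end IndStab

section Values

variable {G Ω : Type*} [Group G] [Fintype G] [MulAction G Ω] [Fintype Ω]

/-- All two-point stabilizers have the same order. -/
theorem card_two_point_stabilizer_eq (hZ : IsZassenhausGroup G Ω) {a b c d : Ω} (hab : a ≠ b)
    (hcd : c ≠ d) :
    Nat.card ↥(stabilizer G c ⊓ stabilizer G d) = Nat.card ↥(stabilizer G a ⊓ stabilizer G b) := by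
  obtain ⟨g, hgc, hgd⟩ := Cfsg.Agent.Helper5.Zassenhaus.two_trans hZ hcd hab
  apply Nat.card_congr
  refine
    { toFun := fun x => ⟨g * x * g⁻¹, ?_⟩
      invFun := fun x => ⟨g⁻¹ * x * g, ?_⟩
      left_inv := ?_
      right_inv := ?_ }
  · have h1 : (x : G) • c = c := x.2.1
    have h2 : (x : G) • d = d := x.2.2
    rw [Subgroup.mem_inf, mem_stabilizer_iff, mem_stabilizer_iff]
    constructor
    · rw [mul_smul, mul_smul, ← hgc, inv_smul_smul, h1]
    · rw [mul_smul, mul_smul, ← hgd, inv_smul_smul, h2]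
  · have h1 : (x : G) • a = a := x.2.1
    have h2 : (x : G) • b = b := x.2.2
    rw [Subgroup.mem_inf, mem_stabilizer_iff, mem_stabilizer_iff]
    constructor
    · rw [mul_smul, mul_smul, hgc, h1, ← hgc, inv_smul_smul]
    · rw [mul_smul, mul_smul, hgd, h2, ← hgd, inv_smul_smul]
  · intro x
    apply Subtype.ext
    simp only
    group
  · intro x
    apply Subtype.ext
    simp only
    group

/-- The values on the stabilizer of `a` of the function induced from a linear character `μ` of
the stabilizer which is trivial on the kernel `H`. -/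
theorem indFun_values [IsSimpleGroup G] (hZ : IsZassenhausGroup G Ω) {a b : Ω} (hab : a ≠ b)
    (hodd : Odd (Nat.card ↥(stabilizer G a ⊓ stabilizer G b)))
    (H : Subgroup G) (hHa : H ≤ stabilizer G a) (hHcard : Nat.card H + 1 = Fintype.card Ω)
    (hHfix : ∀ u ∈ H, u ≠ 1 → ∀ c : Ω, u • c = c → c = a)
    (μ : stabilizer G a → ℂ) (hμ : IsCharacter (stabilizer G a) μ) (hμ1 : μ 1 = 1)
    (hμH : ∀ u : stabilizer G a, (u : G) ∈ H → μ u = 1) :
    indFun (stabilizer G a) μ 1 = (Fintype.card Ω : ℂ) ∧
    (∀ u ∈ H, u ≠ 1 → indFun (stabilizer G a) μ u = 1) ∧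
    (∀ w : stabilizer G a, (w : G) ∉ H →
      indFun (stabilizer G a) μ (w : G) = μ w + μ w⁻¹) := by
  classical
  -- the transversal
  have hex : ∀ c : Ω, ∃ g : G, g • a = c ∧ (c ≠ a → g • c = a) := by
    intro c
    by_cases hc : c = a
    · exact ⟨1, by rw [one_smul, hc], fun h => absurd hc h⟩
    · obtain ⟨g, h1, h2⟩ := Cfsg.Agent.Helper5.Zassenhaus.two_trans hZ (Ne.symm hc) hc
      exact ⟨g, h1, fun _ => h2⟩
  choose t ht1 ht2 using hex
  have hform := indFun_stabilizer a μ (Cfsg.Agent.Helper24.IsCharacter.isClassFunction hμ) t ht1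
  have hta : t a ∈ stabilizer G a := ht1 a
  -- conjugation by `t a` does not change `μ`
  have hconj_a : ∀ w : G, w ∈ stabilizer G a →
      extendByZero (stabilizer G a) μ ((t a)⁻¹ * w * t a) = extendByZero (stabilizer G a) μ w := by
    intro w hw
    have hmem : (t a)⁻¹ * w * t a ∈ stabilizer G a :=
      (stabilizer G a).mul_mem ((stabilizer G a).mul_mem ((stabilizer G a).inv_mem hta) hw) hta
    rw [ebz_mem _ μ hmem, ebz_mem _ μ hw]
    have := Cfsg.Agent.Helper24.IsCharacter.isClassFunction hμ ⟨w, hw⟩ ⟨t a, hta⟩⁻¹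
    rw [← this]
    congr 1
    apply Subtype.ext
    simp
  refine ⟨?_, ?_, ?_⟩
  · rw [hform]
    have : ∀ c : Ω, (if (1 : G) • c = c then
        extendByZero (stabilizer G a) μ ((t c)⁻¹ * 1 * t c) else 0) = 1 := by
      intro c
      rw [if_pos (one_smul _ _), mul_one, inv_mul_cancel, ebz_mem _ μ (stabilizer G a).one_mem]
      exact hμ1
    rw [Finset.sum_congr rfl (fun c _ => this c), Finset.sum_const, Finset.card_univ,
      nsmul_eq_mul, mul_one]
  · intro u hu hu1
    rw [hform, Finset.sum_eq_single a]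
    · have hua : u • a = a := hHa hu
      rw [if_pos hua, hconj_a u (hHa hu), ebz_mem _ μ (hHa hu)]
      exact hμH ⟨u, hHa hu⟩ hu
    · intro c _ hca
      rw [if_neg]
      intro h
      exact hca (hHfix u hu hu1 c h)
    · intro h; exact absurd (Finset.mem_univ _) h
  · intro w hwH
    have hwa : (w : G) • a = a := w.2
    have hK := (mem_kernel_iff hZ a H hHa hHcard hHfix (w : G) hwa).not.mp hwH
    push Not at hK
    obtain ⟨hw1, b', hwb', hb'a⟩ := hK
    have hinv' := hinv_of_simple hZ (Ne.symm hb'a)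
      (by rw [card_two_point_stabilizer_eq hZ hab (Ne.symm hb'a)]; exact hodd)
    rw [hform, Finset.sum_eq_add_of_mem a b' (Finset.mem_univ _) (Finset.mem_univ _)
      (Ne.symm hb'a)]
    · rw [if_pos hwa, if_pos hwb', hconj_a _ w.2, ebz_coe]
      congr 1
      -- the second term
      have hs1 : (t b')⁻¹ • a = b' := by rw [inv_smul_eq_iff, ht2 b' hb'a]
      have hs2 : (t b')⁻¹ • b' = a := by rw [inv_smul_eq_iff, ht1 b']
      have := hinv' (t b')⁻¹ hs1 hs2 (w : G) ⟨hwa, hwb'⟩
      rw [inv_inv] at this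
      rw [this]
      exact ebz_coe _ μ w⁻¹
    · intro c _ hc
      rw [if_neg]
      intro h
      rcases Cfsg.Agent.Helper5.Zassenhaus.fixed_of_fix2 hZ (Ne.symm hb'a) hw1 hwa hwb' h with h' | h'
      · exact hc.1 h'
      · exact hc.2 h'

end Values

section Irr

variable {G Ω : Type*} [Group G] [Fintype G] [MulAction G Ω] [Fintype Ω]

open Cfsg.Agent.Helper24 Cfsg.Agent.Helper5 in
/-- The induced function is an irreducible character. -/
theorem indFun_irreducible [IsSimpleGroup G] (hZ : IsZassenhausGroup G Ω) {a b : Ω} (hab : a ≠ b)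
    (hodd : Odd (Nat.card ↥(stabilizer G a ⊓ stabilizer G b)))
    (H : Subgroup G) (hHa : H ≤ stabilizer G a) (hHcard : Nat.card H + 1 = Fintype.card Ω)
    (hHfix : ∀ u ∈ H, u ≠ 1 → ∀ c : Ω, u • c = c → c = a)
    (μ : stabilizer G a → ℂ) (hμ : IsCharacter (stabilizer G a) μ) (hμ1 : μ 1 = 1)
    (hμH : ∀ u : stabilizer G a, (u : G) ∈ H → μ u = 1) (hμne : μ ≠ fun _ => 1) :
    IsIrrCharacter G (indFun (stabilizer G a) μ) := by
  classical
  haveI : Fintype (IrrCharacter G) := Fintype.ofFinite _
  obtain ⟨hv1, hv2, hv3⟩ := indFun_values hZ hab hodd H hHa hHcard hHfix μ hμ hμ1 hμH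
  apply IsCharacter.isIrrCharacter_of_classInner_self (isCharacter_indFun _ hμ)
  rw [frobenius_reciprocity (stabilizer G a) μ _ (indFun_isClassFunction (stabilizer G a) μ)]
  unfold classInner
  have hNpos : (Nat.card (stabilizer G a) : ℂ) ≠ 0 := by
    exact_mod_cast (Nat.card_pos (α := stabilizer G a)).ne'
  -- conjugates and inverses
  have hcinv : ∀ w : stabilizer G a, (starRingEnd ℂ) (μ w) = μ w⁻¹ := by
    intro w
    obtain ⟨k, ρ, hρ⟩ := hμ
    rw [← hρ]
    exact (char_inv ρ w).symm
  have hminv : ∀ w : stabilizer G a, μ w * μ w⁻¹ = 1 := by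
    intro w
    rw [linChar_inv hμ hμ1, mul_inv_cancel₀ (linChar_ne_zero hμ hμ1 w)]
  -- the pointwise formula
  have hpt : ∀ w : stabilizer G a,
      μ w * (starRingEnd ℂ) (indFun (stabilizer G a) μ (w : G)) =
        (μ w) ^ 2 + 1 + ((if w = 1 then (Fintype.card Ω : ℂ) - 1 else 0) -
          (if (w : G) ∈ H then 1 else 0)) := by
    intro w
    by_cases hw1 : w = 1
    · rw [hw1, if_pos rfl, if_pos (by simpa using H.one_mem), hμ1]
      have : ((1 : stabilizer G a) : G) = 1 := rfl
      rw [this, hv1, Complex.conj_natCast]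
      ring
    · rw [if_neg hw1]
      by_cases hwH : (w : G) ∈ H
      · rw [if_pos hwH, hμH w hwH, hv2 (w : G) hwH (fun h => hw1 (Subtype.ext h)), map_one]
        ring
      · rw [if_neg hwH, hv3 w hwH, map_add, hcinv, hcinv, inv_inv, mul_add, hminv]
        ring
  rw [Finset.sum_congr rfl (fun w _ => hpt w)]
  rw [Finset.sum_add_distrib, Finset.sum_add_distrib, Finset.sum_sub_distrib]
  -- the four sums
  have S2 : ∑ _w : stabilizer G a, (1 : ℂ) = (Nat.card (stabilizer G a) : ℂ) := by
    rw [Finset.sum_const, Finset.card_univ, nsmul_eq_mul, mul_one, Nat.card_eq_fintype_card]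
  have S3 : ∑ w : stabilizer G a, (if w = 1 then (Fintype.card Ω : ℂ) - 1 else 0) =
      (Fintype.card Ω : ℂ) - 1 := by
    rw [Finset.sum_ite_eq' Finset.univ (1 : stabilizer G a)]
    simp
  have S4 : ∑ w : stabilizer G a, (if (w : G) ∈ H then (1 : ℂ) else 0) =
      (Fintype.card Ω : ℂ) - 1 := by
    rw [Finset.sum_boole]
    have h1 : (Finset.univ.filter (fun w : stabilizer G a => (w : G) ∈ H)).card = Nat.card H := by
      rw [← Nat.card_congr (Subgroup.subgroupOfEquivOfLe hHa).toEquiv, Nat.card_eq_fintype_card,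
        Fintype.card_subtype]
      rfl
    rw [h1]
    have : (Nat.card H : ℂ) + 1 = (Fintype.card Ω : ℂ) := by exact_mod_cast hHcard
    linear_combination this
  have S1 : ∑ w : stabilizer G a, (μ w) ^ 2 = 0 := by
    -- an element where `μ ^ 2` is not one
    have hex : ∃ w₀ : stabilizer G a, (μ w₀) ^ 2 ≠ 1 := by
      by_contra hcon
      push Not at hcon
      apply hμne
      funext w
      by_cases hwH : (w : G) ∈ H
      · exact hμH w hwH
      · have hwa : (w : G) • a = a := w.2
        have hK := (mem_kernel_iff hZ a H hHa hHcard hHfix (w : G) hwa).not.mp hwH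
        push Not at hK
        obtain ⟨-, b', hwb', hb'a⟩ := hK
        have hcard := card_two_point_stabilizer_eq hZ hab (Ne.symm hb'a)
        obtain ⟨k, hk⟩ := hodd
        have hpow : (w : G) ^ (2 * k + 1) = 1 := by
          have := pow_card_eq_one' (G := ↥(stabilizer G a ⊓ stabilizer G b'))
            (x := ⟨(w : G), ⟨hwa, hwb'⟩⟩)
          rw [hcard, hk] at this
          exact congrArg Subtype.val this
        have hpow' : w ^ (2 * k + 1) = 1 := Subtype.ext (by simpa using hpow)
        have h2 := linChar_pow hμ hμ1 w (2 * k + 1)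
        rw [hpow', hμ1, pow_succ, pow_mul, hcon w, one_pow, one_mul] at h2
        exact h2.symm
    obtain ⟨w₀, hw₀⟩ := hex
    have hshift : ∑ w : stabilizer G a, (μ w) ^ 2 =
        (μ w₀) ^ 2 * ∑ w : stabilizer G a, (μ w) ^ 2 := by
      rw [Finset.mul_sum, ← Equiv.sum_comp (Equiv.mulLeft w₀) (fun w => (μ w) ^ 2)]
      refine Finset.sum_congr rfl ?_
      intro w _
      rw [Equiv.coe_mulLeft, linChar_mul hμ hμ1, mul_pow]
    have : (1 - (μ w₀) ^ 2) * ∑ w : stabilizer G a, (μ w) ^ 2 = 0 := by
      rw [sub_mul, one_mul, ← hshift, sub_self]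
    rcases mul_eq_zero.mp this with h | h
    · exact absurd (sub_eq_zero.mp h).symm hw₀
    · exact h
  rw [S1, S2, S3, S4]
  field_simp
  ring

end Irr

end Cfsg.Agent.Helper20.Zass
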