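import Mathlib
import Cfsg.Agent.Helper5.S2536Basic

set_option autoImplicit false

/-! S2536 project (driver helper5), piece MULTI: arithmetic of the multinomial coefficient of the
orbit sizes. -/

namespace Cfsg.Agent.S2536P

open Equiv Nat

namespace MULTI

theorem prod_factorial_dvd (t : Multiset ℕ) : (t.map Nat.factorial).prod ∣ (t.sum)! := by
  induction t using Multiset.induction_on with
  | empty => simp
  | cons a t ih =>
    rw [Multiset.map_cons, Multiset.prod_cons, Multiset.sum_cons]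
    exact (Nat.mul_dvd_mul_left _ ih).trans (Nat.factorial_mul_factorial_dvd_factorial_add a t.sum)

theorem prod_factorial_pos (t : Multiset ℕ) : 0 < (t.map Nat.factorial).prod := by
  apply Nat.pos_of_ne_zero
  apply Multiset.prod_ne_zero
  intro h
  rw [Multiset.mem_map] at h
  obtain ⟨a, -, ha⟩ := h
  exact (Nat.factorial_pos a).ne' ha

end MULTI

/-- MULTI1 -/
theorem orbitData_exists_ge {π : Set ℕ} {n : ℕ} {sizes : Multiset ℕ} (h : OrbitData π n sizes)
    {s : ℕ} (hs : s.Prime) (hsπ : s ∈ π) (hsn : s ≤ n) : ∃ m ∈ sizes, s ≤ m := by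
  obtain ⟨-, -, c, hc, hcπ⟩ := h
  have h1 : s ∣ n ! := (Nat.Prime.dvd_factorial hs).mpr hsn
  rw [hc] at h1
  rcases (Nat.Prime.dvd_mul hs).mp h1 with h2 | h2
  · exact absurd h2 (hcπ s hs hsπ)
  · obtain ⟨a, ha, hsa⟩ := (Nat.Prime.prime hs).exists_mem_multiset_dvd h2
    rw [Multiset.mem_map] at ha
    obtain ⟨m, hm, rfl⟩ := ha
    exact ⟨m, hm, (Nat.Prime.dvd_factorial hs).mp hsa⟩

/-- MULTI2 -/
theorem orbitData_pair {π : Set ℕ} {n : ℕ} {sizes : Multiset ℕ} (h : OrbitData π n sizes)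
    {x y : ℕ} {rest : Multiset ℕ} (hs : sizes = x ::ₘ y ::ₘ rest) : PiPrime π ((x + y).choose x) := by
  obtain ⟨hsum, -, c, hc, hcπ⟩ := h
  subst hs
  rw [Multiset.sum_cons, Multiset.sum_cons] at hsum
  rw [Multiset.map_cons, Multiset.map_cons, Multiset.prod_cons, Multiset.prod_cons] at hc
  set P := (rest.map Nat.factorial).prod with hP
  have hPpos : 0 < P := MULTI.prod_factorial_pos rest
  -- `(x + y)! * P ∣ n !`
  have h1 : (x + y)! * P ∣ n ! := by
    have h2 : (x + y)! * P ∣ (x + y)! * (rest.sum)! :=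
      Nat.mul_dvd_mul_left _ (MULTI.prod_factorial_dvd rest)
    have h3 : (x + y)! * (rest.sum)! ∣ (x + y + rest.sum)! :=
      Nat.factorial_mul_factorial_dvd_factorial_add _ _
    have h4 : x + y + rest.sum = n := by omega
    rw [h4] at h3
    exact h2.trans h3
  obtain ⟨d, hd⟩ := h1
  have h5 : (x + y)! = (x + y).choose x * x ! * y ! := by
    rw [Nat.choose_symm_add]
    exact (Nat.add_choose_mul_factorial_mul_factorial x y).symm
  have h6 : c * (x ! * (y ! * P)) = (d * (x + y).choose x) * (x ! * (y ! * P)) := by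
    rw [← hc, hd, h5]
    ring
  have hpos : 0 < x ! * (y ! * P) :=
    Nat.mul_pos (Nat.factorial_pos x) (Nat.mul_pos (Nat.factorial_pos y) hPpos)
  have h7 : c = d * (x + y).choose x := Nat.eq_of_mul_eq_mul_right hpos h6
  exact piPrime_of_dvd hcπ ⟨d, by rw [h7, Nat.mul_comm]⟩

end Cfsg.Agent.S2536P
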