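import Mathlib
import Cfsg.Agent.Helper5.S2536Basic
import Cfsg.Agent.S0713

set_option autoImplicit false

/-! S2536 project (driver helper5), piece JORDANALL: a primitive Hall `π`-subgroup of `Sym(n)`
containing a `p`-cycle with `p + 3 ≤ n` contains `Alt(n)`, so every prime `≤ n` lies in `π`. -/

namespace Cfsg.Agent.S2536P

open Equiv

universe u

namespace JORDANALL

/-- for `n ≥ 4` and a prime `r ≤ n`, `2 * r` divides `n !` -/
theorem two_mul_dvd_factorial {n r : ℕ} (hn : 4 ≤ n) (hr : r.Prime) (hrn : r ≤ n) :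
    2 * r ∣ n.factorial := by
  rcases eq_or_ne r 2 with rfl | h2
  · have h4 : (4 : ℕ).factorial ∣ n.factorial := Nat.factorial_dvd_factorial hn
    have : (2 * 2 : ℕ) ∣ (4 : ℕ).factorial := by decide
    exact this.trans h4
  · have hcop : Nat.Coprime 2 r := (Nat.coprime_primes Nat.prime_two hr).mpr (Ne.symm h2)
    apply hcop.mul_dvd_of_dvd_of_dvd
    · exact (Nat.Prime.dvd_factorial Nat.prime_two).mpr (by omega)
    · exact (Nat.Prime.dvd_factorial hr).mpr hrn

end JORDANALL

/-- JORDANALL -/
theorem allLE_of_cycle {α : Type u} [Fintype α] [DecidableEq α] {π : Set ℕ} {H : Subgroup (Perm α)}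
    (hH : Cfsg.IsPiHall π H) (hprim : MulAction.IsPreprimitive H α) {p : ℕ} (hp : p.Prime)
    (h5 : 5 ≤ Fintype.card α) (hpn : p + 3 ≤ Fintype.card α) {g : Perm α} (hgc : g.IsCycle)
    (hgp : g.support.card = p) (hg : g ∈ H) : AllLE π (Fintype.card α) := by
  have hA : alternatingGroup α ≤ H :=
    Cfsg.Agent.S0713.result H hprim hp h5 hpn hgc hgp hg
  have hnt : Nontrivial α := by
    rw [← Fintype.one_lt_card_iff_nontrivial]
    omega
  intro r hr hrn
  apply hH.1 r hr
  have h1 : Nat.card (alternatingGroup α) ∣ Nat.card H := Subgroup.card_dvd_of_le hA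
  refine Dvd.dvd.trans ?_ h1
  have h2 : 2 * Nat.card (alternatingGroup α) = Nat.card (Perm α) :=
    two_mul_nat_card_alternatingGroup
  have h3 : Nat.card (Perm α) = (Fintype.card α).factorial := by
    rw [Nat.card_eq_fintype_card, Fintype.card_perm]
  have h4 : 2 * r ∣ 2 * Nat.card (alternatingGroup α) := by
    rw [h2, h3]
    exact JORDANALL.two_mul_dvd_factorial (by omega) hr hrn
  exact Nat.dvd_of_mul_dvd_mul_left (by norm_num) h4

end Cfsg.Agent.S2536P
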