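import Mathlib
import Cfsg.Agent.Helper5.S2536Basic

set_option autoImplicit false

/-! S2536 project (driver helper5), piece SYLTRANS: a transitive Hall `π`-subgroup of `Sym(n)` with at
most one prime of `π` below `n` has prime power degree. -/

namespace Cfsg.Agent.S2536P

open Equiv

universe u

/-- SYLTRANS -/
theorem ttype_of_not_two {α : Type u} [Finite α] {π : Set ℕ} {H : Subgroup (Perm α)}
    (hH : Cfsg.IsPiHall π H) (htr : MulAction.IsPretransitive H α) (h2 : ¬ Two π (Nat.card α)) :
    TType π (Nat.card α) := by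
  rcases Nat.lt_or_ge (Nat.card α) 2 with h1 | h1
  · exact Or.inl (by omega)
  right; left
  have hne : Nonempty α := by
    rcases isEmpty_or_nonempty α with h | h
    · rw [Nat.card_of_isEmpty] at h1
      omega
    · exact h
  obtain ⟨x⟩ := hne
  -- `n ∣ |H|`
  have hdvd : Nat.card α ∣ Nat.card H := by
    have h3 : (MulAction.stabilizer H x).index = Nat.card α :=
      MulAction.index_stabilizer_of_transitive H x
    rw [← h3]
    exact Subgroup.index_dvd_card _
  have hpi : ∀ r : ℕ, r.Prime → r ∣ Nat.card α → r ∈ π := fun r hr hrn =>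
    hH.1 r hr (hrn.trans hdvd)
  have hn1 : Nat.card α ≠ 1 := by omega
  have hn0 : Nat.card α ≠ 0 := by omega
  have hs : (Nat.card α).minFac.Prime := Nat.minFac_prime hn1
  have hsd : (Nat.card α).minFac ∣ Nat.card α := Nat.minFac_dvd _
  have hsle : (Nat.card α).minFac ≤ Nat.card α := Nat.le_of_dvd (by omega) hsd
  have hsπ : (Nat.card α).minFac ∈ π := hpi _ hs hsd
  have honly : OnlyLE π (Nat.card α) (Nat.card α).minFac := by
    intro r hr hrn hrπ
    by_contra hne
    exact h2 ⟨r, (Nat.card α).minFac, hr, hs, hne, hrπ, hsπ, hrn, hsle⟩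
  refine ⟨(Nat.card α).minFac, (Nat.card α).primeFactorsList.length, hs, hsπ, ?_, honly⟩
  apply Nat.eq_prime_pow_of_unique_prime_dvd hn0
  intro d hd hdn
  exact honly d hd (Nat.le_of_dvd (by omega) hdn) (hpi d hd hdn)

end Cfsg.Agent.S2536P
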