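import Mathlib
import Cfsg.Agent.Helper5.S2536Basic
import Cfsg.Agent.Helper20.S2536SYLTRANS
import Cfsg.Agent.Helper20.S2536CYCLE
import Cfsg.Agent.Helper20.S2536JORDANALL
import Cfsg.Agent.Helper22.S2536TWIN
import Cfsg.Agent.Helper22.S2536PGRPPRIM

set_option autoImplicit false

/-! S2536 project (driver helper5), piece PRIM: the degrees and prime sets of primitive Hall
subgroups of symmetric groups. -/

namespace Cfsg.Agent.S2536P

open Equiv Nat

universe u

namespace PRIM

theorem piNum_prime {π : Set ℕ} {p : ℕ} (hp : p.Prime) (hpπ : p ∈ π) : PiNum π p := by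
  intro q hq hqp
  rw [(Nat.prime_dvd_prime_iff_eq hq hp).mp hqp]
  exact hpπ

/-- two primes `r < s` in the window `[n - 2, n]` -/
theorem window {n r s : ℕ} (hr : r.Prime) (hs : s.Prime) (hrs : r < s) (hsn : s ≤ n)
    (hrn : n < r + 3) : (n ≤ 4 ∧ r = 2 ∧ s = 3) ∨ (5 ≤ n ∧ r + 2 = n ∧ s = n) := by
  have hr2 := hr.two_le
  rcases eq_or_ne r 2 with rfl | hr2'
  · left
    have h4 : s ≠ 4 := by
      rintro rfl
      exact absurd hs (by decide)
    omega
  · right
    have hodd : r % 2 = 1 := by
      rcases hr.eq_two_or_odd with h | h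
      · exact absurd h hr2'
      · exact h
    have hs1 : s ≠ r + 1 := by
      rintro rfl
      rcases hs.eq_two_or_odd with h | h <;> omega
    omega

/-- the arithmetic of the last case -/
theorem arith {π : Set ℕ} {n : ℕ} (h2 : Two π n) (hall : ¬ AllLE π n)
    (hno : ∀ p : ℕ, p.Prime → p ∈ π → p ≤ n → n < p + 3) :
    5 ≤ n ∧ n.Prime ∧ (n - 2).Prime ∧ PiNum π (n * (n - 2)) ∧ PiPrime π ((n - 1) * (n - 3)!) ∧
      n ! = (n * (n - 2)) * ((n - 1) * (n - 3)!) := by
  obtain ⟨r, s, hr, hs, hrs, hrπ, hsπ, hrn, hsn⟩ := h2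
  -- wlog `r < s`
  have key : ∀ r s : ℕ, r.Prime → s.Prime → r < s → r ∈ π → s ∈ π → r ≤ n → s ≤ n →
      5 ≤ n ∧ n.Prime ∧ (n - 2).Prime ∧ PiNum π (n * (n - 2)) ∧ PiPrime π ((n - 1) * (n - 3)!) ∧
      n ! = (n * (n - 2)) * ((n - 1) * (n - 3)!) := by
    intro r s hr hs hrs hrπ hsπ hrn hsn
    rcases window hr hs hrs hsn (hno r hr hrπ hrn) with ⟨h4, rfl, rfl⟩ | ⟨h5, hr2, rfl⟩
    · exfalso
      apply hall
      intro t ht htn
      have ht2 := ht.two_le
      have h4' : t ≠ 4 := by
        rintro rfl
        exact absurd ht (by decide)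
      have : t = 2 ∨ t = 3 := by omega
      rcases this with rfl | rfl
      · exact hrπ
      · exact hsπ
    · have hr' : r = s - 2 := by omega
      subst hr'
      have hsodd : s % 2 = 1 := by
        rcases hs.eq_two_or_odd with h | h <;> omega
      refine ⟨h5, hs, hr, piNum_mul (piNum_prime hs hsπ) (piNum_prime hr hrπ), ?_, ?_⟩
      · apply piPrime_mul
        · intro q hq hqπ hqd
          have hq2 := hq.two_le
          have hqle : q ≤ s - 1 := Nat.le_of_dvd (by omega) hqd
          have hq3 := hno q hq hqπ (by omega)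
          have hqne : q ≠ s - 1 := by
            intro h
            rcases hq.eq_two_or_odd with h' | h' <;> omega
          have hq' : q = s - 2 := by omega
          rw [hq'] at hqd
          have h1 : (s - 2) ∣ (s - 1) - (s - 2) := Nat.dvd_sub hqd (dvd_refl _)
          have h2 : (s - 1) - (s - 2) = 1 := by omega
          rw [h2, Nat.dvd_one] at h1
          omega
        · intro q hq hqπ hqd
          have hqle : q ≤ s - 3 := (Nat.Prime.dvd_factorial hq).mp hqd
          have hq3 := hno q hq hqπ (by omega)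
          omega
      · obtain ⟨m, rfl⟩ : ∃ m, s = m + 3 := ⟨s - 3, by omega⟩
        have e1 : m + 3 - 2 = m + 1 := by omega
        have e2 : m + 3 - 1 = m + 2 := by omega
        have e3 : m + 3 - 3 = m := by omega
        rw [e1, e2, e3, Nat.factorial_succ, Nat.factorial_succ, Nat.factorial_succ]
        ring
  rcases Nat.lt_or_gt_of_ne hrs with h | h
  · exact key r s hr hs h hrπ hsπ hrn hsn
  · exact key s r hs hr h hsπ hrπ hsn hrn

end PRIM

/-- PRIM -/
theorem prim_ptype {α : Type u} [Finite α] {π : Set ℕ} {H : Subgroup (Perm α)}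
    (hH : Cfsg.IsPiHall π H) (hprim : MulAction.IsPreprimitive H α) : PType π (Nat.card α) := by
  classical
  have hft : Fintype α := Fintype.ofFinite α
  by_cases hall : AllLE π (Nat.card α)
  · exact Or.inr (Or.inr hall)
  rcases Nat.lt_or_ge (Nat.card α) 2 with h1 | h1
  · exact Or.inl (by omega)
  by_cases h2 : Two π (Nat.card α)
  · exfalso
    have hcn : Nat.card α = Fintype.card α := Nat.card_eq_fintype_card
    have hno : ∀ p : ℕ, p.Prime → p ∈ π → p ≤ Nat.card α → Nat.card α < p + 3 := by
      intro p hp hpπ hpn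
      by_contra hlt
      push Not at hlt
      apply hall
      have hp2 := hp.two_le
      obtain ⟨g, hgH, hgc, hgp⟩ := exists_cycle_mem hH hp hpπ (hcn ▸ hpn)
      have := allLE_of_cycle hH hprim hp (by omega) (by omega) hgc hgp hgH
      rwa [← hcn] at this
    obtain ⟨h5, hn, hn2, hpi, hpi', hfac⟩ := PRIM.arith h2 hall hno
    have hcard : Nat.card H = Nat.card α * (Nat.card α - 2) :=
      card_eq_of_isPiHall hH (by rw [card_perm_nat, hfac]) hpi hpi'
    exact twin_false H hn hn2 h5 hcard
  · have htr : MulAction.IsPretransitive H α := hprim.toIsPretransitive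
    rcases ttype_of_not_two hH htr h2 with h | ⟨s, k, hs, hsπ, hnk, honly⟩ | ⟨_, h⟩ | ⟨h8, h23⟩
    · exact Or.inl h
    · have hpg : IsPGroup s H := by
        have hne : Nat.card H ≠ 0 := Nat.card_pos.ne'
        have := Nat.eq_prime_pow_of_unique_prime_dvd hne (p := s) (by
          intro d hd hdH
          exact honly d hd (prime_le_of_dvd_card H hd hdH) (hH.1 d hd hdH))
        have hf : Fact s.Prime := ⟨hs⟩
        exact IsPGroup.of_card this
      have hns := card_eq_of_pgroup_prim hs hpg hprim h1
      right; left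
      rw [hns] at honly ⊢
      exact ⟨hs, hsπ, honly⟩
    · exact absurd h hall
    · exfalso
      apply h2
      exact ⟨2, 3, Nat.prime_two, Nat.prime_three, by norm_num,
        (h23 2 Nat.prime_two (by norm_num)).mpr (Or.inl rfl),
        (h23 3 Nat.prime_three (by norm_num)).mpr (Or.inr rfl), by omega, by omega⟩

end Cfsg.Agent.S2536P
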