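import Mathlib
import Cfsg.Agent.Helper11.S4409Defs
import Cfsg.Agent.Lead.CoprimeAbelian

/-! s4409pieces, row CA4: if `P = [P,K]` (coprime action) then `C_P(K) ≤ P'`. -/

set_option autoImplicit false
set_option linter.unusedVariables false

namespace Cfsg.Agent.S4409P

open Subgroup
open scoped commutatorElement

variable {S : Type*} [Group S] [Finite S]

omit [Finite S] in
/-- the normaliser of `P` normalises `P'`. -/
theorem CA4_aux_norm_der {P : Subgroup S} {g : S} (hg : g ∈ normalizer (P : Set S)) :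
    g ∈ normalizer ((⁅P, P⁆ : Subgroup S) : Set S) := by
  have key : ∀ g : S, g ∈ normalizer (P : Set S) → ∀ h ∈ ⁅P, P⁆, g * h * g⁻¹ ∈ ⁅P, P⁆ := by
    intro g hg h hh
    have h1 : (⁅P, P⁆).map (MulAut.conj g).toMonoidHom ≤ ⁅P, P⁆ := by
      rw [Subgroup.map_commutator]
      have h2 : P.map (MulAut.conj g).toMonoidHom ≤ P := by
        rintro _ ⟨y, hy, rfl⟩
        rw [Subgroup.mem_normalizer_iff] at hg
        exact (hg y).mp hy
      exact Subgroup.commutator_mono h2 h2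
    exact h1 ⟨h, hh, rfl⟩
  rw [Subgroup.mem_normalizer_iff]
  intro h
  refine ⟨key g hg h, fun hh => ?_⟩
  have := key g⁻¹ (Subgroup.inv_mem _ hg) _ hh
  rw [inv_inv] at this
  have e : g⁻¹ * (g * h * g⁻¹) * g = h := by group
  rwa [e] at this

/-- CA4 : if `P = [P,K]` then `C_P(K) ≤ P'` (apply `S0055` in `N(P')/P'`). -/
theorem cent_le_der (P K : Subgroup S) (hP : IsPGroup 2 ↥P) (hK : Odd (Nat.card ↥K))
    (hKP : K ≤ normalizer (P : Set S)) (hPK : ⁅P, K⁆ = P) : P ⊓ centralizer (K : Set S) ≤ Der P := by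
  unfold Der
  set D : Subgroup S := ⁅P, P⁆ with hD
  set N : Subgroup S := normalizer (D : Set S) with hN
  have hPN : P ≤ N := fun x hx => CA4_aux_norm_der (Subgroup.le_normalizer hx)
  have hKN : K ≤ N := fun k hk => CA4_aux_norm_der (hKP hk)
  have : (D.subgroupOf N).Normal := Subgroup.normal_in_normalizer
  let π : ↥N →* ↥N ⧸ D.subgroupOf N := QuotientGroup.mk' (D.subgroupOf N)
  set X : Subgroup (↥N ⧸ D.subgroupOf N) := (P.subgroupOf N).map π with hX
  set Kb : Subgroup (↥N ⧸ D.subgroupOf N) := (K.subgroupOf N).map π with hKb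
  -- `X` is abelian
  have hXc : IsMulCommutative ↥X := by
    refine ⟨⟨?_⟩⟩
    rintro ⟨_, x, hx, rfl⟩ ⟨_, y, hy, rfl⟩
    apply Subtype.ext
    show π x * π y = π y * π x
    rw [← map_mul, ← map_mul]
    apply (QuotientGroup.eq).mpr
    have hx' : (x : S) ∈ P := Subgroup.mem_subgroupOf.mp hx
    have hy' : (y : S) ∈ P := Subgroup.mem_subgroupOf.mp hy
    rw [Subgroup.mem_subgroupOf]
    have : ((x * y)⁻¹ * (y * x) : ↥N) = ⁅y⁻¹, x⁻¹⁆ := by
      rw [commutatorElement_def]; group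
    rw [this]
    exact Subgroup.commutator_mem_commutator (P.inv_mem hy') (P.inv_mem hx')
  -- `Kb` normalises `X`
  have hnorm : Kb ≤ normalizer (X : Set (↥N ⧸ D.subgroupOf N)) := by
    have h1 : K.subgroupOf N ≤ normalizer ((P.subgroupOf N : Subgroup ↥N) : Set ↥N) := by
      intro k hk
      rw [Subgroup.mem_subgroupOf] at hk
      have := hKP hk
      rw [Subgroup.mem_normalizer_iff] at this ⊢
      intro h
      rw [Subgroup.mem_subgroupOf, Subgroup.mem_subgroupOf]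
      exact this h
    exact (Subgroup.map_mono h1).trans (Subgroup.le_normalizer_map π)
  -- coprimality
  have hcop : (Nat.card ↥Kb).Coprime (Nat.card ↥X) := by
    have hXp : IsPGroup 2 ↥X := (hP.comap_subtype (K := N)).map π
    obtain ⟨n, hn⟩ := IsPGroup.iff_card.mp hXp
    rw [hn]
    apply Nat.Coprime.pow_right
    have h1 : Nat.card ↥Kb ∣ Nat.card ↥K := by
      have := Subgroup.card_map_dvd (H := K.subgroupOf N) π
      rwa [Nat.card_congr (Subgroup.subgroupOfEquivOfLe hKN).toEquiv] at this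
    have h2 : Odd (Nat.card ↥Kb) := Odd.of_dvd_nat hK h1
    exact Nat.coprime_two_right.mpr h2
  obtain ⟨hbot, -⟩ := Cfsg.Agent.Lead.coprime_abelian_decomp Kb X hnorm hcop
  -- `[X, Kb] = X`
  have hcomm : X ≤ ⁅X, Kb⁆ := by
    rw [hX, hKb, ← Subgroup.map_commutator]
    apply Subgroup.map_mono
    intro x hx
    rw [Subgroup.mem_subgroupOf] at hx
    have h1 : (x : S) ∈ (⁅P.subgroupOf N, K.subgroupOf N⁆).map N.subtype := by
      rw [Subgroup.map_commutator, Subgroup.subgroupOf_map_subtype, Subgroup.subgroupOf_map_subtype,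
        inf_of_le_left hPN, inf_of_le_left hKN, hPK]
      exact hx
    obtain ⟨y, hy, hyx⟩ := h1
    have : y = x := Subtype.ext hyx
    rwa [← this]
  -- conclusion
  intro c hc
  obtain ⟨hcP, hcK⟩ := Subgroup.mem_inf.mp hc
  have hcN : c ∈ N := hPN hcP
  have h1 : π ⟨c, hcN⟩ ∈ X := ⟨⟨c, hcN⟩, Subgroup.mem_subgroupOf.mpr hcP, rfl⟩
  have h2 : π ⟨c, hcN⟩ ∈ centralizer (Kb : Set (↥N ⧸ D.subgroupOf N)) := by
    rw [Subgroup.mem_centralizer_iff]
    rintro _ ⟨k, hk, rfl⟩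
    rw [← map_mul, ← map_mul]
    congr 1
    apply Subtype.ext
    rw [Subgroup.mem_centralizer_iff] at hcK
    exact hcK (k : S) (Subgroup.mem_subgroupOf.mp hk)
  have h3 : π ⟨c, hcN⟩ ∈ (X ⊓ centralizer (Kb : Set (↥N ⧸ D.subgroupOf N))) ⊓ ⁅X, Kb⁆ :=
    ⟨⟨h1, h2⟩, hcomm h1⟩
  rw [hbot, Subgroup.mem_bot] at h3
  have h4 : (⟨c, hcN⟩ : ↥N) ∈ D.subgroupOf N := (QuotientGroup.eq_one_iff _).mp h3
  exact Subgroup.mem_subgroupOf.mp h4

end Cfsg.Agent.S4409P
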