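import Mathlib
import Cfsg.Agent.Helper3.S5655EVDefs

set_option autoImplicit false

/-! S5655 (k = 1, chapter "q even", designer helper3) piece MONO (helper20): monomial matrices. -/

namespace Cfsg.Agent.S5655K1.EV

open Matrix
open Cfsg.Agent.S2644 Cfsg.Agent.Helper2.SUGen Cfsg.Agent.Helper28.SimMax Cfsg.Agent.S5658P

variable {K : Type*} [Field K] {q n : ℕ}

local notation "h" => Cfsg.hermForm n K q
local notation "T" => Cfsg.unitaryTransvection n q

theorem MONO.mulVec (π : Equiv.Perm (Fin n)) (d z : Fin n → K) (i : Fin n) :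
    (mono π d *ᵥ z) i = d (π.symm i) * z (π.symm i) := by
  show ∑ j, mono π d i j * z j = _
  rw [Finset.sum_eq_single (π.symm i)]
  · unfold mono
    rw [if_pos (π.apply_symm_apply i).symm]
  · intro j _ hj
    unfold mono
    rw [if_neg, zero_mul]
    intro hij
    apply hj
    rw [hij, Equiv.symm_apply_apply]
  · intro hni
    exact absurd (Finset.mem_univ _) hni

theorem MONO.mulVec_apply (π : Equiv.Perm (Fin n)) (d z : Fin n → K) (j : Fin n) :
    (mono π d *ᵥ z) (π j) = d j * z j := by
  rw [MONO.mulVec, Equiv.symm_apply_apply]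

theorem MONO.isMono (π : Equiv.Perm (Fin n)) (d : Fin n → K) : IsMono (mono π d) := by
  classical
  intro j
  unfold wt
  have hsub : supp (col (mono π d) j) ⊆ {π j} := by
    intro i hi
    rw [mem_supp] at hi
    rw [Finset.mem_singleton]
    by_contra hne
    apply hi
    unfold col mono
    rw [if_neg hne]
  calc (supp (col (mono π d) j)).card ≤ ({π j} : Finset (Fin n)).card := Finset.card_le_card hsub
    _ = 1 := Finset.card_singleton _

theorem MONO.pres (D : Frob K q) (π : Equiv.Perm (Fin n)) {d : Fin n → K}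
    (hd : ∀ j, d j * D.σ (d j) = 1) : Pres (q := q) (mono π d) := by
  intro x y
  unfold Cfsg.hermForm
  rw [← Equiv.sum_comp π]
  refine Finset.sum_congr rfl fun j _ => ?_
  rw [MONO.mulVec_apply, MONO.mulVec_apply, mul_pow]
  have := hd j
  rw [D.pow] at this
  calc d j * x j * (d j ^ q * y j ^ q) = (d j * d j ^ q) * (x j * y j ^ q) := by ring
    _ = x j * y j ^ q := by rw [this, one_mul]

/-- in characteristic 2 the sign disappears -/
theorem MONO.det (h2 : (2 : K) = 0) (π : Equiv.Perm (Fin n)) (d : Fin n → K) :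
    (mono π d).det = ∏ j, d j := by
  classical
  have hneg : (-1 : K) = 1 := by
    have : (1 : K) + 1 = 0 := by rw [one_add_one_eq_two, h2]
    linear_combination (-1 : K) * this
  rw [Matrix.det_apply', Finset.sum_eq_single π]
  · have hd : ∀ i, mono π d (π i) i = d i := fun i => by unfold mono; rw [if_pos rfl]
    simp only [hd]
    rcases Int.units_eq_one_or (Equiv.Perm.sign π) with hs | hs
    · rw [hs]; simp
    · rw [hs]; simp [hneg]
  · intro σ _ hσ
    obtain ⟨i, hi⟩ : ∃ i, σ i ≠ π i := by
      by_contra hc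
      push Not at hc
      exact hσ (Equiv.ext hc)
    have : mono π d (σ i) i = 0 := by unfold mono; rw [if_neg hi]
    have hp : ∏ i', mono π d (σ i') i' = 0 := Finset.prod_eq_zero (Finset.mem_univ i) this
    rw [hp, mul_zero]
  · intro hni
    exact absurd (Finset.mem_univ π) hni

theorem MONO.mem (D : Frob K q) (h2 : (2 : K) = 0) {M : Subgroup (Matrix.GeneralLinearGroup (Fin n) K)}
    (hM : Over q M) (π : Equiv.Perm (Fin n)) {d : Fin n → K} (hd : ∀ j, d j * D.σ (d j) = 1)
    (hprod : ∏ j, d j = 1) : mono π d ∈ MS M :=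
  hM.mono_mem _ (MONO.pres D π hd) (by rw [MONO.det h2, hprod]) (MONO.isMono π d)

end Cfsg.Agent.S5655K1.EV
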