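import Mathlib
import Cfsg.Agent.Helper3.S5655EVDefs
import Cfsg.Agent.Helper28.HermCount

set_option autoImplicit false

/-! S5655 (k = 1, chapter "q even", designer helper3) piece FIXCARD (helper20):
the fixed field of the involution has `q` elements. -/

namespace Cfsg.Agent.S5655K1.EV

open Matrix
open Cfsg.Agent.S2644 Cfsg.Agent.Helper2.SUGen Cfsg.Agent.Helper28.SimMax Cfsg.Agent.S5658P

variable {K : Type*} [Field K] {q n : ℕ}

local notation "h" => Cfsg.hermForm n K q
local notation "T" => Cfsg.unitaryTransvection n q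

open Classical in
theorem FIXCARD.card [Fintype K] (D : Frob K q) (hK : Fintype.card K = q ^ 2) :
    (Finset.univ.filter (fun c : K => D.σ c = c)).card = q := by
  set Fx := Finset.univ.filter (fun c : K => D.σ c = c) with hFx
  have hmem : ∀ c, c ∈ Fx ↔ c ^ q = c := by
    intro c
    rw [hFx, Finset.mem_filter, D.pow]
    simp
  have hq0 : q ≠ 0 := by
    intro h0
    rw [h0] at hK
    have := Fintype.one_lt_card (α := K)
    rw [hK] at this
    norm_num at this
  have hxq2 : ∀ x : K, x ^ (q ^ 2) = x := by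
    intro x; rw [← hK]; exact FiniteField.pow_card x
  have hmaps : ∀ x ∈ (Finset.univ : Finset K), -(x ^ (q + 1)) ∈ Fx := by
    intro x _
    rw [hmem, ← D.pow, map_neg, map_pow, D.pow, ← pow_mul]
    congr 1
    have : q * (q + 1) = q ^ 2 + q := by ring
    rw [this, pow_add, hxq2, pow_succ, mul_comm]
  have h1 := Finset.card_eq_sum_card_fiberwise hmaps
  have h2 : ∀ c ∈ Fx, (Finset.univ.filter (fun x : K => -(x ^ (q + 1)) = c)).card =
      if c = 0 then 1 else q + 1 := by
    intro c hc
    rw [← Cfsg.Agent.Helper28.HermCount.card_norm_fiber hK c ((hmem c).1 hc)]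
    congr 1
    ext x
    simp only [Finset.mem_filter, Finset.mem_univ, true_and]
    constructor
    · intro hx
      rw [← hx]; ring
    · intro hx
      linear_combination -hx
  rw [Finset.sum_congr rfl h2, Finset.card_univ, hK] at h1
  have h0 : (0 : K) ∈ Fx := by
    rw [hmem]; exact zero_pow hq0
  rw [← Finset.add_sum_erase Fx _ h0, if_pos rfl] at h1
  have h3 : ∑ c ∈ Fx.erase 0, (if c = 0 then 1 else q + 1) = (Fx.card - 1) * (q + 1) := by
    rw [Finset.sum_congr rfl (fun c hc => if_neg (Finset.ne_of_mem_erase hc)), Finset.sum_const,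
      Finset.card_erase_of_mem h0, smul_eq_mul]
  rw [h3] at h1
  have hpos : 0 < Fx.card := Finset.card_pos.2 ⟨0, h0⟩
  obtain ⟨m, hm⟩ : ∃ m, Fx.card = m + 1 := ⟨Fx.card - 1, by omega⟩
  obtain ⟨q', hq'⟩ : ∃ q', q = q' + 1 := ⟨q - 1, by omega⟩
  rw [hm, hq'] at h1 ⊢
  have h4 : m * (q' + 2) = q' * (q' + 2) := by
    have : m + 1 - 1 = m := by omega
    rw [this] at h1
    nlinarith [h1]
  have h5 := Nat.eq_of_mul_eq_mul_right (by omega : 0 < q' + 2) h4
  rw [h5]

end Cfsg.Agent.S5655K1.EV
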