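import Mathlib
import Cfsg.Prelude.Def_GeometricClasses
import Cfsg.Agent.Helper2.S5886.Defs
import Cfsg.Agent.Helper2.S5664.Defs
import Cfsg.Agent.Helper23.S5886GALFIX

/-! # S5664 piece NSPAN: the elements `e * σ e` span `K` additively (`r` odd prime, `σ ≠ 1`). -/

set_option autoImplicit false

namespace Cfsg.Agent.S5664P

open Cfsg.Agent.S5886P

variable {F K V : Type*} [Field F] [Field K] [Algebra F K]
  [AddCommGroup V] [Module F V] [Module K V] [IsScalarTower F K V]

namespace NSPAN

theorem sq_ne_one [Finite F] [Finite K] (hr : (Module.finrank F K).Prime)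
    (hodd : Module.finrank F K ≠ 2) (σ : K ≃ₐ[F] K) (hσ : σ ≠ 1) : σ * σ ≠ 1 := by
  intro h
  have hcard : Nat.card (K ≃ₐ[F] K) = Module.finrank F K := IsGalois.card_aut_eq_finrank F K
  have ho : orderOf σ ∣ 2 := orderOf_dvd_of_pow_eq_one (by rw [pow_two]; exact h)
  have ho2 : orderOf σ ∣ Module.finrank F K := by
    rw [← hcard]
    exact orderOf_dvd_natCard σ
  rcases (Nat.dvd_prime Nat.prime_two).mp ho with h1 | h2
  · exact hσ (orderOf_eq_one_iff.mp h1)
  · rw [h2] at ho2
    exact hodd ((Nat.prime_dvd_prime_iff_eq Nat.prime_two hr).mp ho2).symm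

theorem unit_pm [Finite F] [Finite K] (hr : (Module.finrank F K).Prime)
    (hodd : Module.finrank F K ≠ 2) (σ : K ≃ₐ[F] K) (hσ : σ ≠ 1) (z : K) (hz1 : z * σ z = 1) :
    z = 1 ∨ z = -1 := by
  have hσz : σ z = z⁻¹ := eq_inv_of_mul_eq_one_right hz1
  have hσσz : (σ * σ) z = z := by
    rw [AlgEquiv.mul_apply, hσz, map_inv₀, hσz, inv_inv]
  have hzF : z ∈ Set.range (algebraMap F K) := by
    by_contra hnot
    exact sq_ne_one hr hodd σ hσ (GALFIX hr (σ * σ) z hnot hσσz)
  obtain ⟨a, rfl⟩ := hzF
  rw [AlgEquiv.commutes] at hz1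
  exact mul_self_eq_one_iff.mp hz1

end NSPAN

open NSPAN in
/-- NSPAN (M): the map `e ↦ e * σ e` on `Kˣ` has fibres of size ≤ 2: `e σ e = e' σ e'` ⟹ `z = e / e'` has `σ z = z⁻¹`, `σ² z = z`, `σ² ≠ 1` generates Gal (`r` odd prime), `z ∈ F`, `z² = 1`. So the additive subgroup generated has more than `|K| / 2` elements (`≥ (|K| - 1)/2 + 1`), hence is everything (Lagrange: index < 2). -/
theorem NSPAN [Finite F] [Finite K] (hr : (Module.finrank F K).Prime)
    (hodd : Module.finrank F K ≠ 2) (σ : K ≃ₐ[F] K) (hσ : σ ≠ 1) :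
    AddSubgroup.closure {c : K | ∃ e : K, e ≠ 0 ∧ c = e * σ e} = ⊤ := by
  classical
  have := Fintype.ofFinite K
  set H : AddSubgroup K := AddSubgroup.closure {c : K | ∃ e : K, e ≠ 0 ∧ c = e * σ e} with hH
  set s : Finset K := Finset.univ.erase 0 with hs
  set f : K → K := fun e => e * σ e with hf
  have hscard : s.card = Fintype.card K - 1 := by
    rw [hs, Finset.card_erase_of_mem (Finset.mem_univ 0), Finset.card_univ]
  have hfib : ∀ b ∈ s.image f, (s.filter (fun a => f a = b)).card ≤ 2 := by
    intro b hb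
    obtain ⟨e0, he0, rfl⟩ := Finset.mem_image.mp hb
    have he0' : e0 ≠ 0 := Finset.ne_of_mem_erase he0
    have hsub : s.filter (fun a => f a = f e0) ⊆ {e0, -e0} := by
      intro x hx
      rw [Finset.mem_filter] at hx
      have hx0 : x ≠ 0 := Finset.ne_of_mem_erase hx.1
      have hfx : x * σ x = e0 * σ e0 := hx.2
      have hσe0 : σ e0 ≠ 0 := by
        intro h
        exact he0' ((map_eq_zero σ).mp h)
      have hz : (x / e0) * σ (x / e0) = 1 := by
        rw [map_div₀, div_mul_div_comm, hfx]
        exact div_self (mul_ne_zero he0' hσe0)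
      rcases unit_pm hr hodd σ hσ _ hz with h | h
      · rw [div_eq_iff he0', one_mul] at h
        rw [h]
        exact Finset.mem_insert_self _ _
      · rw [div_eq_iff he0', neg_one_mul] at h
        rw [h]
        exact Finset.mem_insert_of_mem (Finset.mem_singleton_self _)
    exact le_trans (Finset.card_le_card hsub) Finset.card_le_two
  have h1 : s.card ≤ 2 * (s.image f).card := Finset.card_le_mul_card_image s 2 hfib
  -- the image together with `0` lies in `H`
  have h0S : (0 : K) ∉ s.image f := by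
    intro h
    obtain ⟨e, he, hfe⟩ := Finset.mem_image.mp h
    have he' : e ≠ 0 := Finset.ne_of_mem_erase he
    rcases mul_eq_zero.mp hfe with h | h
    · exact he' h
    · exact he' ((map_eq_zero σ).mp h)
  have hTH : ((insert 0 (s.image f) : Finset K) : Set K) ⊆ (H : Set K) := by
    intro x hx
    rw [Finset.coe_insert, Set.mem_insert_iff] at hx
    rcases hx with rfl | hx
    · exact H.zero_mem
    · obtain ⟨e, he, rfl⟩ := Finset.mem_image.mp (Finset.mem_coe.mp hx)
      exact AddSubgroup.subset_closure ⟨e, Finset.ne_of_mem_erase he, rfl⟩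
  have h2 : (s.image f).card + 1 ≤ Nat.card H := by
    have := Set.ncard_le_ncard hTH (Set.toFinite _)
    rw [Set.ncard_coe_finset, Finset.card_insert_of_notMem h0S] at this
    rw [← Nat.card_coe_set_eq] at this
    exact this
  have h3 : Nat.card H ∣ Nat.card K := AddSubgroup.card_addSubgroup_dvd_card H
  have hK : Nat.card K = Fintype.card K := Nat.card_eq_fintype_card
  have hKpos : 0 < Fintype.card K := Fintype.card_pos
  apply AddSubgroup.eq_top_of_card_eq
  obtain ⟨m, hm⟩ := h3
  have hm0 : m ≠ 0 := by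
    rintro rfl
    rw [mul_zero] at hm
    omega
  have hm2 : m < 2 := by
    by_contra hge
    push Not at hge
    have : 2 * Nat.card H ≤ Nat.card H * m := by
      rw [mul_comm]
      exact Nat.mul_le_mul_left _ hge
    omega
  have hm1 : m = 1 := by omega
  rw [hm, hm1, mul_one]

end Cfsg.Agent.S5664P
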