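import Mathlib
import Cfsg.Prelude.Def_GeometricClasses
import Cfsg.Agent.Helper2.S5886.Defs
import Cfsg.Agent.Helper22.S5886YADD
import Cfsg.Agent.Helper23.S5886NORMONE

/-! S5886 piece YBIMOD (driver helper2; helper20): `yset M (K v)` is a `K`-`K`-bimodule. -/

set_option autoImplicit false
set_option linter.unusedVariables false

namespace Cfsg.Agent.S5886P

variable {F K V : Type*} [Field F] [Field K] [Algebra F K]
  [AddCommGroup V] [Module F V] [Module K V] [IsScalarTower F K V]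

namespace YBIMOD

/-- the `K`-linear map `x ↦ e • (x + ((a - 1) * ψ x) • v)` -/
noncomputable def nK (ψ : V →ₗ[K] K) (v : V) (a e : K) : V →ₗ[K] V :=
  e • LinearMap.transvection ((a - 1) • ψ) v

theorem nK_apply (ψ : V →ₗ[K] K) (v : V) (a e : K) (x : V) :
    nK ψ v a e x = e • (x + ((a - 1) * ψ x) • v) := by
  simp [nK, LinearMap.transvection.apply]

theorem nK_det [Finite V] (ψ : V →ₗ[K] K) (v : V) (hψ : ψ v = 1) (a e : K) :
    LinearMap.det (nK ψ v a e) = e ^ Module.finrank K V * a := by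
  unfold nK
  rw [LinearMap.det_smul, LinearMap.transvection.det]
  simp [hψ]

/-- the same map as an `F`-linear map -/
noncomputable def nF (ψ : V →ₗ[K] K) (v : V) (a e : K) : V →ₗ[F] V :=
  (nK ψ v a e).restrictScalars F

theorem nF_apply (ψ : V →ₗ[K] K) (v : V) (a e : K) (x : V) :
    nF (F := F) ψ v a e x = e • (x + ((a - 1) * ψ x) • v) := nK_apply ψ v a e x

theorem nF_det [Finite V] (ψ : V →ₗ[K] K) (v : V) (hψ : ψ v = 1) (a e : K) :
    LinearMap.det (nF (F := F) ψ v a e) = Algebra.norm F (e ^ Module.finrank K V * a) := by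
  unfold nF
  rw [LinearMap.det_restrictScalars, nK_det ψ v hψ]

/-- a functional with `ψ v = 1` -/
theorem exists_psi (v : V) (hv : v ≠ 0) : ∃ ψ : V →ₗ[K] K, ψ v = 1 := by
  have h := (Module.forall_dual_apply_eq_zero_iff K v).not.2 hv
  push Not at h
  obtain ⟨f, hf⟩ := h
  refine ⟨(f v)⁻¹ • f, ?_⟩
  rw [LinearMap.smul_apply, smul_eq_mul, inv_mul_cancel₀ hf]

theorem mem_Kline_iff (v x : V) : x ∈ Kline (F := F) (K := K) v ↔ ∃ l : K, l • v = x := by
  unfold Kline
  rw [Submodule.restrictScalars_mem, Submodule.mem_span_singleton]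

/-- conjugation by `n(a, e)` keeps `yset`: `(e a) • A ∘ (e⁻¹ •) ∈ yset`. -/
theorem conj_mem [Finite F] [Finite K] [Finite V]
    (M : Subgroup (V ≃ₗ[F] V)) (hN : Nrm F K V ⊓ DetIn (⊥ : Subgroup Fˣ) ≤ M) (v : V) (hv : v ≠ 0)
    (a e : K) (he : e ≠ 0) (hnorm : Algebra.norm F (e ^ Module.finrank K V * a) = 1)
    (A : V →ₗ[F] V) (hA : A ∈ yset M (Kline (F := F) (K := K) v)) :
    (e * a) • (A ∘ₗ DistribSMul.toLinearMap F V e⁻¹) ∈ yset M (Kline (F := F) (K := K) v) := by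
  obtain ⟨ψ, hψ⟩ := exists_psi (K := K) v hv
  have hdet : LinearMap.det (nF (F := F) ψ v a e) = 1 := by rw [nF_det ψ v hψ, hnorm]
  have hdet0 : LinearMap.det (nF (F := F) ψ v a e) ≠ 0 := by rw [hdet]; exact one_ne_zero
  set g : V ≃ₗ[F] V := LinearMap.equivOfDetNeZero (nF (F := F) ψ v a e) hdet0 with hg
  have hgcoe : (g : V →ₗ[F] V) = nF (F := F) ψ v a e := LinearEquiv.coe_ofIsUnitDet _
  have hgx : ∀ x, g x = e • (x + ((a - 1) * ψ x) • v) := by
    intro x
    have : g x = (g : V →ₗ[F] V) x := rfl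
    rw [this, hgcoe, nF_apply]
  have hgM : g ∈ M := by
    apply hN
    refine ⟨⟨1, fun k x => ?_⟩, ?_⟩
    · show (g : V →ₗ[F] V) (k • x) = (1 : K ≃ₐ[F] K) k • (g : V →ₗ[F] V) x
      rw [hgcoe]
      show nK ψ v a e (k • x) = k • nK ψ v a e x
      rw [map_smul]
    · show LinearEquiv.det g ∈ (⊥ : Subgroup Fˣ)
      rw [Subgroup.mem_bot]
      apply Units.ext
      rw [LinearEquiv.coe_det, hgcoe, hdet, Units.val_one]
  have hgL : ∀ x ∈ Kline (F := F) (K := K) v, g x ∈ Kline (F := F) (K := K) v := by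
    intro x hx
    rw [mem_Kline_iff] at hx ⊢
    obtain ⟨l, rfl⟩ := hx
    refine ⟨e * (l + (a - 1) * ψ (l • v)), ?_⟩
    rw [hgx, mul_smul, add_smul]
  have hconj := YADD.conj M _ g hgM hgL A hA
  have hEq : (g : V →ₗ[F] V) ∘ₗ A ∘ₗ (g.symm : V →ₗ[F] V) =
      (e * a) • (A ∘ₗ DistribSMul.toLinearMap F V e⁻¹) := by
    apply LinearMap.ext
    intro y
    show g (A (g.symm y)) = (e * a) • A (e⁻¹ • y)
    set z := g.symm y with hz
    have h1 : g z = y := by rw [hz]; exact g.apply_symm_apply y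
    rw [hgx] at h1
    have h2 : z + ((a - 1) * ψ z) • v = e⁻¹ • y := by
      rw [← h1, smul_smul, inv_mul_cancel₀ he, one_smul]
    have hAL := hA.1
    have h3 : A (((a - 1) * ψ z) • v) = 0 :=
      hAL.2 _ ((mem_Kline_iff v _).2 ⟨_, rfl⟩)
    have h4 : A (e⁻¹ • y) = A z := by
      rw [← h2, map_add, h3, add_zero]
    rw [h4]
    obtain ⟨l, hl⟩ := (mem_Kline_iff (F := F) v _).1 (hAL.1 z)
    rw [← hl, hgx, map_smul, hψ, smul_eq_mul, mul_one, ← add_smul, smul_smul, smul_smul]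
    congr 1
    ring
  rw [← hEq]
  exact hconj

end YBIMOD

/-- YBIMOD.lsmul -/
theorem YBIMOD.lsmul [Finite F] [Finite K] [Finite V] (hm : 2 ≤ Module.finrank K V)
    (h2 : 2 ≤ Module.finrank F K)
    (M : Subgroup (V ≃ₗ[F] V)) (hN : Nrm F K V ⊓ DetIn (⊥ : Subgroup Fˣ) ≤ M) (v : V) (hv : v ≠ 0)
    (c : K) (A : V →ₗ[F] V) (hA : A ∈ yset M (Kline (F := F) (K := K) v)) :
    c • A ∈ yset M (Kline (F := F) (K := K) v) := by
  have hc : c ∈ AddSubgroup.closure {a : K | Algebra.norm F a = 1} := by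
    rw [NORMONE h2]; exact AddSubgroup.mem_top c
  induction hc using AddSubgroup.closure_induction with
  | mem a ha =>
    have h := YBIMOD.conj_mem M hN v hv a 1 one_ne_zero (by rw [one_pow, one_mul]; exact ha) A hA
    have hEq : ((1 : K) * a) • (A ∘ₗ DistribSMul.toLinearMap F V (1 : K)⁻¹) = a • A := by
      apply LinearMap.ext
      intro y
      show ((1 : K) * a) • A ((1 : K)⁻¹ • y) = a • A y
      rw [one_mul, inv_one, one_smul]
    rwa [hEq] at h
  | zero =>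
    rw [zero_smul]
    exact YADD.zero M _
  | add x y _ _ hx hy =>
    rw [add_smul]
    exact YADD.add M _ _ _ hx hy
  | neg x _ hx =>
    rw [neg_smul]
    exact YADD.neg M _ _ hx

/-- YBIMOD.rsmul -/
theorem YBIMOD.rsmul [Finite F] [Finite K] [Finite V] (hm : 2 ≤ Module.finrank K V)
    (h2 : 2 ≤ Module.finrank F K)
    (M : Subgroup (V ≃ₗ[F] V)) (hN : Nrm F K V ⊓ DetIn (⊥ : Subgroup Fˣ) ≤ M) (v : V) (hv : v ≠ 0)
    (d : K) (A : V →ₗ[F] V) (hA : A ∈ yset M (Kline (F := F) (K := K) v)) :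
    A ∘ₗ DistribSMul.toLinearMap F V d ∈ yset M (Kline (F := F) (K := K) v) := by
  by_cases hd : d = 0
  · have : A ∘ₗ DistribSMul.toLinearMap F V d = 0 := by
      apply LinearMap.ext
      intro y
      show A (d • y) = 0
      rw [hd, zero_smul, map_zero]
    rw [this]
    exact YADD.zero M _
  · set m := Module.finrank K V with hmdef
    have hnorm : Algebra.norm F ((d⁻¹) ^ m * d ^ m) = 1 := by
      rw [← mul_pow, inv_mul_cancel₀ hd, one_pow, map_one]
    have h := YBIMOD.conj_mem M hN v hv (d ^ m) d⁻¹ (inv_ne_zero hd) hnorm A hA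
    rw [inv_inv] at h
    have hc0 : d⁻¹ * d ^ m ≠ 0 := mul_ne_zero (inv_ne_zero hd) (pow_ne_zero _ hd)
    have h' := YBIMOD.lsmul hm h2 M hN v hv (d⁻¹ * d ^ m)⁻¹ _ h
    rwa [smul_smul, inv_mul_cancel₀ hc0, one_smul] at h'

end Cfsg.Agent.S5886P
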