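import Mathlib
import Cfsg.Agent.Helper12.SzTDefs
import Cfsg.Agent.Helper24.Induced
import Cfsg.Agent.Helper24.Linear
import Cfsg.Agent.Helper24.CenterIndex
import Cfsg.Agent.Helper24.CyclicExtension
import Cfsg.Agent.Helper24.Orthogonality
import Cfsg.Agent.Helper24.CharBasic
import Cfsg.Agent.Helper24.Regular

/-! # SZT piece PSIQ: the sum of the irreducible characters of `Q` non-trivial on the centre `Z`. -/

set_option autoImplicit false

namespace Cfsg.Agent.SZT

open Cfsg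
open scoped Classical ComplexConjugate

universe u

/-- an irreducible character has a central character on a central subgroup -/
theorem PSIQ_central_char {Q : Type u} [Group Q] [Fintype Q] (Z : Subgroup Q)
    (hZc : Z ≤ Subgroup.center Q) (χ : IrrCharacter Q) :
    ∃ μ : Z →* ℂ, (∀ (g : Q) (z : Z), (χ : Q → ℂ) (g * z) = μ z * (χ : Q → ℂ) g) ∧
      ∃ d : ℕ, 0 < d ∧ (χ : Q → ℂ) 1 = d ∧ d ∣ (Subgroup.center Q).index ∧
        ∀ g : Q, ‖(χ : Q → ℂ) g‖ ≤ d := by
  obtain ⟨n, ρ, hirr, hχ⟩ := χ.2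
  have hsc : ∀ z : Z, ∃ c : ℂ, ρ (z : Q) = c • (LinearMap.id : (Fin n → ℂ) →ₗ[ℂ] (Fin n → ℂ)) := by
    intro z
    apply Cfsg.Agent.Helper24.exists_scalar_of_commute ρ (ρ (z : Q))
    intro g
    have hz := Subgroup.mem_center_iff.mp (hZc z.2) g
    have h1 : ρ (z : Q) * ρ g = ρ g * ρ (z : Q) := by
      rw [← map_mul, ← map_mul, hz]
    exact h1
  choose c hc using hsc
  have hpos : 0 < Module.finrank ℂ (Fin n → ℂ) :=
    Cfsg.Agent.Helper24.finrank_pos_of_isIrreducible ρ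
  have hnt : Nontrivial (Fin n → ℂ) := Module.finrank_pos_iff.mp hpos
  obtain ⟨v, hv⟩ := exists_ne (0 : Fin n → ℂ)
  have hinj : ∀ a b : ℂ, a • (LinearMap.id : (Fin n → ℂ) →ₗ[ℂ] (Fin n → ℂ)) =
      b • (LinearMap.id : (Fin n → ℂ) →ₗ[ℂ] (Fin n → ℂ)) → a = b := by
    intro a b hab
    have h1 := congrArg (fun f : (Fin n → ℂ) →ₗ[ℂ] (Fin n → ℂ) => f v) hab
    simp only [LinearMap.smul_apply, LinearMap.id_apply] at h1
    exact smul_left_injective ℂ hv h1
  let μ : Z →* ℂ :=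
    { toFun := c
      map_one' := by
        apply hinj
        rw [← hc, one_smul]
        exact map_one ρ
      map_mul' := by
        intro z z'
        apply hinj
        rw [← hc]
        have h1 : ρ ((z * z' : Z) : Q) = ρ (z : Q) * ρ (z' : Q) := by
          rw [Subgroup.coe_mul, map_mul]
        rw [h1, hc z, hc z']
        ext w
        simp [mul_smul]
        ring }
  refine ⟨μ, ?_, Module.finrank ℂ (Fin n → ℂ), hpos, ?_, ?_, ?_⟩
  · intro g z
    rw [← hχ]
    exact Cfsg.Agent.Helper24.char_mul_of_scalar ρ g z (c z) (hc z)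
  · rw [← hχ]
    simp
  · exact Cfsg.Agent.Helper24.finrank_dvd_index_center ρ
  · intro g
    rw [← hχ]
    exact Cfsg.Agent.Helper24.norm_char_le ρ g

/-- PSIQ -/
theorem isCharacter_psi {Q : Type u} [Group Q] [Fintype Q] (Z : Subgroup Q) (m : ℕ)
    (hZc : Z ≤ Subgroup.center Q) (hcomm : ∀ u t : Q, u * t * u⁻¹ * t⁻¹ ∈ Z)
    (hZ : Nat.card Z = 2 ^ (2 * m + 1)) (hQ : Nat.card Q = (2 ^ (2 * m + 1)) ^ 2)
    (hrad : ∀ μ : Z →* ℂˣ, μ ≠ 1 →
      Nat.card {u : Q // ∀ t : Q, μ ⟨u * t * u⁻¹ * t⁻¹, hcomm u t⟩ = 1} ≤ 2 * 2 ^ (2 * m + 1)) :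
    IsCharacter Q (fun u : Q => if u = 1 then ((2 : ℂ) ^ (2 * m + 1) - 1) * 2 ^ (m + 1)
      else if u ∈ Z then -(2 : ℂ) ^ (m + 1) else 0) := by
  obtain ⟨q, hq⟩ : ∃ q : ℕ, q = 2 ^ (2 * m + 1) := ⟨_, rfl⟩
  obtain ⟨r, hr⟩ : ∃ r : ℂ, r = (2 : ℂ) ^ (m + 1) := ⟨_, rfl⟩
  have hqC : ((2 : ℂ) ^ (2 * m + 1)) = (q : ℂ) := by rw [hq]; push_cast; rfl
  rw [← hq] at hZ hQ hrad
  rw [hqC, ← hr]
  set f : Q → ℂ := fun u : Q => if u = 1 then ((q : ℂ) - 1) * r else if u ∈ Z then -r else 0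
    with hf
  have hq0 : 0 < q := by rw [hq]; positivity
  have hqC0 : (q : ℂ) ≠ 0 := by exact_mod_cast hq0.ne'
  -- conjugation invariance of `Z`
  have hZconj : ∀ g h : Q, h * g * h⁻¹ ∈ Z ↔ g ∈ Z := by
    intro g h
    constructor
    · intro hg
      have h1 := Subgroup.mem_center_iff.mp (hZc hg) h
      have h2 : h * g * h⁻¹ = g := by
        have : h * (h * g * h⁻¹) = h * g := by rw [h1]; group
        exact mul_left_cancel this
      rwa [h2] at hg
    · intro hg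
      have h1 := Subgroup.mem_center_iff.mp (hZc hg) h
      have h2 : h * g * h⁻¹ = g := by rw [h1, mul_assoc, mul_inv_cancel, mul_one]
      rwa [h2]
  have hfcf : IsClassFunction Q f := by
    intro g h
    have h1 : h * g * h⁻¹ = 1 ↔ g = 1 := by
      constructor
      · intro h2
        have : g = h⁻¹ * (h * g * h⁻¹) * h := by group
        rw [this, h2]; group
      · rintro rfl; group
    simp only [hf, h1, hZconj g h]
  apply Cfsg.Agent.Helper24.isCharacter_of_classInner_nat hfcf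
  intro χ
  obtain ⟨μ, hμ, d, hd0, hχ1, hddvd, hnorm⟩ := PSIQ_central_char Z hZc χ
  have hχz : ∀ z : Z, (χ : Q → ℂ) (z : Q) = μ z * d := by
    intro z
    have := hμ 1 z
    rwa [one_mul, hχ1] at this
  have hZcardF : Fintype.card Z = q := by rw [← Nat.card_eq_fintype_card, hZ]
  -- the sum over `Q` reduces to a sum over `Z`
  have hsumZ : ∀ g : Q → ℂ, (∀ u, u ∉ Z → g u = 0) → ∑ u : Q, g u = ∑ z : Z, g (z : Q) := by
    intro g hg
    have h1 : ∑ u : Q, g u = ∑ u ∈ Finset.univ.filter (fun u : Q => u ∈ Z), g u := by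
      symm
      apply Finset.sum_subset (Finset.filter_subset _ _)
      intro u _ hu
      rw [Finset.mem_filter] at hu
      exact hg u (fun h => hu ⟨Finset.mem_univ _, h⟩)
    rw [h1]
    exact Finset.sum_subtype _ (fun u => by simp) g
  have hsum : ∑ u : Q, f u * conj ((χ : Q → ℂ) u) =
      (d : ℂ) * r * ((q : ℂ) - conj (∑ z : Z, μ z)) := by
    rw [hsumZ (fun u => f u * conj ((χ : Q → ℂ) u))]
    · have h1 : ∀ z : Z, f (z : Q) * conj ((χ : Q → ℂ) (z : Q)) =
          (-r * d) * conj (μ z) + (if z = 1 then (q : ℂ) * r * d else 0) := by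
        intro z
        rw [hχz z, map_mul, Complex.conj_natCast]
        by_cases hz1 : z = 1
        · rw [if_pos hz1, hz1, map_one, map_one]
          simp only [hf, Subgroup.coe_one, if_true]
          ring
        · rw [if_neg hz1]
          have hz1' : (z : Q) ≠ 1 := fun h => hz1 (Subtype.ext h)
          simp only [hf, if_neg hz1', if_pos z.2]
          ring
      rw [Finset.sum_congr rfl (fun z _ => h1 z), Finset.sum_add_distrib, ← Finset.mul_sum,
        Finset.sum_ite_eq' Finset.univ (1 : Z), if_pos (Finset.mem_univ _), map_sum]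
      ring
    · intro u hu
      have hu1 : u ≠ 1 := fun h => hu (h ▸ Z.one_mem)
      simp only [hf, if_neg hu1, if_neg hu, zero_mul]
  have hQC : (Nat.card Q : ℂ) = (q : ℂ) ^ 2 := by rw [hQ]; push_cast; rfl
  by_cases hμ1 : μ = 1
  · -- trivial central character: multiplicity `0`
    refine ⟨0, ?_⟩
    unfold Cfsg.classInner
    rw [hsum, hμ1]
    simp only [MonoidHom.one_apply, Finset.sum_const, Finset.card_univ, hZcardF, nsmul_eq_mul,
      mul_one, Complex.conj_natCast, sub_self, mul_zero, Nat.cast_zero]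
  · -- non-trivial central character: `d = 2 ^ m`, multiplicity `1`
    have hsum0 : ∑ z : Z, μ z = 0 := sum_hom_units_eq_zero μ hμ1
    rw [hsum0, map_zero, sub_zero] at hsum
    -- the unit-valued central character
    set μu : Z →* ℂˣ := μ.toHomUnits with hμu
    have hμu_coe : ∀ z : Z, ((μu z : ℂˣ) : ℂ) = μ z := fun z => MonoidHom.coe_toHomUnits μ z
    have hμu1 : μu ≠ 1 := by
      intro h1
      apply hμ1
      ext z
      rw [← hμu_coe, h1]
      rfl
    have hradμ := hrad μu hμu1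
    -- `χ` vanishes off the radical
    have hvan : ∀ u : Q, (¬ ∀ t : Q, μu ⟨u * t * u⁻¹ * t⁻¹, hcomm u t⟩ = 1) →
        (χ : Q → ℂ) u = 0 := by
      intro u hu
      push Not at hu
      obtain ⟨t, ht⟩ := hu
      set z : Z := ⟨u * t * u⁻¹ * t⁻¹, hcomm u t⟩ with hz
      have h1 : t * u * t⁻¹ = u * ((z⁻¹ : Z) : Q) := by
        rw [Subgroup.coe_inv, hz]
        have hzc := Subgroup.mem_center_iff.mp (hZc (hcomm u t)) u
        have : u * (u * t * u⁻¹ * t⁻¹)⁻¹ = (u * t * u⁻¹ * t⁻¹)⁻¹ * u := by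
          have h2 := Subgroup.mem_center_iff.mp (Subgroup.inv_mem _ (hZc (hcomm u t))) u
          exact h2
        rw [this]
        group
      have h2 : (χ : Q → ℂ) (t * u * t⁻¹) = (χ : Q → ℂ) u :=
        Cfsg.Agent.Helper24.isClassFunction_irr χ u t
      rw [h1, hμ u z⁻¹] at h2
      have h3 : μ z⁻¹ ≠ 1 := by
        intro h4
        apply ht
        have h5 : μu z⁻¹ = 1 := by
          apply Units.ext
          rw [hμu_coe, h4]
          rfl
        rw [map_inv, inv_eq_one] at h5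
        exact h5
      have h6 : (μ z⁻¹ - 1) * (χ : Q → ℂ) u = 0 := by linear_combination h2
      rcases mul_eq_zero.mp h6 with h7 | h7
      · exact absurd (sub_eq_zero.mp h7) h3
      · exact h7
    -- the norm sums
    have hself := Cfsg.Agent.Helper24.classInner_irr_self χ
    unfold Cfsg.classInner at hself
    have hnormsq : ∀ u : Q, (χ : Q → ℂ) u * conj ((χ : Q → ℂ) u) =
        ((‖(χ : Q → ℂ) u‖ ^ 2 : ℝ) : ℂ) := by
      intro u
      rw [Complex.mul_conj, Complex.normSq_eq_norm_sq]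
    have hqR0 : (0 : ℝ) < q := by exact_mod_cast hq0
    have htot : ∑ u : Q, ‖(χ : Q → ℂ) u‖ ^ 2 = (q : ℝ) ^ 2 := by
      rw [Finset.sum_congr rfl (fun u _ => hnormsq u), hQC, ← Complex.ofReal_sum] at hself
      have h1 : ((∑ u : Q, ‖(χ : Q → ℂ) u‖ ^ 2 : ℝ) : ℂ) = ((q : ℝ) ^ 2 : ℝ) := by
        have hq2 : ((q : ℂ) ^ 2) ≠ 0 := pow_ne_zero 2 hqC0
        have := (inv_mul_eq_one₀ hq2).mp hself
        rw [← this]
        push_cast
        rfl
      exact Complex.ofReal_injective h1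
    have hdR : ∀ u : Q, ‖(χ : Q → ℂ) u‖ ^ 2 ≤ (d : ℝ) ^ 2 := by
      intro u
      have := hnorm u
      have h0 : 0 ≤ ‖(χ : Q → ℂ) u‖ := norm_nonneg _
      nlinarith
    -- (b) `q ^ 2 ≤ 2 q d ^ 2`
    have hb : (q : ℝ) ^ 2 ≤ 2 * q * (d : ℝ) ^ 2 := by
      set Rad : Finset Q := Finset.univ.filter
        (fun u : Q => ∀ t : Q, μu ⟨u * t * u⁻¹ * t⁻¹, hcomm u t⟩ = 1) with hRad
      have h1 : ∑ u : Q, ‖(χ : Q → ℂ) u‖ ^ 2 = ∑ u ∈ Rad, ‖(χ : Q → ℂ) u‖ ^ 2 := by
        symm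
        apply Finset.sum_subset (Finset.filter_subset _ _)
        intro u _ hu
        rw [Finset.mem_filter] at hu
        rw [hvan u (fun h => hu ⟨Finset.mem_univ _, h⟩), norm_zero]
        norm_num
      have h2 : ∑ u ∈ Rad, ‖(χ : Q → ℂ) u‖ ^ 2 ≤ Rad.card * (d : ℝ) ^ 2 := by
        have := Finset.sum_le_sum (s := Rad) (fun u _ => hdR u)
        rwa [Finset.sum_const, nsmul_eq_mul] at this
      have h3 : Rad.card ≤ 2 * q := by
        rw [hRad, ← Fintype.card_subtype, ← Nat.card_eq_fintype_card]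
        exact hradμ
      have h3' : (Rad.card : ℝ) ≤ 2 * q := by exact_mod_cast h3
      rw [← htot, h1]
      refine h2.trans ?_
      exact mul_le_mul_of_nonneg_right h3' (by positivity)
    -- (c) `q d ^ 2 ≤ q ^ 2`
    have hc : (q : ℝ) * (d : ℝ) ^ 2 ≤ (q : ℝ) ^ 2 := by
      have h1 : ∀ z : Z, ‖(χ : Q → ℂ) (z : Q)‖ ^ 2 = (d : ℝ) ^ 2 := by
        intro z
        rw [hχz z, norm_mul, Cfsg.Agent.Helper24.norm_monoidHom_eq_one μ z, one_mul,
          Complex.norm_natCast]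
      have h2 : ∑ z : Z, ‖(χ : Q → ℂ) (z : Q)‖ ^ 2 = (q : ℝ) * (d : ℝ) ^ 2 := by
        rw [Finset.sum_congr rfl (fun z _ => h1 z), Finset.sum_const, Finset.card_univ, hZcardF,
          nsmul_eq_mul]
      have h3 : ∑ z : Z, ‖(χ : Q → ℂ) (z : Q)‖ ^ 2 ≤ ∑ u : Q, ‖(χ : Q → ℂ) u‖ ^ 2 := by
        have h4 : ∑ z : Z, ‖(χ : Q → ℂ) (z : Q)‖ ^ 2 =
            ∑ u ∈ Finset.univ.filter (fun u : Q => u ∈ Z), ‖(χ : Q → ℂ) u‖ ^ 2 := by
          symm
          exact Finset.sum_subtype _ (fun u => by simp) (fun u => ‖(χ : Q → ℂ) u‖ ^ 2)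
        rw [h4]
        apply Finset.sum_le_sum_of_subset_of_nonneg (Finset.filter_subset _ _)
        intro u _ _
        positivity
      rw [← h2, ← htot]
      exact h3
    -- natural number consequences
    have hbN : q ≤ 2 * d ^ 2 := by
      have h1 : (q : ℝ) * q ≤ q * (2 * (d : ℝ) ^ 2) := by nlinarith
      have h2 : (q : ℝ) ≤ 2 * (d : ℝ) ^ 2 := le_of_mul_le_mul_left h1 hqR0
      exact_mod_cast h2
    have hcN : d ^ 2 ≤ q := by
      have h1 : (q : ℝ) * (d : ℝ) ^ 2 ≤ q * q := by nlinarith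
      have h2 : (d : ℝ) ^ 2 ≤ q := le_of_mul_le_mul_left h1 hqR0
      exact_mod_cast h2
    -- `d` is a power of two
    have hidx : Z.index = q := by
      have h1 := Subgroup.card_mul_index Z
      rw [hZ, hQ, pow_two] at h1
      exact Nat.eq_of_mul_eq_mul_left hq0 h1
    have hdq : d ∣ 2 ^ (2 * m + 1) := by
      rw [← hq, ← hidx]
      exact hddvd.trans (Subgroup.index_dvd_of_le hZc)
    obtain ⟨k, hk, hdk⟩ := (Nat.dvd_prime_pow Nat.prime_two).mp hdq
    have hkm : k = m := by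
      rw [hdk, hq] at hbN hcN
      have h1 : 2 ^ (2 * m + 1) ≤ 2 ^ (2 * k + 1) := by
        calc 2 ^ (2 * m + 1) ≤ 2 * (2 ^ k) ^ 2 := hbN
          _ = 2 ^ (2 * k + 1) := by rw [← pow_mul, pow_succ]; ring_nf
      have h2 : 2 ^ (2 * k) ≤ 2 ^ (2 * m + 1) := by
        calc 2 ^ (2 * k) = (2 ^ k) ^ 2 := by rw [← pow_mul]; ring_nf
          _ ≤ 2 ^ (2 * m + 1) := hcN
      have h3 := (Nat.pow_le_pow_iff_right (by norm_num : 1 < 2)).mp h1
      have h4 := (Nat.pow_le_pow_iff_right (by norm_num : 1 < 2)).mp h2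
      omega
    refine ⟨1, ?_⟩
    unfold Cfsg.classInner
    rw [hsum, hQC, hdk, hkm, hr, hq]
    push_cast
    have h2 : (2 : ℂ) ≠ 0 := by norm_num
    field_simp
    ring

end Cfsg.Agent.SZT
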