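import Mathlib
import Cfsg.Agent.Helper12.SzTDefs
import Cfsg.Agent.Helper24.Induced
import Cfsg.Agent.Helper24.Linear

/-! # SZT piece RZQ: the permutation character on the cosets of a normal subgroup. -/

set_option autoImplicit false

namespace Cfsg.Agent.SZT

open Cfsg
open scoped Classical ComplexConjugate

universe u

/-- RZQ: the permutation character on the cosets of a normal subgroup `Z` -/
theorem isCharacter_ind_one_normal {Q : Type u} [Group Q] [Fintype Q] (Z : Subgroup Q) [Z.Normal] :
    IsCharacter Q (fun u : Q => if u ∈ Z then (Z.index : ℂ) else 0) := by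
  have h1 : IsCharacter Z (fun _ : Z => (1 : ℂ)) := Cfsg.Agent.Helper24.isCharacter_const_one
  have h2 := Cfsg.Agent.Helper24.isCharacter_indFun Z h1
  have h3 : Cfsg.indFun Z (fun _ : Z => (1 : ℂ)) =
      (fun u : Q => if u ∈ Z then (Z.index : ℂ) else 0) := by
    funext u
    rw [Cfsg.Agent.Helper8.indFun_def]
    have hext : ∀ g : Q, Cfsg.extendByZero Z (fun _ : Z => (1 : ℂ)) g = if g ∈ Z then 1 else 0 := by
      intro g
      unfold Cfsg.extendByZero
      by_cases hg : g ∈ Z
      · rw [if_pos hg]
        have : g = ((⟨g, hg⟩ : Z) : Q) := rfl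
        rw [this, Subtype.val_injective.extend_apply]
      · rw [if_neg hg, Function.extend_apply']
        · rfl
        · rintro ⟨z, hz⟩
          exact hg (hz ▸ z.2)
    have hconj : ∀ x : Q, (x⁻¹ * u * x ∈ Z ↔ u ∈ Z) := by
      intro x
      have := Subgroup.Normal.mem_comm_iff (H := Z) inferInstance (a := x⁻¹ * u) (b := x)
      rw [this, mul_inv_cancel_left]
    have hcardZ : (Nat.card Z : ℂ) ≠ 0 := by
      have : 0 < Nat.card Z := Nat.card_pos
      exact_mod_cast this.ne'
    by_cases hu : u ∈ Z
    · rw [if_pos hu]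
      have : ∀ x : Q, Cfsg.extendByZero Z (fun _ : Z => (1 : ℂ)) (x⁻¹ * u * x) = 1 := by
        intro x
        rw [hext, if_pos ((hconj x).mpr hu)]
      rw [Finset.sum_congr rfl (fun x _ => this x), Finset.sum_const, Finset.card_univ,
        nsmul_eq_mul, mul_one, ← Nat.card_eq_fintype_card,
        ← Subgroup.card_mul_index Z]
      push_cast
      field_simp
    · rw [if_neg hu]
      have : ∀ x : Q, Cfsg.extendByZero Z (fun _ : Z => (1 : ℂ)) (x⁻¹ * u * x) = 0 := by
        intro x
        rw [hext, if_neg (fun h => hu ((hconj x).mp h))]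
      rw [Finset.sum_congr rfl (fun x _ => this x), Finset.sum_const_zero, mul_zero]
  rw [← h3]
  exact h2

end Cfsg.Agent.SZT
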