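import Mathlib
import Cfsg.Prelude.Def_BaumannBlocks

/-! Board `blkpieces`, piece NOFIXALT: for `m ≥ 1` some element of `Alt(2m+1)` moves some even-weight vector. -/

set_option autoImplicit false

namespace Cfsg.Agent.BLK

open Cfsg

/-- NOFIXALT: for `m ≥ 1` some element of `Alt(2m+1)` moves some even-weight vector. -/
theorem NOFIXALT (m : ℕ) (hm : 1 ≤ m) :
    ∃ σ ∈ alternatingGroup (Fin (2 * m + 1)), ∃ v : Fin (2 * m + 1) → ZMod 2, ∑ i, v i = 0 ∧
      (fun i => v (σ⁻¹ i)) ≠ v := by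
  classical
  have h0 : 0 < 2 * m + 1 := by omega
  have h1 : 1 < 2 * m + 1 := by omega
  have h2 : 2 < 2 * m + 1 := by omega
  obtain ⟨a, ha⟩ : ∃ a : Fin (2 * m + 1), a = ⟨0, h0⟩ := ⟨_, rfl⟩
  obtain ⟨b, hb⟩ : ∃ b : Fin (2 * m + 1), b = ⟨1, h1⟩ := ⟨_, rfl⟩
  obtain ⟨c, hc⟩ : ∃ c : Fin (2 * m + 1), c = ⟨2, h2⟩ := ⟨_, rfl⟩
  have hab : a ≠ b := by
    intro h
    have := congrArg Fin.val h
    rw [ha, hb] at this
    simp at this
  have hbc : b ≠ c := by
    intro h
    have := congrArg Fin.val h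
    rw [hb, hc] at this
    simp at this
  have hac : a ≠ c := by
    intro h
    have := congrArg Fin.val h
    rw [ha, hc] at this
    simp at this
  refine ⟨Equiv.swap a b * Equiv.swap b c, ?_, Pi.single a 1 + Pi.single b 1, ?_, ?_⟩
  · rw [Equiv.Perm.mem_alternatingGroup, Equiv.Perm.sign_mul, Equiv.Perm.sign_swap hab,
      Equiv.Perm.sign_swap hbc]
    rfl
  · simp only [Pi.add_apply]
    rw [Finset.sum_add_distrib, Finset.sum_pi_single', Finset.sum_pi_single']
    simp only [Finset.mem_univ, if_true]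
    decide
  · intro h
    have hσ : (Equiv.swap a b * Equiv.swap b c)⁻¹ a = c := by
      rw [Equiv.Perm.inv_eq_iff_eq, Equiv.Perm.mul_apply, Equiv.swap_apply_right,
        Equiv.swap_apply_right]
    have h1 := congrFun h a
    simp only [Pi.add_apply] at h1
    rw [hσ, Pi.single_eq_of_ne hac.symm, Pi.single_eq_of_ne hbc.symm, Pi.single_eq_same,
      Pi.single_eq_of_ne hab] at h1
    revert h1
    decide

end Cfsg.Agent.BLK
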