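import Mathlib
import Cfsg.Prelude.Def_Characters
import Cfsg.Agent.Helper12.LOPDefs
import Cfsg.Agent.Helper12.LSLDefs
import Cfsg.Agent.Helper2.KleinOmega

/-!
# S2345, piece KLEIN: a surjective homomorphism `SL_4(F) → Ω⁺_6(F)`

Immediate from helper2's Klein correspondence (`Helper2.Klein.klein`, `Helper2.KleinOmega`):
the image of `klein` is perfect of index dividing `4` in `O⁺_6(F)`, hence it is the commutator
subgroup `Ω⁺_6(F)`.
-/

set_option autoImplicit false

namespace Cfsg.Agent.Helper12.LOP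

open Matrix Cfsg Cfsg.Agent.Helper28.Sg Cfsg.Agent.Helper28.Spin Cfsg.Agent.Helper12.LSL

variable {F : Type*} [Field F] {n : ℕ}

namespace KLEIN

open Cfsg.Agent.Helper2.Klein Cfsg.Agent.Helper2.KleinOmega Cfsg.Agent.Helper2 in
theorem range_klein [Fintype F] :
    commutator (Cfsg.isometryGroup F (Cfsg.quadFormPlus 3 F)) =
      (klein : SpecialLinearGroup (Fin 4) F →* _).range :=
  OmegaGen.commutator_eq_of_perfect_of_index_dvd_four _
    (OmegaGen.commutator_eq_top_of_surjective
      (klein : SpecialLinearGroup (Fin 4) F →* _).rangeRestrict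
      (MonoidHom.rangeRestrict_surjective _) (SL_commutator_eq_top (by simp)))
    (OmegaGen.index_dvd_four_of_card _ card_GO6_eq card_ker_klein_dvd_two)

end KLEIN

open Cfsg.Agent.Helper2.Klein in
/-- **KLEIN** -/
theorem exists_klein [Fintype F] [DecidableEq F] :
    ∃ κ : Matrix.SpecialLinearGroup (Fin 4) F →* GO 3 F, Function.Surjective κ := by
  have hr := KLEIN.range_klein (F := F)
  refine ⟨(klein : SpecialLinearGroup (Fin 4) F →* _).codRestrict
    (Cfsg.Omega F ⇑(QfPlus 3 F)) (fun g => ?_), ?_⟩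
  · show klein g ∈ commutator (Cfsg.isometryGroup F (Cfsg.quadFormPlus 3 F))
    rw [hr]
    exact ⟨g, rfl⟩
  · rintro ⟨y, hy⟩
    have hy' : y ∈ (klein : SpecialLinearGroup (Fin 4) F →* _).range := by
      rw [← hr]
      exact hy
    obtain ⟨g, rfl⟩ := hy'
    exact ⟨g, Subtype.ext rfl⟩

end Cfsg.Agent.Helper12.LOP
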