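import Mathlib
import Cfsg.Agent.Helper12.LSUDefs

set_option autoImplicit false

/-! S2335 piece ISO: every Hermitian matrix of size at least two is moved to one with corner `0`. -/

namespace Cfsg.Agent.Helper12.LSU

open Matrix Cfsg Cfsg.Agent.Helper2.SUGen

variable {F : Type*} [Field F] {q : ℕ}

theorem iso_hact_apply (σ : F →+* F) {m : ℕ} (A H : Matrix (Fin m) (Fin m) F) (i j : Fin m) :
    hact σ A H i j = ∑ l, (∑ k, A i k * H k l) * σ (A j l) := by
  unfold hact
  rw [Matrix.mul_apply]
  refine Finset.sum_congr rfl fun l _ => ?_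
  rw [Matrix.mul_apply, ct_apply]

/-- the corner after the transvection `1 + x E₀₁` -/
theorem iso_transvection_corner (σ : F →+* F) {m : ℕ} (H : Matrix (Fin (m + 2)) (Fin (m + 2)) F)
    (x : F) :
    hact σ (1 + Matrix.single (0 : Fin (m + 2)) 1 x) H 0 0 =
      H 0 0 + x * H 1 0 + H 0 1 * σ x + x * H 1 1 * σ x := by
  have hrow : ∀ k : Fin (m + 2), (1 + Matrix.single (0 : Fin (m + 2)) 1 x) 0 k =
      if k = 0 then 1 else if k = 1 then x else 0 := by
    intro k
    rw [Matrix.add_apply, Matrix.one_apply, Matrix.single_apply]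
    by_cases h0 : k = 0
    · subst h0
      simp
    · by_cases h1 : k = 1
      · subst h1
        simp
      · have h0' : ¬ (0 : Fin (m + 2)) = k := fun h => h0 h.symm
        have h1' : ¬ (1 : Fin (m + 2)) = k := fun h => h1 h.symm
        simp [h0, h1, h0', h1']
  have hsum : ∀ f : Fin (m + 2) → F,
      ∑ k, (1 + Matrix.single (0 : Fin (m + 2)) 1 x) 0 k * f k = f 0 + x * f 1 := by
    intro f
    rw [Finset.sum_congr rfl fun k _ => by rw [hrow k]]
    rw [Fin.sum_univ_succ, Fin.sum_univ_succ]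
    have h10 : (Fin.succ (0 : Fin (m + 1))) = (1 : Fin (m + 2)) := rfl
    have hne : (1 : Fin (m + 2)) ≠ 0 := by
      intro h
      have := congrArg Fin.val h
      simp at this
    rw [h10]
    simp only [if_true, if_neg hne, one_mul]
    have hz : ∑ i : Fin m, (if i.succ.succ = (0 : Fin (m + 2)) then (1 : F)
        else if i.succ.succ = (1 : Fin (m + 2)) then x else 0) * f i.succ.succ = 0 := by
      refine Finset.sum_eq_zero fun i _ => ?_
      have e0 : i.succ.succ ≠ (0 : Fin (m + 2)) := Fin.succ_ne_zero _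
      have e1 : i.succ.succ ≠ (1 : Fin (m + 2)) := by
        intro h
        rw [← h10] at h
        exact Fin.succ_ne_zero _ (Fin.succ_injective _ h)
      rw [if_neg e0, if_neg e1, zero_mul]
    rw [hz, add_zero]
  rw [iso_hact_apply]
  have h2 : ∀ l, (∑ k, (1 + Matrix.single (0 : Fin (m + 2)) 1 x) 0 k * H k l) *
      σ ((1 + Matrix.single (0 : Fin (m + 2)) 1 x) 0 l) =
      σ ((1 + Matrix.single (0 : Fin (m + 2)) 1 x) 0 l) * (H 0 l + x * H 1 l) := by
    intro l
    rw [hsum fun k => H k l, mul_comm]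
  rw [Finset.sum_congr rfl fun l _ => h2 l]
  -- now a sum against `σ` of the row
  have hσrow : ∀ l : Fin (m + 2), σ ((1 + Matrix.single (0 : Fin (m + 2)) 1 x) 0 l) =
      (1 + Matrix.single (0 : Fin (m + 2)) 1 (σ x)) 0 l := by
    intro l
    rw [Matrix.add_apply, Matrix.add_apply, map_add, Matrix.one_apply, Matrix.single_apply,
      Matrix.single_apply]
    congr 1
    · split_ifs <;> simp
    · split_ifs <;> simp
  rw [Finset.sum_congr rfl fun l _ => by rw [hσrow l]]
  have hsum' : ∀ f : Fin (m + 2) → F,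
      ∑ k, (1 + Matrix.single (0 : Fin (m + 2)) 1 (σ x)) 0 k * f k = f 0 + σ x * f 1 := by
    intro f
    have hrow' : ∀ k : Fin (m + 2), (1 + Matrix.single (0 : Fin (m + 2)) 1 (σ x)) 0 k =
        if k = 0 then 1 else if k = 1 then σ x else 0 := by
      intro k
      rw [Matrix.add_apply, Matrix.one_apply, Matrix.single_apply]
      by_cases h0 : k = 0
      · subst h0
        simp
      · by_cases h1 : k = 1
        · subst h1
          simp
        · have h0' : ¬ (0 : Fin (m + 2)) = k := fun h => h0 h.symm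
          have h1' : ¬ (1 : Fin (m + 2)) = k := fun h => h1 h.symm
          simp [h0, h1, h0', h1']
    rw [Finset.sum_congr rfl fun k _ => by rw [hrow' k]]
    rw [Fin.sum_univ_succ, Fin.sum_univ_succ]
    have h10 : (Fin.succ (0 : Fin (m + 1))) = (1 : Fin (m + 2)) := rfl
    have hne : (1 : Fin (m + 2)) ≠ 0 := by
      intro h
      have := congrArg Fin.val h
      simp at this
    rw [h10]
    simp only [if_true, if_neg hne, one_mul]
    have hz : ∑ i : Fin m, (if i.succ.succ = (0 : Fin (m + 2)) then (1 : F)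
        else if i.succ.succ = (1 : Fin (m + 2)) then σ x else 0) * f i.succ.succ = 0 := by
      refine Finset.sum_eq_zero fun i _ => ?_
      have e0 : i.succ.succ ≠ (0 : Fin (m + 2)) := Fin.succ_ne_zero _
      have e1 : i.succ.succ ≠ (1 : Fin (m + 2)) := by
        intro h
        rw [← h10] at h
        exact Fin.succ_ne_zero _ (Fin.succ_injective _ h)
      rw [if_neg e0, if_neg e1, zero_mul]
    rw [hz, add_zero]
  rw [hsum' fun l => H 0 l + x * H 1 l]
  ring

theorem iso_swap_corner (σ : F →+* F) {m : ℕ} (H : Matrix (Fin (m + 2)) (Fin (m + 2)) F) :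
    hact σ ((1 : Matrix (Fin (m + 2)) (Fin (m + 2)) F).submatrix (Equiv.swap 0 1) id) H 0 0 =
      H 1 1 := by
  rw [iso_hact_apply]
  have hrow : ∀ k : Fin (m + 2),
      ((1 : Matrix (Fin (m + 2)) (Fin (m + 2)) F).submatrix (Equiv.swap 0 1) id) 0 k =
        if k = 1 then 1 else 0 := by
    intro k
    rw [Matrix.submatrix_apply, Equiv.swap_apply_left, Matrix.one_apply]
    simp only [id]
    by_cases h : k = 1
    · subst h
      simp
    · have h' : ¬ (1 : Fin (m + 2)) = k := fun e => h e.symm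
      rw [if_neg h, if_neg h']
  simp only [hrow]
  simp

theorem exists_corner_eq_zero [Finite F] (D : Frob F q) {m : ℕ} (hm : 1 ≤ m)
    (H : Matrix (Fin (m + 1)) (Fin (m + 1)) F) (hH : H ∈ Herm D.σ (m + 1)) :
    ∃ A : Matrix (Fin (m + 1)) (Fin (m + 1)) F, A.det ≠ 0 ∧ D.σ A.det = A.det ∧
      hact D.σ A H 0 0 = 0 := by
  classical
  obtain ⟨m', rfl⟩ : ∃ m', m = m' + 1 := ⟨m - 1, by omega⟩
  have hH' : ∀ a b, D.σ (H a b) = H b a := by
    intro a b
    have h1 : ct D.σ H = H := hH
    have h2 := congrFun (congrFun h1 b) a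
    rwa [ct_apply] at h2
  by_cases hd : H 1 1 = 0
  · refine ⟨(1 : Matrix (Fin (m' + 2)) (Fin (m' + 2)) F).submatrix (Equiv.swap 0 1) id, ?_, ?_, ?_⟩
    · rw [Matrix.det_permute, Matrix.det_one, mul_one]
      rcases Int.units_eq_one_or (Equiv.Perm.sign (Equiv.swap (0 : Fin (m' + 2)) 1)) with h | h <;>
        rw [h] <;> simp
    · rw [Matrix.det_permute, Matrix.det_one, mul_one, map_intCast]
    · rw [iso_swap_corner, hd]
  · -- complete the square
    set c := H 0 0 with hc
    set b := H 0 1 with hb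
    set d := H 1 1 with hdd
    have hσc : D.σ c = c := hH' 0 0
    have hσd : D.σ d = d := hH' 1 1
    have h10 : H 1 0 = D.σ b := (hH' 0 1).symm
    have hσd' : D.σ d⁻¹ = d⁻¹ := by rw [map_inv₀, hσd]
    set e : F := (b * D.σ b - c * d) * d⁻¹ * d⁻¹ with he
    have hσe : D.σ e = e := by
      rw [he, map_mul, map_mul, map_sub, map_mul, map_mul, D.invol, hσc, hσd, hσd']
      ring
    obtain ⟨y, hy⟩ : ∃ y : F, y * D.σ y = e := by
      by_cases he0 : e = 0
      · exact ⟨0, by rw [zero_mul, he0]⟩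
      · exact exists_norm D e he0 hσe
    have hne : (0 : Fin (m' + 2)) ≠ 1 := by
      intro h
      have := congrArg Fin.val h
      simp at this
    have hdet : (1 + Matrix.single (0 : Fin (m' + 2)) 1 (y - b * d⁻¹)).det = 1 :=
      Matrix.det_transvection_of_ne _ _ hne _
    refine ⟨1 + Matrix.single (0 : Fin (m' + 2)) 1 (y - b * d⁻¹), ?_, ?_, ?_⟩
    · rw [hdet]
      exact one_ne_zero
    · rw [hdet, map_one]
    · rw [iso_transvection_corner, ← hc, ← hb, ← hdd, h10, map_sub, map_mul, hσd']
      have key : c + (y - b * d⁻¹) * D.σ b + b * (D.σ y - D.σ b * d⁻¹) +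
          (y - b * d⁻¹) * d * (D.σ y - D.σ b * d⁻¹) =
          d * (y * D.σ y) - (b * D.σ b - c * d) * d⁻¹ := by
        field_simp
        ring
      rw [key, hy, he]
      field_simp
      ring

end Cfsg.Agent.Helper12.LSU
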