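import Mathlib
import Cfsg.Agent.Helper12.LSUDefs

set_option autoImplicit false

/-! S2335 piece RAD: a Hermitian matrix with a nonzero radical vector is moved into `emb H'`. -/

namespace Cfsg.Agent.Helper12.LSU

open Matrix Cfsg Cfsg.Agent.Helper2.SUGen

variable {F : Type*} [Field F] {q : ℕ}

theorem rad_hact_apply (σ : F →+* F) {m : ℕ} (A H : Matrix (Fin m) (Fin m) F) (i j : Fin m) :
    hact σ A H i j = ∑ l, (∑ k, A i k * H k l) * σ (A j l) := by
  unfold hact
  rw [Matrix.mul_apply]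
  refine Finset.sum_congr rfl fun l _ => ?_
  rw [Matrix.mul_apply, ct_apply]

theorem rad_det_updateRow_one {n : ℕ} (i : Fin n) (u : Fin n → F) :
    ((1 : Matrix (Fin n) (Fin n) F).updateRow i u).det = u i := by
  have h := Matrix.cramer_transpose_apply (1 : Matrix (Fin n) (Fin n) F) u i
  rw [← h, Matrix.transpose_one, Matrix.cramer_one]
  rfl

theorem rad_sign_fix (σ : F →+* F) {n : ℕ} (s : Equiv.Perm (Fin n)) :
    σ ((Equiv.Perm.sign s : ℤˣ) : ℤ) = (((Equiv.Perm.sign s : ℤˣ) : ℤ) : F) := by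
  rw [map_intCast]

theorem exists_emb_of_radical (D : Frob F q) {m : ℕ}
    (H : Matrix (Fin (m + 1)) (Fin (m + 1)) F) (hH : H ∈ Herm D.σ (m + 1))
    (v : Fin (m + 1) → F) (hv : v ≠ 0) (hHv : H *ᵥ v = 0) :
    ∃ A : Matrix (Fin (m + 1)) (Fin (m + 1)) F, A.det ≠ 0 ∧ D.σ A.det = A.det ∧
      ∃ H' : Matrix (Fin m) (Fin m) F, hact D.σ A H = emb H' := by
  classical
  have hH' : ∀ a b, D.σ (H a b) = H b a := by
    intro a b
    have h1 : ct D.σ H = H := hH
    have h2 := congrFun (congrFun h1 b) a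
    rwa [ct_apply] at h2
  obtain ⟨i, hi⟩ : ∃ i, v i ≠ 0 := by
    by_contra hcon
    push Not at hcon
    exact hv (funext hcon)
  set w : Fin (m + 1) → F := (v i)⁻¹ • v with hw
  have hwi : w i = 1 := by
    rw [hw, Pi.smul_apply, smul_eq_mul, inv_mul_cancel₀ hi]
  have hHw : H *ᵥ w = 0 := by
    rw [hw, Matrix.mulVec_smul, hHv, smul_zero]
  have hHw' : ∀ k, ∑ l, H k l * w l = 0 := by
    intro k
    have := congrFun hHw k
    simpa [Matrix.mulVec, dotProduct] using this
  set u : Fin (m + 1) → F := fun k => D.σ (w k) with hu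
  set B : Matrix (Fin (m + 1)) (Fin (m + 1)) F := (1 : Matrix (Fin (m + 1)) (Fin (m + 1)) F).updateRow i u
    with hB
  set A : Matrix (Fin (m + 1)) (Fin (m + 1)) F := B.submatrix (Equiv.swap 0 i) id with hA
  have hdetB : B.det = 1 := by
    rw [hB, rad_det_updateRow_one, hu]
    simp only
    rw [hwi, map_one]
  have hdetA : A.det = (((Equiv.Perm.sign (Equiv.swap (0 : Fin (m + 1)) i) : ℤˣ) : ℤ) : F) := by
    rw [hA, Matrix.det_permute, hdetB, mul_one]
  have hA0 : ∀ k, A 0 k = u k := by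
    intro k
    rw [hA, Matrix.submatrix_apply, Equiv.swap_apply_left, hB, Matrix.updateRow_self]
    rfl
  refine ⟨A, ?_, ?_, (hact D.σ A H).submatrix Fin.succ Fin.succ, ?_⟩
  · rw [hdetA]
    rcases Int.units_eq_one_or (Equiv.Perm.sign (Equiv.swap (0 : Fin (m + 1)) i)) with h | h <;>
      rw [h] <;> simp
  · rw [hdetA, map_intCast]
  · -- row zero of `A * H` vanishes
    have hrow : ∀ l, ∑ k, A 0 k * H k l = 0 := by
      intro l
      have h1 : ∑ k, A 0 k * H k l = D.σ (∑ k, H l k * w k) := by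
        rw [map_sum]
        refine Finset.sum_congr rfl fun k _ => ?_
        rw [hA0, map_mul, hH' l k, mul_comm]
      rw [h1, hHw', map_zero]
    have h0b : ∀ b, hact D.σ A H 0 b = 0 := by
      intro b
      rw [rad_hact_apply]
      refine Finset.sum_eq_zero fun l _ => ?_
      rw [hrow, zero_mul]
    have ha0 : ∀ a, hact D.σ A H a 0 = 0 := by
      intro a
      rw [rad_hact_apply]
      have h1 : ∀ l, (∑ k, A a k * H k l) * D.σ (A 0 l) = ∑ k, A a k * (H k l * w l) := by
        intro l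
        rw [hA0, hu]
        simp only
        rw [D.invol, Finset.sum_mul]
        refine Finset.sum_congr rfl fun k _ => ?_
        rw [mul_assoc]
      rw [Finset.sum_congr rfl fun l _ => h1 l, Finset.sum_comm]
      refine Finset.sum_eq_zero fun k _ => ?_
      rw [← Finset.mul_sum, hHw', mul_zero]
    ext a b
    refine Fin.cases ?_ (fun a' => ?_) a
    · rw [h0b]
      refine Fin.cases ?_ (fun b' => ?_) b <;> rfl
    · refine Fin.cases ?_ (fun b' => ?_) b
      · rw [ha0]
        rfl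
      · rfl

end Cfsg.Agent.Helper12.LSU
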