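import Mathlib

set_option autoImplicit false
set_option linter.unusedSectionVars false
set_option linter.unusedVariables false

/-! # S0679, chapter (6), piece ORB, core (helper20; Mathlib only)

For `x ∈ G` of cycle type `3² 1⁵` and two fixed points `u ≠ v` of `x`, the centraliser of `x` in `G` is
transitive on the other three fixed points. -/

namespace Cfsg.Agent.S0679P

open Equiv MulAction

variable {α : Type*} [Fintype α] [DecidableEq α] {G : Subgroup (Equiv.Perm α)}

/-- an element of cycle type `{3, 3}` has order 3 -/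
theorem ORB.orderOf_three {x : Perm α} (hct : x.cycleType = {3, 3}) : orderOf x = 3 := by
  rw [← Equiv.Perm.lcm_cycleType, hct]
  rfl

/-- an element of cycle type `{3, 3}` on 11 points has exactly 5 fixed points -/
theorem ORB.card_fix (h11 : Fintype.card α = 11) {x : Perm α} (hct : x.cycleType = {3, 3}) :
    (Finset.univ.filter fun a => x a = a).card = 5 := by
  have h1 : x.support.card = 6 := by
    rw [← Equiv.Perm.sum_cycleType, hct]
    rfl
  have h2 : (Finset.univ.filter fun a => x a = a) = x.supportᶜ := by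
    ext a
    simp [Equiv.Perm.mem_support]
  rw [h2, Finset.card_compl, h11, h1]

/-- core of ORB: `T` (from `SYL`) of order 9 inside `G`, containing `x`, fixing `u, v`, and moving `w` (from `FIXONLY`). -/
theorem ORB.core (h11 : Fintype.card α = 11) {x : Perm α}
    (hct : x.cycleType = {3, 3}) {u v w w' : α} (huv : u ≠ v) (hu : x u = u) (hv : x v = v)
    (hw : x w = w) (hw' : x w' = w') (hwu : w ≠ u) (hwv : w ≠ v) (hw'u : w' ≠ u) (hw'v : w' ≠ v)
    (T : Subgroup (Perm α)) (hTG : T ≤ G) (hT9 : Nat.card T = 9) (hxT : x ∈ T)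
    (hTu : ∀ t ∈ T, t u = u) (hTv : ∀ t ∈ T, t v = v) (hfix : ∃ t ∈ T, t w ≠ w) :
    ∃ c ∈ G, c * x = x * c ∧ c w = w' := by
  classical
  -- `T` is commutative
  have hcomm : ∀ a ∈ T, ∀ b ∈ T, a * b = b * a := by
    intro a ha b hb
    have : Fact (Nat.Prime 3) := ⟨by norm_num⟩
    have hT9' : Nat.card T = 3 ^ 2 := by rw [hT9]; norm_num
    have h := (IsPGroup.isMulCommutative_of_card_eq_prime_sq (p := 3) hT9').is_comm.comm
      (⟨a, ha⟩ : T) ⟨b, hb⟩
    exact congrArg Subtype.val h
  -- the 3-set of the other fixed points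
  set S : Finset α := ((Finset.univ.filter fun a => x a = a).erase u).erase v with hS
  have hmemS : ∀ a, a ∈ S ↔ a ≠ v ∧ a ≠ u ∧ x a = a := by
    intro a
    simp [hS]
  have hScard : S.card = 3 := by
    rw [hS, Finset.card_erase_of_mem, Finset.card_erase_of_mem, ORB.card_fix h11 hct]
    · simp [hu]
    · simp [hv, huv.symm]
  -- the orbit of `w` under `T` lies inside `S`
  have hsmul : ∀ (t : T) (a : α), t • a = (t : Perm α) a := fun _ _ => rfl
  have horb : MulAction.orbit T w ⊆ (S : Set α) := by
    rintro _ ⟨t, rfl⟩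
    have ht : (t : Perm α) ∈ T := t.2
    show t • w ∈ (S : Set α)
    rw [Finset.mem_coe, hmemS, hsmul]
    refine ⟨?_, ?_, ?_⟩
    · intro h
      apply hwv
      apply (t : Perm α).injective
      rw [h, hTv _ ht]
    · intro h
      apply hwu
      apply (t : Perm α).injective
      rw [h, hTu _ ht]
    · have h1 := hcomm _ hxT _ ht
      have h2 : (x * (t : Perm α)) w = ((t : Perm α) * x) w := by rw [h1]
      simpa [Equiv.Perm.mul_apply, hw] using h2
  -- the size of the orbit divides 9
  have hdvd : (MulAction.orbit T w).ncard ∣ 9 := by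
    rw [← MulAction.index_stabilizer, ← hT9]
    exact Subgroup.index_dvd_card _
  have hle : (MulAction.orbit T w).ncard ≤ 3 := by
    have := Set.ncard_le_ncard horb (Finset.finite_toSet S)
    rwa [Set.ncard_coe_finset, hScard] at this
  have hne1 : (MulAction.orbit T w).ncard ≠ 1 := by
    intro h1
    obtain ⟨a, ha⟩ := Set.ncard_eq_one.mp h1
    obtain ⟨t, htT, htw⟩ := hfix
    apply htw
    have h3 : w ∈ MulAction.orbit T w := MulAction.mem_orbit_self w
    have h4 : (⟨t, htT⟩ : T) • w ∈ MulAction.orbit T w := MulAction.mem_orbit w _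
    rw [ha, Set.mem_singleton_iff] at h3 h4
    rw [hsmul] at h4
    simpa [h3] using h4
  have hne0 : (MulAction.orbit T w).ncard ≠ 0 := by
    intro h0
    have hfin : (MulAction.orbit T w).Finite := Set.toFinite _
    rw [Set.ncard_eq_zero hfin] at h0
    have h3 : w ∈ MulAction.orbit T w := MulAction.mem_orbit_self w
    rw [h0] at h3
    exact h3
  have h3 : (MulAction.orbit T w).ncard = 3 := by
    have h9 : (MulAction.orbit T w).ncard ∈ Nat.divisors 9 := Nat.mem_divisors.mpr ⟨hdvd, by norm_num⟩
    have hd : Nat.divisors 9 = {1, 3, 9} := by decide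
    rw [hd] at h9
    simp only [Finset.mem_insert, Finset.mem_singleton] at h9
    omega
  have heq : MulAction.orbit T w = (S : Set α) := by
    apply Set.eq_of_subset_of_ncard_le horb _ (Finset.finite_toSet S)
    rw [Set.ncard_coe_finset, hScard, h3]
  have hw'S : w' ∈ (S : Set α) := by
    rw [Finset.mem_coe, hmemS]
    exact ⟨hw'v, hw'u, hw'⟩
  rw [← heq] at hw'S
  obtain ⟨t, ht⟩ := hw'S
  refine ⟨(t : Perm α), hTG t.2, hcomm _ t.2 _ hxT, ?_⟩
  rw [← hsmul]
  exact ht
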