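import Mathlib
import Cfsg.Prelude.Def_GeometricClasses
import Cfsg.Agent.Helper2.S5886.Defs
import Cfsg.Agent.Helper2.S5664.Defs

/-! # S5664, chapter T, piece TFUNREP: every `K`-linear functional is `B · u₀`. -/

set_option autoImplicit false

namespace Cfsg.Agent.S5664P

open Cfsg.Agent.S5886P

variable {F K V : Type*} [Field F] [Field K] [Algebra F K]
  [AddCommGroup V] [Module F V] [Module K V] [IsScalarTower F K V]

/-- TFUNREP (S-M): `u ↦ B · u` is an injective `K`-linear map `V → Dual K V` (if `B y u = 0` for all `y` then `B u y = - B y u = 0`, `hB.nd`), hence surjective (`Subspace.dual_finrank_eq`, `LinearMap.injective_iff_surjective_of_finrank_eq_finrank`). -/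
theorem TFUNREP [Finite K] [Finite V] (B : V →ₗ[K] V →ₗ[K] K) (hB : IsAltND B) (φ : V →ₗ[K] K) :
    ∃ u₀ : V, ∀ y, φ y = B y u₀ := by
  have hfin : Module.Finite K V := Module.Finite.of_finite
  have hskew : ∀ x y : V, B x y = - B y x := by
    intro x y
    have h := hB.alt (x + y)
    simp only [map_add, LinearMap.add_apply, hB.alt, zero_add, add_zero] at h
    exact eq_neg_of_add_eq_zero_right h
  have hinj : Function.Injective (B.flip : V →ₗ[K] Module.Dual K V) := by
    rw [← LinearMap.ker_eq_bot, LinearMap.ker_eq_bot']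
    intro u hu
    apply hB.nd
    intro y
    rw [hskew u y]
    have : B.flip u y = 0 := by rw [hu]; rfl
    rw [LinearMap.flip_apply] at this
    rw [this, neg_zero]
  have hdim : Module.finrank K V = Module.finrank K (Module.Dual K V) :=
    (Subspace.dual_finrank_eq).symm
  have hsurj : Function.Surjective (B.flip : V →ₗ[K] Module.Dual K V) :=
    (LinearMap.injective_iff_surjective_of_finrank_eq_finrank hdim).mp hinj
  obtain ⟨u₀, hu₀⟩ := hsurj φ
  refine ⟨u₀, fun y => ?_⟩
  rw [← hu₀, LinearMap.flip_apply]

end Cfsg.Agent.S5664P
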