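import Mathlib
import Cfsg.Prelude.Def_GeometricClasses
import Cfsg.Agent.Helper2.S5886.Defs
import Cfsg.Agent.Helper2.S5664.Defs
import Cfsg.Agent.Helper4.S5664PARTNER
import Cfsg.Agent.Helper4.S5664SIEGEL
import Cfsg.Agent.Helper20.S5664TFUNREP
import Cfsg.Agent.Helper12.S5664TRLIN1
import Cfsg.Agent.Helper12.S5664TRKER

/-! # S5664, chapter T, piece TRLIN: the elements of the group `R` are `K`-linear. -/

set_option autoImplicit false

namespace Cfsg.Agent.S5664P

open Cfsg.Agent.S5886P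

variable {F K V : Type*} [Field F] [Field K] [Algebra F K]
  [AddCommGroup V] [Module F V] [Module K V] [IsScalarTower F K V]

/-- TRLIN (M): PARTNER `v'`. `φ y = B (ρ (y + B y v • v') - (y + B y v • v')) v'` is a `K`-linear functional (`y + B y v • v' ∈ v^⊥` since `B v' v = 1` in char 2; TRLIN1); TFUNREP: `φ = B · u₀`; `B v u₀ = φ v = 0`, so `u₀ ∈ v^⊥`; for `u ∈ v^⊥`: `ρ u - u = B u u₀ • v`. SIEGEL `s` for `u₀`: `s u = u + B u u₀ • v` on `v^⊥`, `s⁻¹ u = u + B u u₀ • v` too (char 2). `ρ' = ρ * s⁻¹ ∈ M` fixes `v^⊥` pointwise, so `ρ' = 1 + A`, `A ∈ yset` (TRKER) is `K`-linear (hY); `s` is `K`-linear; `ρ = ρ' * s`. -/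
theorem TRLIN [Finite F] [Finite K] [Finite V] [CharP F 2] (B : V →ₗ[K] V →ₗ[K] K) (hB : IsAltND B)
    (M : Subgroup (V ≃ₗ[F] V)) (hK : SpK F B ≤ M) (hM : M ≤ SpF F B) (v : V) (hv : v ≠ 0)
    (hY : ∀ A ∈ yset M (Kline (F := F) (K := K) v), ∀ (c : K) (x : V), A (c • x) = c • A x)
    (ρ : V ≃ₗ[F] V) (hρM : ρ ∈ M) (hρL : ∀ x ∈ Kline (F := F) (K := K) v, ρ x = x)
    (hρP : ∀ y, B y v = 0 → ρ y - y ∈ Kline (F := F) (K := K) v) (c : K) (x : V) :
    ρ (c • x) = c • ρ x := by
  have hskew : ∀ x y : V, B x y = - B y x := by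
    intro x y
    have h := hB.alt (x + y)
    simp only [map_add, LinearMap.add_apply, hB.alt, zero_add, add_zero] at h
    exact eq_neg_of_add_eq_zero_right h
  obtain ⟨v', hvv'⟩ := PARTNER B hB v hv
  have hv'v : B v' v = -1 := by rw [hskew, hvv']
  -- the projection to `v^⊥`
  have hπ : ∀ y : V, B (y + B y v • v') v = 0 := by
    intro y
    rw [map_add, LinearMap.add_apply, map_smul, LinearMap.smul_apply, hv'v, smul_eq_mul]
    ring
  have hlin1 : ∀ (u : V), B u v = 0 → ∀ c : K, ρ (c • u) = c • ρ u := fun u hu c =>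
    TRLIN1 B hB M hK hM v hv hY ρ hρM hρL hρP u hu c
  -- the functional
  let φ : V →ₗ[K] K :=
    { toFun := fun y => B (ρ (y + B y v • v') - (y + B y v • v')) v'
      map_add' := by
        intro y y'
        have e1 : (y + y') + B (y + y') v • v' = (y + B y v • v') + (y' + B y' v • v') := by
          rw [map_add, LinearMap.add_apply, add_smul]
          abel
        have e2 : ∀ a b : V, (ρ a + ρ b) - (a + b) = (ρ a - a) + (ρ b - b) := by
          intro a b
          abel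
        show B (ρ ((y + y') + B (y + y') v • v') - ((y + y') + B (y + y') v • v')) v' =
          B (ρ (y + B y v • v') - (y + B y v • v')) v' +
            B (ρ (y' + B y' v • v') - (y' + B y' v • v')) v'
        rw [e1, map_add ρ, e2, map_add, LinearMap.add_apply]
      map_smul' := by
        intro k y
        have e1 : (k • y) + B (k • y) v • v' = k • (y + B y v • v') := by
          rw [map_smul, LinearMap.smul_apply, smul_add, smul_eq_mul, mul_smul]
        show B (ρ ((k • y) + B (k • y) v • v') - ((k • y) + B (k • y) v • v')) v' =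
          k • B (ρ (y + B y v • v') - (y + B y v • v')) v'
        rw [e1, hlin1 _ (hπ y) k, ← smul_sub, map_smul, LinearMap.smul_apply] }
  have hφ : ∀ y, φ y = B (ρ (y + B y v • v') - (y + B y v • v')) v' := fun y => rfl
  obtain ⟨u₀, hu₀⟩ := TFUNREP B hB φ
  have hvL : v ∈ Kline (F := F) (K := K) v := Submodule.mem_span_singleton_self v
  have hφv : φ v = 0 := by
    rw [hφ, hB.alt, zero_smul, add_zero, hρL v hvL, sub_self, map_zero, LinearMap.zero_apply]
  have hvu₀ : B v u₀ = 0 := by rw [← hu₀ v, hφv]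
  have hu₀v : B u₀ v = 0 := by rw [hskew, hvu₀, neg_zero]
  -- on `v^⊥`
  have hperp : ∀ u, B u v = 0 → ρ u = u + B u u₀ • v := by
    intro u hu
    obtain ⟨μ, hμ⟩ := Submodule.mem_span_singleton.mp (hρP u hu)
    have h1 : φ u = μ := by
      rw [hφ, hu, zero_smul, add_zero, ← hμ, map_smul, LinearMap.smul_apply, hvv', smul_eq_mul,
        mul_one]
    rw [← hu₀ u, h1, hμ]
    abel
  obtain ⟨s, hs, hsx⟩ := SIEGEL (F := F) B hB v u₀ hu₀v
  have hsperp : ∀ u, B u v = 0 → s u = ρ u := by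
    intro u hu
    rw [hsx, hperp u hu, hu, zero_smul, add_zero]
  have hρ''M : s⁻¹ * ρ ∈ M := M.mul_mem (M.inv_mem (hK hs)) hρM
  have hfix : ∀ y, B y v = 0 → (s⁻¹ * ρ) y = y := by
    intro y hy
    rw [LinearEquiv.mul_apply, ← hsperp y hy]
    have : (s⁻¹ * s) y = y := by rw [inv_mul_cancel]; rfl
    exact this
  obtain ⟨A, hA, hAy⟩ := TRKER B hB M hM v hv (s⁻¹ * ρ) hρ''M hfix
  have hρeq : ∀ y, ρ y = s ((s⁻¹ * ρ) y) := by
    intro y
    rw [← LinearEquiv.mul_apply, mul_inv_cancel_left]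
  rw [hρeq (c • x), hρeq x, hAy, hAy, hY A hA c x, ← smul_add, hs.1]

end Cfsg.Agent.S5664P
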