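import Mathlib
import Cfsg.Agent.Helper12.S5683Lib
import Cfsg.Agent.Helper28.QWitt
import Cfsg.Agent.Helper28.WittOmega
import Cfsg.Agent.Helper21.OrthFrameTrans
import Cfsg.Agent.Helper28.FieldB2

set_option autoImplicit false
set_option linter.unusedSectionVars false
set_option linter.unusedVariables false

/-! # S5683 piece TRANSO (helper20): the rational part of `S(Q)` is transitive, up to rational
scalars, on rational singular points and on rational totally singular pairs. -/

namespace Cfsg.Agent.S5683P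

open Matrix Cfsg.Agent.Helper28.Sg Cfsg.Agent.Helper28.Spin Cfsg.Agent.Helper12.OrthGen
  Cfsg.Agent.S2614

variable {F : Type*} [Field F] {m : ℕ}

namespace TRANSO

section overK

variable {K : Type*} [Field K]

/-- the form vanishes on the span of mutually orthogonal singular vectors -/
theorem Q_span_zero {k : ℕ} (x : Fin k → Idx m → K) (hQ : ∀ a, QfOdd m K (x a) = 0)
    (hB : ∀ a b, B (QfOdd m K) (x a) (x b) = 0) :
    ∀ v ∈ Submodule.span K (Set.range x), QfOdd m K v = 0 := by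
  have hA : ∀ v ∈ Submodule.span K (Set.range x), ∀ a, B (QfOdd m K) (x a) v = 0 := by
    intro v hv a
    induction hv using Submodule.span_induction with
    | mem v hv =>
      obtain ⟨b, rfl⟩ := hv
      exact hB a b
    | zero => exact QuadraticMap.polar_zero_right _ _
    | add v w _ _ hv hw =>
      show QuadraticMap.polar _ _ _ = 0
      rw [QuadraticMap.polar_add_right]
      have h1 : QuadraticMap.polar (⇑(QfOdd m K)) (x a) v = 0 := hv
      have h2 : QuadraticMap.polar (⇑(QfOdd m K)) (x a) w = 0 := hw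
      rw [h1, h2, add_zero]
    | smul c v _ hv =>
      show QuadraticMap.polar _ _ _ = 0
      rw [QuadraticMap.polar_smul_right]
      have h1 : QuadraticMap.polar (⇑(QfOdd m K)) (x a) v = 0 := hv
      rw [h1, smul_zero]
  have hBB : ∀ v ∈ Submodule.span K (Set.range x), ∀ w ∈ Submodule.span K (Set.range x),
      B (QfOdd m K) v w = 0 := by
    intro v hv w hw
    induction hv using Submodule.span_induction with
    | mem v hv =>
      obtain ⟨b, rfl⟩ := hv
      exact hA w hw b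
    | zero => exact QuadraticMap.polar_zero_left _ _
    | add v v' _ _ hv hv' =>
      show QuadraticMap.polar _ _ _ = 0
      rw [QuadraticMap.polar_add_left]
      have h1 : QuadraticMap.polar (⇑(QfOdd m K)) v w = 0 := hv
      have h2 : QuadraticMap.polar (⇑(QfOdd m K)) v' w = 0 := hv'
      rw [h1, h2, add_zero]
    | smul c v _ hv =>
      show QuadraticMap.polar _ _ _ = 0
      rw [QuadraticMap.polar_smul_left]
      have h1 : QuadraticMap.polar (⇑(QfOdd m K)) v w = 0 := hv
      rw [h1, smul_zero]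
  intro v hv
  induction hv using Submodule.span_induction with
  | mem v hv =>
    obtain ⟨b, rfl⟩ := hv
    exact hQ b
  | zero => exact map_zero _
  | add v w hv' hw' hv hw =>
    rw [Q_add, hv, hw]
    have : B (QfOdd m K) v w = 0 := hBB v hv' w hw'
    rw [this]
    simp
  | smul c v _ hv =>
    rw [Q_smul, hv, mul_zero]

/-- Witt + the frame transitivity of `S(Q)`: a totally singular independent family can be moved to
multiples of `e_{ι a}` by an element of `S(Q)` -/
theorem exists_S_move (h2 : (2 : K) ≠ 0) {k : ℕ} (x : Fin k → Idx m → K)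
    (hli : LinearIndependent K x) (hQ : ∀ a, QfOdd m K (x a) = 0)
    (hB : ∀ a b, B (QfOdd m K) (x a) (x b) = 0) (ι : Fin k → Fin m)
    (hι : Function.Injective ι) :
    ∃ s : OG m K, s ∈ S (QfOdd m K) ∧
      ∀ a, ∃ c : K, mt (QfOdd m K) s *ᵥ x a = c • ee K (ι a) := by
  classical
  set y : Fin k → Idx m → K := fun a => ee K (ι a) with hy
  have hyli : LinearIndependent K y := by
    have h1 := (Pi.basisFun K (Idx m)).linearIndependent.comp
      (fun a : Fin k => (Sum.inr (Sum.inl (ι a)) : Idx m))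
      (by
        intro a b h
        apply hι
        simpa using h)
    have h2' : y = (⇑(Pi.basisFun K (Idx m)) ∘ fun a : Fin k => (Sum.inr (Sum.inl (ι a)) : Idx m)) := by
      funext a
      simp [hy, ee, Pi.basisFun_apply]
    rw [h2']
    exact h1
  have hyQ : ∀ a, QfOdd m K (y a) = 0 := fun a => Q_ee _
  have hyB : ∀ a b, B (QfOdd m K) (y a) (y b) = 0 := by
    intro a b
    show B (QfOdd m K) (ee K (ι a)) (ee K (ι b)) = 0
    rw [B_ee]
    simp [ee]
  set bx := Module.Basis.span hli with hbx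
  set by' := Module.Basis.span hyli with hby
  set φ : Submodule.span K (Set.range y) ≃ₗ[K] Submodule.span K (Set.range x) :=
    by'.equiv bx (Equiv.refl _) with hφ
  obtain ⟨g₀, hg₀Q, hg₀⟩ := Cfsg.Agent.Helper28.QWitt.witt_extension (QfOdd m K) (nondeg_odd h2 m)
    _ _ φ (by
      intro v
      rw [Q_span_zero x hQ hB _ (φ v).2, Q_span_zero y hyQ hyB _ v.2])
  obtain ⟨M₀, hM₀⟩ := Cfsg.Agent.Helper28.WO.exists_isom (QfOdd m K) g₀ hg₀Q
  obtain ⟨s, hs, hl⟩ := Cfsg.Agent.OrthBN.exists_S_lines (nondeg_odd h2 m) (sfr m K)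
    (w₀ := dd K m) (by rw [Q_dd]; exact one_ne_zero)
    (by rw [sfr_inV0_iff]; intro j; simp [dd]) M₀ m le_rfl
  refine ⟨s, hs, fun a => ?_⟩
  obtain ⟨⟨c, hc⟩, -⟩ := hl (ι a) (ι a).2
  refine ⟨c, ?_⟩
  have h1 : mt (QfOdd m K) M₀ *ᵥ ee K (ι a) = x a := by
    have e1 : ((by' a : Submodule.span K (Set.range y)) : Idx m → K) = y a :=
      congrArg Subtype.val (Module.Basis.span_apply hyli a)
    have e2 : ((bx a : Submodule.span K (Set.range x)) : Idx m → K) = x a :=
      congrArg Subtype.val (Module.Basis.span_apply hli a)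
    have e3 := hg₀ (by' a)
    rw [hφ, Module.Basis.equiv_apply, Equiv.refl_apply, e1, e2] at e3
    rw [hM₀]
    exact e3
  rw [mt_mul_mulVec, sfr_e, h1] at hc
  exact hc

end overK

section descend

open Cfsg.Agent.Helper28.FM Cfsg.Agent.Helper28.FB

variable (F₀ : Subfield F)

/-- compatibility of the standard forms with the inclusion of the subfield -/
theorem compat : CompatHom F₀.subtype (QfOdd m ↥F₀) (QfOdd m F) := by
  intro w
  rw [Q_apply, Q_apply]
  simp [mv]

/-- pull back a rational vector -/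
def desc (u : Idx m → F) (hu : Rat F₀ u) : Idx m → ↥F₀ := fun i => ⟨u i, hu i⟩

theorem mv_desc (u : Idx m → F) (hu : Rat F₀ u) : mv F₀.subtype (desc F₀ u hu) = u := rfl

theorem Q_desc {u : Idx m → F} (hu : Rat F₀ u) (hQ : QfOdd m F u = 0) :
    QfOdd m ↥F₀ (desc F₀ u hu) = 0 := by
  apply F₀.subtype.injective
  rw [← compat F₀, mv_desc, hQ, map_zero]

theorem B_desc {u w : Idx m → F} (hu : Rat F₀ u) (hw : Rat F₀ w)
    (hB : B (QfOdd m F) u w = 0) :
    B (QfOdd m ↥F₀) (desc F₀ u hu) (desc F₀ w hw) = 0 := by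
  apply F₀.subtype.injective
  have := compatHom_polar (compat (m := m) F₀) (desc F₀ u hu) (desc F₀ w hw)
  rw [mv_desc, mv_desc] at this
  rw [map_zero]
  show F₀.subtype (QuadraticMap.polar _ _ _) = 0
  rw [← this]
  exact hB

/-- base change maps `S(Q₀)` into `S(Q)` -/
theorem bc_mem_S {s : OG m ↥F₀} (hs : s ∈ S (QfOdd m ↥F₀)) :
    bcO (compat (m := m) F₀) s ∈ S (QfOdd m F) := by
  unfold S at hs
  induction hs using Subgroup.closure_induction with
  | mem g hg =>
    obtain ⟨u, v, hu, huv, rfl⟩ := hg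
    have hu' : QfOdd m F (mv F₀.subtype u) = 0 := by rw [compat F₀, hu, map_zero]
    have huv' : B (QfOdd m F) (mv F₀.subtype u) (mv F₀.subtype v) = 0 := by
      show QuadraticMap.polar _ _ _ = 0
      rw [compatHom_polar (compat (m := m) F₀)]
      have : QuadraticMap.polar (⇑(QfOdd m ↥F₀)) u v = 0 := huv
      rw [this, map_zero]
    rw [bcO_siegO (compat (m := m) F₀) u v hu huv hu' huv']
    exact siegO_mem_S _ _ _ _ _
  | one => rw [map_one]; exact (S _).one_mem
  | mul g h _ _ hg hh => rw [map_mul]; exact (S _).mul_mem hg hh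
  | inv g _ hg => rw [map_inv]; exact (S _).inv_mem hg

theorem ratM_bc (s : OG m ↥F₀) : RatM F₀ (mt (QfOdd m F) (bcO (compat (m := m) F₀) s)) := by
  intro i j
  show (((bcO (compat (m := m) F₀) s : OG m F) : GL (Idx m) F) : Matrix (Idx m) (Idx m) F) i j ∈ F₀
  rw [bcO_val]
  exact (((s : GL (Idx m) ↥F₀) : Matrix (Idx m) (Idx m) ↥F₀) i j).2

theorem bc_mulVec (s : OG m ↥F₀) (u₀ : Idx m → ↥F₀) :
    mt (QfOdd m F) (bcO (compat (m := m) F₀) s) *ᵥ mv F₀.subtype u₀ =
      mv F₀.subtype (mt (QfOdd m ↥F₀) s *ᵥ u₀) := by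
  rw [mv_mulVec]
  rfl

theorem mv_smul_ee (c : ↥F₀) (i : Fin m) :
    mv F₀.subtype (c • ee ↥F₀ i) = (c : F) • ee F i := by
  funext k
  simp only [mv, Pi.smul_apply, ee, Pi.single_apply, smul_eq_mul]
  split_ifs <;> simp

theorem two_ne_zero' (h2 : (2 : F) ≠ 0) : (2 : ↥F₀) ≠ 0 := by
  intro h
  apply h2
  have := congrArg F₀.subtype h
  rw [map_ofNat, map_zero] at this
  exact this

/-- the common part: move a rational totally singular independent family -/
theorem exists_move (h2 : (2 : F) ≠ 0) {k : ℕ} (x : Fin k → Idx m → F) (hx : ∀ a, Rat F₀ (x a))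
    (hli : LinearIndependent ↥F₀ (fun a => desc F₀ (x a) (hx a)))
    (hQ : ∀ a, QfOdd m F (x a) = 0) (hB : ∀ a b, B (QfOdd m F) (x a) (x b) = 0)
    (hx0 : ∀ a, x a ≠ 0) (ι : Fin k → Fin m) (hι : Function.Injective ι) :
    ∃ g : OG m F, g ∈ S (QfOdd m F) ∧ RatM F₀ (mt (QfOdd m F) g) ∧
      RatM F₀ (mt (QfOdd m F) g⁻¹) ∧
      ∀ a, ∃ c : F, c ∈ F₀ ∧ c ≠ 0 ∧ mt (QfOdd m F) g *ᵥ x a = c • ee F (ι a) := by
  obtain ⟨s, hs, hmove⟩ := exists_S_move (two_ne_zero' F₀ h2)
    (fun a => desc F₀ (x a) (hx a)) hli (fun a => Q_desc F₀ (hx a) (hQ a))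
    (fun a b => B_desc F₀ (hx a) (hx b) (hB a b)) ι hι
  refine ⟨bcO (compat (m := m) F₀) s, bc_mem_S F₀ hs, ratM_bc F₀ s, ?_, ?_⟩
  · rw [← map_inv]
    exact ratM_bc F₀ s⁻¹
  · intro a
    obtain ⟨c, hc⟩ := hmove a
    have h1 : mt (QfOdd m F) (bcO (compat (m := m) F₀) s) *ᵥ x a = (c : F) • ee F (ι a) := by
      have := bc_mulVec F₀ s (desc F₀ (x a) (hx a))
      rw [mv_desc, hc, mv_smul_ee] at this
      exact this
    refine ⟨(c : F), c.2, ?_, h1⟩
    intro hc0
    rw [hc0, zero_smul] at h1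
    apply hx0 a
    have := mt_inv_mulVec (QfOdd m F) (bcO (compat (m := m) F₀) s) (x a)
    rw [h1, Matrix.mulVec_zero] at this
    exact this.symm

end descend

end TRANSO

open TRANSO in
theorem TRANSO.exists_move₁ (h2 : (2 : F) ≠ 0) (hm : 3 ≤ m) (F₀ : Subfield F) (u : Idx m → F)
    (hu : Rat F₀ u) (hu0 : u ≠ 0) (hQu : QfOdd m F u = 0) (i : Fin m) :
    ∃ (g : OG m F) (c : F), g ∈ S (QfOdd m F) ∧ RatM F₀ (mt (QfOdd m F) g) ∧
      RatM F₀ (mt (QfOdd m F) g⁻¹) ∧ c ∈ F₀ ∧ c ≠ 0 ∧ mt (QfOdd m F) g *ᵥ u = c • ee F i := by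
  have hli : LinearIndependent ↥F₀ (fun a : Fin 1 => desc F₀ ((fun _ => u) a) (hu)) := by
    rw [linearIndependent_unique_iff]
    intro h
    apply hu0
    have := congrArg (Cfsg.Agent.Helper28.FM.mv F₀.subtype) h
    rw [mv_desc] at this
    have e : (fun _ : Fin 1 => u) default = u := rfl
    rw [e] at this
    rw [this]
    funext k
    simp [Cfsg.Agent.Helper28.FM.mv]
  obtain ⟨g, hg, hr, hr', hmove⟩ := exists_move F₀ h2 (fun _ : Fin 1 => u) (fun _ => hu) hli
    (fun _ => hQu) (fun _ _ => by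
      show QuadraticMap.polar _ u u = 0
      rw [QuadraticMap.polar_self, hQu, smul_zero]) (fun _ => hu0) (fun _ => i)
    (fun a b _ => Subsingleton.elim a b)
  obtain ⟨c, hc, hc0, hgu⟩ := hmove 0
  exact ⟨g, c, hg, hr, hr', hc, hc0, hgu⟩

open TRANSO in
theorem TRANSO.exists_move₂ (h2 : (2 : F) ≠ 0) (hm : 3 ≤ m) (F₀ : Subfield F) (u w : Idx m → F)
    (hu : Rat F₀ u) (hw : Rat F₀ w) (hQu : QfOdd m F u = 0) (hQw : QfOdd m F w = 0)
    (huw : B (QfOdd m F) u w = 0) (hind : Indep u w) (i j : Fin m) (hij : i ≠ j) :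
    ∃ (g : OG m F) (c c' : F), g ∈ S (QfOdd m F) ∧ RatM F₀ (mt (QfOdd m F) g) ∧
      RatM F₀ (mt (QfOdd m F) g⁻¹) ∧ c ∈ F₀ ∧ c' ∈ F₀ ∧ c ≠ 0 ∧ c' ≠ 0 ∧
      mt (QfOdd m F) g *ᵥ u = c • ee F i ∧ mt (QfOdd m F) g *ᵥ w = c' • ee F j := by
  have hx : ∀ a : Fin 2, Rat F₀ ((![u, w] : Fin 2 → Idx m → F) a) := by
    intro a
    fin_cases a
    · exact hu
    · exact hw
  have hli : LinearIndependent ↥F₀ (fun a : Fin 2 => desc F₀ ((![u, w] : Fin 2 → Idx m → F) a) (hx a)) := by
    have e : (fun a : Fin 2 => desc F₀ ((![u, w] : Fin 2 → Idx m → F) a) (hx a)) =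
        ![desc F₀ u hu, desc F₀ w hw] := by
      funext a
      fin_cases a <;> rfl
    rw [e, LinearIndependent.pair_iff]
    intro s t hst
    have := congrArg (Cfsg.Agent.Helper28.FM.mv F₀.subtype) hst
    have h1 : (s : F) • u + (t : F) • w = 0 := by
      funext k
      have := congrFun this k
      simpa [Cfsg.Agent.Helper28.FM.mv, desc] using this
    obtain ⟨hs, ht⟩ := hind _ _ h1
    exact ⟨Subtype.ext hs, Subtype.ext ht⟩
  have hu0 : u ≠ 0 := by
    intro h
    have := (hind 1 0 (by rw [h]; simp)).1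
    exact one_ne_zero this
  have hw0 : w ≠ 0 := by
    intro h
    have := (hind 0 1 (by rw [h]; simp)).2
    exact one_ne_zero this
  have huu : B (QfOdd m F) u u = 0 := by
    show QuadraticMap.polar _ u u = 0
    rw [QuadraticMap.polar_self, hQu, smul_zero]
  have hww : B (QfOdd m F) w w = 0 := by
    show QuadraticMap.polar _ w w = 0
    rw [QuadraticMap.polar_self, hQw, smul_zero]
  obtain ⟨g, hg, hr, hr', hmove⟩ := exists_move F₀ h2 (![u, w] : Fin 2 → Idx m → F) hx hli
    (by intro a; fin_cases a; exact hQu; exact hQw)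
    (by
      intro a b
      fin_cases a <;> fin_cases b
      · exact huu
      · exact huw
      · show B (QfOdd m F) w u = 0
        rw [B_comm]; exact huw
      · exact hww)
    (by intro a; fin_cases a; exact hu0; exact hw0) ![i, j]
    (by
      intro a b h
      fin_cases a <;> fin_cases b
      · rfl
      · exact absurd h hij
      · exact absurd h.symm hij
      · rfl)
  obtain ⟨c, hc, hc0, hgu⟩ := hmove 0
  obtain ⟨c', hc', hc0', hgw⟩ := hmove 1
  exact ⟨g, c, c', hg, hr, hr', hc, hc', hc0, hc0', hgu, hgw⟩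

end Cfsg.Agent.S5683P
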