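import Cfsg.Agent.Helper12.S5702Defs2

set_option autoImplicit false
set_option linter.unusedSectionVars false
set_option linter.unusedVariables false

/-! S5702 piece RATSIEG (driver helper12; port of helper23's S5683 piece): Siegel transformations with rational
parameters are rational, and lie in `M`. -/

namespace Cfsg.Agent.S5702P

open Matrix Cfsg.Agent.Helper28.Sg Cfsg.Agent.Helper28.Spin Cfsg.Agent.Helper12.OrthGen
  Cfsg.Agent.S5683P

variable {F : Type*} [Field F] {m : ℕ} {a b : F}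

/-- RATSIEG: Siegel transformations with rational parameters are rational, and lie in `M`. -/
theorem RATSIEG.ratM_siegO (F₀ : Subfield F) (ha : a ∈ F₀) (hb : b ∈ F₀) (u w : Idx m → F)
    (hu : Rat F₀ u) (hw : Rat F₀ w) (hQu : QfMinus m F a b u = 0)
    (huw : B (QfMinus m F a b) u w = 0) :
    RatM F₀ (mt (QfMinus m F a b) (siegO (QfMinus m F a b) u w hQu huw)) := by
  intro i j
  have hj : Rat F₀ (Pi.single j 1 : Idx m → F) := Rat.single j F₀.one_mem
  have h : mt (QfMinus m F a b) (siegO (QfMinus m F a b) u w hQu huw) i j =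
      (mt (QfMinus m F a b) (siegO (QfMinus m F a b) u w hQu huw) *ᵥ
        (Pi.single j 1 : Idx m → F)) i := by
    rw [Matrix.mulVec_single_one]
    rfl
  rw [h, siegO_mulVec]
  have h1 : Rat F₀ ((Pi.single j 1 : Idx m → F) +
      B (QfMinus m F a b) u (Pi.single j 1) • w - B (QfMinus m F a b) w (Pi.single j 1) • u -
      (QfMinus m F a b w * B (QfMinus m F a b) u (Pi.single j 1)) • u) :=
    ((hj.add (Rat.smul (ratB ha hb hu hj) hw)).sub (Rat.smul (ratB ha hb hw hj) hu)).sub
      (Rat.smul (F₀.mul_mem (ratQ ha hb hw) (ratB ha hb hu hj)) hu)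
  exact h1 i

theorem RATSIEG.mem_rad (F₀ : Subfield F) (ha : a ∈ F₀) (hb : b ∈ F₀) (M : Subgroup (OG m F a b))
    (hM : HasRatO F₀ M) (u w : Idx m → F) (hu : Rat F₀ u) (hw : Rat F₀ w)
    (hQu : QfMinus m F a b u = 0) (huw : B (QfMinus m F a b) u w = 0) : w ∈ Rad M u hQu :=
  ⟨huw, hM _ (siegO_mem_S (QfMinus m F a b) u w hQu huw)
    (RATSIEG.ratM_siegO F₀ ha hb u w hu hw hQu huw)⟩

end Cfsg.Agent.S5702P
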