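import Mathlib
import Cfsg.Agent.Helper12.S5702Defs2
import Cfsg.Agent.Helper28.QWitt
import Cfsg.Agent.Helper28.WittOmega
import Cfsg.Agent.Helper21.OrthFrameTrans
import Cfsg.Agent.Helper28.FieldB2

set_option autoImplicit false
set_option linter.unusedSectionVars false
set_option linter.unusedVariables false

/-! # S5702 piece TRANSO (helper20; port of `Cfsg.Agent.Helper20.S5683TRANSO`): the rational part of `S(Q)`
is transitive, up to rational scalars, on rational totally singular independent families. -/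

namespace Cfsg.Agent.S5702P

open Matrix Cfsg.Agent.Helper28.Sg Cfsg.Agent.Helper28.Spin Cfsg.Agent.Helper12.OrthGen
  Cfsg.Agent.S5683P

variable {F : Type*} [Field F] {m : ℕ} {a b : F}

namespace TRANSO

section overK

variable {K : Type*} [Field K] {α β : K}

/-- the form vanishes on the span of mutually orthogonal singular vectors -/
theorem Q_span_zero {k : ℕ} (x : Fin k → Idx m → K) (hQ : ∀ i, QfMinus m K α β (x i) = 0)
    (hB : ∀ i j, B (QfMinus m K α β) (x i) (x j) = 0) :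
    ∀ v ∈ Submodule.span K (Set.range x), QfMinus m K α β v = 0 := by
  have hA : ∀ v ∈ Submodule.span K (Set.range x), ∀ i, B (QfMinus m K α β) (x i) v = 0 := by
    intro v hv i
    induction hv using Submodule.span_induction with
    | mem v hv =>
      obtain ⟨j, rfl⟩ := hv
      exact hB i j
    | zero => exact QuadraticMap.polar_zero_right _ _
    | add v w _ _ hv hw =>
      show QuadraticMap.polar _ _ _ = 0
      rw [QuadraticMap.polar_add_right]
      have h1 : QuadraticMap.polar (⇑(QfMinus m K α β)) (x i) v = 0 := hv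
      have h2 : QuadraticMap.polar (⇑(QfMinus m K α β)) (x i) w = 0 := hw
      rw [h1, h2, add_zero]
    | smul c v _ hv =>
      show QuadraticMap.polar _ _ _ = 0
      rw [QuadraticMap.polar_smul_right]
      have h1 : QuadraticMap.polar (⇑(QfMinus m K α β)) (x i) v = 0 := hv
      rw [h1, smul_zero]
  have hBB : ∀ v ∈ Submodule.span K (Set.range x), ∀ w ∈ Submodule.span K (Set.range x),
      B (QfMinus m K α β) v w = 0 := by
    intro v hv w hw
    induction hv using Submodule.span_induction with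
    | mem v hv =>
      obtain ⟨j, rfl⟩ := hv
      exact hA w hw j
    | zero => exact QuadraticMap.polar_zero_left _ _
    | add v v' _ _ hv hv' =>
      show QuadraticMap.polar _ _ _ = 0
      rw [QuadraticMap.polar_add_left]
      have h1 : QuadraticMap.polar (⇑(QfMinus m K α β)) v w = 0 := hv
      have h2 : QuadraticMap.polar (⇑(QfMinus m K α β)) v' w = 0 := hv'
      rw [h1, h2, add_zero]
    | smul c v _ hv =>
      show QuadraticMap.polar _ _ _ = 0
      rw [QuadraticMap.polar_smul_left]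
      have h1 : QuadraticMap.polar (⇑(QfMinus m K α β)) v w = 0 := hv
      rw [h1, smul_zero]
  intro v hv
  induction hv using Submodule.span_induction with
  | mem v hv =>
    obtain ⟨j, rfl⟩ := hv
    exact hQ j
  | zero => exact map_zero _
  | add v w hv' hw' hv hw =>
    rw [Q_add, hv, hw]
    have : B (QfMinus m K α β) v w = 0 := hBB v hv' w hw'
    rw [this]
    simp
  | smul c v _ hv =>
    rw [Q_smul, hv, mul_zero]

/-- Witt + the frame transitivity of `S(Q)`: a totally singular independent family can be moved to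
multiples of `e_{ι i}` by an element of `S(Q)` -/
theorem exists_S_move (hαβ : 4 * β - α ^ 2 ≠ 0) {k : ℕ} (x : Fin k → Idx m → K)
    (hli : LinearIndependent K x) (hQ : ∀ i, QfMinus m K α β (x i) = 0)
    (hB : ∀ i j, B (QfMinus m K α β) (x i) (x j) = 0) (ι : Fin k → Fin m)
    (hι : Function.Injective ι) :
    ∃ s : OG m K α β, s ∈ S (QfMinus m K α β) ∧
      ∀ i, ∃ c : K, mt (QfMinus m K α β) s *ᵥ x i = c • ee K (ι i) := by
  classical
  set y : Fin k → Idx m → K := fun i => ee K (ι i) with hy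
  have hyli : LinearIndependent K y := by
    have h1 := (Pi.basisFun K (Idx m)).linearIndependent.comp
      (fun i : Fin k => (Sum.inl (Sum.inl (ι i)) : Idx m))
      (by
        intro i j h
        apply hι
        simpa using h)
    have h2' : y = (⇑(Pi.basisFun K (Idx m)) ∘ fun i : Fin k => (Sum.inl (Sum.inl (ι i)) : Idx m)) := by
      funext i
      simp [hy, ee, Pi.basisFun_apply]
    rw [h2']
    exact h1
  have hyQ : ∀ i, QfMinus m K α β (y i) = 0 := fun i => Q_ee _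
  have hyB : ∀ i j, B (QfMinus m K α β) (y i) (y j) = 0 := by
    intro i j
    show B (QfMinus m K α β) (ee K (ι i)) (ee K (ι j)) = 0
    rw [B_ee]
    simp [ee]
  set bx := Module.Basis.span hli with hbx
  set by' := Module.Basis.span hyli with hby
  set φ : Submodule.span K (Set.range y) ≃ₗ[K] Submodule.span K (Set.range x) :=
    by'.equiv bx (Equiv.refl _) with hφ
  obtain ⟨g₀, hg₀Q, hg₀⟩ := Cfsg.Agent.Helper28.QWitt.witt_extension (QfMinus m K α β)
    (nondeg_even hαβ m) _ _ φ (by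
      intro v
      rw [Q_span_zero x hQ hB _ (φ v).2, Q_span_zero y hyQ hyB _ v.2])
  obtain ⟨M₀, hM₀⟩ := Cfsg.Agent.Helper28.WO.exists_isom (QfMinus m K α β) g₀ hg₀Q
  obtain ⟨s, hs, hl⟩ := Cfsg.Agent.OrthBN.exists_S_lines (nondeg_even hαβ m) (sfr m K α β)
    (w₀ := d1 K m) (by rw [Q_d1]; exact one_ne_zero)
    (by rw [sfr_inV0_iff]; intro j; simp [d1]) M₀ m le_rfl
  refine ⟨s, hs, fun i => ?_⟩
  obtain ⟨⟨c, hc⟩, -⟩ := hl (ι i) (ι i).2
  refine ⟨c, ?_⟩
  have h1 : mt (QfMinus m K α β) M₀ *ᵥ ee K (ι i) = x i := by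
    have e1 : ((by' i : Submodule.span K (Set.range y)) : Idx m → K) = y i :=
      congrArg Subtype.val (Module.Basis.span_apply hyli i)
    have e2 : ((bx i : Submodule.span K (Set.range x)) : Idx m → K) = x i :=
      congrArg Subtype.val (Module.Basis.span_apply hli i)
    have e3 := hg₀ (by' i)
    rw [hφ, Module.Basis.equiv_apply, Equiv.refl_apply, e1, e2] at e3
    rw [hM₀]
    exact e3
  rw [mt_mul_mulVec, sfr_e, h1] at hc
  exact hc

end overK

section descend

open Cfsg.Agent.Helper28.FM Cfsg.Agent.Helper28.FB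

variable (F₀ : Subfield F)

/-- compatibility of the standard forms with the inclusion of the subfield -/
theorem compat (ha : a ∈ F₀) (hb : b ∈ F₀) : CompatHom F₀.subtype (QfMinus m ↥F₀ ⟨a, ha⟩ ⟨b, hb⟩) (QfMinus m F a b) := by
  intro w
  rw [Q_apply, Q_apply]
  simp [mv]

/-- pull back a rational vector -/
def desc (u : Idx m → F) (hu : Rat F₀ u) : Idx m → ↥F₀ := fun i => ⟨u i, hu i⟩

theorem mv_desc (u : Idx m → F) (hu : Rat F₀ u) : mv F₀.subtype (desc F₀ u hu) = u := rfl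

theorem Q_desc (ha : a ∈ F₀) (hb : b ∈ F₀) {u : Idx m → F} (hu : Rat F₀ u) (hQ : QfMinus m F a b u = 0) :
    QfMinus m ↥F₀ ⟨a, ha⟩ ⟨b, hb⟩ (desc F₀ u hu) = 0 := by
  apply F₀.subtype.injective
  rw [← compat F₀ ha hb, mv_desc, hQ, map_zero]

theorem B_desc (ha : a ∈ F₀) (hb : b ∈ F₀) {u w : Idx m → F} (hu : Rat F₀ u) (hw : Rat F₀ w)
    (hB : B (QfMinus m F a b) u w = 0) :
    B (QfMinus m ↥F₀ ⟨a, ha⟩ ⟨b, hb⟩) (desc F₀ u hu) (desc F₀ w hw) = 0 := by
  apply F₀.subtype.injective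
  have := compatHom_polar (compat (m := m) F₀ ha hb) (desc F₀ u hu) (desc F₀ w hw)
  rw [mv_desc, mv_desc] at this
  rw [map_zero]
  show F₀.subtype (QuadraticMap.polar _ _ _) = 0
  rw [← this]
  exact hB

/-- base change maps `S(Q₀)` into `S(Q)` -/
theorem bc_mem_S (ha : a ∈ F₀) (hb : b ∈ F₀) {s : OG m ↥F₀ ⟨a, ha⟩ ⟨b, hb⟩} (hs : s ∈ S (QfMinus m ↥F₀ ⟨a, ha⟩ ⟨b, hb⟩)) :
    bcO (compat (m := m) F₀ ha hb) s ∈ S (QfMinus m F a b) := by
  unfold S at hs
  induction hs using Subgroup.closure_induction with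
  | mem g hg =>
    obtain ⟨u, v, hu, huv, rfl⟩ := hg
    have hu' : QfMinus m F a b (mv F₀.subtype u) = 0 := by rw [compat F₀ ha hb, hu, map_zero]
    have huv' : B (QfMinus m F a b) (mv F₀.subtype u) (mv F₀.subtype v) = 0 := by
      show QuadraticMap.polar _ _ _ = 0
      rw [compatHom_polar (compat (m := m) F₀ ha hb)]
      have : QuadraticMap.polar (⇑(QfMinus m ↥F₀ ⟨a, ha⟩ ⟨b, hb⟩)) u v = 0 := huv
      rw [this, map_zero]
    rw [bcO_siegO (compat (m := m) F₀ ha hb) u v hu huv hu' huv']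
    exact siegO_mem_S _ _ _ _ _
  | one => rw [map_one]; exact (S _).one_mem
  | mul g h _ _ hg hh => rw [map_mul]; exact (S _).mul_mem hg hh
  | inv g _ hg => rw [map_inv]; exact (S _).inv_mem hg

theorem ratM_bc (ha : a ∈ F₀) (hb : b ∈ F₀) (s : OG m ↥F₀ ⟨a, ha⟩ ⟨b, hb⟩) :
    RatM F₀ (mt (QfMinus m F a b) (bcO (compat (m := m) F₀ ha hb) s)) := by
  intro i j
  show (((bcO (compat (m := m) F₀ ha hb) s : OG m F a b) : GL (Idx m) F) :
    Matrix (Idx m) (Idx m) F) i j ∈ F₀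
  rw [bcO_val]
  exact (((s : GL (Idx m) ↥F₀) : Matrix (Idx m) (Idx m) ↥F₀) i j).2

theorem bc_mulVec (ha : a ∈ F₀) (hb : b ∈ F₀) (s : OG m ↥F₀ ⟨a, ha⟩ ⟨b, hb⟩) (u₀ : Idx m → ↥F₀) :
    mt (QfMinus m F a b) (bcO (compat (m := m) F₀ ha hb) s) *ᵥ mv F₀.subtype u₀ =
      mv F₀.subtype (mt (QfMinus m ↥F₀ ⟨a, ha⟩ ⟨b, hb⟩) s *ᵥ u₀) := by
  rw [mv_mulVec]
  rfl

theorem mv_smul_ee (c : ↥F₀) (i : Fin m) :
    mv F₀.subtype (c • ee ↥F₀ i) = (c : F) • ee F i := by
  funext k
  simp only [mv, Pi.smul_apply, ee, Pi.single_apply, smul_eq_mul]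
  split_ifs <;> simp

theorem hab' (ha : a ∈ F₀) (hb : b ∈ F₀) (hab : 4 * b - a ^ 2 ≠ 0) :
    4 * (⟨b, hb⟩ : ↥F₀) - (⟨a, ha⟩ : ↥F₀) ^ 2 ≠ 0 := by
  intro h
  apply hab
  have := congrArg F₀.subtype h
  rw [map_sub, map_mul, map_pow, map_ofNat, map_zero] at this
  exact this

/-- the common part: move a rational totally singular independent family -/
theorem exists_move_aux (ha : a ∈ F₀) (hb : b ∈ F₀) (hab : 4 * b - a ^ 2 ≠ 0) {k : ℕ}
    (x : Fin k → Idx m → F)
    (hx : ∀ i, Rat F₀ (x i))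
    (hli : LinearIndependent ↥F₀ (fun i => desc F₀ (x i) (hx i)))
    (hQ : ∀ i, QfMinus m F a b (x i) = 0) (hB : ∀ i j, B (QfMinus m F a b) (x i) (x j) = 0)
    (hx0 : ∀ i, x i ≠ 0) (ι : Fin k → Fin m) (hι : Function.Injective ι) :
    ∃ g : OG m F a b, g ∈ S (QfMinus m F a b) ∧ RatM F₀ (mt (QfMinus m F a b) g) ∧
      RatM F₀ (mt (QfMinus m F a b) g⁻¹) ∧
      ∀ i, ∃ c : F, c ∈ F₀ ∧ c ≠ 0 ∧ mt (QfMinus m F a b) g *ᵥ x i = c • ee F (ι i) := by
  obtain ⟨s, hs, hmove⟩ := exists_S_move (hab' F₀ ha hb hab)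
    (fun i => desc F₀ (x i) (hx i)) hli (fun i => Q_desc F₀ ha hb (hx i) (hQ i))
    (fun i j => B_desc F₀ ha hb (hx i) (hx j) (hB i j)) ι hι
  refine ⟨bcO (compat (m := m) F₀ ha hb) s, bc_mem_S F₀ ha hb hs, ratM_bc F₀ ha hb s, ?_, ?_⟩
  · rw [← map_inv]
    exact ratM_bc F₀ ha hb s⁻¹
  · intro i
    obtain ⟨c, hc⟩ := hmove i
    have h1 : mt (QfMinus m F a b) (bcO (compat (m := m) F₀ ha hb) s) *ᵥ x i =
        (c : F) • ee F (ι i) := by
      have := bc_mulVec F₀ ha hb s (desc F₀ (x i) (hx i))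
      rw [mv_desc, hc, mv_smul_ee] at this
      exact this
    refine ⟨(c : F), c.2, ?_, h1⟩
    intro hc0
    rw [hc0, zero_smul] at h1
    apply hx0 i
    have := mt_inv_mulVec (QfMinus m F a b) (bcO (compat (m := m) F₀ ha hb) s) (x i)
    rw [h1, Matrix.mulVec_zero] at this
    exact this.symm

/-- linear independence descends to the subfield -/
theorem li_desc {k : ℕ} (x : Fin k → Idx m → F) (hx : ∀ i, Rat F₀ (x i))
    (hli : LinearIndependent F x) :
    LinearIndependent ↥F₀ (fun i => desc F₀ (x i) (hx i)) := by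
  rw [Fintype.linearIndependent_iff]
  intro g hg
  have h1 : ∑ i, (g i : F) • x i = 0 := by
    funext k'
    have := congrArg (fun v : Idx m → ↥F₀ => ((v k' : ↥F₀) : F)) hg
    simpa [desc, Finset.sum_apply] using this
  intro i
  have := Fintype.linearIndependent_iff.1 hli (fun i => (g i : F)) h1 i
  exact Subtype.ext this

end descend

end TRANSO

open TRANSO in
theorem TRANSO.exists_move (F₀ : Subfield F) (ha : a ∈ F₀) (hb : b ∈ F₀) (hab : 4 * b - a ^ 2 ≠ 0)
    {k : ℕ} (x : Fin k → Idx m → F) (hx : ∀ i, Rat F₀ (x i)) (hli : LinearIndependent F x)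
    (hQ : ∀ i, QfMinus m F a b (x i) = 0) (hB : ∀ i j, B (QfMinus m F a b) (x i) (x j) = 0)
    (κ : Fin k → Fin m) (hκ : Function.Injective κ) :
    ∃ g : OG m F a b, g ∈ S (QfMinus m F a b) ∧ RatM F₀ (mt (QfMinus m F a b) g) ∧
      RatM F₀ (mt (QfMinus m F a b) g⁻¹) ∧
      ∀ i, ∃ c : F, c ∈ F₀ ∧ c ≠ 0 ∧ mt (QfMinus m F a b) g *ᵥ x i = c • ee F (κ i) :=
  exists_move_aux F₀ ha hb hab x hx (li_desc F₀ x hx hli) hQ hB (fun i => hli.ne_zero i) κ hκ

open TRANSO in
theorem TRANSO.exists_move₁ (hm : 3 ≤ m) (F₀ : Subfield F) (ha : a ∈ F₀) (hb : b ∈ F₀)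
    (hab : 4 * b - a ^ 2 ≠ 0) (u : Idx m → F)
    (hu : Rat F₀ u) (hu0 : u ≠ 0) (hQu : QfMinus m F a b u = 0) (i : Fin m) :
    ∃ (g : OG m F a b) (c : F), g ∈ S (QfMinus m F a b) ∧ RatM F₀ (mt (QfMinus m F a b) g) ∧
      RatM F₀ (mt (QfMinus m F a b) g⁻¹) ∧ c ∈ F₀ ∧ c ≠ 0 ∧
      mt (QfMinus m F a b) g *ᵥ u = c • ee F i := by
  have hli : LinearIndependent F (fun _ : Fin 1 => u) := by
    rw [linearIndependent_unique_iff]
    exact hu0
  obtain ⟨g, hg, hr, hr', hmove⟩ := TRANSO.exists_move F₀ ha hb hab (fun _ : Fin 1 => u)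
    (fun _ => hu) hli (fun _ => hQu) (fun _ _ => by
      show QuadraticMap.polar _ u u = 0
      rw [QuadraticMap.polar_self, hQu, smul_zero]) (fun _ => i)
    (fun i j _ => Subsingleton.elim i j)
  obtain ⟨c, hc, hc0, hgu⟩ := hmove 0
  exact ⟨g, c, hg, hr, hr', hc, hc0, hgu⟩

open TRANSO in
theorem TRANSO.exists_move₂ (hm : 3 ≤ m) (F₀ : Subfield F) (ha : a ∈ F₀) (hb : b ∈ F₀)
    (hab : 4 * b - a ^ 2 ≠ 0) (u w : Idx m → F)
    (hu : Rat F₀ u) (hw : Rat F₀ w) (hQu : QfMinus m F a b u = 0) (hQw : QfMinus m F a b w = 0)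
    (huw : B (QfMinus m F a b) u w = 0) (hind : Indep u w) (i j : Fin m) (hij : i ≠ j) :
    ∃ (g : OG m F a b) (c c' : F), g ∈ S (QfMinus m F a b) ∧ RatM F₀ (mt (QfMinus m F a b) g) ∧
      RatM F₀ (mt (QfMinus m F a b) g⁻¹) ∧ c ∈ F₀ ∧ c' ∈ F₀ ∧ c ≠ 0 ∧ c' ≠ 0 ∧
      mt (QfMinus m F a b) g *ᵥ u = c • ee F i ∧ mt (QfMinus m F a b) g *ᵥ w = c' • ee F j := by
  have hx : ∀ k : Fin 2, Rat F₀ ((![u, w] : Fin 2 → Idx m → F) k) := by
    intro k
    fin_cases k
    · exact hu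
    · exact hw
  have hli : LinearIndependent F (![u, w] : Fin 2 → Idx m → F) := by
    rw [LinearIndependent.pair_iff]
    intro s t hst
    exact hind _ _ hst
  have huu : B (QfMinus m F a b) u u = 0 := by
    show QuadraticMap.polar _ u u = 0
    rw [QuadraticMap.polar_self, hQu, smul_zero]
  have hww : B (QfMinus m F a b) w w = 0 := by
    show QuadraticMap.polar _ w w = 0
    rw [QuadraticMap.polar_self, hQw, smul_zero]
  obtain ⟨g, hg, hr, hr', hmove⟩ := TRANSO.exists_move F₀ ha hb hab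
    (![u, w] : Fin 2 → Idx m → F) hx hli
    (by intro k; fin_cases k; exact hQu; exact hQw)
    (by
      intro k l
      fin_cases k <;> fin_cases l
      · exact huu
      · exact huw
      · show B (QfMinus m F a b) w u = 0
        rw [B_comm]; exact huw
      · exact hww)
    ![i, j]
    (by
      intro k l h
      fin_cases k <;> fin_cases l
      · rfl
      · exact absurd h hij
      · exact absurd h.symm hij
      · rfl)
  obtain ⟨c, hc, hc0, hgu⟩ := hmove 0
  obtain ⟨c', hc', hc0', hgw⟩ := hmove 1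
  exact ⟨g, c, c', hg, hr, hr', hc, hc', hc0, hc0', hgu, hgw⟩

end Cfsg.Agent.S5702P
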