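import Cfsg.Agent.Helper12.S5702Defs2
import Cfsg.Agent.Helper12.S5683COMM2
import Cfsg.Agent.Helper12.S5683WEDGE
import Cfsg.Agent.Helper20.S5702RATSIEG
import Cfsg.Agent.Helper21.S5702PLANERAT
import Cfsg.Agent.Helper17.S5702LEMP

set_option autoImplicit false
set_option linter.unusedSectionVars false
set_option linter.unusedVariables false

/-! # S5702 piece ZLOW (helper20): `α ⨯₃ β = 0` ⇒ some rational singular point is orthogonal to `v, w`. -/

namespace Cfsg.Agent.S5702P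

open Matrix Cfsg.Agent.Helper28.Sg Cfsg.Agent.Helper28.Spin Cfsg.Agent.Helper12.OrthGen
  Cfsg.Agent.S5683P

variable {F : Type*} [Field F] {m : ℕ} {a b : F}

namespace ZLOW

/-! ### coordinates of the vectors of `π` -/

theorem lin3_apply_e (κ : Fin 3 → Fin m) (hκ : Function.Injective κ) (p : Fin 3 → F) (i : Fin 3) :
    lin3 κ p (Sum.inl (Sum.inl (κ i))) = p i := by
  unfold lin3
  simp only [Finset.sum_apply, Pi.smul_apply, ee, Pi.single_apply, smul_eq_mul, Sum.inl.injEq,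
    hκ.eq_iff, mul_ite, mul_one, mul_zero]
  simp

theorem lin3_apply_other (κ : Fin 3 → Fin m) (p : Fin 3 → F) (t : Idx m)
    (ht : ∀ i, t ≠ Sum.inl (Sum.inl (κ i))) : lin3 κ p t = 0 := by
  unfold lin3
  simp only [Finset.sum_apply, Pi.smul_apply, ee, Pi.single_apply, smul_eq_mul]
  apply Finset.sum_eq_zero
  intro i _
  rw [if_neg (ht i), mul_zero]

theorem lin3_eq_zero (κ : Fin 3 → Fin m) (hκ : Function.Injective κ) (p : Fin 3 → F)
    (h : lin3 κ p = 0) : p = 0 := by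
  funext i
  rw [← lin3_apply_e κ hκ p i, h]
  rfl

theorem rat_lin3 (F₀ : Subfield F) (κ : Fin 3 → Fin m) (p : Fin 3 → F) (hp : ∀ i, p i ∈ F₀) :
    Cfsg.Agent.S5683P.Rat F₀ (lin3 κ p) := by
  unfold lin3
  rw [Fin.sum_univ_three]
  exact ((Cfsg.Agent.S5683P.Rat.smul (hp 0) (rat_ee _)).add
    (Cfsg.Agent.S5683P.Rat.smul (hp 1) (rat_ee _))).add
    (Cfsg.Agent.S5683P.Rat.smul (hp 2) (rat_ee _))

/-! ### cross products -/

theorem rat_cross (F₀ : Subfield F) (p q : Fin 3 → F) (hp : ∀ i, p i ∈ F₀) (hq : ∀ i, q i ∈ F₀) :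
    ∀ i, (p ⨯₃ q) i ∈ F₀ := by
  intro i
  rw [cross_apply]
  fin_cases i
  · exact F₀.sub_mem (F₀.mul_mem (hp _) (hq _)) (F₀.mul_mem (hp _) (hq _))
  · exact F₀.sub_mem (F₀.mul_mem (hp _) (hq _)) (F₀.mul_mem (hp _) (hq _))
  · exact F₀.sub_mem (F₀.mul_mem (hp _) (hq _)) (F₀.mul_mem (hp _) (hq _))

theorem rat_single (F₀ : Subfield F) (j : Fin 3) : ∀ i, (Pi.single j (1 : F) : Fin 3 → F) i ∈ F₀ := by
  intro i
  rw [Pi.single_apply]
  split_ifs
  · exact F₀.one_mem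
  · exact F₀.zero_mem

theorem single_cross (F₀ : Subfield F) (j : Fin 3) :
    ∃ p q : Fin 3 → F, (∀ i, p i ∈ F₀) ∧ (∀ i, q i ∈ F₀) ∧ p ⨯₃ q = Pi.single j 1 := by
  fin_cases j
  · refine ⟨Pi.single 1 1, Pi.single 2 1, rat_single F₀ 1, rat_single F₀ 2, ?_⟩
    rw [cross_apply]
    ext i
    fin_cases i <;> simp
  · refine ⟨Pi.single 2 1, Pi.single 0 1, rat_single F₀ 2, rat_single F₀ 0, ?_⟩
    rw [cross_apply]
    ext i
    fin_cases i <;> simp
  · refine ⟨Pi.single 0 1, Pi.single 1 1, rat_single F₀ 0, rat_single F₀ 1, ?_⟩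
    rw [cross_apply]
    ext i
    fin_cases i <;> simp

/-- a non-zero vector is not parallel to both `1_0` and `1_1` -/
theorem exists_cross_single_ne (c : Fin 3 → F) (hc : c ≠ 0) :
    ∃ j : Fin 3, c ⨯₃ (Pi.single j (1 : F) : Fin 3 → F) ≠ 0 := by
  by_contra hcon
  push Not at hcon
  apply hc
  have h0 := hcon 0
  have h1 := hcon 1
  rw [cross_apply] at h0 h1
  funext i
  fin_cases i
  · have := congrFun h1 2
    simpa using this
  · have := congrFun h0 2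
    simpa using this
  · have := congrFun h0 1
    simpa using this

/-- `a ⨯₃ b = 0`, `b ≠ 0` ⇒ `a` is a multiple of `b` -/
theorem exists_smul_of_cross (x y : Fin 3 → F) (h : x ⨯₃ y = 0) (hy : y ≠ 0) :
    ∃ l : F, x = l • y := by
  have h' : ¬ (y ⨯₃ x ≠ 0) := by
    rw [← cross_anticomm, h, neg_zero]
    simp
  rw [crossProduct_ne_zero_iff_linearIndependent, LinearIndependent.pair_iff' hy] at h'
  push Not at h'
  obtain ⟨l, hl⟩ := h'
  exact ⟨l, hl.symm⟩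

/-! ### the elements `z = lin3 κ (c ⨯₃ u)` of `Rad M y` -/

theorem zmem (F₀ : Subfield F) (ha : a ∈ F₀) (hb : b ∈ F₀) (M : Subgroup (OG m F a b))
    (hM : HasRatO F₀ M) (κ : Fin 3 → Fin m) (y w : Idx m → F) (hy : QfMinus m F a b y = 0)
    (hmem : w ∈ Rad M y hy) (hxy : xi3 κ y = 0) (p q : Fin 3 → F) (hp : ∀ i, p i ∈ F₀)
    (hq : ∀ i, q i ∈ F₀) : lin3 κ (xi3 κ w ⨯₃ (p ⨯₃ q)) ∈ Rad M y hy := by
  have h1 : B (QfMinus m F a b) (lin3 κ p) (lin3 κ q) = 0 := B_lin3_lin3 κ p q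
  have h2 : B (QfMinus m F a b) y (lin3 κ p) = 0 := by
    rw [B_comm, B_lin3, hxy, dotProduct_zero]
  have h3 : B (QfMinus m F a b) y (lin3 κ q) = 0 := by
    rw [B_comm, B_lin3, hxy, dotProduct_zero]
  have h4 : lin3 κ q ∈ Rad M (lin3 κ p) (Q_lin3 κ p) :=
    RATSIEG.mem_rad F₀ ha hb M hM _ _ (rat_lin3 F₀ κ p hp) (rat_lin3 F₀ κ q hq) (Q_lin3 κ p) h1
  have h5 := COMM2.mem_rad M (Q_lin3 κ p) (Q_lin3 κ q) hy h1 h2 h3 h4 hmem
  rw [B_lin3, B_lin3] at h5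
  rw [cross_cross_eq_smul_sub_smul', sub_eq_add_neg, lin3_add, lin3_smul, ← neg_smul, lin3_smul,
    neg_smul, ← sub_eq_add_neg, dotProduct_comm (xi3 κ w) q]
  exact h5

theorem zmem_single (F₀ : Subfield F) (ha : a ∈ F₀) (hb : b ∈ F₀) (M : Subgroup (OG m F a b))
    (hM : HasRatO F₀ M) (κ : Fin 3 → Fin m) (y w : Idx m → F) (hy : QfMinus m F a b y = 0)
    (hmem : w ∈ Rad M y hy) (hxy : xi3 κ y = 0) (j : Fin 3) :
    lin3 κ (xi3 κ w ⨯₃ (Pi.single j (1 : F) : Fin 3 → F)) ∈ Rad M y hy := by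
  obtain ⟨p, q, hp, hq, hpq⟩ := single_cross F₀ j
  rw [← hpq]
  exact zmem F₀ ha hb M hM κ y w hy hmem hxy p q hp hq

/-- the conclusion from a rational non-zero vector of `π` orthogonal to `w` -/
theorem concl (F₀ : Subfield F) (κ : Fin 3 → Fin m) (hκ : Function.Injective κ)
    (y w : Idx m → F) (hxy : xi3 κ y = 0) (d : Fin 3 → F) (hd : ∀ i, d i ∈ F₀) (hd0 : d ≠ 0)
    (hdc : d ⬝ᵥ xi3 κ w = 0) :
    ∃ s : Idx m → F, Cfsg.Agent.S5683P.Rat F₀ s ∧ s ≠ 0 ∧ QfMinus m F a b s = 0 ∧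
      B (QfMinus m F a b) s y = 0 ∧ B (QfMinus m F a b) s w = 0 := by
  refine ⟨lin3 κ d, rat_lin3 F₀ κ d hd, ?_, Q_lin3 κ d, ?_, ?_⟩
  · intro h
    exact hd0 (lin3_eq_zero κ hκ d h)
  · rw [B_lin3, hxy, dotProduct_zero]
  · rw [B_lin3, hdc]

/-- case A: `y ∈ π` -/
theorem caseA (hm : 4 ≤ m) (F₀ : Subfield F) (ha : a ∈ F₀) (hb : b ∈ F₀)
    (hab : 4 * b - a ^ 2 ≠ 0) (M : Subgroup (OG m F a b)) (hM : HasRatO F₀ M)
    (hR : RootRatO F₀ M) (κ : Fin 3 → Fin m) (hκ : Function.Injective κ)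
    (d' : Fin 3 → F) (w : Idx m → F) (hy : QfMinus m F a b (lin3 κ d') = 0)
    (hyw : B (QfMinus m F a b) (lin3 κ d') w = 0) (hd' : d' ≠ 0)
    (hmem : w ∈ Rad M (lin3 κ d') hy) (hc : xi3 κ w ≠ 0) :
    ∃ s : Idx m → F, Cfsg.Agent.S5683P.Rat F₀ s ∧ s ≠ 0 ∧ QfMinus m F a b s = 0 ∧
      B (QfMinus m F a b) s (lin3 κ d') = 0 ∧ B (QfMinus m F a b) s w = 0 := by
  have hxy : xi3 κ (lin3 κ d') = 0 := xi3_lin3 κ d'
  have hdc : d' ⬝ᵥ xi3 κ w = 0 := by
    rw [← B_lin3 (a := a) (b := b)]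
    exact hyw
  obtain ⟨j, hj⟩ : ∃ j, d' j ≠ 0 := by
    by_contra hcon
    push Not at hcon
    exact hd' (funext hcon)
  have hz := zmem_single F₀ ha hb M hM κ (lin3 κ d') w hy hmem hxy j
  have hcr := PLANERAT.cross_mem hm F₀ ha hb hab M hM hR κ hκ d'
    (xi3 κ w ⨯₃ (Pi.single j (1 : F) : Fin 3 → F)) hz
  have e : d' ⨯₃ (xi3 κ w ⨯₃ (Pi.single j (1 : F) : Fin 3 → F)) = d' j • xi3 κ w := by
    rw [cross_cross_eq_smul_sub_smul', dotProduct_comm (xi3 κ w) d', hdc, zero_smul, sub_zero,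
      dotProduct_single, mul_one]
  rw [e] at hcr
  -- `c' = d' j • c` is rational and non-zero
  have hc'0 : d' j • xi3 κ w ≠ 0 := by
    intro h
    rcases smul_eq_zero.1 h with h | h
    · exact hj h
    · exact hc h
  obtain ⟨l, hl⟩ := exists_cross_single_ne _ hc'0
  refine concl F₀ κ hκ (lin3 κ d') w hxy _
    (rat_cross F₀ _ _ hcr (rat_single F₀ l)) hl ?_
  have h1 : ((d' j • xi3 κ w) ⨯₃ (Pi.single l (1 : F) : Fin 3 → F)) ⬝ᵥ (d' j • xi3 κ w) = 0 := by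
    rw [dotProduct_comm]
    exact dot_self_cross (d' j • xi3 κ w) (Pi.single l (1 : F) : Fin 3 → F)
  rw [dotProduct_smul, smul_eq_mul] at h1
  exact (mul_eq_zero.1 h1).resolve_left hj

/-- case B: `y ∉ π` -/
theorem caseB (hm : 4 ≤ m) (F₀ : Subfield F) (ha : a ∈ F₀) (hb : b ∈ F₀)
    (hab : 4 * b - a ^ 2 ≠ 0) (M : Subgroup (OG m F a b)) (hM : HasRatO F₀ M)
    (hR : RootRatO F₀ M) (κ : Fin 3 → Fin m) (hκ : Function.Injective κ)
    (y w : Idx m → F) (hy : QfMinus m F a b y = 0)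
    (hmem : w ∈ Rad M y hy) (hxy : xi3 κ y = 0) (hc : xi3 κ w ≠ 0)
    (t : Idx m) (ht : ∀ i, t ≠ Sum.inl (Sum.inl (κ i))) (hyt : y t ≠ 0) :
    ∃ s : Idx m → F, Cfsg.Agent.S5683P.Rat F₀ s ∧ s ≠ 0 ∧ QfMinus m F a b s = 0 ∧
      B (QfMinus m F a b) s y = 0 ∧ B (QfMinus m F a b) s w = 0 := by
  obtain ⟨j, hj⟩ := exists_cross_single_ne _ hc
  set dz : Fin 3 → F := xi3 κ w ⨯₃ (Pi.single j (1 : F) : Fin 3 → F) with hdz
  have hz : lin3 κ dz ∈ Rad M y hy := zmem_single F₀ ha hb M hM κ y w hy hmem hxy j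
  have hz0 : lin3 κ dz ≠ 0 := fun h => hj (lin3_eq_zero κ hκ dz h)
  have hzt : lin3 κ dz t = 0 := lin3_apply_other κ dz t ht
  have hyz : B (QfMinus m F a b) y (lin3 κ dz) = 0 := Rad_perp hz
  have hind : Indep y (lin3 κ dz) := by
    intro x x' h
    have h1 := congrFun h t
    simp only [Pi.add_apply, Pi.smul_apply, smul_eq_mul, hzt, mul_zero, add_zero,
      Pi.zero_apply] at h1
    have hx : x = 0 := (mul_eq_zero.1 h1).resolve_right hyt
    rw [hx, zero_smul, zero_add] at h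
    refine ⟨hx, ?_⟩
    exact (smul_eq_zero.1 h).resolve_right hz0
  have hs1 : B (QfMinus m F a b) (ee F (κ 0)) y = 0 := by
    rw [← xi3_eq_B, hxy]
    rfl
  have hs2 : B (QfMinus m F a b) (ee F (κ 0)) (lin3 κ dz) = 0 := by
    rw [← lin3_single κ 0]
    exact B_lin3_lin3 κ _ _
  obtain ⟨a₁, b₁, c₁, d₁, hdet, hr₁, hr₂⟩ := LEMP.ratLine hm F₀ ha hb hab M hM hR y (lin3 κ dz) hy
    (Q_lin3 κ dz) hyz hind hz (ee F (κ 0)) (rat_ee _) (ee_ne_zero _) (Q_ee _) hs1 hs2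
  have h1 : a₁ * y t ∈ F₀ := by
    have := hr₁ t
    simpa [hzt] using this
  have h2 : c₁ * y t ∈ F₀ := by
    have := hr₂ t
    simpa [hzt] using this
  set μ : F := y t * (c₁ * b₁ - a₁ * d₁) with hμ
  have hμ0 : μ ≠ 0 := by
    rw [hμ]
    apply mul_ne_zero hyt
    intro h
    apply hdet
    linear_combination -h
  have hs : (c₁ * y t) • (a₁ • y + b₁ • lin3 κ dz) - (a₁ * y t) • (c₁ • y + d₁ • lin3 κ dz) =
      μ • lin3 κ dz := by
    rw [hμ]
    module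
  have hrat : Cfsg.Agent.S5683P.Rat F₀ (μ • lin3 κ dz) := by
    rw [← hs]
    exact (Cfsg.Agent.S5683P.Rat.smul h2 hr₁).sub (Cfsg.Agent.S5683P.Rat.smul h1 hr₂)
  refine ⟨μ • lin3 κ dz, hrat, ?_, ?_, ?_, ?_⟩
  · intro h
    rcases smul_eq_zero.1 h with h | h
    · exact hμ0 h
    · exact hz0 h
  · rw [Q_smul, Q_lin3, mul_zero]
  · apply B_smul_left_zero
    rw [B_comm]
    exact hyz
  · apply B_smul_left_zero
    rw [B_lin3, hdz, dotProduct_comm]
    exact dot_self_cross _ _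

/-- `y ∈ π` or some coordinate outside `π` does not vanish -/
theorem mem_or (κ : Fin 3 → Fin m) (hκ : Function.Injective κ) (y : Idx m → F) :
    (∃ d' : Fin 3 → F, y = lin3 κ d') ∨
      ∃ t : Idx m, (∀ i, t ≠ Sum.inl (Sum.inl (κ i))) ∧ y t ≠ 0 := by
  by_cases h : ∃ t : Idx m, (∀ i, t ≠ Sum.inl (Sum.inl (κ i))) ∧ y t ≠ 0
  · exact Or.inr h
  · left
    push Not at h
    refine ⟨fun i => y (Sum.inl (Sum.inl (κ i))), ?_⟩
    funext t
    by_cases ht : ∃ i, t = Sum.inl (Sum.inl (κ i))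
    · obtain ⟨i, rfl⟩ := ht
      rw [lin3_apply_e κ hκ]
    · push Not at ht
      rw [lin3_apply_other κ _ t ht]
      exact h t ht

/-- the core: `y ⊥ π`, `w ∈ Rad M y`, `xi3 κ w ≠ 0` -/
theorem core (hm : 4 ≤ m) (F₀ : Subfield F) (ha : a ∈ F₀) (hb : b ∈ F₀)
    (hab : 4 * b - a ^ 2 ≠ 0) (M : Subgroup (OG m F a b)) (hM : HasRatO F₀ M)
    (hR : RootRatO F₀ M) (κ : Fin 3 → Fin m) (hκ : Function.Injective κ)
    (y w : Idx m → F) (hy : QfMinus m F a b y = 0) (hy0 : y ≠ 0)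
    (hmem : w ∈ Rad M y hy) (hxy : xi3 κ y = 0) (hc : xi3 κ w ≠ 0) :
    ∃ s : Idx m → F, Cfsg.Agent.S5683P.Rat F₀ s ∧ s ≠ 0 ∧ QfMinus m F a b s = 0 ∧
      B (QfMinus m F a b) s y = 0 ∧ B (QfMinus m F a b) s w = 0 := by
  rcases mem_or κ hκ y with ⟨d', rfl⟩ | ⟨t, ht, hyt⟩
  · have hd' : d' ≠ 0 := by
      rintro rfl
      exact hy0 (lin3_zero κ)
    exact caseA hm F₀ ha hb hab M hM hR κ hκ d' w hy (Rad_perp hmem) hd' hmem hc
  · exact caseB hm F₀ ha hb hab M hM hR κ hκ y w hy hmem hxy hc t ht hyt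

end ZLOW

open ZLOW in
theorem ZLOW.exists_perp (hm : 4 ≤ m) (F₀ : Subfield F) (ha : a ∈ F₀) (hb : b ∈ F₀)
    (hab : 4 * b - a ^ 2 ≠ 0) (M : Subgroup (OG m F a b)) (hM : HasRatO F₀ M)
    (hR : RootRatO F₀ M) (κ : Fin 3 → Fin m) (hκ : Function.Injective κ)
    (v w : Idx m → F) (hv : QfMinus m F a b v = 0) (hw : QfMinus m F a b w = 0)
    (hvw : B (QfMinus m F a b) v w = 0) (hind : Indep v w) (hw' : w ∈ Rad M v hv)
    (h0 : xi3 κ v ⨯₃ xi3 κ w = 0) :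
    ∃ s : Idx m → F, Rat F₀ s ∧ s ≠ 0 ∧ QfMinus m F a b s = 0 ∧
      B (QfMinus m F a b) s v = 0 ∧ B (QfMinus m F a b) s w = 0 := by
  have hv0 : v ≠ 0 := by
    intro h
    have := (hind 1 0 (by rw [h]; simp)).1
    exact one_ne_zero this
  have hw0 : w ≠ 0 := by
    intro h
    have := (hind 0 1 (by rw [h]; simp)).2
    exact one_ne_zero this
  by_cases hβ : xi3 κ w = 0
  · by_cases hα : xi3 κ v = 0
    · refine ⟨ee F (κ 0), rat_ee _, ee_ne_zero _, Q_ee _, ?_, ?_⟩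
      · rw [← xi3_eq_B, hα]
        rfl
      · rw [← xi3_eq_B, hβ]
        rfl
    · obtain ⟨s, h1, h2, h3, h4, h5⟩ := core hm F₀ ha hb hab M hM hR κ hκ w v hw hw0
        (Rad_swap hw hw') hβ hα
      exact ⟨s, h1, h2, h3, h5, h4⟩
  · obtain ⟨l, hl⟩ := exists_smul_of_cross _ _ h0 hβ
    have hww : B (QfMinus m F a b) w w = 0 := B_self_of_singular _ hw
    have hQy : QfMinus m F a b ((1 : F) • v + (-l) • w) = 0 := by
      rw [one_smul, Q_add, Q_smul, hv, hw, mul_zero, B_smul_right_zero _ _ hvw]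
      simp
    have hyw : B (QfMinus m F a b) ((1 : F) • v + (-l) • w) ((0 : F) • v + (1 : F) • w) = 0 := by
      rw [zero_smul, zero_add, one_smul, one_smul]
      show QuadraticMap.polar _ _ _ = 0
      rw [QuadraticMap.polar_add_left, QuadraticMap.polar_smul_left]
      have e1 : QuadraticMap.polar (⇑(QfMinus m F a b)) v w = 0 := hvw
      have e2 : QuadraticMap.polar (⇑(QfMinus m F a b)) w w = 0 := hww
      rw [e1, e2, smul_zero, add_zero]
    have hvw1 : B (QfMinus m F a b) v (((1 : F) * 1 - (-l) * 0) • w) = 0 :=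
      B_smul_right_zero _ _ hvw
    have hE := WEDGE.siegO_eq v w hv hw hvw 1 (-l) 0 1 hQy hyw hvw1
    have hmem1 : ((1 : F) * 1 - (-l) * 0) • w ∈ Rad M v hv := by
      have e : ((1 : F) * 1 - (-l) * 0) • w = w := by
        rw [mul_zero, sub_zero, mul_one, one_smul]
      rw [e]
      exact hw'
    have hmem2 : (0 : F) • v + (1 : F) • w ∈ Rad M ((1 : F) • v + (-l) • w) hQy := by
      refine ⟨hyw, ?_⟩
      rw [hE]
      exact hmem1.2
    have hy' : QfMinus m F a b (v - l • w) = 0 := by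
      have e : v - l • w = (1 : F) • v + (-l) • w := by
        rw [one_smul, neg_smul, sub_eq_add_neg]
      rw [e]
      exact hQy
    have hmem3 : w ∈ Rad M (v - l • w) hy' :=
      mem_Rad_of_eq hy' hmem2 (by rw [one_smul, neg_smul, sub_eq_add_neg])
        (by rw [zero_smul, zero_add, one_smul])
    have hy0 : v - l • w ≠ 0 := by
      intro h
      have := (hind 1 (-l) (by rw [one_smul, neg_smul, ← sub_eq_add_neg]; exact h)).1
      exact one_ne_zero this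
    have hxy : xi3 κ (v - l • w) = 0 := by
      have e : v - l • w = v + (-l) • w := by rw [neg_smul, sub_eq_add_neg]
      rw [e, xi3_add, xi3_smul, hl]
      module
    obtain ⟨s, h1, h2, h3, h4, h5⟩ := core hm F₀ ha hb hab M hM hR κ hκ (v - l • w) w hy' hy0
      hmem3 hxy hβ
    refine ⟨s, h1, h2, h3, ?_, h5⟩
    have e : v = (v - l • w) + l • w := by
      rw [sub_add_cancel]
    rw [e]
    exact B_add_right_zero _ h4 (B_smul_right_zero _ _ h5)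

end Cfsg.Agent.S5702P
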