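import Cfsg.Agent.Helper12.S5702Defs2
import Cfsg.Agent.Helper17.S5683MEMSUBF

set_option autoImplicit false
set_option linter.unusedSectionVars false
set_option linter.unusedVariables false

/-! S5702 piece HASRAT (driver helper12; port of helper18's S5683 piece): an overgroup of `N ∩ Ω` contains the
rational elements of `S(Q)`. -/

namespace Cfsg.Agent.S5702P

open Matrix Cfsg.Agent.Helper28.Sg Cfsg.Agent.Helper28.Spin Cfsg.Agent.Helper12.OrthGen
  Cfsg.Agent.S5683P

variable {F : Type*} [Field F] {m : ℕ} {a b : F}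

/-- HASRAT: an overgroup of `N ∩ Ω` contains the rational elements of `S(Q)`. -/
theorem HASRAT.hasRatO [Fintype F] (hm : 3 ≤ m) (F₀ : Subfield F) (hab : 4 * b - a ^ 2 ≠ 0)
    (M : Subgroup (Matrix.GeneralLinearGroup (Idx m) F))
    (hHM : Cfsg.Geo.subfieldSubgroup F₀ (1 : Matrix.GeneralLinearGroup (Idx m) F) ⊓
      Cfsg.Geo.omegaGL ⇑(QfMinus m F a b) ≤ M) :
    HasRatO F₀ (M.comap (Cfsg.isometryGroup F ⇑(QfMinus m F a b)).subtype) := by
  intro g hgS hgR
  rw [Subgroup.mem_comap]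
  apply hHM
  refine ⟨?_, ?_⟩
  · exact (MEMSUBF.mem_subf_one_iff F₀ _).2 (InN.of_ratM hgR)
  · exact (Cfsg.Agent.Helper28.NM.mem_omegaGL_iff (QfMinus m F a b) _).2
      ⟨g, S_le_Omega_even hab hm hgS, rfl⟩

end Cfsg.Agent.S5702P
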