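import Mathlib
import Cfsg.Prelude.Def_GeometricClasses
import Cfsg.Agent.Helper18.S5707.Defs

/-! S5707 piece TENSV: pure tensor matrices on pure tensor vectors. -/

set_option autoImplicit false

namespace Cfsg.Agent.S5707P

open Matrix

variable {F : Type*} [Field F] {k t : ℕ}

theorem TENSV.tensM_mulVec_pure (Ms : Fin t → Matrix (Fin k) (Fin k) F) (xs : Fin t → (Fin k → F)) :
    tensM Ms *ᵥ (fun a : X k t => ∏ i, xs i (a i)) = fun a : X k t => ∏ i, (Ms i *ᵥ xs i) (a i) := by
  funext a
  unfold tensM Matrix.mulVec dotProduct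
  rw [Finset.prod_univ_sum, Fintype.piFinset_univ]
  apply Finset.sum_congr rfl
  intro z _
  rw [Finset.prod_mul_distrib]

end Cfsg.Agent.S5707P
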