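import Mathlib
import Cfsg.Agent.Helper12.SzTDefs
import Cfsg.Agent.Helper15.O7920n

/-! # SZT piece COVER: from a non-zero structure constant to a factorisation. -/

set_option autoImplicit false

namespace Cfsg.Agent.SZT

open Cfsg Cfsg.Agent.Helper11.SCTI Cfsg.Agent.Helper24
open scoped Classical ComplexConjugate

universe u

variable {G : Type u} [Group G] [Fintype G]

/-- generic: from a non-zero structure constant to a factorisation -/
theorem covering_of_sconst (x g : G)
    (h : ∑ ψ : IrrCharacter G, (ψ : G → ℂ) x * (ψ : G → ℂ) x *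
      (starRingEnd ℂ) ((ψ : G → ℂ) g) / (ψ : G → ℂ) 1 ≠ 0) :
    ∃ u v : G, g = (u * x * u⁻¹) * (v * x * v⁻¹) := by
  have key := Cfsg.Agent.Helper15.O7920.card_factorizations_gen x x g
  have hidx : ((Subgroup.centralizer ({x} : Set G)).index : ℂ) ≠ 0 := by
    have : (Subgroup.centralizer ({x} : Set G)).index ≠ 0 := Subgroup.index_ne_zero_of_finite
    exact_mod_cast this
  have hne : Nat.card {s : G // IsConj x s ∧ IsConj x (s⁻¹ * g)} ≠ 0 := by
    intro h0
    rw [h0, Nat.cast_zero, zero_mul] at key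
    exact mul_ne_zero (mul_ne_zero hidx hidx) h key.symm
  have hnonempty : Nonempty {s : G // IsConj x s ∧ IsConj x (s⁻¹ * g)} := by
    by_contra hemp
    rw [not_nonempty_iff] at hemp
    exact hne Nat.card_of_isEmpty
  obtain ⟨s, hs1, hs2⟩ := hnonempty
  rw [isConj_iff] at hs1 hs2
  obtain ⟨u, hu⟩ := hs1
  obtain ⟨v, hv⟩ := hs2
  refine ⟨u, v, ?_⟩
  rw [hu, hv, mul_inv_cancel_left]

end Cfsg.Agent.SZT
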