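import Mathlib
import Cfsg.Agent.Helper12.SzTDefs

/-! # SZT piece COMB: a map with known fibre sizes missing exactly two points. -/

set_option autoImplicit false

namespace Cfsg.Agent.SZT

open Cfsg Cfsg.Agent.Helper11.SCTI Cfsg.Agent.Helper24
open scoped Classical ComplexConjugate

/-- fibrewise summation with weights `1 / (fibre size)` -/
theorem COMB_sum_image {X : Type*} [Fintype X] {I : Type*} [Fintype I] (κ : I → X) (w : I → ℕ)
    (hw : ∀ i, Nat.card {j : I // κ j = κ i} = w i) {K : Type*} [Field K] [CharZero K]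
    (g : X → K) :
    ∑ i, (w i : K)⁻¹ * g (κ i) = ∑ x ∈ Finset.univ.image κ, g x := by
  symm
  apply Finset.sum_image'
  intro i _
  have hwj : ∀ j, κ j = κ i → w j = w i := by
    intro j hj
    rw [← hw j, ← hw i]
    apply Nat.card_congr
    exact Equiv.subtypeEquivRight (fun k => by rw [hj])
  have hcard : (Finset.univ.filter (fun j => κ j = κ i)).card = w i := by
    rw [← hw i, Nat.card_eq_fintype_card, Fintype.card_subtype]
  have hpos : 0 < w i := by
    rw [← hcard]
    exact Finset.card_pos.mpr ⟨i, by simp⟩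
  have h1 : ∀ j ∈ Finset.univ.filter (fun j => κ j = κ i),
      (w j : K)⁻¹ * g (κ j) = (w i : K)⁻¹ * g (κ i) := by
    intro j hj
    rw [Finset.mem_filter] at hj
    rw [hwj j hj.2, hj.2]
  rw [Finset.sum_congr rfl h1, Finset.sum_const, hcard, nsmul_eq_mul, ← mul_assoc,
    mul_inv_cancel₀ (Nat.cast_ne_zero.mpr hpos.ne'), one_mul]

/-- generic combinatorial lemma: a map with known fibre sizes missing exactly two points -/
theorem comb {X : Type*} [Fintype X] {I : Type*} [Fintype I] (κ : I → X) (w : I → ℕ)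
    (hw : ∀ i, Nat.card {j : I // κ j = κ i} = w i)
    (hcard : (Fintype.card X : ℚ) = ∑ i, (w i : ℚ)⁻¹ + 2) :
    ∃ a b : X, a ≠ b ∧ (∀ i, κ i ≠ a) ∧ (∀ i, κ i ≠ b) ∧
      ∀ F : X → ℂ, ∑ x, F x = ∑ i, (w i : ℂ)⁻¹ * F (κ i) + F a + F b := by
  set S : Finset X := Finset.univ.image κ with hS
  have h1 := COMB_sum_image κ w hw (K := ℚ) (fun _ => 1)
  simp only [mul_one] at h1
  rw [h1, Finset.sum_const, nsmul_eq_mul, mul_one] at hcard
  have hcard' : Fintype.card X = S.card + 2 := by exact_mod_cast hcard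
  have hcompl : Sᶜ.card = 2 := by
    rw [Finset.card_compl]
    omega
  obtain ⟨a, b, hab, hSc⟩ := Finset.card_eq_two.mp hcompl
  have ha : a ∈ Sᶜ := by rw [hSc]; simp
  have hb : b ∈ Sᶜ := by rw [hSc]; simp
  rw [Finset.mem_compl, hS, Finset.mem_image] at ha hb
  refine ⟨a, b, hab, fun i hi => ha ⟨i, Finset.mem_univ _, hi⟩,
    fun i hi => hb ⟨i, Finset.mem_univ _, hi⟩, ?_⟩
  intro F
  rw [COMB_sum_image κ w hw (K := ℂ) F, ← Finset.sum_add_sum_compl S F, hSc,
    Finset.sum_pair hab, add_assoc]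

end Cfsg.Agent.SZT
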