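import Mathlib
import Cfsg.Prelude.Def_Characters
import Cfsg.Agent.Helper12.LSpWDefs
import Cfsg.Agent.Helper12.LSpWPDefs
import Cfsg.Agent.Helper12.LSpWExt

set_option autoImplicit false

/-! # S2524 piece WEILGEN: the Weil character of `Heis ⋊ Sp` for an arbitrary nontrivial `ψ`
(copy of the chain `sum_psi_om → theta_eq_indFun → wpc_ind_value → exists_char_PP → exists_weil`
with `ψ ≠ 1` instead of `ψ 1 ≠ 1`). -/

namespace Cfsg.Agent.S2524P

open Matrix Cfsg Cfsg.Agent.Helper2.Sp Cfsg.Agent.Helper12.LSp Cfsg.Agent.Helper25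
  Cfsg.Agent.Helper12.LSU Cfsg.Agent.Helper24

variable {F : Type*} [Field F] [Fintype F]

/-- orthogonality: `Σ_u ψ (2 ω(v, u)) = 0` for `v ≠ 0`, any nontrivial `ψ` -/
theorem wgen_sum_om_ne (h2 : (2 : F) ≠ 0) (ψ : AddChar F ℂ) (hψ : ψ ≠ 1) {n : ℕ}
    {v : Fin n ⊕ Fin n → F} (hv : v ≠ 0) :
    ∑ u : Fin n ⊕ Fin n → F, ψ (2 * om v u) = 0 := by
  classical
  obtain ⟨y, hy⟩ := (AddChar.ne_one_iff).mp hψ
  obtain ⟨u₀, hu₀⟩ := exists_om_ne_zero hv
  set u₁ : Fin n ⊕ Fin n → F := (y * (2 * om v u₀)⁻¹) • u₀ with hu₁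
  have h1 : 2 * om v u₁ = y := by
    rw [hu₁, om_smul_right]
    field_simp
  have hS : ∑ u : Fin n ⊕ Fin n → F, ψ (2 * om v u) =
      ψ y * ∑ u : Fin n ⊕ Fin n → F, ψ (2 * om v u) := by
    rw [Finset.mul_sum, ← Equiv.sum_comp (Equiv.addLeft u₁)]
    refine Finset.sum_congr rfl fun u _ => ?_
    rw [Equiv.coe_addLeft, om_add_right, mul_add, h1, AddChar.map_add_eq_mul]
  have h3 : (1 - ψ y) * ∑ u : Fin n ⊕ Fin n → F, ψ (2 * om v u) = 0 := by
    linear_combination hS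
  rcases mul_eq_zero.1 h3 with h | h
  · exact absurd (sub_eq_zero.1 h).symm hy
  · exact h

/-- orthogonality: `Σ_u ψ (2 ω(v, u)) = q^{2n} [v = 0]` -/
theorem wgen_sum_psi_om (h2 : (2 : F) ≠ 0) (ψ : AddChar F ℂ) (hψ : ψ ≠ 1) {n : ℕ}
    (v : Fin n ⊕ Fin n → F) :
    ∑ u : Fin n ⊕ Fin n → F, ψ (2 * om v u) =
      open Classical in if v = 0 then (Fintype.card F : ℂ) ^ (2 * n) else 0 := by
  classical
  by_cases hv : v = 0
  · rw [if_pos hv, hv]
    simp only [om_zero_left', mul_zero, AddChar.map_zero_eq_one, Finset.sum_const,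
      Finset.card_univ, nsmul_eq_mul, mul_one]
    rw [Fintype.card_fun, Fintype.card_sum, Fintype.card_fin]
    push_cast
    congr 1
    ring
  · rw [if_neg hv]
    exact wgen_sum_om_ne h2 ψ hψ hv

theorem wgen_theta_eq_indFun (h2 : (2 : F) ≠ 0) (ψ : AddChar F ℂ) (hψ : ψ ≠ 1) {n : ℕ} :
    indFun (heisA n F) (fun a => lamA ψ a) = theta (n := n) ψ := by
  classical
  funext b
  unfold indFun
  have hterm : ∀ x : Heis n F, extendByZero (heisA n F) (fun a => lamA ψ a) (x⁻¹ * b * x) =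
      if InW b.v then ψ b.s * ψ (2 * om b.v x.v) else 0 := by
    intro x
    by_cases hb : InW b.v
    · have hmem : x⁻¹ * b * x ∈ heisA n F := by
        rw [mem_heisA, heis_conj_v]
        exact hb
      rw [if_pos hb, Cfsg.Agent.Helper12.extendByZero_of_mem _ _ hmem]
      show ψ (x⁻¹ * b * x).s = _
      rw [heis_conj_s, AddChar.map_add_eq_mul]
    · have hmem : x⁻¹ * b * x ∉ heisA n F := by
        rw [mem_heisA, heis_conj_v]
        exact hb
      rw [if_neg hb, Cfsg.Agent.Helper12.extendByZero_of_not_mem _ _ hmem]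
  rw [Finset.sum_congr rfl (fun x _ => hterm x), card_heisA]
  have hq : (Fintype.card F : ℂ) ≠ 0 := by
    exact_mod_cast Fintype.card_ne_zero
  by_cases hb : InW b.v
  · simp only [if_pos hb]
    rw [sum_heis]
    simp only [Finset.sum_const, Finset.card_univ, nsmul_eq_mul]
    rw [← Finset.mul_sum, ← Finset.mul_sum, wgen_sum_psi_om h2 ψ hψ]
    by_cases hv : b.v = 0
    · rw [if_pos hv, theta_of_v_eq_zero ψ hv]
      push_cast
      field_simp
      ring
    · rw [if_neg hv, theta_of_v_ne_zero ψ hv]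
      ring
  · simp only [if_neg hb, Finset.sum_const_zero, mul_zero]
    have hv : b.v ≠ 0 := by
      intro h0
      apply hb
      rw [h0]
      exact inW_zero
    rw [theta_of_v_ne_zero ψ hv]

theorem wgen_theta_isCharacter (h2 : (2 : F) ≠ 0) (ψ : AddChar F ℂ) (hψ : ψ ≠ 1) (n : ℕ) :
    IsCharacter (Heis n F) (theta (n := n) ψ) := by
  rw [← wgen_theta_eq_indFun h2 ψ hψ]
  exact Cfsg.Agent.Helper24.isCharacter_indFun (heisA n F)
    (Cfsg.Agent.Helper24.isCharacter_of_monoidHom (lamA ψ))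

/-- **WEILGEN** -/
theorem theta_irr_gen (h2 : (2 : F) ≠ 0) (ψ : AddChar F ℂ) (hψ : ψ ≠ 1) (n : ℕ) :
    IsIrrCharacter (Heis n F) (theta (n := n) ψ) :=
  theta_irr_of_isCharacter ψ n (wgen_theta_isCharacter h2 ψ hψ n)

/-- the induced character restricted to the Heisenberg group -/
theorem wgen_ind_value {n : ℕ} [Fintype ↥(PP n F)] (h2 : (2 : F) ≠ 0) (ψ : AddChar F ℂ)
    (hψ : ψ ≠ 1) (y : ↥(PP n F)) (a : Heis n F)
    (hy : (y : Gam n F) = SemidirectProduct.inl a) :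
    indFun ((AP n F).subgroupOf (PP n F)) (fun z => wpcLam ψ z) y = theta ψ a := by
  classical
  unfold indFun
  simp only [wpc_term ψ y _ a hy]
  have hU : (Nat.card ↥(SpU.uni n F) : ℂ) ≠ 0 := by
    have : Nat.card ↥(SpU.uni n F) ≠ 0 := Nat.card_pos.ne'
    exact_mod_cast this
  have hq : (Fintype.card F : ℂ) ≠ 0 := by
    have : Fintype.card F ≠ 0 := Fintype.card_ne_zero
    exact_mod_cast this
  by_cases hW : InW a.v
  · simp only [if_pos hW]
    rw [wpc_sum_PP (fun h => ψ (a.s + 2 * om a.v h.v)), wpc_sum_heis, wpc_card_H]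
    push_cast
    by_cases hv : a.v = 0
    · rw [hv, wpc_sum_om_zero, theta_of_v_eq_zero ψ hv]
      field_simp
    · rw [wgen_sum_om_ne h2 ψ hψ hv, theta_of_v_ne_zero ψ hv]
      ring
  · simp only [if_neg hW, Finset.sum_const_zero, mul_zero]
    have hv : a.v ≠ 0 := by
      intro h0
      apply hW
      rw [h0]
      exact inW_zero
    rw [theta_of_v_ne_zero ψ hv]

/-- the explicit character `Ind_{AP}^{PP} (wpcLam ψ)` of `PP` restricts to `thetaN ψ` on `NH` -/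
theorem char_PP_gen {n : ℕ} [Fintype ↥(PP n F)] (h2 : (2 : F) ≠ 0) (ψ : AddChar F ℂ)
    (hψ : ψ ≠ 1) :
    IsCharacter (PP n F) (indFun ((AP n F).subgroupOf (PP n F)) (fun z => wpcLam ψ z)) ∧
      ∀ x : NH n F, indFun ((AP n F).subgroupOf (PP n F)) (fun z => wpcLam ψ z)
        ⟨(x : Gam n F), NH_le_PP x.2⟩ = thetaN ψ x := by
  classical
  refine ⟨Cfsg.Agent.Helper24.isCharacter_indFun _
      (Cfsg.Agent.Helper24.isCharacter_of_monoidHom (wpcLam ψ)), ?_⟩
  intro x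
  have hx : (x : Gam n F).right = 1 := (mem_NH_iff _).mp x.2
  have hy : ((⟨(x : Gam n F), NH_le_PP x.2⟩ : ↥(PP n F)) : Gam n F) =
      SemidirectProduct.inl (x : Gam n F).left := by
    apply SemidirectProduct.ext
    · rw [SemidirectProduct.left_inl]
    · rw [SemidirectProduct.right_inl]
      exact hx
  rw [wgen_ind_value h2 ψ hψ _ _ hy]
  rfl

/-- **WEILGEN** (for LEMC): `exists_char_PP` for an arbitrary nontrivial `ψ` -/
theorem exists_char_PP_gen {n : ℕ} (h2 : (2 : F) ≠ 0) (ψ : AddChar F ℂ) (hψ : ψ ≠ 1) :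
    ∃ η : PP n F → ℂ, IsCharacter (PP n F) η ∧
      ∀ x : NH n F, η ⟨(x : Gam n F), NH_le_PP x.2⟩ = thetaN ψ x := by
  classical
  have : Fintype ↥(PP n F) := Fintype.ofFinite _
  exact ⟨_, (char_PP_gen h2 ψ hψ).1, (char_PP_gen h2 ψ hψ).2⟩

/-- the prime `p` -/
theorem wgen_exists_ext_prime_eq {n : ℕ} (p : ℕ) [Fact p.Prime] [CharP F p] (h2 : (2 : F) ≠ 0)
    (ψ : AddChar F ℂ) (hψ : ψ ≠ 1) :
    ∃ (P : Subgroup (Gam n F)) (hNP : NH n F ≤ P) (η : P → ℂ), Nat.Coprime P.index p ∧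
      IsIrrCharacter P η ∧ ∀ x : NH n F, η ⟨(x : Gam n F), hNP x.2⟩ = thetaN ψ x := by
  obtain ⟨η, hη, hres⟩ := exists_char_PP_gen (n := n) h2 ψ hψ
  refine ⟨PP n F, NH_le_PP, η, PP_index_coprime p, ?_, hres⟩
  apply isIrr_of_restrict_irr ((NH n F).subgroupOf (PP n F)) η hη
  have h1 := irr_subgroupOf (NH n F) (thetaN_irr ψ (theta_irr_gen h2 ψ hψ n))
    (NH_le_PP (n := n) (F := F))
  have h2 : (fun x : ↥((NH n F).subgroupOf (PP n F)) => η (x : ↥(PP n F))) =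
      fun x => thetaN ψ (Subgroup.subgroupOfEquivOfLe (NH_le_PP (n := n) (F := F)) x) := by
    funext x
    exact hres (Subgroup.subgroupOfEquivOfLe (NH_le_PP (n := n) (F := F)) x)
  rw [h2]
  exact h1

/-- **WEILGEN** -/
theorem exists_weil_gen (h2 : (2 : F) ≠ 0) (ψ : AddChar F ℂ) (hψ : ψ ≠ 1) (n : ℕ) :
    ∃ η : Gam n F → ℂ, IsIrrCharacter (Gam n F) η ∧
      ∀ a : Heis n F, η (SemidirectProduct.inl a) = theta ψ a := by
  obtain ⟨p, hp⟩ := CharP.exists F
  have hprime : Fact p.Prime := ⟨CharP.char_is_prime F p⟩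
  have hirrN := thetaN_irr ψ (theta_irr_gen h2 ψ hψ n)
  obtain ⟨χ, hχ, hres⟩ := extends_of_sylow_extensions (NH n F) (thetaN ψ) hirrN (thetaN_inv ψ)
    (by
      intro l hl
      by_cases hlp : l = p
      · subst hlp
        obtain ⟨P, hNP, η, h1, h2', h3⟩ := wgen_exists_ext_prime_eq (n := n) l h2 ψ hψ
        exact ⟨P, hNP, η, h1, h2', h3⟩
      · obtain ⟨P, hNP, η, h1, h2', h3⟩ := exists_ext_prime_ne (n := n) p ψ hirrN l hl hlp
        exact ⟨P, hNP, η, h1, h2', h3⟩)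
  refine ⟨χ, hχ, fun a => ?_⟩
  have := hres ⟨SemidirectProduct.inl a, ⟨a, rfl⟩⟩
  rw [this]
  rfl

end Cfsg.Agent.S2524P
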