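import Mathlib
import Cfsg.Prelude.Def_Characters
import Cfsg.Agent.Helper12.LSpWDefs
import Cfsg.Agent.Helper12.LSpWPDefs
import Cfsg.Agent.Helper12.WGDefs
import Cfsg.Agent.Helper12.WGDefsC
import Cfsg.Agent.Helper12.WGStruct
import Cfsg.Agent.Helper22.WGCLASS

set_option autoImplicit false

/-! # S2524 chapter WEIL, piece WCOUNT: the fibres of `w ↦ rk1 c w` -/

namespace Cfsg.Agent.S2524P

open Matrix Cfsg Cfsg.Agent.S2333P Cfsg.Agent.Helper2.Sp Cfsg.Agent.Helper12.LSp Cfsg.Agent.Helper25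

variable {F : Type*} [Field F] [Fintype F]

theorem wcount_rk1_zero {n : ℕ} (c : F) : rk1 c (0 : Fin n → F) = 0 := by
  apply Subtype.ext
  ext i j
  rw [rk1_apply]
  simp

theorem wcount_ne_neg (h2 : (2 : F) ≠ 0) {n : ℕ} {x : Fin n → F} (hx : x ≠ 0) : x ≠ -x := by
  intro h
  apply hx
  funext i
  have h1 : x i = -x i := congrFun h i
  have h3 : 2 * x i = 0 := by linear_combination h1
  rcases mul_eq_zero.mp h3 with h4 | h4
  · exact absurd h4 h2
  · exact h4

/-- **WCOUNT**: the fibres of `w ↦ rk1 c w` -/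
theorem card_rk1_fiber (h2 : (2 : F) ≠ 0) {n : ℕ} {c : F} (hc : c ≠ 0) (T : ↥(SymM n F)) :
    (T = 0 → Nat.card {w : Fin n → F // rk1 c w = T} = 1) ∧
    (OfClass c T → Nat.card {w : Fin n → F // rk1 c w = T} = 2) ∧
    (T ≠ 0 → ¬ OfClass c T → Nat.card {w : Fin n → F // rk1 c w = T} = 0) := by
  refine ⟨?_, ?_, ?_⟩
  · intro hT
    subst hT
    rw [Nat.card_eq_one_iff_unique]
    refine ⟨⟨?_⟩, ⟨⟨0, wcount_rk1_zero c⟩⟩⟩
    rintro ⟨w, hw⟩ ⟨w', hw'⟩
    apply Subtype.ext
    show w = w'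
    have e1 : w = 0 := by
      have := (rk1_eq_iff h2 hc (0 : Fin n → F) w).mp (by rw [wcount_rk1_zero, hw])
      rcases this with h | h
      · exact h
      · rw [h, neg_zero]
    have e2 : w' = 0 := by
      have := (rk1_eq_iff h2 hc (0 : Fin n → F) w').mp (by rw [wcount_rk1_zero, hw'])
      rcases this with h | h
      · exact h
      · rw [h, neg_zero]
    rw [e1, e2]
  · rintro ⟨x, hx, rfl⟩
    rw [Nat.card_eq_two_iff]
    have hneg : rk1 c (-x) = rk1 c x := ((rk1_eq_iff h2 hc x (-x)).mpr (Or.inr rfl)).symm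
    refine ⟨⟨x, rfl⟩, ⟨-x, hneg⟩, ?_, ?_⟩
    · intro h
      exact wcount_ne_neg h2 hx (congrArg Subtype.val h)
    · ext ⟨w, hw⟩
      simp only [Set.mem_insert_iff, Set.mem_singleton_iff, Set.mem_univ, iff_true]
      rcases (rk1_eq_iff h2 hc x w).mp hw.symm with h | h
      · left
        exact Subtype.ext h
      · right
        exact Subtype.ext h
  · intro hT hcl
    have : IsEmpty {w : Fin n → F // rk1 c w = T} := by
      constructor
      rintro ⟨w, hw⟩
      by_cases h0 : w = 0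
      · apply hT
        rw [← hw, h0, wcount_rk1_zero]
      · exact hcl ⟨w, h0, hw.symm⟩
    exact Nat.card_of_isEmpty

end Cfsg.Agent.S2524P
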