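import Mathlib
import Cfsg.Prelude.Def_Characters
import Cfsg.Agent.Helper12.LSpWDefs
import Cfsg.Agent.Helper12.LSpWPDefs
import Cfsg.Agent.Helper12.WGDefs
import Cfsg.Agent.Helper12.WGDefsC
import Cfsg.Agent.Helper12.WGStruct
import Cfsg.Agent.Helper15.WGLINV
import Cfsg.Agent.Helper24.WGWQSUM
import Cfsg.Agent.Helper24.WGWCONG

set_option autoImplicit false

/-! # S2524 chapter WEIL, piece WK0: the twist `K` of LEMC vanishes -/

namespace Cfsg.Agent.S2524P

open Matrix Cfsg Cfsg.Agent.S2333P Cfsg.Agent.Helper2.Sp Cfsg.Agent.Helper12.LSp Cfsg.Agent.Helper25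

variable {F : Type*} [Field F] [Fintype F]

omit [Fintype F] in
theorem wk0_trace_rk1 {n : ℕ} (K : Matrix (Fin n) (Fin n) F) (s : F) (x : Fin n → F) :
    Matrix.trace (K * (rk1 s x).1) = s * (x ⬝ᵥ (K *ᵥ x)) := by
  rw [rk1_val, Matrix.mul_smul, Matrix.trace_smul, mul_vecMulVec, trace_vecMulVec, smul_eq_mul,
    dotProduct_comm]

omit [Fintype F] in
theorem wk0_single_eq {n : ℕ} (j : Fin n) (s : F) :
    Matrix.single j j s = (rk1 s (Pi.single j 1 : Fin n → F)).1 := by
  ext a b
  rw [rk1_apply, Matrix.single_apply, Pi.single_apply, Pi.single_apply]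
  by_cases ha : a = j
  · by_cases hb : b = j
    · simp [ha, hb]
    · have hb' : ¬ j = b := fun h => hb h.symm
      simp [ha, hb, hb']
  · have ha' : ¬ j = a := fun h => ha h.symm
    simp [ha, ha']

omit [Fintype F] in
/-- a nontrivial additive character separates points after scaling -/
theorem wk0_eq_of_char {φ : AddChar F ℂ} (hφ : φ ≠ 1) {a b : F}
    (h : ∀ s : F, φ (s * a) = φ (s * b)) : a = b := by
  by_contra hab
  apply hφ
  have hne : a - b ≠ 0 := sub_ne_zero.mpr hab
  ext y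
  rw [AddChar.one_apply]
  have h1 := h (y / (a - b))
  have h3 : y / (a - b) * a = y / (a - b) * b + y := by field_simp; ring
  rw [h3, AddChar.map_add_eq_mul] at h1
  have hnz : φ (y / (a - b) * b) ≠ 0 := by
    intro h0
    have h4 : φ (y / (a - b) * b) * φ (-(y / (a - b) * b)) = 1 := by
      rw [← AddChar.map_add_eq_mul, add_neg_cancel, AddChar.map_zero_eq_one]
    rw [h0, zero_mul] at h4
    exact zero_ne_one h4
  have h5 : φ (y / (a - b) * b) * (φ y - 1) = 0 := by linear_combination h1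
  rcases mul_eq_zero.mp h5 with h6 | h6
  · exact absurd h6 hnz
  · exact sub_eq_zero.mp h6

/-- the quadratic form of `K` is constant on nonzero vectors -/
theorem wk0_const (h2 : (2 : F) ≠ 0) {n : ℕ} (φ : AddChar F ℂ) (hφ : φ ≠ 1)
    (ω : ↥(symplecticGroup (Fin n) F) → ℂ) (hω : IsClassFunction ↥(symplecticGroup (Fin n) F) ω)
    (K : ↥(SymM n F))
    (hK : ∀ S : ↥(SymM n F), ω (US n F (Multiplicative.ofAdd S)) =
      φ (Matrix.trace (K.1 * S.1)) * ∑ w : Fin n → F, φ (-(w ⬝ᵥ (S.1 *ᵥ w))))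
    (j : Fin n) (x : Fin n → F) (hx : x ≠ 0) :
    x ⬝ᵥ (K.1 *ᵥ x) = (Pi.single j 1 : Fin n → F) ⬝ᵥ (K.1 *ᵥ (Pi.single j 1 : Fin n → F)) := by
  classical
  have hej : (Pi.single j 1 : Fin n → F) ≠ 0 := by
    intro h
    have := congrFun h j
    simp at this
  obtain ⟨A, hA, hAx⟩ := linv_exists_mat (Pi.single j 1 : Fin n → F) x hej hx
  obtain ⟨g, hg⟩ := US_levi A hA
  apply wk0_eq_of_char hφ
  intro s
  have h1 : ω (US n F (Multiplicative.ofAdd (congS A (rk1 s (Pi.single j 1 : Fin n → F))))) =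
      ω (US n F (Multiplicative.ofAdd (rk1 s (Pi.single j 1 : Fin n → F)))) := by
    rw [← hg]
    exact hω _ g
  rw [hK, hK, congS_val, quad_sum_cong φ A hA, ← congS_val, congS_rk1, hAx, wk0_trace_rk1,
    wk0_trace_rk1] at h1
  have hΓ : ∑ w : Fin n → F,
      φ (-(w ⬝ᵥ ((rk1 s (Pi.single j 1 : Fin n → F)).1 *ᵥ w))) ≠ 0 := by
    rw [← wk0_single_eq]
    exact quad_sum_single_ne_zero h2 φ hφ j s
  exact mul_right_cancel₀ hΓ h1

/-- **WK0**: the twist `K` of LEMC vanishes for a class function of `Sp_{2n}`, `n ≥ 2` -/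
theorem weil_K_eq_zero (h2 : (2 : F) ≠ 0) {n : ℕ} (hn : 2 ≤ n) (φ : AddChar F ℂ) (hφ : φ ≠ 1)
    (ω : ↥(symplecticGroup (Fin n) F) → ℂ) (hω : IsClassFunction ↥(symplecticGroup (Fin n) F) ω)
    (K : ↥(SymM n F))
    (hK : ∀ S : ↥(SymM n F), ω (US n F (Multiplicative.ofAdd S)) =
      φ (Matrix.trace (K.1 * S.1)) * ∑ w : Fin n → F, φ (-(w ⬝ᵥ (S.1 *ᵥ w)))) : K = 0 := by
  classical
  have hc := wk0_const h2 φ hφ ω hω K hK
  have hsym : ∀ a b : Fin n, K.1 b a = K.1 a b := by
    intro a b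
    have := K.2
    rw [mem_SymM] at this
    conv_rhs => rw [← this]
    rfl
  have hq : ∀ (a b : Fin n) (t : F), ((Pi.single a 1 : Fin n → F) + t • Pi.single b 1) ⬝ᵥ
      (K.1 *ᵥ ((Pi.single a 1 : Fin n → F) + t • Pi.single b 1)) =
      K.1 a a + 2 * t * K.1 a b + t ^ 2 * K.1 b b := by
    intro a b t
    simp only [Matrix.mulVec_add, Matrix.mulVec_smul, dotProduct_add, add_dotProduct,
      smul_dotProduct, dotProduct_smul, single_one_dotProduct, Matrix.mulVec_single_one,
      Matrix.col_apply, smul_eq_mul, hsym b a]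
    ring
  have hqe : ∀ a : Fin n, (Pi.single a 1 : Fin n → F) ⬝ᵥ (K.1 *ᵥ (Pi.single a 1 : Fin n → F)) =
      K.1 a a := by
    intro a
    simp only [single_one_dotProduct, Matrix.mulVec_single_one, Matrix.col_apply]
  have hne : ∀ (a b : Fin n) (t : F), a ≠ b →
      ((Pi.single a 1 : Fin n → F) + t • Pi.single b 1) ≠ 0 := by
    intro a b t hab h
    have := congrFun h a
    simp [hab] at this
  -- the key relations
  have key : ∀ a b : Fin n, a ≠ b → K.1 a a = 0 ∧ K.1 a b = 0 := by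
    intro a b hab
    have e1 := hc a _ (hne a b 1 hab)
    have e2 := hc a _ (hne a b (-1) hab)
    have e3 := hc a (Pi.single b 1) (by
      intro h
      have := congrFun h b
      simp at this)
    rw [hq, hqe] at e1 e2
    rw [hqe, hqe] at e3
    have h4 : 2 * K.1 a a = 0 := by linear_combination e1 + e2 - 2 * e3
    have h5 : K.1 a a = 0 := by
      rcases mul_eq_zero.mp h4 with h | h
      · exact absurd h h2
      · exact h
    have h6 : 2 * K.1 a b = 0 := by linear_combination e1 - e3 - h5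
    have h7 : K.1 a b = 0 := by
      rcases mul_eq_zero.mp h6 with h | h
      · exact absurd h h2
      · exact h
    exact ⟨h5, h7⟩
  apply Subtype.ext
  ext a b
  show K.1 a b = 0
  by_cases hab : a = b
  · subst hab
    obtain ⟨b, hb⟩ : ∃ b : Fin n, a ≠ b := by
      by_cases h0 : (a : ℕ) = 0
      · exact ⟨⟨1, by omega⟩, fun h => by
          have := congrArg Fin.val h
          simp at this
          omega⟩
      · exact ⟨⟨0, by omega⟩, fun h => by
          have := congrArg Fin.val h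
          simp at this
          omega⟩
    exact (key a b hb).1
  · exact (key a b hab).2

end Cfsg.Agent.S2524P
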