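import Mathlib
import Cfsg.Prelude.Def_OddOrderLocal
import Cfsg.Agent.Lead.PiHall
import Cfsg.Agent.Helper14.Conj
import Cfsg.Agent.Helper14.SylowIn
import Cfsg.Agent.Helper17.Basic
import Cfsg.Agent.Helper23.FittingHall
import Cfsg.Agent.Helper23.TypeP
import Cfsg.Agent.Helper23.CNFrobenius

set_option autoImplicit false
set_option linter.unusedSectionVars false
set_option linter.unusedVariables false

/-! # B&G §16: the dictionary between the standard factorisation and the five types.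
Frozen statements as hypotheses, and general group theoretic lemmas. -/

namespace Cfsg.Agent.Helper20.BG16T

open Subgroup Cfsg
open Cfsg.Agent.Helper14 (cj cj_apply mem_map_cj map_cj_eq_self_of_mem mem_normalizer_iff_map_cj
  IsSylowIn isSylowIn_of_sylow map_cj_normalizer map_cj_le_iff map_cj_inv_map_cj map_cj_map_cj_inv)

universe u

/-- frozen statement S1350 without the standing hypothesis -/
def St1350 (G : Type u) [Group G] [Finite G] : Prop :=
  ∀ (M : Subgroup G) (hM : IsCoatom M),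
    Cfsg.IsPiHallOf (Cfsg.sigma M) (Cfsg.sigmaCore M) M ∧ Cfsg.IsPiHall (Cfsg.sigma M) (Cfsg.sigmaCore M) ∧
      ∀ N : Subgroup G, M ≤ Subgroup.normalizer (N : Set G) → Cfsg.IsPiHallOf (Cfsg.sigma M) N M →
        N = Cfsg.sigmaCore M

/-- frozen statement S1351 without the standing hypothesis -/
def St1351 (G : Type u) [Group G] [Finite G] : Prop :=
  ∀ (M : Subgroup G) (hM : IsCoatom M),
    (∃ K : Subgroup G, Cfsg.IsPiHallOf (Cfsg.kappa M) K M) ∧
      ∀ K : Subgroup G, Cfsg.IsPiHallOf (Cfsg.kappa M) K M → IsCyclic K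

/-- frozen statement S1352 without the standing hypothesis -/
def St1352 (G : Type u) [Group G] [Finite G] : Prop :=
  ∀ (M : Subgroup G) (hM : IsCoatom M) (K : Subgroup G)
    (hKc : IsCyclic K) (hK : Cfsg.IsPiHallOf (Cfsg.kappa M) K M),
    (∃ U : Subgroup G, Cfsg.IsSigmaDecomposition M K U) ∧
      ∀ U : Subgroup G, Cfsg.IsSigmaDecomposition M K U → M ≤ Subgroup.normalizer ((U ⊔ Cfsg.sigmaCore M : Subgroup G) : Set G)

/-- frozen statement S1354 without the standing hypothesis -/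
def St1354 (G : Type u) [Group G] [Finite G] : Prop :=
  ∀ (M : Subgroup G) (hM : IsCoatom M) (K : Subgroup G)
    (hKc : IsCyclic K) (hK : Cfsg.IsPiHallOf (Cfsg.kappa M) K M),
    Cfsg.sigmaCore M ⊓ Subgroup.centralizer (K : Set G) ≠ ⊥ ∧
      (K ≠ ⊥ → ∀ k ∈ K, k ≠ 1 →
        M ⊓ Subgroup.centralizer ({k} : Set G) = K ⊔ (Cfsg.sigmaCore M ⊓ Subgroup.centralizer (K : Set G)))

/-- frozen statement S1355 without the standing hypothesis -/
def St1355 (G : Type u) [Group G] [Finite G] : Prop :=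
  ∀ (M : Subgroup G) (hM : IsCoatom M),
    Cfsg.fittingHallOf M ≠ ⊥ ∧ Cfsg.fittingHallOf M ≤ Cfsg.sigmaCore M ∧ Cfsg.sigmaCore M ≤ ⁅M, M⁆ ∧ ⁅M, M⁆ < M ∧
      Group.IsNilpotent ↥((commutator ↥M).map (QuotientGroup.mk' (Cfsg.fittingHall ↥M)))

/-- frozen statement S1357 without the standing hypothesis -/
def St1357 (G : Type u) [Group G] [Finite G] : Prop :=
  ∀ (M : Subgroup G) (hM : IsCoatom M) (K U : Subgroup G) (hKU : Cfsg.IsSigmaDecomposition M K U) (hne : Cfsg.fittingHallOf M ≠ Cfsg.sigmaCore M),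
    U = ⊥ ∧ Cfsg.IsTISubset (Cfsg.fittingOf M : Set G) ∧ (Nat.card K).Prime

/-- frozen statement S1358 without the standing hypothesis -/
def St1358 (G : Type u) [Group G] [Finite G] : Prop :=
  ∀ (M : Subgroup G) (hM : IsCoatom M) (K U : Subgroup G) (hKU : Cfsg.IsSigmaDecomposition M K U),
    ∀ (p : ℕ), p.Prime → ∀ P : Sylow p U, IsMulCommutative (P : Subgroup U) ∧ Cfsg.PRankLE p 2 (P : Subgroup U)

/-- frozen statement S1359 without the standing hypothesis -/
def St1359 (G : Type u) [Group G] [Finite G] : Prop :=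
  ∀ (M : Subgroup G) (hM : IsCoatom M) (K U : Subgroup G) (hKU : Cfsg.IsSigmaDecomposition M K U),
    IsMulCommutative (Subgroup.closure ((U : Set G) ∩ Cfsg.sigmaHat M))

/-- frozen statement S1360 without the standing hypothesis -/
def St1360 (G : Type u) [Group G] [Finite G] : Prop :=
  ∀ (M : Subgroup G) (hM : IsCoatom M) (K U : Subgroup G) (hKU : Cfsg.IsSigmaDecomposition M K U),
    ∃ U₀ : Subgroup G, U₀ ≤ U ∧ Monoid.exponent U₀ = Monoid.exponent U ∧ ∀ u ∈ U₀, u ∈ Cfsg.sigmaHat M → u = 1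

/-- frozen statement S1361 without the standing hypothesis -/
def St1361 (G : Type u) [Group G] [Finite G] : Prop :=
  ∀ (M : Subgroup G) (hM : IsCoatom M) (K U : Subgroup G) (hKU : Cfsg.IsSigmaDecomposition M K U) (X : Subgroup G) (hXU : X ≤ U) (hX : X ≠ ⊥)
    (hXc : Cfsg.sigmaCore M ⊓ Subgroup.centralizer (X : Set G) ≠ ⊥),
    Subgroup.centralizer (X : Set G) ≤ M ∧ ∀ L : Subgroup G, IsCoatom L → Subgroup.centralizer (X : Set G) ≤ L → L = M

/-- frozen statement S1362 without the standing hypothesis -/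
def St1362 (G : Type u) [Group G] [Finite G] : Prop :=
  ∀ (M : Subgroup G) (hM : IsCoatom M) (K U : Subgroup G) (hKU : Cfsg.IsSigmaDecomposition M K U),
    Cfsg.IsTISubset (Cfsg.sigmaA M U \ (Cfsg.sigmaCore M : Set G))

/-- frozen statement S1363 without the standing hypothesis -/
def St1363 (G : Type u) [Group G] [Finite G] : Prop :=
  ∀ (M : Subgroup G) (hM : IsCoatom M) (K U : Subgroup G) (hKU : Cfsg.IsSigmaDecomposition M K U) (hK1 : K ≠ ⊥),
    IsMulCommutative U ∧ ¬ Subgroup.normalizer (U : Set G) ≤ M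

/-- frozen statement S1364 without the standing hypothesis -/
def St1364 (G : Type u) [Group G] [Finite G] : Prop :=
  ∀ (M : Subgroup G) (hM : IsCoatom M) (K U : Subgroup G) (hKU : Cfsg.IsSigmaDecomposition M K U) (hK1 : K ≠ ⊥),
    IsCyclic ↥(Cfsg.sigmaCore M ⊓ Subgroup.centralizer (K : Set G)) ∧ (Cfsg.sigmaCore M ⊓ Subgroup.centralizer (K : Set G)) ≠ ⊥ ∧ (Cfsg.sigmaCore M ⊓ Subgroup.centralizer (K : Set G)) ≤ Cfsg.fittingHallOf M ∧ ¬ IsCyclic (Cfsg.fittingHallOf M)

/-- frozen statement S1365 without the standing hypothesis -/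
def St1365 (G : Type u) [Group G] [Finite G] : Prop :=
  ∀ (M : Subgroup G) (hM : IsCoatom M) (K U : Subgroup G) (hKU : Cfsg.IsSigmaDecomposition M K U) (hK1 : K ≠ ⊥),
    ⁅M, M⁆ = U ⊔ Cfsg.sigmaCore M ∧ (Cfsg.sigmaCore M ⊓ Subgroup.centralizer (K : Set G)) ≤ ⁅⁅M, M⁆, ⁅M, M⁆⁆


variable {G : Type u} [Group G] [Finite G]

theorem solvable_of_coatom (hG : Cfsg.IsMinSimpleOddOrder G) {M : Subgroup G} (hM : IsCoatom M) :
    Group.IsSolvable M := hG.2.2.2 M hM.1

/-- complements can be listed in either order -/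
theorem isComplIn_swap {A B M : Subgroup G} (h : Cfsg.IsComplIn A B M) : Cfsg.IsComplIn B A M := by
  obtain ⟨hA, hB, hd, hp⟩ := h
  refine ⟨hB, hA, by rw [inf_comm]; exact hd, ?_⟩
  intro m hm
  obtain ⟨a, ha, b, hb, hab⟩ := hp m⁻¹ (inv_mem hm)
  refine ⟨b⁻¹, inv_mem hb, a⁻¹, inv_mem ha, ?_⟩
  rw [← mul_inv_rev, ← hab, inv_inv]

theorem isComplIn_sup {A B M : Subgroup G} (h : Cfsg.IsComplIn A B M) : A ⊔ B = M := by
  obtain ⟨hA, hB, hd, hp⟩ := h
  apply le_antisymm (sup_le hA hB)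
  intro m hm
  obtain ⟨a, ha, b, hb, rfl⟩ := hp m hm
  exact mul_mem (mem_sup_left ha) (mem_sup_right hb)

/-- conjugating a complement decomposition -/
theorem isComplIn_map_cj {A B M : Subgroup G} (h : Cfsg.IsComplIn A B M) (g : G) :
    Cfsg.IsComplIn (A.map (cj g)) (B.map (cj g)) (M.map (cj g)) := by
  obtain ⟨hA, hB, hd, hp⟩ := h
  refine ⟨map_mono hA, map_mono hB, ?_, ?_⟩
  · rw [← Cfsg.Agent.Helper14.map_cj_inf, hd, Subgroup.map_bot]
  · rintro _ ⟨m, hm, rfl⟩
    obtain ⟨a, ha, b, hb, rfl⟩ := hp m hm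
    exact ⟨cj g a, ⟨a, ha, rfl⟩, cj g b, ⟨b, hb, rfl⟩, map_mul _ _ _⟩

/-- a complement to `H` in `M` has order `H.relIndex M` -/
theorem relIndex_eq_of_isComplIn {H U M : Subgroup G} (h : Cfsg.IsComplIn H U M) :
    H.relIndex M = Nat.card U := by
  have h1 := Cfsg.Agent.Helper23.card_of_isComplIn H U M h
  have h2 := Cfsg.Agent.Lead.relIndex_mul_card' h.1
  have hpos : 0 < Nat.card H := Nat.card_pos
  apply Nat.eq_of_mul_eq_mul_right hpos
  rw [h2, h1, mul_comm]

/-- a complement of a Hall subgroup `H` of `M` is a Hall subgroup for the primes not dividing `|H|` -/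
theorem isPiHallOf_of_isComplIn {H U M : Subgroup G} (h : Cfsg.IsComplIn H U M)
    (hcop : (Nat.card H).Coprime (H.relIndex M)) :
    Cfsg.IsPiHallOf {p | ¬ p ∣ Nat.card H} U M := by
  have hU := relIndex_eq_of_isComplIn h
  have hH : U.relIndex M = Nat.card H := by
    have := relIndex_eq_of_isComplIn (isComplIn_swap h)
    exact this
  refine ⟨h.2.1, ?_, ?_⟩
  · intro p hp hpU hpH
    rw [hU] at hcop
    exact hp.one_lt.ne' (Nat.eq_one_of_dvd_coprimes hcop hpH hpU)
  · intro p hp hpn hpr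
    rw [hH] at hpr
    exact hpn hpr

/-- complements of a Hall subgroup in a solvable subgroup are conjugate -/
theorem compl_conj {H U₁ U₂ M : Subgroup G} (hsolv : Group.IsSolvable M)
    (hcop : (Nat.card H).Coprime (H.relIndex M))
    (h1 : Cfsg.IsComplIn H U₁ M) (h2 : Cfsg.IsComplIn H U₂ M) :
    ∃ m ∈ M, U₁.map (cj m) = U₂ := by
  obtain ⟨g, hg, hgU⟩ := Cfsg.Agent.Lead.isPiHallOf_trans hsolv
    (isPiHallOf_of_isComplIn h1 hcop) (isPiHallOf_of_isComplIn h2 hcop)
  exact ⟨g, hg, hgU⟩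


/-- for `p ∈ σ(M)`, every Sylow `p`-subgroup of `M` has its normalizer in `M` -/
theorem normalizer_le_of_mem_sigma {M : Subgroup G} {p : ℕ} [Fact p.Prime] (hp : p ∈ Cfsg.sigma M)
    {R : Subgroup G} (hR : IsSylowIn p R M) : normalizer (R : Set G) ≤ M := by
  obtain ⟨-, -, P, hP⟩ := hp
  obtain ⟨g, hg, hgR⟩ := (isSylowIn_of_sylow P).exists_conj hR
  rw [hgR, ← map_cj_normalizer]
  calc (normalizer ((((P : Subgroup ↥M).map M.subtype : Subgroup G)) : Set G)).map (cj g)
      ≤ M.map (cj g) := map_mono hP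
    _ = M := map_cj_eq_self_of_mem hg

/-- a Sylow subgroup of a Hall subgroup `L` of `M` is a Sylow subgroup of `M` -/
theorem isSylowIn_of_hall {M L R : Subgroup G} {p : ℕ} [Fact p.Prime] (hLM : L ≤ M)
    (hcop : (Nat.card L).Coprime (L.relIndex M)) (hp : p ∣ Nat.card L) (hR : IsSylowIn p R L) :
    IsSylowIn p R M := by
  apply Cfsg.Agent.Helper14.isSylowIn_of_card hLM _ hR
  intro S P
  rw [Sylow.card_eq_multiplicity, Sylow.card_eq_multiplicity]
  congr 1
  have h1 := Cfsg.Agent.Lead.relIndex_mul_card' hLM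
  have hnd : ¬ p ∣ L.relIndex M := fun h =>
    (Fact.out : p.Prime).one_lt.ne' (Nat.eq_one_of_dvd_coprimes hcop hp h)
  have h0 : L.relIndex M ≠ 0 := fun h => hnd (by rw [h]; exact dvd_zero p)
  rw [← h1, Nat.factorization_mul h0 Nat.card_pos.ne']
  simp [Nat.factorization_eq_zero_of_not_dvd hnd]

theorem fittingHallOf_isNilpotent (M : Subgroup G) : Group.IsNilpotent (Cfsg.fittingHallOf M) := by
  have h : Group.IsNilpotent (Cfsg.fittingHall ↥M) := Cfsg.Agent.Helper23.fittingHall_isNilpotent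
  exact Group.nilpotent_of_mulEquiv
    ((Cfsg.fittingHall ↥M).equivMapOfInjective M.subtype M.subtype_injective)

theorem fittingHallOf_coprime_relIndex (M : Subgroup G) :
    (Nat.card (Cfsg.fittingHallOf M)).Coprime ((Cfsg.fittingHallOf M).relIndex M) := by
  apply Cfsg.Agent.Helper23.card_fittingHallOf_coprime M
  rw [mul_comm]
  exact Cfsg.Agent.Lead.relIndex_mul_card' (Cfsg.Agent.Helper23.fittingHallOf_le M)

/-- a normal nilpotent Hall subgroup of `M` lies in `M_F` -/
theorem le_fittingHallOf {M N : Subgroup G} (hNM : N ≤ M) (hn : M ≤ normalizer (N : Set G))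
    (hnil : Group.IsNilpotent N) (hcop : (Nat.card N).Coprime (N.relIndex M)) :
    N ≤ Cfsg.fittingHallOf M := by
  have h1 : (N.subgroupOf M).Normal := by
    rw [← Subgroup.normalizer_eq_top_iff]
    rw [eq_top_iff]
    intro x _
    have hx := hn x.2
    rw [Subgroup.mem_normalizer_iff] at hx ⊢
    intro y
    rw [Subgroup.mem_subgroupOf, Subgroup.mem_subgroupOf]
    simpa using hx (y : G)
  have h2 : Group.IsNilpotent (N.subgroupOf M) :=
    Group.nilpotent_of_mulEquiv (Subgroup.subgroupOfEquivOfLe hNM).symm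
  have h3 : (Nat.card (N.subgroupOf M)).Coprime (N.subgroupOf M).index := by
    rw [Cfsg.Agent.Helper17.card_subgroupOf_of_le hNM]
    exact hcop
  have h4 := Cfsg.Agent.Helper23.le_fittingHall _ h1 h2 h3
  have h5 := Subgroup.map_mono (f := M.subtype) h4
  rwa [Cfsg.Agent.Helper14.map_subtype_subgroupOf hNM] at h5


/-- a cyclic Hall subgroup `C` of `M` and a prime `q ∣ |C|`: some nonidentity `c ∈ C` has an
`M`-conjugate in every Sylow `q`-subgroup of `M`, and all of these are cyclic. -/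
theorem exists_conj_mem_sylow_of_cyclic_hall {M C : Subgroup G} (hCM : C ≤ M) (hC : IsCyclic C)
    (hHall : (Nat.card C).Coprime (C.relIndex M)) {q : ℕ} [Fact q.Prime] (hq : q ∣ Nat.card C) :
    ∃ c : ↥M, (c : G) ∈ C ∧ c ≠ 1 ∧ ∀ P : Sylow q ↥M, IsCyclic P ∧ ∃ m : ↥M, m * c * m⁻¹ ∈ P := by
  have hqp : q.Prime := Fact.out
  obtain ⟨g, hg⟩ := hC.exists_generator
  have hog : orderOf g = Nat.card C := orderOf_eq_card_of_forall_mem_zpowers hg
  obtain ⟨a, ha⟩ : ∃ a, a = (Nat.card C).factorization q := ⟨_, rfl⟩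
  have hadvd : q ^ a ∣ Nat.card C := by rw [ha]; exact Nat.ordProj_dvd _ q
  have ha1 : 1 ≤ a := by rw [ha]; exact hqp.factorization_pos_of_dvd Nat.card_pos.ne' hq
  obtain ⟨c0, hc0⟩ : ∃ c0 : ↥C, c0 = g ^ (Nat.card C / q ^ a) := ⟨_, rfl⟩
  have hoc0 : orderOf c0 = q ^ a := by
    rw [hc0]
    have := orderOf_pow_orderOf_div (x := g) (n := q ^ a) (by rw [hog]; exact Nat.card_pos.ne')
      (by rw [hog]; exact hadvd)
    rwa [hog] at this
  obtain ⟨c, hc⟩ : ∃ c : ↥M, c = ⟨(c0 : G), hCM c0.2⟩ := ⟨_, rfl⟩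
  have hoc : orderOf c = q ^ a := by
    rw [← hoc0, ← Subgroup.orderOf_coe c, ← Subgroup.orderOf_coe c0, hc]
  have hfac : (Nat.card ↥M).factorization q = a := by
    have h1 := Cfsg.Agent.Lead.relIndex_mul_card' hCM
    have hnd : ¬ q ∣ C.relIndex M := fun h =>
      hqp.one_lt.ne' (Nat.eq_one_of_dvd_coprimes hHall hq h)
    have h0 : C.relIndex M ≠ 0 := fun h => hnd (by rw [h]; exact dvd_zero q)
    rw [← h1, Nat.factorization_mul h0 Nat.card_pos.ne', ha]
    simp [Nat.factorization_eq_zero_of_not_dvd hnd]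
  have hcard : Nat.card (zpowers c) = q ^ (Nat.card ↥M).factorization q := by
    rw [Nat.card_zpowers, hoc, hfac]
  refine ⟨c, by rw [hc]; exact c0.2, ?_, ?_⟩
  · intro h1
    rw [h1, orderOf_one] at hoc
    have : 1 < q ^ a := Nat.one_lt_pow (by omega) hqp.one_lt
    omega
  · intro P
    obtain ⟨m, hm⟩ := MulAction.exists_smul_eq ↥M (Sylow.ofCard (zpowers c) hcard) P
    constructor
    · have e := Sylow.equivSMul (Sylow.ofCard (zpowers c) hcard) m
      rw [hm] at e
      have hcyc : IsCyclic (Sylow.ofCard (zpowers c) hcard) := by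
        show IsCyclic (zpowers c)
        infer_instance
      exact isCyclic_of_surjective e e.surjective
    · refine ⟨m, ?_⟩
      rw [← hm, Cfsg.Agent.Helper14.mem_sylow_smul]
      have : m⁻¹ * (m * c * m⁻¹) * m = c := by group
      rw [this]
      show c ∈ zpowers c
      exact mem_zpowers c

end Cfsg.Agent.Helper20.BG16T
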