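import Mathlib
import Cfsg.Agent.Helper27.BG15St
import Cfsg.Agent.Helper27.BG15A2
import Cfsg.Agent.Helper27.BG15C
import Cfsg.Agent.Helper27.BG15G
import Cfsg.Agent.Helper13.BG15A
import Cfsg.Agent.Helper1.BG16C2
import Cfsg.Agent.Helper9.AbelianSylow
import Cfsg.Agent.Helper20.BG16Ta
import Cfsg.Agent.Helper21.BG10a
import Cfsg.Agent.Helper23.PLengthOne
import Cfsg.Agent.Helper7.PPrimeCore
import Cfsg.Agent.Lead.CoprimeSylow2
import Cfsg.Agent.Lead.CoprimeAbelian
import Cfsg.Agent.S1410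

/-!
# B&G Theorem 15.2, first part: `K* ≤ M_F` and `M_F` is not cyclic (S1364)

Abstract part: `centralizes_of_frobenius_section`.
-/

set_option autoImplicit false
set_option linter.unusedSectionVars false
set_option linter.unusedVariables false

namespace Cfsg.Agent.Helper20.BG15L

open Subgroup Cfsg.Agent.Lead Cfsg.Agent.Helper27.BG15
open scoped commutatorElement

universe u

section abstract

variable {X : Type u} [Group X] [Finite X]

/-- Helper13's `frob_centralizes`, with solvability and oddness only for a subgroup `T` containing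
`N`, `D`, `K`. -/
theorem frob_centralizes_in (T N D K : Subgroup X) (hNT : N ≤ T) (hDT : D ≤ T) (hKT : K ≤ T)
    (hsolv : Group.IsSolvable T) (hodd : Odd (Nat.card T))
    (hDN : D ≤ normalizer (N : Set X)) (hKN : K ≤ normalizer (N : Set X))
    (hKD : K ≤ normalizer (D : Set X))
    (hcopND : (Nat.card N).Coprime (Nat.card D))
    (hcopNK : (Nat.card N).Coprime (Nat.card K)) (hcopDK : (Nat.card D).Coprime (Nat.card K))
    (hK1 : K ≠ ⊥)
    (hfpfN : ∀ k ∈ K, k ≠ 1 → ∀ n ∈ N, k * n = n * k → n = 1)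
    (hfpfD : ∀ k ∈ K, k ≠ 1 → ∀ d ∈ D, k * d = d * k → d = 1) :
    ∀ n ∈ N, ∀ d ∈ D, n * d = d * n := by
  classical
  have := hsolv
  have key := Cfsg.Agent.Helper13.BG15.frob_centralizes (X := ↥T) hodd (N.subgroupOf T)
    (D.subgroupOf T) (K.subgroupOf T)
    (Cfsg.Agent.Helper13.BG15.le_nzr_of_conj_mem (fun a ha u hu => by
      rw [mem_subgroupOf] at ha hu ⊢
      simpa using Cfsg.Agent.Helper13.BG15.conj_mem_of_le_nzr hDN ha hu))
    (Cfsg.Agent.Helper13.BG15.le_nzr_of_conj_mem (fun a ha u hu => by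
      rw [mem_subgroupOf] at ha hu ⊢
      simpa using Cfsg.Agent.Helper13.BG15.conj_mem_of_le_nzr hKN ha hu))
    (Cfsg.Agent.Helper13.BG15.le_nzr_of_conj_mem (fun a ha u hu => by
      rw [mem_subgroupOf] at ha hu ⊢
      simpa using Cfsg.Agent.Helper13.BG15.conj_mem_of_le_nzr hKD ha hu))
    (by rw [Cfsg.Agent.Helper13.BG15.card_subgroupOf_le hNT,
          Cfsg.Agent.Helper13.BG15.card_subgroupOf_le hDT]; exact hcopND)
    (by rw [Cfsg.Agent.Helper13.BG15.card_subgroupOf_le hNT,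
          Cfsg.Agent.Helper13.BG15.card_subgroupOf_le hKT]; exact hcopNK)
    (by rw [Cfsg.Agent.Helper13.BG15.card_subgroupOf_le hDT,
          Cfsg.Agent.Helper13.BG15.card_subgroupOf_le hKT]; exact hcopDK)
    (by
      intro h
      apply hK1
      rw [eq_bot_iff]
      intro k hk
      have : (⟨k, hKT hk⟩ : T) ∈ K.subgroupOf T := by rw [mem_subgroupOf]; exact hk
      rw [h, mem_bot] at this
      rw [mem_bot]
      exact congrArg Subtype.val this)
    (by
      intro k hk hk1 n hn hkn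
      rw [mem_subgroupOf] at hk hn
      have h1 : (k : X) ≠ 1 := fun h => hk1 (Subtype.ext h)
      have h2 : (k : X) * (n : X) = (n : X) * (k : X) := by
        have := congrArg Subtype.val hkn
        simpa using this
      exact Subtype.ext (hfpfN k hk h1 n hn h2))
    (by
      intro k hk hk1 n hn hkn
      rw [mem_subgroupOf] at hk hn
      have h1 : (k : X) ≠ 1 := fun h => hk1 (Subtype.ext h)
      have h2 : (k : X) * (n : X) = (n : X) * (k : X) := by
        have := congrArg Subtype.val hkn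
        simpa using this
      exact Subtype.ext (hfpfD k hk h1 n hn h2))
  intro n hn d hd
  have := key ⟨n, hNT hn⟩ (by rw [mem_subgroupOf]; exact hn) ⟨d, hDT hd⟩
    (by rw [mem_subgroupOf]; exact hd)
  have := congrArg Subtype.val this
  simpa using this

/-- **Frobenius section lemma.** `S`, `W`, `K` subgroups of a solvable odd-order subgroup `T`, of
pairwise coprime orders, `S` and `K` normalizing `W`, `K` normalizing `S`, every non-identity element
of `K` acting without fixed points on `W` and with `C_S(k)` centralizing `W`.  Then `S` centralizes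
`W`. -/
theorem centralizes_of_frobenius_section (T S W K : Subgroup X)
    (hST : S ≤ T) (hWT : W ≤ T) (hKT : K ≤ T)
    (hsolv : Group.IsSolvable T) (hodd : Odd (Nat.card T))
    (hSW : S ≤ normalizer (W : Set X)) (hKW : K ≤ normalizer (W : Set X))
    (hKS : K ≤ normalizer (S : Set X))
    (hcopSW : (Nat.card S).Coprime (Nat.card W))
    (hcopKS : (Nat.card K).Coprime (Nat.card S))
    (hcopKW : (Nat.card K).Coprime (Nat.card W))
    (hK1 : K ≠ ⊥)
    (hfpfW : ∀ k ∈ K, k ≠ 1 → W ⊓ centralizer ({k} : Set X) = ⊥)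
    (hfixS : ∀ k ∈ K, k ≠ 1 → S ⊓ centralizer ({k} : Set X) ≤ centralizer (W : Set X)) :
    S ≤ centralizer (W : Set X) := by
  obtain ⟨C, hCdef⟩ : ∃ C : Subgroup X, C = S ⊓ centralizer (W : Set X) := ⟨_, rfl⟩
  have hCS : C ≤ S := hCdef ▸ inf_le_left
  have hCW : C ≤ centralizer (W : Set X) := hCdef ▸ inf_le_right
  have hSC : S ≤ normalizer (C : Set X) :=
    hCdef ▸ le_normalizer_inf_of_le le_normalizer (le_normalizer_centralizer hSW)
  have hKC : K ≤ normalizer (C : Set X) :=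
    hCdef ▸ le_normalizer_inf_of_le hKS (le_normalizer_centralizer hKW)
  have hWC : W ≤ normalizer (C : Set X) := by
    have h1 : W ≤ centralizer (C : Set X) := Subgroup.le_centralizer_iff.mp hCW
    exact h1.trans (centralizer_le_normalizer _)
  have hSWbot : S ⊓ W = ⊥ := (Subgroup.disjoint_of_coprime_natCard hcopSW).eq_bot
  have hWCbot : W ⊓ C = ⊥ := by
    rw [eq_bot_iff, ← hSWbot]
    exact le_inf (inf_le_right.trans hCS) inf_le_left
  have hKCbot : K ⊓ C = ⊥ := by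
    have h1 : K ⊓ S = ⊥ := (Subgroup.disjoint_of_coprime_natCard hcopKS).eq_bot
    rw [eq_bot_iff, ← h1]
    exact le_inf inf_le_left (inf_le_right.trans hCS)
  -- images
  have hbK1 : bar C K ≠ ⊥ := by
    intro h
    rw [bar_eq_bot_iff C K hKC] at h
    apply hK1
    rw [eq_bot_iff, ← hKCbot]
    exact le_inf le_rfl h
  have hbSW : bar C S ≤ normalizer ((bar C W : Subgroup (RelQ C)) : Set (RelQ C)) :=
    bar_le_normalizer_bar C hSW
  have hbKW : bar C K ≤ normalizer ((bar C W : Subgroup (RelQ C)) : Set (RelQ C)) :=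
    bar_le_normalizer_bar C hKW
  have hbKS : bar C K ≤ normalizer ((bar C S : Subgroup (RelQ C)) : Set (RelQ C)) :=
    bar_le_normalizer_bar C hKS
  have hbT : Group.IsSolvable ↥(bar C T) := isSolvable_bar C hsolv
  have hboddT : Odd (Nat.card ↥(bar C T)) := by
    obtain ⟨c, hc⟩ := card_bar_dvd C T
    rw [hc] at hodd
    exact (Nat.odd_mul.mp hodd).1
  have hfpfbW := bar_fpf C W K hWC hKC hKW hWCbot hfpfW
  -- fixed points of `bar K` on `bar S`
  have hfpfbS : ∀ r ∈ bar C K, r ≠ 1 → ∀ d ∈ bar C S, r * d = d * r → d = 1 := by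
    intro r hr hr1 d hd hrd
    obtain ⟨k, hkN, hkK, rfl⟩ := (mem_bar_iff C K r).mp hr
    obtain ⟨y, hyN, hyS, rfl⟩ := (mem_bar_iff C S d).mp hd
    have hk1 : k ≠ 1 := by
      intro h
      apply hr1
      subst h
      rw [relMk_eq_one_iff]; exact C.one_mem
    have hzk : zpowers k ≤ K := by rw [zpowers_le]; exact hkK
    have hzS : zpowers k ≤ normalizer (S : Set X) := hzk.trans hKS
    have hzC : zpowers k ≤ normalizer (C : Set X) := hzk.trans hKC
    have hzcop : (Nat.card (zpowers k)).Coprime (Nat.card S) :=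
      Nat.Coprime.coprime_dvd_left (card_dvd_of_le hzk) hcopKS
    have hzsolv : Group.IsSolvable (zpowers k) := by
      have : IsMulCommutative (zpowers k) := inferInstance
      exact isSolvable_of_isMulCommutative (zpowers k)
    have hc : relMk C ⟨y, hSC hyS⟩ ∈
        centralizer ((bar C (zpowers k) : Subgroup (RelQ C)) : Set (RelQ C)) := by
      rw [mem_centralizer_iff]
      intro b hb
      obtain ⟨z, hzN, hzz, rfl⟩ := (mem_bar_iff C (zpowers k) b).mp hb
      obtain ⟨n, rfl⟩ := mem_zpowers_iff.mp hzz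
      have e : (⟨k ^ n, hzN⟩ : ↥(normalizer (C : Set X))) = ⟨k, hkN⟩ ^ n := rfl
      rw [e, map_zpow]
      have hcomm : Commute (relMk C ⟨k, hkN⟩) (relMk C ⟨y, hyN⟩) := hrd
      exact (hcomm.zpow_left n).eq
    obtain ⟨c, hc, hyc⟩ := exists_fixed_of_bar_centralized (zpowers k) S C hzS hzcop
      (Or.inl hzsolv) hCS hSC hzC y hyS hc
    obtain ⟨hcS, hcC⟩ := Subgroup.mem_inf.mp hc
    have hck : c ∈ S ⊓ centralizer ({k} : Set X) := by
      refine Subgroup.mem_inf.mpr ⟨hcS, ?_⟩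
      rw [mem_centralizer_singleton_iff]
      exact (mem_centralizer_iff.mp hcC k (mem_zpowers k)).symm
    have hcC' : c ∈ C := by
      rw [hCdef]
      exact Subgroup.mem_inf.mpr ⟨hcS, hfixS k hkK hk1 hck⟩
    have hyC : y ∈ C := by
      have h1 : y⁻¹ ∈ C := by
        have := C.mul_mem hyc (C.inv_mem hcC')
        simpa using this
      simpa using C.inv_mem h1
    rw [relMk_eq_one_iff]; exact hyC
  have hfpfbW' : ∀ r ∈ bar C K, r ≠ 1 → ∀ n ∈ bar C W, r * n = n * r → n = 1 := by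
    intro r hr hr1 n hn hrn
    have h1 : n ∈ bar C W ⊓ centralizer ({r} : Set (RelQ C)) := by
      refine Subgroup.mem_inf.mpr ⟨hn, ?_⟩
      rw [mem_centralizer_singleton_iff]; exact hrn.symm
    rw [hfpfbW r hr hr1, mem_bot] at h1
    exact h1
  have key := frob_centralizes_in (bar C T) (bar C W) (bar C S) (bar C K)
    (bar_mono C hWT) (bar_mono C hST) (bar_mono C hKT) hbT hboddT hbSW hbKW hbKS
    (Nat.Coprime.coprime_dvd_left (card_bar_dvd C W)
      (Nat.Coprime.coprime_dvd_right (card_bar_dvd C S) hcopSW.symm))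
    (Nat.Coprime.coprime_dvd_left (card_bar_dvd C W)
      (Nat.Coprime.coprime_dvd_right (card_bar_dvd C K) hcopKW.symm))
    (Nat.Coprime.coprime_dvd_left (card_bar_dvd C S)
      (Nat.Coprime.coprime_dvd_right (card_bar_dvd C K) hcopKS.symm))
    hbK1 hfpfbW' hfpfbS
  -- conclude
  intro s hs
  rw [mem_centralizer_iff]
  intro w hw
  have h1 := key _ (relMk_mem_bar C W (hWC hw) hw) _ (relMk_mem_bar C S (hSC hs) hs)
  rw [relMk_commute_iff C w s (hWC hw) (hSC hs)] at h1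
  have h2 : w * s * w⁻¹ * s⁻¹ ∈ S := hCS h1
  have h3 : w * s * w⁻¹ * s⁻¹ ∈ W := by
    have h4 : s * w⁻¹ * s⁻¹ ∈ W :=
      (mem_normalizer_iff.mp (hSW hs) w⁻¹).mp (W.inv_mem hw)
    have : w * s * w⁻¹ * s⁻¹ = w * (s * w⁻¹ * s⁻¹) := by group
    rw [this]; exact W.mul_mem hw h4
  have h5 : w * s * w⁻¹ * s⁻¹ ∈ S ⊓ W := Subgroup.mem_inf.mpr ⟨h2, h3⟩
  rw [hSWbot, mem_bot] at h5
  have : w * s = s * w := by
    have h6 : w * s * w⁻¹ * s⁻¹ * (s * w) = s * w := by rw [h5, one_mul]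
    rw [← h6]; group
  exact this

end abstract

section appl

variable {G : Type u} [Group G] [Finite G]

open Cfsg.Agent.H9.BG12 (sigmaCore_le le_normalizer_sigmaCore)
open Cfsg.Agent.Helper18.BG16B (K_le U_le)

/-- for `N ⊲ ↥M`, `M` normalizes the image of `N` in `G` -/
theorem le_normalizer_map_subtype_of_normal (M : Subgroup G) (N : Subgroup ↥M) [hN : N.Normal] :
    M ≤ normalizer ((N.map M.subtype : Subgroup G) : Set G) := by
  intro m hm
  rw [mem_normalizer_iff]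
  intro x
  constructor
  · rintro ⟨y, hy, rfl⟩
    exact ⟨⟨m, hm⟩ * y * ⟨m, hm⟩⁻¹, hN.conj_mem y hy ⟨m, hm⟩, rfl⟩
  · rintro ⟨y, hy, hyx⟩
    refine ⟨⟨m, hm⟩⁻¹ * y * ⟨m, hm⟩, ?_, ?_⟩
    · have := hN.conj_mem y hy ⟨m, hm⟩⁻¹
      simpa using this
    · simp only [Subgroup.subtype_apply, Subgroup.coe_mul, Subgroup.coe_inv] at hyx ⊢
      rw [hyx]; group

/-- a `q`-subgroup of `F(M)` centralizes every normal `q'`-subgroup of `M` -/
theorem centralizes_of_le_fittingOf (M : Subgroup G) {q : ℕ} [Fact q.Prime] {A W : Subgroup G}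
    (hAq : IsPGroup q A) (hAF : A ≤ Cfsg.fittingOf M)
    (hWM : W ≤ M) (hMW : M ≤ normalizer (W : Set G)) (hWq : (Nat.card W).Coprime q) :
    A ≤ centralizer (W : Set G) := by
  have hAM : A ≤ M := hAF.trans (fittingOf_le M)
  have hA' : A.subgroupOf M ≤ Cfsg.pCore q ↥M := by
    apply Cfsg.Agent.Helper21.BG10.pGroup_le_pCore_of_le_nilpotent_normal
      (Cfsg.fittingSubgroup ↥M) Cfsg.Agent.Helper7.fittingSubgroup_isNilpotent
      (A.subgroupOf M) hAq.comap_subtype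
    intro x hx
    rw [mem_subgroupOf] at hx
    obtain ⟨y, hy, hyx⟩ := Subgroup.mem_map.mp (hAF hx)
    have : y = x := Subtype.ext hyx
    rw [← this]; exact hy
  obtain ⟨Qc, hQdef⟩ : ∃ Qc : Subgroup G, Qc = (Cfsg.pCore q ↥M).map M.subtype := ⟨_, rfl⟩
  have hAQ : A ≤ Qc := by
    intro a ha
    rw [hQdef]
    exact ⟨⟨a, hAM ha⟩, hA' (by rw [mem_subgroupOf]; exact ha), rfl⟩
  have hQM : Qc ≤ M := hQdef ▸ map_subtype_le _
  have hMQ : M ≤ normalizer (Qc : Set G) :=
    hQdef ▸ le_normalizer_map_subtype_of_normal M (Cfsg.pCore q ↥M)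
  have hQq : IsPGroup q Qc := hQdef ▸ (Cfsg.Agent.Helper23.pCore_isPGroup q ↥M).map _
  have hdis : Qc ⊓ W = ⊥ := by
    obtain ⟨n, hn⟩ := IsPGroup.iff_card.mp hQq
    have : (Nat.card Qc).Coprime (Nat.card W) := by
      rw [hn]; exact Nat.Coprime.pow_left n hWq.symm
    exact (Subgroup.disjoint_of_coprime_natCard this).eq_bot
  have hcomm := commute_of_normalizing' (hQM.trans hMW) (hWM.trans hMQ) hdis
  intro a ha
  rw [mem_centralizer_iff]
  intro w hw
  exact (hcomm a (hAQ ha) w hw).symm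

/-- **B&G Theorem 15.2, first part**: `K* ≤ M_F`. -/
theorem Kstar_le_fittingHallOf (hG : Cfsg.IsMinSimpleOddOrder G) (h1350 : St1350 G)
    (h1355 : St1355 G) (h1356 : St1356 G) (h1365 : St1365 G) (h1373 : St1373 G)
    (h1429 : St1429 G) (h1430 : St1430 G)
    {M : Subgroup G} (hM : IsCoatom M) {K U : Subgroup G}
    (hKU : Cfsg.IsSigmaDecomposition M K U) (hK1 : K ≠ ⊥) :
    Cfsg.sigmaCore M ⊓ centralizer (K : Set G) ≤ Cfsg.fittingHallOf M := by
  by_cases hne : Cfsg.fittingHallOf M = Cfsg.sigmaCore M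
  · rw [hne]; exact inf_le_left
  have hU : U = ⊥ := U_eq_bot_of_ne hG h1350 h1355 h1429 hM hKU hne
  obtain ⟨Ks, hKsdef⟩ : ∃ Ks : Subgroup G, Ks = Cfsg.sigmaCore M ⊓ centralizer (K : Set G) :=
    ⟨_, rfl⟩
  rw [← hKsdef]
  have hqp : (Nat.card Ks).Prime := hKsdef ▸ h1373 M hM K U hKU hK1 hU
  obtain ⟨q, hqdef⟩ : ∃ q : ℕ, q = Nat.card Ks := ⟨_, rfl⟩
  have hq : Fact q.Prime := ⟨hqdef ▸ hqp⟩
  have hKsq : IsPGroup q Ks := IsPGroup.of_card (n := 1) (by rw [pow_one, hqdef])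
  have hMsolv : Group.IsSolvable M := hG.2.2.2 M hM.1
  have hModd : Odd (Nat.card M) := Odd.of_dvd_nat hG.1 (Subgroup.card_subgroup_dvd_card _)
  have hKM : K ≤ M := K_le hKU
  have hMsM : Cfsg.sigmaCore M ≤ M := sigmaCore_le M
  have hKsMs : Ks ≤ Cfsg.sigmaCore M := hKsdef ▸ inf_le_left
  have hKN : K ≤ normalizer (Cfsg.sigmaCore M : Set G) := hKM.trans (le_normalizer_sigmaCore M)
  have hcopKMs := card_K_coprime_card_sigmaCore hKU
  have hMssolv : Group.IsSolvable (Cfsg.sigmaCore M) := isSolvable_of_le hMsM hMsolv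
  have hKKs : K ≤ normalizer (Ks : Set G) :=
    hKsdef ▸ le_normalizer_inf_of_le hKN (le_normalizer_centralizer le_normalizer)
  obtain ⟨P, hKsP, hKP⟩ := coprime_invariant_pgroup_le_sylow K (Cfsg.sigmaCore M) hKN hcopKMs
    (Or.inr hMssolv) q Ks hKsMs hKsq hKKs
  obtain ⟨S, hSdef⟩ : ∃ S : Subgroup G,
    S = (P : Subgroup ↥(Cfsg.sigmaCore M)).map (Cfsg.sigmaCore M).subtype := ⟨_, rfl⟩
  rw [← hSdef] at hKsP hKP
  have hSMs : S ≤ Cfsg.sigmaCore M := hSdef ▸ map_subtype_le _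
  have hSq : IsPGroup q S := hSdef ▸ P.isPGroup'.map _
  obtain ⟨W, hWdef⟩ : ∃ W : Subgroup G,
    W = (Cfsg.pPrimeCore q ↥(Cfsg.sigmaCore M)).map (Cfsg.sigmaCore M).subtype := ⟨_, rfl⟩
  have hWMs : W ≤ Cfsg.sigmaCore M := hWdef ▸ map_subtype_le _
  have hMW : M ≤ normalizer (W : Set G) :=
    hWdef ▸ (le_normalizer_sigmaCore M).trans
      (Cfsg.Agent.Helper27.BG15.normalizer_le_normalizer_map_of_characteristic (Cfsg.sigmaCore M)
        (Cfsg.pPrimeCore q ↥(Cfsg.sigmaCore M)))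
  have hWq : (Nat.card W).Coprime q := by
    rw [hWdef, Subgroup.card_map_of_injective (Cfsg.sigmaCore M).subtype_injective]
    exact Cfsg.Agent.Helper19.pPrimeCore_coprime q
  have hKsF : Ks ≤ Cfsg.fittingOf M :=
    hKsdef ▸ (h1365 M hM K U hKU hK1).2.trans (h1356 M hM).1
  have hKsW : Ks ≤ centralizer (W : Set G) :=
    centralizes_of_le_fittingOf M hKsq hKsF (hWMs.trans hMsM) hMW hWq
  have hcopSW : (Nat.card S).Coprime (Nat.card W) := by
    obtain ⟨n, hn⟩ := IsPGroup.iff_card.mp hSq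
    rw [hn]; exact Nat.Coprime.pow_left n hWq.symm
  have hcopKS : (Nat.card K).Coprime (Nat.card S) :=
    Nat.Coprime.coprime_dvd_right (card_dvd_of_le hSMs) hcopKMs
  have hcopKW : (Nat.card K).Coprime (Nat.card W) :=
    Nat.Coprime.coprime_dvd_right (card_dvd_of_le hWMs) hcopKMs
  have hprime := (h1430 M hM K hKU.hall hK1).1
  have hWKs : W ⊓ Ks = ⊥ := by
    have : (Nat.card W).Coprime (Nat.card Ks) := by rw [← hqdef]; exact hWq
    exact (Subgroup.disjoint_of_coprime_natCard this).eq_bot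
  have hfpfW : ∀ k ∈ K, k ≠ 1 → W ⊓ centralizer ({k} : Set G) = ⊥ := by
    intro k hk hk1
    rw [eq_bot_iff, ← hWKs]
    intro x hx
    refine Subgroup.mem_inf.mpr ⟨(Subgroup.mem_inf.mp hx).1, ?_⟩
    rw [hKsdef, ← hprime k hk hk1]
    exact Subgroup.mem_inf.mpr ⟨hWMs (Subgroup.mem_inf.mp hx).1, (Subgroup.mem_inf.mp hx).2⟩
  have hfixS : ∀ k ∈ K, k ≠ 1 →
      S ⊓ centralizer ({k} : Set G) ≤ centralizer (W : Set G) := by
    intro k hk hk1 x hx
    apply hKsW
    rw [hKsdef, ← hprime k hk hk1]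
    exact Subgroup.mem_inf.mpr ⟨hSMs (Subgroup.mem_inf.mp hx).1, (Subgroup.mem_inf.mp hx).2⟩
  have hSW : S ≤ centralizer (W : Set G) :=
    centralizes_of_frobenius_section M S W K (hSMs.trans hMsM) (hWMs.trans hMsM) hKM hMsolv hModd
      ((hSMs.trans hMsM).trans hMW) (hKM.trans hMW) hKP hcopSW hcopKS hcopKW hK1 hfpfW hfixS
  -- `q`-length one
  have hMsne : Cfsg.sigmaCore M ≠ ⊤ := fun h => hM.1 (top_le_iff.mp (h ▸ hMsM))
  have hpl : Cfsg.PLengthLE q 1 ↥(Cfsg.sigmaCore M) :=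
    Cfsg.Agent.S1410.result hG q (Cfsg.sigmaCore M) hMsne
  obtain ⟨K0, hK0n, hK0cop, hK0N, -⟩ :=
    Cfsg.Agent.Helper23.exists_normal_pPrime_of_pLengthLE_one q ↥(Cfsg.sigmaCore M) hpl P
  have hK0W : K0 ≤ Cfsg.pPrimeCore q ↥(Cfsg.sigmaCore M) :=
    Cfsg.Agent.Helper7.le_pPrimeCore hK0n hK0cop
  have hW'N : Cfsg.pPrimeCore q ↥(Cfsg.sigmaCore M) ≤
      normalizer ((P : Subgroup ↥(Cfsg.sigmaCore M)) : Set ↥(Cfsg.sigmaCore M)) := by
    refine le_trans ?_ (centralizer_le_normalizer _)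
    intro w hw
    rw [mem_centralizer_iff]
    intro h hh
    have hwW : (w : G) ∈ W := by rw [hWdef]; exact ⟨w, hw, rfl⟩
    have hhS : (h : G) ∈ S := by rw [hSdef]; exact ⟨h, hh, rfl⟩
    have := mem_centralizer_iff.mp (hSW hhS) (w : G) hwW
    exact Subtype.ext this.symm
  have hPn : ((P : Subgroup ↥(Cfsg.sigmaCore M))).Normal := by
    rw [← normalizer_eq_top_iff, eq_top_iff, ← hK0N]
    exact sup_le (hK0W.trans hW'N) le_rfl
  have hPchar : (P : Subgroup ↥(Cfsg.sigmaCore M)).Characteristic :=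
    Sylow.characteristic_of_normal P hPn
  have hMS : M ≤ normalizer (S : Set G) :=
    hSdef ▸ (le_normalizer_sigmaCore M).trans
      (Cfsg.Agent.Helper27.BG15.normalizer_le_normalizer_map_of_characteristic (Cfsg.sigmaCore M)
        (P : Subgroup ↥(Cfsg.sigmaCore M)))
  have hSnil : Group.IsNilpotent S := hSq.isNilpotent
  have hcop : (Nat.card S).Coprime (S.relIndex M) := by
    obtain ⟨n, hn⟩ := IsPGroup.iff_card.mp hSq
    rw [hn]
    apply Nat.Coprime.pow_left
    rw [Nat.Prime.coprime_iff_not_dvd hq.out,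
      ← Subgroup.relIndex_mul_relIndex S (Cfsg.sigmaCore M) M hSMs hMsM,
      Nat.Prime.dvd_mul hq.out, not_or]
    constructor
    · have : S.relIndex (Cfsg.sigmaCore M) = (P : Subgroup ↥(Cfsg.sigmaCore M)).index := by
        rw [hSdef]
        unfold Subgroup.relIndex Subgroup.subgroupOf
        rw [comap_map_eq_self_of_injective (subtype_injective _)]
      rw [this]; exact P.not_dvd_index
    · apply (h1350 M hM).1.2.2 q hq.out
      apply (h1350 M hM).1.2.1 q hq.out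
      exact hqdef ▸ card_dvd_of_le hKsMs
  exact hKsP.trans
    (Cfsg.Agent.Helper20.BG16T.le_fittingHallOf (hSMs.trans hMsM) hMS hSnil hcop)

/-- `M_F` is not cyclic (given `K* ≤ M_F`). -/
theorem fittingHallOf_not_cyclic (hG : Cfsg.IsMinSimpleOddOrder G) (h1431 : St1431 G)
    {M : Subgroup G} (hM : IsCoatom M) {K U : Subgroup G}
    (hKU : Cfsg.IsSigmaDecomposition M K U) (hK1 : K ≠ ⊥)
    (hKs1 : Cfsg.sigmaCore M ⊓ centralizer (K : Set G) ≠ ⊥)
    (hKsF : Cfsg.sigmaCore M ⊓ centralizer (K : Set G) ≤ Cfsg.fittingHallOf M)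
    (hFMs : Cfsg.fittingHallOf M ≤ Cfsg.sigmaCore M) :
    ¬ IsCyclic (Cfsg.fittingHallOf M) := by
  intro hcyc
  obtain ⟨Ks, hKsdef⟩ : ∃ Ks : Subgroup G, Ks = Cfsg.sigmaCore M ⊓ centralizer (K : Set G) :=
    ⟨_, rfl⟩
  rw [← hKsdef] at hKs1 hKsF
  have hKM : K ≤ M := K_le hKU
  have hMsM : Cfsg.sigmaCore M ≤ M := sigmaCore_le M
  have hKsMs : Ks ≤ Cfsg.sigmaCore M := hKsdef ▸ inf_le_left
  have hKsK : Ks ≤ centralizer (K : Set G) := hKsdef ▸ inf_le_right
  -- a prime divisor of `|K*|`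
  have hcard1 : Nat.card Ks ≠ 1 := fun h => hKs1 (Subgroup.card_eq_one.mp h)
  obtain ⟨p, hp, hpK⟩ := Nat.exists_prime_and_dvd hcard1
  have hpf : Fact p.Prime := ⟨hp⟩
  have hpF : p ∣ Nat.card (Cfsg.fittingHallOf M) := hpK.trans (card_dvd_of_le hKsF)
  obtain ⟨Q, hQF, hMQ, hQp, -, hQmax⟩ := exists_normal_sylow_of_dvd_card_fittingHallOf M p hpF
  -- `Q` is cyclic
  have hQcyc : IsCyclic Q := by
    have : IsCyclic (Q.subgroupOf (Cfsg.fittingHallOf M)) := Subgroup.isCyclic _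
    exact (Subgroup.subgroupOfEquivOfLe hQF).isCyclic.mp this
  have hQc : IsMulCommutative Q := hQcyc.isMulCommutative
  have hKQ : K ≤ normalizer (Q : Set G) := hKM.trans hMQ
  have hQMs : Q ≤ Cfsg.sigmaCore M := hQF.trans hFMs
  have hcopKQ : (Nat.card K).Coprime (Nat.card Q) :=
    Nat.Coprime.coprime_dvd_right (card_dvd_of_le hQMs) (card_K_coprime_card_sigmaCore hKU)
  obtain ⟨hinf, hsup⟩ := coprime_abelian_decomp K Q hKQ hcopKQ
  -- `C_Q(K) ≠ 1`
  have hCQ1 : Q ⊓ centralizer (K : Set G) ≠ ⊥ := by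
    obtain ⟨x, hx⟩ := exists_prime_orderOf_dvd_card' (G := ↥Ks) p hpK
    have hxQ : (x : G) ∈ Q := by
      have h1 : zpowers (x : G) ≤ Q := by
        apply hQmax
        · rw [zpowers_le]; exact hMsM (hKsMs x.2)
        · apply IsPGroup.of_card (n := 1)
          rw [Nat.card_zpowers, Subgroup.orderOf_coe, hx, pow_one]
      exact h1 (mem_zpowers _)
    intro h
    have h2 : (x : G) ∈ Q ⊓ centralizer (K : Set G) := Subgroup.mem_inf.mpr ⟨hxQ, hKsK x.2⟩
    rw [h, mem_bot] at h2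
    have h3 : x = 1 := Subtype.ext h2
    rw [h3, orderOf_one] at hx
    exact hp.one_lt.ne hx
  have hcomm : ⁅Q, K⁆ = ⊥ := by
    rcases Cfsg.Agent.Helper9.eq_bot_or_eq_bot_of_inf_eq_bot_of_isCyclic Q hQp hQcyc
      (Q ⊓ centralizer (K : Set G)) ⁅Q, K⁆ inf_le_left
      (commutator_le_of_le_normalizer hKQ) hinf with h | h
    · exact absurd h hCQ1
    · exact h
  have hQK : Q ≤ centralizer (K : Set G) := by
    rw [hcomm, sup_bot_eq] at hsup
    rw [← hsup]; exact inf_le_right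
  have hQKs : Q ≤ Ks := hKsdef ▸ le_inf hQMs hQK
  -- contradiction with S1431(3)
  obtain ⟨S⟩ : Nonempty (Sylow p ↥(Cfsg.sigmaCore M)) := inferInstance
  have h3 := ((h1431 M hM K hKU.hall hK1).2.2.1 p hp (hKsdef ▸ hpK) S).2.2
  apply h3
  rw [← hKsdef]
  refine le_trans (hQmax _ ((map_subtype_le _).trans hMsM) (S.isPGroup'.map _)) hQKs

/-- **S1364**, conditionally. -/
theorem s1364_of (hG : Cfsg.IsMinSimpleOddOrder G) (h1350 : St1350 G) (h1351 : St1351 G)
    (h1354 : St1354 G) (h1355 : St1355 G) (h1356 : St1356 G) (h1365 : St1365 G)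
    (h1366 : St1366 G) (h1373 : St1373 G) (h1429 : St1429 G) (h1430 : St1430 G)
    (h1431 : St1431 G) : St1364 G := by
  intro M hM K U hKU hK1
  obtain ⟨Mstar, ⟨hMs, hKst, hKstH⟩, -⟩ := h1366 M hM K U hKU hK1
  have hcyc : IsCyclic ↥(Cfsg.sigmaCore M ⊓ centralizer (K : Set G)) :=
    (h1351 Mstar hMs).2 _ hKstH
  have hKs1 : Cfsg.sigmaCore M ⊓ centralizer (K : Set G) ≠ ⊥ :=
    (h1354 M hM K hKU.cyclic hKU.hall).1
  have hKsF := Kstar_le_fittingHallOf hG h1350 h1355 h1356 h1365 h1373 h1429 h1430 hM hKU hK1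
  exact ⟨hcyc, hKs1, hKsF,
    fittingHallOf_not_cyclic hG h1431 hM hKU hK1 hKs1 hKsF (h1355 M hM).2.1⟩

end appl

end Cfsg.Agent.Helper20.BG15L
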