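import Mathlib
import Cfsg.Agent.Helper13.PGDefs

set_option autoImplicit false

/-!
# S2490 piece ALEM: a non-trivial normal subgroup of order prime to 11 has order 16
-/

namespace Cfsg.Agent.Helper20.PG

open Cfsg.Agent.Helper13.PG MulAction

variable {G : Type*} [Group G]

/-- the order of a Sylow `q`-subgroup when `|G| = q ^ k * m`, `q ∤ m` -/
theorem card_sylow_of_eq [Finite G] (q k m : ℕ) [Fact q.Prime] (hG : Nat.card G = q ^ k * m)
    (hm : ¬ q ∣ m) (Q : Sylow q G) : Nat.card ↥(Q : Subgroup G) = q ^ k := by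
  rw [Sylow.card_eq_multiplicity, hG]
  have hq : q.Prime := Fact.out
  have hm0 : m ≠ 0 := by rintro rfl; exact hm (dvd_zero q)
  rw [Nat.factorization_mul (pow_ne_zero k hq.ne_zero) hm0]
  simp [Nat.Prime.factorization_pow hq, Nat.factorization_eq_zero_of_not_dvd hm]

/-- the orders of the Sylow subgroups of a group of order 7920 -/
theorem card_sylow_7920 [Finite G] (hG : Nat.card G = 7920) (q : ℕ) [Fact q.Prime]
    (hq : q = 2 ∨ q = 3 ∨ q = 5) (Q : Sylow q G) :
    Nat.card ↥(Q : Subgroup G) = if q = 2 then 16 else if q = 3 then 9 else 5 := by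
  rcases hq with rfl | rfl | rfl
  · simpa using card_sylow_of_eq 2 4 495 (by rw [hG]; norm_num) (by norm_num) Q
  · simpa using card_sylow_of_eq 3 2 880 (by rw [hG]; norm_num) (by norm_num) Q
  · simpa using card_sylow_of_eq 5 1 1584 (by rw [hG]; norm_num) (by norm_num) Q

theorem card_sylow_eleven_7920 [Finite G] (hG : Nat.card G = 7920) [Fact (Nat.Prime 11)]
    (X : Sylow 11 G) : Nat.card ↥(X : Subgroup G) = 11 := by
  simpa using card_sylow_of_eq 11 1 720 (by rw [hG]; norm_num) (by norm_num) X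

/-- exponent bound -/
theorem exp_le_of_pow_dvd (s e B M : ℕ) (h : s ^ e ∣ M) (hB : ¬ s ^ (B + 1) ∣ M) : e ≤ B := by
  by_contra hlt
  rw [not_le] at hlt
  exact hB ((pow_dvd_pow s hlt).trans h)

theorem num1 (s e : ℕ) (hs : s = 2 ∨ s = 3 ∨ s = 5) (hpow : s ^ e ∣ 720)
    (hdiv : 11 ∣ s ^ e - 1) : e = 0 := by
  rcases hs with rfl | rfl | rfl
  · have he := exp_le_of_pow_dvd 2 e 4 720 hpow (by norm_num)
    interval_cases e <;> simp_all
  · have he := exp_le_of_pow_dvd 3 e 2 720 hpow (by norm_num)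
    interval_cases e <;> simp_all
  · have he := exp_le_of_pow_dvd 5 e 1 720 hpow (by norm_num)
    interval_cases e <;> simp_all

theorem num2 (q s e : ℕ) (hq : q = 2 ∨ q = 3 ∨ q = 5) (hs : s = 2 ∨ s = 3 ∨ s = 5) (hqs : q ≠ s)
    (he1 : 1 ≤ e) (hpow : s ^ e ∣ 720)
    (hdiv : (if q = 2 then 16 else if q = 3 then 9 else 5) ∣ s ^ e - 1) :
    q = 5 ∧ s = 2 ∧ e = 4 := by
  rcases hs with rfl | rfl | rfl
  · have he := exp_le_of_pow_dvd 2 e 4 720 hpow (by norm_num)
    rcases hq with rfl | rfl | rfl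
    · exact absurd rfl hqs
    · interval_cases e <;> norm_num at hdiv
    · interval_cases e
      · norm_num at hdiv
      · norm_num at hdiv
      · norm_num at hdiv
      · norm_num
  · have he := exp_le_of_pow_dvd 3 e 2 720 hpow (by norm_num)
    rcases hq with rfl | rfl | rfl
    · interval_cases e <;> norm_num at hdiv
    · exact absurd rfl hqs
    · interval_cases e <;> norm_num at hdiv
  · have he := exp_le_of_pow_dvd 5 e 1 720 hpow (by norm_num)
    rcases hq with rfl | rfl | rfl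
    · interval_cases e
      norm_num at hdiv
    · interval_cases e
      norm_num at hdiv
    · exact absurd rfl hqs

theorem prime_dvd_720 (s : ℕ) (hs : s.Prime) (h : s ∣ 720) : s = 2 ∨ s = 3 ∨ s = 5 := by
  have h720 : (720 : ℕ) = 2 ^ 4 * (3 ^ 2 * 5) := by norm_num
  rw [h720] at h
  rcases (Nat.Prime.dvd_mul hs).1 h with h1 | h1
  · left
    exact (Nat.prime_dvd_prime_iff_eq hs (by norm_num)).1 (hs.dvd_of_dvd_pow h1)
  · rcases (Nat.Prime.dvd_mul hs).1 h1 with h2 | h2
    · right; left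
      exact (Nat.prime_dvd_prime_iff_eq hs (by norm_num)).1 (hs.dvd_of_dvd_pow h2)
    · right; right
      exact (Nat.prime_dvd_prime_iff_eq hs (by norm_num)).1 h2

/-- ALEM -/
theorem normal_coprime_card [Finite G] {S : Set ℕ} (hD : Disc G S) (h1 : L1 G) (h2 : L2 G)
    (N : Subgroup G) (hNn : N.Normal) (hN : N ≠ ⊥) (h11 : ¬ 11 ∣ Nat.card ↥N) :
    Nat.card ↥N = 16 ∧ ∀ q : ℕ, (q = 2 ∨ q = 3 ∨ q = 5) → q ∉ S → q = 5 := by
  have h11p : Fact (Nat.Prime 11) := ⟨by norm_num⟩
  have hn0 : Nat.card ↥N ≠ 0 := Nat.card_pos.ne'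
  have hn_dvd : Nat.card ↥N ∣ 11 * 720 := by
    have := Subgroup.card_subgroup_dvd_card N
    rw [hD.card] at this
    exact this
  have hn720 : Nat.card ↥N ∣ 720 := by
    have hc : Nat.Coprime (Nat.card ↥N) 11 :=
      ((Nat.Prime.coprime_iff_not_dvd (by norm_num)).2 h11).symm
    exact hc.dvd_of_dvd_mul_left hn_dvd
  obtain ⟨X⟩ : Nonempty (Sylow 11 G) := inferInstance
  have hXcard : Nat.card ↥(X : Subgroup G) = 11 := card_sylow_eleven_7920 hD.card X
  -- Step 1: primes dividing `|N|` are in `S`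
  have hS : ∀ s, (s = 2 ∨ s = 3 ∨ s = 5) → s ∉ S → ¬ s ∣ Nat.card ↥N := by
    intro s hs hsS hsn
    have hsp : s.Prime := by rcases hs with rfl | rfl | rfl <;> norm_num
    obtain ⟨Q, hQN, hQc, hXQ⟩ := h2 11 s (by norm_num) hsp N hNn X X.2 h11
    have hQp : IsPGroup s ↥Q := IsPGroup.of_card hQc
    have hne : (11 : ℕ) ≠ s := by rcases hs with rfl | rfl | rfl <;> norm_num
    have hdiv := h1 11 s (by norm_num) hsp hne X Q X.2 hQp hXQ
      (fun g => hD.noedge 11 s (by norm_num) (by tauto) hD.mem11 hsS g)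
    rw [hXcard, hQc] at hdiv
    have hpow : s ^ (Nat.card ↥N).factorization s ∣ 720 := (Nat.ordProj_dvd _ _).trans hn720
    have he := num1 s _ hs hpow hdiv
    have hpos := hsp.factorization_pos_of_dvd hn0 hsn
    omega
  have hmain : ∀ q, (q = 2 ∨ q = 3 ∨ q = 5) → q ∉ S → ∀ s, s.Prime → s ∣ Nat.card ↥N →
      q = 5 ∧ s = 2 ∧ (Nat.card ↥N).factorization s = 4 := by
    intro q hq hqS s hsp hsn
    have hs : s = 2 ∨ s = 3 ∨ s = 5 := prime_dvd_720 s hsp (hsn.trans hn720)
    have hsS : s ∈ S := by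
      by_contra hc
      exact hS s hs hc hsn
    have hqn : ¬ q ∣ Nat.card ↥N := hS q hq hqS
    have hqs : q ≠ s := by
      rintro rfl
      exact hqS hsS
    have hqp : q.Prime := by rcases hq with rfl | rfl | rfl <;> norm_num
    have : Fact q.Prime := ⟨hqp⟩
    obtain ⟨Qq⟩ : Nonempty (Sylow q G) := inferInstance
    have hQqcard := card_sylow_7920 hD.card q hq Qq
    obtain ⟨Q, hQN, hQc, hRQ⟩ := h2 q s hqp hsp N hNn Qq Qq.2 hqn
    have hQp : IsPGroup s ↥Q := IsPGroup.of_card hQc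
    have hdiv := h1 q s hqp hsp hqs Qq Q Qq.2 hQp hRQ
      (fun g => by
        rw [mul_comm]
        exact hD.noedge s q (by tauto) (by tauto) hsS hqS g)
    rw [hQc, hQqcard] at hdiv
    have hpow : s ^ (Nat.card ↥N).factorization s ∣ 720 := (Nat.ordProj_dvd _ _).trans hn720
    have hpos := hsp.factorization_pos_of_dvd hn0 hsn
    exact num2 q s _ hq hs hqs hpos hpow hdiv
  have hn1 : Nat.card ↥N ≠ 1 := by
    intro h
    exact hN (Subgroup.card_eq_one.1 h)
  obtain ⟨s₀, hs₀p, hs₀n⟩ := Nat.exists_prime_and_dvd hn1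
  obtain ⟨q₀, hq₀, hq₀S⟩ := hD.exB
  constructor
  · have hall : ∀ {d : ℕ}, d.Prime → d ∣ Nat.card ↥N → d = 2 := by
      intro d hd hdn
      exact (hmain q₀ hq₀ hq₀S d hd hdn).2.1
    have h := Nat.eq_prime_pow_of_unique_prime_dvd hn0 hall
    have h4 : (Nat.card ↥N).factorization 2 = 4 := by
      have h2' := hall hs₀p hs₀n
      subst h2'
      exact (hmain q₀ hq₀ hq₀S 2 hs₀p hs₀n).2.2
    obtain ⟨k, hk⟩ : ∃ k : ℕ, Nat.card ↥N = 2 ^ k := ⟨_, h⟩
    have h5 : (Nat.card ↥N).factorization 2 = k := by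
      rw [hk, Nat.Prime.factorization_pow Nat.prime_two]
      simp
    have hk4 : k = 4 := by rw [← h5, h4]
    rw [hk, hk4]
    norm_num
  · intro q hq hqS
    exact (hmain q hq hqS s₀ hs₀p hs₀n).1

end Cfsg.Agent.Helper20.PG
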