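import Mathlib
import Cfsg.Agent.Helper13.PGDefs
import Cfsg.Agent.Helper20.PGALEM

set_option autoImplicit false

/-!
# S2490 piece NOCOP: every non-trivial normal subgroup has order divisible by 11
-/

namespace Cfsg.Agent.Helper20.PG

open Cfsg.Agent.Helper13.PG MulAction

variable {G : Type*} [Group G]

theorem num3 (k : ℕ) (hk : k ∣ 16) (hmod : 16 ≡ k [MOD 11]) : k = 16 := by
  have hle : k ≤ 16 := Nat.le_of_dvd (by norm_num) hk
  unfold Nat.ModEq at hmod
  interval_cases k <;> omega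

theorem num4 (n : ℕ) (hn : n ∣ 16) (hmod : n ≡ 1 [MOD 11]) : n = 1 := by
  have hle : n ≤ 16 := Nat.le_of_dvd (by norm_num) hn
  unfold Nat.ModEq at hmod
  interval_cases n <;> omega

/-- a Sylow 11-subgroup centralizes a normal subgroup of order 16 -/
theorem centralizes_of_card_sixteen [Finite G] [Fact (Nat.Prime 11)] (X : Sylow 11 G)
    (N : Subgroup G) (hNn : N.Normal) (hN16 : Nat.card ↥N = 16) :
    ∀ x ∈ (X : Subgroup G), ∀ n ∈ N, x * n = n * x := by
  classical
  let φ : ↥(X : Subgroup G) →* MulAut ↥N :=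
    (MulAut.conjNormal (H := N)).comp (X : Subgroup G).subtype
  let _i : MulAction ↥(X : Subgroup G) ↥N := MulAction.compHom ↥N φ
  have hsmul : ∀ (x : ↥(X : Subgroup G)) (n : ↥N), ((x • n : ↥N) : G) = x * n * (x : G)⁻¹ :=
    fun x n => rfl
  have hmod := IsPGroup.card_modEq_card_fixedPoints (p := 11) (G := ↥(X : Subgroup G)) X.2 ↥N
  let K : Subgroup ↥N := (Subgroup.centralizer ((X : Subgroup G) : Set G)).subgroupOf N
  have hfix : (fixedPoints ↥(X : Subgroup G) ↥N) = (K : Set ↥N) := by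
    ext n
    simp only [mem_fixedPoints, SetLike.mem_coe]
    rw [Subgroup.mem_subgroupOf, Subgroup.mem_centralizer_iff]
    constructor
    · intro h x hx
      have h' := congrArg Subtype.val (h ⟨x, hx⟩)
      rw [hsmul] at h'
      exact mul_inv_eq_iff_eq_mul.1 h'
    · intro h x
      apply Subtype.ext
      rw [hsmul]
      exact mul_inv_eq_iff_eq_mul.2 (h x x.2)
  have hcard : Nat.card ↥(fixedPoints ↥(X : Subgroup G) ↥N) = Nat.card ↥K := by
    rw [hfix]; rfl
  rw [hcard, hN16] at hmod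
  have hK16 : Nat.card ↥K = 16 := by
    apply num3 _ _ hmod
    have := Subgroup.card_subgroup_dvd_card K
    rwa [hN16] at this
  have hKtop : K = ⊤ := by
    rw [← Subgroup.card_eq_iff_eq_top, hK16, hN16]
  intro x hx n hn
  have hmem : (⟨n, hn⟩ : ↥N) ∈ K := by rw [hKtop]; exact Subgroup.mem_top _
  rw [Subgroup.mem_subgroupOf, Subgroup.mem_centralizer_iff] at hmem
  exact hmem x hx

/-- NOCOP -/
theorem eleven_dvd_of_normal [Finite G] {S : Set ℕ} (hD : Disc G S) (h1 : L1 G) (h2 : L2 G)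
    (hA : ∀ N : Subgroup G, N.Normal → N ≠ ⊥ → ¬ 11 ∣ Nat.card ↥N →
      Nat.card ↥N = 16 ∧ ∀ q : ℕ, (q = 2 ∨ q = 3 ∨ q = 5) → q ∉ S → q = 5)
    (hno : ∀ X : Subgroup G, X.Normal → Nat.card ↥X = 11 → False)
    (N : Subgroup G) (hNn : N.Normal) (hN : N ≠ ⊥) : 11 ∣ Nat.card ↥N := by
  by_contra h11
  have h11p : Fact (Nat.Prime 11) := ⟨by norm_num⟩
  obtain ⟨hN16, hB⟩ := hA N hNn hN h11
  have h5S : (5 : ℕ) ∉ S := by
    obtain ⟨q, hq, hqS⟩ := hD.exB
    have := hB q hq hqS
    subst this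
    exact hqS
  have h2S : (2 : ℕ) ∈ S := by
    by_contra h
    have := hB 2 (Or.inl rfl) h
    norm_num at this
  have h3S : (3 : ℕ) ∈ S := by
    by_contra h
    have := hB 3 (Or.inr (Or.inl rfl)) h
    norm_num at this
  obtain ⟨X⟩ : Nonempty (Sylow 11 G) := inferInstance
  have hXcard := card_sylow_eleven_7920 hD.card X
  have hXN := centralizes_of_card_sixteen X N hNn hN16
  set C : Subgroup G := Subgroup.centralizer (N : Set G) with hC
  have hCn : C.Normal := Subgroup.normal_centralizer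
  have hXC : (X : Subgroup G) ≤ C := by
    intro x hx
    rw [Subgroup.mem_centralizer_iff]
    intro n hn
    exact (hXN x hx n hn).symm
  have hCdvd : Nat.card ↥C ∣ 7920 := by
    have := Subgroup.card_subgroup_dvd_card C
    rwa [hD.card] at this
  -- 5 ∤ |C|
  have h5C : ¬ 5 ∣ Nat.card ↥C := by
    intro h5
    have h5p : Fact (Nat.Prime 5) := ⟨by norm_num⟩
    have h2p : Fact (Nat.Prime 2) := ⟨by norm_num⟩
    obtain ⟨c, hc⟩ := exists_prime_orderOf_dvd_card' 5 h5
    obtain ⟨t, ht⟩ := exists_prime_orderOf_dvd_card' 2 (by rw [hN16]; norm_num : 2 ∣ Nat.card ↥N)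
    have hcomm : Commute (c : G) (t : G) := by
      have := c.2
      rw [Subgroup.mem_centralizer_iff] at this
      exact (this t t.2).symm
    have hco : orderOf (c : G) = 5 := by rw [Subgroup.orderOf_coe]; exact hc
    have hto : orderOf (t : G) = 2 := by rw [Subgroup.orderOf_coe]; exact ht
    have := hcomm.orderOf_mul_eq_mul_orderOf_of_coprime (by rw [hco, hto]; norm_num)
    rw [hco, hto] at this
    exact hD.noedge 2 5 (by tauto) (by tauto) h2S h5S _ (by rw [this])
  -- 3 ∤ |C|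
  have h3C : ¬ 3 ∣ Nat.card ↥C := by
    intro h3
    have h5p : Fact (Nat.Prime 5) := ⟨by norm_num⟩
    obtain ⟨F⟩ : Nonempty (Sylow 5 G) := inferInstance
    have hFcard : Nat.card ↥(F : Subgroup G) = 5 := by
      simpa using card_sylow_7920 hD.card 5 (by tauto) F
    obtain ⟨Q, hQC, hQc, hFQ⟩ := h2 5 3 (by norm_num) (by norm_num) C hCn F F.2 h5C
    have hQp : IsPGroup 3 ↥Q := IsPGroup.of_card hQc
    have hdiv := h1 5 3 (by norm_num) (by norm_num) (by norm_num) F Q F.2 hQp hFQ
      (fun g => by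
        rw [mul_comm]
        exact hD.noedge 3 5 (by tauto) (by tauto) h3S h5S g)
    rw [hFcard, hQc] at hdiv
    have hpow : 3 ^ (Nat.card ↥C).factorization 3 ∣ 7920 := (Nat.ordProj_dvd _ _).trans hCdvd
    have he := exp_le_of_pow_dvd 3 _ 2 7920 hpow (by norm_num)
    have hpos := Nat.Prime.factorization_pos_of_dvd (by norm_num : Nat.Prime 3)
      Nat.card_pos.ne' h3
    have key : ∀ e : ℕ, 0 < e → e ≤ 2 → ¬ (5 ∣ 3 ^ e - 1) := by
      intro e h1 h2
      interval_cases e <;> norm_num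
    exact key _ hpos he hdiv
  -- |C| ∣ 176
  have hC176 : Nat.card ↥C ∣ 176 := by
    have hc3 : Nat.Coprime (Nat.card ↥C) 3 :=
      ((Nat.Prime.coprime_iff_not_dvd (by norm_num)).2 h3C).symm
    have hc5 : Nat.Coprime (Nat.card ↥C) 5 :=
      ((Nat.Prime.coprime_iff_not_dvd (by norm_num)).2 h5C).symm
    have hc45 : Nat.Coprime (Nat.card ↥C) (3 ^ 2 * 5) :=
      Nat.Coprime.mul_right (hc3.pow_right 2) hc5
    apply hc45.dvd_of_dvd_mul_left
    norm_num
    exact hCdvd
  -- Sylow 11-subgroups of C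
  let X' : Sylow 11 ↥C := X.subtype hXC
  have hX'card : Nat.card ↥(X' : Subgroup ↥C) = 11 := by
    rw [Sylow.coe_subtype, Nat.card_congr (Subgroup.subgroupOfEquivOfLe hXC).toEquiv]
    exact hXcard
  have hidx : (X' : Subgroup ↥C).index ∣ 16 := by
    have h := Subgroup.card_mul_index (X' : Subgroup ↥C)
    rw [hX'card] at h
    have : 11 * (X' : Subgroup ↥C).index ∣ 11 * 16 := by rw [h]; exact hC176
    exact Nat.dvd_of_mul_dvd_mul_left (by norm_num) this
  have hn := (Sylow.card_dvd_index X').trans hidx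
  have hmod := card_sylow_modEq_one 11 ↥C
  have hone : Nat.card (Sylow 11 ↥C) = 1 := num4 _ hn hmod
  have hsub : Subsingleton (Sylow 11 ↥C) := (Nat.card_eq_one_iff_unique.1 hone).1
  -- X is normal
  have hXnorm : (X : Subgroup G).Normal := by
    rw [← Subgroup.normalizer_eq_top_iff, eq_top_iff]
    intro g _
    have hgC : ((g • X : Sylow 11 G) : Subgroup G) ≤ C := by
      intro y hy
      rw [Sylow.coe_subgroup_smul, Subgroup.mem_smul_pointwise_iff_exists] at hy
      obtain ⟨x, hx, rfl⟩ := hy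
      rw [MulAut.smul_def, MulAut.conj_apply]
      exact hCn.conj_mem x (hXC hx) g
    have h := Subsingleton.elim ((g • X).subtype hgC) (X.subtype hXC)
    exact Sylow.smul_eq_iff_mem_normalizer.1 (Sylow.subtype_injective h)
  exact hno X hXnorm hXcard

end Cfsg.Agent.Helper20.PG
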