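import Mathlib

/-!
# S2981, part (A4): the ambient group

For a normal subgroup `V` of `G` the holomorph-type group `Hol V = V ⋊ MulAut V`, the homomorphism
`piH V : G →* Hol V` (conjugation action, kernel `C_G(V)`), the embedding `iotaH V : V →* Hol V`, and the dictionary between
subgroups of `G` and of `Hol V`.
-/

set_option autoImplicit false

namespace Cfsg.Agent.S2981P

open scoped commutatorElement

variable {G : Type*} [Group G]

/-- the ambient group `V ⋊ Aut V` -/
abbrev Hol (V : Subgroup G) : Type _ := ↥V ⋊[MonoidHom.id (MulAut ↥V)] MulAut ↥V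

instance Hol_finite (V : Subgroup G) [Finite ↥V] : Finite (Hol V) :=
  Finite.of_equiv _ (SemidirectProduct.equivProd).symm

/-- `V → Hol V` -/
def iotaH (V : Subgroup G) : ↥V →* Hol V := SemidirectProduct.inl

/-- `G → Hol V`, conjugation action on the normal subgroup `V` -/
def piH (V : Subgroup G) [V.Normal] : G →* Hol V := SemidirectProduct.inr.comp MulAut.conjNormal

/-- the image of `V` -/
def Vhat (V : Subgroup G) : Subgroup (Hol V) := (iotaH V).range

/-- the image of `G` -/
def Phat (V : Subgroup G) [V.Normal] : Subgroup (Hol V) := (piH V).range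

/-- the image in `Hol V` of the part of `U` inside `V` -/
def hatH (V U : Subgroup G) : Subgroup (Hol V) := (U.subgroupOf V).map (iotaH V)

theorem iotaH_injective (V : Subgroup G) : Function.Injective (iotaH V) := SemidirectProduct.inl_injective

theorem mem_hatH {V U : Subgroup G} {x : Hol V} :
    x ∈ hatH V U ↔ ∃ v : ↥V, (v : G) ∈ U ∧ iotaH V v = x := by
  unfold hatH
  rw [Subgroup.mem_map]
  constructor
  · rintro ⟨v, hv, rfl⟩
    exact ⟨v, Subgroup.mem_subgroupOf.mp hv, rfl⟩
  · rintro ⟨v, hv, rfl⟩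
    exact ⟨v, Subgroup.mem_subgroupOf.mpr hv, rfl⟩

theorem iotaH_mem_hatH {V U : Subgroup G} {v : ↥V} : iotaH V v ∈ hatH V U ↔ (v : G) ∈ U := by
  rw [mem_hatH]
  constructor
  · rintro ⟨w, hw, h⟩
    rw [iotaH_injective V h] at hw
    exact hw
  · intro h
    exact ⟨v, h, rfl⟩

theorem hatH_self (V : Subgroup G) : hatH V V = Vhat V := by
  ext x
  rw [mem_hatH]
  constructor
  · rintro ⟨v, -, rfl⟩
    exact ⟨v, rfl⟩
  · rintro ⟨v, rfl⟩
    exact ⟨v, v.2, rfl⟩

theorem hatH_mono {V U U' : Subgroup G} (h : U ≤ U') : hatH V U ≤ hatH V U' := by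
  intro x hx
  rw [mem_hatH] at hx ⊢
  obtain ⟨v, hv, rfl⟩ := hx
  exact ⟨v, h hv, rfl⟩

theorem hatH_le_Vhat (V U : Subgroup G) : hatH V U ≤ Vhat V := by
  intro x hx
  rw [mem_hatH] at hx
  obtain ⟨v, -, rfl⟩ := hx
  exact ⟨v, rfl⟩

/-- `hatH` reflects inclusions of subgroups of `V` -/
theorem hatH_le_iff {V U U' : Subgroup G} (hU : U ≤ V) : hatH V U ≤ hatH V U' ↔ U ≤ U' := by
  constructor
  · intro h u hu
    have h1 : iotaH V ⟨u, hU hu⟩ ∈ hatH V U := iotaH_mem_hatH.mpr hu
    exact iotaH_mem_hatH.mp (h h1)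
  · exact hatH_mono

theorem hatH_injective {V U U' : Subgroup G} (hU : U ≤ V) (hU' : U' ≤ V) (h : hatH V U = hatH V U') : U = U' :=
  le_antisymm ((hatH_le_iff hU).mp h.le) ((hatH_le_iff hU').mp h.ge)

theorem hatH_inf (V U U' : Subgroup G) : hatH V (U ⊓ U') = hatH V U ⊓ hatH V U' := by
  ext x
  rw [Subgroup.mem_inf, mem_hatH, mem_hatH, mem_hatH]
  constructor
  · rintro ⟨v, ⟨h1, h2⟩, rfl⟩
    exact ⟨⟨v, h1, rfl⟩, ⟨v, h2, rfl⟩⟩
  · rintro ⟨⟨v, h1, rfl⟩, ⟨w, h2, h⟩⟩
    rw [iotaH_injective V h] at h2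
    exact ⟨v, ⟨h1, h2⟩, rfl⟩

theorem hatH_sup {V U U' : Subgroup G} (hU : U ≤ V) (hU' : U' ≤ V) :
    hatH V (U ⊔ U') = hatH V U ⊔ hatH V U' := by
  unfold hatH
  rw [Subgroup.subgroupOf_sup hU hU', Subgroup.map_sup]

theorem hatH_iSup {V : Subgroup G} {ι : Sort*} (U : ι → Subgroup G) (hU : ∀ i, U i ≤ V) :
    hatH V (⨆ i, U i) = ⨆ i, hatH V (U i) := by
  apply le_antisymm
  · -- pull back
    have key : (⨆ i, U i) ≤ ((⨆ i, hatH V (U i)).comap (iotaH V)).map V.subtype := by
      apply iSup_le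
      intro i u hu
      refine ⟨⟨u, hU i hu⟩, ?_, rfl⟩
      show iotaH V ⟨u, hU i hu⟩ ∈ ⨆ i, hatH V (U i)
      exact (le_iSup (fun i => hatH V (U i)) i) (iotaH_mem_hatH.mpr hu)
    intro x hx
    rw [mem_hatH] at hx
    obtain ⟨v, hv, rfl⟩ := hx
    obtain ⟨w, hw, hwv⟩ := key hv
    have : w = v := Subtype.ext hwv
    rw [← this]
    exact hw
  · apply iSup_le
    intro i
    exact hatH_mono (le_iSup U i)

section normal

variable (V : Subgroup G) [V.Normal]

theorem piH_apply (g : G) : piH V g = SemidirectProduct.inr (MulAut.conjNormal g) := rfl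

/-- the conjugation formula -/
theorem piH_conj_iotaH (g : G) (v : ↥V) :
    piH V g * iotaH V v * (piH V g)⁻¹ = iotaH V (MulAut.conjNormal g v) := by
  unfold piH iotaH
  rw [MonoidHom.comp_apply, ← map_inv, ← SemidirectProduct.inl_aut]
  rfl

theorem coe_conjNormal (g : G) (v : ↥V) : ((MulAut.conjNormal g v : ↥V) : G) = g * v * g⁻¹ :=
  MulAut.conjNormal_apply g v

theorem mem_ker_piH {g : G} : g ∈ (piH V).ker ↔ g ∈ Subgroup.centralizer (V : Set G) := by
  rw [MonoidHom.mem_ker, piH_apply]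
  constructor
  · intro h
    have h1 : MulAut.conjNormal (H := V) g = 1 := by
      apply SemidirectProduct.inr_injective (N := ↥V) (φ := MonoidHom.id (MulAut ↥V))
      rw [h, map_one]
    rw [Subgroup.mem_centralizer_iff]
    intro v hv
    have h2 := congrArg (fun f : MulAut ↥V => ((f ⟨v, hv⟩ : ↥V) : G)) h1
    simp only [MulAut.conjNormal_apply, MulAut.one_apply] at h2
    calc v * g = (g * v * g⁻¹) * g := by rw [h2]
      _ = g * v := by group
  · intro h
    have h1 : MulAut.conjNormal (H := V) g = 1 := by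
      ext v
      rw [MulAut.conjNormal_apply, MulAut.one_apply]
      have := (Subgroup.mem_centralizer_iff.mp h) v v.2
      rw [← this]; group
    rw [h1, map_one]

theorem ker_piH : (piH V).ker = Subgroup.centralizer (V : Set G) := by
  ext g; exact mem_ker_piH V

instance Vhat_normal : (Vhat V).Normal := by
  unfold Vhat iotaH
  rw [SemidirectProduct.range_inl_eq_ker_rightHom]
  infer_instance

end normal

end Cfsg.Agent.S2981P
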