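import Mathlib
import Cfsg.Prelude.Def_Transfer
import Cfsg.Agent.Helper20.S2981Hol

/-!
# S2981, part (A4): the dictionary between `G` and `Hol V`

Centralisers, commutators, cardinalities and isomorphisms under `hatH V` (subgroups of `V`) and `Subgroup.map (piH V)`
(subgroups of `G`).
-/

set_option autoImplicit false

namespace Cfsg.Agent.S2981P

open scoped commutatorElement

variable {G : Type*} [Group G] (V : Subgroup G) [V.Normal]

/-- `π g` commutes with `ι v` iff `g` commutes with `v` -/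
theorem piH_comm_iotaH {g : G} {v : ↥V} :
    piH V g * iotaH V v = iotaH V v * piH V g ↔ g * (v : G) = (v : G) * g := by
  have h := piH_conj_iotaH V g v
  constructor
  · intro hc
    have h1 : iotaH V (MulAut.conjNormal g v) = iotaH V v := by
      rw [← h, hc]; group
    have h2 := congrArg (fun w : ↥V => (w : G)) (iotaH_injective V h1)
    simp only [coe_conjNormal] at h2
    calc g * (v : G) = (g * v * g⁻¹) * g := by group
      _ = v * g := by rw [h2]
  · intro hc
    have h1 : MulAut.conjNormal g v = v := by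
      apply Subtype.ext
      rw [coe_conjNormal, hc]; group
    rw [h1] at h
    calc piH V g * iotaH V v = (piH V g * iotaH V v * (piH V g)⁻¹) * piH V g := by group
      _ = iotaH V v * piH V g := by rw [h]

/-- D1 -/
theorem piH_mem_centralizer_hatH {g : G} {U : Subgroup G} (hU : U ≤ V) :
    piH V g ∈ Subgroup.centralizer ((hatH V U : Subgroup (Hol V)) : Set (Hol V)) ↔
      g ∈ Subgroup.centralizer (U : Set G) := by
  rw [Subgroup.mem_centralizer_iff, Subgroup.mem_centralizer_iff]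
  constructor
  · intro h u hu
    have h1 := h (iotaH V ⟨u, hU hu⟩) (iotaH_mem_hatH.mpr hu)
    exact ((piH_comm_iotaH V).mp h1.symm).symm
  · intro h x hx
    obtain ⟨v, hv, rfl⟩ := mem_hatH.mp hx
    exact ((piH_comm_iotaH V).mpr (h (v : G) hv).symm).symm

/-- D2 -/
theorem iotaH_mem_centralizer_map {v : ↥V} {E : Subgroup G} :
    iotaH V v ∈ Subgroup.centralizer ((E.map (piH V) : Subgroup (Hol V)) : Set (Hol V)) ↔
      (v : G) ∈ Subgroup.centralizer (E : Set G) := by
  rw [Subgroup.mem_centralizer_iff, Subgroup.mem_centralizer_iff]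
  constructor
  · intro h e he
    have h1 := h (piH V e) ⟨e, he, rfl⟩
    exact (piH_comm_iotaH V).mp h1
  · rintro h _ ⟨e, he, rfl⟩
    exact (piH_comm_iotaH V).mpr (h e he)

/-- D3 -/
theorem hatH_inf_centralizer_map (U E : Subgroup G) :
    hatH V U ⊓ Subgroup.centralizer ((E.map (piH V) : Subgroup (Hol V)) : Set (Hol V)) =
      hatH V (U ⊓ Subgroup.centralizer (E : Set G)) := by
  ext x
  rw [Subgroup.mem_inf, mem_hatH, mem_hatH]
  constructor
  · rintro ⟨⟨v, hv, rfl⟩, h2⟩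
    exact ⟨v, ⟨hv, (iotaH_mem_centralizer_map V).mp h2⟩, rfl⟩
  · rintro ⟨v, ⟨hv, hc⟩, rfl⟩
    exact ⟨⟨v, hv, rfl⟩, (iotaH_mem_centralizer_map V).mpr hc⟩

theorem Vhat_inf_centralizer_map (E : Subgroup G) :
    Vhat V ⊓ Subgroup.centralizer ((E.map (piH V) : Subgroup (Hol V)) : Set (Hol V)) =
      hatH V (V ⊓ Subgroup.centralizer (E : Set G)) := by
  rw [← hatH_self, hatH_inf_centralizer_map]

/-- D4 -/
theorem map_piH_inf_centralizer_hatH (E : Subgroup G) {U : Subgroup G} (hU : U ≤ V) :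
    E.map (piH V) ⊓ Subgroup.centralizer ((hatH V U : Subgroup (Hol V)) : Set (Hol V)) =
      (E ⊓ Subgroup.centralizer (U : Set G)).map (piH V) := by
  ext x
  rw [Subgroup.mem_inf]
  constructor
  · rintro ⟨⟨e, he, rfl⟩, h2⟩
    exact ⟨e, ⟨he, (piH_mem_centralizer_hatH V hU).mp h2⟩, rfl⟩
  · rintro ⟨e, ⟨he, hc⟩, rfl⟩
    exact ⟨⟨e, he, rfl⟩, (piH_mem_centralizer_hatH V hU).mpr hc⟩

/-- faithfulness in `Hol V` -/
theorem Phat_inf_centralizer_Vhat :
    Phat V ⊓ Subgroup.centralizer ((Vhat V : Subgroup (Hol V)) : Set (Hol V)) = ⊥ := by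
  rw [eq_bot_iff]
  rintro x ⟨⟨g, rfl⟩, h2⟩
  rw [← hatH_self] at h2
  have h3 := (piH_mem_centralizer_hatH V le_rfl).mp h2
  rw [Subgroup.mem_bot]
  exact (MonoidHom.mem_ker).mp ((mem_ker_piH V).mpr h3)

/-- a subgroup of `G` centralises `V` iff its image centralises `Vhat` -/
theorem map_piH_le_centralizer_Vhat {A : Subgroup G} :
    A.map (piH V) ≤ Subgroup.centralizer ((Vhat V : Subgroup (Hol V)) : Set (Hol V)) ↔
      A ≤ Subgroup.centralizer (V : Set G) := by
  rw [← hatH_self]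
  constructor
  · intro h a ha
    exact (piH_mem_centralizer_hatH V le_rfl).mp (h ⟨a, ha, rfl⟩)
  · rintro h _ ⟨a, ha, rfl⟩
    exact (piH_mem_centralizer_hatH V le_rfl).mpr (h ha)

/-- the commutator of `u ∈ V` and `e` -/
theorem commutator_iotaH_piH (u : ↥V) (e : G) :
    ⁅iotaH V u, piH V e⁆ = iotaH V (u * MulAut.conjNormal e u⁻¹) := by
  rw [commutatorElement_def, map_mul, ← piH_conj_iotaH, map_inv]
  group

theorem coe_commutator_aux (u : ↥V) (e : G) :
    ((u * MulAut.conjNormal e u⁻¹ : ↥V) : G) = ⁅(u : G), e⁆ := by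
  rw [Subgroup.coe_mul, coe_conjNormal, commutatorElement_def, Subgroup.coe_inv]
  group

/-- D5 -/
theorem commutator_hatH_map {U : Subgroup G} (hU : U ≤ V) (E : Subgroup G) :
    ⁅hatH V U, E.map (piH V)⁆ = hatH V ⁅U, E⁆ := by
  apply le_antisymm
  · rw [Subgroup.commutator_le]
    rintro x hx _ ⟨e, he, rfl⟩
    obtain ⟨u, hu, rfl⟩ := mem_hatH.mp hx
    rw [commutator_iotaH_piH, iotaH_mem_hatH, coe_commutator_aux]
    exact Subgroup.commutator_mem_commutator hu he
  · have key : ⁅U, E⁆ ≤ ((⁅hatH V U, E.map (piH V)⁆).comap (iotaH V)).map V.subtype := by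
      rw [Subgroup.commutator_le]
      intro u hu e he
      refine ⟨⟨u, hU hu⟩ * MulAut.conjNormal e (⟨u, hU hu⟩ : ↥V)⁻¹, ?_, coe_commutator_aux V ⟨u, hU hu⟩ e⟩
      show iotaH V _ ∈ ⁅hatH V U, E.map (piH V)⁆
      rw [← commutator_iotaH_piH]
      exact Subgroup.commutator_mem_commutator (iotaH_mem_hatH.mpr hu) ⟨e, he, rfl⟩
    intro x hx
    obtain ⟨v, hv, rfl⟩ := mem_hatH.mp hx
    obtain ⟨w, hw, hwv⟩ := key hv
    have : w = v := Subtype.ext hwv
    rw [← this]
    exact hw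

theorem commutator_Vhat_map (E : Subgroup G) : ⁅Vhat V, E.map (piH V)⁆ = hatH V ⁅V, E⁆ := by
  rw [← hatH_self, commutator_hatH_map V le_rfl]

/-- `[U, E] ≤ V` for `U ≤ V` -/
theorem commutator_le_of_le {U : Subgroup G} (hU : U ≤ V) (E : Subgroup G) : ⁅U, E⁆ ≤ V := by
  rw [Subgroup.commutator_le]
  intro u hu e he
  have h1 : e * u⁻¹ * e⁻¹ ∈ V := ‹V.Normal›.conj_mem _ (V.inv_mem (hU hu)) e
  have : ⁅u, e⁆ = u * (e * u⁻¹ * e⁻¹) := by rw [commutatorElement_def]; group
  rw [this]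
  exact V.mul_mem (hU hu) h1

end Cfsg.Agent.S2981P
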