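import Mathlib
import Cfsg.Prelude.Def_Transfer
import Cfsg.Agent.Helper20.S2981Dict

/-!
# S2981, part (A4): the dictionary, second part

Isomorphisms `U ≃* hatH V U`, `E ⧸ C_E(V) ≃* E.map (piH V)`, cardinalities, elementary abelian, conjugation, Sylow images.
-/

set_option autoImplicit false

namespace Cfsg.Agent.S2981P

open scoped commutatorElement

variable {G : Type*} [Group G]

section noNormal

variable (V : Subgroup G)

/-- `U → hatH V U` for `U ≤ V` -/
def hatHom {U : Subgroup G} (hU : U ≤ V) : ↥U →* ↥(hatH V U) where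
  toFun u := ⟨iotaH V ⟨u, hU u.2⟩, iotaH_mem_hatH.mpr u.2⟩
  map_one' := by
    apply Subtype.ext
    show iotaH V ⟨1, _⟩ = 1
    exact map_one (iotaH V)
  map_mul' a b := by
    apply Subtype.ext
    show iotaH V ⟨a * b, _⟩ = iotaH V ⟨a, _⟩ * iotaH V ⟨b, _⟩
    rw [← map_mul]
    rfl

theorem coe_hatHom {U : Subgroup G} (hU : U ≤ V) (u : ↥U) :
    ((hatHom V hU u : ↥(hatH V U)) : Hol V) = iotaH V ⟨u, hU u.2⟩ := rfl

theorem hatHom_bijective {U : Subgroup G} (hU : U ≤ V) : Function.Bijective (hatHom V hU) := by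
  constructor
  · intro a b h
    have h1 := congrArg Subtype.val h
    rw [coe_hatHom, coe_hatHom] at h1
    have h2 := congrArg Subtype.val (iotaH_injective V h1)
    exact Subtype.ext h2
  · rintro ⟨x, hx⟩
    obtain ⟨v, hv, rfl⟩ := mem_hatH.mp hx
    exact ⟨⟨v, hv⟩, rfl⟩

/-- `U ≃* hatH V U` for `U ≤ V` -/
noncomputable def hatEquiv {U : Subgroup G} (hU : U ≤ V) : ↥U ≃* ↥(hatH V U) :=
  MulEquiv.ofBijective (hatHom V hU) (hatHom_bijective V hU)

theorem coe_hatEquiv {U : Subgroup G} (hU : U ≤ V) (u : ↥U) :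
    ((hatEquiv V hU u : ↥(hatH V U)) : Hol V) = iotaH V ⟨u, hU u.2⟩ := rfl

theorem card_hatH {U : Subgroup G} (hU : U ≤ V) : Nat.card ↥(hatH V U) = Nat.card ↥U :=
  (Nat.card_congr (hatEquiv V hU).toEquiv).symm

/-- D7 -/
theorem Vhat_elementaryAbelian {p : ℕ} (hV : Cfsg.IsElementaryAbelian p V) : Cfsg.IsElementaryAbelian p (Vhat V) := by
  obtain ⟨hc, he⟩ := hV
  constructor
  · refine ⟨⟨?_⟩⟩
    rintro ⟨_, a, rfl⟩ ⟨_, b, rfl⟩
    apply Subtype.ext
    show iotaH V a * iotaH V b = iotaH V b * iotaH V a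
    rw [← map_mul, ← map_mul, hc.is_comm.comm a b]
  · rintro _ ⟨a, rfl⟩
    rw [← map_pow]
    have : a ^ p = 1 := by
      apply Subtype.ext
      rw [Subgroup.coe_pow, Subgroup.coe_one]
      exact he a a.2
    rw [this, map_one]

end noNormal

section normal

variable (V : Subgroup G) [V.Normal]

/-- the centraliser of the normal subgroup `V` is normal -/
theorem centralizer_normal : (Subgroup.centralizer (V : Set G)).Normal := by
  rw [← ker_piH V]
  infer_instance

theorem centralizer_subgroupOf_normal (E : Subgroup G) :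
    ((Subgroup.centralizer (V : Set G)).subgroupOf E).Normal := by
  have := centralizer_normal V
  infer_instance

theorem ker_subgroupMap_piH (E : Subgroup G) :
    ((piH V).subgroupMap E).ker = (Subgroup.centralizer (V : Set G)).subgroupOf E := by
  ext x
  rw [MonoidHom.mem_ker, Subgroup.mem_subgroupOf, ← mem_ker_piH V, MonoidHom.mem_ker]
  constructor
  · intro h
    exact congrArg Subtype.val h
  · intro h
    exact Subtype.ext h

/-- D6: `E / C_E(V) ≃* E.map (piH V)` -/
noncomputable def mapEquiv (E : Subgroup G) [((Subgroup.centralizer (V : Set G)).subgroupOf E).Normal] :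
    ↥E ⧸ (Subgroup.centralizer (V : Set G)).subgroupOf E ≃* ↥(E.map (piH V)) :=
  (QuotientGroup.quotientMulEquivOfEq (ker_subgroupMap_piH V E).symm).trans
    (QuotientGroup.quotientKerEquivOfSurjective _ ((piH V).subgroupMap_surjective E))

/-- D6: cardinality of the image -/
theorem card_map_piH [Finite G] (E : Subgroup G) :
    Nat.card ↥(E.map (piH V)) * Nat.card ↥(E ⊓ Subgroup.centralizer (V : Set G)) = Nat.card ↥E := by
  have := centralizer_subgroupOf_normal V E
  have h1 := Nat.card_congr (mapEquiv V E).toEquiv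
  have h2 := Subgroup.card_eq_card_quotient_mul_card_subgroup ((Subgroup.centralizer (V : Set G)).subgroupOf E)
  rw [h1] at h2
  have h3 : Nat.card ↥((Subgroup.centralizer (V : Set G)).subgroupOf E) =
      Nat.card ↥(E ⊓ Subgroup.centralizer (V : Set G)) := by
    rw [inf_comm, ← Subgroup.subgroupOf_map_subtype]
    exact (Subgroup.card_map_of_injective E.subtype_injective).symm
  rw [h2, h3]

/-- D8: conjugation commutes with `piH` -/
theorem comap_piH_conj (t : G) (Ehat : Subgroup (Hol V)) :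
    (Ehat.map (MulAut.conj (piH V t)).toMonoidHom).comap (piH V) =
      (Ehat.comap (piH V)).map (MulAut.conj t).toMonoidHom := by
  ext x
  rw [Subgroup.mem_comap]
  constructor
  · rintro ⟨y, hy, hyx⟩
    refine ⟨t⁻¹ * x * t, ?_, ?_⟩
    · show piH V (t⁻¹ * x * t) ∈ Ehat
      have : piH V (t⁻¹ * x * t) = y := by
        rw [map_mul, map_mul, map_inv, ← hyx]
        show (piH V t)⁻¹ * (piH V t * y * (piH V t)⁻¹) * piH V t = y
        group
      rw [this]; exact hy
    · show t * (t⁻¹ * x * t) * t⁻¹ = x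
      group
  · rintro ⟨y, hy, rfl⟩
    refine ⟨piH V y, hy, ?_⟩
    show piH V t * piH V y * (piH V t)⁻¹ = piH V (t * y * t⁻¹)
    rw [map_mul, map_mul, map_inv]

theorem map_piH_conj (t : G) (E : Subgroup G) :
    (E.map (MulAut.conj t).toMonoidHom).map (piH V) =
      (E.map (piH V)).map (MulAut.conj (piH V t)).toMonoidHom := by
  ext x
  constructor
  · rintro ⟨_, ⟨e, he, rfl⟩, rfl⟩
    refine ⟨piH V e, ⟨e, he, rfl⟩, ?_⟩
    show piH V t * piH V e * (piH V t)⁻¹ = piH V (t * e * t⁻¹)
    rw [map_mul, map_mul, map_inv]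
  · rintro ⟨_, ⟨e, he, rfl⟩, rfl⟩
    refine ⟨t * e * t⁻¹, ⟨e, he, rfl⟩, ?_⟩
    show piH V (t * e * t⁻¹) = piH V t * piH V e * (piH V t)⁻¹
    rw [map_mul, map_mul, map_inv]

/-- comap then map, for subgroups of `Phat` -/
theorem map_comap_piH {Ehat : Subgroup (Hol V)} (h : Ehat ≤ Phat V) : (Ehat.comap (piH V)).map (piH V) = Ehat := by
  rw [Subgroup.map_comap_eq, inf_of_le_right]
  exact h

theorem comap_map_piH (E : Subgroup G) : (E.map (piH V)).comap (piH V) = E ⊔ Subgroup.centralizer (V : Set G) := by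
  rw [Subgroup.comap_map_eq, ker_piH]

theorem centralizer_le_comap_piH (Ehat : Subgroup (Hol V)) :
    Subgroup.centralizer (V : Set G) ≤ Ehat.comap (piH V) := by
  rw [← ker_piH V]
  exact Subgroup.ker_le_comap (piH V) Ehat

end normal

end Cfsg.Agent.S2981P
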