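import Mathlib
import Cfsg.Prelude.Def_LocalEven
import Cfsg.Agent.Helper14.PCore

/-!
# S2981, part (A): transport along a surjective homomorphism

`f : G →* H` surjective, `G` finite and `p`-minimal, `ker f` inside every maximal subgroup containing a Sylow
`p`-subgroup: then `H` is `p`-minimal, and `O_p(H) = 1` if moreover `O_p(G) ≤ ker f`.
-/

set_option autoImplicit false

namespace Cfsg.Agent.S2981P

open Cfsg

variable {G H : Type*} [Group G] [Group H] {f : G →* H}

/-- Q1 -/
theorem isCoatom_map (hf : Function.Surjective f) {M : Subgroup G} (hM : IsCoatom M) (hk : f.ker ≤ M) :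
    IsCoatom (M.map f) := by
  have hcm : (M.map f).comap f = M := by
    rw [Subgroup.comap_map_eq, sup_of_le_left hk]
  constructor
  · intro h
    rw [h, Subgroup.comap_top] at hcm
    exact hM.1 hcm.symm
  · intro K hK
    have h1 : M ≤ K.comap f := by
      rw [← hcm]; exact Subgroup.comap_mono hK.le
    have h2 : M ≠ K.comap f := by
      intro h
      have : M.map f = K := by rw [h, Subgroup.map_comap_eq_self_of_surjective hf]
      exact hK.ne this
    have h3 : K.comap f = ⊤ := hM.2 _ (lt_of_le_of_ne h1 h2)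
    rw [← Subgroup.map_comap_eq_self_of_surjective hf K, h3, Subgroup.map_top_of_surjective f hf]

/-- Q2 -/
theorem isCoatom_comap (hf : Function.Surjective f) {K : Subgroup H} (hK : IsCoatom K) :
    IsCoatom (K.comap f) := by
  constructor
  · intro h
    apply hK.1
    rw [← Subgroup.map_comap_eq_self_of_surjective hf K, h, Subgroup.map_top_of_surjective f hf]
  · intro L hL
    have hkL : f.ker ≤ L := (Subgroup.ker_le_comap f K).trans hL.le
    have h1 : K ≤ L.map f := by
      rw [← Subgroup.map_comap_eq_self_of_surjective hf K]; exact Subgroup.map_mono hL.le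
    have h2 : K ≠ L.map f := by
      intro h
      have : L ≤ K.comap f := by
        rw [h, Subgroup.comap_map_eq, sup_of_le_left hkL]
      exact (not_le_of_gt hL) this
    have h3 : L.map f = ⊤ := hK.2 _ (lt_of_le_of_ne h1 h2)
    have h4 : (L.map f).comap f = L := by rw [Subgroup.comap_map_eq, sup_of_le_left hkL]
    rw [← h4, h3, Subgroup.comap_top]

variable {p : ℕ} [Fact p.Prime] [Finite G]

/-- a proper subgroup containing a Sylow subgroup of a `p`-minimal group lies in the unique maximal subgroup -/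
theorem le_of_isPMinimal (hmin : IsPMinimal p G) (S : Sylow p G) {M : Subgroup G} (hM : IsCoatom M)
    (hSM : (S : Subgroup G) ≤ M) {K : Subgroup G} (hSK : (S : Subgroup G) ≤ K) (hK : K ≠ ⊤) : K ≤ M := by
  obtain ⟨M', hM', hKM'⟩ := (eq_top_or_exists_le_coatom K).resolve_left hK
  obtain ⟨-, M₀, -, huniq⟩ := hmin S
  have e1 : M' = M₀ := huniq M' ⟨hM', hSK.trans hKM'⟩
  have e2 : M = M₀ := huniq M ⟨hM, hSM⟩
  rw [e2, ← e1]; exact hKM'

/-- Q3 -/
theorem isPMinimal_of_surjective (hf : Function.Surjective f) (hmin : IsPMinimal p G)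
    (hker : ∀ S : Sylow p G, ∀ M : Subgroup G, IsCoatom M → (S : Subgroup G) ≤ M → f.ker ≤ M) :
    IsPMinimal p H := by
  intro Shat
  obtain ⟨S, rfl⟩ := Sylow.mapSurjective_surjective hf p Shat
  obtain ⟨hnn, M, ⟨hM, hSM⟩, huniq⟩ := hmin S
  have hkM : f.ker ≤ M := hker S M hM hSM
  refine ⟨?_, M.map f, ⟨isCoatom_map hf hM hkM, ?_⟩, ?_⟩
  · intro hn
    rw [Sylow.coe_mapSurjective] at hn
    have hN : (((S : Subgroup G).map f).comap f).Normal := hn.comap f
    have hSN : (S : Subgroup G) ≤ ((S : Subgroup G).map f).comap f := Subgroup.le_comap_map f _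
    have hfr := Sylow.normalizer_sup_eq_top' S hSN
    have h1 : Subgroup.normalizer ((S : Subgroup G) : Set G) ≤ M := by
      apply le_of_isPMinimal hmin S hM hSM Subgroup.le_normalizer
      intro h
      exact hnn (Subgroup.normalizer_eq_top_iff.mp h)
    have h2 : ((S : Subgroup G).map f).comap f ≤ M := by
      rw [Subgroup.comap_map_eq]
      exact sup_le hSM hkM
    have : (⊤ : Subgroup G) ≤ M := by
      rw [← hfr]; exact sup_le h1 h2
    exact hM.1 (top_le_iff.mp this)
  · rw [Sylow.coe_mapSurjective]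
    exact Subgroup.map_mono hSM
  · rintro K ⟨hK, hSK⟩
    rw [Sylow.coe_mapSurjective] at hSK
    have h1 : IsCoatom (K.comap f) := isCoatom_comap hf hK
    have h2 : (S : Subgroup G) ≤ K.comap f := Subgroup.map_le_iff_le_comap.mp hSK
    have h3 : K.comap f = M := huniq _ ⟨h1, h2⟩
    rw [← h3, Subgroup.map_comap_eq_self_of_surjective hf]

/-- Q4 -/
theorem pCore_eq_bot_of_surjective (hf : Function.Surjective f) (hmin : IsPMinimal p G)
    (hker : ∀ S : Sylow p G, ∀ M : Subgroup G, IsCoatom M → (S : Subgroup G) ≤ M → f.ker ≤ M)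
    (hOp : pCore p G ≤ f.ker) : pCore p H = ⊥ := by
  have : Finite H := Finite.of_surjective f hf
  set R : Subgroup H := pCore p H with hR
  have hRn : R.Normal := Cfsg.Agent.Helper14.pCore_normal p
  have hRp : IsPGroup p ↥R := Cfsg.Agent.Helper14.pCore_isPGroup p
  set D : Subgroup G := R.comap f with hD
  have hDn : D.Normal := hRn.comap f
  -- a Sylow subgroup of `D`, inside a Sylow subgroup `S` of `G`
  obtain ⟨P₁⟩ : Nonempty (Sylow p ↥D) := inferInstance
  obtain ⟨S, hQS⟩ := (P₁.2.map D.subtype).exists_le_sylow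
  have hQ : (P₁ : Subgroup ↥D).map D.subtype = (S : Subgroup G) ⊓ D := by
    have h1 : (P₁ : Subgroup ↥D) ≤ ((S : Subgroup G) ⊓ D).subgroupOf D := by
      intro x hx
      rw [Subgroup.mem_subgroupOf]
      exact ⟨hQS ⟨x, hx, rfl⟩, x.2⟩
    have h2 : IsPGroup p ↥(((S : Subgroup G) ⊓ D).subgroupOf D) :=
      (S.2.to_le inf_le_left).comap_subtype
    have h3 := P₁.is_maximal' h2 h1
    rw [← h3, Subgroup.subgroupOf_map_subtype, inf_of_le_left inf_le_right]
  obtain ⟨hnn, M, ⟨hM, hSM⟩, huniq⟩ := hmin S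
  have hkM : f.ker ≤ M := hker S M hM hSM
  -- `D ≤ (S ⊓ D) ⊔ ker f`
  have hRS : R ≤ (S : Subgroup G).map f := by
    have := Cfsg.Agent.Helper14.pCore_le_sylow p (S.mapSurjective hf)
    rwa [Sylow.coe_mapSurjective] at this
  have hDle : D ≤ ((S : Subgroup G) ⊓ D) ⊔ f.ker := by
    intro d hd
    obtain ⟨t, ht, htd⟩ := hRS hd
    have htD : t ∈ D := by
      show f t ∈ R
      rw [htd]; exact hd
    have hk : t⁻¹ * d ∈ f.ker := by
      rw [MonoidHom.mem_ker, map_mul, map_inv, htd, inv_mul_cancel]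
    have : d = t * (t⁻¹ * d) := by group
    rw [this]
    exact Subgroup.mul_mem_sup ⟨ht, htD⟩ hk
  have hfr := Sylow.normalizer_sup_eq_top P₁
  rw [hQ] at hfr
  -- `S ⊓ D` is normal
  have hnorm : Subgroup.normalizer (((S : Subgroup G) ⊓ D : Subgroup G) : Set G) = ⊤ := by
    by_contra hne
    have hSN : (S : Subgroup G) ≤ Subgroup.normalizer (((S : Subgroup G) ⊓ D : Subgroup G) : Set G) := by
      intro s hs
      rw [Subgroup.mem_normalizer_iff]
      intro x
      rw [Subgroup.mem_inf, Subgroup.mem_inf]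
      constructor
      · rintro ⟨h1, h2⟩
        exact ⟨(S : Subgroup G).mul_mem ((S : Subgroup G).mul_mem hs h1) ((S : Subgroup G).inv_mem hs),
          hDn.conj_mem x h2 s⟩
      · rintro ⟨h1, h2⟩
        constructor
        · have := (S : Subgroup G).mul_mem ((S : Subgroup G).mul_mem ((S : Subgroup G).inv_mem hs) h1) hs
          have e : s⁻¹ * (s * x * s⁻¹) * s = x := by group
          rwa [e] at this
        · have := hDn.conj_mem _ h2 s⁻¹
          have e : s⁻¹ * (s * x * s⁻¹) * s⁻¹⁻¹ = x := by group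
          rwa [e] at this
    have h1 := le_of_isPMinimal hmin S hM hSM hSN hne
    have h2 : D ≤ M := hDle.trans (sup_le (inf_le_left.trans hSM) hkM)
    have : (⊤ : Subgroup G) ≤ M := by
      rw [← hfr]; exact sup_le h1 h2
    exact hM.1 (top_le_iff.mp this)
  have hSDn : ((S : Subgroup G) ⊓ D).Normal := Subgroup.normalizer_eq_top_iff.mp hnorm
  have hSDle : (S : Subgroup G) ⊓ D ≤ f.ker :=
    (Cfsg.Agent.Helper14.le_pCore p hSDn (S.2.to_le inf_le_left)).trans hOp
  have hDk : D ≤ f.ker := hDle.trans (sup_le hSDle le_rfl)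
  rw [eq_bot_iff]
  intro x hx
  obtain ⟨g, rfl⟩ := hf x
  rw [Subgroup.mem_bot]
  exact MonoidHom.mem_ker.mp (hDk hx)

end Cfsg.Agent.S2981P
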