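import Mathlib
import Cfsg.Prelude.Def_BaumannBlocks
import Cfsg.Prelude.Def_LocalEven
import Cfsg.Agent.Helper15.JComp1
import Cfsg.Agent.Lead.SylowNumber3
import Cfsg.Agent.Helper20.S2981Quot

/-!
# S2981, part (A): the group theory inside `G`

`Setting p T V M`: `G` is `p`-minimal, `M` the maximal subgroup over the Sylow subgroup `T`, `V` a normal elementary abelian
`p`-subgroup centralised by `O_p(G)` with `C_G(C_V(T)) ≤ M` and `N_G(J(T)) ≤ M`.  Then `J(G) ≰ M`, `J(G) T C_G(V) = G`, some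
`A ∈ 𝒜(G)` does not centralise `V`, and `C_G(V)` lies in every maximal subgroup containing a Sylow `p`-subgroup.
`setting_of_hyp`: the hypotheses of S2981 give the setting for `V = Ω₁ Z(O_p(G))`.
-/

set_option autoImplicit false

namespace Cfsg.Agent.S2981P

open Cfsg Subgroup
open Cfsg.Agent.Helper15.JComp

variable {G : Type*} [Group G]

/-- `N(P) ≤ N(J(P))` -/
theorem normalizer_le_normalizer_J (p : ℕ) (P : Subgroup G) :
    normalizer (P : Set G) ≤ normalizer ((thompsonSubgroupOf p P : Subgroup G) : Set G) := by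
  apply Cfsg.Agent.S2941.le_normalizer_of_conj_mem
  intro g hg x hx
  rw [thompsonSubgroupOf_eq_sSup_maxEA] at hx ⊢
  have hle : (sSup (maxEA p P)).map (MulAut.conj g).toMonoidHom ≤ sSup (maxEA p P) := by
    rw [map_le_iff_le_comap]
    apply sSup_le
    intro E hE
    rw [← map_le_iff_le_comap]
    have hmem : E.map (MulAut.conj g).toMonoidHom ∈ maxEA p P := by
      apply map_conj_mem_maxEA hE
      rintro _ ⟨e, he, rfl⟩
      exact conj_mem_of_mem_normalizer hg (hE.1 he)
    exact le_sSup hmem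
  exact hle ⟨x, hx, rfl⟩

/-- `J(T₁) = J(T)` if `J(T) ≤ T₁ ≤ T` -/
theorem J_eq_of_le_of_le [Finite G] {p : ℕ} {T T₁ : Subgroup G} (h1 : thompsonSubgroupOf p T ≤ T₁) (h2 : T₁ ≤ T) :
    thompsonSubgroupOf p T₁ = thompsonSubgroupOf p T := by
  have key : maxEA p T₁ = maxEA p T := by
    ext E
    constructor
    · intro hE
      obtain ⟨F, hF⟩ := maxEA_nonempty p T
      have hFT₁ : F ≤ T₁ := (le_thompsonSubgroupOf_of_mem_maxEA hF).trans h1
      exact mem_maxEA_of_card_le hF (hE.1.trans h2) hE.2.1 (hE.2.2 F hFT₁ hF.2.1)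
    · intro hE
      exact ⟨(le_thompsonSubgroupOf_of_mem_maxEA hE).trans h1, hE.2.1, fun F hF hF' => hE.2.2 F (hF.trans h2) hF'⟩
  rw [thompsonSubgroupOf_eq_sSup_maxEA, thompsonSubgroupOf_eq_sSup_maxEA, key]

variable [Finite G] {p : ℕ} [Fact p.Prime]

/-- Frattini argument for `T ⊓ N` -/
theorem frattini_inf (T : Sylow p G) (N : Subgroup G) [hN : N.Normal] :
    normalizer (((T : Subgroup G) ⊓ N : Subgroup G) : Set G) ⊔ N = ⊤ := by
  have h2 : IsPGroup p ↥(((T : Subgroup G) ⊓ N).subgroupOf N) := (T.2.to_le inf_le_left).comap_subtype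
  have hidx : ¬ p ∣ (((T : Subgroup G) ⊓ N).subgroupOf N).index := by
    intro hd
    have e : (((T : Subgroup G) ⊓ N).subgroupOf N).index = (T : Subgroup G).relIndex N := by
      show ((T : Subgroup G) ⊓ N).relIndex N = _
      exact Subgroup.inf_relIndex_right _ _
    rw [e] at hd
    have h1 : (T : Subgroup G) ≤ normalizer (N : Set G) := by
      rw [Subgroup.normalizer_eq_top]; exact le_top
    rw [← Cfsg.Agent.Lead.relIndex_sup_of_le_normalizer (T : Subgroup G) N h1] at hd
    exact T.not_dvd_index (hd.trans (Subgroup.relIndex_dvd_index_of_le le_sup_left))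
  have hfr := Sylow.normalizer_sup_eq_top (h2.toSylow hidx)
  rwa [IsPGroup.toSylow_coe, Subgroup.map_subgroupOf_eq_of_le inf_le_right] at hfr

/-- the setting of S2981, part (A) -/
structure Setting (p : ℕ) [Fact p.Prime] (T : Sylow p G) (V M : Subgroup G) : Prop where
  hmin : IsPMinimal p G
  hVn : V.Normal
  hV : IsElementaryAbelian p V
  hM : IsCoatom M
  hTM : (T : Subgroup G) ≤ M
  hOp : pCore p G ≤ centralizer (V : Set G)
  hCT : centralizer ((V ⊓ centralizer ((T : Subgroup G) : Set G) : Subgroup G) : Set G) ≤ M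
  hNJ : normalizer ((thompsonSubgroupOf p (T : Subgroup G) : Subgroup G) : Set G) ≤ M

namespace Setting

variable {T : Sylow p G} {V M : Subgroup G}

theorem hCM (S : Setting p T V M) : centralizer (V : Set G) ≤ M :=
  (Subgroup.centralizer_le (by exact_mod_cast (inf_le_left : V ⊓ centralizer ((T : Subgroup G) : Set G) ≤ V))).trans S.hCT

theorem le_M (S : Setting p T V M) {K : Subgroup G} (hTK : (T : Subgroup G) ≤ K) (hK : K ≠ ⊤) : K ≤ M :=
  le_of_isPMinimal S.hmin T S.hM S.hTM hTK hK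

/-- (L-J) -/
theorem not_J_le_of_normal (S : Setting p T V M) {N : Subgroup G} (hN : N.Normal) (hNM : N ≤ M) :
    ¬ thompsonSubgroupOf p (T : Subgroup G) ≤ N := by
  intro hJ
  have hJT : thompsonSubgroupOf p (T : Subgroup G) ≤ (T : Subgroup G) :=
    Cfsg.Agent.S2941.thompsonSubgroupOf_le p (T : Subgroup G)
  have hJeq : thompsonSubgroupOf p ((T : Subgroup G) ⊓ N) = thompsonSubgroupOf p (T : Subgroup G) :=
    J_eq_of_le_of_le (le_inf hJT hJ) inf_le_left
  have hfr := frattini_inf T N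
  have h1 : normalizer (((T : Subgroup G) ⊓ N : Subgroup G) : Set G) ≤ M := by
    refine le_trans ?_ S.hNJ
    rw [← hJeq]
    exact normalizer_le_normalizer_J p _
  have : (⊤ : Subgroup G) ≤ M := by
    rw [← hfr]; exact sup_le h1 hNM
  exact S.hM.1 (top_le_iff.mp this)

theorem J_le (T : Sylow p G) : thompsonSubgroupOf p (T : Subgroup G) ≤ thompsonSubgroup p G := by
  rw [Cfsg.Agent.Helper26.thompsonSubgroup_eq_iSup_sylow]
  exact le_iSup (fun S : Sylow p G => thompsonSubgroupOf p (S : Subgroup G)) T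

theorem not_J_le (S : Setting p T V M) : ¬ thompsonSubgroup p G ≤ M := by
  intro h
  have hn : (thompsonSubgroup p G).Normal := by
    have := Cfsg.Agent.Helper26.thompsonSubgroup_characteristic (G := G) p
    infer_instance
  exact S.not_J_le_of_normal hn h (J_le T)

theorem JTC (S : Setting p T V M) :
    thompsonSubgroup p G ⊔ (T : Subgroup G) ⊔ centralizer (V : Set G) = ⊤ := by
  by_contra hne
  have h1 := S.le_M (K := thompsonSubgroup p G ⊔ (T : Subgroup G) ⊔ centralizer (V : Set G))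
    (le_sup_of_le_left le_sup_right) hne
  exact S.not_J_le ((le_sup_of_le_left le_sup_left).trans h1)

theorem exists_offender (S : Setting p T V M) :
    ∃ A ∈ maxElementaryAbelianSubgroups p G, ¬ A ≤ centralizer (V : Set G) := by
  by_contra hcon
  push Not at hcon
  apply S.not_J_le
  refine le_trans ?_ S.hCM
  unfold thompsonSubgroup
  exact sSup_le hcon

/-- `C_G(V)` lies in every maximal subgroup containing a Sylow `p`-subgroup -/
theorem ker_le (S : Setting p T V M) (S' : Sylow p G) (M' : Subgroup G) (hM' : IsCoatom M')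
    (hS' : (S' : Subgroup G) ≤ M') : centralizer (V : Set G) ≤ M' := by
  obtain ⟨g, rfl⟩ := MulAction.exists_smul_eq G T S'
  -- `g⁻¹ M' g` is a coatom containing `T`
  set e : Subgroup G ≃o Subgroup G := (MulAut.conj g⁻¹).mapSubgroup with he
  have h1 : IsCoatom (e M') := (OrderIso.isCoatom_iff e M').mpr hM'
  have h2 : (T : Subgroup G) ≤ e M' := by
    intro t ht
    refine ⟨g * t * g⁻¹, hS' ?_, ?_⟩
    · rw [Sylow.coe_subgroup_smul]
      exact Subgroup.smul_mem_pointwise_smul t (MulAut.conj g) _ ht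
    · show g⁻¹ * (g * t * g⁻¹) * g⁻¹⁻¹ = t
      group
  obtain ⟨-, M₀, -, huniq⟩ := S.hmin T
  have e1 : e M' = M₀ := huniq _ ⟨h1, h2⟩
  have e2 : M = M₀ := huniq _ ⟨S.hM, S.hTM⟩
  have hCn : (centralizer (V : Set G)).Normal := by
    have := S.hVn
    exact Subgroup.normal_centralizer
  intro c hc
  have h3 : g⁻¹ * c * g⁻¹⁻¹ ∈ M := S.hCM (hCn.conj_mem c hc g⁻¹)
  rw [e2, ← e1] at h3
  obtain ⟨m, hm, hmc⟩ := h3
  have : m = c := by
    have h4 : g⁻¹ * m * g⁻¹⁻¹ = g⁻¹ * c * g⁻¹⁻¹ := hmc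
    have h5 : g * (g⁻¹ * m * g⁻¹⁻¹) * g⁻¹ = g * (g⁻¹ * c * g⁻¹⁻¹) * g⁻¹ := by rw [h4]
    calc m = g * (g⁻¹ * m * g⁻¹⁻¹) * g⁻¹ := by group
      _ = g * (g⁻¹ * c * g⁻¹⁻¹) * g⁻¹ := h5
      _ = c := by group
  rw [← this]; exact hm

end Setting

end Cfsg.Agent.S2981P
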