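import Mathlib
import Cfsg.Agent.Helper20.S2981Off

/-!
# S2981, part (A): the hypotheses of S2981 give the `Setting` for `V = Ω₁ Z(O_p(G))`
-/

set_option autoImplicit false

namespace Cfsg.Agent.S2981P

open Cfsg Subgroup
open Cfsg.Agent.Helper15.JComp

variable {G : Type*} [Group G] [Finite G] {p : ℕ} [Fact p.Prime]

theorem setting_of_hyp (hmin : IsPMinimal p G) (hG : centralizer (pCore p G : Set G) ≤ pCore p G) (T : Sylow p G)
    (hne : cStarStarOf p (T : Subgroup G) ≠ ⊤) :
    ∃ M : Subgroup G, Setting p T (omegaOneCenter p (pCore p G)) M := by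
  obtain ⟨hnn, M, ⟨hM, hTM⟩, huniq⟩ := hmin T
  refine ⟨M, ?_⟩
  set Q : Subgroup G := pCore p G with hQ
  have hQn : Q.Normal := Cfsg.Agent.Helper14.pCore_normal p
  have hQT : Q ≤ (T : Subgroup G) := Cfsg.Agent.Helper14.pCore_le_sylow p T
  have hVle : omegaOneCenter p Q ≤ Q ⊓ centralizer (Q : Set G) := omegaOne_le p _
  -- `V` is normal
  have hVn : (omegaOneCenter p Q).Normal := by
    rw [← Subgroup.normalizer_eq_top_iff, eq_top_iff]
    have h1 : (⊤ : Subgroup G) ≤ normalizer (Q : Set G) := by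
      rw [Subgroup.normalizer_eq_top_iff.mpr hQn]
    unfold omegaOneCenter
    refine h1.trans (le_trans ?_ (normalizer_le_normalizer_omegaOne p _))
    refine le_trans ?_ le_normalizer_inf
    exact le_inf le_rfl (normalizer_le_normalizer_centralizer Q)
  -- `V` is elementary abelian
  have hV : IsElementaryAbelian p (omegaOneCenter p Q) := by
    unfold omegaOneCenter omegaOne
    apply Cfsg.Agent.Helper26.isElementaryAbelian_closure
    · rintro a ⟨⟨-, ha⟩, -⟩ b ⟨⟨hb, -⟩, -⟩
      exact (mem_centralizer_iff.mp ha b hb).symm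
    · rintro a ⟨-, ha⟩
      exact ha
  -- `O_p(G)` centralises `V`
  have hOp : Q ≤ centralizer ((omegaOneCenter p Q : Subgroup G) : Set G) := by
    intro q hq
    rw [mem_centralizer_iff]
    intro v hv
    exact (mem_centralizer_iff.mp (hVle hv).2 q hq).symm
  -- `Ω₁ Z(T) ≤ V ⊓ C(T)`
  have hZle : omegaOneCenter p (T : Subgroup G) ≤
      omegaOneCenter p Q ⊓ centralizer ((T : Subgroup G) : Set G) := by
    apply le_inf
    · unfold omegaOneCenter omegaOne
      rw [closure_le]
      rintro x ⟨⟨hxT, hxc⟩, hxp⟩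
      have h1 : x ∈ centralizer (Q : Set G) := Subgroup.centralizer_le (by exact_mod_cast hQT) hxc
      exact subset_closure ⟨⟨hG h1, h1⟩, hxp⟩
    · exact (omegaOne_le p _).trans inf_le_right
  -- `C**(G,T) ≤ M`
  have hTJ : (T : Subgroup G) ≤ normalizer ((thompsonSubgroupOf p (T : Subgroup G) : Subgroup G) : Set G) :=
    le_normalizer_thompsonSubgroupOf p (T : Subgroup G)
  have hcss : cStarStarOf p (T : Subgroup G) ≤ M :=
    le_of_isPMinimal hmin T hM hTM (hTJ.trans le_sup_right) hne
  refine ⟨hmin, hVn, hV, hM, hTM, hOp, ?_, ?_⟩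
  · refine le_trans ?_ hcss
    refine le_trans ?_ (le_sup_left : centralizer ((omegaOneCenter p (T : Subgroup G) : Subgroup G) : Set G) ≤ _)
    exact Subgroup.centralizer_le (by exact_mod_cast hZle)
  · exact le_trans le_sup_right hcss

end Cfsg.Agent.S2981P
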