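import Mathlib
import Cfsg.Agent.Helper28.S3000Defs
import Cfsg.Agent.Helper20.S2981Dict2
import Cfsg.Agent.Helper20.S2981Set

/-!
# S2981, part (A): the hypotheses of S3000 for `(Vhat V, Phat V)` in `Hol V`
-/

set_option autoImplicit false

namespace Cfsg.Agent.S2981P

open Cfsg Subgroup
open Cfsg.Agent.S2789P Cfsg.Agent.S2999P Cfsg.Agent.S3000P

variable {G : Type*} [Group G]

/-- `G → Phat V` -/
def rhoH (V : Subgroup G) [V.Normal] : G →* ↥(Phat V) := (piH V).rangeRestrict

section

variable (V : Subgroup G) [V.Normal]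

theorem rhoH_surjective : Function.Surjective (rhoH V) := (piH V).rangeRestrict_surjective

theorem coe_rhoH (g : G) : ((rhoH V g : ↥(Phat V)) : Hol V) = piH V g := rfl

theorem ker_rhoH : (rhoH V).ker = centralizer (V : Set G) := by
  ext g
  rw [MonoidHom.mem_ker, ← mem_ker_piH V, MonoidHom.mem_ker]
  constructor
  · intro h
    exact congrArg Subtype.val h
  · intro h
    exact Subtype.ext h

theorem map_rhoH_subtype (K : Subgroup G) : (K.map (rhoH V)).map (Phat V).subtype = K.map (piH V) := by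
  rw [Subgroup.map_map]
  rfl

theorem Phat_eq_map_top : Phat V = (⊤ : Subgroup G).map (piH V) := by
  unfold Phat
  rw [MonoidHom.range_eq_map]

end

variable [Finite G] {p : ℕ} [Fact p.Prime] {T : Sylow p G} {V M : Subgroup G}

/-- the image of a best offender `A ∈ 𝒜(G)` is a best offender on `Vhat V` -/
theorem bestOffender_map [V.Normal] (hV : IsElementaryAbelian p V) {A : Subgroup G}
    (hA : A ∈ maxElementaryAbelianSubgroups p G) : IsBestOffenderOn p (Vhat V) (A.map (piH V)) := by
  have hA' : IsBestOffenderOn p V A :=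
    Cfsg.Agent.Helper26.isBestOffenderOn_of_mem_maxElementaryAbelianSubgroups hV hA
  obtain ⟨h1, h2, h3⟩ := hA'
  refine ⟨?_, ?_, ?_⟩
  · intro Bh hBh
    set B : Subgroup G := A ⊓ Bh.comap (piH V) with hB
    have hBmap : B.map (piH V) = Bh := by
      apply le_antisymm
      · rintro _ ⟨b, hb, rfl⟩
        exact hb.2
      · intro x hx
        obtain ⟨a, ha, rfl⟩ := hBh hx
        exact ⟨a, ⟨ha, hx⟩, rfl⟩
    have hBC : B ⊓ centralizer (V : Set G) = A ⊓ centralizer (V : Set G) := by
      apply le_antisymm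
      · exact inf_le_inf_right _ inf_le_left
      · refine le_inf (le_inf inf_le_left ?_) inf_le_right
        exact inf_le_right.trans (centralizer_le_comap_piH V Bh)
    have c1 := card_map_piH V B
    have c2 := card_map_piH V A
    rw [hBmap, hBC] at c1
    have c3 : Nat.card ↥(Vhat V ⊓ centralizer ((Bh : Subgroup (Hol V)) : Set (Hol V))) =
        Nat.card ↥(V ⊓ centralizer (B : Set G)) := by
      rw [← hBmap, Vhat_inf_centralizer_map, card_hatH V inf_le_left]
    have c4 : Nat.card ↥(Vhat V ⊓ centralizer ((A.map (piH V) : Subgroup (Hol V)) : Set (Hol V))) =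
        Nat.card ↥(V ⊓ centralizer (A : Set G)) := by
      rw [Vhat_inf_centralizer_map, card_hatH V inf_le_left]
    rw [c3, c4]
    have key := h1 B inf_le_left
    rw [← c1, ← c2] at key
    have hk : 0 < Nat.card ↥(A ⊓ centralizer (V : Set G)) := Nat.card_pos
    have key' : Nat.card ↥(A ⊓ centralizer (V : Set G)) *
        (Nat.card ↥Bh * Nat.card ↥(V ⊓ centralizer (B : Set G))) ≤
        Nat.card ↥(A ⊓ centralizer (V : Set G)) *
        (Nat.card ↥(A.map (piH V)) * Nat.card ↥(V ⊓ centralizer (A : Set G))) := by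
      calc _ = Nat.card ↥Bh * Nat.card ↥(A ⊓ centralizer (V : Set G)) *
            Nat.card ↥(V ⊓ centralizer (B : Set G)) := by ring
        _ ≤ Nat.card ↥(A.map (piH V)) * Nat.card ↥(A ⊓ centralizer (V : Set G)) *
            Nat.card ↥(V ⊓ centralizer (A : Set G)) := key
        _ = _ := by ring
    exact Nat.le_of_mul_le_mul_left key' hk
  · rw [← Subgroup.map_commutator]
    exact (map_piH_le_centralizer_Vhat V).mpr h2
  · rintro _ ⟨a, ha, rfl⟩
    rw [← map_pow, ← hatH_self]
    exact (piH_mem_centralizer_hatH V le_rfl).mpr (h3 a ha)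

/-- the hypotheses of S3000 in `Hol V` -/
theorem exists_hypHat [hVn : V.Normal] (S : Setting p T V M) :
    ∃ (That : Sylow p ↥(Phat V)) (Mhat : Subgroup ↥(Phat V)),
      Hyp p (Vhat V) (Phat V) That Mhat ∧
      (That : Subgroup ↥(Phat V)).map (Phat V).subtype = (T : Subgroup G).map (piH V) ∧
      Mhat.map (Phat V).subtype = M.map (piH V) ∧
      ∃ A : Subgroup (Hol V), A ≤ Phat V ∧ ¬ A ≤ centralizer ((Vhat V : Subgroup (Hol V)) : Set (Hol V)) ∧
        IsBestOffenderOn p (Vhat V) A := by
  have hsurj := rhoH_surjective V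
  have hker : ∀ S' : Sylow p G, ∀ M' : Subgroup G, IsCoatom M' → (S' : Subgroup G) ≤ M' → (rhoH V).ker ≤ M' := by
    intro S' M' hM' hS'
    rw [ker_rhoH]
    exact S.ker_le S' M' hM' hS'
  have hkM : (rhoH V).ker ≤ M := hker T M S.hM S.hTM
  refine ⟨T.mapSurjective hsurj, M.map (rhoH V), ?_, ?_, map_rhoH_subtype V M, ?_⟩
  · refine ⟨Vhat_elementaryAbelian V S.hV, ?_, Phat_inf_centralizer_Vhat V,
      isPMinimal_of_surjective hsurj S.hmin hker, isCoatom_map hsurj S.hM hkM, ?_,
      pCore_eq_bot_of_surjective hsurj S.hmin hker (by rw [ker_rhoH]; exact S.hOp), ?_⟩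
    · rw [Subgroup.normalizer_eq_top_iff.mpr (Vhat_normal V)]
      exact le_top
    · rw [Sylow.coe_mapSurjective]
      exact Subgroup.map_mono S.hTM
    · rw [Sylow.coe_mapSurjective, map_rhoH_subtype, map_rhoH_subtype]
      unfold fixV
      rw [Vhat_inf_centralizer_map, Phat_eq_map_top, map_piH_inf_centralizer_hatH V _ inf_le_left]
      apply Subgroup.map_mono
      exact inf_le_right.trans S.hCT
  · rw [Sylow.coe_mapSurjective, map_rhoH_subtype]
  · obtain ⟨A, hA, hAC⟩ := S.exists_offender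
    refine ⟨A.map (piH V), ?_, ?_, bestOffender_map S.hV hA⟩
    · rintro _ ⟨a, -, rfl⟩
      exact ⟨a, rfl⟩
    · rw [map_piH_le_centralizer_Vhat]
      exact hAC

end Cfsg.Agent.S2981P
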