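import Mathlib
import Cfsg.Agent.Helper2.S2099.DefsR
import Cfsg.Agent.Helper9.S2094BLOCKD

set_option autoImplicit false
set_option linter.unusedSectionVars false
set_option linter.unusedVariables false

/-! S2099 chapter K, piece BLOCKQ (helper20; driver helper2): the natural representation is block
diagonal on the subgroup `MD X` generated by the long root elements (port of S2094 BLOCKD). -/

namespace Cfsg.Agent.S2099P

open Matrix Cfsg.Agent.S3352P Cfsg.Agent.S3351P Cfsg.Agent.S2096P Cfsg.Agent.RGD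
open Cfsg.Agent.S2094P (RB RootB sc NgEquivariant mapB reflB MD XD XD_coe isRoot_ng_right'
  isRoot_ng_left' sw_ngEquivariant sc_ngEquivariant)

variable {n : ℕ} {F : Type*} [Field F] {κ : Type} [Fintype κ] [DecidableEq κ]
  {M : Type*} [Group M] {Q0 : QuadraticForm F (κ → F)} {X : J n → J n → F → M}
  {Ys : J n → (κ → F) → M}

namespace BLOCKQ

/-- block diagonal with lower right corner `1` -/
def IsBlkQ (A : Matrix (IQ n κ) (IQ n κ) F) : Prop := ∃ B : Matrix (J n) (J n) F, A = blkQ B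

theorem blkQ_one' : blkQ (κ := κ) (1 : Matrix (J n) (J n) F) = 1 := by
  unfold blkQ
  exact Matrix.fromBlocks_one

theorem blkQ_mul' (A B : Matrix (J n) (J n) F) : blkQ (κ := κ) A * blkQ B = blkQ (A * B) := by
  unfold blkQ
  rw [Matrix.fromBlocks_multiply]
  simp

theorem toBlocks₁₁_blkQ (A : Matrix (J n) (J n) F) : (blkQ (κ := κ) A).toBlocks₁₁ = A := by
  unfold blkQ
  exact Matrix.toBlocks_fromBlocks₁₁ _ _ _ _

theorem isBlkQ_one : IsBlkQ (1 : Matrix (IQ n κ) (IQ n κ) F) := ⟨1, blkQ_one'.symm⟩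

theorem isBlkQ_mul {A B : Matrix (IQ n κ) (IQ n κ) F} (hA : IsBlkQ A) (hB : IsBlkQ B) :
    IsBlkQ (A * B) := by
  obtain ⟨A', rfl⟩ := hA
  obtain ⟨B', rfl⟩ := hB
  exact ⟨A' * B', blkQ_mul' A' B'⟩

theorem isBlkQ_inv {A B : Matrix (IQ n κ) (IQ n κ) F} (hA : IsBlkQ A) (h1 : A * B = 1)
    (h2 : B * A = 1) : IsBlkQ B := by
  obtain ⟨A', rfl⟩ := hA
  refine ⟨B.toBlocks₁₁, ?_⟩
  have hB : B = Matrix.fromBlocks B.toBlocks₁₁ B.toBlocks₁₂ B.toBlocks₂₁ B.toBlocks₂₂ :=
    (Matrix.fromBlocks_toBlocks B).symm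
  have e1 : Matrix.fromBlocks A' 0 0 (1 : Matrix κ κ F) *
      Matrix.fromBlocks B.toBlocks₁₁ B.toBlocks₁₂ B.toBlocks₂₁ B.toBlocks₂₂ = 1 := by
    rw [← hB]
    exact h1
  have e2 : Matrix.fromBlocks B.toBlocks₁₁ B.toBlocks₁₂ B.toBlocks₂₁ B.toBlocks₂₂ *
      Matrix.fromBlocks A' 0 0 (1 : Matrix κ κ F) = 1 := by
    rw [← hB]
    exact h2
  rw [Matrix.fromBlocks_multiply, ← Matrix.fromBlocks_one, Matrix.fromBlocks_inj] at e1 e2
  obtain ⟨-, -, e21, e22⟩ := e1
  obtain ⟨-, e12, -, -⟩ := e2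
  unfold blkQ
  rw [hB, Matrix.fromBlocks_inj]
  refine ⟨?_, ?_, ?_, ?_⟩
  · simp
  · simpa using e12
  · simpa using e21
  · simpa using e22

end BLOCKQ

open BLOCKQ

/-- BLOCKQ: the representation of type `D_n` of the subgroup generated by the long root elements -/
theorem exists_piD (π : M →* Matrix (IQ n κ) (IQ n κ) F)
    (hπX : ∀ a b, IsRoot a b → ∀ t : F, π (X a b t) = xmQ a b t) :
    ∃ πD : ↥(MD X) →* Matrix (J n) (J n) F,
      (∀ a b, IsRoot a b → ∀ t : F, πD (XD X a b t) = xm a b t) ∧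
      ∀ g : ↥(MD X), π (g : M) = blkQ (πD g) := by
  have hblk : ∀ g : M, g ∈ MD X → IsBlkQ (π g) := by
    intro g hg
    unfold MD at hg
    induction hg using Subgroup.closure_induction with
    | mem x hx =>
      obtain ⟨a, b, t, hab, rfl⟩ := hx
      exact ⟨xm a b t, by rw [hπX a b hab t]; rfl⟩
    | one =>
      rw [map_one]
      exact isBlkQ_one
    | mul x y _ _ hx hy =>
      rw [map_mul]
      exact isBlkQ_mul hx hy
    | inv x _ hx =>
      apply isBlkQ_inv hx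
      · rw [← map_mul, mul_inv_cancel, map_one]
      · rw [← map_mul, inv_mul_cancel, map_one]
  have hval : ∀ g : ↥(MD X), π (g : M) = blkQ (π (g : M)).toBlocks₁₁ := by
    intro g
    obtain ⟨B, hB⟩ := hblk g g.2
    rw [hB, toBlocks₁₁_blkQ]
  refine ⟨{ toFun := fun g => (π (g : M)).toBlocks₁₁, map_one' := ?_, map_mul' := ?_ }, ?_, ?_⟩
  · show (π ((1 : ↥(MD X)) : M)).toBlocks₁₁ = 1
    rw [Subgroup.coe_one, map_one, ← blkQ_one' (κ := κ), toBlocks₁₁_blkQ]
  · intro g h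
    show (π ((g * h : ↥(MD X)) : M)).toBlocks₁₁ = (π (g : M)).toBlocks₁₁ * (π (h : M)).toBlocks₁₁
    rw [Subgroup.coe_mul, map_mul]
    conv_lhs => rw [hval g, hval h, blkQ_mul', toBlocks₁₁_blkQ]
  · intro a b hab t
    show (π ((XD X a b t : ↥(MD X)) : M)).toBlocks₁₁ = xm a b t
    rw [XD_coe X hab, hπX a b hab]
    exact toBlocks₁₁_blkQ _
  · intro g
    exact hval g

end Cfsg.Agent.S2099P
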