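import Mathlib
import Cfsg.Agent.Helper2.S2099.DefsM
import Cfsg.Agent.Helper12.OrthGenO

set_option autoImplicit false
set_option linter.unusedSectionVars false
set_option linter.unusedVariables false

/-! S2099 chapter M, piece MODELQ (helper20; driver helper2): the root elements `xmQ c d t`,
`ymQ (qf2 a b) c w` lie in `Ω⁻_{2n+2}(F)` and generate it (twin of S2094 MODELB). -/

namespace Cfsg.Agent.S2099P

open Matrix Cfsg.Agent.S3352P Cfsg.Agent.S3351P Cfsg.Agent.S2096P

variable {n : ℕ} {F : Type*} [Field F] {κ : Type} [Fintype κ] [DecidableEq κ]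

namespace MODELQ

open Cfsg.Agent.Helper28.Sg Cfsg.Agent.Helper28.Spin Cfsg.Agent.Helper12.OrthGen

/-- the embedding of the anisotropic part -/
def inP (w : κ → F) : IQ n κ → F := Sum.elim 0 w

theorem inP_inl (w : κ → F) (c : J n) : inP (n := n) w (Sum.inl c) = 0 := rfl

theorem inP_inr (w : κ → F) (k : κ) : inP (n := n) w (Sum.inr k) = w k := rfl

theorem inP_neg (w : κ → F) : inP (n := n) (-w) = -inP w := by
  funext k
  rcases k with c | k
  · simp [inP]
  · simp [inP]

theorem xmQ_eq (a b : J n) (t : F) :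
    xmQ (κ := κ) a b t = 1 + t • (Matrix.single (Sum.inl a) (Sum.inl b) (1 : F) -
      Matrix.single (Sum.inl (ng b)) (Sum.inl (ng a)) (1 : F)) := by
  unfold xmQ blkQ xm
  ext (i | i) (j | j)
  · simp [Matrix.one_apply, Matrix.single_apply]
  · simp
  · simp
  · simp [Matrix.one_apply, Matrix.single_apply]

theorem xmQ_mulVec (a b : J n) (t : F) (x : IQ n κ → F) :
    xmQ a b t *ᵥ x = x + (t * x (Sum.inl b)) • Pi.single (Sum.inl a) 1 -
      (t * x (Sum.inl (ng a))) • Pi.single (Sum.inl (ng b)) 1 := by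
  rw [xmQ_eq]
  rw [Matrix.add_mulVec, Matrix.one_mulVec, Matrix.smul_mulVec, Matrix.sub_mulVec,
    Matrix.single_mulVec_eq, Matrix.single_mulVec_eq, one_mul, one_mul, smul_sub, smul_smul,
    smul_smul, add_sub_assoc]

/-- `bq Q0 w` is the covector of the polar form -/
theorem bq_dot (Q0 : QuadraticForm F (κ → F)) (w z : κ → F) :
    bq Q0 w ⬝ᵥ z = QuadraticMap.polar Q0 z w := by
  have hz : z = ∑ k : κ, z k • (Pi.single k 1 : κ → F) := by
    ext d
    rw [Finset.sum_apply]
    simp [Pi.single_apply]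
  have h := map_sum ((QuadraticMap.polarBilin Q0).flip w)
    (fun k => z k • (Pi.single k 1 : κ → F)) Finset.univ
  rw [← hz] at h
  simp only [LinearMap.flip_apply, QuadraticMap.polarBilin_apply_apply,
    QuadraticMap.polar_smul_left] at h
  rw [h]
  unfold bq dotProduct
  apply Finset.sum_congr rfl
  intro k _
  rw [smul_eq_mul, mul_comm]

theorem ymQ_mulVec (Q0 : QuadraticForm F (κ → F)) (a : J n) (w : κ → F) (x : IQ n κ → F) :
    ymQ Q0 a w *ᵥ x = x - x (Sum.inl (ng a)) • inP w +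
      (QuadraticMap.polar Q0 (fun k => x (Sum.inr k)) w) • Pi.single (Sum.inl a) 1 -
      (Q0 w * x (Sum.inl (ng a))) • Pi.single (Sum.inl a) 1 := by
  unfold ymQ
  rw [Matrix.fromBlocks_mulVec]
  funext k
  rcases k with c | k
  · simp only [Sum.elim_inl, Pi.add_apply, Pi.sub_apply, Pi.smul_apply, inP_inl, smul_eq_mul,
      mul_zero, sub_zero]
    rw [Matrix.sub_mulVec, Matrix.one_mulVec, Matrix.smul_mulVec, Matrix.single_mulVec_eq,
      Matrix.vecMulVec_mulVec, bq_dot]
    simp only [Pi.sub_apply, Pi.smul_apply, Function.comp_apply, smul_eq_mul,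
      MulOpposite.smul_eq_mul_unop, MulOpposite.unop_op, one_mul]
    by_cases hc : c = a
    · subst hc
      simp only [Pi.single_eq_same]
      have : (fun k => x (Sum.inr k)) = x ∘ Sum.inr := rfl
      rw [this]
      ring
    · rw [Pi.single_eq_of_ne hc, Pi.single_eq_of_ne (by intro h; exact hc (Sum.inl.inj h))]
      ring
  · simp only [Sum.elim_inr, Pi.add_apply, Pi.sub_apply, Pi.smul_apply, inP_inr, smul_eq_mul]
    rw [Matrix.neg_mulVec, Matrix.vecMulVec_mulVec, Matrix.one_mulVec]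
    simp only [Pi.neg_apply, Pi.smul_apply, Function.comp_apply, MulOpposite.smul_eq_mul_unop,
      MulOpposite.unop_op, single_dotProduct, one_mul]
    rw [Pi.single_eq_of_ne (by simp), mul_zero, mul_zero, add_zero, sub_zero]
    ring

/-! ### the minus form -/

section minus

variable (a b : F)

theorem B_single (x : J n) (w : IQ n (Fin 2) → F) :
    B (QfMinus n F a b) (Pi.single (Sum.inl x) 1) w = w (Sum.inl (ng x)) := by
  rcases x with i | i
  · exact polar_single_left (Cfsg.Agent.S2615.hypPair_minus n a b i) w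
  · exact polar_single_right (Cfsg.Agent.S2615.hypPair_minus n a b i) w

theorem Q_single (x : J n) : QfMinus n F a b (Pi.single (Sum.inl x) 1) = 0 := by
  rcases x with i | i
  · exact Q_single_left (Cfsg.Agent.S2615.hypPair_minus n a b i)
  · exact Q_single_right (Cfsg.Agent.S2615.hypPair_minus n a b i)

theorem Q_smul_single (x : J n) (t : F) :
    QfMinus n F a b (t • (Pi.single (Sum.inl x) 1 : IQ n (Fin 2) → F)) = 0 := by
  rw [Q_smul, Q_single, mul_zero]

theorem Q_eq (v : IQ n (Fin 2) → F) :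
    QfMinus n F a b v = (∑ i : Fin n, v (Sum.inl (Sum.inl i)) * v (Sum.inl (Sum.inr i))) +
      qf2 a b (fun k => v (Sum.inr k)) := by
  rw [QfMinus_coe, qf2_apply]
  rfl

theorem Q_inP (w : Fin 2 → F) : QfMinus n F a b (inP w) = qf2 a b w := by
  rw [Q_eq]
  simp [inP]

theorem B_inP (w : Fin 2 → F) (x : IQ n (Fin 2) → F) :
    B (QfMinus n F a b) (inP w) x = QuadraticMap.polar (qf2 a b) w (fun k => x (Sum.inr k)) := by
  show QuadraticMap.polar _ _ _ = _
  unfold QuadraticMap.polar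
  rw [Q_eq, Q_eq, Q_eq]
  have e1 : (fun k => (inP (n := n) w + x) (Sum.inr k)) = w + fun k => x (Sum.inr k) := by
    funext k
    simp [inP]
  have e2 : (fun k => inP (n := n) w (Sum.inr k)) = w := rfl
  rw [e1, e2]
  simp only [Pi.add_apply, inP_inl, zero_add, mul_zero, Finset.sum_const_zero]
  ring

theorem B_single_smul_single {c d : J n} (hcd : IsRoot c d) (t : F) :
    B (QfMinus n F a b) (Pi.single (Sum.inl (ng d)) 1) (t • Pi.single (Sum.inl c) 1) = 0 := by
  rw [B_single, ng_ng]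
  simp [hcd.1.symm]

theorem B_single_inP (c : J n) (w : Fin 2 → F) :
    B (QfMinus n F a b) (Pi.single (Sum.inl c) 1) (inP w) = 0 := by
  rw [B_single]
  rfl

theorem xmQ_eq_siegM {c d : J n} (hcd : IsRoot c d) (t : F) :
    xmQ c d t = siegM (QfMinus n F a b) (Pi.single (Sum.inl (ng d)) 1)
      (t • Pi.single (Sum.inl c) 1) := by
  apply Cfsg.Agent.Helper28.Spin.matrix_ext_mulVec
  intro x
  rw [xmQ_mulVec, siegM_mulVec, B_single, ng_ng, Q_smul_single]
  have hB : B (QfMinus n F a b) (t • (Pi.single (Sum.inl c) 1 : IQ n (Fin 2) → F)) x =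
      t * x (Sum.inl (ng c)) := by
    show QuadraticMap.polar _ (t • (Pi.single (Sum.inl c) 1 : IQ n (Fin 2) → F)) x = _
    rw [QuadraticMap.polar_smul_left]
    have := B_single (n := n) a b c x
    simp only [B] at this
    rw [this]; rfl
  rw [hB, zero_mul, zero_smul, sub_zero, smul_smul, mul_comm (x (Sum.inl d)) t]

theorem ymQ_eq_siegM (c : J n) (w : Fin 2 → F) :
    ymQ (qf2 a b) c w = siegM (QfMinus n F a b) (Pi.single (Sum.inl c) 1) (inP (-w)) := by
  apply Cfsg.Agent.Helper28.Spin.matrix_ext_mulVec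
  intro x
  rw [ymQ_mulVec, siegM_mulVec, B_single, B_inP, Q_inP, QuadraticMap.map_neg,
    QuadraticMap.polar_neg_left, QuadraticMap.polar_comm, inP_neg]
  module

end minus

/-! ### the elements of `Ω⁻` -/

section omega

variable {a b : F}

/-- the isometry group of the form `QfMinus` -/
abbrev OOq (n : ℕ) (a b : F) : Type _ := ↥(Cfsg.isometryGroup F ⇑(QfMinus n F a b))

/-- `Ω` of the form `QfMinus` -/
abbrev GOq (n : ℕ) (a b : F) : Type _ := ↥(Cfsg.Omega F ⇑(QfMinus n F a b))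

/-- the standard frame of three hyperbolic pairs -/
noncomputable def fr3 (hn : 3 ≤ n) (a b : F) : Frame3 (QfMinus n F a b) :=
  frameOf (fun j : Fin 3 => (Sum.inl (Sum.inl (Fin.castLE hn j)) : IQ n (Fin 2)))
    (fun j : Fin 3 => (Sum.inl (Sum.inr (Fin.castLE hn j)) : IQ n (Fin 2)))
    (by
      intro x y h
      rcases x with x | x <;> rcases y with y | y <;>
        simp only [Sum.elim_inl, Sum.elim_inr, Sum.inl.injEq, Sum.inr.injEq, reduceCtorEq,
          Fin.castLE_inj] at h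
      · rw [h]
      · rw [h])
    (fun j => Cfsg.Agent.S2615.hypPair_minus n a b _)

/-- nondegeneracy and the Cartan–Dieudonné property -/
theorem Q_gen [Fintype F] (hn : 3 ≤ n)
    (hab : ∀ z₁ z₂ : F, z₁ ^ 2 + a * z₁ * z₂ + b * z₂ ^ 2 = 0 → z₁ = 0 ∧ z₂ = 0) :
    (QuadraticMap.polarBilin (QfMinus n F a b)).Nondegenerate ∧
      (∀ (H : Subgroup (OOq n a b)),
        (∀ (v : IQ n (Fin 2) → F) (hv : QfMinus n F a b v ≠ 0),
          reflO (QfMinus n F a b) v hv ∈ H) → ∀ g, g ∈ H) := by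
  have hcardι : Fintype.card (IQ n (Fin 2)) = 2 * n + 2 := by
    rw [Fintype.card_sum, Fintype.card_sum, Fintype.card_fin, Fintype.card_fin]; omega
  by_cases h2 : (2 : F) = 0
  · have hch : CharP F 2 := CharTwo.of_one_ne_zero_of_two_eq_zero one_ne_zero h2
    have ha := Cfsg.Agent.S2171.ne_zero_of_aniso a b hab
    have hQ : (QuadraticMap.polarBilin (QfMinus n F a b)).Nondegenerate := by
      apply Cfsg.Agent.S2171.QfMinus_nondeg_of
      rw [show (4 : F) = 2 * 2 by norm_num, h2]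
      simpa using ha
    exact ⟨hQ, hgen_even h2 hQ (Or.inr (by rw [hcardι]; omega))⟩
  · have hδ := Cfsg.Agent.S2621.not_isSquare_disc h2 a b hab
    have hQ : (QuadraticMap.polarBilin (QfMinus n F a b)).Nondegenerate := by
      apply Cfsg.Agent.S2171.QfMinus_nondeg_of
      intro h
      apply hδ
      have : a ^ 2 - 4 * b = 0 := by linear_combination -h
      rw [this]
      exact ⟨0, by simp⟩
    exact ⟨hQ, hgen_odd h2 hQ⟩

/-- the binary form is anisotropic -/
def Aniso (a b : F) : Prop :=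
  ∀ z₁ z₂ : F, z₁ ^ 2 + a * z₁ * z₂ + b * z₂ ^ 2 = 0 → z₁ = 0 ∧ z₂ = 0

variable [Fintype F]

/-- every Siegel transformation lies in `Ω` -/
theorem sieg_mem_Omega (hn : 3 ≤ n) (hab : Aniso a b) (u v : IQ n (Fin 2) → F)
    (hu : QfMinus n F a b u = 0) (huv : B (QfMinus n F a b) u v = 0) :
    siegO (QfMinus n F a b) u v hu huv ∈ Cfsg.Omega F ⇑(QfMinus n F a b) :=
  S_le_Omega (Q_gen hn hab).1 (fr3 hn a b) (siegO_mem_S _ u v hu huv)

/-- a Siegel transformation as an element of `Ω` -/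
noncomputable def sgQ (hn : 3 ≤ n) (hab : Aniso a b) (u v : IQ n (Fin 2) → F)
    (hu : QfMinus n F a b u = 0) (huv : B (QfMinus n F a b) u v = 0) : GOq n a b :=
  ⟨siegO (QfMinus n F a b) u v hu huv, sieg_mem_Omega hn hab u v hu huv⟩

/-- the long root elements in `Ω` -/
noncomputable def Y (hn : 3 ≤ n) (hab : Aniso a b) (c d : J n) (t : F) : GOq n a b :=
  if hcd : IsRoot c d then
    sgQ hn hab (Pi.single (Sum.inl (ng d)) 1) (t • Pi.single (Sum.inl c) 1) (Q_single a b _)
      (B_single_smul_single a b hcd t)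
  else 1

/-- the short root elements in `Ω` -/
noncomputable def Z (hn : 3 ≤ n) (hab : Aniso a b) (c : J n) (w : Fin 2 → F) : GOq n a b :=
  sgQ hn hab (Pi.single (Sum.inl c) 1) (inP (-w)) (Q_single a b _) (B_single_inP a b c (-w))

theorem Y_of_root (hn : 3 ≤ n) (hab : Aniso a b) {c d : J n} (hcd : IsRoot c d) (t : F) :
    ((Y hn hab c d t : GOq n a b) : OOq n a b) =
      siegO (QfMinus n F a b) (Pi.single (Sum.inl (ng d)) 1) (t • Pi.single (Sum.inl c) 1)
        (Q_single a b _) (B_single_smul_single a b hcd t) := by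
  unfold Y
  rw [dif_pos hcd]
  rfl

theorem Z_val (hn : 3 ≤ n) (hab : Aniso a b) (c : J n) (w : Fin 2 → F) :
    ((Z hn hab c w : GOq n a b) : OOq n a b) =
      siegO (QfMinus n F a b) (Pi.single (Sum.inl c) 1) (inP (-w)) (Q_single a b _)
        (B_single_inP a b c (-w)) := rfl

theorem coe_Y (hn : 3 ≤ n) (hab : Aniso a b) {c d : J n} (hcd : IsRoot c d) (t : F) :
    mt (QfMinus n F a b) ((Y hn hab c d t : GOq n a b) : OOq n a b) = xmQ c d t := by
  rw [xmQ_eq_siegM a b hcd t, Y_of_root hn hab hcd t, siegO_val]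

theorem coe_Z (hn : 3 ≤ n) (hab : Aniso a b) (c : J n) (w : Fin 2 → F) :
    mt (QfMinus n F a b) ((Z hn hab c w : GOq n a b) : OOq n a b) = ymQ (qf2 a b) c w := by
  rw [ymQ_eq_siegM a b c w, Z_val hn hab c w, siegO_val]

/-- the root elements generate `Ω` -/
theorem closure_eq_top (hn : 3 ≤ n) (hab : Aniso a b) :
    Subgroup.closure ({g : GOq n a b | ∃ c d, ∃ t : F, IsRoot c d ∧ g = Y hn hab c d t} ∪
      {g : GOq n a b | ∃ c, ∃ w : Fin 2 → F, g = Z hn hab c w}) = ⊤ := by
  classical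
  set H' : Subgroup (GOq n a b) :=
    Subgroup.closure ({g : GOq n a b | ∃ c d, ∃ t : F, IsRoot c d ∧ g = Y hn hab c d t} ∪
      {g : GOq n a b | ∃ c, ∃ w : Fin 2 → F, g = Z hn hab c w}) with hH'
  set H : Subgroup (OOq n a b) := H'.map (Cfsg.Omega F ⇑(QfMinus n F a b)).subtype with hH
  set i0 : Fin n := ⟨0, by omega⟩ with hi0
  set e : IQ n (Fin 2) → F := Pi.single (Sum.inl (Sum.inl i0)) 1 with he
  set f : IQ n (Fin 2) → F := Pi.single (Sum.inl (Sum.inr i0)) 1 with hf
  have hp : HypPair (QfMinus n F a b) e f :=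
    ⟨Q_single a b _, Q_single a b _, by rw [he, B_single]; simp [hf]⟩
  -- long root elements with singular vector `e_x`
  have hmemY : ∀ (x c : J n) (t : F), c ≠ x → c ≠ ng x →
      t • (Pi.single (Sum.inl c) 1 : IQ n (Fin 2) → F) ∈
        Rad H (Pi.single (Sum.inl x) 1) (Q_single a b x) := by
    intro x c t h1 h2'
    have hroot : IsRoot c (ng x) := ⟨h2', by rw [ng_ng]; exact h1⟩
    have hB : B (QfMinus n F a b) (Pi.single (Sum.inl x) 1)
        (t • (Pi.single (Sum.inl c) 1 : IQ n (Fin 2) → F)) = 0 := by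
      have := B_single_smul_single (F := F) a b hroot t
      rwa [ng_ng] at this
    refine ⟨hB, ?_⟩
    refine ⟨Y hn hab c (ng x) t,
      Subgroup.subset_closure (Or.inl ⟨c, ng x, t, hroot, rfl⟩), ?_⟩
    show ((Y hn hab c (ng x) t : GOq n a b) : OOq n a b) = _
    rw [Y_of_root hn hab hroot t]
    exact siegO_congr _ _ _ _ _ (by rw [ng_ng]) rfl
  -- short root elements with singular vector `e_x`
  have hmemZ : ∀ (x : J n) (w : Fin 2 → F),
      (inP w : IQ n (Fin 2) → F) ∈ Rad H (Pi.single (Sum.inl x) 1) (Q_single a b x) := by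
    intro x w
    refine ⟨B_single_inP a b x w, ?_⟩
    refine ⟨Z hn hab x (-w), Subgroup.subset_closure (Or.inr ⟨x, -w, rfl⟩), ?_⟩
    show ((Z hn hab x (-w) : GOq n a b) : OOq n a b) = _
    rw [Z_val]
    exact siegO_congr _ _ _ _ _ rfl (by rw [neg_neg])
  have hrad : ∀ (x : J n) (w : IQ n (Fin 2) → F), w (Sum.inl x) = 0 → w (Sum.inl (ng x)) = 0 →
      w ∈ Rad H (Pi.single (Sum.inl x) 1) (Q_single a b x) := by
    intro x w hwx hwn
    have hw : w = ∑ k : IQ n (Fin 2), w k • (Pi.single k 1 : IQ n (Fin 2) → F) := by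
      ext d
      rw [Finset.sum_apply]
      simp [Pi.single_apply]
    rw [hw]
    apply AddSubgroup.sum_mem
    intro k _
    rcases k with c | u
    · by_cases h1 : c = x
      · rw [h1, hwx, zero_smul]; exact AddSubgroup.zero_mem _
      by_cases h2' : c = ng x
      · rw [h2', hwn, zero_smul]; exact AddSubgroup.zero_mem _
      exact hmemY x c (w (Sum.inl c)) h1 h2'
    · have e1 : w (Sum.inr u) • (Pi.single (Sum.inr u) 1 : IQ n (Fin 2) → F) =
          inP (w (Sum.inr u) • (Pi.single u 1 : Fin 2 → F)) := by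
        funext k
        rcases k with c | k
        · simp [inP]
        · simp [inP, Pi.single_apply]
      rw [e1]
      exact hmemZ x _
  have hE : ∀ w, B (QfMinus n F a b) e w = 0 → B (QfMinus n F a b) f w = 0 →
      w ∈ Rad H e hp.Qe := by
    intro w h1 h2'
    rw [he, B_single] at h1
    rw [hf, B_single] at h2'
    exact hrad (Sum.inl i0) w (by simpa using h2') (by simpa using h1)
  have hF : ∀ w, B (QfMinus n F a b) e w = 0 → B (QfMinus n F a b) f w = 0 →
      w ∈ Rad H f hp.Qf := by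
    intro w h1 h2'
    rw [he, B_single] at h1
    rw [hf, B_single] at h2'
    exact hrad (Sum.inr i0) w (by simpa using h1) (by simpa using h2')
  -- the nonsingular vector `z_0`
  set w₀ : IQ n (Fin 2) → F := Pi.single (Sum.inr 0) 1 with hw₀
  have h0e : B (QfMinus n F a b) e w₀ = 0 := by
    rw [he, B_single]
    simp [hw₀]
  have h0f : B (QfMinus n F a b) f w₀ = 0 := by
    rw [hf, B_single]
    simp [hw₀]
  have h0 : QfMinus n F a b w₀ ≠ 0 := by
    rw [hw₀, QfMinus_z0]; exact one_ne_zero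
  have hS : S (QfMinus n F a b) ≤ H := S_le_of_rad (Q_gen hn hab).1 hp hE hF h0e h0f h0
  rw [eq_top_iff]
  intro (g : GOq n a b) _
  have hg : (g : OOq n a b) ∈ H := by
    apply hS
    rw [← Omega_eq_S (Q_gen hn hab).1 (fr3 hn a b) (Q_gen hn hab).2]
    exact g.2
  obtain ⟨g', hg', hgg'⟩ := hg
  have : g' = g := Subtype.ext hgg'
  rw [← this]; exact hg'

/-- the statement for an arbitrary function equal to the quadratic form -/
theorem main (hn : 3 ≤ n) (hab : Aniso a b) (q : (IQ n (Fin 2) → F) → F)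
    (hq : ⇑(QfMinus n F a b) = q) :
    ∃ (Y' : J n → J n → F → ↥(Cfsg.Omega F q)) (Z' : J n → (Fin 2 → F) → ↥(Cfsg.Omega F q)),
      (∀ c d, IsRoot c d → ∀ t : F,
        (((Y' c d t : ↥(Cfsg.isometryGroup F q)) : GL (IQ n (Fin 2)) F) :
          Matrix (IQ n (Fin 2)) (IQ n (Fin 2)) F) = xmQ c d t) ∧
      (∀ c, ∀ w : Fin 2 → F,
        (((Z' c w : ↥(Cfsg.isometryGroup F q)) : GL (IQ n (Fin 2)) F) :
          Matrix (IQ n (Fin 2)) (IQ n (Fin 2)) F) = ymQ (qf2 a b) c w) ∧
      Subgroup.closure ({g | ∃ c d, ∃ t : F, IsRoot c d ∧ g = Y' c d t} ∪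
        {g | ∃ c, ∃ w : Fin 2 → F, g = Z' c w}) = ⊤ := by
  subst hq
  exact ⟨Y hn hab, Z hn hab, fun c d hcd t => coe_Y hn hab hcd t, fun c w => coe_Z hn hab c w,
    closure_eq_top hn hab⟩

end omega

end MODELQ

/-- MODELQ -/
theorem exists_modelQ [Fintype F] (hn : 3 ≤ n) {a b : F}
    (hab : ∀ z₁ z₂ : F, z₁ ^ 2 + a * z₁ * z₂ + b * z₂ ^ 2 = 0 → z₁ = 0 ∧ z₂ = 0) :
    ∃ (Y : J n → J n → F → ↥(Cfsg.Omega F (Cfsg.quadFormMinus n F a b)))
      (Z : J n → (Fin 2 → F) → ↥(Cfsg.Omega F (Cfsg.quadFormMinus n F a b))),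
      (∀ c d, IsRoot c d → ∀ t : F, coeΩQ n a b (Y c d t) = xmQ c d t) ∧
      (∀ c, ∀ w : Fin 2 → F, coeΩQ n a b (Z c w) = ymQ (qf2 a b) c w) ∧
      Subgroup.closure ({g | ∃ c d, ∃ t : F, IsRoot c d ∧ g = Y c d t} ∪
        {g | ∃ c, ∃ w : Fin 2 → F, g = Z c w}) = ⊤ := by
  obtain ⟨Y, Z, h1, h2', h3⟩ :=
    MODELQ.main hn hab (Cfsg.quadFormMinus n F a b) (Cfsg.Agent.Helper28.Spin.QfMinus_coe n a b)
  exact ⟨Y, Z, fun c d hcd t => h1 c d hcd t, fun c w => h2' c w, h3⟩

end Cfsg.Agent.S2099P
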