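import Mathlib
import Cfsg.Agent.Helper13.S2276Defs
import Cfsg.Agent.Helper23.S2276RCYCODD
import Cfsg.Agent.Helper18.S2276RCYCEVEN

/-! S2276 piece RCYC (driver helper13; helper20): both parities for an `r`-cycle. -/

set_option autoImplicit false
set_option linter.unusedSectionVars false
set_option linter.unusedVariables false

namespace Cfsg.Agent.S2276P

open Equiv Equiv.Perm

theorem RCYC.main {r : ℕ} (hr : Odd r) (h5 : 5 ≤ r) {p : ℕ} (hp : p.Prime) (hp2 : p ≠ 2)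
    (hpr : p ∣ r) :
    ∃ v σ : Perm (Fin r), v.cycleType = {r} ∧ Perm.sign σ = -1 ∧ Good p (finRotate r) v ∧
      Good p (finRotate r) (σ * v * σ⁻¹) := by
  obtain ⟨τ, hτ, hGτ⟩ := RCYCODD.main hr h5 hp hp2
  obtain ⟨ρ, hρ, hGρ⟩ := RCYCEVEN.main hr h5 hp hp2 hpr
  refine ⟨τ * (finRotate r)⁻¹ * τ⁻¹, ρ * τ⁻¹, ?_, ?_, hGτ, ?_⟩
  · rw [Equiv.Perm.cycleType_conj, Equiv.Perm.cycleType_inv]
    obtain ⟨n, rfl⟩ : ∃ n, r = n + 2 := ⟨r - 2, by omega⟩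
    exact cycleType_finRotate
  · rw [map_mul, map_inv, hρ, hτ]
    decide
  · have : ρ * τ⁻¹ * (τ * (finRotate r)⁻¹ * τ⁻¹) * (ρ * τ⁻¹)⁻¹ = ρ * (finRotate r)⁻¹ * ρ⁻¹ := by
      group
    rw [this]
    exact hGρ

end Cfsg.Agent.S2276P
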