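import Mathlib
import Cfsg.Agent.Helper13.S2511Defs

/-! S2511 piece NSKEW (helper20): the shift `Nsh` is skew-adjoint for `Hanti`, and its powers. -/

set_option autoImplicit false

namespace Cfsg.Agent.S2511P

open Polynomial Matrix
open Cfsg.Agent.S2263P

section layerU

variable {F : Type*} [Field F]

/-- NSKEW (M) -/
theorem Hanti_Nsh (σ : F →+* F) (b : ℕ) (ε : F) (x y : Fin b → F) :
    Hanti σ b ε (Nsh F b x) y = - Hanti σ b ε x (Nsh F b y) := by
  rw [Hanti_apply, Hanti_apply, ← mul_neg]
  congr 1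
  cases b with
  | zero => simp
  | succ m =>
    rw [Fin.sum_univ_castSucc, Fin.sum_univ_succ (n := m)]
    have hlast : Nsh F (m + 1) x (Fin.last m) = 0 := by
      rw [Nsh_apply]
      simp
    have hzero : Nsh F (m + 1) y (Fin.rev (0 : Fin (m + 1))) = 0 := by
      rw [Nsh_apply]
      simp [Fin.rev]
    rw [hlast, hzero]
    simp only [mul_zero, zero_mul, add_zero, map_zero, zero_add]
    rw [← Finset.sum_neg_distrib]
    apply Finset.sum_congr rfl
    intro i _
    have h1 : Nsh F (m + 1) x (Fin.castSucc i) = x i.succ := by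
      rw [Nsh_apply]
      have : ((Fin.castSucc i : Fin (m + 1)) : ℕ) + 1 < m + 1 := by
        simp
      rw [dif_pos this]
      rfl
    have h2 : Nsh F (m + 1) y (Fin.rev i.succ) = y (Fin.rev (Fin.castSucc i)) := by
      rw [Nsh_apply]
      have hv : ((Fin.rev i.succ : Fin (m + 1)) : ℕ) + 1 = ((Fin.rev (Fin.castSucc i) : Fin (m + 1)) : ℕ) := by
        simp only [Fin.val_rev, Fin.val_succ, Fin.val_castSucc]
        have := i.2
        omega
      have : ((Fin.rev i.succ : Fin (m + 1)) : ℕ) + 1 < m + 1 := by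
        rw [hv]
        exact (Fin.rev (Fin.castSucc i)).2
      rw [dif_pos this]
      congr 1
      apply Fin.ext
      exact hv
    rw [h1, h2]
    simp only [Fin.val_castSucc, Fin.val_succ, pow_succ]
    ring

/-- NSKEW (M) -/
theorem Nsh_pow_apply (b j : ℕ) (x : Fin b → F) (i : Fin b) :
    ((Nsh F b) ^ j) x i = if h : (i : ℕ) + j < b then x ⟨(i : ℕ) + j, h⟩ else 0 := by
  induction j generalizing x i with
  | zero =>
    have : (i : ℕ) + 0 < b := by simpa using i.2
    rw [dif_pos this]
    simp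
  | succ j ih =>
    rw [pow_succ, Module.End.mul_apply, ih]
    by_cases h : (i : ℕ) + j < b
    · rw [dif_pos h, Nsh_apply]
      by_cases h' : (i : ℕ) + (j + 1) < b
      · have h'' : ((⟨(i : ℕ) + j, h⟩ : Fin b) : ℕ) + 1 < b := by
          show (i : ℕ) + j + 1 < b
          omega
        rw [dif_pos h', dif_pos h'']
        rfl
      · have h'' : ¬ ((⟨(i : ℕ) + j, h⟩ : Fin b) : ℕ) + 1 < b := by
          show ¬ (i : ℕ) + j + 1 < b
          omega
        rw [dif_neg h', dif_neg h'']
    · have h' : ¬ (i : ℕ) + (j + 1) < b := by omega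
      rw [dif_neg h, dif_neg h']

/-- NSKEW (M) -/
theorem Nsh_pow_eq_zero_iff (b j : ℕ) : (Nsh F b) ^ j = 0 ↔ b ≤ j := by
  constructor
  · intro h
    by_contra hlt
    push Not at hlt
    have hb : 0 < b := by omega
    have h1 := Nsh_pow_apply (F := F) b j (Pi.single (⟨j, hlt⟩ : Fin b) (1 : F)) ⟨0, hb⟩
    rw [h] at h1
    have h2 : ((⟨0, hb⟩ : Fin b) : ℕ) + j < b := by
      show 0 + j < b
      omega
    rw [dif_pos h2] at h1
    have h3 : (⟨((⟨0, hb⟩ : Fin b) : ℕ) + j, h2⟩ : Fin b) = ⟨j, hlt⟩ := by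
      apply Fin.ext
      show 0 + j = j
      omega
    rw [h3] at h1
    simp at h1
  · intro h
    apply LinearMap.ext
    intro x
    funext i
    rw [Nsh_pow_apply]
    have : ¬ (i : ℕ) + j < b := by omega
    rw [dif_neg this]
    rfl

end layerU

end Cfsg.Agent.S2511P
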