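import Mathlib

/-!
# Integrality of traces of matrices killed by monic integer polynomials, and the
"average" idempotent built from a permutation action and a matrix representation.
-/

set_option autoImplicit false

namespace Cfsg.Agent.Helper20.PermChar

open Matrix Polynomial
open scoped Kronecker

/-- The trace of a complex matrix killed by a monic integer polynomial is an algebraic integer. -/
theorem isIntegral_trace_of_aeval {n : Type*} [Fintype n] [DecidableEq n] (M : Matrix n n ℂ)
    (q : ℤ[X]) (hq : q.Monic) (h : aeval M (q.map (Int.castRingHom ℂ)) = 0) :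
    IsIntegral ℤ M.trace := by
  rcases isEmpty_or_nonempty n with hn | hn
  · rw [Matrix.trace_eq_zero_of_isEmpty]; exact isIntegral_zero
  rw [Matrix.trace_eq_sum_roots_charpoly]
  apply IsIntegral.multiset_sum
  intro μ hμ
  have hroot : M.charpoly.IsRoot μ := (Polynomial.mem_roots'.1 hμ).2
  have hspec : μ ∈ spectrum ℂ M := Matrix.mem_spectrum_iff_isRoot_charpoly.2 hroot
  -- spectral mapping
  have hsub := spectrum.subset_polynomial_aeval M (q.map (Int.castRingHom ℂ))
  have hmem : (q.map (Int.castRingHom ℂ)).eval μ ∈
      spectrum ℂ (aeval M (q.map (Int.castRingHom ℂ))) := hsub ⟨μ, hspec, rfl⟩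
  rw [h] at hmem
  have hzero : (q.map (Int.castRingHom ℂ)).eval μ = 0 := by
    simpa [spectrum.zero_eq] using hmem
  refine ⟨q, hq, ?_⟩
  rw [← Polynomial.eval_map]
  exact hzero

section Ring

variable {R S : Type*} [CommRing R] [Ring S] [Algebra R S]

theorem proj_mul_pow (a e : S) (hc : a * e = e * a) (he : e * e = e) (n : ℕ) :
    e * (a * e) ^ n = e * a ^ n := by
  induction n with
  | zero => simp
  | succ n ih =>
    have hcomm : Commute e a := hc.symm
    have hpow : Commute e (a ^ (n + 1)) := hcomm.pow_right _
    calc e * (a * e) ^ (n + 1) = (e * (a * e) ^ n) * (a * e) := by rw [pow_succ, mul_assoc]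
      _ = e * a ^ n * (a * e) := by rw [ih]
      _ = e * (a ^ (n + 1) * e) := by rw [pow_succ]; noncomm_ring
      _ = e * (e * a ^ (n + 1)) := by rw [hpow.eq]
      _ = e * a ^ (n + 1) := by rw [← mul_assoc, he]

theorem proj_mul_aeval (a e : S) (hc : a * e = e * a) (he : e * e = e) (p : R[X]) :
    e * aeval (a * e) p = e * aeval a p := by
  rw [Polynomial.aeval_eq_sum_range, Polynomial.aeval_eq_sum_range, Finset.mul_sum, Finset.mul_sum]
  refine Finset.sum_congr rfl ?_
  intro i _
  rw [mul_smul_comm, mul_smul_comm, proj_mul_pow a e hc he]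

/-- If `a` is killed by `p` and `e` is an idempotent commuting with `a`, then `a * e` is killed
by `X * p`. -/
theorem aeval_mul_proj_eq_zero (a e : S) (hc : a * e = e * a) (he : e * e = e) (p : R[X])
    (hp : aeval a p = 0) : aeval (a * e) (X * p) = 0 := by
  rw [map_mul, aeval_X, mul_assoc, proj_mul_aeval a e hc he, hp, mul_zero, mul_zero]

end Ring

/-- A complex matrix which is the image of an integer matrix is killed by a monic integer
polynomial. -/
theorem exists_monic_aeval_map_eq_zero {n : Type*} [Fintype n] [DecidableEq n]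
    (M : Matrix n n ℤ) :
    ∃ p : ℤ[X], p.Monic ∧
      aeval (M.map (Int.cast : ℤ → ℂ)) (p.map (Int.castRingHom ℂ)) = 0 := by
  refine ⟨M.charpoly, Matrix.charpoly_monic M, ?_⟩
  have h := Matrix.aeval_self_charpoly (M.map (Int.castRingHom ℂ))
  rw [Matrix.charpoly_map] at h
  exact h

/-- The product of the image of an integer matrix with a commuting idempotent has integral
trace. -/
theorem isIntegral_trace_mul_proj {n : Type*} [Fintype n] [DecidableEq n]
    (M : Matrix n n ℤ) (e : Matrix n n ℂ)
    (hc : M.map (Int.cast : ℤ → ℂ) * e = e * M.map (Int.cast : ℤ → ℂ)) (he : e * e = e) :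
    IsIntegral ℤ (M.map (Int.cast : ℤ → ℂ) * e).trace := by
  obtain ⟨p, hp, h⟩ := exists_monic_aeval_map_eq_zero M
  apply isIntegral_trace_of_aeval _ (X * p) (monic_X.mul hp)
  rw [Polynomial.map_mul, Polynomial.map_X]
  exact aeval_mul_proj_eq_zero _ _ hc he _ h

end Cfsg.Agent.Helper20.PermChar
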