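import Mathlib
import Cfsg.Agent.Helper20.PermCharA

/-!
# Permutation matrices, representation matrices and the averaging idempotent on `Ω × Fin d`.
-/

set_option autoImplicit false

namespace Cfsg.Agent.Helper20.PermChar

open Matrix
open scoped Kronecker

section Perm

variable {G : Type*} [Group G] {Ω : Type*} [Fintype Ω] [DecidableEq Ω] [MulAction G Ω]

/-- The permutation matrix of `g`. -/
def permMat (g : G) : Matrix Ω Ω ℂ := Matrix.of fun x y => if x = g • y then 1 else 0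

theorem permMat_apply (g : G) (x y : Ω) : permMat g x y = if x = g • y then 1 else 0 := rfl

theorem mul_permMat_apply (A : Matrix Ω Ω ℂ) (g : G) (x y : Ω) :
    (A * (permMat g : Matrix Ω Ω ℂ)) x y = A x (g • y) := by
  simp [Matrix.mul_apply, permMat_apply]

theorem permMat_mul_apply (A : Matrix Ω Ω ℂ) (g : G) (x y : Ω) :
    ((permMat g : Matrix Ω Ω ℂ) * A) x y = A (g⁻¹ • x) y := by
  simp only [Matrix.mul_apply, permMat_apply]
  have : ∀ z : Ω, (x = g • z) ↔ (z = g⁻¹ • x) := by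
    intro z
    constructor
    · intro h; rw [h, inv_smul_smul]
    · intro h; rw [h, smul_inv_smul]
  simp [this]

theorem permMat_mul (g h : G) : (permMat (g * h) : Matrix Ω Ω ℂ) = permMat g * permMat h := by
  ext x y
  rw [mul_permMat_apply, permMat_apply, permMat_apply, mul_smul]

theorem permMat_one : (permMat (1 : G) : Matrix Ω Ω ℂ) = 1 := by
  ext x y
  simp [permMat_apply, Matrix.one_apply]

theorem trace_permMat (g : G) :
    (permMat g : Matrix Ω Ω ℂ).trace = (Nat.card (MulAction.fixedBy Ω g) : ℂ) := by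
  classical
  simp only [Matrix.trace, Matrix.diag, permMat_apply]
  rw [Finset.sum_boole, Nat.card_eq_fintype_card]
  congr 1
  rw [Fintype.card_subtype]
  congr 1
  ext x
  simp [MulAction.mem_fixedBy, eq_comm]

/-- A `G`-invariant matrix commutes with the permutation matrices. -/
theorem mul_permMat_comm (A : Matrix Ω Ω ℂ) (hA : ∀ (g : G) (x y : Ω), A (g • x) (g • y) = A x y)
    (g : G) : A * (permMat g : Matrix Ω Ω ℂ) = (permMat g : Matrix Ω Ω ℂ) * A := by
  ext x y
  rw [mul_permMat_apply, permMat_mul_apply]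
  have := hA g⁻¹ x (g • y)
  rw [inv_smul_smul] at this
  exact this.symm

theorem trace_mul_permMat (A : Matrix Ω Ω ℂ) (g : G) :
    (A * (permMat g : Matrix Ω Ω ℂ)).trace = ∑ x : Ω, A x (g • x) := by
  simp only [Matrix.trace, Matrix.diag, mul_permMat_apply]

end Perm

section Rep

variable {G : Type*} [Group G] {d : ℕ} (ρ : Representation ℂ G (Fin d → ℂ))

/-- The matrix of `ρ g`. -/
noncomputable def repMat (g : G) : Matrix (Fin d) (Fin d) ℂ := LinearMap.toMatrix' (ρ g)

theorem repMat_mul (g h : G) : repMat ρ (g * h) = repMat ρ g * repMat ρ h := by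
  simp [repMat, LinearMap.toMatrix'_mul]

theorem repMat_one : repMat ρ 1 = 1 := by
  simp [repMat]

theorem trace_repMat (g : G) : (repMat ρ g).trace = ρ.character g := by
  rw [Representation.character, LinearMap.trace_eq_matrix_trace ℂ (Pi.basisFun ℂ (Fin d)),
    LinearMap.toMatrix_eq_toMatrix']
  rfl

end Rep

section Avg

variable {G : Type*} [Group G] [Fintype G] {Ω : Type*} [Fintype Ω] [DecidableEq Ω] [MulAction G Ω]
  {d : ℕ} (ρ : Representation ℂ G (Fin d → ℂ))

/-- `P_g ⊗ ρ(g⁻¹)ᵀ`. -/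
noncomputable def kron (g : G) : Matrix (Ω × Fin d) (Ω × Fin d) ℂ :=
  (permMat g : Matrix Ω Ω ℂ) ⊗ₖ (repMat ρ g⁻¹)ᵀ

theorem kron_mul (g h : G) : (kron ρ (g * h) : Matrix (Ω × Fin d) (Ω × Fin d) ℂ) =
    kron ρ g * kron ρ h := by
  unfold kron
  rw [← Matrix.mul_kronecker_mul, permMat_mul, _root_.mul_inv_rev, repMat_mul, Matrix.transpose_mul]

/-- The averaging idempotent. -/
noncomputable def avg : Matrix (Ω × Fin d) (Ω × Fin d) ℂ :=
  ((Fintype.card G : ℂ)⁻¹) • ∑ g : G, kron ρ g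

theorem avg_mul_avg : (avg ρ : Matrix (Ω × Fin d) (Ω × Fin d) ℂ) * avg ρ = avg ρ := by
  unfold avg
  rw [Matrix.smul_mul, Matrix.mul_smul, Finset.sum_mul]
  have h1 : ∀ g : G, kron ρ g * ∑ h : G, (kron ρ h : Matrix (Ω × Fin d) (Ω × Fin d) ℂ) =
      ∑ h : G, kron ρ h := by
    intro g
    rw [Finset.mul_sum]
    simp_rw [← kron_mul]
    exact Fintype.sum_bijective (fun h => g * h) (Group.mulLeft_bijective g) _ _ (fun _ => rfl)
  simp_rw [h1]
  rw [Finset.sum_const, Finset.card_univ, smul_smul, ← Nat.cast_smul_eq_nsmul ℂ, smul_smul]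
  congr 1
  have : (Fintype.card G : ℂ) ≠ 0 := by exact_mod_cast Fintype.card_ne_zero
  field_simp

theorem trace_avg : (avg ρ : Matrix (Ω × Fin d) (Ω × Fin d) ℂ).trace =
    (Fintype.card G : ℂ)⁻¹ * ∑ g : G, (Nat.card (MulAction.fixedBy Ω g) : ℂ) * ρ.character g⁻¹ := by
  unfold avg kron
  rw [Matrix.trace_smul, Matrix.trace_sum, smul_eq_mul]
  congr 1
  refine Finset.sum_congr rfl ?_
  intro g _
  rw [Matrix.trace_kronecker, trace_permMat, Matrix.trace_transpose, trace_repMat]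

variable (A : Matrix Ω Ω ℂ)

theorem kronOne_mul_kron (g : G) :
    (A ⊗ₖ (1 : Matrix (Fin d) (Fin d) ℂ)) * kron ρ g = (A * permMat g) ⊗ₖ (repMat ρ g⁻¹)ᵀ := by
  unfold kron
  rw [← Matrix.mul_kronecker_mul, Matrix.one_mul]

theorem kron_mul_kronOne (g : G) :
    kron ρ g * (A ⊗ₖ (1 : Matrix (Fin d) (Fin d) ℂ)) = (permMat g * A) ⊗ₖ (repMat ρ g⁻¹)ᵀ := by
  unfold kron
  rw [← Matrix.mul_kronecker_mul, Matrix.mul_one]

theorem kronOne_mul_avg_comm (hA : ∀ (g : G) (x y : Ω), A (g • x) (g • y) = A x y) :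
    (A ⊗ₖ (1 : Matrix (Fin d) (Fin d) ℂ)) * avg ρ = avg ρ * (A ⊗ₖ (1 : Matrix (Fin d) (Fin d) ℂ)) := by
  unfold avg
  rw [Matrix.mul_smul, Matrix.smul_mul, Finset.mul_sum, Finset.sum_mul]
  congr 1
  refine Finset.sum_congr rfl ?_
  intro g _
  rw [kronOne_mul_kron, kron_mul_kronOne, mul_permMat_comm A hA]

theorem trace_kronOne_mul_avg :
    ((A ⊗ₖ (1 : Matrix (Fin d) (Fin d) ℂ)) * avg ρ).trace =
      (Fintype.card G : ℂ)⁻¹ * ∑ g : G, (∑ x : Ω, A x (g • x)) * ρ.character g⁻¹ := by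
  unfold avg
  rw [Matrix.mul_smul, Matrix.trace_smul, Finset.mul_sum, Matrix.trace_sum, smul_eq_mul]
  congr 1
  refine Finset.sum_congr rfl ?_
  intro g _
  rw [kronOne_mul_kron, Matrix.trace_kronecker, trace_mul_permMat, Matrix.trace_transpose,
    trace_repMat]

end Avg

end Cfsg.Agent.Helper20.PermChar
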