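import Mathlib
import Cfsg.Prelude.Def_Characters
import Cfsg.Agent.Helper20.PermCharB
import Cfsg.Agent.Helper20.SmallDegA
import Cfsg.Agent.Helper24.CharBasic
import Cfsg.Agent.Helper24.Integrality
import Cfsg.Agent.Helper24.Linear

/-!
# Orbital matrices and divisibility of subdegrees
-/

set_option autoImplicit false

namespace Cfsg.Agent.Helper20.PermChar

open Cfsg Cfsg.Agent.Helper24 Matrix
open scoped Kronecker

universe u v

section Orbital

variable {G : Type u} [Group G] {Ω : Type v} [MulAction G Ω]

open Classical in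
/-- The integer orbital matrix of the orbit of `(a, b)`. -/
noncomputable def orbMatZ (a b : Ω) : Matrix Ω Ω ℤ :=
  Matrix.of fun x y => if ∃ g : G, g • a = x ∧ g • b = y then 1 else 0

open Classical in
/-- The complex orbital matrix of the orbit of `(a, b)`. -/
noncomputable def orbMat (a b : Ω) : Matrix Ω Ω ℂ :=
  Matrix.of fun x y => if ∃ g : G, g • a = x ∧ g • b = y then 1 else 0

theorem orbMatZ_map (a b : Ω) :
    (orbMatZ (G := G) a b).map (Int.cast : ℤ → ℂ) = orbMat (G := G) a b := by
  ext x y
  simp only [orbMatZ, orbMat, Matrix.map_apply, Matrix.of_apply]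
  split_ifs <;> simp

theorem orbMat_smul (a b : Ω) (k : G) (x y : Ω) :
    orbMat (G := G) a b (k • x) (k • y) = orbMat (G := G) a b x y := by
  classical
  simp only [orbMat, Matrix.of_apply]
  have : (∃ g : G, g • a = k • x ∧ g • b = k • y) ↔ (∃ g : G, g • a = x ∧ g • b = y) := by
    constructor
    · rintro ⟨g, h1, h2⟩
      refine ⟨k⁻¹ * g, ?_, ?_⟩
      · rw [mul_smul, h1, inv_smul_smul]
      · rw [mul_smul, h2, inv_smul_smul]
    · rintro ⟨g, h1, h2⟩
      exact ⟨k * g, by rw [mul_smul, h1], by rw [mul_smul, h2]⟩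
  simp only [this]

theorem orbMat_diag (a b : Ω) (hab : b ≠ a) (x : Ω) : orbMat (G := G) a b x x = 0 := by
  classical
  simp only [orbMat, Matrix.of_apply]
  rw [if_neg]
  rintro ⟨g, h1, h2⟩
  apply hab
  have : g • b = g • a := by rw [h1, h2]
  exact MulAction.injective g this

open Classical in
theorem orbMat_base (a b : Ω) (y : Ω) :
    orbMat (G := G) a b a y =
      if y ∈ MulAction.orbit (MulAction.stabilizer G a) b then 1 else 0 := by
  classical
  simp only [orbMat, Matrix.of_apply]
  have : (∃ g : G, g • a = a ∧ g • b = y) ↔ y ∈ MulAction.orbit (MulAction.stabilizer G a) b := by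
    constructor
    · rintro ⟨g, h1, h2⟩
      exact ⟨⟨g, h1⟩, h2⟩
    · rintro ⟨⟨g, h1⟩, h2⟩
      exact ⟨g, h1, h2⟩
  simp only [this]

end Orbital

section Count

variable {G : Type u} [Group G] [Fintype G] {Ω : Type v} [Fintype Ω] [MulAction G Ω]

/-- The number of group elements sending `x` to `y` in a transitive action. -/
theorem card_smul_eq [MulAction.IsPretransitive G Ω] (x y : Ω) :
    Nat.card {g : G // g • x = y} = Nat.card (MulAction.stabilizer G x) := by
  obtain ⟨g₀, hg₀⟩ := MulAction.exists_smul_eq G x y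
  apply Nat.card_congr
  refine Equiv.subtypeEquiv (Equiv.mulLeft g₀⁻¹) ?_
  intro g
  rw [MulAction.mem_stabilizer_iff, Equiv.coe_mulLeft, mul_smul]
  constructor
  · intro h; rw [h, ← hg₀, inv_smul_smul]
  · intro h
    have := congrArg (fun z => g₀ • z) h
    simp only [smul_inv_smul] at this
    rw [this, hg₀]

open Classical in
/-- Summing a function over `g • x` in a transitive action. -/
theorem sum_smul_eq [MulAction.IsPretransitive G Ω] (x : Ω) (F : Ω → ℂ) :
    ∑ g : G, F (g • x) = (Nat.card (MulAction.stabilizer G x) : ℂ) * ∑ y : Ω, F y := by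
  have h1 : ∀ g : G, F (g • x) = ∑ y : Ω, if g • x = y then F y else 0 := by
    intro g
    rw [Finset.sum_ite_eq]
    simp
  simp_rw [h1]
  rw [Finset.sum_comm, Finset.mul_sum]
  refine Finset.sum_congr rfl ?_
  intro y _
  rw [← Finset.sum_filter, Finset.sum_const, nsmul_eq_mul, ← card_smul_eq x y,
    Nat.card_eq_fintype_card, Fintype.card_subtype]

theorem card_stabilizer_mul_card [MulAction.IsPretransitive G Ω] (x : Ω) :
    Nat.card (MulAction.stabilizer G x) * Nat.card Ω = Nat.card G := by
  classical
  have h := MulAction.card_orbit_mul_card_stabilizer_eq_card_group G x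
  have h2 : Fintype.card (MulAction.orbit G x) = Fintype.card Ω := by
    apply Fintype.card_congr
    rw [MulAction.orbit_eq_univ]
    exact Equiv.Set.univ Ω
  rw [h2] at h
  rw [mul_comm, Nat.card_eq_fintype_card, Nat.card_eq_fintype_card, Nat.card_eq_fintype_card]
  exact h

end Count

end Cfsg.Agent.Helper20.PermChar
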