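import Mathlib
import Cfsg.Prelude.Def_Characters
import Cfsg.Agent.Helper20.PermCharC

/-!
# The orbital coefficients of irreducible characters and divisibility of subdegrees
-/

set_option autoImplicit false

namespace Cfsg.Agent.Helper20.PermChar

open Cfsg Cfsg.Agent.Helper24 Matrix
open scoped Kronecker

universe u v

section Main

variable {G : Type u} [Group G] [Fintype G] {Ω : Type v} [Fintype Ω] [MulAction G Ω]

/-- `α(g) = tr(A P_g)`. -/
noncomputable def orbTrace (a b : Ω) (g : G) : ℂ := ∑ x : Ω, orbMat (G := G) a b x (g • x)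

/-- The coefficient `t(χ) = |G|⁻¹ ∑ α(g) χ(g⁻¹)`. -/
noncomputable def orbCoeff (a b : Ω) (χ : G → ℂ) : ℂ :=
  (Fintype.card G : ℂ)⁻¹ * ∑ g : G, orbTrace a b g * χ g⁻¹

theorem map_kron_one [DecidableEq Ω] (d : ℕ) (M : Matrix Ω Ω ℤ) :
    (M ⊗ₖ (1 : Matrix (Fin d) (Fin d) ℤ)).map (Int.cast : ℤ → ℂ) =
      (M.map (Int.cast : ℤ → ℂ)) ⊗ₖ (1 : Matrix (Fin d) (Fin d) ℂ) := by
  ext ⟨x, i⟩ ⟨y, j⟩
  simp only [Matrix.map_apply, Matrix.kroneckerMap_apply, Matrix.one_apply]
  split_ifs <;> simp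

theorem isIntegral_orbCoeff (a b : Ω) {d : ℕ} (ρ : Representation ℂ G (Fin d → ℂ)) :
    IsIntegral ℤ (orbCoeff a b ρ.character) := by
  classical
  have hA : ∀ (g : G) (x y : Ω), orbMat (G := G) a b (g • x) (g • y) = orbMat (G := G) a b x y :=
    fun g x y => orbMat_smul a b g x y
  have key := isIntegral_trace_mul_proj ((orbMatZ (G := G) a b) ⊗ₖ (1 : Matrix (Fin d) (Fin d) ℤ))
    (avg ρ) (by
      rw [map_kron_one, orbMatZ_map]
      exact kronOne_mul_avg_comm ρ _ hA) (avg_mul_avg ρ)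
  rw [map_kron_one, orbMatZ_map, trace_kronOne_mul_avg] at key
  exact key

theorem orbCoeff_eq_zero (a b : Ω) {d : ℕ} (ρ : Representation ℂ G (Fin d → ℂ))
    (h : (Fintype.card G : ℂ)⁻¹ *
      ∑ g : G, (Nat.card (MulAction.fixedBy Ω g) : ℂ) * ρ.character g⁻¹ = 0) :
    orbCoeff a b ρ.character = 0 := by
  classical
  have htr : (avg (Ω := Ω) ρ).trace = 0 := by rw [trace_avg]; exact h
  have hid : IsIdempotentElem (Matrix.toLin' (avg (Ω := Ω) ρ)) := by
    show Matrix.toLin' (avg (Ω := Ω) ρ) * Matrix.toLin' (avg (Ω := Ω) ρ) = _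
    rw [Module.End.mul_eq_comp, ← Matrix.toLin'_mul, avg_mul_avg]
  have h0 : Matrix.toLin' (avg (Ω := Ω) ρ) = 0 := by
    apply (LinearMap.IsIdempotentElem.trace_eq_zero_iff hid).1
    rw [Matrix.trace_toLin'_eq]
    exact htr
  have h1 : (avg (Ω := Ω) ρ) = 0 := by
    have := Matrix.toLin'.injective (h0.trans (map_zero _).symm)
    exact this
  have := trace_kronOne_mul_avg ρ (orbMat (G := G) a b)
  rw [h1, Matrix.mul_zero, Matrix.trace_zero] at this
  exact this.symm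

theorem orbTrace_one (a b : Ω) (hab : b ≠ a) : orbTrace (G := G) a b 1 = 0 := by
  unfold orbTrace
  apply Finset.sum_eq_zero
  intro x _
  rw [one_smul]
  exact orbMat_diag a b hab x

theorem sum_irr_orbCoeff [Fintype (IrrCharacter G)] (a b : Ω) (hab : b ≠ a) :
    ∑ χ : IrrCharacter G, (χ : G → ℂ) 1 * orbCoeff a b (χ : G → ℂ) = 0 := by
  classical
  unfold orbCoeff
  have h1 : ∀ χ : IrrCharacter G, (χ : G → ℂ) 1 *
      ((Fintype.card G : ℂ)⁻¹ * ∑ g : G, orbTrace a b g * (χ : G → ℂ) g⁻¹) =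
      (Fintype.card G : ℂ)⁻¹ * ∑ g : G, orbTrace a b g * ((χ : G → ℂ) 1 * (χ : G → ℂ) g⁻¹) := by
    intro χ
    rw [mul_left_comm, Finset.mul_sum]
    congr 1
    refine Finset.sum_congr rfl ?_
    intro g _
    ring
  rw [Finset.sum_congr rfl (fun χ _ => h1 χ), ← Finset.mul_sum, Finset.sum_comm]
  simp_rw [← Finset.mul_sum, Cfsg.Agent.Helper20.SmallDeg.sum_irr_one_mul]
  rw [Finset.sum_eq_single 1]
  · rw [orbTrace_one a b hab, zero_mul, mul_zero]
  · intro g _ hg
    rw [if_neg (by simpa using hg), mul_zero]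
  · intro h; exact absurd (Finset.mem_univ _) h

theorem sum_orbMat_row [MulAction.IsPretransitive G Ω] (a b x : Ω) :
    ∑ y : Ω, orbMat (G := G) a b x y =
      (Nat.card (MulAction.orbit (MulAction.stabilizer G a) b) : ℂ) := by
  classical
  obtain ⟨k, hk⟩ := MulAction.exists_smul_eq G a x
  have h1 : ∀ y : Ω, orbMat (G := G) a b x y = orbMat (G := G) a b a (k⁻¹ • y) := by
    intro y
    have := orbMat_smul (G := G) a b k a (k⁻¹ • y)
    rw [smul_inv_smul, hk] at this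
    exact this
  simp_rw [h1]
  rw [show (∑ y : Ω, orbMat (G := G) a b a (k⁻¹ • y)) =
    ∑ y : Ω, (fun z => orbMat (G := G) a b a z) ((MulAction.toPerm k⁻¹) y) from rfl,
    Equiv.sum_comp (MulAction.toPerm k⁻¹) (fun z => orbMat (G := G) a b a z)]
  simp_rw [orbMat_base]
  rw [Finset.sum_boole, Nat.card_eq_fintype_card, Fintype.card_subtype]

theorem orbCoeff_one [MulAction.IsPretransitive G Ω] (a b : Ω) :
    orbCoeff (G := G) a b (fun _ => 1) =
      (Nat.card (MulAction.orbit (MulAction.stabilizer G a) b) : ℂ) := by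
  classical
  unfold orbCoeff orbTrace
  simp_rw [mul_one]
  rw [Finset.sum_comm]
  simp_rw [sum_smul_eq, sum_orbMat_row]
  rw [← Finset.sum_mul, ← Nat.cast_sum]
  have h2 : ∀ x : Ω, Nat.card (MulAction.stabilizer G x) * Nat.card Ω = Nat.card G :=
    fun x => card_stabilizer_mul_card x
  have hΩ : (Nat.card Ω : ℂ) ≠ 0 := by
    have : Nonempty Ω := ⟨a⟩
    exact_mod_cast (Nat.card_pos (α := Ω)).ne'
  have hG : (Fintype.card G : ℂ) ≠ 0 := by exact_mod_cast Fintype.card_ne_zero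
  have h3 : ((∑ x : Ω, Nat.card (MulAction.stabilizer G x) : ℕ) : ℂ) * (Nat.card Ω : ℂ) =
      (Nat.card Ω : ℂ) * (Fintype.card G : ℂ) := by
    rw [← Nat.cast_mul, Finset.sum_mul, Finset.sum_congr rfl (fun x _ => h2 x), Finset.sum_const,
      Finset.card_univ, smul_eq_mul, Nat.card_eq_fintype_card, Nat.card_eq_fintype_card]
    push_cast
    ring
  have h4 : ((∑ x : Ω, Nat.card (MulAction.stabilizer G x) : ℕ) : ℂ) = (Fintype.card G : ℂ) := by
    apply mul_right_cancel₀ hΩ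
    rw [h3, mul_comm]
  rw [h4, ← mul_assoc, inv_mul_cancel₀ hG, one_mul]

end Main

end Cfsg.Agent.Helper20.PermChar
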