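import Mathlib
import Cfsg.Prelude.Def_Characters
import Cfsg.Agent.Helper20.PermCharD

/-!
# Divisibility of subdegrees by a common divisor of the constituent degrees
-/

set_option autoImplicit false

namespace Cfsg.Agent.Helper20.PermChar

open Cfsg Cfsg.Agent.Helper24 Matrix

universe u v

section Main

variable {G : Type u} [Group G] [Fintype G] {Ω : Type v} [Fintype Ω] [MulAction G Ω]

theorem classInner_perm_eq (χ : G → ℂ) (hχ : IsIrrCharacter G χ) :
    classInner (fun g : G => (Nat.card (MulAction.fixedBy Ω g) : ℂ)) χ =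
      (Fintype.card G : ℂ)⁻¹ * ∑ g : G, (Nat.card (MulAction.fixedBy Ω g) : ℂ) * χ g⁻¹ := by
  obtain ⟨d, ρ, _, rfl⟩ := hχ
  unfold classInner
  rw [Nat.card_eq_fintype_card]
  congr 1
  refine Finset.sum_congr rfl ?_
  intro g _
  rw [char_inv]

theorem isIntegral_orbCoeff_irr (a b : Ω) (χ : G → ℂ) (hχ : IsIrrCharacter G χ) :
    IsIntegral ℤ (orbCoeff a b χ) := by
  obtain ⟨d, ρ, _, rfl⟩ := hχ
  exact isIntegral_orbCoeff a b ρ

theorem orbCoeff_eq_zero_irr (a b : Ω) (χ : G → ℂ) (hχ : IsIrrCharacter G χ)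
    (h : classInner (fun g : G => (Nat.card (MulAction.fixedBy Ω g) : ℂ)) χ = 0) :
    orbCoeff a b χ = 0 := by
  rw [classInner_perm_eq χ hχ] at h
  obtain ⟨d, ρ, _, rfl⟩ := hχ
  exact orbCoeff_eq_zero a b ρ h

/-- **Wielandt**: a common divisor of the degrees of the non-principal constituents of a
transitive permutation character divides every non-trivial subdegree. -/
theorem dvd_card_orbit [MulAction.IsPretransitive G Ω] (f : ℕ)
    (hf : ∀ χ : G → ℂ, IsIrrCharacter G χ → χ ≠ (fun _ => 1) →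
      classInner (fun g : G => (Nat.card (MulAction.fixedBy Ω g) : ℂ)) χ ≠ 0 →
      ∃ m : ℕ, χ 1 = (f : ℂ) * m) (a b : Ω) (hab : b ≠ a) :
    f ∣ Nat.card (MulAction.orbit (MulAction.stabilizer G a) b) := by
  classical
  haveI : Fintype (IrrCharacter G) := Fintype.ofFinite _
  set π : G → ℂ := fun g : G => (Nat.card (MulAction.fixedBy Ω g) : ℂ) with hπ
  set N := Nat.card (MulAction.orbit (MulAction.stabilizer G a) b) with hN
  -- the multiplier
  have hex : ∀ χ : IrrCharacter G, ∃ m : ℕ, (χ : G → ℂ) ≠ (fun _ => 1) →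
      (χ : G → ℂ) 1 * orbCoeff a b (χ : G → ℂ) = (f : ℂ) * (m * orbCoeff a b (χ : G → ℂ)) := by
    intro χ
    by_cases h0 : classInner π (χ : G → ℂ) = 0
    · refine ⟨0, fun _ => ?_⟩
      rw [orbCoeff_eq_zero_irr a b _ χ.2 h0]
      simp
    · by_cases h1 : (χ : G → ℂ) = (fun _ => 1)
      · exact ⟨0, fun h => absurd h1 h⟩
      · obtain ⟨m, hm⟩ := hf _ χ.2 h1 h0
        refine ⟨m, fun _ => ?_⟩
        rw [hm]; ring
  choose m hm using hex
  have hsum := sum_irr_orbCoeff (G := G) a b hab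
  rw [← Finset.add_sum_erase Finset.univ _ (Finset.mem_univ (trivIrr G))] at hsum
  have htriv : ((trivIrr G : IrrCharacter G) : G → ℂ) 1 *
      orbCoeff a b ((trivIrr G : IrrCharacter G) : G → ℂ) = (N : ℂ) := by
    show (1 : ℂ) * orbCoeff a b (fun _ => (1 : ℂ)) = _
    rw [one_mul, orbCoeff_one]
  rw [htriv] at hsum
  have hrest : ∑ χ ∈ Finset.univ.erase (trivIrr G), (χ : G → ℂ) 1 * orbCoeff a b (χ : G → ℂ) =
      (f : ℂ) * ∑ χ ∈ Finset.univ.erase (trivIrr G), ((m χ : ℂ) * orbCoeff a b (χ : G → ℂ)) := by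
    rw [Finset.mul_sum]
    refine Finset.sum_congr rfl ?_
    intro χ hχ
    apply hm χ
    intro h
    apply (Finset.mem_erase.1 hχ).1
    exact Subtype.ext h
  rw [hrest] at hsum
  set z : ℂ := ∑ χ ∈ Finset.univ.erase (trivIrr G), ((m χ : ℂ) * orbCoeff a b (χ : G → ℂ)) with hz
  have hzint : IsIntegral ℤ z := by
    apply IsIntegral.sum
    intro χ _
    have hnat : IsIntegral ℤ ((m χ : ℕ) : ℂ) := by
      have := isIntegral_algebraMap (R := ℤ) (A := ℂ) (x := (m χ : ℤ))
      simpa using this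
    exact hnat.mul (isIntegral_orbCoeff_irr a b _ χ.2)
  by_cases hf0 : f = 0
  · rw [hf0] at hsum ⊢
    simp only [Nat.cast_zero, zero_mul, add_zero] at hsum
    have : N = 0 := by exact_mod_cast hsum
    rw [this]
  · have hfc : (f : ℂ) ≠ 0 := by exact_mod_cast hf0
    have hzq : z = ((-(N : ℚ) / (f : ℚ) : ℚ) : ℂ) := by
      push_cast
      field_simp
      linear_combination hsum
    rw [hzq] at hzint
    obtain ⟨k, hk⟩ := exists_int_of_isIntegral_ratCast hzint
    have hfq : (f : ℚ) ≠ 0 := by exact_mod_cast hf0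
    have h2 : (N : ℚ) = -(k : ℚ) * f := by
      field_simp at hk
      linarith
    have h3 : (N : ℤ) = -k * f := by exact_mod_cast h2
    have h4 : (f : ℤ) ∣ (N : ℤ) := ⟨-k, by rw [h3]; ring⟩
    exact Int.natCast_dvd_natCast.1 h4

end Main

end Cfsg.Agent.Helper20.PermChar
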