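import Mathlib
import Cfsg.Prelude.Def_Characters
import Cfsg.Agent.Helper20.PermCharE
import Cfsg.Agent.Helper24.TwoTransitive
import Cfsg.Agent.Helper24.Expansion

/-!
# Rank of a transitive permutation group as the norm of the permutation character
-/

set_option autoImplicit false

namespace Cfsg.Agent.Helper20.PermChar

open Cfsg Cfsg.Agent.Helper24 MulAction

universe u v

section Rank

variable {G : Type u} [Group G] [Fintype G] {Ω : Type v} [Fintype Ω] [MulAction G Ω]

theorem permChar_conj [IsPretransitive G Ω] [Nonempty Ω] (k g : G) :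
    (Nat.card (fixedBy Ω (k * g * k⁻¹)) : ℂ) = (Nat.card (fixedBy Ω g) : ℂ) :=
  IsCharacter.isClassFunction (isCharacter_permChar (G := G) Ω) g k

open Classical in
theorem permChar_eq_sum (g : G) :
    (Nat.card (fixedBy Ω g) : ℂ) = ∑ x : Ω, if g • x = x then (1 : ℂ) else 0 := by
  rw [Finset.sum_boole, Nat.card_eq_fintype_card, Fintype.card_subtype]
  rfl

open Classical in
/-- The sum of `π` over the stabilizer of `x` does not depend on `x`. -/
theorem sum_stab_eq [IsPretransitive G Ω] (a x : Ω) :
    (∑ g : G, if g • x = x then (Nat.card (fixedBy Ω g) : ℂ) else 0) =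
      ∑ g : G, if g • a = a then (Nat.card (fixedBy Ω g) : ℂ) else 0 := by
  haveI : Nonempty Ω := ⟨a⟩
  obtain ⟨k, hk⟩ := exists_smul_eq G a x
  rw [← Equiv.sum_comp (MulAut.conj k).toEquiv]
  refine Finset.sum_congr rfl ?_
  intro g _
  have h1 : (MulAut.conj k).toEquiv g = k * g * k⁻¹ := rfl
  rw [h1, permChar_conj]
  have h2 : ((k * g * k⁻¹) • x = x) ↔ (g • a = a) := by
    rw [← hk, mul_smul, mul_smul, inv_smul_smul]
    constructor
    · intro h; exact MulAction.injective k h
    · intro h; rw [h]
  simp only [h2]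

open Classical in
/-- Burnside's lemma for the stabilizer. -/
theorem sum_stab_eq_rank (a : Ω) :
    (∑ g : G, if g • a = a then (Nat.card (fixedBy Ω g) : ℂ) else 0) =
      (Nat.card (orbitRel.Quotient (stabilizer G a) Ω) : ℂ) * (Nat.card (stabilizer G a) : ℂ) := by
  rw [← sum_card_fixedBy_complex (G := stabilizer G a) (X := Ω)]
  rw [← Finset.sum_filter]
  have : (Finset.univ.filter fun g : G => g • a = a) =
      (Finset.univ : Finset (stabilizer G a)).map ⟨Subtype.val, Subtype.val_injective⟩ := by
    ext g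
    simp only [Finset.mem_filter, Finset.mem_univ, true_and, Finset.mem_map,
      Function.Embedding.coeFn_mk, Subtype.exists, mem_stabilizer_iff, exists_prop,
      exists_eq_right]
  rw [this, Finset.sum_map]
  rfl

/-- The norm of the permutation character is the rank. -/
theorem classInner_permChar_self [IsPretransitive G Ω] (a : Ω) :
    classInner (fun g : G => (Nat.card (fixedBy Ω g) : ℂ))
      (fun g : G => (Nat.card (fixedBy Ω g) : ℂ)) =
      (Nat.card (orbitRel.Quotient (stabilizer G a) Ω) : ℂ) := by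
  classical
  unfold classInner
  have h1 : ∀ g : G, (Nat.card (fixedBy Ω g) : ℂ) * (starRingEnd ℂ) (Nat.card (fixedBy Ω g) : ℂ) =
      ∑ x : Ω, if g • x = x then (Nat.card (fixedBy Ω g) : ℂ) else 0 := by
    intro g
    rw [Complex.conj_natCast]
    conv_lhs => rw [permChar_eq_sum g, Finset.sum_mul]
    refine Finset.sum_congr rfl ?_
    intro x _
    split_ifs <;> simp
  simp_rw [h1]
  rw [Finset.sum_comm]
  simp_rw [sum_stab_eq a, sum_stab_eq_rank a]
  rw [Finset.sum_const, Finset.card_univ, nsmul_eq_mul]
  have h2 := card_stabilizer_mul_card (G := G) a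
  have hG : (Nat.card G : ℂ) ≠ 0 := by
    exact_mod_cast (Nat.card_pos (α := G)).ne'
  rw [← h2, ← Nat.card_eq_fintype_card]
  push_cast
  have hH : (Nat.card (stabilizer G a) : ℂ) ≠ 0 := by
    exact_mod_cast (Nat.card_pos (α := stabilizer G a)).ne'
  have hΩ : (Nat.card Ω : ℂ) ≠ 0 := by
    haveI : Nonempty Ω := ⟨a⟩
    exact_mod_cast (Nat.card_pos (α := Ω)).ne'
  field_simp

end Rank

end Cfsg.Agent.Helper20.PermChar
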