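import Mathlib
import Cfsg.Prelude.Def_Characters
import Cfsg.Agent.Helper20.PermCharF
import Cfsg.Agent.Helper24.Abelian

/-!
# Decomposition of the permutation character and counting of suborbits
-/

set_option autoImplicit false

namespace Cfsg.Agent.Helper20.PermChar

open Cfsg Cfsg.Agent.Helper24 MulAction

universe u v

section Decomp

variable {G : Type u} [Group G] [Fintype G] {Ω : Type v} [Fintype Ω] [MulAction G Ω]

/-- Decomposition of the permutation character of a transitive action. -/
theorem exists_decomp [IsPretransitive G Ω] [Fintype (IrrCharacter G)] (a : Ω) :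
    ∃ n : IrrCharacter G → ℕ,
      (∀ χ : IrrCharacter G,
        classInner (fun g : G => (Nat.card (fixedBy Ω g) : ℂ)) (χ : G → ℂ) = n χ) ∧
      n (trivIrr G) = 1 ∧
      Nat.card Ω = ∑ χ : IrrCharacter G, n χ * irrDeg χ ∧
      Nat.card (orbitRel.Quotient (stabilizer G a) Ω) = ∑ χ : IrrCharacter G, n χ ^ 2 := by
  classical
  haveI : Nonempty Ω := ⟨a⟩
  have hchar : IsCharacter G (fun g : G => (Nat.card (fixedBy Ω g) : ℂ)) :=
    isCharacter_permChar (G := G) Ω
  obtain ⟨n, hn⟩ := IsCharacter.exists_nat_coeff hchar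
  have hcoef : ∀ χ : IrrCharacter G,
      classInner (fun g : G => (Nat.card (fixedBy Ω g) : ℂ)) (χ : G → ℂ) = n χ := by
    intro χ
    rw [hn]
    exact classInner_sum_irr _ χ
  refine ⟨n, hcoef, ?_, ?_, ?_⟩
  · -- multiplicity of the trivial character is the number of orbits
    have h1 := hcoef (trivIrr G)
    have h2 : classInner (fun g : G => (Nat.card (fixedBy Ω g) : ℂ)) ((trivIrr G : IrrCharacter G) : G → ℂ)
        = 1 := by
      show classInner (fun g : G => (Nat.card (fixedBy Ω g) : ℂ)) (fun _ => (1 : ℂ)) = 1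
      unfold classInner
      simp only [map_one, mul_one]
      rw [sum_card_fixedBy_complex]
      have hone : Nat.card (orbitRel.Quotient G Ω) = 1 := by
        rw [Nat.card_eq_one_iff_unique]
        exact ⟨(pretransitive_iff_subsingleton_quotient G Ω).mp inferInstance,
          (nonempty_quotient_iff _).mpr inferInstance⟩
      rw [hone]
      have hG : (Nat.card G : ℂ) ≠ 0 := by exact_mod_cast (Nat.card_pos (α := G)).ne'
      rw [Nat.cast_one, one_mul, inv_mul_cancel₀ hG]
    rw [h2] at h1
    exact_mod_cast h1.symm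
  · -- value at 1
    have h1 := congrFun hn 1
    simp only [Finset.sum_apply, Pi.smul_apply, smul_eq_mul, irrDeg_spec] at h1
    have h2 : (Nat.card (fixedBy Ω (1 : G)) : ℂ) = (Nat.card Ω : ℂ) := by
      congr 1
      apply Nat.card_congr
      exact ⟨fun x => x.1, fun x => ⟨x, by simp [mem_fixedBy]⟩, fun _ => rfl, fun _ => rfl⟩
    rw [h2] at h1
    exact_mod_cast h1
  · -- norm
    have h1 := classInner_permChar_self (G := G) a
    have h2 : classInner (fun g : G => (Nat.card (fixedBy Ω g) : ℂ))
        (fun g : G => (Nat.card (fixedBy Ω g) : ℂ)) =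
        ∑ χ : IrrCharacter G, (n χ : ℂ) * (starRingEnd ℂ) (n χ : ℂ) := by
      conv_lhs => rw [hn]
      exact classInner_sum_sum _ _
    rw [h1] at h2
    simp only [Complex.conj_natCast] at h2
    have h3 : ((Nat.card (orbitRel.Quotient (stabilizer G a) Ω) : ℕ) : ℂ) =
        ((∑ χ : IrrCharacter G, n χ ^ 2 : ℕ) : ℂ) := by
      rw [h2]; push_cast
      refine Finset.sum_congr rfl ?_
      intro χ _; ring
    exact_mod_cast h3

end Decomp

section Orbits

variable {G : Type u} [Group G] [Fintype G] {Ω : Type v} [Fintype Ω] [MulAction G Ω]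

theorem orbit_stabilizer_self (a : Ω) : orbit (stabilizer G a) a = {a} := by
  ext x
  constructor
  · rintro ⟨⟨h, hh⟩, rfl⟩
    exact hh
  · intro hx
    rw [Set.mem_singleton_iff] at hx
    rw [hx]
    exact mem_orbit_self a

/-- Counting points by suborbits: lower bound. -/
theorem one_add_le_card (a : Ω) (f : ℕ)
    (hf : ∀ b : Ω, b ≠ a → f ≤ Nat.card (orbit (stabilizer G a) b)) :
    1 + (Nat.card (orbitRel.Quotient (stabilizer G a) Ω) - 1) * f ≤ Nat.card Ω ∧
    (Nat.card Ω ≤ 1 + (Nat.card (orbitRel.Quotient (stabilizer G a) Ω) - 1) * f →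
      ∀ b : Ω, b ≠ a → Nat.card (orbit (stabilizer G a) b) = f) := by
  classical
  set H := stabilizer G a with hH
  haveI : Fintype (orbitRel.Quotient H Ω) := Fintype.ofFinite _
  set ωa : orbitRel.Quotient H Ω := Quotient.mk'' a with hωa
  have hcard : Nat.card Ω = ∑ ω : orbitRel.Quotient H Ω, Nat.card (orbit H ω.out) := by
    rw [Nat.card_congr (selfEquivSigmaOrbits H Ω), Nat.card_sigma]
  have houta : (Quotient.out ωa : Ω) = a := by
    have h1 : (Quotient.out ωa : Ω) ∈ orbit H a := by
      have := Quotient.out_eq' ωa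
      rw [hωa] at this
      exact (orbitRel_apply).1 (Quotient.exact' this)
    rw [orbit_stabilizer_self] at h1
    exact h1
  have hNa : Nat.card (orbit H (Quotient.out ωa)) = 1 := by
    rw [houta, orbit_stabilizer_self]
    simp
  have hne : ∀ ω : orbitRel.Quotient H Ω, ω ≠ ωa → (Quotient.out ω : Ω) ≠ a := by
    intro ω hω h
    apply hω
    rw [← Quotient.out_eq' ω, h]
  rw [← Finset.add_sum_erase Finset.univ _ (Finset.mem_univ ωa), hNa] at hcard
  have hcount : (Finset.univ.erase ωa).card = Nat.card (orbitRel.Quotient H Ω) - 1 := by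
    rw [Finset.card_erase_of_mem (Finset.mem_univ _), Finset.card_univ, Nat.card_eq_fintype_card]
  have hle : ∀ ω ∈ Finset.univ.erase ωa, f ≤ Nat.card (orbit H (Quotient.out ω)) := by
    intro ω hω
    exact hf _ (hne ω (Finset.mem_erase.1 hω).1)
  have hsum : (Nat.card (orbitRel.Quotient H Ω) - 1) * f =
      ∑ _ω ∈ Finset.univ.erase ωa, f := by
    rw [Finset.sum_const, hcount, smul_eq_mul]
  constructor
  · rw [hcard, hsum]
    exact Nat.add_le_add_left (Finset.sum_le_sum hle) 1
  · intro hup b hb
    rw [hcard, hsum] at hup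
    have hup' : ∑ ω ∈ Finset.univ.erase ωa, Nat.card (orbit H (Quotient.out ω)) ≤
        ∑ _ω ∈ Finset.univ.erase ωa, f := by omega
    have heq := (Finset.sum_eq_sum_iff_of_le hle).1 (le_antisymm (Finset.sum_le_sum hle) hup')
    set ω : orbitRel.Quotient H Ω := Quotient.mk'' b with hω
    have hωne : ω ≠ ωa := by
      intro h
      have h1 : b ∈ orbit H a := (orbitRel_apply).1 (Quotient.exact' h)
      rw [orbit_stabilizer_self] at h1
      exact hb h1
    have h2 := heq ω (Finset.mem_erase.2 ⟨hωne, Finset.mem_univ _⟩)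
    have h3 : orbit H (Quotient.out ω) = orbit H b := by
      apply orbit_eq_iff.2
      have := Quotient.out_eq' ω
      rw [hω] at this
      exact (orbitRel_apply).1 (Quotient.exact' this)
    rw [← h3]
    exact h2.symm

end Orbits

end Cfsg.Agent.Helper20.PermChar
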