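import Mathlib
import Cfsg.Prelude.Def_Characters
import Cfsg.Agent.Helper20.PermCharG

/-!
# Multiplicity-freeness criteria for transitive permutation characters
-/

set_option autoImplicit false

namespace Cfsg.Agent.Helper20.PermChar

open Cfsg Cfsg.Agent.Helper24 MulAction

universe u v

section Key

variable {G : Type u} [Group G] [Fintype G] {Ω : Type v} [Fintype Ω] [MulAction G Ω]

theorem irrDeg_trivIrr : irrDeg (trivIrr G) = 1 := by
  rw [irrDeg_eq_one_iff]
  rfl

/-- The key inequality. -/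
theorem key_ineq [IsPretransitive G Ω] [Fintype (IrrCharacter G)] [DecidableEq (IrrCharacter G)]
    (a : Ω) (f : ℕ) (hfpos : 0 < f)
    (n : IrrCharacter G → ℕ)
    (hcoef : ∀ χ : IrrCharacter G,
      classInner (fun g : G => (Nat.card (fixedBy Ω g) : ℂ)) (χ : G → ℂ) = n χ)
    (htriv : n (trivIrr G) = 1)
    (hdegsum : Nat.card Ω = ∑ χ : IrrCharacter G, n χ * irrDeg χ)
    (hrank : Nat.card (orbitRel.Quotient (stabilizer G a) Ω) = ∑ χ : IrrCharacter G, n χ ^ 2)
    (hdeg : ∀ χ : IrrCharacter G, χ ≠ trivIrr G → n χ ≠ 0 → irrDeg χ = f) :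
    (∑ χ ∈ Finset.univ.erase (trivIrr G), n χ ^ 2 ≤ ∑ χ ∈ Finset.univ.erase (trivIrr G), n χ) ∧
    ∀ b : Ω, b ≠ a → Nat.card (orbit (stabilizer G a) b) = f := by
  set S1 := ∑ χ ∈ Finset.univ.erase (trivIrr G), n χ with hS1
  set S2 := ∑ χ ∈ Finset.univ.erase (trivIrr G), n χ ^ 2 with hS2
  -- degree sum
  have hΩ : Nat.card Ω = 1 + f * S1 := by
    rw [hdegsum, ← Finset.add_sum_erase Finset.univ _ (Finset.mem_univ (trivIrr G)), htriv,
      irrDeg_trivIrr, hS1, Finset.mul_sum]
    congr 1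
    refine Finset.sum_congr rfl ?_
    intro χ hχ
    by_cases h0 : n χ = 0
    · rw [h0]; simp
    · rw [hdeg χ (Finset.mem_erase.1 hχ).1 h0, mul_comm]
  have hr : Nat.card (orbitRel.Quotient (stabilizer G a) Ω) = 1 + S2 := by
    rw [hrank, ← Finset.add_sum_erase Finset.univ _ (Finset.mem_univ (trivIrr G)), htriv, hS2]
    simp
  have hS12 : S1 ≤ S2 := by
    apply Finset.sum_le_sum
    intro χ _
    exact Nat.le_self_pow (by norm_num) _
  -- divisibility of subdegrees
  have hdvd : ∀ b : Ω, b ≠ a → f ≤ Nat.card (orbit (stabilizer G a) b) := by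
    intro b hb
    have h1 : f ∣ Nat.card (orbit (stabilizer G a) b) := by
      apply dvd_card_orbit f _ a b hb
      intro χ hχ hne hin
      refine ⟨1, ?_⟩
      have h2 := hcoef ⟨χ, hχ⟩
      have h3 : n ⟨χ, hχ⟩ ≠ 0 := by
        intro h0
        apply hin
        rw [h2, h0]; simp
      have h4 : (⟨χ, hχ⟩ : IrrCharacter G) ≠ trivIrr G := by
        intro h
        apply hne
        exact congrArg Subtype.val h
      have h5 := hdeg ⟨χ, hχ⟩ h4 h3
      have h6 := irrDeg_spec (⟨χ, hχ⟩ : IrrCharacter G)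
      rw [h5] at h6
      simpa using h6
    have h2 : 0 < Nat.card (orbit (stabilizer G a) b) := by
      haveI : Nonempty (orbit (stabilizer G a) b) := ⟨⟨b, mem_orbit_self b⟩⟩
      exact Nat.card_pos
    exact Nat.le_of_dvd h2 h1
  obtain ⟨hlow, hup⟩ := one_add_le_card a f hdvd
  rw [hr, hΩ] at hlow hup
  simp only [Nat.add_sub_cancel_left] at hlow hup
  constructor
  · have : S2 * f ≤ f * S1 := by omega
    rw [mul_comm] at this
    exact Nat.le_of_mul_le_mul_left this hfpos
  · apply hup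
    have : f * S1 ≤ S2 * f := by
      rw [mul_comm S2 f]
      exact Nat.mul_le_mul_left f hS12
    omega

end Key

section Main

variable {G : Type u} [Group G] [Fintype G] {Ω : Type v} [Fintype Ω] [MulAction G Ω]

/-- Equal degrees of the nonprincipal constituents force multiplicity-freeness and equal
subdegrees. -/
theorem multFree_of_equal_degrees [IsPretransitive G Ω] (a : Ω) (f : ℕ)
    (hf : ∀ χ : G → ℂ, IsIrrCharacter G χ → χ ≠ (fun _ => 1) →
      classInner (fun g : G => (Nat.card (fixedBy Ω g) : ℂ)) χ ≠ 0 → χ 1 = f) :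
    (∀ χ : G → ℂ, IsIrrCharacter G χ →
      classInner (fun g : G => (Nat.card (fixedBy Ω g) : ℂ)) χ = 0 ∨
      classInner (fun g : G => (Nat.card (fixedBy Ω g) : ℂ)) χ = 1) ∧
    ∀ b : Ω, b ≠ a → Nat.card (orbit (stabilizer G a) b) = f := by
  classical
  haveI : Fintype (IrrCharacter G) := Fintype.ofFinite _
  obtain ⟨n, hcoef, htriv, hdegsum, hrank⟩ := exists_decomp (G := G) a
  have hdeg : ∀ χ : IrrCharacter G, χ ≠ trivIrr G → n χ ≠ 0 → irrDeg χ = f := by
    intro χ hχ hn
    have h1 : (χ : G → ℂ) ≠ (fun _ => 1) := by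
      intro h
      apply hχ
      exact Subtype.ext h
    have h2 : classInner (fun g : G => (Nat.card (fixedBy Ω g) : ℂ)) (χ : G → ℂ) ≠ 0 := by
      rw [hcoef χ]
      exact_mod_cast hn
    have h3 := hf _ χ.2 h1 h2
    rw [irrDeg_spec] at h3
    exact_mod_cast h3
  rcases Nat.eq_zero_or_pos f with hf0 | hfpos
  · -- degenerate case
    have hzero : ∀ χ : IrrCharacter G, χ ≠ trivIrr G → n χ = 0 := by
      intro χ hχ
      by_contra hn
      have := hdeg χ hχ hn
      have hpos := irrDeg_pos χ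
      omega
    constructor
    · intro χ hχ
      by_cases h : (⟨χ, hχ⟩ : IrrCharacter G) = trivIrr G
      · right
        have := hcoef ⟨χ, hχ⟩
        rw [h, htriv] at this
        have h' : χ = ((trivIrr G : IrrCharacter G) : G → ℂ) := congrArg Subtype.val h
        rw [h']
        simpa using this
      · left
        have := hcoef ⟨χ, hχ⟩
        rw [hzero _ h] at this
        simpa using this
    · intro b hb
      exfalso
      have hΩ : Nat.card Ω = 1 := by
        rw [hdegsum, ← Finset.add_sum_erase Finset.univ _ (Finset.mem_univ (trivIrr G)), htriv,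
          irrDeg_trivIrr]
        have : ∑ χ ∈ Finset.univ.erase (trivIrr G), n χ * irrDeg χ = 0 := by
          apply Finset.sum_eq_zero
          intro χ hχ
          rw [hzero χ (Finset.mem_erase.1 hχ).1, zero_mul]
        rw [this]
      have : Subsingleton Ω := (Nat.card_eq_one_iff_unique.1 hΩ).1
      exact hb (Subsingleton.elim b a)
  · obtain ⟨hS, hsub⟩ := key_ineq a f hfpos n hcoef htriv hdegsum hrank hdeg
    refine ⟨?_, hsub⟩
    have hterm : ∀ χ ∈ Finset.univ.erase (trivIrr G), n χ ≤ n χ ^ 2 := by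
      intro χ _
      exact Nat.le_self_pow (by norm_num) _
    have heq := (Finset.sum_eq_sum_iff_of_le hterm).1 (le_antisymm (Finset.sum_le_sum hterm) hS)
    intro χ hχ
    by_cases h : (⟨χ, hχ⟩ : IrrCharacter G) = trivIrr G
    · right
      have := hcoef ⟨χ, hχ⟩
      rw [h, htriv] at this
      have h' : χ = ((trivIrr G : IrrCharacter G) : G → ℂ) := congrArg Subtype.val h
      rw [h']
      simpa using this
    · have h1 := heq ⟨χ, hχ⟩ (Finset.mem_erase.2 ⟨h, Finset.mem_univ _⟩)
      have h2 := hcoef ⟨χ, hχ⟩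
      simp only at h2
      have h3 : n ⟨χ, hχ⟩ = 0 ∨ n ⟨χ, hχ⟩ = 1 := by
        have : n ⟨χ, hχ⟩ * 1 = n ⟨χ, hχ⟩ * n ⟨χ, hχ⟩ := by rw [mul_one, ← pow_two]; exact h1
        rcases Nat.eq_zero_or_pos (n ⟨χ, hχ⟩) with h0 | hp
        · left; exact h0
        · right; exact (Nat.eq_of_mul_eq_mul_left hp this).symm
      rcases h3 with h3 | h3
      · left; rw [h2, h3]; simp
      · right; rw [h2, h3]; simp

/-- Rank at most five forces multiplicity-freeness. -/
theorem multFree_of_rank_le_five [IsPretransitive G Ω] (a : Ω)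
    (hr : Nat.card (orbitRel.Quotient (stabilizer G a) Ω) ≤ 5) :
    ∀ χ : G → ℂ, IsIrrCharacter G χ →
      classInner (fun g : G => (Nat.card (fixedBy Ω g) : ℂ)) χ = 0 ∨
      classInner (fun g : G => (Nat.card (fixedBy Ω g) : ℂ)) χ = 1 := by
  classical
  haveI : Fintype (IrrCharacter G) := Fintype.ofFinite _
  obtain ⟨n, hcoef, htriv, hdegsum, hrank⟩ := exists_decomp (G := G) a
  have hall : ∀ ψ : IrrCharacter G, n ψ ≤ 1 := by
    intro ψ
    by_contra hψ
    push Not at hψ
    have hψne : ψ ≠ trivIrr G := by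
      intro h; rw [h, htriv] at hψ; omega
    -- the sum of squares
    have hsq : ∑ χ : IrrCharacter G, n χ ^ 2 ≤ 5 := by rw [← hrank]; exact hr
    rw [← Finset.add_sum_erase Finset.univ _ (Finset.mem_univ (trivIrr G)), htriv] at hsq
    have hmem : ψ ∈ Finset.univ.erase (trivIrr G) := Finset.mem_erase.2 ⟨hψne, Finset.mem_univ _⟩
    rw [← Finset.add_sum_erase _ _ hmem] at hsq
    have h4 : 4 ≤ n ψ ^ 2 := by nlinarith
    have hrest : ∑ χ ∈ (Finset.univ.erase (trivIrr G)).erase ψ, n χ ^ 2 = 0 := by omega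
    have hψ2 : n ψ = 2 := by
      have : n ψ ^ 2 ≤ 4 := by omega
      nlinarith
    have hzero : ∀ χ : IrrCharacter G, χ ≠ trivIrr G → χ ≠ ψ → n χ = 0 := by
      intro χ h1 h2
      have := (Finset.sum_eq_zero_iff.1 hrest) χ
        (Finset.mem_erase.2 ⟨h2, Finset.mem_erase.2 ⟨h1, Finset.mem_univ _⟩⟩)
      exact pow_eq_zero_iff (by norm_num) |>.1 this
    have hdeg : ∀ χ : IrrCharacter G, χ ≠ trivIrr G → n χ ≠ 0 → irrDeg χ = irrDeg ψ := by
      intro χ h1 h2
      by_cases h : χ = ψ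
      · rw [h]
      · exact absurd (hzero χ h1 h) h2
    obtain ⟨hS, -⟩ := key_ineq a (irrDeg ψ) (irrDeg_pos ψ) n hcoef htriv hdegsum hrank hdeg
    rw [← Finset.add_sum_erase _ _ hmem, ← Finset.add_sum_erase _ (fun χ => n χ) hmem, hrest] at hS
    have hrest1 : ∑ χ ∈ (Finset.univ.erase (trivIrr G)).erase ψ, n χ = 0 := by
      apply Finset.sum_eq_zero
      intro χ hχ
      have h1 := Finset.mem_erase.1 hχ
      exact hzero χ (Finset.mem_erase.1 h1.2).1 h1.1
    rw [hrest1, hψ2] at hS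
    norm_num at hS
  intro χ hχ
  have h1 := hcoef ⟨χ, hχ⟩
  have h2 := hall ⟨χ, hχ⟩
  simp only at h1
  rcases Nat.le_one_iff_eq_zero_or_eq_one.1 h2 with h3 | h3
  · left; rw [h1, h3]; simp
  · right; rw [h1, h3]; simp

end Main

end Cfsg.Agent.Helper20.PermChar
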