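import Mathlib

/-!
# S4707, piece MOMb: the order of the group from the five moment identities
-/

set_option autoImplicit false

namespace Cfsg.Agent.Helper20.S4707

universe u

theorem card_of_moments {H : Type u} [Group H] [Fintype H] (p : ℕ) (hp5 : 5 ≤ p)
    (reg : H → Prop) [DecidablePred reg] (hreg1 : reg 1)
    (x : H → ℤ) (hx1 : x 1 = (p : ℤ) - 2) (hxle : ∀ g : H, reg g → g ≠ 1 → x g ≤ (p : ℤ) - 3)
    (m : ℕ)
    (h1 : (∑ g : H, if reg g then (x g + 2) else 0) = (Fintype.card H : ℤ))
    (h2 : (∑ g : H, if reg g then x g * (x g + 2) else 0) = 0)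
    (h3 : (∑ g : H, if reg g then x g ^ 2 * (x g + 2) else 0) = (Fintype.card H : ℤ) * (1 + m))
    (h4 : (∑ g : H, if reg g then ((p + 1 : ℤ) * x g + 2) else 0) = 0)
    (h5 : (∑ g : H, if reg g then x g * ((p + 1 : ℤ) * x g + 2) else 0) =
      2 * (Fintype.card H : ℤ)) :
    Fintype.card H = p * (p - 1) * (p - 2) := by
  classical
  set N : ℤ := (Fintype.card H : ℤ) with hN
  set q : ℤ := (p : ℤ) with hq
  have hq5 : (5 : ℤ) ≤ q := by rw [hq]; exact_mod_cast hp5
  have hNpos : 0 < N := by
    rw [hN]
    exact_mod_cast Fintype.card_pos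
  -- the power sums over the regular elements
  let f : ℕ → H → ℤ := fun k g => if reg g then x g ^ k else 0
  let T : ℕ → ℤ := fun k => ∑ g : H, f k g
  have e1 : ∀ g, (if reg g then (x g + 2) else 0) = f 1 g + 2 * f 0 g := by
    intro g; simp only [f]; split_ifs <;> ring
  have e2 : ∀ g, (if reg g then x g * (x g + 2) else 0) = f 2 g + 2 * f 1 g := by
    intro g; simp only [f]; split_ifs <;> ring
  have e3 : ∀ g, (if reg g then x g ^ 2 * (x g + 2) else 0) = f 3 g + 2 * f 2 g := by
    intro g; simp only [f]; split_ifs <;> ring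
  have e4 : ∀ g, (if reg g then ((p + 1 : ℤ) * x g + 2) else 0) = (q + 1) * f 1 g + 2 * f 0 g := by
    intro g; simp only [f]; split_ifs <;> ring
  have e5 : ∀ g, (if reg g then x g * ((p + 1 : ℤ) * x g + 2) else 0) =
      (q + 1) * f 2 g + 2 * f 1 g := by
    intro g; simp only [f]; split_ifs <;> ring
  have H1 : T 1 + 2 * T 0 = N := by
    rw [← h1]; simp only [T]
    rw [Finset.mul_sum, ← Finset.sum_add_distrib]
    exact Finset.sum_congr rfl (fun g _ => (e1 g).symm)
  have H2 : T 2 + 2 * T 1 = 0 := by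
    rw [← h2]; simp only [T]
    rw [Finset.mul_sum, ← Finset.sum_add_distrib]
    exact Finset.sum_congr rfl (fun g _ => (e2 g).symm)
  have H3 : T 3 + 2 * T 2 = N * (1 + m) := by
    rw [← h3]; simp only [T]
    rw [Finset.mul_sum, ← Finset.sum_add_distrib]
    exact Finset.sum_congr rfl (fun g _ => (e3 g).symm)
  have H4 : (q + 1) * T 1 + 2 * T 0 = 0 := by
    rw [← h4]; simp only [T]
    rw [Finset.mul_sum, Finset.mul_sum, ← Finset.sum_add_distrib]
    exact Finset.sum_congr rfl (fun g _ => (e4 g).symm)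
  have H5 : (q + 1) * T 2 + 2 * T 1 = 2 * N := by
    rw [← h5]; simp only [T]
    rw [Finset.mul_sum, Finset.mul_sum, ← Finset.sum_add_distrib]
    exact Finset.sum_congr rfl (fun g _ => (e5 g).symm)
  -- the two positivity statements
  have hf1 : ∀ k, f k 1 = (q - 2) ^ k := by
    intro k; simp only [f]; rw [if_pos hreg1, hx1]
  have hA : (q - 2) * (q - 1) ≤ T 2 + T 1 := by
    have hsplit : T 2 + T 1 = ∑ g : H, (f 2 g + f 1 g) := by
      simp only [T]; rw [Finset.sum_add_distrib]
    rw [hsplit, ← Finset.add_sum_erase Finset.univ _ (Finset.mem_univ (1 : H))]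
    have h0 : 0 ≤ ∑ g ∈ Finset.univ.erase (1 : H), (f 2 g + f 1 g) := by
      apply Finset.sum_nonneg
      intro g _
      simp only [f]
      split_ifs
      · have : 0 ≤ x g * (x g + 1) := by
          rcases le_or_gt 0 (x g) with h | h
          · positivity
          · have h' : x g + 1 ≤ 0 := by omega
            nlinarith
        nlinarith
      · simp
    have h1' : f 2 1 + f 1 1 = (q - 2) * (q - 1) := by
      rw [hf1, hf1]; ring
    linarith
  have hB : -((q - 2) * (q - 1)) ≤ (q - 3) * (T 2 + T 1) - T 3 - T 2 := by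
    have hsplit : (q - 3) * (T 2 + T 1) - T 3 - T 2 =
        ∑ g : H, ((q - 3) * (f 2 g + f 1 g) - f 3 g - f 2 g) := by
      simp only [T]
      rw [Finset.sum_sub_distrib, Finset.sum_sub_distrib, ← Finset.mul_sum, Finset.sum_add_distrib]
    rw [hsplit, ← Finset.add_sum_erase Finset.univ _ (Finset.mem_univ (1 : H))]
    have h0 : 0 ≤ ∑ g ∈ Finset.univ.erase (1 : H),
        ((q - 3) * (f 2 g + f 1 g) - f 3 g - f 2 g) := by
      apply Finset.sum_nonneg
      intro g hg
      have hg1 : g ≠ 1 := Finset.ne_of_mem_erase hg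
      simp only [f]
      split_ifs with hr
      · have hle := hxle g hr hg1
        have hnn : 0 ≤ x g * (x g + 1) := by
          rcases le_or_gt 0 (x g) with h | h
          · positivity
          · have h' : x g + 1 ≤ 0 := by omega
            nlinarith
        have hnn2 : 0 ≤ q - 3 - x g := by linarith
        have : (q - 3) * (x g ^ 2 + x g ^ 1) - x g ^ 3 - x g ^ 2 =
            (x g * (x g + 1)) * (q - 3 - x g) := by ring
        rw [this]
        exact mul_nonneg hnn hnn2
      · simp
    have h1' : (q - 3) * (f 2 1 + f 1 1) - f 3 1 - f 2 1 = -((q - 2) * (q - 1)) := by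
      rw [hf1, hf1, hf1]; ring
    linarith
  -- solve
  have hqT1 : q * T 1 = -N := by linear_combination H4 - H1
  have hT2 : T 2 = -2 * T 1 := by linear_combination H2
  have hqpos : 0 ≤ q := by linarith
  have hA' : q * ((q - 2) * (q - 1)) ≤ N := by
    have := mul_le_mul_of_nonneg_left hA hqpos
    have e : q * (T 2 + T 1) = N := by rw [hT2]; linear_combination -hqT1
    linarith
  have hB' : N * (1 + q * m) ≤ q * ((q - 2) * (q - 1)) := by
    have := mul_le_mul_of_nonneg_left hB hqpos
    have e : q * ((q - 3) * (T 2 + T 1) - T 3 - T 2) = -(N * (1 + q * m)) := by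
      have hT3 : T 3 = N * (1 + m) - 2 * T 2 := by linear_combination H3
      rw [hT3, hT2]
      linear_combination (-(q - 1)) * hqT1
    linarith
  have hm0 : (0 : ℤ) ≤ q * m := by positivity
  have hle : N ≤ N * (1 + q * m) := by nlinarith
  have hfin : N = q * ((q - 2) * (q - 1)) := by linarith
  have : ((Fintype.card H : ℕ) : ℤ) = ((p * (p - 1) * (p - 2) : ℕ) : ℤ) := by
    rw [Nat.cast_mul, Nat.cast_mul, Nat.cast_sub (by omega), Nat.cast_sub (by omega)]
    rw [← hN, ← hq, hfin]
    push_cast
    ring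
  exact_mod_cast this

end Cfsg.Agent.Helper20.S4707
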