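import Mathlib
import Cfsg.Prelude.Def_Characters
import Cfsg.Agent.Helper1.W2pDefs
import Cfsg.Agent.Helper20.PermCharH
import Cfsg.Agent.Helper24.CharBasic
import Cfsg.Agent.Helper5.CharKer
import Cfsg.Agent.Helper3.W2pBRa
import Cfsg.Agent.Helper20.S4707MOMb
import Cfsg.Agent.Helper24.S4707BAS
import Cfsg.Agent.Helper24.S4707COL
import Cfsg.Agent.Helper23.S4707INT
import Cfsg.Agent.Helper21.S4707MOMa

/-!
# S4707: the order of a simple group with `C(P) = P`, `|N(P) : P| = 2` and a non-exceptional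
character of degree `p - 1` in the principal block is `p (p - 1) (p - 2)`.
-/

set_option autoImplicit false

namespace Cfsg.Agent.Helper20.S4707

open Cfsg Cfsg.Agent.Helper24 Cfsg.Agent.Helper1.W2p MulAction

universe u

/-- a non-trivial irreducible character of a simple group is faithful -/
theorem faithful_of_simple {H : Type u} [Group H] [Finite H] [IsSimpleGroup H]
    (ψ : IrrCharacter H) (hψ : ψ ≠ trivIrr H) (g : H)
    (hg : (ψ : H → ℂ) g = (ψ : H → ℂ) 1) : g = 1 := by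
  classical
  letI : Fintype H := Fintype.ofFinite H
  have hmem : g ∈ Cfsg.Agent.Helper5.charKer ψ := (Cfsg.Agent.Helper5.mem_charKer ψ g).mpr hg
  rcases (Cfsg.Agent.Helper5.charKer_normal ψ).eq_bot_or_eq_top with h | h
  · rw [h, Subgroup.mem_bot] at hmem
    exact hmem
  · exfalso
    have hall : ∀ a : H, (ψ : H → ℂ) a = (ψ : H → ℂ) 1 := by
      intro a
      have : a ∈ Cfsg.Agent.Helper5.charKer ψ := by rw [h]; exact Subgroup.mem_top a
      exact (Cfsg.Agent.Helper5.mem_charKer ψ a).mp this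
    have h0 := classInner_irr_ne hψ
    unfold classInner at h0
    have h1 : ∑ a : H, (ψ : H → ℂ) a * (starRingEnd ℂ) (((trivIrr H : IrrCharacter H) : H → ℂ) a) =
        (Nat.card H : ℂ) * (irrDeg ψ : ℂ) := by
      have : ∀ a : H, (ψ : H → ℂ) a * (starRingEnd ℂ) (((trivIrr H : IrrCharacter H) : H → ℂ) a) =
          (irrDeg ψ : ℂ) := by
        intro a
        rw [hall a, irrDeg_spec, trivIrr_apply, map_one, mul_one]
      rw [Finset.sum_congr rfl (fun a _ => this a), Finset.sum_const, Finset.card_univ,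
        nsmul_eq_mul, Nat.card_eq_fintype_card]
    rw [h1] at h0
    have hc : (Nat.card H : ℂ) ≠ 0 := by exact_mod_cast (Nat.card_pos (α := H)).ne'
    rw [← mul_assoc, inv_mul_cancel₀ hc, one_mul] at h0
    have : irrDeg ψ = 0 := by exact_mod_cast h0
    have := irrDeg_pos ψ
    omega

/-- a character value has norm at most the degree (for `IrrCharacter`) -/
theorem norm_irr_le {H : Type u} [Group H] [Finite H] (ψ : IrrCharacter H) (g : H) :
    ‖(ψ : H → ℂ) g‖ ≤ (irrDeg ψ : ℝ) := by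
  obtain ⟨n, ρ, _, hρ⟩ := ψ.2
  have h1 := norm_char_le ρ g
  have h2 : (irrDeg ψ : ℂ) = (Module.finrank ℂ (Fin n → ℂ) : ℂ) := by
    rw [← irrDeg_spec, ← hρ, Representation.char_one]
  have h3 : irrDeg ψ = Module.finrank ℂ (Fin n → ℂ) := by exact_mod_cast h2
  rw [h3, ← hρ]
  exact h1

theorem card_eq_of_two {H : Type u} [Group H] [Finite H] [IsSimpleGroup H] (p : ℕ) [Fact p.Prime]
    (hp5 : 5 ≤ p) (P : Sylow p H) (hP : Nat.card P = p)
    (hC : Subgroup.centralizer ((P : Subgroup H) : Set H) = (P : Subgroup H))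
    (he : eN (P : Subgroup H) = 2) (D : BrauerData p (P : Subgroup H))
    (χ₁ : IrrCharacter H) (hχX : χ₁ ∈ D.X) (hχdeg : irrDeg χ₁ = p - 1) :
    Nat.card H = p * (p - 1) * (p - 2) := by
  classical
  letI : Fintype H := Fintype.ofFinite H
  letI : Fintype (IrrCharacter H) := Fintype.ofFinite _
  have hp : p.Prime := Fact.out
  obtain ⟨hδ, hX, hε, hYdeg, hYcard, hrelY, hvalχ⟩ :=
    Cfsg.Agent.Helper24.S4707.basic_two p hp5 P hP he D χ₁ hχX hχdeg
  have hcol := Cfsg.Agent.Helper24.S4707.sum_exc_apply p hp5 P hP he D χ₁ hχX hχdeg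
  have hint := Cfsg.Agent.Helper23.S4707.int_valued p hp5 P hP he D χ₁ hχX hχdeg
  choose n hn using hint
  set x : H → ℤ := fun g => n g - 1 with hxdef
  have hx : ∀ g, (χ₁ : H → ℂ) g = (x g : ℂ) + 1 := by
    intro g; rw [hn g, hxdef]; push_cast; ring
  set Y : Finset (IrrCharacter H) := Finset.univ.filter (fun ψ => ψ ∈ D.Y) with hY
  have hYmem : ∀ ψ, ψ ∈ Y ↔ ψ ∈ D.Y := fun ψ => by simp [hY]
  have hYset : (Y : Set (IrrCharacter H)) = D.Y := by ext ψ; simp [hY]
  have hYc : Y.card * 2 = p - 1 := by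
    rw [← hYcard, ← hYset]; simp
  have hYne : Y.Nonempty := by
    rw [← Finset.card_pos]; omega
  obtain ⟨ψ, hψY⟩ := hYne
  have hψDY := (hYmem ψ).mp hψY
  have hχY : χ₁ ∉ Y := fun h => (Set.disjoint_left.mp D.disj hχX) ((hYmem χ₁).mp h)
  have htY : trivIrr H ∉ Y := fun h => (Set.disjoint_left.mp D.disj D.triv_mem) ((hYmem _).mp h)
  have hχ1 : χ₁ ≠ trivIrr H := by
    intro h; rw [h, PermChar.irrDeg_trivIrr] at hχdeg; omega
  have hψ1 : ψ ≠ trivIrr H := fun h => htY (h ▸ hψY)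
  let reg : H → Prop := fun g => ¬ p ∣ orderOf g
  have hrel : ∀ ψ' ∈ Y, ∀ g, reg g → (ψ' : H → ℂ) g = (x g : ℂ) := by
    intro ψ' hψ' g hg
    rw [hrelY ψ' ((hYmem ψ').mp hψ') g hg, hx g]; ring
  have hsing : ∀ g : H, ¬ reg g →
      ∃ h : H, ∃ y ∈ (P : Subgroup H), y ≠ 1 ∧ g = h * y * h⁻¹ := by
    intro g hg
    have : p ∣ orderOf g := not_not.mp hg
    exact Cfsg.Agent.Helper3.W2p.exists_conj_mem_of_singular p P hP hC g this
  have hvan0 : ∀ g, ¬ reg g → 1 + (χ₁ : H → ℂ) g = 0 := by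
    intro g hg
    obtain ⟨h, y, hy, hy1, rfl⟩ := hsing g hg
    rw [isClassFunction_irr χ₁ y h, hvalχ y hy hy1]; ring
  have hvan1 : ∀ g, ¬ reg g → (χ₁ : H → ℂ) g + ∑ ψ' ∈ Y, (ψ' : H → ℂ) g = 0 := by
    intro g hg
    obtain ⟨h, y, hy, hy1, rfl⟩ := hsing g hg
    have h1 : ∑ ψ' ∈ Y, (ψ' : H → ℂ) (h * y * h⁻¹) = ∑ ψ' ∈ Y, (ψ' : H → ℂ) y :=
      Finset.sum_congr rfl (fun ψ' _ => isClassFunction_irr ψ' y h)
    have h2 : ∑ ψ' ∈ Y, (ψ' : H → ℂ) y = 1 := by
      rw [← hcol y hy hy1, ← hYset, finsum_mem_coe_finset]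
    rw [h1, h2, isClassFunction_irr χ₁ y h, hvalχ y hy hy1]; ring
  obtain ⟨m, h1, h2, h3, h4, h5⟩ := Cfsg.Agent.Helper21.S4707.moment_identities p hp5 reg χ₁ ψ Y hψY
    hχY hχ1 htY hYc x hx hrel hvan0 hvan1
  have hreg1 : reg 1 := by
    show ¬ p ∣ orderOf (1 : H)
    rw [orderOf_one]
    intro h
    have := Nat.le_of_dvd one_pos h
    omega
  have hx1 : x 1 = (p : ℤ) - 2 := by
    have h := hx 1
    rw [irrDeg_spec, hχdeg, Nat.cast_sub (by omega)] at h
    have h' : ((x 1 : ℤ) : ℂ) = (((p : ℤ) - 2 : ℤ) : ℂ) := by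
      push_cast
      push_cast at h
      linear_combination -h
    exact_mod_cast h'
  have hxle : ∀ g, reg g → g ≠ 1 → x g ≤ (p : ℤ) - 3 := by
    intro g hg hg1
    have hval : (ψ : H → ℂ) g = (x g : ℂ) := hrel ψ hψY g hg
    have hval1 : (ψ : H → ℂ) 1 = ((p : ℤ) - 2 : ℤ) := by
      rw [hrel ψ hψY 1 hreg1, hx1]
    have hne : x g ≠ (p : ℤ) - 2 := by
      intro h
      apply hg1
      apply faithful_of_simple ψ hψ1 g
      rw [hval, hval1, h]
    have hnorm := norm_irr_le ψ g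
    rw [hval, hYdeg ψ hψDY, Complex.norm_intCast, Nat.cast_sub (by omega)] at hnorm
    have hle : x g ≤ (p : ℤ) - 2 := by
      have h1 : ((x g : ℤ) : ℝ) ≤ |((x g : ℤ) : ℝ)| := le_abs_self _
      have h2 : ((x g : ℤ) : ℝ) ≤ ((p : ℤ) - 2 : ℤ) := by
        push_cast
        push_cast at hnorm
        linarith
      exact_mod_cast h2
    omega
  have hfin := card_of_moments p hp5 reg hreg1 x hx1 hxle m h1 h2 h3 h4 h5
  rw [Nat.card_eq_fintype_card]
  exact hfin

end Cfsg.Agent.Helper20.S4707
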