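import Mathlib
import Cfsg.Prelude.Def_Characters
import Cfsg.Prelude.Def_Blocks
import Cfsg.Agent.Helper24.Abelian
import Cfsg.Agent.Helper24.Linear
import Cfsg.Agent.Helper1.W2pDefs
import Cfsg.Agent.Lead.S4705Defs
import Cfsg.Agent.Helper20.S4707Ord
import Cfsg.Agent.Helper8.GaloisChar

/-!
# S4705, piece ORD: `|H| = p (p - 1) (p - 2)` and the values of the exceptional character
-/

set_option autoImplicit false

namespace Cfsg.Agent.Helper20.S4705ORD

open Cfsg Cfsg.Agent.Helper24 Cfsg.Agent.Helper1.W2p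

universe u

/-- the equality case of the moment estimates -/
theorem moments_full {H : Type u} [Group H] [Fintype H] (p : ℕ) (hp5 : 5 ≤ p)
    (reg : H → Prop) [DecidablePred reg] (hreg1 : reg 1)
    (x : H → ℤ) (hx1 : x 1 = (p : ℤ) - 2)
    (hcard : Fintype.card H = p * (p - 1) * (p - 2))
    (h1 : (∑ g : H, if reg g then (x g + 2) else 0) = (Fintype.card H : ℤ))
    (h2 : (∑ g : H, if reg g then x g * (x g + 2) else 0) = 0)
    (h4 : (∑ g : H, if reg g then ((p + 1 : ℤ) * x g + 2) else 0) = 0) :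
    (∀ g : H, reg g → g ≠ 1 → x g = 0 ∨ x g = -1) ∧
    (Finset.univ.filter (fun g : H => reg g ∧ x g = -1)).card = p * (p - 2) := by
  classical
  set N : ℤ := (Fintype.card H : ℤ) with hN
  set q : ℤ := (p : ℤ) with hq
  have hq5 : (5 : ℤ) ≤ q := by rw [hq]; exact_mod_cast hp5
  have hNq : N = q * (q - 1) * (q - 2) := by
    rw [hN, hcard, Nat.cast_mul, Nat.cast_mul, Nat.cast_sub (by omega), Nat.cast_sub (by omega)]
    push_cast
    ring
  let f : ℕ → H → ℤ := fun k g => if reg g then x g ^ k else 0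
  let T : ℕ → ℤ := fun k => ∑ g : H, f k g
  have e1 : ∀ g, (if reg g then (x g + 2) else 0) = f 1 g + 2 * f 0 g := by
    intro g; simp only [f]; split_ifs <;> ring
  have e2 : ∀ g, (if reg g then x g * (x g + 2) else 0) = f 2 g + 2 * f 1 g := by
    intro g; simp only [f]; split_ifs <;> ring
  have e4 : ∀ g, (if reg g then ((p + 1 : ℤ) * x g + 2) else 0) = (q + 1) * f 1 g + 2 * f 0 g := by
    intro g; simp only [f]; split_ifs <;> ring
  have H1 : T 1 + 2 * T 0 = N := by
    rw [← h1]; simp only [T]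
    rw [Finset.mul_sum, ← Finset.sum_add_distrib]
    exact Finset.sum_congr rfl (fun g _ => (e1 g).symm)
  have H2 : T 2 + 2 * T 1 = 0 := by
    rw [← h2]; simp only [T]
    rw [Finset.mul_sum, ← Finset.sum_add_distrib]
    exact Finset.sum_congr rfl (fun g _ => (e2 g).symm)
  have H4 : (q + 1) * T 1 + 2 * T 0 = 0 := by
    rw [← h4]; simp only [T]
    rw [Finset.mul_sum, Finset.mul_sum, ← Finset.sum_add_distrib]
    exact Finset.sum_congr rfl (fun g _ => (e4 g).symm)
  have hf1 : ∀ k, f k 1 = (q - 2) ^ k := by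
    intro k; simp only [f]; rw [if_pos hreg1, hx1]
  have hqT1 : q * T 1 = -N := by linear_combination H4 - H1
  have hq0 : q ≠ 0 := by intro h; rw [h] at hq5; norm_num at hq5
  have hT1 : T 1 = -((q - 1) * (q - 2)) := by
    have : q * T 1 = q * (-((q - 1) * (q - 2))) := by rw [hqT1, hNq]; ring
    exact mul_left_cancel₀ hq0 this
  have hT2 : T 2 = 2 * ((q - 1) * (q - 2)) := by linear_combination H2 - 2 * hT1
  have hsum0 : ∑ g ∈ Finset.univ.erase (1 : H), (f 2 g + f 1 g) = 0 := by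
    have hsplit : T 2 + T 1 = ∑ g : H, (f 2 g + f 1 g) := by
      simp only [T]; rw [Finset.sum_add_distrib]
    have h := Finset.add_sum_erase Finset.univ (fun g => f 2 g + f 1 g) (Finset.mem_univ (1 : H))
    rw [← hsplit, hT1, hT2, hf1, hf1] at h
    linear_combination h
  have hnn : ∀ g ∈ Finset.univ.erase (1 : H), 0 ≤ f 2 g + f 1 g := by
    intro g _
    simp only [f]
    split_ifs
    · have : 0 ≤ x g * (x g + 1) := by
        rcases le_or_gt 0 (x g) with h | h
        · positivity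
        · have h' : x g + 1 ≤ 0 := by omega
          nlinarith
      nlinarith
    · simp
  have hzero := (Finset.sum_eq_zero_iff_of_nonneg hnn).mp hsum0
  have h01 : ∀ g : H, reg g → g ≠ 1 → x g = 0 ∨ x g = -1 := by
    intro g hg hg1
    have h := hzero g (Finset.mem_erase.mpr ⟨hg1, Finset.mem_univ g⟩)
    simp only [f, if_pos hg] at h
    have h' : x g * (x g + 1) = 0 := by linear_combination h
    rcases mul_eq_zero.mp h' with h'' | h''
    · left; exact h''
    · right; omega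
  refine ⟨h01, ?_⟩
  set S : Finset H := Finset.univ.filter (fun g : H => reg g ∧ x g = -1) with hS
  have hmemS : ∀ g, g ∈ S ↔ (reg g ∧ x g = -1) := by intro g; simp [hS]
  have h1S : (1 : H) ∉ S := by
    rw [hmemS]
    rintro ⟨_, h⟩
    rw [hx1] at h
    omega
  have hT1' : T 1 = (q - 2) - (S.card : ℤ) := by
    simp only [T]
    rw [← Finset.add_sum_erase Finset.univ _ (Finset.mem_univ (1 : H)), hf1, pow_one]
    have h3 : ∑ g ∈ Finset.univ.erase (1 : H), f 1 g =
        ∑ g ∈ Finset.univ.erase (1 : H), (if g ∈ S then (-1 : ℤ) else 0) := by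
      apply Finset.sum_congr rfl
      intro g hg
      have hg1 := Finset.ne_of_mem_erase hg
      simp only [f, pow_one]
      by_cases hr : reg g
      · rcases h01 g hr hg1 with h | h
        · have : g ∉ S := by rw [hmemS]; rintro ⟨_, h'⟩; rw [h] at h'; omega
          rw [if_pos hr, if_neg this, h]
        · have : g ∈ S := by rw [hmemS]; exact ⟨hr, h⟩
          rw [if_pos hr, if_pos this, h]
      · have : g ∉ S := by rw [hmemS]; rintro ⟨h', _⟩; exact hr h'
        rw [if_neg hr, if_neg this]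
    have h4' : ∑ g ∈ Finset.univ.erase (1 : H), (if g ∈ S then (-1 : ℤ) else 0) =
        ∑ g : H, (if g ∈ S then (-1 : ℤ) else 0) := by
      rw [← Finset.add_sum_erase Finset.univ _ (Finset.mem_univ (1 : H)), if_neg h1S, zero_add]
    rw [h3, h4', Finset.sum_ite_mem, Finset.univ_inter, Finset.sum_const, nsmul_eq_mul]
    ring
  have hfin : (S.card : ℤ) = q * (q - 2) := by
    have := hT1'.symm.trans hT1
    linear_combination -this
  have : ((S.card : ℕ) : ℤ) = ((p * (p - 2) : ℕ) : ℤ) := by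
    rw [Nat.cast_mul, Nat.cast_sub (by omega), hfin]
    push_cast
    ring
  exact_mod_cast this


/-- every non-trivial element of a group of prime order `p` is a power `y ^ s` of a given non-trivial
element, with `s` prime to the order of the ambient group (`p²` not dividing it) -/
theorem exists_coprime_pow {H : Type u} [Group H] [Finite H] (p : ℕ) [Fact p.Prime]
    (Q : Sylow p H) (hQ : Nat.card Q = p) (y : H) (hy : y ∈ (Q : Subgroup H)) (hy1 : y ≠ 1)
    (y' : H) (hy' : y' ∈ (Q : Subgroup H)) (hy'1 : y' ≠ 1) :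
    ∃ s : ℕ, s.Coprime (Nat.card H) ∧ y ^ s = y' := by
  classical
  have hpp : p.Prime := Fact.out
  have hord : orderOf y = p := by
    have h1 : orderOf (⟨y, hy⟩ : (Q : Subgroup H)) ∣ p := by
      have h0 := orderOf_dvd_natCard (⟨y, hy⟩ : (Q : Subgroup H))
      rwa [hQ] at h0
    rw [Subgroup.orderOf_mk] at h1
    rcases (Nat.dvd_prime hpp).1 h1 with h | h
    · exact absurd (orderOf_eq_one_iff.1 h) hy1
    · exact h
  -- `y' = y ^ j`
  have hgen : Subgroup.zpowers (⟨y, hy⟩ : (Q : Subgroup H)) = ⊤ := by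
    apply zpowers_eq_top_of_prime_card hQ
    intro h
    exact hy1 (by simpa using congrArg Subtype.val h)
  have hmem : (⟨y', hy'⟩ : (Q : Subgroup H)) ∈ Subgroup.zpowers (⟨y, hy⟩ : (Q : Subgroup H)) := by
    rw [hgen]; exact Subgroup.mem_top _
  rw [← mem_powers_iff_mem_zpowers] at hmem
  obtain ⟨j, hj⟩ := hmem
  have hj' : y ^ j = y' := by
    have := congrArg Subtype.val hj
    simpa using this
  have hpj : ¬ p ∣ j := by
    intro h
    apply hy'1
    rw [← hj']
    rw [← hord] at h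
    exact orderOf_dvd_iff_pow_eq_one.mp h
  -- the index of `Q`
  have hcop : p.Coprime (Q : Subgroup H).index := by
    have := Sylow.card_coprime_index Q
    rwa [hQ] at this
  have hmul : p * (Q : Subgroup H).index = Nat.card H := by
    have := Subgroup.card_mul_index (Q : Subgroup H)
    rwa [hQ] at this
  obtain ⟨s, hs1, hs2⟩ := Nat.chineseRemainder hcop j 1
  refine ⟨s, ?_, ?_⟩
  · rw [← hmul]
    apply Nat.Coprime.mul_right
    · have : ¬ p ∣ s := fun h => hpj ((Nat.ModEq.dvd_iff hs1 (dvd_refl p)).mp h)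
      exact ((Nat.Prime.coprime_iff_not_dvd hpp).2 this).symm
    · have h := Nat.ModEq.gcd_eq hs2
      rw [Nat.gcd_one_left] at h
      exact h
  · rw [← hj', pow_eq_pow_iff_modEq, hord]
    exact hs1

/-- an exceptional character does not take the value `-1` on `Q ∖ 1` -/
theorem ne_neg_one_on_sylow {H : Type u} [Group H] [Finite H] (p : ℕ) [Fact p.Prime]
    (hp5 : 5 ≤ p) (Q : Sylow p H) (hQ : Nat.card Q = p)
    (he : eN (Q : Subgroup H) = 2) (D : BrauerData p (Q : Subgroup H))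
    (ψ : IrrCharacter H) (hψY : ψ ∈ D.Y) (y : H) (hy : y ∈ (Q : Subgroup H)) (hy1 : y ≠ 1) :
    (ψ : H → ℂ) y ≠ -1 := by
  classical
  intro hval
  have hall : ∀ y' ∈ (Q : Subgroup H), y' ≠ 1 → (ψ : H → ℂ) y' = -1 := by
    intro y' hy' hy'1
    obtain ⟨s, hs, rfl⟩ := exists_coprime_pow p Q hQ y hy hy1 y' hy' hy'1
    obtain ⟨τ, -, hτ⟩ := Cfsg.Agent.Helper8.exists_complex_aut_char H s hs
    rw [← hτ _ (IsIrrCharacter.isCharacter ψ.2) y, hval, map_neg, map_one]
  have hε : (D.ε : ℂ) * (D.ε : ℂ) = 1 := by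
    rcases D.ε_pm with h | h <;> rw [h] <;> norm_num
  have hLam : ∀ y' : ↥(Q : Subgroup H), y' ≠ 1 → D.Lam ψ (y' : H) = -(D.ε : ℂ) := by
    intro y' hy'1
    have h1 : (y' : H) ≠ 1 := fun h => hy'1 (Subtype.ext h)
    have h2 := D.val_Y ψ hψY (y' : H) y'.2 h1
    rw [hall (y' : H) y'.2 h1] at h2
    linear_combination (-(D.ε : ℂ)) * h2 - D.Lam ψ (y' : H) * hε
  have hsum := D.Lam_sum ψ hψY
  let _ : Fintype ↥(Q : Subgroup H) := Fintype.ofFinite _
  rw [finsum_eq_sum_of_fintype,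
    ← Finset.add_sum_erase Finset.univ _ (Finset.mem_univ (1 : ↥(Q : Subgroup H)))] at hsum
  have h3 : ∑ y' ∈ Finset.univ.erase (1 : ↥(Q : Subgroup H)), D.Lam ψ (y' : H) =
      ((p : ℂ) - 1) * (-(D.ε : ℂ)) := by
    rw [Finset.sum_congr rfl (fun y' hy' => hLam y' (Finset.ne_of_mem_erase hy')),
      Finset.sum_const, Finset.card_erase_of_mem (Finset.mem_univ _), Finset.card_univ,
      ← Nat.card_eq_fintype_card, hQ, nsmul_eq_mul, Nat.cast_sub (by omega)]
    push_cast
    ring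
  rw [h3, Subgroup.coe_one, D.Lam_one ψ hψY, he] at hsum
  rcases D.ε_pm with h | h
  · rw [h] at hsum
    have h4 : ((p : ℤ) : ℂ) = ((3 : ℤ) : ℂ) := by push_cast; push_cast at hsum; linear_combination -hsum
    have h5 : (p : ℤ) = 3 := by exact_mod_cast h4
    omega
  · rw [h] at hsum
    have h4 : ((p : ℤ) : ℂ) = ((-1 : ℤ) : ℂ) := by push_cast; push_cast at hsum; linear_combination hsum
    have h5 : (p : ℤ) = -1 := by exact_mod_cast h4
    omega

end Cfsg.Agent.Helper20.S4705ORD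

namespace Cfsg.Agent.S4705P

open Cfsg Cfsg.Agent.Helper24 Cfsg.Agent.Helper1.W2p
open scoped ComplexConjugate

universe u

theorem card_eq_of_faithful {H : Type u} [Group H] [Finite H] (p : ℕ) [Fact p.Prime]
    (hp5 : 5 ≤ p) (Q : Sylow p H) (hQ : Nat.card Q = p)
    (hC : Subgroup.centralizer ((Q : Subgroup H) : Set H) = (Q : Subgroup H))
    (he : eN (Q : Subgroup H) = 2) (D : BrauerData p (Q : Subgroup H))
    (χ₁ : IrrCharacter H) (hχX : χ₁ ∈ D.X) (hχdeg : irrDeg χ₁ = p - 1)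
    (ψ : IrrCharacter H) (hψY : ψ ∈ D.Y)
    (hfaith : ∀ g : H, (ψ : H → ℂ) g = (ψ : H → ℂ) 1 → g = 1) :
    Nat.card H = p * (p - 1) * (p - 2) ∧
    (∀ g : H, ¬ p ∣ orderOf g → g ≠ 1 → (ψ : H → ℂ) g = 0 ∨ (ψ : H → ℂ) g = -1) ∧
    Nat.card {g : H // (ψ : H → ℂ) g = -1} = p * (p - 2) := by
  classical
  let _ : Fintype H := Fintype.ofFinite H
  let _ : Fintype (IrrCharacter H) := Fintype.ofFinite _
  have hp : p.Prime := Fact.out
  obtain ⟨hδ, hX, hε, hYdeg, hYcard, hrelY, hvalχ⟩ :=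
    Cfsg.Agent.Helper24.S4707.basic_two p hp5 Q hQ he D χ₁ hχX hχdeg
  have hcol := Cfsg.Agent.Helper24.S4707.sum_exc_apply p hp5 Q hQ he D χ₁ hχX hχdeg
  have hint := Cfsg.Agent.Helper23.S4707.int_valued p hp5 Q hQ he D χ₁ hχX hχdeg
  choose n hn using hint
  set x : H → ℤ := fun g => n g - 1 with hxdef
  have hx : ∀ g, (χ₁ : H → ℂ) g = (x g : ℂ) + 1 := by
    intro g; rw [hn g, hxdef]; push_cast; ring
  set Y : Finset (IrrCharacter H) := Finset.univ.filter (fun ψ => ψ ∈ D.Y) with hY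
  have hYmem : ∀ ψ, ψ ∈ Y ↔ ψ ∈ D.Y := fun ψ => by simp [hY]
  have hYset : (Y : Set (IrrCharacter H)) = D.Y := by ext ψ; simp [hY]
  have hYc : Y.card * 2 = p - 1 := by
    rw [← hYcard, ← hYset]; simp
  have hψY' : ψ ∈ Y := (hYmem ψ).mpr hψY
  have hχY : χ₁ ∉ Y := fun h => (Set.disjoint_left.mp D.disj hχX) ((hYmem χ₁).mp h)
  have htY : trivIrr H ∉ Y := fun h => (Set.disjoint_left.mp D.disj D.triv_mem) ((hYmem _).mp h)
  have hχ1 : χ₁ ≠ trivIrr H := by
    intro h; rw [h, Cfsg.Agent.Helper20.PermChar.irrDeg_trivIrr] at hχdeg; omega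
  let reg : H → Prop := fun g => ¬ p ∣ orderOf g
  have hrel : ∀ ψ' ∈ Y, ∀ g, reg g → (ψ' : H → ℂ) g = (x g : ℂ) := by
    intro ψ' hψ' g hg
    rw [hrelY ψ' ((hYmem ψ').mp hψ') g hg, hx g]; ring
  have hsing : ∀ g : H, ¬ reg g →
      ∃ h : H, ∃ y ∈ (Q : Subgroup H), y ≠ 1 ∧ g = h * y * h⁻¹ := by
    intro g hg
    have : p ∣ orderOf g := not_not.mp hg
    exact Cfsg.Agent.Helper3.W2p.exists_conj_mem_of_singular p Q hQ hC g this
  have hvan0 : ∀ g, ¬ reg g → 1 + (χ₁ : H → ℂ) g = 0 := by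
    intro g hg
    obtain ⟨h, y, hy, hy1, rfl⟩ := hsing g hg
    rw [isClassFunction_irr χ₁ y h, hvalχ y hy hy1]; ring
  have hvan1 : ∀ g, ¬ reg g → (χ₁ : H → ℂ) g + ∑ ψ' ∈ Y, (ψ' : H → ℂ) g = 0 := by
    intro g hg
    obtain ⟨h, y, hy, hy1, rfl⟩ := hsing g hg
    have h1 : ∑ ψ' ∈ Y, (ψ' : H → ℂ) (h * y * h⁻¹) = ∑ ψ' ∈ Y, (ψ' : H → ℂ) y :=
      Finset.sum_congr rfl (fun ψ' _ => isClassFunction_irr ψ' y h)
    have h2 : ∑ ψ' ∈ Y, (ψ' : H → ℂ) y = 1 := by
      rw [← hcol y hy hy1, ← hYset, finsum_mem_coe_finset]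
    rw [h1, h2, isClassFunction_irr χ₁ y h, hvalχ y hy hy1]; ring
  obtain ⟨m, h1, h2, h3, h4, h5⟩ := Cfsg.Agent.Helper21.S4707.moment_identities p hp5 reg χ₁ ψ Y hψY'
    hχY hχ1 htY hYc x hx hrel hvan0 hvan1
  have hreg1 : reg 1 := by
    show ¬ p ∣ orderOf (1 : H)
    rw [orderOf_one]
    intro h
    have := Nat.le_of_dvd one_pos h
    omega
  have hx1 : x 1 = (p : ℤ) - 2 := by
    have h := hx 1
    rw [irrDeg_spec, hχdeg, Nat.cast_sub (by omega)] at h
    have h' : ((x 1 : ℤ) : ℂ) = (((p : ℤ) - 2 : ℤ) : ℂ) := by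
      push_cast
      push_cast at h
      linear_combination -h
    exact_mod_cast h'
  have hxle : ∀ g, reg g → g ≠ 1 → x g ≤ (p : ℤ) - 3 := by
    intro g hg hg1
    have hval : (ψ : H → ℂ) g = (x g : ℂ) := hrel ψ hψY' g hg
    have hval1 : (ψ : H → ℂ) 1 = ((p : ℤ) - 2 : ℤ) := by
      rw [hrel ψ hψY' 1 hreg1, hx1]
    have hne : x g ≠ (p : ℤ) - 2 := by
      intro h
      apply hg1
      apply hfaith g
      rw [hval, hval1, h]
    have hnorm := Cfsg.Agent.Helper20.S4707.norm_irr_le ψ g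
    rw [hval, hYdeg ψ hψY, Complex.norm_intCast, Nat.cast_sub (by omega)] at hnorm
    have hle : x g ≤ (p : ℤ) - 2 := by
      have h1 : ((x g : ℤ) : ℝ) ≤ |((x g : ℤ) : ℝ)| := le_abs_self _
      have h2 : ((x g : ℤ) : ℝ) ≤ ((p : ℤ) - 2 : ℤ) := by
        push_cast
        push_cast at hnorm
        linarith
      exact_mod_cast h2
    omega
  have hfin := Cfsg.Agent.Helper20.S4707.card_of_moments p hp5 reg hreg1 x hx1 hxle m h1 h2 h3 h4 h5
  obtain ⟨h01, hcnt⟩ := Cfsg.Agent.Helper20.S4705ORD.moments_full p hp5 reg hreg1 x hx1 hfin h1 h2 h4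
  refine ⟨by rw [Nat.card_eq_fintype_card]; exact hfin, ?_, ?_⟩
  · intro g hg hg1
    rw [hrel ψ hψY' g hg]
    rcases h01 g hg hg1 with h | h
    · left; rw [h]; simp
    · right; rw [h]; simp
  · rw [← hcnt, Nat.card_eq_fintype_card, Fintype.card_subtype]
    congr 1
    ext g
    simp only [Finset.mem_filter, Finset.mem_univ, true_and]
    constructor
    · intro hg
      have hr : reg g := by
        by_contra hr
        have hr' : ¬ reg g := fun h => h hr
        obtain ⟨h, y, hy, hy1, rfl⟩ := hsing g hr'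
        rw [isClassFunction_irr ψ y h] at hg
        exact Cfsg.Agent.Helper20.S4705ORD.ne_neg_one_on_sylow p hp5 Q hQ he D ψ hψY y hy hy1 hg
      refine ⟨hr, ?_⟩
      rw [hrel ψ hψY' g hr] at hg
      have : ((x g : ℤ) : ℂ) = ((-1 : ℤ) : ℂ) := by rw [hg]; simp
      exact_mod_cast this
    · rintro ⟨hr, hg⟩
      rw [hrel ψ hψY' g hr, hg]; simp

end Cfsg.Agent.S4705P
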