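import Mathlib
import Cfsg.Agent.Helper20.S4705BLKe
import Cfsg.Agent.Helper7.S4705BLKF2
import Cfsg.Agent.Helper18.S4705BLKF1
import Cfsg.Agent.Helper20.S4705ORD
import Cfsg.Agent.Lead.S4705Defs

/-!
# S4705, piece BLK, part f: auxiliary lemmas for the assembly of `TwData`
-/

set_option autoImplicit false

namespace Cfsg.Agent.Helper20.S4705BLK

open Cfsg Cfsg.Agent.Helper24 Cfsg.Agent.Helper8.D1 Cfsg.Agent.S4705P Cfsg.Agent.Helper8.W2p

universe u

variable {G : Type u} [Group G] [Finite G] {p : ℕ} [Fact p.Prime] (P : Sylow p G)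

/-- the centre of a group with a non-normal Sylow subgroup of order `p` is a `p'`-group -/
theorem center_reg (hP : Nat.card P = p) (hnn : ¬ (P : Subgroup G).Normal) :
    ∀ z ∈ Subgroup.center G, ¬ p ∣ orderOf z := by
  classical
  have hp : p.Prime := Fact.out
  intro z hz hdvd
  apply hnn
  -- an element of order `p` in the centre
  obtain ⟨m, hm⟩ := hdvd
  set z' := z ^ m with hz'
  have hz'c : z' ∈ Subgroup.center G := Subgroup.pow_mem _ hz m
  have hord : orderOf z' = p := by
    have hpos : 0 < orderOf z := orderOf_pos z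
    have hm0 : m ≠ 0 := by
      intro h; rw [h, mul_zero] at hm; omega
    rw [hz', orderOf_pow' z hm0, hm, Nat.gcd_eq_right (Dvd.intro_left p rfl)]
    exact Nat.mul_div_cancel _ (Nat.pos_of_ne_zero hm0)
  have hz'1 : z' ≠ 1 := by
    intro h
    rw [h, orderOf_one] at hord
    exact hp.one_lt.ne hord
  -- `z' ∈ P`
  have hpg : IsPGroup p (Subgroup.zpowers z') := by
    apply IsPGroup.of_card (n := 1)
    rw [Nat.card_zpowers, hord, pow_one]
  obtain ⟨Q, hQ⟩ := hpg.exists_le_sylow
  obtain ⟨g, hg⟩ := MulAction.exists_smul_eq G Q P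
  have hz'Q : z' ∈ (Q : Subgroup G) := hQ (Subgroup.mem_zpowers z')
  have hz'P : z' ∈ (P : Subgroup G) := by
    rw [← hg, Sylow.coe_subgroup_smul, Subgroup.mem_pointwise_smul_iff_inv_smul_mem]
    have : (MulAut.conj g)⁻¹ • z' = z' := by
      rw [MulAut.smul_def, MulAut.conj_inv_apply]
      have := Subgroup.mem_center_iff.mp hz'c g⁻¹
      rw [this]; group
    rw [this]
    exact hz'Q
  -- all of `P` is central
  have hcent : ∀ x ∈ (P : Subgroup G), x ∈ Subgroup.center G := by
    intro x hx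
    by_cases hx1 : x = 1
    · rw [hx1]; exact Subgroup.one_mem _
    · obtain ⟨s, -, hs⟩ := Cfsg.Agent.Helper20.S4705ORD.exists_coprime_pow p P hP z' hz'P hz'1 x hx hx1
      rw [← hs]
      exact Subgroup.pow_mem _ hz'c s
  constructor
  intro x hx g
  have := Subgroup.mem_center_iff.mp (hcent x hx) g
  rw [this]
  simpa using hx

/-- a sum over the non-trivial `p`-linear functions as a finite sum -/
theorem finsum_NT_eq [Fintype (PL P)] [DecidableEq (PL P)]
    (f : (Subgroup.centralizer ((P : Subgroup G) : Set G) → ℂ) → ℂ) :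
    ∑ᶠ μ ∈ {μ : Subgroup.centralizer ((P : Subgroup G) : Set G) → ℂ | NT p μ}, f μ =
      ∑ μ ∈ Finset.univ.erase (onePL P), f μ.1 := by
  classical
  have hset : {μ : Subgroup.centralizer ((P : Subgroup G) : Set G) → ℂ | NT p μ} =
      (((Finset.univ.erase (onePL P)).image Subtype.val : Finset _) : Set _) := by
    ext μ
    simp only [Set.mem_ofPred_eq, Finset.coe_image, Set.mem_image, Finset.mem_coe, Finset.mem_erase,
      Finset.mem_univ, and_true]
    constructor
    · intro h
      exact ⟨⟨μ, h.1⟩, (nt_iff_ne_one P ⟨μ, h.1⟩).mp h, rfl⟩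
    · rintro ⟨ν, hν, rfl⟩
      exact (nt_iff_ne_one P ν).mpr hν
  rw [hset, finsum_mem_coe_finset, Finset.sum_image]
  intro a _ b _ hab
  exact Subtype.ext hab

/-- column orthogonality for the non-trivial `p`-linear functions -/
theorem sum_erase_apply (hP : Nat.card P = p) [Fintype (PL P)] [DecidableEq (PL P)]
    (x : Subgroup.centralizer ((P : Subgroup G) : Set G)) (hx : (x : G) ∈ (P : Subgroup G))
    (hx1 : x ≠ 1) : ∑ μ ∈ Finset.univ.erase (onePL P), μ.1 x = -1 := by
  have h1 := Cfsg.Agent.Helper18.S4705BLKF1.sum_PL_apply' P hP x hx hx1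
  rw [← Finset.add_sum_erase Finset.univ _ (Finset.mem_univ (onePL P))] at h1
  have h2 : (onePL P).1 x = 1 := rfl
  rw [h2] at h1
  linear_combination h1

/-- a non-zero number `Dnum μ θ χ` forces `χ` to lie over `θ|_{Z(G)}` -/
theorem hover_of_Dnum_ne_zero (hZreg : ∀ z ∈ Subgroup.center G, ¬ p ∣ orderOf z)
    (θ : IrrCharacter (Subgroup.centralizer ((P : Subgroup G) : Set G))) (hθ1 : irrDeg θ = 1)
    (μ : Subgroup.centralizer ((P : Subgroup G) : Set G) → ℂ) (hμ : IsPLin p μ)
    (χ : IrrCharacter G)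
    (hne : Dnum (Subgroup.centralizer ((P : Subgroup G) : Set G)) μ
      (θ : Subgroup.centralizer ((P : Subgroup G) : Set G) → ℂ) (χ : G → ℂ) ≠ 0) :
    ∀ z : Subgroup.centralizer ((P : Subgroup G) : Set G), (z : G) ∈ Subgroup.center G →
      (χ : G → ℂ) z = (θ : Subgroup.centralizer ((P : Subgroup G) : Set G) → ℂ) z * (χ : G → ℂ) 1 := by
  rw [Dnum_eq_mult] at hne
  by_cases h1 : mult (Subgroup.centralizer ((P : Subgroup G) : Set G))
      (fun c => μ c * (θ : Subgroup.centralizer ((P : Subgroup G) : Set G) → ℂ) c) (χ : G → ℂ) = 0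
  · have h2 : mult (Subgroup.centralizer ((P : Subgroup G) : Set G))
        (θ : Subgroup.centralizer ((P : Subgroup G) : Set G) → ℂ) (χ : G → ℂ) ≠ 0 := by
      intro h
      apply hne
      rw [h1, h, sub_zero]
    have h3 : (fun c : Subgroup.centralizer ((P : Subgroup G) : Set G) =>
        (1 : ℂ) * (θ : Subgroup.centralizer ((P : Subgroup G) : Set G) → ℂ) c) =
        (θ : Subgroup.centralizer ((P : Subgroup G) : Set G) → ℂ) := by
      funext c; rw [one_mul]
    exact blk_over_of_mult_ne_zero p P hZreg θ hθ1 (fun _ => 1) (isPLin_one p) χ (by rw [h3]; exact h2)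
  · exact blk_over_of_mult_ne_zero p P hZreg θ hθ1 μ hμ χ h1

end Cfsg.Agent.Helper20.S4705BLK
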