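import Mathlib
import Cfsg.Agent.Helper20.S4705BLKf

/-!
# S4705, piece BLK, part g: `C_G(P) = P × Z(G)`, `|N_G(P) : C_G(P)| = 2`
-/

set_option autoImplicit false

namespace Cfsg.Agent.Helper20.S4705BLK

open Cfsg Cfsg.Agent.Helper24 Cfsg.Agent.Helper8.D1 Cfsg.Agent.S4705P Cfsg.Agent.Helper8.W2p

universe u

variable {G : Type u} [Group G] [Finite G] {p : ℕ} [Fact p.Prime] (P : Sylow p G)

/-- a linear character has values of norm one -/
theorem norm_theta_eq_one {X : Type*} [Group X] [Finite X] (θ : IrrCharacter X)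
    (hθ1 : irrDeg θ = 1) (c : X) : ‖(θ : X → ℂ) c‖ = 1 :=
  norm_monoidHom_eq_one (Cfsg.Agent.Helper5.linCharHom (IsIrrCharacter.isCharacter θ.2)
    ((irrDeg_eq_one_iff θ).1 hθ1)) c

/-- the structure of the centralizer in the good case -/
theorem centralizer_eq_of_good (hP : Nat.card P = p)
    {ζ : IrrCharacter G} (hfaith : ∀ g : G, (ζ : G → ℂ) g = (ζ : G → ℂ) 1 → g = 1)
    (hdeg : irrDeg ζ = p - 2) (D : CoreData p P ζ)
    (a : (Subgroup.centralizer ((P : Subgroup G) : Set G) → ℂ) → ℕ)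
    (ha : ∀ μ, IsPLin p μ → mult (Subgroup.centralizer ((P : Subgroup G) : Set G))
      (fun c => μ c * (D.θ : Subgroup.centralizer ((P : Subgroup G) : Set G) → ℂ) c) (ζ : G → ℂ) =
        (a μ : ℂ))
    (hθ1 : irrDeg D.θ = 1) (hS : ∑ᶠ μ : PL P, a μ.1 = p - 2) :
    Subgroup.centralizer ((P : Subgroup G) : Set G) = (P : Subgroup G) ⊔ Subgroup.center G := by
  classical
  have hfin := finite_PL P hP
  let _ : Fintype (PL P) := Fintype.ofFinite _
  have hex := blk_exact p P hP D.θ D.θP ζ a ha (by rw [hS, hθ1, one_mul, hdeg])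
  apply blk_centralizer_eq p P hP
  intro c hc hcr
  apply mem_center_of_norm_eq ζ hfaith
  have h1 := hex ⟨c, hc⟩
  rw [finsum_eq_sum_of_fintype] at h1
  have h2 : ∀ μ : PL P, (a μ.1 : ℂ) * (μ.1 ⟨c, hc⟩ *
      (D.θ : Subgroup.centralizer ((P : Subgroup G) : Set G) → ℂ) ⟨c, hc⟩) =
      (a μ.1 : ℂ) * (D.θ : Subgroup.centralizer ((P : Subgroup G) : Set G) → ℂ) ⟨c, hc⟩ := by
    intro μ
    rw [μ.2.reg ⟨c, hc⟩ (by rw [Subgroup.orderOf_mk]; exact hcr), one_mul]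
  rw [Finset.sum_congr rfl (fun μ _ => h2 μ), ← Finset.sum_mul] at h1
  have h3 : (∑ μ : PL P, (a μ.1 : ℂ)) = ((p - 2 : ℕ) : ℂ) := by
    rw [← hS, finsum_eq_sum_of_fintype]
    push_cast
    rfl
  simp only at h1
  rw [h1, h3, norm_mul, norm_theta_eq_one D.θ hθ1, mul_one, hdeg]
  simp

end Cfsg.Agent.Helper20.S4705BLK
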