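import Mathlib
import Cfsg.Agent.Helper20.S4705BLKg

/-!
# S4705, piece BLK, part h: the construction of `TwData`
-/

set_option autoImplicit false
set_option maxHeartbeats 1000000

namespace Cfsg.Agent.Helper20.S4705BLK

open Cfsg Cfsg.Agent.Helper24 Cfsg.Agent.Helper8.D1 Cfsg.Agent.S4705P Cfsg.Agent.Helper8.W2p

universe u

variable {G : Type u} [Group G] [Finite G] {p : ℕ} [Fact p.Prime] (P : Sylow p G)

/-- a positive integer congruent to `-1` modulo `p` is at least `p - 1` -/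
theorem ge_of_modEq_neg_one {p : ℕ} {d : ℕ} (hd : 0 < d) (h : (d : ℤ) ≡ -1 [ZMOD p]) :
    p ≤ d + 1 := by
  have h1 : (p : ℤ) ∣ (d : ℤ) + 1 := by
    have := (Int.modEq_iff_dvd.mp h.symm)
    simpa using this
  have h2 : (p : ℤ) ∣ ((d + 1 : ℕ) : ℤ) := by push_cast; exact h1
  have h3 : p ∣ d + 1 := by exact_mod_cast h2
  exact Nat.le_of_dvd (by omega) h3

theorem nonempty_twData (hp : 5 < p) (hP : Nat.card P = p) (hnn : ¬ (P : Subgroup G).Normal)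
    {ζ : IrrCharacter G} (hdeg : irrDeg ζ = p - 2) (D : CoreData p P ζ)
    (a : (Subgroup.centralizer ((P : Subgroup G) : Set G) → ℂ) → ℕ)
    (ha : ∀ μ, IsPLin p μ → mult (Subgroup.centralizer ((P : Subgroup G) : Set G))
      (fun c => μ c * (D.θ : Subgroup.centralizer ((P : Subgroup G) : Set G) → ℂ) c) (ζ : G → ℂ) =
        (a μ : ℂ))
    (hε : D.ε = -1) (ha1 : a (fun _ => 1) = 1) (he : D.e = 2) (hf : D.f = 2)
    (hθ1 : irrDeg D.θ = 1)
    (μ₀ : Subgroup.centralizer ((P : Subgroup G) : Set G) → ℂ) (hμ₀ : NT p μ₀) (hζΨ : ζ = D.Ψ μ₀)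
    (hC : Subgroup.centralizer ((P : Subgroup G) : Set G) = (P : Subgroup G) ⊔ Subgroup.center G) :
    Nonempty (TwData p (P : Subgroup G) ζ) := by
  classical
  have hpp : p.Prime := Fact.out
  have hZreg := center_reg P hP hnn
  have hfin := finite_PL P hP
  let _ : Fintype (PL P) := Fintype.ofFinite _
  let _ : Fintype (IrrCharacter G) := Fintype.ofFinite _
  have hPC : (P : Subgroup G) ≤ Subgroup.centralizer ((P : Subgroup G) : Set G) :=
    Cfsg.Agent.Helper1.D1PA.le_centralizer P hP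
  have hζ1 : (ζ : G → ℂ) 1 ≠ 0 := by
    rw [irrDeg_spec]
    exact_mod_cast (irrDeg_pos ζ).ne'
  -- `ζ` lies over `θ`
  have hovζ : ∀ z : Subgroup.centralizer ((P : Subgroup G) : Set G), (z : G) ∈ Subgroup.center G →
      (ζ : G → ℂ) z = (D.θ : Subgroup.centralizer ((P : Subgroup G) : Set G) → ℂ) z *
        (ζ : G → ℂ) 1 := by
    apply blk_over_of_mult_ne_zero p P hZreg D.θ hθ1 (fun _ => 1) (isPLin_one p) ζ
    rw [ha _ (isPLin_one p), ha1]
    simp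
  -- the members of `B` lie over `θ`
  have hovB : ∀ χ ∈ D.B, ∀ z : Subgroup.centralizer ((P : Subgroup G) : Set G),
      (z : G) ∈ Subgroup.center G →
      (χ : G → ℂ) z = (D.θ : Subgroup.centralizer ((P : Subgroup G) : Set G) → ℂ) z *
        (χ : G → ℂ) 1 := by
    intro χ hχ
    by_cases hex' : ∃ μ, NT p μ ∧ χ = D.Ψ μ
    · obtain ⟨μ, hμ, rfl⟩ := hex'
      apply hover_of_Dnum_ne_zero P hZreg D.θ hθ1 μ hμ.1
      rw [D.D_Ψ μ hμ, hε]
      norm_num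
    · push Not at hex'
      apply hover_of_Dnum_ne_zero P hZreg D.θ hθ1 μ₀ hμ₀.1
      rw [D.D_w μ₀ hμ₀ χ (hex' μ₀ hμ₀)]
      rcases D.w_X χ hχ hex' with h | h <;> rw [h] <;> norm_num
  -- `SameCentral` from lying over `θ`
  have hsame : ∀ χ : IrrCharacter G, (∀ z : Subgroup.centralizer ((P : Subgroup G) : Set G),
      (z : G) ∈ Subgroup.center G →
      (χ : G → ℂ) z = (D.θ : Subgroup.centralizer ((P : Subgroup G) : Set G) → ℂ) z *
        (χ : G → ℂ) 1) → SameCentral ζ χ := by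
    intro χ hov z hz
    have hzC : z ∈ Subgroup.centralizer ((P : Subgroup G) : Set G) :=
      Subgroup.center_le_centralizer _ hz
    have h1 := hov ⟨z, hzC⟩ hz
    have h2 := hovζ ⟨z, hzC⟩ hz
    simp only at h1 h2
    rw [h1, h2]
    ring
  have hov_of_same : ∀ χ : IrrCharacter G, SameCentral ζ χ →
      ∀ z : Subgroup.centralizer ((P : Subgroup G) : Set G), (z : G) ∈ Subgroup.center G →
      (χ : G → ℂ) z = (D.θ : Subgroup.centralizer ((P : Subgroup G) : Set G) → ℂ) z *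
        (χ : G → ℂ) 1 := by
    intro χ hs z hz
    have h1 := hs (z : G) hz
    have h2 := hovζ z hz
    rw [h2] at h1
    have h3 : ((χ : G → ℂ) z - (D.θ : Subgroup.centralizer ((P : Subgroup G) : Set G) → ℂ) z *
        (χ : G → ℂ) 1) * (ζ : G → ℂ) 1 = 0 := by linear_combination h1
    rcases mul_eq_zero.mp h3 with h | h
    · exact sub_eq_zero.mp h
    · exact absurd h hζ1
  -- the value formula
  have hval : ∀ χ : IrrCharacter G, (∀ z : Subgroup.centralizer ((P : Subgroup G) : Set G),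
      (z : G) ∈ Subgroup.center G →
      (χ : G → ℂ) z = (D.θ : Subgroup.centralizer ((P : Subgroup G) : Set G) → ℂ) z *
        (χ : G → ℂ) 1) → ∀ (x : G) (hx : x ∈ (P : Subgroup G)), x ≠ 1 →
      (χ : G → ℂ) x = ∑ μ ∈ Finset.univ.erase (onePL P),
        Dnum (Subgroup.centralizer ((P : Subgroup G) : Set G)) μ.1
          (D.θ : Subgroup.centralizer ((P : Subgroup G) : Set G) → ℂ) (χ : G → ℂ) *
          μ.1 ⟨x, hPC hx⟩ := by
    intro χ hov x hx hx1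
    have h := blk_val_eq_sum_Dnum p P hP hC hZreg D.θ hθ1 D.θP χ hov ⟨x, hPC hx⟩ hx
      (fun h => hx1 (congrArg Subtype.val h))
    rw [finsum_NT_eq P (fun μ => Dnum (Subgroup.centralizer ((P : Subgroup G) : Set G)) μ
      (D.θ : Subgroup.centralizer ((P : Subgroup G) : Set G) → ℂ) (χ : G → ℂ) *
        μ ⟨x, hPC hx⟩)] at h
    exact h
  have hsumE : ∀ (x : G) (hx : x ∈ (P : Subgroup G)), x ≠ 1 →
      ∑ μ ∈ Finset.univ.erase (onePL P), μ.1 ⟨x, hPC hx⟩ = -1 := by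
    intro x hx hx1
    exact sum_erase_apply P hP ⟨x, hPC hx⟩ hx (fun h => hx1 (congrArg Subtype.val h))
  have hEnt : ∀ μ ∈ Finset.univ.erase (onePL P), NT p μ.1 :=
    fun μ hμ => (nt_iff_ne_one P μ).mpr (Finset.ne_of_mem_erase hμ)
  -- the sets `Y` and `X₀`
  set Y : Set (IrrCharacter G) := {χ | ∃ μ, NT p μ ∧ χ = D.Ψ μ} with hY
  set X₀ : Set (IrrCharacter G) := {χ | χ ∈ D.B ∧ ∀ μ, NT p μ → χ ≠ D.Ψ μ} with hX₀
  have hYB : Y ⊆ D.B := by
    rintro χ ⟨μ, hμ, rfl⟩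
    exact D.Ψ_mem μ hμ
  have hXY : X₀ = D.B \ Y := by
    ext χ
    constructor
    · rintro ⟨h1, h2⟩
      refine ⟨h1, ?_⟩
      rintro ⟨μ, hμ, rfl⟩
      exact h2 μ hμ rfl
    · rintro ⟨h1, h2⟩
      exact ⟨h1, fun μ hμ h => h2 ⟨μ, hμ, h⟩⟩
  have hYcard : Nat.card Y = (p - 1) / D.e := D.card_Y
  have hX₀card : Nat.card X₀ = 2 := by
    rw [Nat.card_coe_set_eq, hXY, Set.ncard_sdiff hYB, ← Nat.card_coe_set_eq,
      ← Nat.card_coe_set_eq, D.card_B, hYcard, he]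
    omega
  obtain ⟨⟨χ₁, h₁⟩, ⟨χ₂, h₂⟩, hne12, huniv⟩ := Nat.card_eq_two_iff.mp hX₀card
  have hne12' : χ₁ ≠ χ₂ := fun h => hne12 (Subtype.ext h)
  have hX₀all : ∀ χ ∈ X₀, χ = χ₁ ∨ χ = χ₂ := by
    intro χ hχ
    have h : (⟨χ, hχ⟩ : X₀) ∈ ({⟨χ₁, h₁⟩, ⟨χ₂, h₂⟩} : Set X₀) := by rw [huniv]; trivial
    rcases h with h | h
    · left; exact congrArg Subtype.val h
    · right; exact congrArg Subtype.val (Set.mem_singleton_iff.mp h)
  have hw0 : ∀ χ, χ ∉ X₀ → D.w χ = 0 := by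
    intro χ hχ
    by_cases hχB : χ ∈ D.B
    · have : ∃ μ, NT p μ ∧ χ = D.Ψ μ := by
        by_contra hno
        push Not at hno
        exact hχ ⟨hχB, hno⟩
      obtain ⟨μ, hμ, rfl⟩ := this
      exact D.w_Ψ μ hμ
    · exact D.w_out χ hχB
  -- the relation
  have hfs : ∀ g : G, ∑ᶠ χ : IrrCharacter G, (D.w χ : ℂ) * (χ : G → ℂ) g =
      (D.w χ₁ : ℂ) * (χ₁ : G → ℂ) g + (D.w χ₂ : ℂ) * (χ₂ : G → ℂ) g := by
    intro g
    rw [finsum_eq_sum_of_fintype, ← Finset.sum_subset (Finset.subset_univ {χ₁, χ₂}),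
      Finset.sum_pair hne12']
    intro χ _ hχ
    have : χ ∉ X₀ := by
      intro h
      apply hχ
      rcases hX₀all χ h with rfl | rfl <;> simp
    rw [hw0 χ this]
    simp
  have hrelμ : ∀ μ, NT p μ → ∀ g : G, ¬ p ∣ orderOf g →
      (D.w χ₁ : ℂ) * (χ₁ : G → ℂ) g + (D.w χ₂ : ℂ) * (χ₂ : G → ℂ) g =
        ((D.Ψ μ : IrrCharacter G) : G → ℂ) g := by
    intro μ hμ g hg
    have h := D.rel μ hμ g hg
    rw [hfs g, hε] at h
    push_cast at h
    linear_combination h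
  have hrel : ∀ g : G, ¬ p ∣ orderOf g →
      (D.w χ₁ : ℂ) * (χ₁ : G → ℂ) g + (D.w χ₂ : ℂ) * (χ₂ : G → ℂ) g = (ζ : G → ℂ) g := by
    intro g hg
    have h := hrelμ μ₀ hμ₀ g hg
    rw [← hζΨ] at h
    exact h
  -- degrees
  have hdegX : ∀ χ ∈ X₀, (irrDeg χ : ℤ) ≡ - D.w χ [ZMOD p] := by
    intro χ hχ
    have h := D.deg_X χ hχ.1 hχ.2
    rw [he, hf, hθ1] at h
    simpa using h
  have hreg1 : ¬ p ∣ orderOf (1 : G) := by
    rw [orderOf_one]
    intro h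
    have := Nat.le_of_dvd one_pos h
    omega
  have hrel1 : D.w χ₁ * (irrDeg χ₁ : ℤ) + D.w χ₂ * (irrDeg χ₂ : ℤ) = (p : ℤ) - 2 := by
    have h := hrel 1 hreg1
    rw [irrDeg_spec, irrDeg_spec, irrDeg_spec, hdeg, Nat.cast_sub (by omega)] at h
    have h' : ((D.w χ₁ * (irrDeg χ₁ : ℤ) + D.w χ₂ * (irrDeg χ₂ : ℤ) : ℤ) : ℂ) =
        (((p : ℤ) - 2 : ℤ) : ℂ) := by
      push_cast
      push_cast at h
      exact h
    exact_mod_cast h'
  have hd1 : 0 < irrDeg χ₁ := irrDeg_pos χ₁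
  have hd2 : 0 < irrDeg χ₂ := irrDeg_pos χ₂
  -- the two non-exceptional characters
  obtain ⟨χa, χb, haX, hbX, hab, hwa, hwb, hall⟩ : ∃ χa χb : IrrCharacter G, χa ∈ X₀ ∧ χb ∈ X₀ ∧
      χa ≠ χb ∧ D.w χa = 1 ∧ D.w χb = -1 ∧ ∀ χ ∈ X₀, χ = χa ∨ χ = χb := by
    rcases D.w_X χ₁ h₁.1 h₁.2 with hw1 | hw1 <;> rcases D.w_X χ₂ h₂.1 h₂.2 with hw2 | hw2
    · exfalso
      have e1 := hdegX χ₁ h₁
      have e2 := hdegX χ₂ h₂
      rw [hw1] at e1
      rw [hw2] at e2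
      have g1 := ge_of_modEq_neg_one hd1 e1
      have g2 := ge_of_modEq_neg_one hd2 e2
      rw [hw1, hw2] at hrel1
      omega
    · exact ⟨χ₁, χ₂, h₁, h₂, hne12', hw1, hw2, hX₀all⟩
    · exact ⟨χ₂, χ₁, h₂, h₁, hne12'.symm, hw2, hw1, fun χ hχ => (hX₀all χ hχ).symm⟩
    · exfalso
      rw [hw1, hw2] at hrel1
      omega
  have hrelab : ∀ g : G, ¬ p ∣ orderOf g →
      (χa : G → ℂ) g = (χb : G → ℂ) g + (ζ : G → ℂ) g := by
    intro g hg
    have h := D.rel μ₀ hμ₀ g hg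
    rw [← hζΨ, hε] at h
    have hfs' : ∑ᶠ χ : IrrCharacter G, (D.w χ : ℂ) * (χ : G → ℂ) g =
        (D.w χa : ℂ) * (χa : G → ℂ) g + (D.w χb : ℂ) * (χb : G → ℂ) g := by
      rw [finsum_eq_sum_of_fintype, ← Finset.sum_subset (Finset.subset_univ {χa, χb}),
        Finset.sum_pair hab]
      intro χ _ hχ
      have : χ ∉ X₀ := by
        intro h
        apply hχ
        rcases hall χ h with rfl | rfl <;> simp
      rw [hw0 χ this]
      simp
    rw [hfs', hwa, hwb] at h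
    push_cast at h
    linear_combination h
  -- values of the non-exceptional characters
  have hvalX : ∀ χ ∈ X₀, ∀ (x : G) (hx : x ∈ (P : Subgroup G)), x ≠ 1 →
      (χ : G → ℂ) x = -(D.w χ : ℂ) := by
    intro χ hχ x hx hx1
    rw [hval χ (hovB χ hχ.1) x hx hx1,
      Finset.sum_congr rfl (fun μ hμ => by rw [D.D_w μ.1 (hEnt μ hμ) χ (hχ.2 μ.1 (hEnt μ hμ))]),
      ← Finset.mul_sum, hsumE x hx hx1]
    ring
  have hYfin : Y.Finite := Set.toFinite Y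
  refine ⟨⟨χa, χb, Y, ⟨μ₀, hμ₀, hζΨ⟩, hab, ?_, ?_, hsame χa (hovB χa haX.1),
    hsame χb (hovB χb hbX.1), fun ψ hψ => hsame ψ (hovB ψ (hYB hψ)), ?_, ?_, ?_, ?_, hrelab,
    ?_, ?_⟩⟩
  · rintro ⟨μ, hμ, h⟩
    exact haX.2 μ hμ h
  · rintro ⟨μ, hμ, h⟩
    exact hbX.2 μ hμ h
  · intro x hx hx1
    rw [hvalX χa haX x hx hx1, hwa]
    norm_num
  · intro x hx hx1
    rw [hvalX χb hbX x hx hx1, hwb]
    norm_num
  · -- sum over `Y`
    intro x hx hx1
    rw [finsum_mem_eq_finite_toFinset_sum _ hYfin]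
    have h1 : ∀ ψ ∈ hYfin.toFinset, (ψ : G → ℂ) x = ∑ μ ∈ Finset.univ.erase (onePL P),
        Dnum (Subgroup.centralizer ((P : Subgroup G) : Set G)) μ.1
          (D.θ : Subgroup.centralizer ((P : Subgroup G) : Set G) → ℂ) (ψ : G → ℂ) *
          μ.1 ⟨x, hPC hx⟩ := by
      intro ψ hψ
      exact hval ψ (hovB ψ (hYB (hYfin.mem_toFinset.mp hψ))) x hx hx1
    rw [Finset.sum_congr rfl h1, Finset.sum_comm]
    have h2 : ∀ μ ∈ Finset.univ.erase (onePL P), ∑ ψ ∈ hYfin.toFinset,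
        Dnum (Subgroup.centralizer ((P : Subgroup G) : Set G)) μ.1
          (D.θ : Subgroup.centralizer ((P : Subgroup G) : Set G) → ℂ) (ψ : G → ℂ) *
          μ.1 ⟨x, hPC hx⟩ = -μ.1 ⟨x, hPC hx⟩ := by
      intro μ hμ
      have hnt := hEnt μ hμ
      rw [Finset.sum_eq_single (D.Ψ μ.1)]
      · rw [D.D_Ψ μ.1 hnt, hε]
        push_cast
        ring
      · intro ψ hψ hne
        obtain ⟨ν, hν, rfl⟩ := hYfin.mem_toFinset.mp hψ
        rw [D.D_w μ.1 hnt (D.Ψ ν) hne, D.w_Ψ ν hν]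
        simp
      · intro h
        exact absurd (hYfin.mem_toFinset.mpr ⟨μ.1, hnt, rfl⟩) h
    rw [Finset.sum_congr rfl h2, Finset.sum_neg_distrib, hsumE x hx hx1]
    norm_num
  · -- `reg_Y`
    rintro ψ ⟨μ, hμ, rfl⟩ g hg
    rw [← hrelμ μ hμ g hg, hrel g hg]
  · -- `van`
    intro χ hs hχa hχb hχY x hx hx1
    have hχX : χ ∉ X₀ := fun h => by
      rcases hall χ h with h' | h'
      · exact hχa h'
      · exact hχb h'
    have hχB : χ ∉ D.B := by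
      intro h
      apply hχX
      refine ⟨h, fun μ hμ h' => hχY ⟨μ, hμ, h'⟩⟩
    rw [hval χ (hov_of_same χ hs) x hx hx1]
    apply Finset.sum_eq_zero
    intro μ hμ
    have hnt := hEnt μ hμ
    have hne : χ ≠ D.Ψ μ.1 := fun h => hχY ⟨μ.1, hnt, h⟩
    rw [D.D_w μ.1 hnt χ hne, D.w_out χ hχB]
    simp
  · -- `zeta_sum`
    let _ : Fintype (P : Subgroup G) := Fintype.ofFinite _
    have h := Cfsg.Agent.Helper18.S4705BLKF1.mult_mul_eq P hP hC hZreg D.θ hθ1 D.θP ζ hovζ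
      (isPLin_one p)
    rw [ha _ (isPLin_one p), ha1] at h
    have hp0 : (p : ℂ) ≠ 0 := by exact_mod_cast hpp.ne_zero
    rw [finsum_eq_sum_of_fintype]
    have h2 : ∑ y : (P : Subgroup G), (ζ : G → ℂ) y * (starRingEnd ℂ) ((fun _ => (1 : ℂ))
        (Cfsg.Agent.Helper18.S4705BLKF1.iP P hP y)) = ∑ y : (P : Subgroup G), (ζ : G → ℂ) y := by
      apply Finset.sum_congr rfl
      intro y _
      simp
    rw [h2] at h
    have h3 : (p : ℂ) * ((1 : ℕ) : ℂ) = ∑ y : (P : Subgroup G), (ζ : G → ℂ) y := by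
      rw [h, ← mul_assoc, mul_inv_cancel₀ hp0, one_mul]
    rw [← h3]
    simp

end Cfsg.Agent.Helper20.S4705BLK
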