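import Mathlib
import Cfsg.Prelude.Def_Characters
import Cfsg.Prelude.Def_Blocks
import Cfsg.Agent.Helper24.Abelian
import Cfsg.Agent.Helper24.Linear
import Cfsg.Agent.Helper1.W2pDefs
import Cfsg.Agent.Lead.S4705Defs
import Cfsg.Agent.Helper20.S4705BLKh

/-!
# S4705, piece BLK: the block-theoretic reduction
-/

set_option autoImplicit false

namespace Cfsg.Agent.S4705P

open Cfsg Cfsg.Agent.Helper24 Cfsg.Agent.Helper1.W2p
open scoped ComplexConjugate

universe u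

variable {G : Type u} [Group G] [Finite G]

/-! ### BLK -/
theorem reduction (p : ℕ) [Fact p.Prime] (hp : 5 < p) (P : Sylow p G) (hP : Nat.card P = p)
    (hnn : ¬ (P : Subgroup G).Normal) (ζ : IrrCharacter G)
    (hfaith : ∀ g : G, (ζ : G → ℂ) g = (ζ : G → ℂ) 1 → g = 1) (hdeg : irrDeg ζ = p - 2) :
    Subgroup.centralizer ((P : Subgroup G) : Set G) = (P : Subgroup G) ⊔ Subgroup.center G ∧
    (Subgroup.centralizer ((P : Subgroup G) : Set G)).relIndex
      (Subgroup.normalizer ((P : Subgroup G) : Set G)) = 2 ∧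
    Nonempty (TwData p (P : Subgroup G) ζ) := by
  have hζp : ¬ p ∣ irrDeg ζ := by
    rw [hdeg]
    intro h
    have := Nat.le_of_dvd (by omega) h
    omega
  obtain ⟨D⟩ := Cfsg.Agent.Helper20.S4705BLK.nonempty_coreData p P hP ζ hζp
  obtain ⟨a, ha⟩ := Cfsg.Agent.Helper20.S4705BLK.exists_mult_nat P D.θ ζ
  obtain ⟨hε, ha1, he, hf, hθ1, hS, μ₀, hμ₀, hζΨ⟩ :=
    Cfsg.Agent.Helper20.S4705BLK.good_case P hp hP hnn hfaith hdeg D a ha
  have hC := Cfsg.Agent.Helper20.S4705BLK.centralizer_eq_of_good P hP hfaith hdeg D a ha hθ1 hS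
  refine ⟨hC, by rw [D.hf, hf], ?_⟩
  exact Cfsg.Agent.Helper20.S4705BLK.nonempty_twData P hp hP hnn hdeg D a ha hε ha1 he hf hθ1
    μ₀ hμ₀ hζΨ hC

end Cfsg.Agent.S4705P
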