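import Mathlib
import Cfsg.Prelude.Def_Characters
import Cfsg.Prelude.Def_Blocks
import Cfsg.Agent.Helper24.Abelian
import Cfsg.Agent.Helper24.Linear
import Cfsg.Agent.Helper24.Expansion
import Cfsg.Agent.Helper24.Orthogonality
import Cfsg.Agent.Helper24.CharBasic
import Cfsg.Agent.Helper24.Burnside
import Cfsg.Agent.Helper8.CharComp

/-!
# S4501, piece SC: a Sylow 3-subgroup of order 3 is self-centralizing when there is an irreducible
character of degree 3 vanishing on all 3-singular elements (simple group).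
-/

set_option autoImplicit false

namespace Cfsg.Agent.Helper20.S4501SC

open Cfsg Cfsg.Agent.Helper24
open scoped ComplexConjugate

universe u

variable {G : Type u} [Group G] [Finite G]

/-- the degree of an irreducible character is the dimension of an affording representation -/
theorem irrDeg_eq_finrank (ζ : IrrCharacter G) {n : ℕ} (ρ : Representation ℂ G (Fin n → ℂ))
    (hρ : ρ.character = (ζ : G → ℂ)) : irrDeg ζ = Module.finrank ℂ (Fin n → ℂ) := by
  have h2 : (irrDeg ζ : ℂ) = (Module.finrank ℂ (Fin n → ℂ) : ℂ) := by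
    rw [← irrDeg_spec, ← hρ, Representation.char_one]
  exact_mod_cast h2

theorem norm_le_deg (ζ : IrrCharacter G) (g : G) : ‖(ζ : G → ℂ) g‖ ≤ (irrDeg ζ : ℝ) := by
  obtain ⟨n, ρ, _, hρ⟩ := ζ.2
  have h1 := norm_char_le ρ g
  rw [irrDeg_eq_finrank ζ ρ hρ, ← hρ]
  exact h1

/-- in a simple non-abelian group, `|ζ g| = ζ 1 > 1` forces `g = 1` -/
theorem eq_one_of_norm_eq [IsSimpleGroup G] (hna : ∃ x y : G, x * y ≠ y * x)
    (ζ : IrrCharacter G) (h1 : 1 < irrDeg ζ) (g : G)
    (hg : ‖(ζ : G → ℂ) g‖ = (irrDeg ζ : ℝ)) : g = 1 := by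
  obtain ⟨n, ρ, hirr, hρ⟩ := ζ.2
  by_contra hne
  have hfin := irrDeg_eq_finrank ζ ρ hρ
  have hs := (norm_char_eq_iff ρ g).mp (by rw [hρ, hg, hfin])
  obtain ⟨ω, hω⟩ := hs
  have := hirr
  have hnc : ¬ ∀ a b : G, a * b = b * a := by
    obtain ⟨x, y, hxy⟩ := hna
    exact fun h => hxy (h x y)
  have h2 := char_eq_one_of_scalar hnc ρ g hne ω hω
  have h3 : (ζ : G → ℂ) 1 = 1 := by rw [← hρ, h2]
  rw [irrDeg_spec] at h3
  have h4 : irrDeg ζ = 1 := by exact_mod_cast h3
  omega

/-- For a character `χ` of a finite abelian group, `∑ |χ a|² ≥ |A| χ(1)`. -/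
theorem abelian_sum_normSq_ge {A : Type u} [Group A] [Fintype A] (hcomm : ∀ a b : A, a * b = b * a)
    {χ : A → ℂ} (hχ : IsCharacter A χ) (d : ℕ) (hd : χ 1 = d) :
    (Fintype.card A : ℝ) * d ≤ ∑ a : A, Complex.normSq (χ a) := by
  classical
  have : Fintype (IrrCharacter A) := Fintype.ofFinite _
  obtain ⟨c, hc⟩ := IsCharacter.exists_nat_coeff hχ
  have hlin : ∀ ψ : IrrCharacter A, (ψ : A → ℂ) 1 = 1 := comm_iff_forall_irr_one.mp hcomm
  -- degree
  have hdeg : d = ∑ ψ : IrrCharacter A, c ψ := by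
    have h1 := congrFun hc 1
    simp only [Finset.sum_apply, Pi.smul_apply, smul_eq_mul] at h1
    rw [hd] at h1
    have h2 : ((d : ℕ) : ℂ) = ((∑ ψ : IrrCharacter A, c ψ : ℕ) : ℂ) := by
      rw [h1]
      push_cast
      refine Finset.sum_congr rfl fun ψ _ => ?_
      rw [hlin ψ, mul_one]
    exact_mod_cast h2
  -- norm
  have hnorm : classInner χ χ = ((∑ ψ : IrrCharacter A, c ψ * c ψ : ℕ) : ℂ) := by
    conv_lhs => rw [hc]
    rw [classInner_sum_sum]
    push_cast
    refine Finset.sum_congr rfl fun ψ _ => ?_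
    rw [Complex.conj_natCast]
  have hle : d ≤ ∑ ψ : IrrCharacter A, c ψ * c ψ := by
    rw [hdeg]
    apply Finset.sum_le_sum
    intro ψ _
    exact Nat.le_mul_self (c ψ)
  unfold classInner at hnorm
  have hcard : (Nat.card A : ℂ) ≠ 0 := by
    exact_mod_cast (Nat.card_pos (α := A)).ne'
  have hsum : ∑ a : A, χ a * conj (χ a) =
      (Nat.card A : ℂ) * ((∑ ψ : IrrCharacter A, c ψ * c ψ : ℕ) : ℂ) := by
    rw [← hnorm, ← mul_assoc, mul_inv_cancel₀ hcard, one_mul]
  have hsum' : ∑ a : A, Complex.normSq (χ a) =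
      (Nat.card A : ℝ) * ((∑ ψ : IrrCharacter A, c ψ * c ψ : ℕ) : ℝ) := by
    have h1 : ((∑ a : A, Complex.normSq (χ a) : ℝ) : ℂ) =
        (((Nat.card A : ℝ) * ((∑ ψ : IrrCharacter A, c ψ * c ψ : ℕ) : ℝ) : ℝ) : ℂ) := by
      push_cast
      push_cast at hsum
      rw [← hsum]
      refine Finset.sum_congr rfl fun a _ => ?_
      rw [Complex.mul_conj]
    exact_mod_cast h1
  rw [hsum', Nat.card_eq_fintype_card]
  apply mul_le_mul_of_nonneg_left _ (Nat.cast_nonneg _)
  exact_mod_cast hle

/-- the core: a `3'`-element commuting with `P` is trivial -/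
theorem eq_one_of_commute [IsSimpleGroup G] (hna : ∃ x y : G, x * y ≠ y * x)
    (ζ : IrrCharacter G) (hdeg : irrDeg ζ = 3)
    (hvan : ∀ g : G, 3 ∣ orderOf g → (ζ : G → ℂ) g = 0) (P : Sylow 3 G)
    (hP : Nat.card P = 3) (w : G) (hw : ¬ 3 ∣ orderOf w)
    (hcomm : ∀ y ∈ (P : Subgroup G), y * w = w * y) : w = 1 := by
  classical
  have : Fact (Nat.Prime 3) := ⟨Nat.prime_three⟩
  -- `P` is abelian
  have hPcyc : IsCyclic (P : Subgroup G) := isCyclic_of_prime_card (p := 3) hP
  have hPab : ∀ y ∈ (P : Subgroup G), ∀ y' ∈ (P : Subgroup G), y * y' = y' * y := by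
    intro y hy y' hy'
    have h1 := (IsCyclic.commGroup (α := (P : Subgroup G))).mul_comm ⟨y, hy⟩ ⟨y', hy'⟩
    exact congrArg Subtype.val h1
  set A : Subgroup G := (P : Subgroup G) ⊔ Subgroup.zpowers w with hA
  have hPA : (P : Subgroup G) ≤ A := le_sup_left
  have hwA : w ∈ A := (le_sup_right : Subgroup.zpowers w ≤ A) (Subgroup.mem_zpowers w)
  -- everything in `A` commutes with `P` and with `w`
  have hAP : ∀ g ∈ A, ∀ y ∈ (P : Subgroup G), y * g = g * y := by
    intro g hg
    have h1 : A ≤ Subgroup.centralizer ((P : Subgroup G) : Set G) := by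
      apply sup_le
      · intro y hy
        rw [Subgroup.mem_centralizer_iff]
        intro y' hy'
        exact hPab y' hy' y hy
      · rw [Subgroup.zpowers_le, Subgroup.mem_centralizer_iff]
        intro y hy
        exact hcomm y hy
    have h2 := h1 hg
    rw [Subgroup.mem_centralizer_iff] at h2
    exact h2
  have hAw : ∀ g ∈ A, w * g = g * w := by
    intro g hg
    have h1 : A ≤ Subgroup.centralizer ({w} : Set G) := by
      apply sup_le
      · intro y hy
        rw [Subgroup.mem_centralizer_iff]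
        intro h hh
        rw [Set.mem_singleton_iff] at hh
        rw [hh]
        exact (hcomm y hy).symm
      · rw [Subgroup.zpowers_le, Subgroup.mem_centralizer_iff]
        intro h hh
        rw [Set.mem_singleton_iff] at hh
        rw [hh]
    have h2 := h1 hg
    rw [Subgroup.mem_centralizer_iff] at h2
    exact h2 w (Set.mem_singleton w)
  have hAcomm : ∀ a b : A, a * b = b * a := by
    intro a b
    have h1 : A ≤ Subgroup.centralizer ({(a : G)} : Set G) := by
      apply sup_le
      · intro y hy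
        rw [Subgroup.mem_centralizer_iff]
        intro h hh
        rw [Set.mem_singleton_iff] at hh
        rw [hh]
        exact (hAP a a.2 y hy).symm
      · rw [Subgroup.zpowers_le, Subgroup.mem_centralizer_iff]
        intro h hh
        rw [Set.mem_singleton_iff] at hh
        rw [hh]
        exact (hAw a a.2).symm
    have h2 := h1 b.2
    rw [Subgroup.mem_centralizer_iff] at h2
    apply Subtype.ext
    exact h2 a (Set.mem_singleton _)
  have : Fintype A := Fintype.ofFinite A
  have : Fintype (P : Subgroup G) := Fintype.ofFinite _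
  -- lower bound
  have hχ : IsCharacter A (fun a : A => (ζ : G → ℂ) a) :=
    Cfsg.Agent.Helper8.isCharacter_restrict A (IsIrrCharacter.isCharacter ζ.2)
  have hlow := abelian_sum_normSq_ge hAcomm hχ 3 (by
    show (ζ : G → ℂ) ((1 : A) : G) = ((3 : ℕ) : ℂ)
    rw [Subgroup.coe_one, irrDeg_spec, hdeg])
  -- the 3'-elements of A
  set T : Finset A := Finset.univ.filter (fun a : A => ¬ 3 ∣ orderOf (a : G)) with hT
  have hsumT : ∑ a : A, Complex.normSq ((ζ : G → ℂ) a) =
      ∑ a ∈ T, Complex.normSq ((ζ : G → ℂ) a) := by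
    rw [hT]
    symm
    apply Finset.sum_filter_of_ne
    intro a _ hne h3
    apply hne
    rw [hvan (a : G) h3, map_zero]
  have hle9 : ∀ a : A, Complex.normSq ((ζ : G → ℂ) a) ≤ 9 := by
    intro a
    have h1 := norm_le_deg ζ (a : G)
    rw [hdeg] at h1
    rw [Complex.normSq_eq_norm_sq]
    have h0 := norm_nonneg ((ζ : G → ℂ) (a : G))
    push_cast at h1
    nlinarith
  -- counting: 3 |T| ≤ |A|
  have hcount : 3 * T.card ≤ Fintype.card A := by
    let f : ↥(P : Subgroup G) × {a : A // ¬ 3 ∣ orderOf (a : G)} → A :=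
      fun x => ⟨(x.1 : G), hPA x.1.2⟩ * x.2.1
    have hf : Function.Injective f := by
      rintro ⟨y, a⟩ ⟨y', a'⟩ h
      have h1 : (y : G) * (a.1 : G) = (y' : G) * (a'.1 : G) := by
        have := congrArg (Subtype.val : A → G) h
        simpa [f] using this
      set z : G := (y' : G)⁻¹ * (y : G) with hz
      have hz1 : z = (a'.1 : G) * (a.1 : G)⁻¹ := by
        rw [hz]
        calc (y' : G)⁻¹ * (y : G) = (y' : G)⁻¹ * ((y : G) * (a.1 : G)) * (a.1 : G)⁻¹ := by group
          _ = (y' : G)⁻¹ * ((y' : G) * (a'.1 : G)) * (a.1 : G)⁻¹ := by rw [h1]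
          _ = (a'.1 : G) * (a.1 : G)⁻¹ := by group
      have hzP : z ∈ (P : Subgroup G) := Subgroup.mul_mem _ (Subgroup.inv_mem _ y'.2) y.2
      have hz3 : orderOf z ∣ 3 := by
        have h2 : orderOf (⟨z, hzP⟩ : (P : Subgroup G)) ∣ Nat.card (P : Subgroup G) :=
          orderOf_dvd_natCard _
        rw [hP] at h2
        rwa [← Subgroup.orderOf_coe] at h2
      have hcm : Commute (a'.1 : G) ((a.1 : G)⁻¹) := by
        have h2 : (a'.1 : A) * (a.1 : A)⁻¹ = (a.1 : A)⁻¹ * (a'.1 : A) := hAcomm _ _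
        have h3 := congrArg (Subtype.val : A → G) h2
        simp only [Subgroup.coe_mul, Subgroup.coe_inv] at h3
        exact h3
      have hzl : orderOf z ∣ Nat.lcm (orderOf (a'.1 : G)) (orderOf ((a.1 : G)⁻¹)) := by
        rw [hz1]
        exact hcm.orderOf_mul_dvd_lcm
      rw [orderOf_inv] at hzl
      have hcop : Nat.Coprime 3 (orderOf (a'.1 : G) * orderOf (a.1 : G)) := by
        apply Nat.Coprime.mul_right
        · exact (Nat.Prime.coprime_iff_not_dvd Nat.prime_three).mpr a'.2
        · exact (Nat.Prime.coprime_iff_not_dvd Nat.prime_three).mpr a.2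
      have hz1' : orderOf z = 1 := by
        have h4 : orderOf z ∣ orderOf (a'.1 : G) * orderOf (a.1 : G) :=
          hzl.trans (Nat.lcm_dvd_mul _ _)
        exact Nat.eq_one_of_dvd_coprimes hcop hz3 h4
      have hz0 : z = 1 := orderOf_eq_one_iff.mp hz1'
      have hyy : (y : G) = (y' : G) := by
        have : (y' : G) * z = (y : G) := by rw [hz]; group
        rw [hz0, mul_one] at this
        exact this.symm
      have haa : (a.1 : G) = (a'.1 : G) := by
        rw [hyy] at h1
        exact mul_left_cancel h1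
      have e1 : y = y' := Subtype.ext hyy
      have e2 : a = a' := Subtype.ext (Subtype.ext haa)
      rw [e1, e2]
    have h5 := Fintype.card_le_of_injective f hf
    have h6 : Fintype.card ↥(P : Subgroup G) = 3 := by
      rw [← Nat.card_eq_fintype_card]; exact hP
    have h7 : Fintype.card {a : A // ¬ 3 ∣ orderOf (a : G)} = T.card := by
      rw [hT]; exact Fintype.card_subtype _
    rw [Fintype.card_prod, h6, h7] at h5
    exact h5
  -- conclusion: |ζ w|² = 9
  have hw9 : Complex.normSq ((ζ : G → ℂ) w) = 9 := by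
    by_contra hne
    have hlt : Complex.normSq ((ζ : G → ℂ) w) < 9 :=
      lt_of_le_of_ne (hle9 ⟨w, hwA⟩) hne
    have hwT : (⟨w, hwA⟩ : A) ∈ T := by
      rw [hT, Finset.mem_filter]
      exact ⟨Finset.mem_univ _, hw⟩
    have h1 : ∑ a ∈ T, Complex.normSq ((ζ : G → ℂ) a) < ∑ _a ∈ T, (9 : ℝ) :=
      Finset.sum_lt_sum (fun a _ => hle9 a) ⟨⟨w, hwA⟩, hwT, hlt⟩
    rw [Finset.sum_const, nsmul_eq_mul] at h1
    rw [hsumT] at hlow
    have h2 : (3 * T.card : ℝ) ≤ (Fintype.card A : ℝ) := by exact_mod_cast hcount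
    push_cast at hlow
    linarith
  have hnorm : ‖(ζ : G → ℂ) w‖ = (irrDeg ζ : ℝ) := by
    rw [hdeg]
    rw [Complex.normSq_eq_norm_sq] at hw9
    have h0 := norm_nonneg ((ζ : G → ℂ) w)
    push_cast
    nlinarith
  exact eq_one_of_norm_eq hna ζ (by omega) w hnorm

end Cfsg.Agent.Helper20.S4501SC

namespace Cfsg.Agent.S4501P

open Cfsg Cfsg.Agent.Helper24
open scoped ComplexConjugate

universe u

variable {G : Type u} [Group G] [Finite G]

theorem self_centralizing_of_deg3 [IsSimpleGroup G] (hna : ∃ x y : G, x * y ≠ y * x)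
    (ζ : IrrCharacter G) (hdeg : irrDeg ζ = 3)
    (hvan : ∀ g : G, 3 ∣ orderOf g → (ζ : G → ℂ) g = 0) (P : Sylow 3 G)
    (hP : Nat.card P = 3) :
    Subgroup.centralizer ((P : Subgroup G) : Set G) = (P : Subgroup G) := by
  classical
  have : Fact (Nat.Prime 3) := ⟨Nat.prime_three⟩
  apply le_antisymm
  · intro c hc
    rw [Subgroup.mem_centralizer_iff] at hc
    set k : ℕ := (orderOf c).factorization 3 with hk
    set w : G := c ^ (3 ^ k) with hw
    have hc0 : orderOf c ≠ 0 := (orderOf_pos c).ne'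
    have hw_ord : orderOf w = orderOf c / 3 ^ k :=
      orderOf_pow_of_dvd (by positivity) (Nat.ordProj_dvd _ _)
    have hw3 : ¬ 3 ∣ orderOf w := by
      rw [hw_ord]
      exact Nat.not_dvd_ordCompl Nat.prime_three hc0
    have hwcomm : ∀ y ∈ (P : Subgroup G), y * w = w * y := by
      intro y hy
      have h1 : Commute y c := hc y hy
      exact h1.pow_right _
    have hw1 : w = 1 :=
      Cfsg.Agent.Helper20.S4501SC.eq_one_of_commute hna ζ hdeg hvan P hP w hw3 hwcomm
    -- `c` is a 3-element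
    have hc3 : IsPGroup 3 (Subgroup.zpowers c) := by
      apply IsPGroup.of_card (n := (orderOf c).factorization 3)
      rw [Nat.card_zpowers]
      have h1 : orderOf c ∣ 3 ^ k := orderOf_dvd_of_pow_eq_one hw1
      obtain ⟨j, hj, hj'⟩ := (Nat.dvd_prime_pow Nat.prime_three).mp h1
      rw [hj', Nat.Prime.factorization_pow Nat.prime_three]
      simp
    have hnorm : Subgroup.zpowers c ≤ Subgroup.normalizer ((P : Subgroup G) : Set G) := by
      rw [Subgroup.zpowers_le, Subgroup.mem_normalizer_iff]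
      intro h
      constructor
      · intro hh
        have h1 : c * h * c⁻¹ = h := by
          rw [← hc h hh]
          group
        rw [h1]
        exact hh
      · intro hh
        have h1 := hc _ hh
        have h2 : h = c * h * c⁻¹ := by
          calc h = c⁻¹ * (c * h * c⁻¹ * c) := by group
            _ = c⁻¹ * (c * (c * h * c⁻¹)) := by rw [h1]
            _ = c * h * c⁻¹ := by group
        rw [h2]
        exact hh
    have hsup : IsPGroup 3 (Subgroup.zpowers c ⊔ (P : Subgroup G) : Subgroup G) :=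
      IsPGroup.to_sup_of_normal_right' hc3 P.isPGroup' hnorm
    have hmax := P.is_maximal' hsup le_sup_right
    have hcmem : c ∈ Subgroup.zpowers c ⊔ (P : Subgroup G) :=
      (le_sup_left : Subgroup.zpowers c ≤ _) (Subgroup.mem_zpowers c)
    rw [hmax] at hcmem
    exact hcmem
  · intro y hy
    rw [Subgroup.mem_centralizer_iff]
    intro y' hy'
    have hPcyc : IsCyclic (P : Subgroup G) := isCyclic_of_prime_card (p := 3) hP
    have h1 := (IsCyclic.commGroup (α := (P : Subgroup G))).mul_comm ⟨y', hy'⟩ ⟨y, hy⟩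
    exact congrArg Subtype.val h1

end Cfsg.Agent.S4501P
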