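import Mathlib
import Cfsg.Prelude.Def_Characters
import Cfsg.Prelude.Def_Blocks
import Cfsg.Agent.Helper24.Abelian
import Cfsg.Agent.Helper24.Linear
import Cfsg.Agent.Helper24.Product
import Cfsg.Agent.Helper24.RealChar
import Cfsg.Agent.Helper24.Expansion
import Cfsg.Agent.Helper24.Orthogonality

/-!
# S4501, piece ZZ: the decomposition of `ζ * conj ζ` for the degree-3 character of defect zero
-/

set_option autoImplicit false

namespace Cfsg.Agent.Helper20.S4501ZZ

/-- splitting off three distinct elements from a sum over a fintype -/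
theorem sum_split3 {ι M : Type*} [Fintype ι] [DecidableEq ι] [AddCommMonoid M] (h : ι → M)
    (a b c : ι) (hab : a ≠ b) (hac : a ≠ c) (hbc : b ≠ c) :
    ∑ i, h i = h a + (h b + (h c + ∑ i ∈ ((Finset.univ.erase a).erase b).erase c, h i)) := by
  rw [← Finset.add_sum_erase Finset.univ h (Finset.mem_univ a)]
  rw [← Finset.add_sum_erase (Finset.univ.erase a) h
    (Finset.mem_erase.mpr ⟨hab.symm, Finset.mem_univ b⟩)]
  rw [← Finset.add_sum_erase ((Finset.univ.erase a).erase b) h
    (Finset.mem_erase.mpr ⟨hbc.symm, Finset.mem_erase.mpr ⟨hac.symm, Finset.mem_univ c⟩⟩)]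

theorem mem_rest {ι : Type*} [Fintype ι] [DecidableEq ι] {a b c i : ι} :
    i ∈ ((Finset.univ.erase a).erase b).erase c ↔ i ≠ a ∧ i ≠ b ∧ i ≠ c := by
  simp only [Finset.mem_erase, Finset.mem_univ, and_true]
  tauto

end Cfsg.Agent.Helper20.S4501ZZ

namespace Cfsg.Agent.S4501P

open Cfsg Cfsg.Agent.Helper24
open scoped ComplexConjugate

universe u

variable {G : Type u} [Group G] [Finite G]

theorem zeta_sq (ζ : IrrCharacter G) (hdeg : irrDeg ζ = 3) (σ : G) (hσ : (ζ : G → ℂ) σ = 0)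
    (hperf : ∀ χ : IrrCharacter G, irrDeg χ = 1 → χ = trivIrr G)
    (f : ℕ) (χf χg : IrrCharacter G) (hf2 : 2 ≤ f) (hf3 : f % 3 = 1)
    (hdf : irrDeg χf = f) (hdg : irrDeg χg = f + 1)
    (hvf : (χf : G → ℂ) σ = 1) (hvg : (χg : G → ℂ) σ = -1)
    (hoth : ∀ χ : IrrCharacter G, χ ≠ trivIrr G → χ ≠ χf → χ ≠ χg → (χ : G → ℂ) σ = 0) :
    (f = 7 ∧ ∀ g : G, (ζ : G → ℂ) g * conj ((ζ : G → ℂ) g) = 1 + (χg : G → ℂ) g) ∨
    (f = 4 ∧ ∃ Θ : IrrCharacter G, irrDeg Θ = 3 ∧
      ∀ g : G, (ζ : G → ℂ) g * conj ((ζ : G → ℂ) g) = 1 + (χg : G → ℂ) g + (Θ : G → ℂ) g) := by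
  classical
  have : Fintype G := Fintype.ofFinite G
  have : Fintype (IrrCharacter G) := Fintype.ofFinite _
  set F : G → ℂ := fun g => (ζ : G → ℂ) g * conj ((ζ : G → ℂ) g) with hF
  have hchar : IsCharacter G F :=
    IsCharacter.mul (IsIrrCharacter.isCharacter ζ.2)
      (isCharacter_star (IsIrrCharacter.isCharacter ζ.2))
  obtain ⟨c, hc⟩ := IsCharacter.exists_nat_coeff hchar
  have hinner : ∀ η : IrrCharacter G, classInner F (η : G → ℂ) = (c η : ℂ) := by
    intro η
    rw [hc]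
    exact classInner_sum_irr _ η
  -- the three distinguished characters are distinct
  have hf1 : χf ≠ trivIrr G := by
    intro h
    have h1 : irrDeg χf = 1 := by
      rw [h]
      have h2 := irrDeg_spec (trivIrr G)
      rw [trivIrr_apply] at h2
      exact_mod_cast h2.symm
    omega
  have hg1 : χg ≠ trivIrr G := by
    intro h
    rw [h, trivIrr_apply] at hvg
    norm_num at hvg
  have hfg : χf ≠ χg := by
    intro h
    rw [h, hvg] at hvf
    norm_num at hvf
  -- multiplicity of the trivial character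
  have hc1 : c (trivIrr G) = 1 := by
    have h1 := hinner (trivIrr G)
    have h2 : classInner F ((trivIrr G : IrrCharacter G) : G → ℂ) =
        classInner (ζ : G → ℂ) (ζ : G → ℂ) := by
      unfold classInner
      congr 1
      refine Finset.sum_congr rfl fun g _ => ?_
      rw [trivIrr_apply, map_one, mul_one]
    rw [h2, classInner_irr_self] at h1
    exact_mod_cast h1.symm
  -- pointwise expansion
  have hpt : ∀ g : G, F g = ∑ η : IrrCharacter G, (c η : ℂ) * (η : G → ℂ) g := by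
    intro g
    have := congrFun hc g
    simpa only [Finset.sum_apply, Pi.smul_apply, smul_eq_mul] using this
  set S : Finset (IrrCharacter G) :=
    ((Finset.univ.erase (trivIrr G)).erase χf).erase χg with hS
  have hSmem : ∀ η, η ∈ S ↔ η ≠ trivIrr G ∧ η ≠ χf ∧ η ≠ χg := fun η =>
    Cfsg.Agent.Helper20.S4501ZZ.mem_rest
  have hpt' : ∀ g : G, F g = (c (trivIrr G) : ℂ) * 1 + ((c χf : ℂ) * (χf : G → ℂ) g +
      ((c χg : ℂ) * (χg : G → ℂ) g + ∑ η ∈ S, (c η : ℂ) * (η : G → ℂ) g)) := by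
    intro g
    rw [hpt g, Cfsg.Agent.Helper20.S4501ZZ.sum_split3 _ (trivIrr G) χf χg hf1.symm hg1.symm hfg,
      trivIrr_apply]
  -- value at σ
  have hσ0 : F σ = 0 := by rw [hF]; simp only; rw [hσ, zero_mul]
  have hcg : c χg = 1 + c χf := by
    have h1 := hpt' σ
    rw [hσ0, hvf, hvg, hc1] at h1
    have h2 : ∑ η ∈ S, (c η : ℂ) * (η : G → ℂ) σ = 0 := by
      apply Finset.sum_eq_zero
      intro η hη
      obtain ⟨h1, h2, h3⟩ := (hSmem η).mp hη
      rw [hoth η h1 h2 h3, mul_zero]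
    rw [h2] at h1
    have h3 : ((c χg : ℕ) : ℂ) = ((1 + c χf : ℕ) : ℂ) := by
      push_cast at h1 ⊢
      linear_combination h1
    exact_mod_cast h3
  -- degrees
  have hdegsum : 9 = c (trivIrr G) * 1 + (c χf * f + (c χg * (f + 1) +
      ∑ η ∈ S, c η * irrDeg η)) := by
    have h1 := hpt' 1
    have hF1 : F 1 = 9 := by
      rw [hF]; simp only
      rw [irrDeg_spec, hdeg]
      push_cast
      rw [show ((starRingEnd ℂ) (3 : ℂ)) = 3 from Complex.conj_ofNat 3]
      norm_num
    rw [hF1, irrDeg_spec, irrDeg_spec, hdf, hdg] at h1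
    have h2 : ((9 : ℕ) : ℂ) = ((c (trivIrr G) * 1 + (c χf * f + (c χg * (f + 1) +
        ∑ η ∈ S, c η * irrDeg η)) : ℕ) : ℂ) := by
      have h3 : ∑ η ∈ S, (c η : ℂ) * (η : G → ℂ) 1 = ∑ η ∈ S, (c η : ℂ) * (irrDeg η : ℂ) := by
        refine Finset.sum_congr rfl fun η _ => ?_
        rw [irrDeg_spec]
      rw [h3] at h1
      push_cast at h1 ⊢
      exact h1
    exact_mod_cast h2
  set D : ℕ := ∑ η ∈ S, c η * irrDeg η with hD
  rw [hc1, hcg] at hdegsum
  have hf4 : 4 ≤ f := by omega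
  have hcf0 : c χf = 0 := by
    by_contra h
    have h1 : 1 ≤ c χf := Nat.one_le_iff_ne_zero.mpr h
    have h2 : f ≤ c χf * f := Nat.le_mul_of_pos_left f h1
    have h3 : 2 * (f + 1) ≤ (1 + c χf) * (f + 1) := Nat.mul_le_mul_right _ (by omega)
    omega
  rw [hcf0] at hdegsum hcg
  have hfD : f + D = 7 := by omega
  -- every element of S has degree at least 2
  have hS2 : ∀ η ∈ S, 2 ≤ irrDeg η := by
    intro η hη
    have h1 := ((hSmem η).mp hη).1
    have h2 := irrDeg_pos η
    by_contra h3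
    exact h1 (hperf η (by omega))
  have hfcases : f = 7 ∨ f = 4 := by omega
  rcases hfcases with h7 | h4
  · left
    refine ⟨h7, ?_⟩
    have hD0 : D = 0 := by omega
    have hzero : ∀ η ∈ S, c η = 0 := by
      intro η hη
      have h1 := (Finset.sum_eq_zero_iff.mp (hD.symm.trans hD0)) η hη
      have h2 := irrDeg_pos η
      rcases Nat.mul_eq_zero.mp h1 with h | h
      · exact h
      · omega
    intro g
    have h1 := hpt' g
    rw [hc1, hcf0, hcg] at h1
    have h2 : ∑ η ∈ S, (c η : ℂ) * (η : G → ℂ) g = 0 := by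
      apply Finset.sum_eq_zero
      intro η hη
      rw [hzero η hη]
      simp
    rw [h2] at h1
    show F g = _
    rw [h1]
    push_cast
    ring
  · right
    refine ⟨h4, ?_⟩
    have hD3 : D = 3 := by omega
    -- some η in S with nonzero coefficient
    have hex : ∃ η ∈ S, c η * irrDeg η ≠ 0 := by
      by_contra hne
      have hne' : ∀ η ∈ S, c η * irrDeg η = 0 := by
        intro η hη
        by_contra h
        exact hne ⟨η, hη, h⟩
      have : D = 0 := Finset.sum_eq_zero hne'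
      omega
    obtain ⟨Θ, hΘS, hΘne⟩ := hex
    have hcΘ : c Θ ≠ 0 := fun h => hΘne (by rw [h, zero_mul])
    have hΘ2 := hS2 Θ hΘS
    have hsplit : c Θ * irrDeg Θ + ∑ η ∈ S.erase Θ, c η * irrDeg η = 3 := by
      rw [Finset.add_sum_erase S (fun η => c η * irrDeg η) hΘS, ← hD, hD3]
    set R : ℕ := ∑ η ∈ S.erase Θ, c η * irrDeg η with hR
    have hterm2 : 2 ≤ c Θ * irrDeg Θ := by
      have h1 : 1 ≤ c Θ := Nat.one_le_iff_ne_zero.mpr hcΘ
      calc 2 ≤ irrDeg Θ := hΘ2
        _ ≤ c Θ * irrDeg Θ := Nat.le_mul_of_pos_left _ h1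
    have hR1 : R ≤ 1 := by omega
    have hrest : ∀ η ∈ S.erase Θ, c η = 0 := by
      intro η hη
      by_contra h
      have h1 : 1 ≤ c η := Nat.one_le_iff_ne_zero.mpr h
      have h2 := hS2 η (Finset.mem_of_mem_erase hη)
      have h3 : 2 ≤ c η * irrDeg η := by
        calc 2 ≤ irrDeg η := h2
          _ ≤ c η * irrDeg η := Nat.le_mul_of_pos_left _ h1
      have h4 : c η * irrDeg η ≤ R :=
        Finset.single_le_sum (f := fun η => c η * irrDeg η) (fun _ _ => Nat.zero_le _) hη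
      omega
    have hR0 : R = 0 := by
      apply Finset.sum_eq_zero
      intro η hη
      rw [hrest η hη, zero_mul]
    have hprod : c Θ * irrDeg Θ = 3 := by omega
    have hcΘ1 : c Θ = 1 ∧ irrDeg Θ = 3 := by
      have h1 : c Θ ∣ 3 := Dvd.intro _ hprod
      have h2 : c Θ = 1 ∨ c Θ = 3 := (Nat.dvd_prime Nat.prime_three).mp h1
      rcases h2 with h | h
      · rw [h, one_mul] at hprod
        exact ⟨h, hprod⟩
      · rw [h] at hprod
        omega
    refine ⟨Θ, hcΘ1.2, ?_⟩
    intro g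
    have h1 := hpt' g
    rw [hc1, hcf0, hcg] at h1
    have h2 : ∑ η ∈ S, (c η : ℂ) * (η : G → ℂ) g = (Θ : G → ℂ) g := by
      rw [← Finset.add_sum_erase S (fun η => (c η : ℂ) * (η : G → ℂ) g) hΘS, hcΘ1.1]
      have h3 : ∑ η ∈ S.erase Θ, (c η : ℂ) * (η : G → ℂ) g = 0 := by
        apply Finset.sum_eq_zero
        intro η hη
        rw [hrest η hη]
        simp
      rw [h3]
      simp
    rw [h2] at h1
    show F g = _
    rw [h1]
    push_cast
    ring

end Cfsg.Agent.S4501P
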