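import Mathlib
import Cfsg.Agent.Helper1.S4503Defs

/-!
# S4504 (Brauer: a faithful character of degree `(p - 1)/2`, `p ∥ |G|`, no normal subgroup of order
`p` ⇒ `G/Z(G) ≅ PSL(2,p)`): shared definitions of the characteristic-zero half

Notation as in S4503: `|P| = p`, `C = C_G(P)`, `N = N_G(P)`, `f = fN P = |N : C|`.
-/

set_option autoImplicit false

namespace Cfsg.Agent.S4504P

open Cfsg Cfsg.Agent.Helper24 Cfsg.Agent.Helper8.D1 Cfsg.Agent.S4705P Cfsg.Agent.S4503P
open scoped ComplexConjugate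

universe u

variable {G : Type u} [Group G] [Finite G]

/-- The data attached to a faithful irreducible character `ψ` of degree `≤ (p - 1)/2` when the
Sylow subgroup `P` of order `p` is not normal (the S4503 structure `PsiData` without the strict
inequality `2f + 1 < p`, and with the degree equation `ψ(1) = f·θ(1)`). -/
structure PsiDataLe (p : ℕ) (P : Sylow p G) (ψ : IrrCharacter G) where
  ψ₂ : IrrCharacter G
  θ : IrrCharacter (Subgroup.centralizer ((P : Subgroup G) : Set G))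
  hf2 : 2 ≤ fN (P : Subgroup G)
  hdegψ : irrDeg ψ = fN (P : Subgroup G) * irrDeg θ
  reg : ∀ g : G, ¬ p ∣ orderOf g → (ψ₂ : G → ℂ) g = (ψ : G → ℂ) g
  L11_one : multN (Subgroup.centralizer ((P : Subgroup G) : Set G)) (triv _)
    (mulConj (ψ : G → ℂ) (ψ : G → ℂ)) = fN (P : Subgroup G)
  L12_one : multN (Subgroup.centralizer ((P : Subgroup G) : Set G)) (triv _)
    (mulConj (ψ : G → ℂ) (ψ₂ : G → ℂ)) = 0
  L11_sum : ∑ᶠ ν ∈ {ν : Subgroup.centralizer ((P : Subgroup G) : Set G) → ℂ | IsPLin p ν},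
    multN (Subgroup.centralizer ((P : Subgroup G) : Set G)) ν (mulConj (ψ : G → ℂ) (ψ : G → ℂ))
      ≤ fN (P : Subgroup G) ^ 2
  L12_sum : ∑ᶠ ν ∈ {ν : Subgroup.centralizer ((P : Subgroup G) : Set G) → ℂ | IsPLin p ν},
    multN (Subgroup.centralizer ((P : Subgroup G) : Set G)) ν (mulConj (ψ : G → ℂ) (ψ₂ : G → ℂ)) =
    ∑ᶠ ν ∈ {ν : Subgroup.centralizer ((P : Subgroup G) : Set G) → ℂ | IsPLin p ν},
      multN (Subgroup.centralizer ((P : Subgroup G) : Set G)) ν (mulConj (ψ : G → ℂ) (ψ : G → ℂ))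
  orthP : ∑ᶠ x : (P : Subgroup G), (ψ : G → ℂ) (x : G) * conj ((ψ₂ : G → ℂ) (x : G)) = 0

end Cfsg.Agent.S4504P
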