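import Mathlib
import Cfsg.Agent.Helper20.S4504Defs
import Cfsg.Agent.Helper24.Abelian

/-!
# S4504, piece FVAL: `f = (p - 1)/2`
-/

set_option autoImplicit false
set_option linter.unusedSectionVars false
set_option linter.unusedVariables false

namespace Cfsg.Agent.S4504P

open Cfsg Cfsg.Agent.Helper24 Cfsg.Agent.Helper8.D1 Cfsg.Agent.S4705P Cfsg.Agent.S4503P
open scoped ComplexConjugate

universe u

variable {G : Type u} [Group G] [Finite G]

/-- **FVAL**: `f = (p - 1)/2`. -/
theorem two_mul_fN_add_one (p : ℕ) [Fact p.Prime] (P : Sylow p G) (hP : Nat.card P = p)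
    (hC : Subgroup.centralizer ((P : Subgroup G) : Set G) = (P : Subgroup G) ⊔ Subgroup.center G)
    (ψ : IrrCharacter G) (D : PsiDataLe p P ψ) (hdeg : 2 * irrDeg ψ + 1 = p) :
    2 * fN (P : Subgroup G) + 1 = p := by
  have hcomm : ∀ a b : Subgroup.centralizer ((P : Subgroup G) : Set G), a * b = b * a := by
    intro a b
    apply Subtype.ext
    show (a : G) * (b : G) = (b : G) * (a : G)
    have hb : (b : G) ∈ (P : Subgroup G) ⊔ Subgroup.center G := hC ▸ b.2
    obtain ⟨y, hy, z, hz, hyz⟩ := Subgroup.mem_sup_of_normal_right.mp hb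
    have ha := Subgroup.mem_centralizer_iff.mp a.2
    have h1 : y * (a : G) = (a : G) * y := ha y hy
    have h2 : z * (a : G) = (a : G) * z := (Subgroup.mem_center_iff.mp hz (a : G)).symm
    rw [← hyz]
    calc (a : G) * (y * z) = ((a : G) * y) * z := by group
      _ = (y * (a : G)) * z := by rw [h1]
      _ = y * ((a : G) * z) := by group
      _ = y * (z * (a : G)) := by rw [h2]
      _ = y * z * (a : G) := by group
  have hθ1 : irrDeg D.θ = 1 :=
    (irrDeg_eq_one_iff D.θ).mpr (comm_iff_forall_irr_one.mp hcomm D.θ)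
  have h := D.hdegψ
  rw [hθ1, mul_one] at h
  rw [← h]
  exact hdeg

end Cfsg.Agent.S4504P
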