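import Mathlib
import Cfsg.Agent.Helper1.S4503Main

/-!
# S4504, piece IRRLE: a faithful character of degree `≤ (p - 1)/2` of a group whose order is
divisible by `p` exactly once is irreducible, or the group has a normal subgroup of order `p`.
-/

set_option autoImplicit false

namespace Cfsg.Agent.S4504P

open Cfsg Cfsg.Agent.Helper24 Cfsg.Agent.S4503P Cfsg.Agent.Helper24.S4503GIRR

universe u

variable {G : Type u} [Group G] [Finite G]

/-- **IRRLE** -/
theorem irr_or_normal_le (p : ℕ) (hp : p.Prime) (hdiv : p ∣ Nat.card G)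
    (hsq : ¬ p ^ 2 ∣ Nat.card G) (χ : G → ℂ) (hχ : IsCharacter G χ)
    (hfaith : ∀ g : G, χ g = χ 1 → g = 1) (hdeg : 2 * charDegree χ + 1 ≤ p) :
    (∃ H : Subgroup G, H.Normal ∧ Nat.card H = p) ∨ IsIrrCharacter G χ := by
  classical
  obtain ⟨m, hm⟩ := isCharacter_iff_exists_multiset.mp hχ
  have hdegm : charDegree χ = (m.map irrDeg).sum := by rw [hm, charDegree_multiset_sum]
  -- the case of a single constituent
  by_cases hcard : Multiset.card m = 1
  · right
    obtain ⟨ψ, rfl⟩ := Multiset.card_eq_one.mp hcard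
    rw [hm]
    simp only [Multiset.map_singleton, Multiset.sum_singleton]
    exact ψ.2
  left
  by_cases hcard0 : Multiset.card m = 0
  · -- `χ = 0`: the group is trivial
    exfalso
    rw [Multiset.card_eq_zero] at hcard0
    have hχ0 : χ = 0 := by rw [hm, hcard0]; simp
    have htriv : ∀ g : G, g = 1 := fun g => hfaith g (by rw [hχ0]; rfl)
    have hsub : Subsingleton G := ⟨fun a b => (htriv a).trans (htriv b).symm⟩
    have : Nat.card G = 1 := Nat.card_unique
    rw [this] at hdiv
    exact hp.one_lt.ne' (Nat.dvd_one.mp hdiv)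
  have hcard2 : 2 ≤ Multiset.card m := by omega
  -- every constituent has a strictly smaller degree
  have hlt : ∀ ψ ∈ m, irrDeg ψ < charDegree χ := by
    intro ψ hψ
    obtain ⟨m', rfl⟩ := Multiset.exists_cons_of_mem hψ
    rw [hdegm, Multiset.map_cons, Multiset.sum_cons]
    have hm'pos : 0 < Multiset.card m' := by
      rw [Multiset.card_cons] at hcard2
      omega
    obtain ⟨ψ', hψ'⟩ := Multiset.card_pos_iff_exists_mem.mp hm'pos
    have h1 : irrDeg ψ' ≤ (m'.map irrDeg).sum :=
      Multiset.le_sum_of_mem (Multiset.mem_map_of_mem irrDeg hψ')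
    have h2 := irrDeg_pos ψ'
    omega
  by_cases hex : ∃ ψ ∈ m, ∀ g : G, (ψ : G → ℂ) g = (ψ : G → ℂ) 1 → g = 1
  · obtain ⟨ψ, hψm, hψf⟩ := hex
    have h1 := hlt ψ hψm
    exact goal G p hp hdiv hsq (ψ : G → ℂ) (IsIrrCharacter.isCharacter ψ.2) hψf
      (by rw [charDegree_irr]; omega)
  · push Not at hex
    have ih : ∀ (H : Type u) [Group H] [Finite H], Nat.card H < Nat.card G → Goal H :=
      fun H _ _ _ => goal H
    have hB : ∀ ψ ∈ m, ∃ L : Subgroup G, L.Normal ∧ (∀ (x : G) (k : ℕ), x ^ (p ^ k) = 1 → x ∈ L) ∧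
        ∀ x ∈ L, (orderOf x).Coprime p → (ψ : G → ℂ) x = (ψ : G → ℂ) 1 := by
      intro ψ hψ
      obtain ⟨g, hg, hg1⟩ := hex ψ hψ
      have := hlt ψ hψ
      exact girr_step ih p hp hsq ψ ⟨g, hg, hg1⟩ (by omega)
    choose! L hL using hB
    let M : Subgroup G := ⨅ ψ : {ψ : IrrCharacter G // ψ ∈ m}, L ψ.1
    have hMn : M.Normal := Subgroup.normal_iInf_normal (fun ψ => (hL ψ.1 ψ.2).1)
    have hMp : ∀ (x : G) (k : ℕ), x ^ (p ^ k) = 1 → x ∈ M := by
      intro x k hx
      exact Subgroup.mem_iInf.2 (fun ψ => (hL ψ.1 ψ.2).2.1 x k hx)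
    have hMreg : ∀ x ∈ M, (orderOf x).Coprime p → x = 1 := by
      intro x hx hcop
      apply hfaith
      rw [hm, multiset_sum_apply, multiset_sum_apply]
      refine congrArg Multiset.sum (Multiset.map_congr rfl ?_)
      intro ψ hψ
      exact (hL ψ hψ).2.2 x (Subgroup.mem_iInf.1 hx ⟨ψ, hψ⟩) hcop
    have hMpg : IsPGroup p M := by
      intro x
      have hn : orderOf (x : G) ≠ 0 := (orderOf_pos (x : G)).ne'
      refine ⟨(orderOf (x : G)).factorization p, ?_⟩
      set a := (orderOf (x : G)).factorization p with ha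
      have hy : ((x : G) ^ (p ^ a)) ∈ M := Subgroup.pow_mem M x.2 _
      have hord : orderOf ((x : G) ^ (p ^ a)) = orderOf (x : G) / p ^ a := by
        rw [orderOf_pow' (x : G) (pow_pos hp.pos a).ne']
        congr 1
        exact Nat.gcd_eq_right (Nat.ordProj_dvd _ _)
      have hcop : (orderOf ((x : G) ^ (p ^ a))).Coprime p := by
        rw [hord]
        exact (Nat.coprime_ordCompl hp hn).symm
      have := hMreg _ hy hcop
      apply Subtype.ext
      simpa using this
    have : Fact p.Prime := ⟨hp⟩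
    obtain ⟨k, hk⟩ := IsPGroup.exists_card_eq hMpg
    obtain ⟨x, hx⟩ := exists_prime_orderOf_dvd_card' p hdiv
    have hxM : x ∈ M := hMp x 1 (by rw [pow_one, ← hx, pow_orderOf_eq_one])
    have hpM : p ∣ Nat.card M := by
      rw [← hx]
      exact Subgroup.orderOf_dvd_natCard M hxM
    have hk1 : 1 ≤ k := by
      rcases Nat.eq_zero_or_pos k with h0 | h0
      · rw [hk, h0, pow_zero] at hpM
        exact absurd (Nat.le_of_dvd one_pos hpM) (by have := hp.two_le; omega)
      · exact h0
    have hk2 : k ≤ 1 := by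
      by_contra hcon
      apply hsq
      have h2 : 2 ≤ k := by omega
      exact (pow_dvd_pow p h2).trans (hk ▸ Subgroup.card_subgroup_dvd_card M)
    refine ⟨M, hMn, ?_⟩
    rw [hk, le_antisymm hk2 hk1, pow_one]

end Cfsg.Agent.S4504P
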