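import Mathlib
import Cfsg.Agent.Helper20.S4504Defs
import Cfsg.Agent.Helper1.S4503Main

/-!
# S4504, piece VCENTa: the `p`-regular elements of `C_G(P)` are central
-/

set_option autoImplicit false
set_option linter.unusedSectionVars false
set_option linter.unusedVariables false
set_option linter.style.haveILetI false

namespace Cfsg.Agent.S4504P

open Cfsg Cfsg.Agent.Helper24 Cfsg.Agent.Helper8.D1 Cfsg.Agent.S4705P Cfsg.Agent.S4503P
open scoped ComplexConjugate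

universe u

variable {G : Type u} [Group G] [Finite G]

namespace VCENTa

/-- the order of `G` is divisible by `p` exactly once when a Sylow subgroup has order `p` -/
theorem not_sq_dvd_card (p : ℕ) [Fact p.Prime] (P : Sylow p G) (hP : Nat.card P = p) :
    ¬ p ^ 2 ∣ Nat.card G := by
  have hp : p.Prime := Fact.out
  intro h
  have h0 : Nat.card G ≠ 0 := Nat.card_pos.ne'
  have h2 : 2 ≤ (Nat.card G).factorization p := (hp.pow_dvd_iff_le_factorization h0).mp h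
  have h3 := P.card_eq_multiplicity
  rw [hP] at h3
  have h4 : p ^ 1 < p ^ (Nat.card G).factorization p :=
    Nat.pow_lt_pow_right hp.one_lt (by omega)
  rw [pow_one, ← h3] at h4
  exact lt_irrefl _ h4

/-- a normal subgroup of `G` of order divisible by `p` contains the Sylow subgroup `P` of order
`p` -/
theorem le_of_dvd_card (p : ℕ) [Fact p.Prime] (P : Sylow p G) (hP : Nat.card P = p)
    (K : Subgroup G) (hKn : K.Normal) (hdvd : p ∣ Nat.card K) : (P : Subgroup G) ≤ K := by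
  have hp : p.Prime := Fact.out
  have hidx : ¬ p ∣ K.index := by
    intro h
    apply not_sq_dvd_card p P hP
    rw [← Subgroup.index_mul_card K, pow_two]
    exact Nat.mul_dvd_mul h hdvd
  intro x hx
  have h1 : orderOf x ∣ p := by
    have := Subgroup.orderOf_dvd_natCard (P : Subgroup G) hx
    rwa [hP] at this
  have h2 : orderOf ((QuotientGroup.mk' K) x) ∣ orderOf x := orderOf_map_dvd _ x
  have h3 : orderOf ((QuotientGroup.mk' K) x) ∣ K.index := by
    rw [Subgroup.index_eq_card]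
    exact orderOf_dvd_natCard _
  have hcop : Nat.Coprime p K.index := (Nat.Prime.coprime_iff_not_dvd hp).mpr hidx
  have h4 : orderOf ((QuotientGroup.mk' K) x) = 1 :=
    Nat.eq_one_of_dvd_coprimes hcop (h2.trans h1) h3
  exact (QuotientGroup.eq_one_iff x).mp (orderOf_eq_one_iff.mp h4)

end VCENTa

section final

variable (p : ℕ) [Fact p.Prime] (P : Sylow p G)

local notation "CC" => Subgroup.centralizer ((P : Subgroup G) : Set G)
local notation "NN" => Subgroup.normalizer ((P : Subgroup G) : Set G)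

/-- **VCENTa**: the `p`-regular elements of `C_G(P)` are central. -/
theorem regular_central_le (hP : Nat.card P = p)
    (hK : ∀ K : Subgroup G, K.Normal → ¬ p ∣ Nat.card K → K ≤ Subgroup.center G)
    (ψ : IrrCharacter G) (D : PsiDataLe p P ψ) :
    ∀ c ∈ Subgroup.centralizer ((P : Subgroup G) : Set G), ¬ p ∣ orderOf c →
      c ∈ Subgroup.center G := by
  classical
  obtain ⟨B⟩ := exists_b0Data p P hP
  haveI : Fintype (IrrCharacter G) := Fintype.ofFinite _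
  haveI hfinΛ : Finite {ν : CC → ℂ // NT p ν} := finite_NT p P hP
  haveI : Fintype {ν : CC → ℂ // NT p ν} := Fintype.ofFinite _
  set f : ℕ := fN (P : Subgroup G) with hf
  have hf2 : 2 ≤ f := D.hf2
  have hchar11 : IsCharacter G (mulConj (ψ : G → ℂ) (ψ : G → ℂ)) :=
    isCharacter_mulConj _ _ (IsIrrCharacter.isCharacter ψ.2) (IsIrrCharacter.isCharacter ψ.2)
  have hchar12 : IsCharacter G (mulConj (ψ : G → ℂ) (D.ψ₂ : G → ℂ)) :=
    isCharacter_mulConj _ _ (IsIrrCharacter.isCharacter ψ.2) (IsIrrCharacter.isCharacter D.ψ₂.2)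
  have hirrν : ∀ ν : {ν : CC → ℂ // NT p ν}, IsIrrCharacter CC ν.1 :=
    fun ν => isIrrCharacter_of_isPLin p P ν.1 ν.2.1
  have hirr1 : IsIrrCharacter CC (triv CC) := isIrrCharacter_triv _
  -- the data for the core
  let Ψ : {ν : CC → ℂ // NT p ν} → IrrCharacter G := fun ν => B.Ψ ν.1
  let a₁ : IrrCharacter G → ℕ := fun χ => multN CC (triv CC) (χ : G → ℂ)
  let a : IrrCharacter G → {ν : CC → ℂ // NT p ν} → ℕ := fun χ ν => multN CC ν.1 (χ : G → ℂ)
  let m₂ : IrrCharacter G → ℕ := fun χ => ipN (mulConj (ψ : G → ℂ) (D.ψ₂ : G → ℂ)) (χ : G → ℂ)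
  let L₁ : {ν : CC → ℂ // NT p ν} → ℕ := fun ν => multN CC ν.1 (mulConj (ψ : G → ℂ) (ψ : G → ℂ))
  let L₂ : {ν : CC → ℂ // NT p ν} → ℕ :=
    fun ν => multN CC ν.1 (mulConj (ψ : G → ℂ) (D.ψ₂ : G → ℂ))
  have hcardΛ : Fintype.card {ν : CC → ℂ // NT p ν} = p - 1 := by
    rw [← Nat.card_eq_fintype_card]
    exact card_NT p P hP
  haveI : Nonempty {ν : CC → ℂ // NT p ν} := by
    have hp2 := (Fact.out : p.Prime).two_le
    apply Fintype.card_pos_iff.mp
    omega
  have hΨX : ∀ ν, Ψ ν ∉ B.X := fun ν => B.Ψ_notX ν.1 ν.2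
  have ha_exc : ∀ ν, (a (Ψ ν) ν : ℤ) - a₁ (Ψ ν) = B.ε := fun ν => B.dnum_exc ν.1 ν.2
  have ha : ∀ ν χ, χ ≠ Ψ ν → (a χ ν : ℤ) - a₁ χ = B.w χ := fun ν χ h => B.dnum ν.1 ν.2 χ h
  have hL₂ : ∀ ν, ∑ χ, m₂ χ * a χ ν = L₂ ν := by
    intro ν
    rw [← finsum_eq_sum_of_fintype]
    exact sum_ipN_mul_multN CC ν.1 (hirrν ν) _ hchar12
  have hm₂a₁ : ∑ χ, m₂ χ * a₁ χ = 0 := by
    rw [← finsum_eq_sum_of_fintype]
    rw [show (∑ᶠ χ : IrrCharacter G, m₂ χ * a₁ χ) = _ from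
      sum_ipN_mul_multN CC (triv CC) hirr1 _ hchar12]
    exact D.L12_one
  have hsplit1 := finsum_isPLin_eq p P hP
    (fun ν => multN CC ν (mulConj (ψ : G → ℂ) (ψ : G → ℂ)))
  have hsplit2 := finsum_isPLin_eq p P hP
    (fun ν => multN CC ν (mulConj (ψ : G → ℂ) (D.ψ₂ : G → ℂ)))
  have hS : ∑ ν, L₂ ν = ∑ ν, L₁ ν + f := by
    have h := D.L12_sum
    rw [hsplit1, hsplit2] at h
    rw [D.L12_one, D.L11_one] at h
    show ∑ ν : {ν : CC → ℂ // NT p ν}, multN CC ν.1 (mulConj (ψ : G → ℂ) (D.ψ₂ : G → ℂ)) = _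
    rw [zero_add] at h
    rw [h]
    exact add_comm _ _
  have hS₂pos : 0 < ∑ ν, L₂ ν := by omega
  -- a constituent `χ₁` of `ψ ψ̄₂` in the principal block
  obtain ⟨χ₁, hχ₁B, hχ₁pos⟩ := Core.exists_constituent B.X Ψ B.ε B.w a₁ a m₂ L₂ hΨX B.w_X B.w_notX
    ha_exc ha hL₂ hm₂a₁ hS₂pos
  have hχ₁B' : χ₁ ∈ B.X ∨ ∃ μ, NT p μ ∧ χ₁ = B.Ψ μ := by
    rcases hχ₁B with h | ⟨ν, h⟩
    · exact Or.inl h
    · exact Or.inr ⟨ν.1, ν.2, h⟩
  have hχ₁P : ∑ᶠ x : (P : Subgroup G), (χ₁ : G → ℂ) (x : G) = 0 :=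
    sum_subgroup_eq_zero_of_constituent (P : Subgroup G) _ hchar12 D.orthP χ₁ hχ₁pos
  -- the kernel of `χ₁`
  obtain ⟨K, hKn, hKmem, -⟩ := exists_kernel_quotient χ₁
  have hp : p.Prime := Fact.out
  have hPK : ¬ (P : Subgroup G) ≤ K := by
    intro hle
    have hsum : ∑ᶠ x : (P : Subgroup G), (χ₁ : G → ℂ) (x : G) = (p : ℂ) * (χ₁ : G → ℂ) 1 := by
      have hfun : (fun x : (P : Subgroup G) => (χ₁ : G → ℂ) (x : G)) =
          fun _ => (χ₁ : G → ℂ) 1 := by
        funext x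
        exact (hKmem _).mp (hle x.2)
      have : Fintype (P : Subgroup G) := Fintype.ofFinite _
      rw [hfun, finsum_eq_sum_of_fintype, Finset.sum_const, Finset.card_univ,
        ← Nat.card_eq_fintype_card, hP, nsmul_eq_mul]
    rw [hsum, irrDeg_spec] at hχ₁P
    have h1 : (p : ℂ) ≠ 0 := by exact_mod_cast hp.ne_zero
    have h2 : (irrDeg χ₁ : ℂ) ≠ 0 := by exact_mod_cast (irrDeg_pos χ₁).ne'
    exact (mul_ne_zero h1 h2) hχ₁P
  have hKp : ¬ p ∣ Nat.card K := fun h => hPK (VCENTa.le_of_dvd_card p P hP K hKn h)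
  have hKZ : K ≤ Subgroup.center G := hK K hKn hKp
  intro c hc hpc
  exact hKZ ((hKmem c).mpr (B.ker χ₁ hχ₁B' hχ₁P c hc hpc))

end final

end Cfsg.Agent.S4504P
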