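import Mathlib
import Cfsg.Agent.Helper20.S4504Defs
import Cfsg.Agent.Helper20.S4504PDATA
import Cfsg.Agent.Helper20.S4504IRRLE
import Cfsg.Agent.Helper20.S4504VCENTa

/-!
# S4504, piece LEMA: a `p`-nilpotent group `G = P K` with `|P| = p` and a faithful character of
degree `≤ (p - 1)/2` has `P` normal
-/

set_option autoImplicit false
set_option linter.unusedSectionVars false

namespace Cfsg.Agent.S4504P

open Cfsg Cfsg.Agent.Helper24 Cfsg.Agent.Helper8.D1 Cfsg.Agent.S4705P Cfsg.Agent.S4503P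
open scoped ComplexConjugate

universe u

variable {G : Type u} [Group G] [Finite G]

namespace LEMA

/-- a subgroup of prime order is commutative -/
theorem comm_of_card_prime (p : ℕ) [Fact p.Prime] (P : Subgroup G) (hP : Nat.card P = p)
    (x y : G) (hx : x ∈ P) (hy : y ∈ P) : x * y = y * x := by
  have hcyc : IsCyclic P := isCyclic_of_prime_card hP
  have hc : IsMulCommutative P := IsCyclic.isMulCommutative
  have := hc.is_comm.comm (⟨x, hx⟩ : P) ⟨y, hy⟩
  exact congrArg Subtype.val this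

/-- a Sylow subgroup of order `p` and a `p'`-subgroup meet trivially -/
theorem inf_eq_bot (p : ℕ) [Fact p.Prime] (P : Subgroup G) (hP : Nat.card P = p)
    (K : Subgroup G) (hKp : ¬ p ∣ Nat.card K) : P ⊓ K = ⊥ := by
  refine (Subgroup.disjoint_of_coprime_natCard ?_).eq_bot
  rw [hP]
  exact (Nat.Prime.coprime_iff_not_dvd Fact.out).mpr hKp

/-- in a `p`-nilpotent group with `|P| = p` the normalizer of `P` centralizes `P` -/
theorem normalizer_le_centralizer (p : ℕ) [Fact p.Prime] (P : Subgroup G) (hP : Nat.card P = p)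
    (K : Subgroup G) (hKn : K.Normal) (hKp : ¬ p ∣ Nat.card K) (hPK : P ⊔ K = ⊤) :
    Subgroup.normalizer (P : Set G) ≤ Subgroup.centralizer (P : Set G) := by
  intro n hn
  rw [Subgroup.mem_centralizer_iff]
  intro x hx
  have hx' : x ∈ P := hx
  have hntop : n ∈ P ⊔ K := by rw [hPK]; exact Subgroup.mem_top n
  obtain ⟨y, hy, k, hk, rfl⟩ := Subgroup.mem_sup_of_normal_right.mp hntop
  -- `k` normalizes `P`
  have hkN : k ∈ Subgroup.normalizer (P : Set G) := by
    have hyN : y ∈ Subgroup.normalizer (P : Set G) := Subgroup.le_normalizer hy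
    have : k = y⁻¹ * (y * k) := by group
    rw [this]
    exact Subgroup.mul_mem _ (Subgroup.inv_mem _ hyN) hn
  -- the commutator `k x k⁻¹ x⁻¹` lies in `P ⊓ K`
  have h1 : k * x * k⁻¹ ∈ P := (Subgroup.mem_normalizer_iff.mp hkN x).mp hx'
  have h2 : k * x * k⁻¹ * x⁻¹ ∈ P := Subgroup.mul_mem _ h1 (Subgroup.inv_mem _ hx')
  have h3 : k * x * k⁻¹ * x⁻¹ ∈ K := by
    have : k * x * k⁻¹ * x⁻¹ = k * (x * k⁻¹ * x⁻¹) := by group
    rw [this]
    exact Subgroup.mul_mem _ hk (hKn.conj_mem _ (Subgroup.inv_mem _ hk) x)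
  have h4 : k * x * k⁻¹ * x⁻¹ ∈ P ⊓ K := ⟨h2, h3⟩
  rw [inf_eq_bot p P hP K hKp, Subgroup.mem_bot] at h4
  have hkx : k * x = x * k := by
    have : k * x = (k * x * k⁻¹ * x⁻¹) * (x * k) := by group
    rw [this, h4, one_mul]
  have hyx : y * x = x * y := comm_of_card_prime p P hP y x hy hx'
  calc x * (y * k) = (x * y) * k := by group
    _ = (y * x) * k := by rw [hyx]
    _ = y * (x * k) := by group
    _ = y * (k * x) := by rw [hkx]
    _ = y * k * x := by group

end LEMA

/-- **LEMA**: a group `G = P K` with a normal `p`-complement `K`, `|P| = p`, and a faithful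
character of degree `≤ (p-1)/2` has `P` normal. -/
theorem normal_of_complement (p : ℕ) [Fact p.Prime] (P : Sylow p G) (hP : Nat.card P = p)
    (K : Subgroup G) (hKn : K.Normal) (hKp : ¬ p ∣ Nat.card K)
    (hPK : (P : Subgroup G) ⊔ K = ⊤)
    (χ : G → ℂ) (hχ : IsCharacter G χ) (hfaith : ∀ g : G, χ g = χ 1 → g = 1)
    (hdeg : 2 * charDegree χ + 1 ≤ p) : (P : Subgroup G).Normal := by
  by_contra hnn
  have hp : p.Prime := Fact.out
  have hsq := VCENTa.not_sq_dvd_card p P hP
  have hdiv : p ∣ Nat.card G := by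
    have := Subgroup.card_subgroup_dvd_card (P : Subgroup G)
    rwa [hP] at this
  rcases irr_or_normal_le p hp hdiv hsq χ hχ hfaith hdeg with ⟨H, hHn, hHc⟩ | hirr
  · -- a normal subgroup of order `p` is `P`
    have hle : (P : Subgroup G) ≤ H :=
      VCENTa.le_of_dvd_card p P hP H hHn (by rw [hHc])
    have heq : (P : Subgroup G) = H :=
      Subgroup.eq_of_le_of_card_ge hle (by rw [hHc, hP])
    exact hnn (heq ▸ hHn)
  · set ψ : IrrCharacter G := ⟨χ, hirr⟩ with hψ
    have hdegψ : 2 * irrDeg ψ + 1 ≤ p := by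
      rw [← charDegree_irr]
      exact hdeg
    obtain ⟨D⟩ := exists_psiDataLe p P hP hnn ψ hfaith hdegψ
    have hf2 := D.hf2
    have hf1 : fN (P : Subgroup G) = 1 := by
      unfold fN
      rw [Subgroup.relIndex_eq_one]
      exact LEMA.normalizer_le_centralizer p (P : Subgroup G) hP K hKn hKp hPK
    omega

end Cfsg.Agent.S4504P
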