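import Mathlib
import Cfsg.Agent.Helper20.S4504LEMA
import Cfsg.Agent.Helper8.CharComp

/-!
# S4504, piece PCENTa: a normal `p'`-subgroup centralizes the Sylow subgroup `P` of order `p`
(in a group with a faithful character of degree `≤ (p - 1)/2`)
-/

set_option autoImplicit false
set_option linter.unusedSectionVars false

namespace Cfsg.Agent.S4504P

open Cfsg Cfsg.Agent.Helper24 Cfsg.Agent.Helper8.D1 Cfsg.Agent.S4705P Cfsg.Agent.S4503P
open scoped ComplexConjugate

universe u

variable {G : Type u} [Group G] [Finite G]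

/-- **PCENTa**: a normal `p'`-subgroup centralizes `P`. -/
theorem le_centralizer_of_normal (p : ℕ) [Fact p.Prime] (P : Sylow p G) (hP : Nat.card P = p)
    (χ : G → ℂ) (hχ : IsCharacter G χ) (hfaith : ∀ g : G, χ g = χ 1 → g = 1)
    (hdeg : 2 * charDegree χ + 1 ≤ p)
    (K : Subgroup G) (hKn : K.Normal) (hKp : ¬ p ∣ Nat.card K) :
    K ≤ Subgroup.centralizer ((P : Subgroup G) : Set G) := by
  set H : Subgroup G := (P : Subgroup G) ⊔ K with hH
  have hPH : (P : Subgroup G) ≤ H := le_sup_left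
  have hKH : K ≤ H := le_sup_right
  -- the data in the group `↥H`
  set P' : Sylow p H := P.subtype hPH with hP'
  have hP'coe : (P' : Subgroup H) = (P : Subgroup G).subgroupOf H := Sylow.coe_subtype P hPH
  have hP'card : Nat.card P' = p := by
    have h1 : Nat.card (P' : Subgroup H) = Nat.card ((P : Subgroup G).subgroupOf H) := by
      rw [hP'coe]
    have h2 : Nat.card ((P : Subgroup G).subgroupOf H) = Nat.card (P : Subgroup G) :=
      Nat.card_congr (Subgroup.subgroupOfEquivOfLe hPH).toEquiv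
    exact h1.trans (h2.trans hP)
  set K' : Subgroup H := K.subgroupOf H with hK'
  have hK'n : K'.Normal := Subgroup.normal_subgroupOf
  have hK'card : Nat.card K' = Nat.card K :=
    Nat.card_congr (Subgroup.subgroupOfEquivOfLe hKH).toEquiv
  have hK'p : ¬ p ∣ Nat.card K' := by rw [hK'card]; exact hKp
  have hsup : (P' : Subgroup H) ⊔ K' = ⊤ := by
    rw [hP'coe, hK', ← Subgroup.subgroupOf_sup hPH hKH, ← hH, Subgroup.subgroupOf_self]
  have hχ' : IsCharacter H (fun h : H => χ h) := Cfsg.Agent.Helper8.isCharacter_restrict H hχ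
  have hfaith' : ∀ h : H, (fun h : H => χ h) h = (fun h : H => χ h) 1 → h = 1 := by
    intro h hh
    apply Subtype.ext
    exact hfaith (h : G) hh
  have hdeg' : 2 * charDegree (fun h : H => χ h) + 1 ≤ p := hdeg
  have hnorm : (P' : Subgroup H).Normal :=
    normal_of_complement p P' hP'card K' hK'n hK'p hsup _ hχ' hfaith' hdeg'
  rw [hP'coe, Subgroup.normal_subgroupOf_iff_le_normalizer hPH] at hnorm
  -- every element of `K` normalizes `P`, hence centralizes it
  intro k hk
  rw [Subgroup.mem_centralizer_iff]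
  intro x hx
  have hx' : x ∈ (P : Subgroup G) := hx
  have hkN : k ∈ Subgroup.normalizer ((P : Subgroup G) : Set G) := hnorm (hKH hk)
  have h1 : k * x * k⁻¹ ∈ (P : Subgroup G) := (Subgroup.mem_normalizer_iff.mp hkN x).mp hx'
  have h2 : k * x * k⁻¹ * x⁻¹ ∈ (P : Subgroup G) :=
    Subgroup.mul_mem _ h1 (Subgroup.inv_mem _ hx')
  have h3 : k * x * k⁻¹ * x⁻¹ ∈ K := by
    have : k * x * k⁻¹ * x⁻¹ = k * (x * k⁻¹ * x⁻¹) := by group
    rw [this]
    exact Subgroup.mul_mem _ hk (hKn.conj_mem _ (Subgroup.inv_mem _ hk) x)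
  have h4 : k * x * k⁻¹ * x⁻¹ ∈ (P : Subgroup G) ⊓ K := ⟨h2, h3⟩
  rw [LEMA.inf_eq_bot p (P : Subgroup G) hP K hKp, Subgroup.mem_bot] at h4
  have : k * x = (k * x * k⁻¹ * x⁻¹) * (x * k) := by group
  rw [this, h4, one_mul]

end Cfsg.Agent.S4504P
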