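import Mathlib
import Cfsg.Agent.Helper20.S4504IRRLE
import Cfsg.Agent.Helper20.S4504VCENTa
import Cfsg.Agent.Helper8.CharComp

/-!
# S4504, piece PCENTb: the restriction of the faithful irreducible character `ψ` of degree
`≤ (p - 1)/2` to the normal closure of the (non-normal) Sylow subgroup `P` of order `p` is
irreducible
-/

set_option autoImplicit false
set_option linter.unusedSectionVars false

namespace Cfsg.Agent.S4504P

open Cfsg Cfsg.Agent.Helper24 Cfsg.Agent.Helper8.D1 Cfsg.Agent.S4705P Cfsg.Agent.S4503P
open scoped ComplexConjugate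

universe u

variable {G : Type u} [Group G] [Finite G]

/-- **PCENTb**: the restriction of `ψ` to the normal closure of `P` is irreducible. -/
theorem irr_restrict_normalClosure (p : ℕ) [Fact p.Prime] (P : Sylow p G) (hP : Nat.card P = p)
    (hnn : ¬ (P : Subgroup G).Normal) (ψ : IrrCharacter G)
    (hfaith : ∀ g : G, (ψ : G → ℂ) g = (ψ : G → ℂ) 1 → g = 1)
    (hdeg : 2 * irrDeg ψ + 1 ≤ p) :
    IsIrrCharacter (Subgroup.normalClosure ((P : Subgroup G) : Set G))
      (fun m => (ψ : G → ℂ) (m : G)) := by
  have hp : p.Prime := Fact.out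
  set M : Subgroup G := Subgroup.normalClosure ((P : Subgroup G) : Set G) with hM
  have hMn : M.Normal := Subgroup.normalClosure_normal
  have hPM : (P : Subgroup G) ≤ M := Subgroup.le_normalClosure
  have hdiv : p ∣ Nat.card M := by
    have := Subgroup.card_dvd_of_le hPM
    rwa [hP] at this
  have hsq : ¬ p ^ 2 ∣ Nat.card M := fun h =>
    VCENTa.not_sq_dvd_card p P hP (h.trans (Subgroup.card_subgroup_dvd_card M))
  have hχ' : IsCharacter M (fun m : M => (ψ : G → ℂ) m) :=
    Cfsg.Agent.Helper8.isCharacter_restrict M (IsIrrCharacter.isCharacter ψ.2)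
  have hfaith' : ∀ m : M, (fun m : M => (ψ : G → ℂ) m) m = (fun m : M => (ψ : G → ℂ) m) 1 →
      m = 1 := by
    intro m hm
    apply Subtype.ext
    exact hfaith (m : G) hm
  have hdeg' : 2 * charDegree (fun m : M => (ψ : G → ℂ) m) + 1 ≤ p := by
    have : charDegree (fun m : M => (ψ : G → ℂ) m) = charDegree (ψ : G → ℂ) := rfl
    rw [this, charDegree_irr]
    exact hdeg
  rcases irr_or_normal_le p hp hdiv hsq _ hχ' hfaith' hdeg' with ⟨Q, hQn, hQc⟩ | h
  · exfalso
    -- the Sylow subgroup `P' = P ∩ M` of `M`
    set P' : Sylow p M := P.subtype hPM with hP'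
    have hP'coe : (P' : Subgroup M) = (P : Subgroup G).subgroupOf M := Sylow.coe_subtype P hPM
    have hP'card : Nat.card P' = p := by
      have h1 : Nat.card (P' : Subgroup M) = Nat.card ((P : Subgroup G).subgroupOf M) := by
        rw [hP'coe]
      have h2 : Nat.card ((P : Subgroup G).subgroupOf M) = Nat.card (P : Subgroup G) :=
        Nat.card_congr (Subgroup.subgroupOfEquivOfLe hPM).toEquiv
      exact h1.trans (h2.trans hP)
    have hle : (P' : Subgroup M) ≤ Q :=
      VCENTa.le_of_dvd_card p P' hP'card Q hQn (by rw [hQc])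
    have heq : (P' : Subgroup M) = Q :=
      Subgroup.eq_of_le_of_card_ge hle (by rw [hQc]; exact hP'card.ge)
    have hP'n : (P' : Subgroup M).Normal := heq ▸ hQn
    have hchar : (P' : Subgroup M).Characteristic := Sylow.characteristic_of_normal P' hP'n
    have hnorm : ((P' : Subgroup M).map M.subtype).Normal :=
      ConjAct.normal_of_characteristic_of_normal
    rw [hP'coe, Subgroup.subgroupOf_map_subtype, inf_of_le_left hPM] at hnorm
    exact hnn hnorm
  · exact h

end Cfsg.Agent.S4504P
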