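import Mathlib
import Cfsg.Prelude.Def_Characters
import Cfsg.Agent.Helper24.Expansion
import Cfsg.Agent.Helper24.Abelian
import Cfsg.Agent.Helper23.Schur

/-!
# S4504, piece PCENTc: if the restriction of a faithful irreducible character `ψ` of `G` to a
subgroup `M` is irreducible, then `C_G(M) ≤ Z(G)` (Schur)
-/

set_option autoImplicit false
set_option linter.unusedSectionVars false

namespace Cfsg.Agent.S4504P

open Cfsg Cfsg.Agent.Helper24 Representation
open scoped ComplexConjugate

universe u

variable {G : Type u} [Group G] [Finite G]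

/-- **PCENTc**: if the restriction of a faithful irreducible character to `M` is irreducible, then
the centralizer of `M` is the centre (Schur). -/
theorem centralizer_le_center_of_irr_restrict (M : Subgroup G) (ψ : IrrCharacter G)
    (hfaith : ∀ g : G, (ψ : G → ℂ) g = (ψ : G → ℂ) 1 → g = 1)
    (hM : IsIrrCharacter M (fun m => (ψ : G → ℂ) (m : G))) :
    Subgroup.centralizer (M : Set G) ≤ Subgroup.center G := by
  classical
  obtain ⟨n, ρ, -, hρ⟩ := ψ.2
  have : Fintype M := Fintype.ofFinite _
  have : Fintype (IrrCharacter M) := Fintype.ofFinite _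
  set ρM : Representation ℂ M (Fin n → ℂ) := MonoidHom.comp ρ M.subtype with hρM
  have hchar : ρM.character = fun m : M => (ψ : G → ℂ) m := by
    funext m
    rw [← hρ]
    rfl
  have hnorm : classInner ρM.character ρM.character = 1 := by
    rw [hchar]
    exact (isIrrCharacter_iff_classInner_self.mp hM).2
  have hfr : Module.finrank ℂ (IntertwiningMap ρM ρM) = 1 := by
    have h := Cfsg.Agent.Helper23.classInner_character_eq_finrank ρM ρM
    rw [hnorm] at h
    exact_mod_cast h.symm
  intro c hc
  rw [Subgroup.mem_centralizer_iff] at hc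
  -- `ρ c` is an intertwiner of `ρM`
  let T : IntertwiningMap ρM ρM :=
    LinearMap.intertwiningMap_of_isIntertwiningMap ρM ρM (ρ c) (by
      intro m v
      show ρ c (ρ (m : G) v) = ρ (m : G) (ρ c v)
      rw [← Module.End.mul_apply, ← Module.End.mul_apply, ← map_mul, ← map_mul, hc (m : G) m.2])
  have hone : (1 : IntertwiningMap ρM ρM) ≠ 0 := by
    intro h
    have hsub : Subsingleton (IntertwiningMap ρM ρM) := by
      refine ⟨fun a b => ?_⟩
      have ha : a = a * 1 := (mul_one a).symm
      have hb : b = b * 1 := (mul_one b).symm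
      rw [ha, hb, h, mul_zero, mul_zero]
    have := Module.finrank_zero_of_subsingleton (R := ℂ) (M := IntertwiningMap ρM ρM)
    omega
  obtain ⟨l, hl⟩ := (finrank_eq_one_iff_of_nonzero' (1 : IntertwiningMap ρM ρM) hone).mp hfr T
  have hρc : ρ c = l • (1 : Module.End ℂ (Fin n → ℂ)) := by
    have := congrArg IntertwiningMap.toLinearMap hl
    exact this.symm
  rw [Subgroup.mem_center_iff]
  intro g
  have hcomm : ρ (g * c) = ρ (c * g) := by
    rw [map_mul, map_mul, hρc]
    rw [mul_smul_comm, smul_mul_assoc, mul_one, one_mul]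
  have h1 : ρ (c * g * c⁻¹ * g⁻¹) = ρ 1 := by
    have : c * g * c⁻¹ * g⁻¹ = (c * g) * (g * c)⁻¹ := by group
    rw [this, map_mul, ← hcomm, ← map_mul, mul_inv_cancel]
  have h2 : (ψ : G → ℂ) (c * g * c⁻¹ * g⁻¹) = (ψ : G → ℂ) 1 := by
    rw [← hρ]
    unfold Representation.character
    rw [h1]
  have h3 := hfaith _ h2
  have : g * c = (c * g * c⁻¹ * g⁻¹)⁻¹ * (c * g) := by group
  rw [this, h3, inv_one, one_mul]

end Cfsg.Agent.S4504P
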