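import Mathlib
import Cfsg.Prelude.Def_Perm
import Cfsg.Agent.Helper4.P1Gal

/-!
# S4504, piece SEMI: a group of semi-affine permutations of the field with `2^q` elements of the
full order `2^q (2^q - 1) q` has a normal subgroup of order `2^q` (the translations)
-/

set_option autoImplicit false
set_option linter.unusedSectionVars false

namespace Cfsg.Agent.S4504P

open Cfsg

namespace SEMI

variable (F : Type*) [Field F]

/-- the group of translations of `F` -/
def transl : Subgroup (Equiv.Perm F) where
  carrier := {σ | ∃ b : F, ∀ x, σ x = x + b}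
  one_mem' := ⟨0, fun x => by simp⟩
  mul_mem' := by
    rintro σ τ ⟨b, hσ⟩ ⟨c, hτ⟩
    exact ⟨c + b, fun x => by simp [hσ, hτ, add_assoc]⟩
  inv_mem' := by
    rintro σ ⟨b, hσ⟩
    refine ⟨-b, fun x => ?_⟩
    apply σ.injective
    rw [Equiv.Perm.inv_def, Equiv.apply_symm_apply, hσ]
    simp

theorem mem_transl {σ : Equiv.Perm F} : σ ∈ transl F ↔ ∃ b : F, ∀ x, σ x = x + b := Iff.rfl

theorem transl_le : transl F ≤ semiaffineGroup F := by
  rintro σ ⟨b, hσ⟩
  exact ⟨1, b, RingEquiv.refl F, fun x => by simp [hσ]⟩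

/-- the semi-affine group normalizes the translations -/
theorem conj_mem_transl (σ τ : Equiv.Perm F) (hσ : σ ∈ semiaffineGroup F) (hτ : τ ∈ transl F) :
    σ * τ * σ⁻¹ ∈ transl F := by
  obtain ⟨a, b, φ, hσ⟩ := hσ
  obtain ⟨c, hτ⟩ := hτ
  refine ⟨(a : F) * φ c, fun x => ?_⟩
  have hx : σ (σ⁻¹ x) = x := by
    rw [Equiv.Perm.inv_def, Equiv.apply_symm_apply]
  simp only [Equiv.Perm.coe_mul, Function.comp_apply]
  generalize σ⁻¹ x = y at hx ⊢
  rw [hτ, hσ, map_add, mul_add, ← hx, hσ]
  ring

/-- the translation by `b` -/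
def translOf (b : F) : transl F := ⟨Equiv.addRight b, b, fun _ => rfl⟩

theorem translOf_bijective : Function.Bijective (translOf F) := by
  constructor
  · intro b c h
    have h1 := congrArg (fun σ : transl F => (σ : Equiv.Perm F) 0) h
    simpa [translOf] using h1
  · rintro ⟨σ, b, hσ⟩
    refine ⟨b, ?_⟩
    apply Subtype.ext
    ext x
    simp [translOf, hσ]

theorem card_transl : Nat.card (transl F) = Nat.card F :=
  (Nat.card_congr (Equiv.ofBijective _ (translOf_bijective F))).symm

/-- the order of the semi-affine group is at most `|Fˣ| |F| |Aut F|` -/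
theorem card_semiaffine_le [Finite F] :
    Nat.card (semiaffineGroup F) ≤ Nat.card Fˣ * Nat.card F * Nat.card (F ≃+* F) := by
  classical
  have hfin : Finite (F ≃+* F) := by
    apply Finite.of_injective (fun φ : F ≃+* F => (φ : F → F))
    intro φ ψ h
    exact RingEquiv.ext (fun x => congrFun h x)
  have hex : ∀ σ : semiaffineGroup F, ∃ t : (Fˣ × F) × (F ≃+* F),
      ∀ x, (σ : Equiv.Perm F) x = (t.1.1 : F) * t.2 x + t.1.2 := by
    rintro ⟨σ, a, b, φ, hσ⟩
    exact ⟨((a, b), φ), hσ⟩
  choose t ht using hex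
  have hinj : Function.Injective t := by
    intro σ τ h
    apply Subtype.ext
    ext x
    rw [ht σ x, ht τ x, h]
  have := Nat.card_le_card_of_injective t hinj
  rwa [Nat.card_prod, Nat.card_prod] at this

end SEMI

/-- **SEMI**: a group of semi-affine permutations of the field with `2^q` elements of the full
order `2^q (2^q - 1) q` has a normal subgroup of order `2^q` (the translations). -/
theorem semiaffine_exists_normal {α : Type*} [Fintype α] [DecidableEq α] (q : ℕ) (hq : q.Prime)
    (Γ : Subgroup (Equiv.Perm α)) (e : α ≃ GaloisField 2 q)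
    (he : ∀ g : Γ, (e.symm.trans ((g : Equiv.Perm α).trans e)) ∈
      Cfsg.semiaffineGroup (GaloisField 2 q))
    (hcard : Nat.card Γ = 2 ^ q * (2 ^ q - 1) * q) :
    ∃ T : Subgroup Γ, T.Normal ∧ Nat.card T = 2 ^ q := by
  classical
  have hq0 : q ≠ 0 := hq.ne_zero
  let _ : Fintype (GaloisField 2 q) := Fintype.ofFinite _
  have hFcard : Nat.card (GaloisField 2 q) = 2 ^ q := GaloisField.card 2 q hq0
  have hFcard' : Fintype.card (GaloisField 2 q) = 2 ^ q := by
    rw [← Nat.card_eq_fintype_card]; exact hFcard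
  have hAut : Nat.card (GaloisField 2 q ≃+* GaloisField 2 q) = q :=
    Cfsg.Agent.Helper4.P1Gal.card_ringEquiv 2 q hFcard'
  have hUnits : Nat.card (GaloisField 2 q)ˣ = 2 ^ q - 1 := by
    rw [Nat.card_units, hFcard]
  -- the transported group
  set f : Γ →* Equiv.Perm (GaloisField 2 q) :=
    (e.permCongrHom.toMonoidHom).comp Γ.subtype with hf
  have hfinj : Function.Injective f := by
    intro a b h
    apply Subtype.ext
    exact e.permCongrHom.injective h
  have hfapply : ∀ g : Γ, f g = e.symm.trans ((g : Equiv.Perm α).trans e) := by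
    intro g
    rfl
  have hrange_le : f.range ≤ semiaffineGroup (GaloisField 2 q) := by
    rintro _ ⟨g, rfl⟩
    rw [hfapply]
    exact he g
  have hrange_card : Nat.card f.range = 2 ^ q * (2 ^ q - 1) * q := by
    rw [← hcard]
    exact (Nat.card_congr (MonoidHom.ofInjective hfinj).toEquiv).symm
  have hSAle := SEMI.card_semiaffine_le (GaloisField 2 q)
  rw [hUnits, hFcard, hAut] at hSAle
  have hrange_eq : f.range = semiaffineGroup (GaloisField 2 q) := by
    apply Subgroup.eq_of_le_of_card_ge hrange_le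
    rw [hrange_card]
    calc Nat.card (semiaffineGroup (GaloisField 2 q)) ≤ (2 ^ q - 1) * 2 ^ q * q := hSAle
      _ = 2 ^ q * (2 ^ q - 1) * q := by ring
  -- the translations
  refine ⟨(SEMI.transl (GaloisField 2 q)).comap f, ?_, ?_⟩
  · constructor
    intro n hn g
    rw [Subgroup.mem_comap] at hn ⊢
    rw [map_mul, map_mul, map_inv]
    exact SEMI.conj_mem_transl _ (f g) (f n) (hrange_le ⟨g, rfl⟩) hn
  · have h1 : Nat.card ((SEMI.transl (GaloisField 2 q)).comap f) =
        Nat.card (((SEMI.transl (GaloisField 2 q)).comap f).map f) :=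
      (Nat.card_congr (Subgroup.equivMapOfInjective _ f hfinj).toEquiv)
    rw [h1, Subgroup.map_comap_eq, hrange_eq,
      inf_of_le_right (SEMI.transl_le (GaloisField 2 q)), SEMI.card_transl, hFcard]

end Cfsg.Agent.S4504P
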