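import Mathlib
import Cfsg.Agent.S0732
import Cfsg.Agent.Helper20.S4504Defs
import Cfsg.Agent.Helper20.S4504PDATA
import Cfsg.Agent.Helper20.S4504IRRLE
import Cfsg.Agent.Helper20.S4504PCENTa
import Cfsg.Agent.Helper20.S4504PCENTb
import Cfsg.Agent.Helper20.S4504PCENTc
import Cfsg.Agent.Helper20.S4504VCENTa
import Cfsg.Agent.Helper20.S4504FVAL
import Cfsg.Agent.Helper20.S4504SEMI
import Cfsg.Agent.Helper26.S4504VCENTb
import Cfsg.Agent.Helper26.S4504ACTa
import Cfsg.Agent.Helper26.S4504ACTb

/-!
# S4504: the assembly of the characteristic-zero half and the endgame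
-/

set_option autoImplicit false

namespace Cfsg.Agent.S4504P

open Cfsg Cfsg.Agent.Helper24 Cfsg.Agent.Helper8.D1 Cfsg.Agent.S4705P Cfsg.Agent.S4503P
open scoped ComplexConjugate

universe u

variable {G : Type u} [Group G] [Finite G]

/-- **PCENT**: every normal `p'`-subgroup is central. -/
theorem normal_le_center (p : ℕ) [Fact p.Prime] (P : Sylow p G) (hP : Nat.card P = p)
    (hnn : ¬ (P : Subgroup G).Normal) (ψ : IrrCharacter G)
    (hfaith : ∀ g : G, (ψ : G → ℂ) g = (ψ : G → ℂ) 1 → g = 1)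
    (hdeg : 2 * irrDeg ψ + 1 ≤ p)
    (K : Subgroup G) (hKn : K.Normal) (hKp : ¬ p ∣ Nat.card K) : K ≤ Subgroup.center G := by
  have h1 : K ≤ Subgroup.centralizer ((P : Subgroup G) : Set G) :=
    le_centralizer_of_normal p P hP (ψ : G → ℂ) (IsIrrCharacter.isCharacter ψ.2) hfaith
      (by rw [charDegree_irr]; exact hdeg) K hKn hKp
  have h2 : (P : Subgroup G) ≤ Subgroup.centralizer (K : Set G) := Subgroup.le_centralizer_iff.mp h1
  have hn : (Subgroup.centralizer (K : Set G)).Normal := Subgroup.normal_centralizer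
  have h3 : Subgroup.normalClosure ((P : Subgroup G) : Set G) ≤ Subgroup.centralizer (K : Set G) :=
    Subgroup.normalClosure_le_normal h2
  have h4 : K ≤ Subgroup.centralizer
      (Subgroup.normalClosure ((P : Subgroup G) : Set G) : Set G) :=
    Subgroup.le_centralizer_iff.mp h3
  exact h4.trans (centralizer_le_center_of_irr_restrict _ ψ hfaith
    (irr_restrict_normalClosure p P hP hnn ψ hfaith hdeg))

/-- **FINAL** -/
theorem final (p : ℕ) [Fact p.Prime] (P : Sylow p G) (hP : Nat.card P = p)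
    (hnn : ¬ (P : Subgroup G).Normal) (hsq : ¬ p ^ 2 ∣ Nat.card G)
    (hC : Subgroup.centralizer ((P : Subgroup G) : Set G) = (P : Subgroup G) ⊔ Subgroup.center G)
    (hK : ∀ K : Subgroup G, K.Normal → ¬ p ∣ Nat.card K → K ≤ Subgroup.center G)
    (hf2 : 2 ≤ fN (P : Subgroup G)) (hf : 2 * fN (P : Subgroup G) + 1 = p)
    (hidx : (Subgroup.normalizer ((P : Subgroup G) : Set G)).index = p + 1) :
    Nonempty ((G ⧸ Subgroup.center G) ≃*
      Matrix.ProjectiveSpecialLinearGroup (Fin 2) (ZMod p)) := by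
  classical
  have hp : p.Prime := Fact.out
  set φ : G →* Equiv.Perm (Sylow p G) := MulAction.toPermHom G (Sylow p G) with hφ
  have hker : φ.ker = Subgroup.center G := ker_toPermHom_sylow p P hP hnn hK
  let _ : Fintype (Sylow p G) := Fintype.ofFinite _
  have hα : Fintype.card (Sylow p G) = p + 1 := by
    rw [← Nat.card_eq_fintype_card]
    exact (Sylow.card_eq_index_normalizer P).trans hidx
  have hcardG := card_eq_index_mul p P hP hnn hC
  rw [hidx] at hcardG
  set f := fN (P : Subgroup G) with hfdef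
  set z := Nat.card (Subgroup.center G) with hzdef
  have hzpos : 0 < z := Nat.card_pos
  have hpz : ¬ p ∣ z := by
    intro h
    apply hsq
    rw [hcardG, pow_two]
    obtain ⟨k, hk⟩ := h
    exact ⟨(p + 1) * f * k, by rw [hk]; ring⟩
  have hcardΓ' : Nat.card φ.range * z = Nat.card G := by
    rw [hzdef, ← hker]
    have h1 := Subgroup.card_eq_card_quotient_mul_card_subgroup φ.ker
    rw [h1, Nat.card_congr (QuotientGroup.quotientKerEquivRange φ).toEquiv]
  have hΓ : Nat.card φ.range = (p + 1) * p * f := by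
    have : Nat.card φ.range * z = ((p + 1) * p * f) * z := by rw [hcardΓ', hcardG]
    exact Nat.eq_of_mul_eq_mul_right hzpos this
  have htrans : MulAction.IsPretransitive φ.range (Sylow p G) := by
    constructor
    intro x y
    obtain ⟨g, hg⟩ := MulAction.exists_smul_eq G x y
    exact ⟨⟨φ g, g, rfl⟩, hg⟩
  rcases Cfsg.Agent.S0732.result hp hα φ.range hΓ (by omega) with
    ⟨h1, -⟩ | ⟨-, ⟨e⟩⟩ | ⟨q, hq, hpq, hd, e, he⟩
  · omega
  · exact ⟨((QuotientGroup.quotientMulEquivOfEq hker.symm).trans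
      (QuotientGroup.quotientKerEquivRange φ)).trans e⟩
  · exfalso
    have hfq : f = q := by
      rcases hd with h | h
      · omega
      · exact h
    have hcardq : Nat.card φ.range = 2 ^ q * (2 ^ q - 1) * q := by
      rw [hΓ, hpq, hfq]
      have : p = 2 ^ q - 1 := by omega
      rw [← this]
    obtain ⟨T, hTn, hTcard⟩ := semiaffine_exists_normal q hq φ.range e he hcardq
    -- the preimage of `T`
    set L : Subgroup G := T.comap φ.rangeRestrict with hL
    have hLn : L.Normal := hTn.comap _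
    have hsurj : Function.Surjective φ.rangeRestrict := φ.rangeRestrict_surjective
    have hidxL : L.index = T.index := Subgroup.index_comap_of_surjective T hsurj
    have hcardL : Nat.card L = (p + 1) * z := by
      have h1 : L.index * Nat.card L = Nat.card G := Subgroup.index_mul_card L
      have h2 : T.index * Nat.card T = Nat.card φ.range := Subgroup.index_mul_card T
      have hTpos : 0 < T.index := Nat.pos_of_ne_zero Subgroup.index_ne_zero_of_finite
      have h3 : T.index * Nat.card L = T.index * ((p + 1) * z) := by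
        rw [← hidxL, h1, ← hcardΓ', ← h2, hTcard, ← hpq, hidxL]
        ring
      exact Nat.eq_of_mul_eq_mul_left hTpos h3
    have hpL : ¬ p ∣ Nat.card L := by
      rw [hcardL]
      intro h
      rcases (Nat.Prime.dvd_mul hp).mp h with h | h
      · have : p ∣ 1 := (Nat.dvd_add_right (dvd_refl p)).mp h
        exact hp.one_lt.ne' (Nat.dvd_one.mp this)
      · exact hpz h
    have hLZ : L ≤ Subgroup.center G := hK L hLn hpL
    have hTbot : T = ⊥ := by
      rw [← Subgroup.map_comap_eq_self_of_surjective hsurj T, ← hL, eq_bot_iff]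
      rintro _ ⟨x, hx, rfl⟩
      have hxk : x ∈ φ.ker := by rw [hker]; exact hLZ hx
      rw [Subgroup.mem_bot]
      apply Subtype.ext
      exact hxk
    rw [hTbot, Subgroup.card_bot] at hTcard
    have : 2 ≤ 2 ^ q := by
      calc 2 = 2 ^ 1 := by norm_num
        _ ≤ 2 ^ q := Nat.pow_le_pow_right (by norm_num) hq.one_lt.le
    omega

/-- **MAIN**, with the modular half (`mod_index`) as a hypothesis -/
theorem main_of_mod (p : ℕ) (hp : p.Prime) (hdiv : p ∣ Nat.card G) (hsq : ¬ p ^ 2 ∣ Nat.card G)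
    (hnn : ∀ H : Subgroup G, H.Normal → Nat.card H ≠ p) (χ : G → ℂ)
    (hχ : Cfsg.IsCharacter G χ) (hfaith : ∀ g : G, χ g = χ 1 → g = 1)
    (hdeg : 2 * Cfsg.charDegree χ + 1 = p)
    (hmod : 5 ≤ p → ∀ P : Sylow p G, Nat.card P = p → ¬ (P : Subgroup G).Normal →
      Subgroup.centralizer ((P : Subgroup G) : Set G) = (P : Subgroup G) ⊔ Subgroup.center G →
      (∀ K : Subgroup G, K.Normal → ¬ p ∣ Nat.card K → K ≤ Subgroup.center G) →
      ∀ (n : ℕ) (ρ : Representation ℂ G (Fin n → ℂ)), 2 * n + 1 ≤ p →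
      (∀ g : G, ρ.character g = ρ.character 1 → g = 1) →
      (Subgroup.normalizer ((P : Subgroup G) : Set G)).index = p + 1) :
    Nonempty ((G ⧸ Subgroup.center G) ≃*
      Matrix.ProjectiveSpecialLinearGroup (Fin 2) (ZMod p)) := by
  have : Fact p.Prime := ⟨hp⟩
  obtain ⟨P⟩ : Nonempty (Sylow p G) := inferInstance
  have hP : Nat.card P = p := card_sylow_eq_prime hdiv hsq P
  have hnnP : ¬ (P : Subgroup G).Normal := fun h => hnn P h hP
  have hirr : IsIrrCharacter G χ := by
    rcases irr_or_normal_le p hp hdiv hsq χ hχ hfaith (by omega) with ⟨H, hH, hc⟩ | h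
    · exact absurd hc (hnn H hH)
    · exact h
  set ψ : IrrCharacter G := ⟨χ, hirr⟩ with hψ
  have hdegψ : 2 * irrDeg ψ + 1 = p := by
    rw [← charDegree_irr]
    exact hdeg
  obtain ⟨D⟩ := exists_psiDataLe p P hP hnnP ψ hfaith (by omega)
  have hK : ∀ K : Subgroup G, K.Normal → ¬ p ∣ Nat.card K → K ≤ Subgroup.center G :=
    fun K hKn hKp => normal_le_center p P hP hnnP ψ hfaith (by omega) K hKn hKp
  have hZ := regular_central_le p P hP hK ψ D
  have hC := centralizer_eq_sup_center p P hP hZ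
  have hf := two_mul_fN_add_one p P hP hC ψ D hdegψ
  have hf2 := D.hf2
  have hp5 : 5 ≤ p := by omega
  have hirr' : IsIrrCharacter G χ := hirr
  obtain ⟨n, ρ, -, hρ⟩ := hirr'
  have hn : n = irrDeg ψ := by
    have h1 : ρ.character 1 = (n : ℂ) := by
      rw [Representation.char_one]
      simp
    have h2 : (ψ : G → ℂ) 1 = (irrDeg ψ : ℂ) := irrDeg_spec ψ
    have h3 : (n : ℂ) = (irrDeg ψ : ℂ) := by
      rw [← h1, ← h2, hρ]
    exact_mod_cast h3
  have hidx := hmod hp5 P hP hnnP hC hK n ρ (by omega) (by rw [hρ]; exact hfaith)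
  exact final p P hP hnnP hsq hC hK hf2 hf hidx

end Cfsg.Agent.S4504P
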