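import Mathlib
import Cfsg.Agent.Helper13.S3816Defs
import Cfsg.Agent.Helper13.S3816Basic

/-! Board `s3816pieces`, row WLOG: the hypotheses pass to a subgroup `S ≥ K, A`, and the conclusion comes back. -/

set_option autoImplicit false

namespace Cfsg.Agent.S3816P

universe u

variable {G : Type u} [Group G] [Finite G] {p : ℕ} [Fact p.Prime] {A K N : Subgroup G}

local notation "CA" => Subgroup.centralizer (A : Set G)

/-- WLOG -/
theorem Hyp.subgroupOf (h : Hyp p A K) (S : Subgroup G) (hK : K ≤ S) (hA : A ≤ S) :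
    Hyp p (A.subgroupOf S) (K.subgroupOf S) := by
  refine ⟨?_, ?_, ?_, ?_⟩
  · rw [Nat.card_congr (Subgroup.subgroupOfEquivOfLe hA).toEquiv, h.card]
  · intro a ha
    rw [Subgroup.mem_subgroupOf] at ha
    have hn := h.norm ha
    rw [Subgroup.mem_normalizer_iff] at hn ⊢
    intro x
    rw [Subgroup.mem_subgroupOf, Subgroup.mem_subgroupOf]
    exact hn (x : G)
  · rw [Nat.card_congr (Subgroup.subgroupOfEquivOfLe hK).toEquiv]
    exact h.cop
  · have := h.solv
    exact Group.isSolvable_of_surjective (f := (Subgroup.subgroupOfEquivOfLe hK).symm.toMonoidHom)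
      (Subgroup.subgroupOfEquivOfLe hK).symm.surjective

theorem WLOG_aux_map_cA (S : Subgroup G) (A : Subgroup G) (k : ↥S) :
    (cA (A.subgroupOf S) k).map S.subtype ≤ cA A (k : G) := by
  unfold cA
  rw [MonoidHom.map_closure]
  apply Subgroup.closure_mono
  rintro _ ⟨c, ⟨a, ha, rfl⟩, rfl⟩
  exact ⟨(a : G), Subgroup.mem_subgroupOf.mp ha, by simp⟩

theorem WLOG_aux_map_cent (S : Subgroup G) (hA : A ≤ S) :
    (Subgroup.centralizer ((A.subgroupOf S : Subgroup ↥S) : Set ↥S)).map S.subtype ≤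
      Subgroup.centralizer (A : Set G) := by
  rintro _ ⟨x, hx, rfl⟩
  have hx' : x ∈ Subgroup.centralizer ((A.subgroupOf S : Subgroup ↥S) : Set ↥S) := hx
  rw [Subgroup.mem_centralizer_iff] at hx' ⊢
  intro a ha
  have := hx' ⟨a, hA ha⟩ (Subgroup.mem_subgroupOf.mpr ha)
  exact congrArg Subtype.val this

/-- WLOG -/
theorem thm_of_subgroupOf (S : Subgroup G) (hK : K ≤ S) (hA : A ≤ S)
    (h : Thm (A.subgroupOf S) (K.subgroupOf S)) : Thm A K := by
  unfold Thm at h ⊢
  intro x hx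
  obtain ⟨hx1, hx2⟩ := Subgroup.mem_inf.mp hx
  -- lift `x` to `S`
  have hcomm : ⁅K, A⁆ = (⁅K.subgroupOf S, A.subgroupOf S⁆).map S.subtype := by
    rw [Subgroup.map_commutator, Subgroup.map_subgroupOf_eq_of_le hK, Subgroup.map_subgroupOf_eq_of_le hA]
  rw [hcomm] at hx1
  obtain ⟨x', hx', rfl⟩ := hx1
  have hxc : x' ∈ Subgroup.centralizer ((A.subgroupOf S : Subgroup ↥S) : Set ↥S) := by
    rw [Subgroup.mem_centralizer_iff] at hx2 ⊢
    intro a ha
    apply Subtype.ext
    exact hx2 (a : G) (Subgroup.mem_subgroupOf.mp ha)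
  have h1 := h (Subgroup.mem_inf.mpr ⟨hx', hxc⟩)
  have h2 : (DD (A.subgroupOf S) (K.subgroupOf S)).map S.subtype ≤ DD A K := by
    unfold DD
    rw [Subgroup.map_iSup]
    refine iSup_le fun k => ?_
    rw [Subgroup.map_iSup]
    refine iSup_le fun hk => ?_
    refine le_trans ?_ (le_iSup₂_of_le (k : G) (Subgroup.mem_subgroupOf.mp hk) le_rfl)
    refine (Subgroup.map_inf_le _ _ _).trans ?_
    exact inf_le_inf (WLOG_aux_map_cA S A k) (WLOG_aux_map_cent S hA)
  exact h2 ⟨x', h1, rfl⟩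

end Cfsg.Agent.S3816P
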