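import Mathlib
import Cfsg.Agent.Helper3.S4411Defs

set_option autoImplicit false
set_option linter.unusedSectionVars false
set_option linter.unusedVariables false
set_option linter.style.haveILetI false

/-! Piece TQP of the board `s4411pieces`: lift `TConcl` from `Y / M`, `M ≤ R` normal in `Y` and characteristic in `R`. -/

namespace Cfsg.Agent.S4411P

open Cfsg

/-- the `q`-part of an element (local copy of the argument of `AQ_qpart`) -/
theorem TQP_aux_qpart {Y : Type*} [Group Y] [Finite Y] (q : ℕ) [Fact q.Prime] (y : Y) :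
    ∃ m : ℕ, m.Coprime q ∧ IsQElt q (y ^ m) := by
  obtain ⟨a, m, hm, hym⟩ :=
    Nat.exists_eq_pow_mul_and_not_dvd (orderOf_pos y).ne' q (Fact.out : q.Prime).ne_one
  refine ⟨m, ?_, a, ?_⟩
  · exact (Nat.Coprime.symm ((Nat.Prime.coprime_iff_not_dvd Fact.out).mpr hm))
  · rw [← pow_mul, mul_comm, ← hym, pow_orderOf_eq_one]

/-- an automorphism of `R` fixing the kernel of a surjection `f : R → Q` induces an automorphism of `Q` -/
theorem TQP_aux_induced {A B : Type*} [Group A] [Group B] (f : A →* B) (hf : Function.Surjective f)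
    (φ : A ≃* A) (hφ : f.ker.map (φ : A →* A) = f.ker) :
    ∃ ψ : B ≃* B, ∀ a : A, ψ (f a) = f (φ a) := by
  refine ⟨(QuotientGroup.quotientKerEquivOfSurjective f hf).symm.trans
    ((QuotientGroup.congr f.ker f.ker φ hφ).trans (QuotientGroup.quotientKerEquivOfSurjective f hf)), ?_⟩
  intro a
  have h1 : (QuotientGroup.quotientKerEquivOfSurjective f hf).symm (f a) = (a : A ⧸ f.ker) := by
    rw [MulEquiv.symm_apply_eq]
    rfl
  show (QuotientGroup.quotientKerEquivOfSurjective f hf)
    ((QuotientGroup.congr f.ker f.ker φ hφ) ((QuotientGroup.quotientKerEquivOfSurjective f hf).symm (f a))) = _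
  rw [h1, QuotientGroup.congr_mk]
  rfl

theorem TQP {Y : Type*} [Group Y] [Finite Y] (q : ℕ) [Fact q.Prime] (M : Subgroup Y) [M.Normal] (R : Subgroup Y)
    (hMR : M ≤ R) (hMchar : (M.subgroupOf R).Characteristic)
    (h : TConcl q (R.map (QuotientGroup.mk' M))) : TConcl q R := by
  classical
  obtain ⟨Kb, hKbR, hKbchar, yb, hybN, hybC, kq, hybq⟩ := h
  -- the subgroup `K`
  have hKR : Kb.comap (QuotientGroup.mk' M) ≤ R := by
    intro x hx
    obtain ⟨r, hr, hrx⟩ := hKbR (Subgroup.mem_comap.mp hx)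
    have h1 : r⁻¹ * x ∈ M := by
      have := (QuotientGroup.eq (s := M) (a := r) (b := x)).mp hrx
      exact this
    have h2 : x = r * (r⁻¹ * x) := by group
    rw [h2]
    exact R.mul_mem hr (hMR h1)
  have hKmap : (Kb.comap (QuotientGroup.mk' M)).map (QuotientGroup.mk' M) = Kb :=
    Subgroup.map_comap_eq_self_of_surjective (QuotientGroup.mk'_surjective M) Kb
  -- `K` is characteristic in `R`
  have hKchar : ((Kb.comap (QuotientGroup.mk' M)).subgroupOf R).Characteristic := by
    have hsurj : Function.Surjective ((QuotientGroup.mk' M).subgroupMap R) :=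
      (QuotientGroup.mk' M).subgroupMap_surjective R
    have hker : ((QuotientGroup.mk' M).subgroupMap R).ker = M.subgroupOf R := by
      ext x
      rw [MonoidHom.mem_ker, Subgroup.mem_subgroupOf]
      constructor
      · intro hx
        have h1 : QuotientGroup.mk' M (x : Y) = 1 := by
          have := congrArg Subtype.val hx
          simpa using this
        exact (QuotientGroup.eq_one_iff (x : Y)).mp h1
      · intro hx
        apply Subtype.ext
        show QuotientGroup.mk' M (x : Y) = 1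
        exact (QuotientGroup.eq_one_iff (x : Y)).mpr hx
    have hmem : ∀ x : ↥R, x ∈ (Kb.comap (QuotientGroup.mk' M)).subgroupOf R ↔
        (QuotientGroup.mk' M).subgroupMap R x ∈ Kb.subgroupOf (R.map (QuotientGroup.mk' M)) := by
      intro x
      rw [Subgroup.mem_subgroupOf, Subgroup.mem_subgroupOf]
      rfl
    rw [Subgroup.characteristic_iff_le_comap]
    intro φ x hx
    have hφ : ((QuotientGroup.mk' M).subgroupMap R).ker.map (φ : ↥R →* ↥R) =
        ((QuotientGroup.mk' M).subgroupMap R).ker := by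
      rw [hker]
      exact (Subgroup.characteristic_iff_map_eq.mp hMchar) φ
    obtain ⟨ψ, hψ⟩ := TQP_aux_induced ((QuotientGroup.mk' M).subgroupMap R) hsurj φ hφ
    have h1 := (Subgroup.characteristic_iff_le_comap.mp hKbchar) ψ ((hmem x).mp hx)
    rw [Subgroup.mem_comap] at h1 ⊢
    rw [hmem]
    have h2 : ψ.toMonoidHom ((QuotientGroup.mk' M).subgroupMap R x) =
        (QuotientGroup.mk' M).subgroupMap R (φ.toMonoidHom x) := hψ x
    rw [h2] at h1
    exact h1
  -- lifting the acting element into `N_Y(K)`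
  obtain ⟨y₀, hy₀⟩ := QuotientGroup.mk'_surjective M yb
  have hy₀N : y₀ ∈ Subgroup.normalizer ((Kb.comap (QuotientGroup.mk' M) : Subgroup Y) : Set Y) := by
    apply Subgroup.le_normalizer_comap (QuotientGroup.mk' M)
    rw [Subgroup.mem_comap, hy₀]
    exact hybN
  -- the `q`-part
  obtain ⟨j, hjq, hjQ⟩ := TQP_aux_qpart q y₀
  refine ⟨Kb.comap (QuotientGroup.mk' M), hKR, hKchar, y₀ ^ j,
    Subgroup.pow_mem _ hy₀N j, ?_, hjQ⟩
  intro hcent
  apply hybC
  -- `yb ^ j` centralises `Kb`
  have hj : yb ^ j ∈ Subgroup.centralizer (Kb : Set (Y ⧸ M)) := by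
    rw [Subgroup.mem_centralizer_iff]
    intro kb hkb
    have hkb' : kb ∈ (Kb.comap (QuotientGroup.mk' M)).map (QuotientGroup.mk' M) := by
      rw [hKmap]; exact hkb
    obtain ⟨x, hx, rfl⟩ := hkb'
    have h1 := (Subgroup.mem_centralizer_iff.mp hcent) x hx
    rw [← hy₀, ← map_pow, ← map_mul, ← map_mul, h1]
  -- `yb` is a power of `yb ^ j`
  have hcop : Nat.Coprime j (q ^ kq) := Nat.Coprime.pow_right kq hjq
  have hb : (1 : ℤ) = (j : ℤ) * Nat.gcdA j (q ^ kq) + ((q ^ kq : ℕ) : ℤ) * Nat.gcdB j (q ^ kq) := by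
    have := Nat.gcd_eq_gcd_ab j (q ^ kq)
    rw [hcop.gcd_eq_one] at this
    exact_mod_cast this
  have hyb : yb = (yb ^ j) ^ (Nat.gcdA j (q ^ kq)) := by
    conv_lhs => rw [← zpow_one yb, hb, zpow_add, zpow_mul, zpow_mul, zpow_natCast, zpow_natCast, hybq,
      one_zpow, mul_one]
  rw [hyb]
  exact Subgroup.zpow_mem _ hj _

end Cfsg.Agent.S4411P
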