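import Mathlib
import Cfsg.Agent.Helper3.S4411Defs

set_option autoImplicit false
set_option linter.unusedSectionVars false
set_option linter.unusedVariables false

/-! Piece TQPNT of the board `s4411pieces`: `TNT` passes to the quotient by a central `p`-subgroup. -/

namespace Cfsg.Agent.S4411P

open Cfsg

/-- if `x h x⁻¹ = z h` with `z` central then `x^k h x^-k = z^k h` -/
theorem TQPNT_aux_pow {Y : Type*} [Group Y] {x h z : Y} (hz : ∀ g : Y, Commute z g)
    (hx : x * h * x⁻¹ = z * h) (k : ℕ) : x ^ k * h * (x ^ k)⁻¹ = z ^ k * h := by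
  induction k with
  | zero => simp
  | succ k ih =>
    have hzk : Commute (z ^ k) x := (hz x).pow_left k
    calc x ^ (k + 1) * h * (x ^ (k + 1))⁻¹ = x * (x ^ k * h * (x ^ k)⁻¹) * x⁻¹ := by
          rw [pow_succ', mul_inv_rev]
          simp only [mul_assoc]
      _ = x * (z ^ k * h) * x⁻¹ := by rw [ih]
      _ = (x * z ^ k) * h * x⁻¹ := by simp only [mul_assoc]
      _ = (z ^ k * x) * h * x⁻¹ := by rw [hzk.eq]
      _ = z ^ k * (x * h * x⁻¹) := by simp only [mul_assoc]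
      _ = z ^ k * (z * h) := by rw [hx]
      _ = z ^ (k + 1) * h := by rw [pow_succ, mul_assoc]

/-- `TNT` passes to the quotient by a central `p`-subgroup. -/
theorem TQP_nt {Y : Type*} [Group Y] [Finite Y] (p q : ℕ) [Fact p.Prime] [Fact q.Prime] (hpq : p ≠ q)
    (M : Subgroup Y) [M.Normal] (hMc : M ≤ Subgroup.center Y) (hMp : IsPGroup p M) (h : TNT p q Y) :
    TNT p q (Y ⧸ M) := by
  obtain ⟨H₀, hH₀, x, hxN, hxC, k, hxk⟩ := h
  refine ⟨H₀.map (QuotientGroup.mk' M), hH₀.map _, QuotientGroup.mk' M x, ?_, ?_, k, ?_⟩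
  · exact Subgroup.le_normalizer_map _ ⟨x, hxN, rfl⟩
  · intro hcent
    apply hxC
    rw [Subgroup.mem_centralizer_iff]
    intro h hh
    have hbar := (Subgroup.mem_centralizer_iff.mp hcent) (QuotientGroup.mk' M h) ⟨h, hh, rfl⟩
    have hzM : x * h * x⁻¹ * h⁻¹ ∈ M := by
      rw [← QuotientGroup.eq_one_iff]
      simp only [QuotientGroup.mk_mul, QuotientGroup.mk_inv]
      have h1 : (QuotientGroup.mk x : Y ⧸ M) * QuotientGroup.mk h =
          QuotientGroup.mk h * QuotientGroup.mk x := hbar.symm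
      rw [h1]
      group
    have hzc : ∀ g : Y, Commute (x * h * x⁻¹ * h⁻¹) g :=
      fun g => (Subgroup.mem_center_iff.mp (hMc hzM) g).symm
    have hx' : x * h * x⁻¹ = (x * h * x⁻¹ * h⁻¹) * h := by group
    have hpow := TQPNT_aux_pow hzc hx' (q ^ k)
    rw [hxk, one_mul, inv_one, mul_one] at hpow
    have hzq : (x * h * x⁻¹ * h⁻¹) ^ (q ^ k) = 1 := by
      have h2 := congrArg (· * h⁻¹) hpow
      simpa using h2.symm
    obtain ⟨i, hzi⟩ := hMp ⟨_, hzM⟩
    have hzp : (x * h * x⁻¹ * h⁻¹) ^ (p ^ i) = 1 := by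
      simpa using congrArg Subtype.val hzi
    have hz1 : x * h * x⁻¹ * h⁻¹ = 1 := by
      have h1 : orderOf (x * h * x⁻¹ * h⁻¹) ∣ q ^ k := orderOf_dvd_of_pow_eq_one hzq
      have h2 : orderOf (x * h * x⁻¹ * h⁻¹) ∣ p ^ i := orderOf_dvd_of_pow_eq_one hzp
      have hcop : Nat.Coprime (q ^ k) (p ^ i) :=
        Nat.Coprime.pow _ _ ((Nat.coprime_primes Fact.out Fact.out).mpr hpq.symm)
      have h3 : orderOf (x * h * x⁻¹ * h⁻¹) = 1 :=
        Nat.Coprime.eq_one_of_dvd (Nat.Coprime.coprime_dvd_left h1 hcop) h2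
      exact orderOf_eq_one_iff.mp h3
    calc h * x = (x * h * x⁻¹ * h⁻¹)⁻¹ * (x * h) := by group
      _ = x * h := by rw [hz1, inv_one, one_mul]
  · show (QuotientGroup.mk' M x) ^ q ^ k = 1
    rw [← map_pow, hxk, map_one]

end Cfsg.Agent.S4411P
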