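import Mathlib
import Cfsg.Agent.Helper3.S4411Defs
import Cfsg.Agent.Helper14.SylowIn

set_option autoImplicit false
set_option linter.unusedSectionVars false
set_option linter.unusedVariables false
set_option linter.style.haveILetI false

/-! Piece TQQ of the board `s4411pieces`: lift `TConcl` from `Y / M`, `M` a normal `p'`-subgroup. -/

namespace Cfsg.Agent.S4411P

open Cfsg Cfsg.Agent.Helper14

/-- the `q`-part of an element (local copy of the argument of `AQ_qpart`) -/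
theorem TQQ_aux_qpart {Y : Type*} [Group Y] [Finite Y] (q : ℕ) [Fact q.Prime] (y : Y) :
    ∃ m : ℕ, m.Coprime q ∧ IsQElt q (y ^ m) := by
  obtain ⟨a, m, hm, hym⟩ :=
    Nat.exists_eq_pow_mul_and_not_dvd (orderOf_pos y).ne' q (Fact.out : q.Prime).ne_one
  refine ⟨m, ?_, a, ?_⟩
  · exact (Nat.Coprime.symm ((Nat.Prime.coprime_iff_not_dvd Fact.out).mpr hm))
  · rw [← pow_mul, mul_comm, ← hym, pow_orderOf_eq_one]

/-- cardinality of the image under a homomorphism injective on the subgroup -/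
theorem TQQ_aux_card_map {Y Z : Type*} [Group Y] [Group Z] (f : Y →* Z) (P : Subgroup Y)
    (hinj : ∀ x ∈ P, f x = 1 → x = 1) : Nat.card ↥(P.map f) = Nat.card ↥P := by
  have hi : Function.Injective (f.subgroupMap P) := by
    rw [injective_iff_map_eq_one]
    intro x hx
    have h1 : f (x : Y) = 1 := by
      have := congrArg Subtype.val hx
      simpa using this
    exact Subtype.ext (hinj x x.2 h1)
  exact (Nat.card_congr (Equiv.ofBijective _ ⟨hi, f.subgroupMap_surjective P⟩)).symm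

/-- `p`-elements of a `p'`-group are trivial -/
theorem TQQ_aux_triv {Y : Type*} [Group Y] [Finite Y] (p : ℕ) [Fact p.Prime] (M P : Subgroup Y)
    (hM : (Nat.card M).Coprime p) (hP : IsPGroup p P) {x : Y} (hxP : x ∈ P) (hxM : x ∈ M) : x = 1 := by
  obtain ⟨i, hxi⟩ := hP ⟨x, hxP⟩
  have hxi' : x ^ (p ^ i) = 1 := by simpa using congrArg Subtype.val hxi
  have h1 : orderOf x ∣ p ^ i := orderOf_dvd_of_pow_eq_one hxi'
  have h2 : orderOf x ∣ Nat.card M := by
    have := orderOf_dvd_natCard (⟨x, hxM⟩ : M)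
    rwa [Subgroup.orderOf_mk] at this
  have hcop : Nat.Coprime (p ^ i) (Nat.card M) := Nat.Coprime.pow_left i hM.symm
  exact orderOf_eq_one_iff.mp (Nat.Coprime.eq_one_of_dvd (Nat.Coprime.coprime_dvd_left h1 hcop) h2)

theorem TQQ {Y : Type*} [Group Y] [Finite Y] (p q : ℕ) [Fact p.Prime] [Fact q.Prime] (M : Subgroup Y) [M.Normal]
    (hM : (Nat.card M).Coprime p) (R : Subgroup Y) (hR : IsPGroup p R)
    (h : TConcl q (R.map (QuotientGroup.mk' M))) : TConcl q R := by
  classical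
  obtain ⟨Kb, hKbR, hKbchar, yb, hybN, hybC, kq, hybq⟩ := h
  -- injectivity of `mk` on `p`-subgroups
  have hinjP : ∀ P : Subgroup Y, IsPGroup p P → ∀ x ∈ P, QuotientGroup.mk' M x = 1 → x = 1 := by
    intro P hP x hxP hx1
    exact TQQ_aux_triv p M P hM hP hxP ((QuotientGroup.eq_one_iff x).mp hx1)
  -- the subgroup `K`
  have hKR : R ⊓ Kb.comap (QuotientGroup.mk' M) ≤ R := inf_le_left
  have hKp : IsPGroup p ↥(R ⊓ Kb.comap (QuotientGroup.mk' M)) := hR.to_le hKR
  have hKmap : (R ⊓ Kb.comap (QuotientGroup.mk' M)).map (QuotientGroup.mk' M) = Kb := by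
    apply le_antisymm
    · rintro _ ⟨x, hx, rfl⟩
      exact hx.2
    · intro kb hkb
      obtain ⟨r, hr, rfl⟩ := hKbR hkb
      exact ⟨r, ⟨hr, hkb⟩, rfl⟩
  -- `K` is characteristic in `R`
  have hKchar : ((R ⊓ Kb.comap (QuotientGroup.mk' M)).subgroupOf R).Characteristic := by
    have hbij : Function.Bijective ((QuotientGroup.mk' M).subgroupMap R) := by
      refine ⟨?_, (QuotientGroup.mk' M).subgroupMap_surjective R⟩
      rw [injective_iff_map_eq_one]
      intro x hx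
      have h1 : QuotientGroup.mk' M (x : Y) = 1 := by
        have := congrArg Subtype.val hx
        simpa using this
      exact Subtype.ext (hinjP R hR x x.2 h1)
    let e : ↥R ≃* ↥(R.map (QuotientGroup.mk' M)) := MulEquiv.ofBijective _ hbij
    have he : ∀ x : ↥R, ((e x : ↥(R.map (QuotientGroup.mk' M))) : Y ⧸ M) = QuotientGroup.mk' M (x : Y) :=
      fun x => rfl
    have hmem : ∀ x : ↥R, x ∈ (R ⊓ Kb.comap (QuotientGroup.mk' M)).subgroupOf R ↔
        e x ∈ Kb.subgroupOf (R.map (QuotientGroup.mk' M)) := by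
      intro x
      rw [Subgroup.mem_subgroupOf, Subgroup.mem_subgroupOf, he]
      constructor
      · intro hx
        exact hx.2
      · intro hx
        exact ⟨x.2, hx⟩
    rw [Subgroup.characteristic_iff_le_comap]
    intro φ x hx
    have h1 := (Subgroup.characteristic_iff_le_comap.mp hKbchar) (e.symm.trans (φ.trans e))
      ((hmem x).mp hx)
    rw [Subgroup.mem_comap] at h1 ⊢
    rw [hmem]
    have h2 : (e.symm.trans (φ.trans e)).toMonoidHom (e x) = e (φ.toMonoidHom x) := by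
      show e (φ (e.symm (e x))) = e (φ x)
      rw [MulEquiv.symm_apply_apply]
    rw [h2] at h1
    exact h1
  -- lifting the acting element into `N_Y(K)`
  obtain ⟨y₀, hy₀⟩ := QuotientGroup.mk'_surjective M yb
  have hy₀N : y₀ ∈ Subgroup.normalizer ((Kb.comap (QuotientGroup.mk' M) : Subgroup Y) : Set Y) := by
    apply Subgroup.le_normalizer_comap (QuotientGroup.mk' M)
    rw [Subgroup.mem_comap, hy₀]
    exact hybN
  have hKL : R ⊓ Kb.comap (QuotientGroup.mk' M) ≤ Kb.comap (QuotientGroup.mk' M) := inf_le_right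
  have hcardK : Nat.card ↥(R ⊓ Kb.comap (QuotientGroup.mk' M)) = Nat.card ↥Kb := by
    rw [← TQQ_aux_card_map (QuotientGroup.mk' M) _ (hinjP _ hKp), hKmap]
  have hmax : ∀ P : Subgroup Y, P ≤ Kb.comap (QuotientGroup.mk' M) → IsPGroup p P →
      Nat.card ↥P ≤ Nat.card ↥(R ⊓ Kb.comap (QuotientGroup.mk' M)) := by
    intro P hPL hP
    rw [hcardK, ← TQQ_aux_card_map (QuotientGroup.mk' M) P (hinjP P hP)]
    apply Subgroup.card_le_of_le
    rintro _ ⟨x, hx, rfl⟩
    exact hPL hx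
  have hsyl : IsSylowIn p (R ⊓ Kb.comap (QuotientGroup.mk' M)) (Kb.comap (QuotientGroup.mk' M)) := by
    obtain ⟨U, hU, hKU⟩ := exists_isSylowIn_ge (p := p) hKL hKp
    have : R ⊓ Kb.comap (QuotientGroup.mk' M) = U :=
      Subgroup.eq_of_le_of_card_ge hKU (hmax U hU.1 hU.2.1)
    rw [this]
    exact hU
  have hsyl' := hsyl.map_cj y₀
  rw [mem_normalizer_iff_map_cj.mp hy₀N] at hsyl'
  obtain ⟨g, hgL, hgK⟩ := hsyl.exists_conj hsyl'
  -- `n = g⁻¹ y₀` normalises `K`
  have hnK : (R ⊓ Kb.comap (QuotientGroup.mk' M)).map (cj (g⁻¹ * y₀)) =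
      R ⊓ Kb.comap (QuotientGroup.mk' M) := by
    rw [← map_cj_mul, hgK, map_cj_map_cj_inv]
  have hgKb : QuotientGroup.mk' M g ∈ Kb := hgL
  rw [← hKmap] at hgKb
  obtain ⟨k, hkK, hkg⟩ := hgKb
  have hkN : k ∈ Subgroup.normalizer ((R ⊓ Kb.comap (QuotientGroup.mk' M) : Subgroup Y) : Set Y) :=
    Subgroup.le_normalizer hkK
  have hnN : k * (g⁻¹ * y₀) ∈
      Subgroup.normalizer ((R ⊓ Kb.comap (QuotientGroup.mk' M) : Subgroup Y) : Set Y) :=
    Subgroup.mul_mem _ hkN (mem_normalizer_iff_map_cj.mpr hnK)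
  have hnimg : QuotientGroup.mk' M (k * (g⁻¹ * y₀)) = yb := by
    rw [map_mul, map_mul, map_inv, hkg, hy₀]
    group
  -- the `q`-part
  obtain ⟨j, hjq, hjQ⟩ := TQQ_aux_qpart q (k * (g⁻¹ * y₀))
  refine ⟨R ⊓ Kb.comap (QuotientGroup.mk' M), hKR, hKchar, (k * (g⁻¹ * y₀)) ^ j,
    Subgroup.pow_mem _ hnN j, ?_, hjQ⟩
  intro hcent
  apply hybC
  -- `yb ^ j` centralises `Kb`
  have hj : yb ^ j ∈ Subgroup.centralizer (Kb : Set (Y ⧸ M)) := by
    rw [Subgroup.mem_centralizer_iff]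
    intro kb hkb
    have hkb' : kb ∈ (R ⊓ Kb.comap (QuotientGroup.mk' M)).map (QuotientGroup.mk' M) := by
      rw [hKmap]; exact hkb
    obtain ⟨x, hx, rfl⟩ := hkb'
    have h1 := (Subgroup.mem_centralizer_iff.mp hcent) x hx
    rw [← hnimg, ← map_pow, ← map_mul, ← map_mul, h1]
  -- `yb` is a power of `yb ^ j`
  have hcop : Nat.Coprime j (q ^ kq) := Nat.Coprime.pow_right kq hjq
  have hb : (1 : ℤ) = (j : ℤ) * Nat.gcdA j (q ^ kq) + ((q ^ kq : ℕ) : ℤ) * Nat.gcdB j (q ^ kq) := by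
    have := Nat.gcd_eq_gcd_ab j (q ^ kq)
    rw [hcop.gcd_eq_one] at this
    exact_mod_cast this
  have hyb : yb = (yb ^ j) ^ (Nat.gcdA j (q ^ kq)) := by
    conv_lhs => rw [← zpow_one yb, hb, zpow_add, zpow_mul, zpow_mul, zpow_natCast, zpow_natCast, hybq,
      one_zpow, mul_one]
  rw [hyb]
  exact Subgroup.zpow_mem _ hj _

end Cfsg.Agent.S4411P
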