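import Mathlib
import Cfsg.Agent.S0065

/-!
Piece NIL of helper26's Tate project: in a finite `p`-group, between normal subgroups `M < Q`
there is a normal `B` with `M ≤ B < Q` and `Q / B` central of exponent `p`.
-/

set_option autoImplicit false

namespace Cfsg.Agent.Helper20.TT

theorem exists_normal_lt {G : Type*} [Group G] [Finite G] {p : ℕ} [Fact p.Prime] (hG : IsPGroup p G)
    (Q M : Subgroup G) (hQ : Q.Normal) (hM : M.Normal) (hlt : M < Q) :
    ∃ B : Subgroup G, B.Normal ∧ M ≤ B ∧ B < Q ∧ (∀ t ∈ Q, ∀ s : G, s * t * s⁻¹ * t⁻¹ ∈ B) ∧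
      (∀ t ∈ Q, t ^ p ∈ B) := by
  classical
  obtain ⟨B, hMB, hBmax⟩ := Finite.exists_le_maximal
    (p := fun B : Subgroup G => B.Normal ∧ M ≤ B ∧ B < Q) (a := M) ⟨hM, le_rfl, hlt⟩
  obtain ⟨⟨hBn, -, hBQ⟩, hmax⟩ := hBmax
  have := hBn
  have : Group.IsNilpotent (G ⧸ B) := (hG.to_quotient B).isNilpotent
  have hπs : Function.Surjective (QuotientGroup.mk' B) := QuotientGroup.mk'_surjective B
  have hQbn : (Q.map (QuotientGroup.mk' B)).Normal := hQ.map _ hπs
  have hQb : Q.map (QuotientGroup.mk' B) ≠ ⊥ := by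
    intro h
    have hle : Q ≤ B := by
      intro q hq
      have h1 : (QuotientGroup.mk' B) q ∈ Q.map (QuotientGroup.mk' B) :=
        Subgroup.mem_map_of_mem _ hq
      rw [h, Subgroup.mem_bot] at h1
      exact (QuotientGroup.eq_one_iff q).1 h1
    exact absurd hBQ (not_lt_of_ge hle)
  have hZ := Cfsg.Agent.S0065.inf_center_ne_bot (Q.map (QuotientGroup.mk' B)) hQb
  -- an element of order p in Z
  set Z : Subgroup (G ⧸ B) := Q.map (QuotientGroup.mk' B) ⊓ Subgroup.center (G ⧸ B) with hZdef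
  have hZp : IsPGroup p Z := (hG.to_quotient B).to_subgroup Z
  have hZnt : Nontrivial Z := (Subgroup.nontrivial_iff_ne_bot Z).2 hZ
  have hpdvd : p ∣ Nat.card Z := by
    obtain ⟨n, hn⟩ := hZp.exists_card_eq
    have hn0 : n ≠ 0 := by
      rintro rfl
      rw [pow_zero] at hn
      have := (Nat.card_eq_one_iff_unique.1 hn).1
      exact not_subsingleton Z this
    rw [hn]
    exact dvd_pow_self p hn0
  obtain ⟨z, hz⟩ := exists_prime_orderOf_dvd_card' p hpdvd
  have hzQ : (z : G ⧸ B) ∈ Q.map (QuotientGroup.mk' B) := (Subgroup.mem_inf.1 z.2).1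
  have hzC : (z : G ⧸ B) ∈ Subgroup.center (G ⧸ B) := (Subgroup.mem_inf.1 z.2).2
  have hzo : orderOf (z : G ⧸ B) = p := by rw [Subgroup.orderOf_coe]; exact hz
  have hz1 : (z : G ⧸ B) ≠ 1 := by
    intro h
    rw [h, orderOf_one] at hzo
    exact (Fact.out : p.Prime).one_lt.ne hzo
  -- the subgroup C = ⟨z⟩
  set C : Subgroup (G ⧸ B) := Subgroup.zpowers (z : G ⧸ B) with hCdef
  have hCcen : C ≤ Subgroup.center (G ⧸ B) := by
    rw [hCdef, Subgroup.zpowers_le]; exact hzC
  have hCn : C.Normal := by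
    refine ⟨fun c hc g => ?_⟩
    have : g * c * g⁻¹ = c := by
      have hcc := Subgroup.mem_center_iff.1 (hCcen hc) g
      rw [hcc, mul_inv_cancel_right]
    rw [this]; exact hc
  have hCQ : C ≤ Q.map (QuotientGroup.mk' B) := by
    rw [hCdef, Subgroup.zpowers_le]; exact hzQ
  set B' : Subgroup G := C.comap (QuotientGroup.mk' B) with hB'def
  have hB'n : B'.Normal := hCn.comap _
  have hBB' : B ≤ B' := by
    intro b hb
    rw [hB'def, Subgroup.mem_comap]
    have : (QuotientGroup.mk' B) b = 1 := (QuotientGroup.eq_one_iff b).2 hb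
    rw [this]; exact C.one_mem
  have hB'Q : B' ≤ Q := by
    intro g hg
    rw [hB'def, Subgroup.mem_comap] at hg
    obtain ⟨q, hq, hqg⟩ := Subgroup.mem_map.1 (hCQ hg)
    -- g = q * b
    have hb : q⁻¹ * g ∈ B := by
      rw [← QuotientGroup.eq_one_iff]
      have : ((q⁻¹ * g : G) : G ⧸ B) = ((QuotientGroup.mk' B) q)⁻¹ * (QuotientGroup.mk' B) g := by
        simp
      rw [this, hqg, inv_mul_cancel]
    have : g = q * (q⁻¹ * g) := by group
    rw [this]
    exact Q.mul_mem hq (hBQ.le hb)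
  have hB'neB : ¬ B' ≤ B := by
    intro hle
    obtain ⟨g, hg⟩ := hπs (z : G ⧸ B)
    have hgB' : g ∈ B' := by
      rw [hB'def, Subgroup.mem_comap, hg]; exact Subgroup.mem_zpowers _
    have := hle hgB'
    rw [← QuotientGroup.eq_one_iff] at this
    apply hz1
    rw [← hg]; exact this
  have hB'eq : B' = Q := by
    by_contra hne
    have hlt' : B' < Q := lt_of_le_of_ne hB'Q hne
    exact hB'neB (hmax ⟨hB'n, hMB.trans hBB', hlt'⟩ hBB')
  -- every element of Q maps into C
  have hQC : ∀ t ∈ Q, (QuotientGroup.mk' B) t ∈ C := by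
    intro t ht
    rw [← hB'eq, hB'def, Subgroup.mem_comap] at ht
    exact ht
  refine ⟨B, hBn, hMB, hBQ, ?_, ?_⟩
  · intro t ht s
    rw [← QuotientGroup.eq_one_iff]
    have hc := Subgroup.mem_center_iff.1 (hCcen (hQC t ht)) ((QuotientGroup.mk' B) s)
    have : ((s * t * s⁻¹ * t⁻¹ : G) : G ⧸ B)
        = (QuotientGroup.mk' B) s * (QuotientGroup.mk' B) t * ((QuotientGroup.mk' B) s)⁻¹ *
          ((QuotientGroup.mk' B) t)⁻¹ := by simp
    rw [this, hc, mul_inv_cancel_right, mul_inv_cancel]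
  · intro t ht
    rw [← QuotientGroup.eq_one_iff]
    obtain ⟨k, hk⟩ := Subgroup.mem_zpowers_iff.1 (hQC t ht)
    have : ((t ^ p : G) : G ⧸ B) = ((QuotientGroup.mk' B) t) ^ p := by simp
    rw [this, ← hk, ← zpow_natCast, ← zpow_mul, mul_comm, zpow_mul, zpow_natCast]
    have hzp : (z : G ⧸ B) ^ p = 1 := by rw [← hzo]; exact pow_orderOf_eq_one _
    rw [hzp, one_zpow]

end Cfsg.Agent.Helper20.TT
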