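import Cfsg.Agent.Helper29.OC2K.Main
import Cfsg.Agent.Helper17.OC2KC2Defs
import Cfsg.Agent.Helper17.OC2KC2PM

set_option autoImplicit false
set_option linter.unusedSectionVars false
set_option linter.unusedVariables false

/-! # OC2K chapter CHAR2, Part B, piece GEOPAIR5: two vectors of a block of dimension `≥ 5`, both perpendicular
to two given vectors `a`, `x` and not perpendicular to each other. -/

namespace Cfsg.Agent.OC2K

open Matrix Cfsg.Agent.Helper28.Sg Cfsg.Agent.Helper28.Spin Cfsg.Agent.Helper12.OrthGen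
  Cfsg.Agent.S2614 Cfsg.Agent.S5683P Cfsg.Agent.Helper28.NDM

variable {F : Type*} [Field F] [Fintype F] {t k : ℕ} {ι : Type} [Fintype ι] [DecidableEq ι] {Q : QuadraticForm F (ι → F)} [QHyp Q] {D : Fin t → Submodule F (ι → F)}
  {M : Subgroup (OGq Q)}

/-- GEOPAIR5 (M-L): `W = {z ∈ D c | B a z = 0 ∧ B x z = 0}` has `finrank ≥ k - 2 ≥ 3`.  If `B` vanished on `W × W`, then `W ≤ W^⊥ ∩ D c`, and in the
nondegenerate `D c` (`hD.nd`) `finrank (W^⊥ ∩ D c) = k - finrank W ≤ 2 < 3`. -/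
theorem C2.GEOPAIR5.main (hD : HD Q k D) (hk : 5 ≤ k) {c : Fin t} {a x : ι → F} (ha : a ∈ D c) (hx : x ∈ D c) :
    ∃ w ∈ D c, ∃ w' ∈ D c, B (Q) a w = 0 ∧ B (Q) x w = 0 ∧ B (Q) a w' = 0 ∧ B (Q) x w' = 0 ∧
      B (Q) w w' ≠ 0 := by
  classical
  let Bc : LinearMap.BilinForm F (D c) := LinearMap.BilinForm.restrict (QuadraticMap.polarBilin Q) (D c)
  have hBc : ∀ u v : D c, Bc u v = B Q (u : ι → F) (v : ι → F) := fun u v => rfl
  have hfin : Module.finrank F (D c) = k := hD.rank c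
  let f : (D c) →ₗ[F] F × F := LinearMap.prod (Bc ⟨a, ha⟩) (Bc ⟨x, hx⟩)
  have hWmem : ∀ z : D c, z ∈ LinearMap.ker f ↔
      B Q a (z : ι → F) = 0 ∧ B Q x (z : ι → F) = 0 := by
    intro z
    rw [LinearMap.mem_ker]
    show (Bc ⟨a, ha⟩ z, Bc ⟨x, hx⟩ z) = (0, 0) ↔ _
    rw [Prod.mk.injEq, hBc, hBc]
  have hWdim : k ≤ Module.finrank F (LinearMap.ker f) + 2 := by
    have h1 := LinearMap.finrank_range_add_finrank_ker f
    have h2 : Module.finrank F (LinearMap.range f) ≤ 2 := by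
      have := Submodule.finrank_le (LinearMap.range f)
      rw [Module.finrank_prod, Module.finrank_self] at this
      exact this
    rw [hfin] at h1
    omega
  by_contra hcon
  push Not at hcon
  have hle : LinearMap.ker f ≤ Bc.orthogonal (LinearMap.ker f) := by
    intro z hz
    rw [LinearMap.BilinForm.mem_orthogonal_iff]
    intro n hn
    have h1 := (hWmem n).mp hn
    have h2 := (hWmem z).mp hz
    exact hcon n n.2 z z.2 h1.1 h1.2 h2.1 h2.2
  have hker : LinearMap.ker Bc = ⊥ := by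
    rw [LinearMap.ker_eq_bot']
    intro u hu
    by_contra hu0
    have hu0' : (u : ι → F) ≠ 0 := fun h => hu0 (Subtype.ext h)
    obtain ⟨y, hy, hne⟩ := hD.nd c u u.2 hu0'
    apply hne
    have : Bc u ⟨y, hy⟩ = 0 := by rw [hu]; rfl
    exact this
  have hsum := LinearMap.BilinForm.finrank_add_finrank_orthogonal' (B := Bc) (LinearMap.ker f)
  rw [hker, inf_bot_eq, finrank_bot, add_zero, hfin] at hsum
  have h3 := Submodule.finrank_mono hle
  omega

end Cfsg.Agent.OC2K
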