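import Mathlib
import Cfsg.Agent.Helper14.GLk.Defs
import Cfsg.Agent.Helper14.SLk.Defs
import Cfsg.Agent.Helper14.PSLk.Defs

set_option autoImplicit false

/-! S2480 piece INVSUM: tuples invariant under root scaling by `c` (of order `o ≥ 2`) are
`X ↦ X^o` substitutions of tuples of degree `n / o`. -/

namespace Cfsg.Agent.S2480P

open Polynomial Cfsg.Agent.S2478P Cfsg.Agent.S2479P

universe u

namespace INVSUM

variable {F : Type u} [Field F]

theorem pow_eq_one_of_coeff {c : Fˣ} {h : F[X]} (hinv : scaleRoots h (c : F) = h) {i : ℕ}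
    (hi : h.coeff i ≠ 0) : c ^ (h.natDegree - i) = 1 := by
  have h1 := congrArg (fun g => g.coeff i) hinv
  simp only [coeff_scaleRoots] at h1
  have h2 : h.coeff i * ((c : F) ^ (h.natDegree - i) - 1) = 0 := by
    rw [mul_sub, h1, mul_one, sub_self]
  apply Units.ext
  rw [Units.val_pow_eq_pow_val, Units.val_one]
  rcases mul_eq_zero.mp h2 with h3 | h3
  · exact absurd h3 hi
  · exact sub_eq_zero.mp h3

theorem dvd_natDegree {c : Fˣ} {h : F[X]} (h0 : h.coeff 0 ≠ 0)
    (hinv : scaleRoots h (c : F) = h) : orderOf c ∣ h.natDegree := by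
  have := pow_eq_one_of_coeff hinv h0
  rw [Nat.sub_zero] at this
  exact orderOf_dvd_of_pow_eq_one this

theorem coeff_eq_zero_of_not_dvd {c : Fˣ} {h : F[X]} (h0 : h.coeff 0 ≠ 0)
    (hinv : scaleRoots h (c : F) = h) {i : ℕ} (hi : ¬ orderOf c ∣ i) : h.coeff i = 0 := by
  by_contra hne
  have hle : i ≤ h.natDegree := le_natDegree_of_ne_zero hne
  have h2 : orderOf c ∣ h.natDegree - i := orderOf_dvd_of_pow_eq_one (pow_eq_one_of_coeff hinv hne)
  obtain ⟨u, hu⟩ := dvd_natDegree h0 hinv
  obtain ⟨v, hv⟩ := h2
  apply hi
  refine ⟨u - v, ?_⟩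
  rw [Nat.mul_sub]
  omega

theorem expand_contract_eq [Fintype F] {c : Fˣ} {h : F[X]} (h0 : h.coeff 0 ≠ 0)
    (hinv : scaleRoots h (c : F) = h) :
    expand F (orderOf c) (contract (orderOf c) h) = h := by
  have ho : 0 < orderOf c := orderOf_pos c
  ext i
  rw [coeff_expand ho]
  split_ifs with hd
  · rw [coeff_contract ho.ne', Nat.div_mul_cancel hd]
  · exact (coeff_eq_zero_of_not_dvd h0 hinv hd).symm

open Classical in
/-- the sign flip making `eps` compatible with `X ↦ X^o` for even `o` -/
noncomputable def fl (o : ℕ) (κ : F[X]) : F[X] := if Even o then scaleRoots κ (-1) else κ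

theorem fl_fl (o : ℕ) (κ : F[X]) : fl o (fl o κ) = κ := by
  unfold fl
  split_ifs with h
  · rw [← scaleRoots_mul]
    simp
  · rfl

theorem natDegree_fl (o : ℕ) (κ : F[X]) : (fl o κ).natDegree = κ.natDegree := by
  unfold fl
  split_ifs with h
  · exact natDegree_scaleRoots κ (-1)
  · rfl

theorem monic_fl (o : ℕ) {κ : F[X]} (h : κ.Monic) : (fl o κ).Monic := by
  unfold fl
  split_ifs with h'
  · exact (monic_scaleRoots_iff (-1)).mpr h
  · exact h

theorem coeff_zero_fl (o : ℕ) {κ : F[X]} (h : κ.coeff 0 ≠ 0) : (fl o κ).coeff 0 ≠ 0 := by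
  unfold fl
  split_ifs with h'
  · rw [coeff_scaleRoots]
    exact mul_ne_zero h (pow_ne_zero _ (neg_ne_zero.mpr one_ne_zero))
  · exact h

theorem fl_one (o : ℕ) : fl o (1 : F[X]) = 1 := by
  unfold fl
  split_ifs with h
  · exact one_scaleRoots _
  · rfl

theorem eps_fl (o : ℕ) (κ : F[X]) :
    eps (fl o κ) = (-1) ^ (κ.natDegree * o) * κ.coeff 0 := by
  unfold fl
  split_ifs with h
  · unfold eps
    rw [natDegree_scaleRoots, coeff_scaleRoots, Nat.sub_zero, pow_mul',
      Even.neg_one_pow h, one_pow, one_mul, mul_comm, mul_assoc, ← pow_add, ← two_mul,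
      pow_mul, neg_one_sq, one_pow, mul_one]
  · unfold eps
    rw [pow_mul', Odd.neg_one_pow (Nat.not_even_iff_odd.mp h)]

/-- the substitution map on tuples -/
noncomputable def Phi (o : ℕ) (t : ℕ → F[X]) : ℕ → F[X] := fun m => fl o (contract o (t m))

/-- facts about one invariant polynomial -/
theorem facts [Fintype F] {c : Fˣ} {h : F[X]} (hm : h.Monic) (h0 : h.coeff 0 ≠ 0)
    (hinv : scaleRoots h (c : F) = h) :
    (contract (orderOf c) h).Monic ∧ (contract (orderOf c) h).coeff 0 ≠ 0 ∧
      h.natDegree = (contract (orderOf c) h).natDegree * orderOf c ∧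
      eps (fl (orderOf c) (contract (orderOf c) h)) = eps h := by
  have ho : 0 < orderOf c := orderOf_pos c
  have he := expand_contract_eq h0 hinv
  have hmon : (contract (orderOf c) h).Monic := by
    rw [← monic_expand_iff ho, he]
    exact hm
  have hc0 : (contract (orderOf c) h).coeff 0 = h.coeff 0 := by
    rw [coeff_contract ho.ne', Nat.zero_mul]
  have hdeg : h.natDegree = (contract (orderOf c) h).natDegree * orderOf c := by
    conv_lhs => rw [← he]
    exact natDegree_expand _ _
  refine ⟨hmon, by rw [hc0]; exact h0, hdeg, ?_⟩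
  rw [eps_fl, hc0, ← hdeg]
  rfl

end INVSUM

open INVSUM in
open Classical in
theorem sum_idx_invariant_le (F : Type u) [Field F] [Fintype F] (n : ℕ) (c : Fˣ) (hc1 : c ≠ 1)
    (hcn : c ^ n = 1) (hT : (T F n n).Finite)
    (hT' : (T F (n / orderOf c) (n / orderOf c)).Finite) :
    ∑ t ∈ hT.toFinset.filter
        (fun t => dett n t = 1 ∧ ∀ m, scaleRoots (t m) (c : F) = t m), idx t ≤
      ∑ k ∈ hT'.toFinset.filter (fun k => dett (n / orderOf c) k = 1), idx k := by
  set o := orderOf c with ho_def
  have ho : 0 < o := orderOf_pos c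
  have hon : o ∣ n := orderOf_dvd_of_pow_eq_one hcn
  -- properties of members of the source set
  have key : ∀ t ∈ hT.toFinset.filter
      (fun t => dett n t = 1 ∧ ∀ m, scaleRoots (t m) (c : F) = t m),
      Phi o t ∈ hT'.toFinset.filter (fun k => dett (n / o) k = 1) ∧ idx (Phi o t) = idx t ∧
        ∀ m, t m = expand F o (fl o (Phi o t m)) := by
    intro t ht
    rw [Finset.mem_filter, Set.Finite.mem_toFinset] at ht
    obtain ⟨⟨htm, ht1, htsum⟩, hdet, hinv⟩ := ht
    have hf := fun m => facts (htm m).1 (htm m).2 (hinv m)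
    have hdeg : ∀ m, (t m).natDegree = (Phi o t m).natDegree * o := by
      intro m
      rw [(hf m).2.2.1]
      unfold Phi
      rw [natDegree_fl]
    have hexp : ∀ m, t m = expand F o (fl o (Phi o t m)) := by
      intro m
      unfold Phi
      rw [fl_fl]
      exact (expand_contract_eq (htm m).2 (hinv m)).symm
    -- `t m = 1` beyond `n / o`
    have hone : ∀ m, (m = 0 ∨ n / o < m) → t m = 1 := by
      intro m hm
      by_cases hmn : m = 0 ∨ n < m
      · exact ht1 m hmn
      push Not at hmn
      rcases hm with hm | hm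
      · exact absurd hm hmn.1
      apply eq_one_of_monic_natDegree_zero (htm m).1
      by_contra hne
      have hb : 1 ≤ (Phi o t m).natDegree := by
        rcases Nat.eq_zero_or_pos (Phi o t m).natDegree with h0 | h0
        · rw [hdeg m, h0, Nat.zero_mul] at hne
          exact absurd rfl hne
        · exact h0
      have hle : m * (t m).natDegree ≤ n := by
        rw [← htsum]
        exact Finset.single_le_sum (f := fun m => m * (t m).natDegree)
          (fun i _ => Nat.zero_le _) (Finset.mem_range.mpr (by omega))
      rw [hdeg m] at hle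
      have h2 : m * o ≤ n := by
        calc m * o ≤ m * ((Phi o t m).natDegree * o) := by
              apply Nat.mul_le_mul_left
              exact Nat.le_mul_of_pos_left _ hb
          _ ≤ n := hle
      have h3 : m ≤ n / o := (Nat.le_div_iff_mul_le ho).mpr h2
      omega
    have hPhione : ∀ m, (m = 0 ∨ n / o < m) → Phi o t m = 1 := by
      intro m hm
      have h1 := hone m hm
      have h2 := hexp m
      rw [h1] at h2
      have h3 : fl o (Phi o t m) = 1 := by
        apply expand_injective ho
        rw [← h2]
        simp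
      have h4 := congrArg (fl o) h3
      rwa [fl_fl, fl_one] at h4
    have hle : n / o ≤ n := Nat.div_le_self n o
    have hsub : Finset.range (n / o + 1) ⊆ Finset.range (n + 1) := by
      intro x hx
      rw [Finset.mem_range] at hx ⊢
      omega
    refine ⟨?_, ?_, hexp⟩
    · rw [Finset.mem_filter, Set.Finite.mem_toFinset]
      refine ⟨⟨?_, hPhione, ?_⟩, ?_⟩
      · intro m
        exact ⟨monic_fl o (hf m).1, coeff_zero_fl o (hf m).2.1⟩
      · -- the degree sum
        have h1 : ∑ m ∈ Finset.range (n / o + 1), m * (Phi o t m).natDegree =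
            ∑ m ∈ Finset.range (n + 1), m * (Phi o t m).natDegree := by
          apply Finset.sum_subset hsub
          intro x hx hx'
          rw [Finset.mem_range] at hx hx'
          rw [hPhione x (Or.inr (by omega))]
          simp
        rw [h1]
        have h2 : (∑ m ∈ Finset.range (n + 1), m * (Phi o t m).natDegree) * o = n := by
          rw [Finset.sum_mul]
          conv_rhs => rw [← htsum]
          apply Finset.sum_congr rfl
          intro m _
          rw [hdeg m, mul_assoc]
        exact (Nat.div_eq_of_eq_mul_left ho h2.symm).symm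
      · -- the determinant
        unfold dett at hdet ⊢
        rw [← hdet]
        have h1 : ∏ m ∈ Finset.range (n / o + 1), eps (Phi o t m) ^ m =
            ∏ m ∈ Finset.range (n + 1), eps (Phi o t m) ^ m := by
          apply Finset.prod_subset hsub
          intro x hx hx'
          rw [Finset.mem_range] at hx hx'
          rw [hPhione x (Or.inr (by omega))]
          unfold eps
          simp
        rw [h1]
        apply Finset.prod_congr rfl
        intro m _
        have := (hf m).2.2.2
        unfold Phi
        rw [this]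
    · -- idx
      have hparts : parts (Phi o t) = parts t := by
        ext m
        change 1 ≤ (Phi o t m).natDegree ↔ 1 ≤ (t m).natDegree
        rw [hdeg m]
        constructor
        · intro h
          exact Nat.mul_pos h ho
        · intro h
          by_contra h'
          have : (Phi o t m).natDegree = 0 := by omega
          rw [this, Nat.zero_mul] at h
          omega
      unfold idx D
      rw [hparts]
  calc ∑ t ∈ hT.toFinset.filter
        (fun t => dett n t = 1 ∧ ∀ m, scaleRoots (t m) (c : F) = t m), idx t
      = ∑ t ∈ hT.toFinset.filter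
        (fun t => dett n t = 1 ∧ ∀ m, scaleRoots (t m) (c : F) = t m), idx (Phi o t) := by
        apply Finset.sum_congr rfl
        intro t ht
        exact ((key t ht).2.1).symm
    _ = ∑ k ∈ (hT.toFinset.filter
        (fun t => dett n t = 1 ∧ ∀ m, scaleRoots (t m) (c : F) = t m)).image (Phi o), idx k := by
        rw [Finset.sum_image]
        intro t ht t' ht' heq
        funext m
        rw [(key t (Finset.mem_coe.mp ht)).2.2 m, (key t' (Finset.mem_coe.mp ht')).2.2 m, heq]
    _ ≤ ∑ k ∈ hT'.toFinset.filter (fun k => dett (n / o) k = 1), idx k := by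
        apply Finset.sum_le_sum_of_subset
        intro k hk
        rw [Finset.mem_image] at hk
        obtain ⟨t, ht, rfl⟩ := hk
        exact (key t ht).1

end Cfsg.Agent.S2480P
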