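import Mathlib
import Cfsg.Agent.Helper6.S2861Defs

set_option autoImplicit false

namespace Cfsg.Agent.S2861P

/-- normalisation is preserved by an isomorphism -/
theorem TRANSPORT.aux_norm {X X' : Type*} [Group X] [Group X'] (e : X ≃* X') (A B : Subgroup X)
    (h : B ≤ Subgroup.normalizer (A : Set X)) :
    B.map e.toMonoidHom ≤ Subgroup.normalizer ((A.map e.toMonoidHom : Subgroup X') : Set X') := by
  rintro _ ⟨x, hx, rfl⟩
  have hxn := h hx
  rw [Subgroup.mem_normalizer_iff] at hxn ⊢
  intro n'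
  have h1 : e.symm (e.toMonoidHom x * n' * (e.toMonoidHom x)⁻¹) = x * e.symm n' * x⁻¹ := by
    simp
  show n' ∈ A.map e.toMonoidHom ↔ e.toMonoidHom x * n' * (e.toMonoidHom x)⁻¹ ∈ A.map e.toMonoidHom
  rw [Subgroup.mem_map_equiv, Subgroup.mem_map_equiv, h1]
  exact hxn (e.symm n')

/-- elementary abelian is preserved by an isomorphism -/
theorem TRANSPORT.aux_elab {X X' : Type*} [Group X] [Group X'] (e : X ≃* X') (p : ℕ)
    (A : Subgroup X) (h : Cfsg.IsElementaryAbelian p A) :
    Cfsg.IsElementaryAbelian p (A.map e.toMonoidHom) := by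
  obtain ⟨hc, hp⟩ := h
  refine ⟨⟨⟨?_⟩⟩, ?_⟩
  · rintro ⟨_, a, ha, rfl⟩ ⟨_, b, hb, rfl⟩
    apply Subtype.ext
    show e.toMonoidHom a * e.toMonoidHom b = e.toMonoidHom b * e.toMonoidHom a
    have hab : (⟨a, ha⟩ : A) * ⟨b, hb⟩ = ⟨b, hb⟩ * ⟨a, ha⟩ := hc.is_comm.comm _ _
    have hab' : a * b = b * a := congrArg Subtype.val hab
    rw [← map_mul, ← map_mul, hab']
  · rintro _ ⟨a, ha, rfl⟩
    rw [← map_pow, hp a ha, map_one]

/-- TRANSPORT: everything is invariant under isomorphisms. -/
theorem TRANSPORT {X X' : Type*} [Group X] [Group X'] (e : X ≃* X') (p : ℕ) (Yb Nb : Subgroup X) :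
    (Hyp Yb Nb → Hyp (Yb.map e.toMonoidHom) (Nb.map e.toMonoidHom)) ∧
    (Concl p (Yb.map e.toMonoidHom) (Nb.map e.toMonoidHom) → Concl p Yb Nb) ∧
    Nat.card ↥(Yb.map e.toMonoidHom) = Nat.card ↥Yb ∧
    (Cfsg.IsElementaryAbelian p Yb → Cfsg.IsElementaryAbelian p (Yb.map e.toMonoidHom)) := by
  have hinj : Function.Injective e.toMonoidHom := e.injective
  have hsurj : Function.Surjective e.toMonoidHom := e.surjective
  refine ⟨?_, ?_, ?_, TRANSPORT.aux_elab e p Yb⟩
  · intro h
    refine ⟨Subgroup.map_mono h.le, ?_, ?_, TRANSPORT.aux_norm e Yb Nb h.norm, ?_⟩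
    · intro htop
      apply h.ne_top
      apply Subgroup.map_injective hinj
      rw [htop, ← MonoidHom.range_eq_map]
      exact (MonoidHom.range_eq_top.2 hsurj).symm
    · intro Z' hYZ hZ
      have h1 : Yb ≤ Z'.comap e.toMonoidHom := Subgroup.map_le_iff_le_comap.1 hYZ
      have h2 : Z'.comap e.toMonoidHom ≠ ⊤ := by
        intro htop
        apply hZ
        rw [eq_top_iff]
        intro x' _
        obtain ⟨x, rfl⟩ := hsurj x'
        have : x ∈ Z'.comap e.toMonoidHom := by rw [htop]; trivial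
        exact this
      have h3 := h.max _ h1 h2
      have h4 := Subgroup.map_mono (f := e.toMonoidHom) h3
      rwa [Subgroup.map_comap_eq_self_of_surjective hsurj] at h4
    · have := Subgroup.map_normalClosure (Yb : Set X) e.toMonoidHom hsurj
      rw [h.gen, ← MonoidHom.range_eq_map, MonoidHom.range_eq_top.2 hsurj] at this
      rw [Subgroup.coe_map]
      exact this.symm
  · intro hC V hVN hNV hel hne
    have hmap := hC (V.map e.toMonoidHom) (Subgroup.map_mono hVN) (TRANSPORT.aux_norm e V Nb hNV)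
      (TRANSPORT.aux_elab e p V hel)
      (by
        intro hbot
        exact hne ((Subgroup.map_eq_bot_iff_of_injective V hinj).1 hbot))
    exact Subgroup.map_injective hinj hmap
  · exact Nat.card_congr (Yb.equivMapOfInjective e.toMonoidHom hinj).toEquiv.symm

end Cfsg.Agent.S2861P
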