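import Mathlib
import Cfsg.Agent.Helper26.S4394Defs
import Cfsg.Agent.Lead.CoprimeFrattini
import Cfsg.Agent.Lead.Coprime3
import Cfsg.Agent.Helper1.PGroup
import Cfsg.Agent.Helper15.OmegaFus

set_option autoImplicit false
set_option linter.unusedSectionVars false
set_option linter.unusedVariables false
set_option linter.style.haveILetI false

/-! Piece GSb of the board `s4394pieces`: basic consequences of `SchData`. -/

namespace Cfsg.Agent.S4394P

open Cfsg Cfsg.Agent.S4394P

/-- membership in the centralizer of a singleton -/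
theorem GSb_aux_mem_cent {X : Type*} [Group X] (y c : X) :
    c ∈ Subgroup.centralizer ({y} : Set X) ↔ y * c = c * y := by
  rw [Subgroup.mem_centralizer_iff]
  constructor
  · intro h; exact h y rfl
  · intro h g hg; rw [Set.mem_singleton_iff.mp hg]; exact h

/-- in a finite group an element mapping `M` into itself normalizes `M` -/
theorem GSb_aux_normalizer {X : Type*} [Group X] [Finite X] (M : Subgroup X) (y : X)
    (hy : ∀ m ∈ M, y * m * y⁻¹ ∈ M) : y ∈ Subgroup.normalizer (M : Set X) := by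
  rw [Subgroup.mem_normalizer_iff]
  intro g
  constructor
  · exact hy g
  · intro hg
    have hinj : Function.Injective (fun m : ↥M => (⟨y * m * y⁻¹, hy m m.2⟩ : ↥M)) := by
      intro a b hab
      have := congrArg Subtype.val hab
      simp only at this
      apply Subtype.ext
      exact mul_left_cancel (mul_right_cancel this)
    obtain ⟨m, hm⟩ := (Finite.injective_iff_surjective.mp hinj) ⟨y * g * y⁻¹, hg⟩
    have := congrArg Subtype.val hm
    simp only at this
    have e : (m : X) = g := mul_left_cancel (mul_right_cancel this)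
    rw [← e]; exact m.2

/-- every `y`-invariant subgroup of `P` is `P` or is centralized by `y` -/
theorem GSb_aux_irr {X : Type*} [Group X] {p : ℕ} {P : Subgroup X} {y : X} (h : SchData p P y)
    (M : Subgroup X) (hM : M ≤ P) (hy : ∀ m ∈ M, y * m * y⁻¹ ∈ M) :
    M = P ∨ M ≤ P ⊓ Subgroup.centralizer {y} := by
  by_cases hMP : M = P
  · exact Or.inl hMP
  · right
    intro m hm
    exact Subgroup.mem_inf.mpr ⟨hM hm, (GSb_aux_mem_cent y m).mpr (h.irr M hM hMP hy m hm)⟩

theorem GSb_aux_C_ne {X : Type*} [Group X] {p : ℕ} {P : Subgroup X} {y : X} (h : SchData p P y) :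
    P ⊓ Subgroup.centralizer {y} ≠ P := by
  intro hC
  obtain ⟨u, hu, hne⟩ := h.nc
  apply hne
  have : u ∈ P ⊓ Subgroup.centralizer {y} := by rw [hC]; exact hu
  exact (GSb_aux_mem_cent y u).mp (Subgroup.mem_inf.mp this).2

/-- if `y w y⁻¹ = c w` with `c` commuting with `y` then `y^k w y^-k = c^k w` -/
theorem GSb_aux_pow_conj {X : Type*} [Group X] (y w c : X) (hc : y * c = c * y)
    (hw : y * w * y⁻¹ = c * w) (k : ℕ) : y ^ k * w * (y ^ k)⁻¹ = c ^ k * w := by
  induction k with
  | zero => simp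
  | succ k ih =>
    have hck : y * c ^ k * y⁻¹ = c ^ k := by
      have : Commute y (c ^ k) := Commute.pow_right hc k
      rw [this.eq, mul_assoc, mul_inv_cancel, mul_one]
    calc y ^ (k + 1) * w * (y ^ (k + 1))⁻¹
        = y * (y ^ k * w * (y ^ k)⁻¹) * y⁻¹ := by rw [pow_succ']; group
      _ = y * (c ^ k * w) * y⁻¹ := by rw [ih]
      _ = (y * c ^ k * y⁻¹) * (y * w * y⁻¹) := by group
      _ = c ^ k * (c * w) := by rw [hck, hw]
      _ = c ^ (k + 1) * w := by rw [pow_succ, mul_assoc]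

/-- a `p`-element whose `n`-th power is trivial, `n` prime to `p`, is trivial -/
theorem GSb_aux_eq_one {X : Type*} [Group X] {p : ℕ} {P : Subgroup X} (hP : IsPGroup p P)
    (c : X) (hc : c ∈ P) (n : ℕ) (hn : n.Coprime p) (h : c ^ n = 1) : c = 1 := by
  obtain ⟨j, hj⟩ := hP ⟨c, hc⟩
  have hj' : c ^ (p ^ j) = 1 := by
    have := congrArg Subtype.val hj
    simpa using this
  have h1 : orderOf c ∣ n := orderOf_dvd_of_pow_eq_one h
  have h2 : orderOf c ∣ p ^ j := orderOf_dvd_of_pow_eq_one hj'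
  have h3 : orderOf c ∣ Nat.gcd n (p ^ j) := Nat.dvd_gcd h1 h2
  rw [Nat.Coprime.pow_right j hn] at h3
  exact orderOf_eq_one_iff.mp (Nat.dvd_one.mp h3)

/-- `P` is generated by the commutators `[y, w]`, `w ∈ P` -/
theorem GSb_aux_closure {X : Type*} [Group X] [Finite X] {p : ℕ} {P : Subgroup X} {y : X}
    (h : SchData p P y) :
    Subgroup.closure {g : X | ∃ w ∈ P, y * w * y⁻¹ * w⁻¹ = g} = P := by
  have hle : Subgroup.closure {g : X | ∃ w ∈ P, y * w * y⁻¹ * w⁻¹ = g} ≤ P := by
    rw [Subgroup.closure_le]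
    rintro _ ⟨w, hw, rfl⟩
    exact P.mul_mem (h.nrm w hw) (P.inv_mem hw)
  have hinv : ∀ m ∈ Subgroup.closure {g : X | ∃ w ∈ P, y * w * y⁻¹ * w⁻¹ = g},
      y * m * y⁻¹ ∈ Subgroup.closure {g : X | ∃ w ∈ P, y * w * y⁻¹ * w⁻¹ = g} := by
    intro m hm
    induction hm using Subgroup.closure_induction with
    | mem g hg =>
      obtain ⟨w, hw, rfl⟩ := hg
      apply Subgroup.subset_closure
      refine ⟨y * w * y⁻¹, h.nrm w hw, ?_⟩
      group
    | one => simp
    | mul a b _ _ ha hb =>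
      have e : y * (a * b) * y⁻¹ = (y * a * y⁻¹) * (y * b * y⁻¹) := by group
      rw [e]; exact Subgroup.mul_mem _ ha hb
    | inv a _ ha =>
      have e : y * a⁻¹ * y⁻¹ = (y * a * y⁻¹)⁻¹ := by group
      rw [e]; exact Subgroup.inv_mem _ ha
  rcases GSb_aux_irr h _ hle hinv with h1 | h1
  · exact h1
  · exfalso
    obtain ⟨u, hu, hne⟩ := h.nc
    apply hne
    have hc : y * u * y⁻¹ * u⁻¹ ∈ P ⊓ Subgroup.centralizer {y} :=
      h1 (Subgroup.subset_closure ⟨u, hu, rfl⟩)
    obtain ⟨hcP, hcy⟩ := Subgroup.mem_inf.mp hc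
    have hcy' := (GSb_aux_mem_cent y _).mp hcy
    have hw : y * u * y⁻¹ = (y * u * y⁻¹ * u⁻¹) * u := by group
    have h2 := GSb_aux_pow_conj y u _ hcy' hw (orderOf y)
    rw [pow_orderOf_eq_one, one_mul, inv_one, mul_one] at h2
    have h3 : (y * u * y⁻¹ * u⁻¹) ^ orderOf y = 1 := by
      have := mul_right_cancel (a := (y * u * y⁻¹ * u⁻¹) ^ orderOf y) (b := u) (c := 1)
        (by rw [one_mul]; exact h2.symm)
      exact this
    have h4 := GSb_aux_eq_one h.pgrp _ hcP _ h.cop h3
    have : y * u * y⁻¹ = u := by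
      have := congrArg (· * u) h4
      simpa using this
    calc y * u = (y * u * y⁻¹) * y := by group
      _ = u * y := by rw [this]

/-- GSb (M/L): basic consequences of `SchData`; `C = C_P(y)`. -/
theorem GSb {X : Type*} [Group X] [Finite X] {p : ℕ} [Fact p.Prime] {P : Subgroup X} {y : X}
    (h : SchData p P y) :
    (∀ u ∈ P, ∀ v ∈ P, u * v * u⁻¹ * v⁻¹ ∈ P ⊓ Subgroup.centralizer {y}) ∧
    (∀ u ∈ P, u ^ p ∈ P ⊓ Subgroup.centralizer {y}) ∧
    (∀ c ∈ P ⊓ Subgroup.centralizer {y}, ∀ u ∈ P, c * u = u * c) ∧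
    ⁅P, Subgroup.zpowers y⁆ = P := by
  classical
  have hyN : y ∈ Subgroup.normalizer (P : Set X) := GSb_aux_normalizer P y h.nrm
  have hYN : Subgroup.zpowers y ≤ Subgroup.normalizer (P : Set X) := Subgroup.zpowers_le.mpr hyN
  -- (b4)
  have hb4 : ⁅P, Subgroup.zpowers y⁆ = P := by
    apply le_antisymm
    · exact Cfsg.Agent.Lead.commutator_le_of_le_normalizer hYN
    · have hcl : Subgroup.closure {g : X | ∃ w ∈ P, y * w * y⁻¹ * w⁻¹ = g} ≤
          ⁅P, Subgroup.zpowers y⁆ := by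
        rw [Subgroup.closure_le]
        rintro _ ⟨w, hw, rfl⟩
        rw [Subgroup.commutator_comm]
        have := Subgroup.commutator_mem_commutator (Subgroup.mem_zpowers y) hw
        rwa [commutatorElement_def] at this
      rwa [GSb_aux_closure h] at hcl
  -- the Frattini subgroup
  haveI : Nontrivial ↥P := by
    obtain ⟨u, hu, hne⟩ := h.nc
    refine ⟨⟨⟨u, hu⟩, 1, ?_⟩⟩
    intro h1
    apply hne
    have : u = 1 := congrArg Subtype.val h1
    rw [this, mul_one, one_mul]
  have hFle : (frattini ↥P).map P.subtype ≤ P := Subgroup.map_subtype_le _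
  have hFne : (frattini ↥P).map P.subtype ≠ P := by
    intro hF
    apply Cfsg.Agent.Helper15.frattini_ne_top_of_nontrivial (Q := ↥P)
    apply Subgroup.map_injective P.subtype_injective
    rw [hF, ← MonoidHom.range_eq_map, Subgroup.range_subtype]
  have hFy : ∀ m ∈ (frattini ↥P).map P.subtype, y * m * y⁻¹ ∈ (frattini ↥P).map P.subtype := by
    intro m hm
    have := Cfsg.Agent.Lead.normalizer_le_normalizer_map_of_characteristic P (frattini ↥P) hyN
    exact (Subgroup.mem_normalizer_iff.mp this m).mp hm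
  have hFC : (frattini ↥P).map P.subtype ≤ P ⊓ Subgroup.centralizer {y} := by
    rcases GSb_aux_irr h _ hFle hFy with h1 | h1
    · exact absurd h1 hFne
    · exact h1
  have hb1 : ∀ u ∈ P, ∀ v ∈ P, u * v * u⁻¹ * v⁻¹ ∈ P ⊓ Subgroup.centralizer {y} := by
    intro u hu v hv
    apply hFC
    refine ⟨⟨u, hu⟩ * ⟨v, hv⟩ * (⟨u, hu⟩ : ↥P)⁻¹ * (⟨v, hv⟩ : ↥P)⁻¹, ?_, rfl⟩
    apply Cfsg.Agent.Helper1.IsPGroup.commutator_le_frattini h.pgrp
    rw [commutator_def]
    have := Subgroup.commutator_mem_commutator (Subgroup.mem_top (⟨u, hu⟩ : ↥P))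
      (Subgroup.mem_top (⟨v, hv⟩ : ↥P))
    rwa [commutatorElement_def] at this
  have hb2 : ∀ u ∈ P, u ^ p ∈ P ⊓ Subgroup.centralizer {y} := by
    intro u hu
    apply hFC
    exact ⟨(⟨u, hu⟩ : ↥P) ^ p, Cfsg.Agent.Helper1.IsPGroup.pow_mem_frattini h.pgrp _, rfl⟩
  refine ⟨hb1, hb2, ?_, hb4⟩
  -- (b3): three subgroups lemma
  have hCY : P ⊓ Subgroup.centralizer {y} ≤ Subgroup.centralizer (Subgroup.zpowers y : Set X) := by
    intro c hc
    have hcy := (GSb_aux_mem_cent y c).mp (Subgroup.mem_inf.mp hc).2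
    rw [Subgroup.mem_centralizer_iff]
    rintro g hg
    obtain ⟨k, rfl⟩ := Subgroup.mem_zpowers_iff.mp hg
    exact (Commute.zpow_left hcy k).eq
  have h2 : ⁅⁅P ⊓ Subgroup.centralizer {y}, Subgroup.zpowers y⁆, P⁆ = ⊥ := by
    rw [Subgroup.commutator_eq_bot_iff_le_centralizer.mpr hCY]
    exact Subgroup.commutator_bot_left P
  have h1 : ⁅⁅P, P ⊓ Subgroup.centralizer {y}⁆, Subgroup.zpowers y⁆ = ⊥ := by
    rw [eq_bot_iff]
    refine le_trans (Subgroup.commutator_mono ?_ le_rfl)
      (le_of_eq (Subgroup.commutator_eq_bot_iff_le_centralizer.mpr hCY))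
    rw [Subgroup.commutator_le]
    intro g1 hg1 g2 hg2
    rw [commutatorElement_def]
    exact hb1 g1 hg1 g2 (Subgroup.mem_inf.mp hg2).1
  have h3 := Subgroup.commutator_commutator_eq_bot_of_rotate h1 h2
  rw [Subgroup.commutator_comm (Subgroup.zpowers y) P, hb4,
    Subgroup.commutator_eq_bot_iff_le_centralizer] at h3
  intro c hc u hu
  have := h3 hu
  rw [Subgroup.mem_centralizer_iff] at this
  exact this c hc

end Cfsg.Agent.S4394P
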