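import Mathlib
import Cfsg.Agent.Helper14.S5559Defs

set_option autoImplicit false
set_option linter.unusedSectionVars false
set_option linter.unusedVariables false

/-! # S5559 piece CORE0: build the working context -/

namespace Cfsg.Agent.S5559P

/-- private copy of CYC: a finite `p`-group generated by one conjugacy class is cyclic -/
theorem CORE0.aux_cyc {G : Type*} [Group G] [Finite G] {p : ℕ} [Fact p.Prime]
    (hG : IsPGroup p G) (d : G) (hgen : Subgroup.closure (conjugatesOf d) = ⊤) :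
    Subgroup.zpowers d = ⊤ := by
  by_contra hne
  have : Group.IsNilpotent G := hG.isNilpotent
  obtain ⟨M, hM, hle⟩ := (eq_top_or_exists_le_coatom (Subgroup.zpowers d)).resolve_left hne
  have hnorm : M.Normal :=
    Subgroup.NormalizerCondition.normal_of_coatom M (Group.normalizerCondition_of_isNilpotent) hM
  have hd : d ∈ M := hle (Subgroup.mem_zpowers d)
  have hsub : conjugatesOf d ⊆ M := by
    intro x hx
    obtain ⟨c, hc⟩ := isConj_iff.mp hx
    rw [← hc]
    exact hnorm.conj_mem d hd c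
  have : (⊤ : Subgroup G) ≤ M := by
    rw [← hgen, Subgroup.closure_le]
    exact hsub
  exact hM.1 (top_le_iff.mp this)

/-- an element of a 3-group whose square is one is trivial -/
theorem CORE0.aux_sq {G : Type*} [Group G] (Q : Subgroup G) (hQ : IsPGroup 3 Q) (x : G)
    (hx : x ∈ Q) (h2 : x ^ 2 = 1) : x = 1 := by
  obtain ⟨k, hk⟩ := hQ ⟨x, hx⟩
  have hk' : x ^ 3 ^ k = 1 := by
    have := congrArg Subtype.val hk
    simpa using this
  have h1 : orderOf x ∣ 2 := orderOf_dvd_of_pow_eq_one h2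
  have h2' : orderOf x ∣ 3 ^ k := orderOf_dvd_of_pow_eq_one hk'
  have h3 : orderOf x ∣ Nat.gcd 2 (3 ^ k) := Nat.dvd_gcd h1 h2'
  have h4 : Nat.gcd 2 (3 ^ k) = 1 := Nat.Coprime.pow_right k (by norm_num)
  rw [h4, Nat.dvd_one, orderOf_eq_one_iff] at h3
  exact h3

/-- faithfulness on a 3-group from faithfulness on elements of order dividing 3 -/
theorem CORE0.aux_faith {G : Type*} [Group G] {W : Type*} [CommGroup W] (ρ : G →* MulAut W)
    (hρ3 : ∀ g : G, g ^ 3 = 1 → (∀ w : W, ρ g w = w) → g = 1)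
    (Q : Subgroup G) (hQ : IsPGroup 3 Q) (g : G) (hg : g ∈ Q) (htriv : ∀ w : W, ρ g w = w) :
    g = 1 := by
  obtain ⟨k, hk⟩ := hQ ⟨g, hg⟩
  have hk' : g ^ 3 ^ k = 1 := by
    have := congrArg Subtype.val hk
    simpa using this
  have hρg : ρ g = 1 := by
    ext w
    exact htriv w
  -- induction on `k`
  induction k generalizing g with
  | zero => simpa using hk'
  | succ n ih =>
    have h1 : (g ^ 3 ^ n) ^ 3 = 1 := by rw [← pow_mul, ← pow_succ]; exact hk'
    have h2 : ∀ w : W, ρ (g ^ 3 ^ n) w = w := by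
      intro w
      rw [map_pow, hρg, one_pow]
      rfl
    have h3 : g ^ 3 ^ n = 1 := hρ3 _ h1 h2
    exact ih g hg htriv (Subtype.ext (by simpa using h3)) h3 hρg

/-- CORE0 -/
theorem CORE0 {G : Type*} [Group G] [Finite G] {W : Type*} [CommGroup W] [Finite W]
    (D : Set G) (hD : IsTT D) (ρ : G →* MulAut W) (hρ : ModOK D ρ) (Q : Subgroup G)
    (hQn : Q.Normal) (hQ : IsPGroup 3 Q) (hQi : ∃ k : ℕ, Q.index = 2 ^ k)
    (hnt : ¬ IsPGroup 2 G) : Nonempty (Ctx G W) := by
  obtain ⟨hD1, hD2, hD3, hD4, hD5⟩ := hD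
  obtain ⟨hρ1, hρ2, hρ3⟩ := hρ
  -- `G` is not trivial
  have hnontriv : ∃ g : G, g ≠ 1 := by
    by_contra hcon
    push Not at hcon
    apply hnt
    intro g
    exact ⟨0, by rw [hcon g]; simp⟩
  -- `D` is nonempty
  have hDne : ∃ t, t ∈ D := by
    by_contra hcon
    push Not at hcon
    have hDe : D = ∅ := Set.eq_empty_of_forall_notMem hcon
    rw [hDe, Subgroup.closure_empty] at hD4
    obtain ⟨g, hg⟩ := hnontriv
    have : g ∈ (⊥ : Subgroup G) := by rw [hD4]; trivial
    exact hg (Subgroup.mem_bot.mp this)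
  obtain ⟨t, htD⟩ := hDne
  have ht2 : t * t = 1 := hD1 t htD
  have htinv : t⁻¹ = t := inv_eq_of_mul_eq_one_left ht2
  -- `t ∉ Q`
  have htQ : t ∉ Q := by
    intro htQ
    have hDQ : D ⊆ Q := by
      intro d hd
      obtain ⟨g, hg⟩ := hD5 t htD d hd
      rw [← hg]
      exact hQn.conj_mem t htQ g
    have hD1' : ∀ d ∈ D, d = 1 := by
      intro d hd
      apply CORE0.aux_sq Q hQ d (hDQ hd)
      rw [pow_two]
      exact hD1 d hd
    have hcl : Subgroup.closure D = ⊥ := by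
      rw [Subgroup.closure_eq_bot_iff]
      intro d hd
      exact hD1' d hd
    rw [hcl] at hD4
    obtain ⟨g, hg⟩ := hnontriv
    have : g ∈ (⊥ : Subgroup G) := by rw [hD4]; trivial
    exact hg (Subgroup.mem_bot.mp this)
  -- the quotient `G ⧸ Q` is generated by the image of `t`
  have hquot : Subgroup.zpowers (QuotientGroup.mk' Q t) = ⊤ := by
    have hP : IsPGroup 2 (G ⧸ Q) := by
      obtain ⟨k, hk⟩ := hQi
      apply IsPGroup.of_card (n := k)
      rw [← hk]
      rfl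
    apply CORE0.aux_cyc hP
    rw [eq_top_iff]
    intro x _
    obtain ⟨g, rfl⟩ := QuotientGroup.mk'_surjective Q x
    have hg : g ∈ Subgroup.closure D := by rw [hD4]; trivial
    have hmap : QuotientGroup.mk' Q g ∈ (Subgroup.closure D).map (QuotientGroup.mk' Q) :=
      Subgroup.mem_map_of_mem _ hg
    rw [MonoidHom.map_closure] at hmap
    refine Subgroup.closure_mono ?_ hmap
    rintro _ ⟨d, hd, rfl⟩
    obtain ⟨g', hg'⟩ := hD5 t htD d hd
    rw [← hg', map_mul, map_mul, map_inv]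
    exact isConj_iff.mpr ⟨_, rfl⟩
  have hidx : ∀ g : G, g ∈ Q ∨ t * g ∈ Q := by
    intro g
    have hg : QuotientGroup.mk' Q g ∈ Subgroup.zpowers (QuotientGroup.mk' Q t) := by
      rw [hquot]; trivial
    obtain ⟨n, hn⟩ := Subgroup.mem_zpowers_iff.mp hg
    have hsq : (QuotientGroup.mk' Q t) ^ (2 : ℤ) = 1 := by
      rw [zpow_two, ← map_mul, ht2, map_one]
    rcases Int.even_or_odd' n with ⟨m, hm | hm⟩
    · left
      rw [hm, zpow_mul, hsq, one_zpow] at hn
      have : QuotientGroup.mk' Q g = 1 := hn.symm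
      exact (QuotientGroup.eq_one_iff g).mp this
    · right
      rw [hm, zpow_add, zpow_mul, hsq, one_zpow, one_mul, zpow_one] at hn
      have : QuotientGroup.mk' Q (t * g) = 1 := by
        rw [map_mul, ← hn, ← map_mul, ht2, map_one]
      exact (QuotientGroup.eq_one_iff (t * g)).mp this
  have hconjt : ∀ x ∈ Q, t * x * t ∈ Q := by
    intro x hx
    have := hQn.conj_mem x hx t
    rwa [htinv] at this
  have hDiff : ∀ d : G, d ∈ D ↔ ∃ q ∈ Q, d = q * t * q⁻¹ := by
    intro d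
    constructor
    · intro hd
      obtain ⟨g, hg⟩ := hD5 t htD d hd
      rcases hidx g with hgQ | hgQ
      · exact ⟨g, hgQ, hg.symm⟩
      · refine ⟨t * (t * g) * t, hconjt _ hgQ, ?_⟩
        rw [← hg]
        have h1 : t * (t * g) = g := by rw [← mul_assoc, ht2, one_mul]
        rw [h1, mul_inv_rev, htinv, mul_assoc (g * t) t, ← mul_assoc t t, ht2, one_mul]
    · rintro ⟨q, _, rfl⟩
      exact hD2 t htD q
  have hprodQ : ∀ a ∈ D, ∀ b ∈ D, a * b ∈ Q := by
    intro a ha b hb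
    obtain ⟨q, hq, rfl⟩ := (hDiff a).mp ha
    obtain ⟨r, hr, rfl⟩ := (hDiff b).mp hb
    have h1 : q * t * q⁻¹ * (r * t * r⁻¹) = q * (t * (q⁻¹ * r) * t) * r⁻¹ := by group
    rw [h1]
    exact Q.mul_mem (Q.mul_mem hq (hconjt _ (Q.mul_mem (Q.inv_mem hq) hr))) (Q.inv_mem hr)
  have hprod3 : ∀ a ∈ D, ∀ b ∈ D, (a * b) ^ 3 = 1 := by
    intro a ha b hb
    rcases hD3 a ha b hb with h | h
    · rw [CORE0.aux_sq Q hQ (a * b) (hprodQ a ha b hb) h, one_pow]
    · exact h
  have hM : ∀ a ∈ D, ∀ b ∈ D, a ≠ b → ∀ w : W, ρ (a * b) w = w → ρ a w = w := by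
    intro a ha b hb hab w hw
    apply hρ2 a ha b hb (hprod3 a ha b hb) _ w hw
    intro h1
    apply hab
    have hb2 := hD1 b hb
    calc a = a * (b * b) := by rw [hb2, mul_one]
      _ = (a * b) * b := by rw [mul_assoc]
      _ = b := by rw [h1, one_mul]
  have hfaith : ∀ g ∈ Q, (∀ w : W, ρ g w = w) → g = 1 :=
    fun g hg htriv => CORE0.aux_faith ρ hρ3 Q hQ g hg htriv
  have hQne : ∃ q ∈ Q, q ≠ 1 := by
    by_contra hcon
    push Not at hcon
    have hQbot : Q = ⊥ := (Subgroup.eq_bot_iff_forall Q).mpr hcon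
    apply hnt
    obtain ⟨k, hk⟩ := hQi
    apply IsPGroup.of_card (n := k)
    rw [← hk, hQbot, Subgroup.index_bot]
  exact ⟨⟨D, ρ, Q, t, hQn, hQ, ht2, htQ, hidx, hDiff, hprodQ, hprod3, hD4, hρ1, hM, hfaith, hQne⟩⟩

end Cfsg.Agent.S5559P
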