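import Mathlib
import Cfsg.Agent.Helper14.S5559Defs

set_option autoImplicit false
set_option linter.unusedSectionVars false
set_option linter.unusedVariables false

/-! # S5559 piece QGEN: `Q` is generated by the products of pairs of members of `D` -/

namespace Cfsg.Agent.S5559P

/-- the closure of a conjugation-invariant set is normal -/
theorem QGEN.aux_normal {G : Type*} [Group G] (S : Set G)
    (hS : ∀ s ∈ S, ∀ g : G, g * s * g⁻¹ ∈ S) : (Subgroup.closure S).Normal := by
  constructor
  intro n hn g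
  induction hn using Subgroup.closure_induction with
  | mem x hx => exact Subgroup.subset_closure (hS x hx g)
  | one => simp
  | mul x y _ _ hx hy =>
    have : g * (x * y) * g⁻¹ = (g * x * g⁻¹) * (g * y * g⁻¹) := by group
    rw [this]
    exact Subgroup.mul_mem _ hx hy
  | inv x _ hx =>
    have : g * x⁻¹ * g⁻¹ = (g * x * g⁻¹)⁻¹ := by group
    rw [this]
    exact Subgroup.inv_mem _ hx

/-- `D` is closed under conjugation in a context -/
theorem QGEN.aux_conj {G : Type*} [Group G] {W : Type*} [CommGroup W] (C : Ctx G W)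
    (d : G) (hd : d ∈ C.D) (g : G) : g * d * g⁻¹ ∈ C.D := by
  have hQn := C.hQn
  have htinv : C.t⁻¹ = C.t := inv_eq_of_mul_eq_one_left C.ht2
  obtain ⟨q, hq, rfl⟩ := (C.hD d).mp hd
  rcases C.hidx g with hg | hg
  · refine (C.hD _).mpr ⟨g * q, C.Q.mul_mem hg hq, ?_⟩
    group
  · -- g = t * (t * g)
    have hr : C.t * g * q ∈ C.Q := C.Q.mul_mem hg hq
    have hr2 : C.t * (C.t * g * q) * C.t⁻¹ ∈ C.Q := hQn.conj_mem _ hr _
    refine (C.hD _).mpr ⟨C.t * (C.t * g * q) * C.t⁻¹, hr2, ?_⟩
    have h1 : C.t * (C.t * g * q) = g * q := by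
      rw [mul_assoc C.t g q, ← mul_assoc C.t C.t, C.ht2, one_mul]
    rw [h1, htinv]
    have h2 : (g * q * C.t)⁻¹ = C.t * (g * q)⁻¹ := by
      rw [mul_inv_rev, htinv]
    rw [h2]
    have h3 : g * q * C.t * C.t * (C.t * (g * q)⁻¹) = g * q * C.t * (g * q)⁻¹ := by
      rw [mul_assoc (g * q) C.t C.t, C.ht2, mul_one, ← mul_assoc]
    rw [h3]
    group

/-- QGEN -/
theorem QGEN {G : Type*} [Group G] [Finite G] {W : Type*} [CommGroup W]
    (C : Ctx G W) : C.Q ≤ Subgroup.closure {x : G | ∃ a ∈ C.D, ∃ b ∈ C.D, x = a * b} := by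
  set S : Set G := {x : G | ∃ a ∈ C.D, ∃ b ∈ C.D, x = a * b} with hSdef
  have htinv : C.t⁻¹ = C.t := inv_eq_of_mul_eq_one_left C.ht2
  have htD : C.t ∈ C.D := (C.hD _).mpr ⟨1, C.Q.one_mem, by simp⟩
  have hSconj : ∀ s ∈ S, ∀ g : G, g * s * g⁻¹ ∈ S := by
    rintro s ⟨a, ha, b, hb, rfl⟩ g
    refine ⟨g * a * g⁻¹, QGEN.aux_conj C a ha g, g * b * g⁻¹, QGEN.aux_conj C b hb g, ?_⟩
    group
  have hN : (Subgroup.closure S).Normal := QGEN.aux_normal S hSconj
  have hle : Subgroup.closure S ≤ C.Q := by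
    rw [Subgroup.closure_le]
    rintro s ⟨a, ha, b, hb, rfl⟩
    exact C.hprodQ a ha b hb
  -- conjugation by `t`
  have hct : ∀ x ∈ Subgroup.closure S, C.t * x * C.t ∈ Subgroup.closure S := by
    intro x hx
    have := hN.conj_mem x hx C.t
    rwa [htinv] at this
  -- every element is in `Q0` or `t * Q0`
  have hall : ∀ g : G, g ∈ Subgroup.closure S ∨ C.t * g ∈ Subgroup.closure S := by
    intro g
    have hg : g ∈ Subgroup.closure C.D := by rw [C.hgen]; trivial
    induction hg using Subgroup.closure_induction with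
    | mem d hd => exact Or.inr (Subgroup.subset_closure ⟨C.t, htD, d, hd, rfl⟩)
    | one => exact Or.inl (Subgroup.one_mem _)
    | mul x y _ _ hx hy =>
      rcases hx with hx | hx <;> rcases hy with hy | hy
      · exact Or.inl (Subgroup.mul_mem _ hx hy)
      · right
        have h1 : C.t * (x * y) = (C.t * x * C.t) * (C.t * y) := by
          rw [mul_assoc (C.t * x) C.t, ← mul_assoc C.t C.t y, C.ht2, one_mul, mul_assoc]
        rw [h1]
        exact Subgroup.mul_mem _ (hct x hx) hy
      · right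
        have h1 : C.t * (x * y) = (C.t * x) * y := by rw [mul_assoc]
        rw [h1]
        exact Subgroup.mul_mem _ hx hy
      · left
        have h1 : x * y = (C.t * (C.t * x) * C.t) * (C.t * y) := by
          rw [← mul_assoc C.t C.t x, C.ht2, one_mul, mul_assoc x C.t, ← mul_assoc C.t C.t y,
            C.ht2, one_mul]
        rw [h1]
        exact Subgroup.mul_mem _ (hct _ hx) hy
    | inv x _ hx =>
      rcases hx with hx | hx
      · exact Or.inl (Subgroup.inv_mem _ hx)
      · right
        have h1 : C.t * x⁻¹ = C.t * (C.t * x)⁻¹ * C.t := by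
          rw [mul_inv_rev, htinv, mul_assoc, mul_assoc, C.ht2, mul_one]
        rw [h1]
        exact hct _ (Subgroup.inv_mem _ hx)
  intro q hq
  rcases hall q with h | h
  · exact h
  · exfalso
    apply C.htQ
    have h2 : C.t * q ∈ C.Q := hle h
    have h3 : C.t = (C.t * q) * q⁻¹ := by group
    rw [h3]
    exact C.Q.mul_mem h2 (C.Q.inv_mem hq)

end Cfsg.Agent.S5559P
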