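import Cfsg.Agent.Helper20.Iso44CLAYCore
import Cfsg.Agent.Helper25.Iso44INV
import Cfsg.Agent.Helper19.Iso44CY

/-! Board `s3044pieces`, row CLAY: wrapper of `CLAY.core` with the real INV (`normal_le_Y`) and CY (`comm_YL_Y`). -/

set_option autoImplicit false

namespace Cfsg.Agent.Helper15.Iso44

open Cfsg Subgroup

variable {G : Type*} [Group G] [Finite G] {p : ℕ} [Fact p.Prime] {S : Sylow p G} {P : Subgroup G}

section caseB
variable [hn : (Cfsg.pCore p ↥(Ysub p P)).Normal]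

theorem caseB_layer (h : Ctx p S P) (hB : ⁅Ysub p P, Ysub p P⁆ = Ysub p P) :
    Cfsg.layer (↥(Ysub p P) ⧸ Cfsg.pCore p ↥(Ysub p P)) = ⊤ :=
  CLAY.core h hB (fun N hN hNY => normal_le_Y h N hN hNY) (comm_YL_Y h)

end caseB

end Cfsg.Agent.Helper15.Iso44
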