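import Cfsg.Agent.Helper20.Iso44RPRCore
import Cfsg.Agent.Helper25.Iso44INV
import Cfsg.Agent.Helper24.Iso44COP

/-! Board `s3044pieces`, row RPR: wrapper of `RPR.core` with the real INV and COP. -/

set_option autoImplicit false

namespace Cfsg.Agent.Helper15.Iso44

open Cfsg Subgroup

variable {G : Type*} [Group G] [Finite G] {p : ℕ} [Fact p.Prime] {S : Sylow p G} {P : Subgroup G}

theorem exists_r_of_pprime (h : Ctx p S P) (hp' : PPrimeQuot p P) :
    ∃ r : ℕ, r.Prime ∧ ∀ y ∈ Ysub p P, ∃ k : ℕ, y ^ (r ^ k) ∈ Osub p P :=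
  RPR.core h hp' (fun X hX => inv_dich h X hX) (Y_eq_comm h hp')

end Cfsg.Agent.Helper15.Iso44
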