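import Mathlib
import Cfsg.Agent.Helper26.S3050Defs
import Cfsg.Agent.Helper19.S3050A12
import Cfsg.Agent.Helper9.S3050A3

set_option autoImplicit false

/-! Piece A5 of the board `s3050pieces`: the block form of `L_c = w U_c w`. -/

namespace Cfsg.Agent.S3050P

open Cfsg.Agent.Helper18.NatMod Cfsg.Agent.S3050P

variable {F : Type*} [Field F] [CharP F 2]
variable {M : Type*} [AddCommGroup M] [DistribMulAction (Matrix.SpecialLinearGroup (Fin 2) F) M]

local notation "SF" => Matrix.SpecialLinearGroup (Fin 2) F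

/-- A5 -/
theorem block_ll (h2 : Exp2 M) (h3 : Fpf F M) (c : F) {a b : M} (ha : a ∈ fixu F M)
    (hb : b ∈ fixu F M) :
    (ll c : SF) • a = al F c a + (ww : SF) • be F c a ∧
      (ll c : SF) • (ww : SF) • b = (ww : SF) • al F c b := by
  obtain ⟨-, -, h⟩ := block_uu h2 h3 c ha
  have hww : ∀ m : M, (ww : SF) • (ww : SF) • m = m := by
    intro m
    rw [← mul_smul, ww_sq, one_smul]
  constructor
  · rw [ll_eq, mul_smul, mul_smul, h, smul_add, hww, add_comm]
  · rw [ll_eq, mul_smul, mul_smul, hww]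
    rfl

end Cfsg.Agent.S3050P
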