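import Mathlib
import Cfsg.Agent.Helper26.S3050Defs
import Cfsg.Agent.Helper19.S3050A12
import Cfsg.Agent.Helper9.S3050A3
import Cfsg.Agent.Helper20.S3050A5

set_option autoImplicit false
set_option linter.unusedSectionVars false
set_option linter.unusedVariables false

/-! Piece A6 of the board `s3050pieces`: the order-3 relation `g + 1 = g⁻¹` for `g = U_t L_{1/t}` in blocks. -/

namespace Cfsg.Agent.S3050P

open Cfsg.Agent.Helper18.NatMod Cfsg.Agent.S3050P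

variable {F : Type*} [Field F] [CharP F 2]
variable {M : Type*} [AddCommGroup M] [DistribMulAction (Matrix.SpecialLinearGroup (Fin 2) F) M]

local notation "SF" => Matrix.SpecialLinearGroup (Fin 2) F

/-- in exponent 2, `x + y = 0` means `x = y` -/
theorem A6_aux_eq_of_add (h2 : Exp2 M) {x y : M} (h : x + y = 0) : x = y := by
  have h1 : x = -y := eq_neg_of_add_eq_zero_left h
  have h3 : -y = y := neg_eq_of_add_eq_zero_right (h2 y)
  rw [h1, h3]

/-- comparison of the components of `a + w b` -/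
theorem A6_aux_cmp (h2 : Exp2 M) (h3 : Fpf F M) {a b a' b' : M} (ha : a ∈ fixu F M)
    (hb : b ∈ fixu F M) (ha' : a' ∈ fixu F M) (hb' : b' ∈ fixu F M)
    (h : a + (ww : SF) • b = a' + (ww : SF) • b') : a = a' ∧ b = b' := by
  have h0 : (a - a') + (ww : SF) • (b - b') = 0 := by
    rw [smul_sub]
    have e : a - a' + ((ww : SF) • b - (ww : SF) • b')
        = (a + (ww : SF) • b) - (a' + (ww : SF) • b') := by abel
    rw [e, h, sub_self]
  obtain ⟨e1, e2⟩ := uniq_of_fpf h2 h3 ((fixu F M).sub_mem ha ha') ((fixu F M).sub_mem hb hb') h0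
  exact ⟨sub_eq_zero.mp e1, sub_eq_zero.mp e2⟩

/-- the relation `g⁻¹ = 1 + g` for `g = U_t L_{1/t}` -/
theorem A6_aux_rel (h2 : Exp2 M) (h3 : Fpf F M) (t : F) (ht : t ≠ 0) (m : M) :
    (ll t⁻¹ : SF) • (uu t : SF) • m = m + (uu t : SF) • (ll t⁻¹ : SF) • m := by
  have h := h3 (uu t * ll t⁻¹ : SF) (tr_uu_ll t ht) ((ll t⁻¹ : SF) • (uu t : SF) • m)
  have e1 : (uu t * ll t⁻¹ : SF) • (ll t⁻¹ : SF) • (uu t : SF) • m = m := by
    rw [← mul_smul, ← mul_smul, mul_assoc, mul_assoc, ← mul_assoc (ll t⁻¹) (ll t⁻¹) (uu t), ll_sq, one_mul,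
      uu_sq, one_smul]
  rw [e1] at h
  rw [mul_smul] at h
  apply A6_aux_eq_of_add h2
  rw [← add_assoc]
  exact h

/-- A6 -/
theorem order3_rel (h2 : Exp2 M) (h3 : Fpf F M) (t : F) (ht : t ≠ 0) {b : M} (hb : b ∈ fixu F M) :
    be F t (be F t⁻¹ b) = b ∧ be F t (al F t⁻¹ b) = al F t⁻¹ (be F t b) ∧
      al F t (be F t⁻¹ b) = be F t⁻¹ (al F t b) := by
  have hal : ∀ (c : F) {x : M}, x ∈ fixu F M → al F c x ∈ fixu F M :=
    fun c x hx => (block_uu h2 h3 c hx).1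
  have hbe : ∀ (c : F) {x : M}, x ∈ fixu F M → be F c x ∈ fixu F M :=
    fun c x hx => (block_uu h2 h3 c hx).2.1
  have hcomm : ∀ (c d : F) (x : M), al F c (al F d x) = al F d (al F c x) := by
    intro c d x
    show (uu c : SF) • (uu d : SF) • x = (uu d : SF) • (uu c : SF) • x
    rw [← mul_smul, ← mul_smul, uu_comm]
  -- the relation on `W`
  have r1 := A6_aux_rel h2 h3 t ht b
  have l1 : (ll t⁻¹ : SF) • (uu t : SF) • b
      = al F t⁻¹ (al F t b) + (ww : SF) • be F t⁻¹ (al F t b) :=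
    (block_ll h2 h3 t⁻¹ (hal t hb) hb).1
  have l2 : b + (uu t : SF) • (ll t⁻¹ : SF) • b
      = (b + al F t (al F t⁻¹ b) + be F t (be F t⁻¹ b)) + (ww : SF) • al F t (be F t⁻¹ b) := by
    rw [(block_ll h2 h3 t⁻¹ hb hb).1, smul_add, (block_uu h2 h3 t (hbe t⁻¹ hb)).2.2]
    show b + (al F t (al F t⁻¹ b) + (be F t (be F t⁻¹ b) + (ww : SF) • al F t (be F t⁻¹ b))) = _
    abel
  rw [l1, l2] at r1
  obtain ⟨c1, c2⟩ := A6_aux_cmp h2 h3 (hal t⁻¹ (hal t hb)) (hbe t⁻¹ (hal t hb))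
    ((fixu F M).add_mem ((fixu F M).add_mem hb (hal t (hal t⁻¹ hb))) (hbe t (hbe t⁻¹ hb)))
    (hal t (hbe t⁻¹ hb)) r1
  -- the relation on `wW`
  have r2 := A6_aux_rel h2 h3 t ht ((ww : SF) • b)
  have l3 : (ll t⁻¹ : SF) • (uu t : SF) • (ww : SF) • b
      = al F t⁻¹ (be F t b) + (ww : SF) • (be F t⁻¹ (be F t b) + al F t⁻¹ (al F t b)) := by
    rw [(block_uu h2 h3 t hb).2.2, smul_add, (block_ll h2 h3 t⁻¹ (hbe t hb) (hal t hb)).1,
      (block_ll h2 h3 t⁻¹ (hbe t hb) (hal t hb)).2, smul_add]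
    abel
  have l4 : (ww : SF) • b + (uu t : SF) • (ll t⁻¹ : SF) • (ww : SF) • b
      = be F t (al F t⁻¹ b) + (ww : SF) • (b + al F t (al F t⁻¹ b)) := by
    rw [(block_ll h2 h3 t⁻¹ hb hb).2, (block_uu h2 h3 t (hal t⁻¹ hb)).2.2, smul_add]
    abel
  rw [l3, l4] at r2
  obtain ⟨c3, -⟩ := A6_aux_cmp h2 h3 (hal t⁻¹ (hbe t hb))
    ((fixu F M).add_mem (hbe t⁻¹ (hbe t hb)) (hal t⁻¹ (hal t hb)))
    (hbe t (hal t⁻¹ hb)) ((fixu F M).add_mem hb (hal t (hal t⁻¹ hb))) r2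
  refine ⟨?_, c3.symm, c2.symm⟩
  -- `BB' = 1`
  rw [hcomm t⁻¹ t b] at c1
  have e : b + be F t (be F t⁻¹ b) = 0 := by
    have e' : al F t (al F t⁻¹ b) + 0 = al F t (al F t⁻¹ b) + (b + be F t (be F t⁻¹ b)) := by
      rw [add_zero]
      calc al F t (al F t⁻¹ b) = b + al F t (al F t⁻¹ b) + be F t (be F t⁻¹ b) := c1
        _ = al F t (al F t⁻¹ b) + (b + be F t (be F t⁻¹ b)) := by abel
    exact (add_left_cancel e').symm
  exact (A6_aux_eq_of_add h2 e).symm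

/-- A6' -/
theorem be_al_comm (h2 : Exp2 M) (h3 : Fpf F M) (t : F) (ht : t ≠ 0) {b : M} (hb : b ∈ fixu F M) :
    be F t (al F t b) = al F t (be F t b) := by
  have hal : ∀ (c : F) {x : M}, x ∈ fixu F M → al F c x ∈ fixu F M :=
    fun c x hx => (block_uu h2 h3 c hx).1
  have hbe : ∀ (c : F) {x : M}, x ∈ fixu F M → be F c x ∈ fixu F M :=
    fun c x hx => (block_uu h2 h3 c hx).2.1
  have ht' : t⁻¹ ≠ 0 := inv_ne_zero ht
  -- `B'B b = b`
  have e1 : be F t⁻¹ (be F t b) = b := by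
    have := (order3_rel h2 h3 t⁻¹ ht' hb).1
    rwa [inv_inv] at this
  -- `A B' x = B' A x` at `x = B b`
  have e2 := (order3_rel h2 h3 t ht (hbe t hb)).2.2
  rw [e1] at e2
  -- `B B' y = y` at `y = A B b`
  have e3 := (order3_rel h2 h3 t ht (hal t (hbe t hb))).1
  rw [e2, e3]

end Cfsg.Agent.S3050P
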