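import Mathlib
import Cfsg.Agent.Helper26.S3050Defs
import Cfsg.Agent.Helper19.S3050A12
import Cfsg.Agent.Helper9.S3050A3
import Cfsg.Agent.Helper20.S3050A5
import Cfsg.Agent.Helper20.S3050A6

set_option autoImplicit false
set_option linter.unusedSectionVars false
set_option linter.unusedVariables false

/-! Piece A7 of the board `s3050pieces`: the block form of the torus element `h_t = U_t L_{1/t} U_t w`. -/

namespace Cfsg.Agent.S3050P

open Cfsg.Agent.Helper18.NatMod Cfsg.Agent.S3050P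

variable {F : Type*} [Field F] [CharP F 2]
variable {M : Type*} [AddCommGroup M] [DistribMulAction (Matrix.SpecialLinearGroup (Fin 2) F) M]

local notation "SF" => Matrix.SpecialLinearGroup (Fin 2) F

/-- `β_c` is additive -/
theorem A7_aux_be_add (c : F) (x y : M) : be F c (x + y) = be F c x + be F c y := by
  unfold be pr1
  simp only [smul_add]
  abel

/-- the `α`'s commute -/
theorem A7_aux_al_comm (c d : F) (x : M) : al F c (al F d x) = al F d (al F c x) := by
  show (uu c : SF) • (uu d : SF) • x = (uu d : SF) • (uu c : SF) • x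
  rw [← mul_smul, ← mul_smul, uu_comm]

/-- `α_c² = 1` -/
theorem A7_aux_al_al (c : F) (x : M) : al F c (al F c x) = x := by
  show (uu c : SF) • (uu c : SF) • x = x
  rw [← mul_smul, uu_sq, one_smul]

/-- A7 -/
theorem block_hh (h2 : Exp2 M) (h3 : Fpf F M) (t : Fˣ) {a b : M} (ha : a ∈ fixu F M)
    (hb : b ∈ fixu F M) :
    (hh t : SF) • a = be F (t : F) a + (ww : SF) • (al F (t : F) a + al F ((t : F)⁻¹) a) ∧
      (hh t : SF) • (ww : SF) • b
        = (al F (t : F) b + al F ((t : F)⁻¹) b) + (ww : SF) • be F ((t : F)⁻¹) b := by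
  have hs : (t : F) ≠ 0 := t.ne_zero
  have hs' : (t : F)⁻¹ ≠ 0 := inv_ne_zero hs
  have hal : ∀ (c : F) {x : M}, x ∈ fixu F M → al F c x ∈ fixu F M :=
    fun c x hx => (block_uu h2 h3 c hx).1
  have hbe : ∀ (c : F) {x : M}, x ∈ fixu F M → be F c x ∈ fixu F M :=
    fun c x hx => (block_uu h2 h3 c hx).2.1
  have hww : ∀ m : M, (ww : SF) • (ww : SF) • m = m := by
    intro m
    rw [← mul_smul, ww_sq, one_smul]
  have hB'B : ∀ {x : M}, x ∈ fixu F M → be F (t : F)⁻¹ (be F (t : F) x) = x := by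
    intro x hx
    have := (order3_rel h2 h3 (t : F)⁻¹ hs' hx).1
    rwa [inv_inv] at this
  constructor
  · -- the element `a + A'A a` of `W`
    have hx : a + al F (t : F)⁻¹ (al F (t : F) a) ∈ fixu F M :=
      (fixu F M).add_mem ha (hal _ (hal _ ha))
    rw [hh_eq, mul_smul, mul_smul, mul_smul, (block_uu h2 h3 (t : F) ha).2.2, smul_add,
      (block_ll h2 h3 (t : F)⁻¹ (hbe (t : F) ha) (hal (t : F) ha)).1,
      (block_ll h2 h3 (t : F)⁻¹ (hbe (t : F) ha) (hal (t : F) ha)).2, hB'B ha]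
    have e1 : al F (t : F)⁻¹ (be F (t : F) a) + (ww : SF) • a + (ww : SF) • al F (t : F)⁻¹ (al F (t : F) a)
        = al F (t : F)⁻¹ (be F (t : F) a) + (ww : SF) • (a + al F (t : F)⁻¹ (al F (t : F) a)) := by
      rw [smul_add, add_assoc]
    rw [e1, smul_add, (block_uu h2 h3 (t : F) hx).2.2]
    -- the `w`-component
    have e2 : al F (t : F) (a + al F (t : F)⁻¹ (al F (t : F) a))
        = al F (t : F) a + al F (t : F)⁻¹ a := by
      show (uu (t : F) : SF) • (a + al F (t : F)⁻¹ (al F (t : F) a)) = _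
      rw [smul_add]
      show al F (t : F) a + al F (t : F) (al F (t : F)⁻¹ (al F (t : F) a)) = _
      rw [A7_aux_al_comm (t : F) (t : F)⁻¹, A7_aux_al_al]
    -- the `W`-component
    have e3 : be F (t : F) (al F (t : F)⁻¹ (al F (t : F) a))
        = al F (t : F) (al F (t : F)⁻¹ (be F (t : F) a)) := by
      rw [(order3_rel h2 h3 (t : F) hs (hal (t : F) ha)).2.1, be_al_comm h2 h3 (t : F) hs ha,
        A7_aux_al_comm (t : F)⁻¹ (t : F)]
    rw [e2, A7_aux_be_add, e3]
    show al F (t : F) (al F (t : F)⁻¹ (be F (t : F) a)) + _ = _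
    have e4 := h2 (al F (t : F) (al F (t : F)⁻¹ (be F (t : F) a)))
    calc al F (t : F) (al F (t : F)⁻¹ (be F (t : F) a))
          + (be F (t : F) a + al F (t : F) (al F (t : F)⁻¹ (be F (t : F) a))
            + (ww : SF) • (al F (t : F) a + al F (t : F)⁻¹ a))
        = (al F (t : F) (al F (t : F)⁻¹ (be F (t : F) a))
            + al F (t : F) (al F (t : F)⁻¹ (be F (t : F) a)))
          + (be F (t : F) a + (ww : SF) • (al F (t : F) a + al F (t : F)⁻¹ a)) := by abel
      _ = be F (t : F) a + (ww : SF) • (al F (t : F) a + al F (t : F)⁻¹ a) := by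
          rw [e4, zero_add]
  · rw [hh_eq, mul_smul, mul_smul, mul_smul, hww]
    show (uu (t : F) : SF) • (ll (t : F)⁻¹ : SF) • al F (t : F) b = _
    rw [(block_ll h2 h3 (t : F)⁻¹ (hal (t : F) hb) hb).1, smul_add,
      (block_uu h2 h3 (t : F) (hbe (t : F)⁻¹ (hal (t : F) hb))).2.2]
    show al F (t : F) (al F (t : F)⁻¹ (al F (t : F) b)) + _ = _
    rw [A7_aux_al_comm (t : F) (t : F)⁻¹, A7_aux_al_al,
      (order3_rel h2 h3 (t : F) hs (hal (t : F) hb)).1,
      (order3_rel h2 h3 (t : F) hs (hal (t : F) hb)).2.2, A7_aux_al_al]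
    abel

end Cfsg.Agent.S3050P
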