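import Mathlib
import Cfsg.Agent.Helper26.S3050Defs
import Cfsg.Agent.Helper19.S3050A12
import Cfsg.Agent.Helper9.S3050A3
import Cfsg.Agent.Helper20.S3050A6
import Cfsg.Agent.Helper20.S3050A7

set_option autoImplicit false
set_option linter.unusedSectionVars false
set_option linter.unusedVariables false

/-! Piece A8 of the board `s3050pieces`: the four block entries of `h_t U_c = U_{t²c} h_t`. -/

namespace Cfsg.Agent.S3050P

open Cfsg.Agent.Helper18.NatMod Cfsg.Agent.S3050P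

variable {F : Type*} [Field F] [CharP F 2]
variable {M : Type*} [AddCommGroup M] [DistribMulAction (Matrix.SpecialLinearGroup (Fin 2) F) M]

local notation "SF" => Matrix.SpecialLinearGroup (Fin 2) F

/-- A8: `σ_t := α_t + α_{1/t}`; the four entries of `h_t U_c = U_{t²c} h_t`. -/
theorem torus_rel (h2 : Exp2 M) (h3 : Fpf F M) (t : F) (ht : t ≠ 0) (c : F) {b : M}
    (hb : b ∈ fixu F M) :
    -- (E11)
    be F t (al F c b)
        = al F (t ^ 2 * c) (be F t b) + be F (t ^ 2 * c) (al F t b + al F t⁻¹ b) ∧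
    -- (E21)
    (al F t (al F c b) + al F t⁻¹ (al F c b))
        = al F (t ^ 2 * c) (al F t b + al F t⁻¹ b) ∧
    -- (E12)
    be F t (be F c b) + (al F t (al F c b) + al F t⁻¹ (al F c b))
        = al F (t ^ 2 * c) (al F t b + al F t⁻¹ b) + be F (t ^ 2 * c) (be F t⁻¹ b) ∧
    -- (E22)
    (al F t (be F c b) + al F t⁻¹ (be F c b)) + be F t⁻¹ (al F c b)
        = al F (t ^ 2 * c) (be F t⁻¹ b) := by
  have hal : ∀ (c : F) {x : M}, x ∈ fixu F M → al F c x ∈ fixu F M :=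
    fun c x hx => (block_uu h2 h3 c hx).1
  have hbe : ∀ (c : F) {x : M}, x ∈ fixu F M → be F c x ∈ fixu F M :=
    fun c x hx => (block_uu h2 h3 c hx).2.1
  have hsig : ∀ {x : M}, x ∈ fixu F M → al F t x + al F t⁻¹ x ∈ fixu F M :=
    fun hx => (fixu F M).add_mem (hal t hx) (hal t⁻¹ hx)
  -- the torus element
  have hu : ((Units.mk0 t ht : Fˣ) : F) = t := rfl
  have hh1 : ∀ {a : M}, a ∈ fixu F M → (hh (Units.mk0 t ht) : SF) • a
      = be F t a + (ww : SF) • (al F t a + al F t⁻¹ a) := by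
    intro a ha
    have := (block_hh h2 h3 (Units.mk0 t ht) ha ha).1
    rwa [hu] at this
  have hh2 : ∀ {x : M}, x ∈ fixu F M → (hh (Units.mk0 t ht) : SF) • (ww : SF) • x
      = (al F t x + al F t⁻¹ x) + (ww : SF) • be F t⁻¹ x := by
    intro x hx
    have := (block_hh h2 h3 (Units.mk0 t ht) hx hx).2
    rwa [hu] at this
  have hrel : ∀ m : M, (hh (Units.mk0 t ht) : SF) • (uu c : SF) • m
      = (uu (t ^ 2 * c) : SF) • (hh (Units.mk0 t ht) : SF) • m := by
    intro m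
    rw [← mul_smul, ← mul_smul, hh_mul_uu, hu]
  -- the relation on `W`
  have r1 := hrel b
  have l1 : (hh (Units.mk0 t ht) : SF) • (uu c : SF) • b
      = be F t (al F c b) + (ww : SF) • (al F t (al F c b) + al F t⁻¹ (al F c b)) :=
    hh1 (hal c hb)
  have l2 : (uu (t ^ 2 * c) : SF) • (hh (Units.mk0 t ht) : SF) • b
      = (al F (t ^ 2 * c) (be F t b) + be F (t ^ 2 * c) (al F t b + al F t⁻¹ b))
        + (ww : SF) • al F (t ^ 2 * c) (al F t b + al F t⁻¹ b) := by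
    rw [hh1 hb, smul_add, (block_uu h2 h3 (t ^ 2 * c) (hsig hb)).2.2]
    show al F (t ^ 2 * c) (be F t b) + _ = _
    abel
  rw [l1, l2] at r1
  obtain ⟨c1, c2⟩ := A6_aux_cmp h2 h3 (hbe t (hal c hb)) (hsig (hal c hb))
    ((fixu F M).add_mem (hal _ (hbe t hb)) (hbe _ (hsig hb))) (hal _ (hsig hb)) r1
  -- the relation on `wW`
  have r2 := hrel ((ww : SF) • b)
  have l3 : (hh (Units.mk0 t ht) : SF) • (uu c : SF) • (ww : SF) • b
      = (be F t (be F c b) + (al F t (al F c b) + al F t⁻¹ (al F c b)))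
        + (ww : SF) • ((al F t (be F c b) + al F t⁻¹ (be F c b)) + be F t⁻¹ (al F c b)) := by
    rw [(block_uu h2 h3 c hb).2.2, smul_add, hh1 (hbe c hb), hh2 (hal c hb)]
    simp only [smul_add]
    abel
  have l4 : (uu (t ^ 2 * c) : SF) • (hh (Units.mk0 t ht) : SF) • (ww : SF) • b
      = (al F (t ^ 2 * c) (al F t b + al F t⁻¹ b) + be F (t ^ 2 * c) (be F t⁻¹ b))
        + (ww : SF) • al F (t ^ 2 * c) (be F t⁻¹ b) := by
    rw [hh2 hb, smul_add, (block_uu h2 h3 (t ^ 2 * c) (hbe t⁻¹ hb)).2.2]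
    show al F (t ^ 2 * c) (al F t b + al F t⁻¹ b) + _ = _
    abel
  rw [l3, l4] at r2
  obtain ⟨c3, c4⟩ := A6_aux_cmp h2 h3
    ((fixu F M).add_mem (hbe t (hbe c hb)) (hsig (hal c hb)))
    ((fixu F M).add_mem (hsig (hbe c hb)) (hbe t⁻¹ (hal c hb)))
    ((fixu F M).add_mem (hal _ (hsig hb)) (hbe _ (hbe t⁻¹ hb))) (hal _ (hbe t⁻¹ hb)) r2
  exact ⟨c1, c2, c3, c4⟩

end Cfsg.Agent.S3050P
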