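import Mathlib
import Cfsg.Agent.Helper15.S3412.Defs2
import Cfsg.Agent.Helper27.L33Pattern

/-! S3412 piece SEVEN (helper20 hedge): an element of even order of `SL₃(3)` has `27 ∤ |C(a)|`. -/

set_option autoImplicit false

namespace Cfsg.Agent.S3412P

open Matrix Cfsg.Agent.Helper2.RootSLn Cfsg.Agent.Helper7.AutPSL

namespace SEVEN

open Cfsg.Agent.Helper27

theorem two_ne_zero3 : (2 : ZMod 3) ≠ 0 := by decide

/-- every involution of a finite group with an `InvPattern` involution `u` is conjugate to `u` -/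
theorem isConj_of_pattern {G : Type*} [Group G] [Finite G] {u : G}
    (hidx : ¬ 2 ∣ (Subgroup.centralizer ({u} : Set G)).index)
    (hconj : ∀ a : G, a ∈ Subgroup.centralizer ({u} : Set G) → orderOf a = 2 → IsConj a u)
    {s : G} (hs : orderOf s = 2) : IsConj s u := by
  have : Fact (Nat.Prime 2) := ⟨Nat.prime_two⟩
  let S₀ : Sylow 2 ↥(Subgroup.centralizer ({u} : Set G)) := default
  have hSGp : IsPGroup 2 ((S₀ : Subgroup ↥(Subgroup.centralizer ({u} : Set G))).map
      (Subgroup.centralizer ({u} : Set G)).subtype) := S₀.isPGroup'.map _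
  have hSGi : ¬ 2 ∣ ((S₀ : Subgroup ↥(Subgroup.centralizer ({u} : Set G))).map
      (Subgroup.centralizer ({u} : Set G)).subtype).index := by
    rw [Subgroup.index_map_subtype]
    exact Nat.Prime.not_dvd_mul Nat.prime_two S₀.not_dvd_index hidx
  let Q : Sylow 2 G := hSGp.toSylow hSGi
  have hQle : (Q : Subgroup G) ≤ Subgroup.centralizer ({u} : Set G) :=
    Subgroup.map_subtype_le _
  have hsp : IsPGroup 2 (Subgroup.zpowers s) := by
    rw [IsPGroup.iff_card, Nat.card_zpowers, hs]
    exact ⟨1, by norm_num⟩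
  obtain ⟨P, hP⟩ := hsp.exists_le_sylow
  obtain ⟨g, hg⟩ := MulAction.exists_smul_eq G P Q
  have hmem : g * s * g⁻¹ ∈ (Q : Subgroup G) := by
    rw [← hg, Sylow.coe_subgroup_smul]
    exact ⟨s, hP (Subgroup.mem_zpowers s), rfl⟩
  have hord : orderOf (g * s * g⁻¹) = 2 := by
    rw [← hs]
    have := (MulAut.conj g).orderOf_eq s
    rwa [MulAut.conj_apply] at this
  have h1 := hconj _ (hQle hmem) hord
  exact (isConj_iff.2 ⟨g, rfl⟩).trans h1

theorem card_centralizer_invol {s : L33} (hs : orderOf s = 2) :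
    Nat.card (Subgroup.centralizer ({s} : Set L33)) = 48 := by
  have hF : Fintype.card (ZMod 3) = 3 := ZMod.card 3
  obtain ⟨u, hu, ⟨θ⟩, hidx, hconj⟩ := sl3_invPattern hF
  have hsu : IsConj s u := isConj_of_pattern hidx hconj hs
  obtain ⟨f⟩ := centralizer_equiv_of_isConj hsu
  rw [Nat.card_congr f.toEquiv, Nat.card_congr θ.toEquiv, card_gl2_three hF]

end SEVEN

namespace SEVEN
theorem not_dvd_of_even {a : L33} (h : Even (orderOf a)) :
    ¬ 27 ∣ Nat.card (Subgroup.centralizer ({a} : Set L33)) := by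
  intro h27
  obtain ⟨k, hk⟩ := h
  have hpos : 0 < orderOf a := orderOf_pos a
  have hk0 : 0 < k := by omega
  have hs : orderOf (a ^ k) = 2 := by
    rw [orderOf_pow' a hk0.ne', hk, ← two_mul, Nat.gcd_eq_right ⟨2, by ring⟩]
    exact Nat.mul_div_cancel _ hk0
  have hle : Subgroup.centralizer ({a} : Set L33) ≤ Subgroup.centralizer ({a ^ k} : Set L33) := by
    intro x hx
    rw [Subgroup.mem_centralizer_singleton_iff] at hx ⊢
    have hc : Commute x a := hx
    exact (hc.pow_right k).eq
  have hdvd := Subgroup.card_dvd_of_le hle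
  rw [card_centralizer_invol hs] at hdvd
  have : 27 ∣ 48 := dvd_trans h27 hdvd
  omega
end SEVEN

end Cfsg.Agent.S3412P
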