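import Mathlib
import Cfsg.Agent.Helper15.S3412.Defs2
import Cfsg.Agent.Helper13.SL33Spec
import Cfsg.Agent.Helper20.S3412SEVEN
import Cfsg.Agent.Helper14.S3412S13
import Cfsg.Agent.Helper23.S3412SLIN
import Cfsg.Agent.Helper23.S3412SREG

/-! S3412 piece STM2 (helper20): in `SL₃(3)`, `27 ∣ |C(a)|` forces `a` to be a transvection. -/

set_option autoImplicit false

namespace Cfsg.Agent.S3412P

open Matrix Cfsg.Agent.Helper2.RootSLn Cfsg.Agent.Helper7.AutPSL

namespace STM2
theorem isTm_of_dvd {a : L33} (h : 27 ∣ Nat.card (Subgroup.centralizer ({a} : Set L33))) :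
    IsTm a := by
  have hord := Cfsg.Agent.Helper13.SL33Spec.orderOf_mem a
  simp only [Set.mem_insert_iff, Set.mem_singleton_iff] at hord
  rcases hord with h1 | h2 | h3 | h4 | h6 | h8 | h13
  · rw [orderOf_eq_one_iff] at h1
    rw [h1]; exact isTm_one
  · exact absurd h (SEVEN.not_dvd_of_even (by rw [h2]; decide))
  · -- order 3
    have ha3 : a ^ 3 = 1 := by
      have := pow_orderOf_eq_one a
      rwa [h3] at this
    by_cases hN : ((a : Matrix (Fin 3) (Fin 3) (ZMod 3)) - 1) *
        ((a : Matrix (Fin 3) (Fin 3) (ZMod 3)) - 1) = 0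
    · obtain ⟨v, φ, hvφ, hN'⟩ := SLIN.exists_vecMulVec_of_sq_zero hN
      refine ⟨v, φ, 1, hvφ, ?_⟩
      rw [tm, one_smul, ← hN']; abel
    · have hle := SREG.card_centralizer_le ha3 hN
      have hpos : 0 < Nat.card (Subgroup.centralizer ({a} : Set L33)) := Nat.card_pos
      obtain ⟨k, hk⟩ := h
      omega
  · exact absurd h (SEVEN.not_dvd_of_even (by rw [h4]; decide))
  · exact absurd h (SEVEN.not_dvd_of_even (by rw [h6]; decide))
  · exact absurd h (SEVEN.not_dvd_of_even (by rw [h8]; decide))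
  · exact absurd h (S13.not_dvd_of_thirteen h13)
end STM2

end Cfsg.Agent.S3412P
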