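import Mathlib
import Cfsg.Agent.Helper15.S3412.Defs2
import Cfsg.Agent.Helper24.S3412SCARD
import Cfsg.Agent.Helper26.S3412SCENT
import Cfsg.Agent.Helper15.S3412STM1

/-! S3412 piece SISQ (helper20): `TP v` and `TH φ` are `IsQ` subgroups of `SL₃(3)`. -/

set_option autoImplicit false

namespace Cfsg.Agent.S3412P

open Matrix Cfsg.Agent.Helper2.RootSLn Cfsg.Agent.Helper7.AutPSL

namespace SISQ
theorem isQ_TP {v : Fin 3 → ZMod 3} (hv : v ≠ 0) : IsQ (TP v : Subgroup L33) :=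
  ⟨SCARD.card_TP hv, SCENT.centralizer_TP hv,
    fun _ ha _ => STM1.dvd_card_centralizer_of_isTm (isTm_of_mem_TP ha)⟩
theorem isQ_TH {φ : Fin 3 → ZMod 3} (hφ : φ ≠ 0) : IsQ (TH φ : Subgroup L33) :=
  ⟨SCARD.card_TH hφ, SCENT.centralizer_TH hφ,
    fun _ ha _ => STM1.dvd_card_centralizer_of_isTm (isTm_of_mem_TH ha)⟩
end SISQ

end Cfsg.Agent.S3412P
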