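import Mathlib
import Cfsg.Agent.Helper15.S5704SEEDDefs2

/-! # S5704, chapter SEED, piece EGINV: the inverse of an `EGp` element. -/

set_option autoImplicit false
set_option linter.unusedSectionVars false
set_option linter.unusedVariables false

namespace Cfsg.Agent.S5704P

open Matrix Cfsg.Agent.S5637P Cfsg.Agent.S5704S Cfsg.Agent.Helper28.Sg

variable {F : Type*} [Field F] {n a b : ℕ} (e : Fin n ≃ Fin a × Fin b)
variable {Q : QuadraticForm F (Fin n → F)} {GU : Matrix (Fin a) (Fin a) F}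
  {GW : Matrix (Fin b) (Fin b) F} {M : Subgroup (GL (Fin n) F)}

namespace EGINV

theorem inv_mulVec_of_mulVec {k : GL (Fin n) F} {x y : Fin n → F}
    (h : (k : Matrix (Fin n) (Fin n) F) *ᵥ x = y) :
    ((k⁻¹ : GL (Fin n) F) : Matrix (Fin n) (Fin n) F) *ᵥ y = x := by
  rw [← h, mulVec_mulVec, ← Units.val_mul, inv_mul_cancel, Units.val_one, one_mulVec]

end EGINV

/-- EGINV (M): inverse = negated parameters (apply `k⁻¹` to `k (u ⊗ w - N) = u ⊗ w`). -/
theorem EGINV.main (hW : IsSymp GW) {z z1 : Fin b → F} (hzz1 : bf GW z1 z = 0)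
    {Θ Θ' C : Matrix (Fin a) (Fin a) F} {k : GL (Fin n) F} (h : EGp e GW z z1 Θ Θ' C k) :
    EGp e GW z z1 (-Θ) (-Θ') (-C) k⁻¹ := by
  have hfz : ∀ x : Fin a → F, (k : Matrix (Fin n) (Fin n) F) *ᵥ tn e x z = tn e x z := by
    intro x
    rw [h x z, hW.alt z, hW.eq_zero_symm hzz1, zero_smul, zero_smul, add_zero, add_zero]
  have hfz1 : ∀ x : Fin a → F, (k : Matrix (Fin n) (Fin n) F) *ᵥ tn e x z1 = tn e x z1 := by
    intro x
    rw [h x z1, hW.alt z1, hzz1, zero_smul, zero_smul, add_zero, add_zero]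
  intro u w
  apply EGINV.inv_mulVec_of_mulVec
  simp only [mulVec_add, mulVec_smul, mulVec_neg, hfz, hfz1, h u w, neg_mulVec, tn_neg_left,
    smul_neg, smul_add]
  abel

end Cfsg.Agent.S5704P
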