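import Mathlib
import Cfsg.Agent.Helper15.S5704SEEDDefs2

/-! # S5704, chapter SEED, piece EGFS: an `EGp` element fixes `V_z` and its slices. -/

set_option autoImplicit false
set_option linter.unusedSectionVars false
set_option linter.unusedVariables false

namespace Cfsg.Agent.S5704P

open Matrix Cfsg.Agent.S5637P Cfsg.Agent.S5704S Cfsg.Agent.Helper28.Sg

variable {F : Type*} [Field F] {n a b : ℕ} (e : Fin n ≃ Fin a × Fin b)
variable {Q : QuadraticForm F (Fin n → F)} {GU : Matrix (Fin a) (Fin a) F}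
  {GW : Matrix (Fin b) (Fin b) F} {M : Subgroup (GL (Fin n) F)}

/-- EGFS (S): an `EGp` element fixes `V_z` and has slice `(z5,z1) Θ` at `z5 ⊥ z`. -/
theorem EGFS.fix (hW : IsSymp GW) {z z1 : Fin b → F} (hzz1 : bf GW z1 z = 0)
    {Θ Θ' C : Matrix (Fin a) (Fin a) F} {k : GL (Fin n) F} (h : EGp e GW z z1 Θ Θ' C k) : FixV e z k := by
  intro u
  rw [h u z, hW.alt z, hW.eq_zero_symm hzz1, zero_smul, zero_smul, add_zero, add_zero]

theorem EGFS.slice {z z1 : Fin b → F} {Θ Θ' C : Matrix (Fin a) (Fin a) F} {k : GL (Fin n) F}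
    (h : EGp e GW z z1 Θ Θ' C k) {z5 : Fin b → F} (hz5 : bf GW z5 z = 0) :
    Slice e z z5 (bf GW z5 z1 • Θ) k := by
  intro u
  rw [h u z5, hz5, zero_smul, add_zero, smul_mulVec, tn_smul_left]

end Cfsg.Agent.S5704P
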