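import Mathlib
import Cfsg.Prelude.Def_ClassicalGeometry
import Cfsg.Agent.Helper16.S5955Defs
import Cfsg.Agent.Helper2.SympUnits
import Cfsg.Agent.Helper3.S5949NTS
import Cfsg.Agent.Helper22.S5955PAIRSTEP

set_option autoImplicit false
open scoped MatrixGroups

/-! S5955 piece EVENTI (`exists_ti_even`). -/

universe u

namespace Cfsg.Agent.S5955P

open Polynomial Cfsg.Agent.Helper2.SympInvol Cfsg.Agent.Helper2.SympUnits Cfsg.Agent.S5961P

namespace EVENTI

/-- `Orth` of a join with itself -/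
theorem orth_sup {F V : Type*} [Field F] [AddCommGroup V] [Module F V]
    (B : LinearMap.BilinForm F V) (halt : ∀ v, B v v = 0) (U₁ U₂ : Submodule F V)
    (h11 : Orth B U₁ U₁) (h12 : Orth B U₁ U₂) (h22 : Orth B U₂ U₂) :
    Orth B (U₁ ⊔ U₂) (U₁ ⊔ U₂) := by
  have hskew : ∀ u v, B u v = - B v u := by
    intro u v
    have h := halt (u + v)
    simp only [map_add, LinearMap.add_apply, halt u, halt v] at h
    linear_combination h
  have h21 : Orth B U₂ U₁ := by
    intro u hu v hv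
    rw [hskew, h12 v hv u hu, neg_zero]
  intro u hu v hv
  obtain ⟨a, ha, b, hb, rfl⟩ := Submodule.mem_sup.mp hu
  obtain ⟨a', ha', b', hb', rfl⟩ := Submodule.mem_sup.mp hv
  simp only [map_add, LinearMap.add_apply, h11 a ha a' ha', h12 a ha b' hb',
    h21 b hb a' ha', h22 b hb b' hb', add_zero]

end EVENTI

open EVENTI in
/-- EVENTI -/
theorem exists_ti_even {F V : Type*} [Field F] [Fintype F] [AddCommGroup V] [Module F V]
    [FiniteDimensional F V] {p : ℕ} [Fact p.Prime] [CharP F p] (r : ℕ) [Fact r.Prime]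
    (hr2 : r ≠ 2) (hrp : r ≠ p) (B : LinearMap.BilinForm F V) (halt : ∀ v, B v v = 0)
    (y : Module.End F V) (hyB : ∀ u v, B (y u) (y v) = B u v) (hy : y ^ r = 1)
    (hev : Even (orderOf ((Fintype.card F : ℕ) : ZMod r)))
    (N : Submodule F V) (hN : N.map y ≤ N) (hNnd : Nondeg B N)
    (hNfix : N ⊓ LinearMap.ker (y - 1) = ⊥) (s : ℕ)
    (hs : s = 0 ∨ (r - 1) + 2 * s * orderOf ((Fintype.card F : ℕ) : ZMod r) ≤
      Module.finrank F N + orderOf ((Fintype.card F : ℕ) : ZMod r)) :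
    ∃ U : Submodule F V, U ≤ N ∧ U.map y ≤ U ∧ Orth B U U ∧
      Module.finrank F U = orderOf ((Fintype.card F : ℕ) : ZMod r) * s := by
  have hipos : 0 < orderOf ((Fintype.card F : ℕ) : ZMod r) :=
    Cfsg.Agent.S5949P.orderOf_card_pos (F := F) (p := p) r hrp
  generalize hi : orderOf ((Fintype.card F : ℕ) : ZMod r) = i at *
  induction s generalizing N with
  | zero =>
    refine ⟨⊥, bot_le, ?_, ?_, ?_⟩
    · rw [Submodule.map_bot]
    · intro u hu v _
      rw [(Submodule.mem_bot F).mp hu, map_zero, LinearMap.zero_apply]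
    · rw [finrank_bot, mul_zero]
  | succ s ih =>
    have hs' : (r - 1) + 2 * (s + 1) * i ≤ Module.finrank F N + i := by
      rcases hs with h | h
      · exact absurd h (Nat.succ_ne_zero s)
      · exact h
    have hNdim : r - 1 < Module.finrank F N := by
      have : 2 * (s + 1) * i = 2 * s * i + i + i := by ring
      omega
    obtain ⟨U₁, N₂, hU₁N, hN₂N, hU₁inv, hN₂inv, h11, h1N₂, hdisj, hN₂nd, hU₁dim, hN₂dim⟩ :=
      exists_ti_pair_step (p := p) r hr2 hrp B halt y hyB hy (by rw [hi]; exact hev) N hN hNnd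
        hNfix hNdim
    rw [hi] at hU₁dim hN₂dim
    have hN₂fix : N₂ ⊓ LinearMap.ker (y - 1) = ⊥ := by
      rw [eq_bot_iff, ← hNfix]
      exact inf_le_inf_right _ hN₂N
    obtain ⟨U₂, hU₂N₂, hU₂inv, h22, hU₂dim⟩ := ih N₂ hN₂inv hN₂nd hN₂fix (by
      right
      have : 2 * (s + 1) * i = 2 * s * i + 2 * i := by ring
      omega)
    have h12 : Orth B U₁ U₂ := fun u hu v hv => h1N₂ u hu v (hU₂N₂ hv)
    refine ⟨U₁ ⊔ U₂, sup_le hU₁N (hU₂N₂.trans hN₂N), ?_, orth_sup B halt U₁ U₂ h11 h12 h22, ?_⟩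
    · rw [Submodule.map_sup]
      exact sup_le_sup hU₁inv hU₂inv
    · have hd : Disjoint U₁ U₂ := hdisj.mono_right hU₂N₂
      have h1 := Submodule.finrank_sup_add_finrank_inf_eq U₁ U₂
      rw [hd.eq_bot, finrank_bot, add_zero] at h1
      rw [h1, hU₁dim, hU₂dim]
      ring

end Cfsg.Agent.S5955P
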