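import Mathlib
import Cfsg.Prelude.Def_ClassicalGeometry
import Cfsg.Agent.Helper16.S5955Defs
import Cfsg.Agent.Helper2.SympUnits
import Cfsg.Agent.Helper18.S5961NDSUB
import Cfsg.Agent.Helper19.S5961BLOCKEX
import Cfsg.Agent.Helper26.S5955IRRSUB

set_option autoImplicit false
open scoped MatrixGroups

/-! S5955 piece ODDTI (`exists_ti_in_block_odd`). -/

universe u

namespace Cfsg.Agent.S5955P

open Polynomial Cfsg.Agent.Helper2.SympInvol Cfsg.Agent.Helper2.SympUnits Cfsg.Agent.S5961P

/-- ODDTI -/
theorem exists_ti_in_block_odd {F V : Type*} [Field F] [Fintype F] [AddCommGroup V]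
    [Module F V] [FiniteDimensional F V] {p : ℕ} [Fact p.Prime] [CharP F p] (r : ℕ)
    [Fact r.Prime] (hr2 : r ≠ 2) (hrp : r ≠ p) (B : LinearMap.BilinForm F V)
    (halt : ∀ v, B v v = 0) (y : Module.End F V) (hyB : ∀ u v, B (y u) (y v) = B u v)
    (hy : y ^ r = 1) (hodd : Odd (orderOf ((Fintype.card F : ℕ) : ZMod r)))
    (E : Submodule F V) (hE : E.map y ≤ E) (hEnd : Nondeg B E)
    (hEfix : E ⊓ LinearMap.ker (y - 1) = ⊥) (hE0 : E ≠ ⊥) :
    ∃ U : Submodule F V, U ≤ E ∧ U.map y ≤ U ∧ Orth B U U ∧
      Module.finrank F U = orderOf ((Fintype.card F : ℕ) : ZMod r) := by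
  have hr : r.Prime := Fact.out
  obtain ⟨U, hUE, hUinv, hUdim, hUirr⟩ := exists_irr_sub (p := p) r hrp y hy E hE hE0 hEfix
  have hinj : Function.Injective y := by
    have h1 : y ^ (r - 1) * y = 1 := by
      rw [← pow_succ, Nat.sub_add_cancel hr.one_le, hy]
    intro a b hab
    have := congrArg (y ^ (r - 1)) hab
    rwa [← Module.End.mul_apply, ← Module.End.mul_apply, h1] at this
  have hskew : ∀ u v, B u v = - B v u := by
    intro u v
    have h := halt (u + v)
    simp only [map_add, LinearMap.add_apply, halt u, halt v] at h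
    linear_combination h
  have hR : (U ⊓ B.orthogonal U).map y ≤ U ⊓ B.orthogonal U :=
    (Submodule.map_inf_le _).trans
      (inf_le_inf hUinv (BLOCKEX.orthogonal_invariant B y hyB hinj U hUinv))
  rcases hUirr _ inf_le_left hR with h | h
  · exfalso
    have hnd : Nondeg B U := by
      intro m hm hm0
      by_contra hcon
      push Not at hcon
      apply hm0
      have hmem : m ∈ U ⊓ B.orthogonal U := by
        refine Submodule.mem_inf.mpr ⟨hm, ?_⟩
        rw [LinearMap.BilinForm.mem_orthogonal_iff]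
        intro n hn
        change B n m = 0
        rw [hskew, hcon n hn, neg_zero]
      rw [h] at hmem
      exact (Submodule.mem_bot F).mp hmem
    have heven := (exists_nondeg_sub B halt U hnd).1
    rw [hUdim] at heven
    exact (Nat.not_even_iff_odd.mpr hodd) heven
  · refine ⟨U, hUE, hUinv, ?_, hUdim⟩
    intro u hu v hv
    have hv' : v ∈ B.orthogonal U := (inf_eq_left.mp h) hv
    exact (LinearMap.BilinForm.mem_orthogonal_iff.mp hv') u hu

end Cfsg.Agent.S5955P
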