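import Mathlib
import Cfsg.Agent.S3977
import Cfsg.Agent.Helper20.SelfNormA
import Cfsg.Agent.Helper17.Basic
import Cfsg.Agent.Helper9.PGroupCent
import Cfsg.Agent.Helper9.Class2

set_option autoImplicit false

/-! Minimal nonabelian `p`-groups have derived subgroup of order `p`. -/

namespace Cfsg.Agent.Helper20

open scoped commutatorElement

section
universe u
variable {Q : Type u} [Group Q]

theorem card_commutator_of_minimal_nonabelian [Finite Q] {p : ℕ} [hp : Fact p.Prime]
    (hQ : IsPGroup p Q) (hna : ∃ a b : Q, a * b ≠ b * a)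
    (hmin : ∀ R : Subgroup Q, R ≠ ⊤ → IsMulCommutative R) :
    Nat.card (commutator Q) = p := by
  classical
  have hp1 := hp.out.one_lt
  obtain ⟨m, hm⟩ := IsPGroup.iff_card.1 hQ
  have hncyc : ¬ IsCyclic Q := by
    intro hc
    obtain ⟨a, b, hab⟩ := hna
    exact hab (IsCyclic.commGroup.mul_comm a b)
  have hm1 : 1 ≤ m := by
    by_contra hlt
    have hm0 : m = 0 := by omega
    rw [hm0, pow_zero] at hm
    haveI : Subsingleton Q := (Nat.card_eq_one_iff_unique.1 hm).1
    obtain ⟨a, b, hab⟩ := hna
    exact hab (by rw [Subsingleton.elim a 1, Subsingleton.elim b 1])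
  obtain ⟨A, B, hAcard, hBcard, hAB⟩ :=
    Cfsg.Agent.S3977.exists_two_max p m hp.out hm hm1 hncyc
  have hlt : p ^ (m - 1) < p ^ m := Nat.pow_lt_pow_right hp1 (by omega)
  have hAtop : A ≠ ⊤ := by
    intro h
    rw [h, Subgroup.card_top, hm] at hAcard
    omega
  have hBtop : B ≠ ⊤ := by
    intro h
    rw [h, Subgroup.card_top, hm] at hBcard
    omega
  have hAcomm := hmin A hAtop
  have hBcomm := hmin B hBtop
  have hAc : ∀ x ∈ A, ∀ y ∈ A, x * y = y * x := (isMulCommutative_subgroup_iff A).1 hAcomm
  have hBc : ∀ x ∈ B, ∀ y ∈ B, x * y = y * x := (isMulCommutative_subgroup_iff B).1 hBcomm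
  have hidx : ∀ K : Subgroup Q, Nat.card K = p ^ (m - 1) → K.index = p := by
    intro K hK
    have h1 := K.card_mul_index
    rw [hK, hm] at h1
    have h2 : p ^ (m - 1) * p = p ^ m := by
      rw [← pow_succ]
      congr 1
      omega
    exact Nat.eq_of_mul_eq_mul_left (pow_pos hp.out.pos _) (h1.trans h2.symm)
  have hnorm : ∀ K : Subgroup Q, Nat.card K = p ^ (m - 1) → K.Normal := by
    intro K hK
    apply Subgroup.normal_of_index_eq_minFac_card
    rw [hidx K hK, hm, Nat.pow_minFac (by omega), hp.out.minFac_eq]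
  haveI hAn : A.Normal := hnorm A hAcard
  haveI hBn : B.Normal := hnorm B hBcard
  have hBA : ¬ B ≤ A := by
    intro hle
    exact hAB (Subgroup.eq_of_le_of_card_ge hle (by rw [hAcard, hBcard])).symm
  have hAB' : ¬ A ≤ B := by
    intro hle
    exact hAB (Subgroup.eq_of_le_of_card_ge hle (by rw [hAcard, hBcard]))
  have hm' : m - 1 + 1 = m := by omega
  have hsup : A ⊔ B = ⊤ := by
    apply Helper9.eq_of_lt_of_card_pow hp.out (m - 1) (B₀ := A) _ le_top hAcard
      (by rw [Subgroup.card_top, hm, hm'])
    refine lt_of_le_of_ne le_sup_left ?_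
    intro h
    apply hBA
    rw [h]
    exact le_sup_right
  set Z := A ⊓ B with hZ
  have hprod := Helper17.card_sup_mul_card_inf_of_normal A B
  rw [hsup, Subgroup.card_top, hm, hAcard, hBcard, ← hZ] at hprod
  have hm2 : 2 ≤ m := by
    by_contra hlt2
    have : m = 1 := by omega
    rw [this] at hprod
    simp only [Nat.sub_self, pow_zero, pow_one, mul_one] at hprod
    have : p ∣ 1 := ⟨_, hprod.symm⟩
    exact hp.out.one_lt.ne' (Nat.dvd_one.1 this)
  have hZcard : Nat.card Z = p ^ (m - 2) := by
    have h2 : p ^ (m - 1) * p ^ (m - 1) = p ^ m * p ^ (m - 2) := by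
      rw [← pow_add, ← pow_add]
      congr 1
      omega
    exact Nat.eq_of_mul_eq_mul_left (pow_pos hp.out.pos m) (hprod.trans h2)
  have hZcen : Z ≤ Subgroup.center Q := by
    intro z hz
    have h1 : A ⊔ B ≤ Subgroup.centralizer {z} := by
      rw [sup_le_iff]
      constructor
      · intro x hx
        rw [Subgroup.mem_centralizer_singleton_iff]
        exact hAc x hx z hz.1
      · intro x hx
        rw [Subgroup.mem_centralizer_singleton_iff]
        exact hBc x hx z hz.2
    rw [hsup] at h1
    rw [Subgroup.mem_center_iff]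
    intro g
    have := h1 (Subgroup.mem_top g)
    rw [Subgroup.mem_centralizer_singleton_iff] at this
    exact this
  obtain ⟨a, haA, haB⟩ := SetLike.not_le_iff_exists.1 hAB'
  obtain ⟨b, hbB, hbA⟩ := SetLike.not_le_iff_exists.1 hBA
  set c := a * b * a⁻¹ * b⁻¹ with hc
  have hcZ : c ∈ Z := by
    constructor
    · have : c = a * (b * a⁻¹ * b⁻¹) := by rw [hc]; group
      rw [this]
      exact A.mul_mem haA (hAn.conj_mem _ (A.inv_mem haA) b)
    · exact B.mul_mem (hBn.conj_mem _ hbB a) (B.inv_mem hbB)
  have hccen : c ∈ Subgroup.center Q := hZcen hcZ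
  set W := Subgroup.zpowers c with hW
  have hWcen : W ≤ Subgroup.center Q := by
    rw [hW, Subgroup.zpowers_le]; exact hccen
  haveI hWn : W.Normal := by
    refine ⟨fun x hx g => ?_⟩
    have := Subgroup.mem_center_iff.1 (hWcen hx) g
    rw [this, mul_inv_cancel_right]
    exact hx
  -- `A = ⟨a⟩ Z`, `B = ⟨b⟩ Z`
  have hm'' : m - 2 + 1 = m - 1 := by omega
  have hA_eq : Subgroup.zpowers a ⊔ Z = A := by
    apply Helper9.eq_of_lt_of_card_pow hp.out (m - 2) (B₀ := Z) _ _ hZcard (by rw [hAcard, hm''])
    · refine lt_of_le_of_ne le_sup_right ?_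
      intro h
      apply haB
      have : a ∈ Z := by
        rw [h]
        exact (le_sup_left : Subgroup.zpowers a ≤ _) (Subgroup.mem_zpowers a)
      exact this.2
    · exact sup_le (by rw [Subgroup.zpowers_le]; exact haA) inf_le_left
  have hB_eq : Subgroup.zpowers b ⊔ Z = B := by
    apply Helper9.eq_of_lt_of_card_pow hp.out (m - 2) (B₀ := Z) _ _ hZcard (by rw [hBcard, hm''])
    · refine lt_of_le_of_ne le_sup_right ?_
      intro h
      apply hbA
      have : b ∈ Z := by
        rw [h]
        exact (le_sup_left : Subgroup.zpowers b ≤ _) (Subgroup.mem_zpowers b)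
      exact this.1
    · exact sup_le (by rw [Subgroup.zpowers_le]; exact hbB) inf_le_right
  -- the quotient by `W` is commutative
  let π := QuotientGroup.mk' W
  have hπsurj : Function.Surjective π := QuotientGroup.mk'_surjective W
  have hπab : π a * π b = π b * π a := by
    have h1 : π c = 1 := (QuotientGroup.eq_one_iff c).2 (Subgroup.mem_zpowers c)
    have h2 : π c = π a * π b * (π a)⁻¹ * (π b)⁻¹ := by
      rw [hc]; simp only [map_mul, map_inv]
    rw [h2] at h1
    calc π a * π b = (π a * π b * (π a)⁻¹ * (π b)⁻¹) * (π b * π a) := by group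
      _ = π b * π a := by rw [h1, one_mul]
  have hπZ : ∀ z ∈ Z, π z ∈ Subgroup.center (Q ⧸ W) := by
    intro z hz
    rw [Subgroup.mem_center_iff]
    intro g
    obtain ⟨g, rfl⟩ := hπsurj g
    rw [← map_mul, ← map_mul, Subgroup.mem_center_iff.1 (hZcen hz) g]
  have htop_le : ∀ S : Subgroup (Q ⧸ W), A.map π ≤ S → B.map π ≤ S → S = ⊤ := by
    intro S h1 h2
    rw [eq_top_iff]
    have : (A ⊔ B).map π ≤ S := by
      rw [Subgroup.map_sup]; exact sup_le h1 h2
    rw [hsup] at this
    intro x _
    obtain ⟨x, rfl⟩ := hπsurj x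
    exact this ⟨x, Subgroup.mem_top x, rfl⟩
  have hπa : π a ∈ Subgroup.center (Q ⧸ W) := by
    have hS : Subgroup.centralizer {π a} = ⊤ := by
      apply htop_le
      · rintro _ ⟨x, hx, rfl⟩
        rw [Subgroup.mem_centralizer_singleton_iff, ← map_mul, ← map_mul, hAc x hx a haA]
      · rw [← hB_eq, Subgroup.map_sup, sup_le_iff, MonoidHom.map_zpowers, Subgroup.zpowers_le]
        constructor
        · rw [Subgroup.mem_centralizer_singleton_iff]; exact hπab.symm
        · rintro _ ⟨z, hz, rfl⟩
          rw [Subgroup.mem_centralizer_singleton_iff]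
          exact (Subgroup.mem_center_iff.1 (hπZ z hz) (π a)).symm
    rw [Subgroup.mem_center_iff]
    intro g
    have : g ∈ Subgroup.centralizer {π a} := by rw [hS]; exact Subgroup.mem_top g
    rw [Subgroup.mem_centralizer_singleton_iff] at this
    exact this
  have hπb : π b ∈ Subgroup.center (Q ⧸ W) := by
    have hS : Subgroup.centralizer {π b} = ⊤ := by
      apply htop_le
      · rw [← hA_eq, Subgroup.map_sup, sup_le_iff, MonoidHom.map_zpowers, Subgroup.zpowers_le]
        constructor
        · rw [Subgroup.mem_centralizer_singleton_iff]; exact hπab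
        · rintro _ ⟨z, hz, rfl⟩
          rw [Subgroup.mem_centralizer_singleton_iff]
          exact (Subgroup.mem_center_iff.1 (hπZ z hz) (π b)).symm
      · rintro _ ⟨x, hx, rfl⟩
        rw [Subgroup.mem_centralizer_singleton_iff, ← map_mul, ← map_mul, hBc x hx b hbB]
    rw [Subgroup.mem_center_iff]
    intro g
    have : g ∈ Subgroup.centralizer {π b} := by rw [hS]; exact Subgroup.mem_top g
    rw [Subgroup.mem_centralizer_singleton_iff] at this
    exact this
  have hcenter : Subgroup.center (Q ⧸ W) = ⊤ := by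
    apply htop_le
    · rw [← hA_eq, Subgroup.map_sup, sup_le_iff, MonoidHom.map_zpowers, Subgroup.zpowers_le]
      refine ⟨hπa, ?_⟩
      rintro _ ⟨z, hz, rfl⟩
      exact hπZ z hz
    · rw [← hB_eq, Subgroup.map_sup, sup_le_iff, MonoidHom.map_zpowers, Subgroup.zpowers_le]
      refine ⟨hπb, ?_⟩
      rintro _ ⟨z, hz, rfl⟩
      exact hπZ z hz
  have hquot : IsMulCommutative (Q ⧸ W) := by
    refine ⟨⟨fun x y => ?_⟩⟩
    have : y ∈ Subgroup.center (Q ⧸ W) := by rw [hcenter]; exact Subgroup.mem_top y
    exact (Subgroup.mem_center_iff.1 this x)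
  have hcommW : commutator Q ≤ W := Subgroup.Normal.quotient_commutative_iff_commutator_le.1 hquot
  have hclass2 : commutator Q ≤ Subgroup.center Q := hcommW.trans hWcen
  -- `c ^ p = 1`
  have hcp : c ^ p = 1 := by
    have h1 : c = ⁅a, b⁆ := by rw [hc, commutatorElement_def]
    rw [h1, ← Helper9.commutatorElement_pow_left hclass2]
    have hapZ : a ^ p ∈ Z := by
      constructor
      · exact A.pow_mem haA p
      · have := Subgroup.pow_index_mem B a
        rwa [hidx B hBcard] at this
    have := Subgroup.mem_center_iff.1 (hZcen hapZ) b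
    rw [commutatorElement_def, ← this]
    group
  have hc1 : c ≠ 1 := by
    intro h1
    obtain ⟨x, y, hxy⟩ := hna
    apply hxy
    have hbot : commutator Q ≤ ⊥ := by
      rw [hW, h1, Subgroup.zpowers_one_eq_bot] at hcommW
      exact hcommW
    have hmem : ⁅x, y⁆ ∈ commutator Q := by
      rw [commutator_def]
      exact Subgroup.commutator_mem_commutator (Subgroup.mem_top x) (Subgroup.mem_top y)
    have := Subgroup.mem_bot.1 (hbot hmem)
    rw [commutatorElement_def] at this
    calc x * y = (x * y * x⁻¹ * y⁻¹) * (y * x) := by group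
      _ = y * x := by rw [this, one_mul]
  have hWcard : Nat.card W = p := by
    rw [hW, Nat.card_zpowers]
    exact orderOf_eq_prime hcp hc1
  have hcmem : c ∈ commutator Q := by
    have h1 : c = ⁅a, b⁆ := by rw [hc, commutatorElement_def]
    rw [h1, commutator_def]
    exact Subgroup.commutator_mem_commutator (Subgroup.mem_top a) (Subgroup.mem_top b)
  have : commutator Q = W := by
    apply le_antisymm hcommW
    rw [hW, Subgroup.zpowers_le]
    exact hcmem
  rw [this, hWcard]

end

end Cfsg.Agent.Helper20
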