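import Mathlib
import Cfsg.Agent.Helper4.McLDefs

set_option autoImplicit false

/-! S5075 pieces DDPART (`dd_of_partial`) and CCPART (`cc_of_partial`). -/

namespace Cfsg.Agent.S5075P

variable {p : ℕ} [Fact p.Prime] {V : Type*} [AddCommGroup V] [Module (ZMod p) V]
variable {G : Subgroup (V ≃ₗ[ZMod p] V)}

/-- a nonzero vector of `range π` killed by a functional, when `range π` has dimension `≥ 2` -/
theorem ddpart_exists_ker [Finite V] {π : V →ₗ[ZMod p] V} (hidem : π ∘ₗ π = π)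
    (h2 : 2 ≤ Module.finrank (ZMod p) ↥(LinearMap.range π)) (ν : Module.Dual (ZMod p) V) :
    ∃ m : V, m ≠ 0 ∧ π m = m ∧ ν m = 0 := by
  have : Module.Finite (ZMod p) V := Module.Finite.of_finite
  let f : ↥(LinearMap.range π) →ₗ[ZMod p] ZMod p := ν ∘ₗ (LinearMap.range π).subtype
  have hk : LinearMap.ker f ≠ ⊥ := by
    apply LinearMap.ker_ne_bot_of_finrank_lt
    rw [Module.finrank_self]
    omega
  obtain ⟨x, hx, hx0⟩ := (Submodule.ne_bot_iff _).mp hk
  refine ⟨(x : V), ?_, ?_, ?_⟩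
  · intro h0
    exact hx0 (Subtype.ext h0)
  · obtain ⟨y, hy⟩ := x.2
    rw [← hy]
    exact LinearMap.congr_fun hidem y
  · exact hx

theorem dd_of_partial [Finite V] {π : V →ₗ[ZMod p] V} (h : SLfull G π)
    (h3 : 3 ≤ Module.finrank (ZMod p) ↥(LinearMap.range π)) {d m₀ : V} (hd : π d = 0)
    (hm₀ : π m₀ = m₀)
    (hI : ∀ μ : Module.Dual (ZMod p) V, μ ∘ₗ π = μ → μ m₀ = 0 → InI G d μ) : d ∈ DD G π := by
  refine ⟨hd, ?_⟩
  intro ν hν
  by_cases hν0 : ν m₀ = 0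
  · exact hI ν hν hν0
  obtain ⟨m, hm0, hπm, hνm⟩ := ddpart_exists_ker h.idem (by omega) ν
  obtain ⟨l, hl⟩ := Module.Projective.exists_dual_ne_zero (ZMod p) hm0
  -- the functional `μ`
  set μ' : Module.Dual (ZMod p) V := l - (l m₀ / ν m₀) • ν with hμ'
  set μ : Module.Dual (ZMod p) V := μ' ∘ₗ π with hμ
  have hμπ : μ ∘ₗ π = μ := by
    rw [hμ, LinearMap.comp_assoc, h.idem]
  have hμm₀ : μ m₀ = 0 := by
    rw [hμ, LinearMap.comp_apply, hm₀, hμ', LinearMap.sub_apply, LinearMap.smul_apply,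
      smul_eq_mul, div_mul_cancel₀ _ hν0, sub_self]
  have hμm : μ m ≠ 0 := by
    rw [hμ, LinearMap.comp_apply, hπm, hμ', LinearMap.sub_apply, LinearMap.smul_apply, hνm,
      smul_zero, sub_zero]
    exact hl
  have hνd : ν d = 0 := by
    rw [← hν, LinearMap.comp_apply, hd, map_zero]
  have h1 : InI G d μ := hI μ hμπ hμm₀
  have h2 : InI G m ν := h.full m ν hπm hν hνm
  have h4 := h1.conj_tv h2
  rw [hνd, zero_smul, add_zero] at h4
  have h5 := h1.sub_right h4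
  rw [sub_sub_cancel] at h5
  have h6 := h5.smul_right (μ m)⁻¹
  rwa [smul_smul, inv_mul_cancel₀ hμm, one_smul] at h6

theorem cc_of_partial [Finite V] {π : V →ₗ[ZMod p] V} (h : SLfull G π)
    (h3 : 3 ≤ Module.finrank (ZMod p) ↥(LinearMap.range π)) {ξ μ₀ : Module.Dual (ZMod p) V}
    (hξ : ξ ∘ₗ π = 0) (hμ₀ : μ₀ ∘ₗ π = μ₀)
    (hI : ∀ m : V, π m = m → μ₀ m = 0 → InI G m ξ) : ξ ∈ CC G π := by
  refine ⟨hξ, ?_⟩
  intro m hπm
  by_cases hm0 : μ₀ m = 0
  · exact hI m hπm hm0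
  obtain ⟨m', hm'0, hπm', hμm'⟩ := ddpart_exists_ker h.idem (by omega) μ₀
  obtain ⟨l, hl⟩ := Module.Projective.exists_dual_ne_zero (ZMod p) hm'0
  set ν' : Module.Dual (ZMod p) V := l - (l m / μ₀ m) • μ₀ with hν'
  set ν : Module.Dual (ZMod p) V := ν' ∘ₗ π with hν
  have hνπ : ν ∘ₗ π = ν := by
    rw [hν, LinearMap.comp_assoc, h.idem]
  have hνm : ν m = 0 := by
    rw [hν, LinearMap.comp_apply, hπm, hν', LinearMap.sub_apply, LinearMap.smul_apply,
      smul_eq_mul, div_mul_cancel₀ _ hm0, sub_self]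
  have hνm' : ν m' ≠ 0 := by
    rw [hν, LinearMap.comp_apply, hπm', hν', LinearMap.sub_apply, LinearMap.smul_apply, hμm',
      smul_zero, sub_zero]
    exact hl
  have hξm : ξ m = 0 := by
    rw [← hπm, ← LinearMap.comp_apply, hξ, LinearMap.zero_apply]
  have h1 : InI G m' ξ := hI m' hπm' hμm'
  have h2 : InI G m ν := h.full m ν hπm hνπ hνm
  have h4 := h1.conj_tv h2
  rw [hξm, zero_smul, sub_zero] at h4
  have h5 := h4.sub_left h1
  rw [add_sub_cancel_left] at h5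
  have h6 := h5.smul_left (ν m')⁻¹
  rwa [smul_smul, inv_mul_cancel₀ hνm', one_smul] at h6

end Cfsg.Agent.S5075P
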