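import Mathlib
import Cfsg.Agent.Helper2.S2094.DefsR
import Cfsg.Agent.Helper8.S2096HGEN
import Cfsg.Agent.Helper23.S2096ZPI
import Cfsg.Agent.Helper16.S2096TXDG
import Cfsg.Agent.Helper25.S2096WXID

set_option autoImplicit false
set_option linter.unusedSectionVars false
set_option linter.unusedVariables false

/-! S2094 chapter Z, piece HKERD (helper20): (type `D_n`) an element of the torus `Hh X'` with
trivial matrix is `1` or `zc X' o o1`. -/

namespace Cfsg.Agent.S2094P

open Matrix Cfsg.Agent.S3352P Cfsg.Agent.S3351P Cfsg.Agent.S2096P Cfsg.Agent.S2086P Cfsg.Agent.RGD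

variable {n : ℕ} {F : Type*} [Field F] [Fintype F] {M : Type*} [Group M]
  {X : J n → J n → F → M} {Ys : J n → F → M}

/-- HKERD: (type `D_n`) an element of the torus with trivial matrix is `1` or `zc` -/
theorem eq_one_or_eq_zc {M' : Type*} [Group M'] {X' : J n → J n → F → M'}
    (π : M' →* Matrix (J n) (J n) F)
    (hπ : ∀ a b, IsRoot a b → ∀ t : F, π (X' a b t) = xm a b t)
    (Θ : Matrix.SpecialLinearGroup (Fin n) F →* M')
    (hΘ : ∀ (i j : Fin n) (hij : i ≠ j) (t : F),
      Θ (Matrix.SpecialLinearGroup.transvection hij t) = X' (Sum.inl i) (Sum.inl j) t)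
    (hn : 3 ≤ n) (hX : DRel X') {o o1 : Fin n} (ho : o ≠ o1) {h : M'} (hh : h ∈ Hh X')
    (hπh : π h = 1) : h = 1 ∨ h = zc X' o o1 := by
  obtain ⟨d, s, hxd⟩ := exists_of_mem_Hh π hπ Θ hΘ hn hX ho hh
  have hr : IsRoot (Sum.inl o : J n) (Sum.inr o1) := isRoot_iff_ab.2 (by simpa using ho)
  have hdiag : Matrix.diagonal (ZPI.dvec o o1 d (s : F)) = 1 := by
    rw [← ZPI.pi_Theta_mul_tX π hπ Θ hΘ ho d (Units.ne_zero s), ← hxd, hπh]
  have hent : ∀ c : J n, ZPI.dvec o o1 d (s : F) c = 1 := by
    intro c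
    have := congrFun (congrFun hdiag c) c
    rwa [Matrix.diagonal_apply_eq, Matrix.one_apply_eq] at this
  have hA : ∀ i : Fin n, ((d.1 i : Fˣ) : F) * (if i = o ∨ i = o1 then (s : F) else 1) = 1 := by
    intro i
    rw [← ZPI.dvec_inl, hent]
  have hdi : ∀ i, d.1 i = if i = o ∨ i = o1 then s⁻¹ else 1 := by
    intro i
    have := hA i
    by_cases h' : i = o ∨ i = o1
    · rw [if_pos h'] at this ⊢
      apply Units.ext
      rw [Units.val_inv_eq_inv_val]
      exact eq_inv_of_mul_eq_one_left this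
    · rw [if_neg h'] at this ⊢
      rw [mul_one] at this
      apply Units.ext
      rw [Units.val_one]
      exact this
  have hprod : ∏ i, d.1 i = 1 := d.2
  have hs2 : s⁻¹ * s⁻¹ = 1 := by
    rw [← hprod, Finset.prod_congr rfl (fun i _ => hdi i),
      Finset.prod_eq_mul_of_mem o o1 (Finset.mem_univ _) (Finset.mem_univ _) ho]
    · rw [if_pos (Or.inl rfl), if_pos (Or.inr rfl)]
    · intro c _ hc
      rw [if_neg (by push Not; exact hc)]
  have hss : (s : F) * (s : F) = 1 := by
    have h1 : s * s = 1 := by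
      have := congrArg (fun u : Fˣ => u⁻¹) hs2
      simpa using this
    have := congrArg (fun u : Fˣ => (u : F)) h1
    simpa using this
  have hcases : (s : F) = 1 ∨ (s : F) = -1 := by
    have h1 : ((s : F) - 1) * ((s : F) + 1) = 0 := by ring_nf; rw [pow_two, hss]; ring
    rcases mul_eq_zero.1 h1 with h1 | h1
    · exact Or.inl (sub_eq_zero.1 h1)
    · exact Or.inr (eq_neg_of_add_eq_zero_left h1)
  rcases hcases with hs1 | hs1
  · -- `s = 1`: `d = 1`
    left
    have hs1' : s = 1 := Units.ext hs1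
    have hd1 : d = 1 := by
      apply Subtype.ext
      funext i
      rw [hdi i, hs1', inv_one, ite_self]
      rfl
    rw [hxd, hd1, map_one, map_one, one_mul, hs1, tX_one hX hr]
  · -- `s = -1`
    right
    have hs1' : s = -1 := Units.ext (by rw [hs1]; simp)
    have hd1 : d = tor2 o o1 ho (-1) := by
      apply Subtype.ext
      funext i
      rw [hdi i, tor2_apply, hs1']
      by_cases h1 : i = o
      · rw [if_pos (Or.inl h1), if_pos h1, inv_neg, inv_one]
      · by_cases h2 : i = o1
        · rw [if_pos (Or.inr h2), if_neg h1, if_pos h2]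
        · rw [if_neg (by push Not; exact ⟨h1, h2⟩), if_neg h1, if_neg h2]
    unfold zc
    have h3 := tX_eq_Theta Θ hΘ hn hX ho (-1 : Fˣ)
    rw [Units.val_neg, Units.val_one] at h3
    rw [hxd, hd1, ← h3, hs1]

end Cfsg.Agent.S2094P
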