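import Mathlib
import Cfsg.Agent.Helper16.S3161Defs
import Cfsg.Agent.Helper25.S3161FM
import Cfsg.Agent.Helper3.S3161NFG

set_option autoImplicit false
set_option linter.style.haveILetI false
set_option linter.unusedSectionVars false
set_option linter.unusedVariables false

/-! Piece ABEL of the board `s3161pieces`: an invariant subgroup `M ⊇ N` with `M / C` abelian and
`Ω₁(M / C) ⊆ N / C` is abelian.  Counting-free: `e` minimal with `M^(2^e) ⊆ C`, `π x = ee (x^(2^(e-1)))`,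
`ker π ⊆ S = M² C` (extracting `2^j`-th roots modulo `C` by `N_trans`), `S` central, then NFG. -/

namespace Cfsg.Agent.S3161P

open scoped commutatorElement

universe u

variable {T : Type u} [Group T] [Finite T] {α ρ : MulAut T} {C : Subgroup T} {n : ℕ}

/-- if `x, y` commute modulo `C` then `(x y)^k ≡ x^k y^k` modulo `C` -/
theorem ABEL_aux_mul_pow (h : PData α ρ C n) {x y : T} (hxy : ⁅x, y⁆ ∈ C) (k : ℕ) :
    ∃ c ∈ C, (x * y) ^ k = x ^ k * y ^ k * c := by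
  haveI := h.normal
  have hcomm : Commute (QuotientGroup.mk x : T ⧸ C) (QuotientGroup.mk y) := by
    have h1 : (QuotientGroup.mk ⁅x, y⁆ : T ⧸ C) = 1 := (QuotientGroup.eq_one_iff _).mpr hxy
    rw [commutatorElement_def] at h1
    simp only [QuotientGroup.mk_mul, QuotientGroup.mk_inv] at h1
    show _ * _ = _ * _
    calc (QuotientGroup.mk x : T ⧸ C) * QuotientGroup.mk y
        = ((QuotientGroup.mk x : T ⧸ C) * QuotientGroup.mk y * (QuotientGroup.mk x)⁻¹ *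
            (QuotientGroup.mk y)⁻¹) * (QuotientGroup.mk y * QuotientGroup.mk x) := by group
      _ = QuotientGroup.mk y * QuotientGroup.mk x := by rw [h1, one_mul]
  have h2 : (QuotientGroup.mk (x ^ k * y ^ k) : T ⧸ C) = QuotientGroup.mk ((x * y) ^ k) := by
    simp only [QuotientGroup.mk_mul, QuotientGroup.mk_pow]
    exact (hcomm.mul_pow k).symm
  have h3 : (x ^ k * y ^ k)⁻¹ * (x * y) ^ k ∈ C := QuotientGroup.eq.mp h2
  exact ⟨_, h3, by group⟩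

theorem ABEL_aux_rho_pow_mem {M : Subgroup T} (hρ : ∀ x ∈ M, ρ x ∈ M) (k : ℕ) {x : T}
    (hx : x ∈ M) : (ρ ^ k) x ∈ M := by
  induction k with
  | zero => simpa using hx
  | succ k ih =>
    rw [pow_succ', MulAut.mul_apply]
    exact hρ _ ih

theorem ABEL_aux_theta_one {F : Type*} [Field F] {θ : T → F}
    (hθmul : ∀ a ∈ C, ∀ b ∈ C, θ (a * b) = θ a + θ b) : θ 1 = 0 := by
  have := hθmul 1 C.one_mem 1 C.one_mem
  rw [mul_one] at this
  have h2 : θ 1 + θ 1 - θ 1 = θ 1 - θ 1 := by rw [← this]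
  simpa using h2

/-- squares (times `C`) are central in a group which is abelian modulo the central exponent-2 `C` -/
theorem ABEL_aux_sq_central (h : PData α ρ C n) {u x c : T} (hux : ⁅u, x⁆ ∈ C) (hc : c ∈ C) :
    u * u * c * x = x * (u * u * c) := by
  have hk2 := h.exp _ hux
  have hk : u * x = ⁅u, x⁆ * (x * u) := by rw [commutatorElement_def]; group
  have hku := h.comm_mul hux u
  have e1 : u * u * x = x * (u * u) := by
    calc u * u * x = u * (u * x) := by group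
      _ = u * (⁅u, x⁆ * (x * u)) := by rw [← hk]
      _ = (u * ⁅u, x⁆) * (x * u) := by group
      _ = (⁅u, x⁆ * u) * (x * u) := by rw [hku]
      _ = ⁅u, x⁆ * ((u * x) * u) := by group
      _ = ⁅u, x⁆ * ((⁅u, x⁆ * (x * u)) * u) := by rw [← hk]
      _ = (⁅u, x⁆ * ⁅u, x⁆) * (x * (u * u)) := by group
      _ = x * (u * u) := by rw [hk2, one_mul]
  calc u * u * c * x = u * u * (c * x) := by group
    _ = u * u * (x * c) := by rw [h.comm_mul hc x]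
    _ = (u * u * x) * c := by group
    _ = x * (u * u) * c := by rw [e1]
    _ = x * (u * u * c) := by group

/-- ABEL: an invariant subgroup `M ⊇ N` with `M / C` abelian and `Ω₁(M / C) = N / C` is abelian. -/
theorem ABEL (hT : IsPGroup 2 T) (h : PData α ρ C n) (M : Subgroup T) (hNM : h.N ≤ M)
    (hα : ∀ x ∈ M, α x ∈ M) (hρ : ∀ x ∈ M, ρ x ∈ M) (hab : ∀ x ∈ M, ∀ y ∈ M, ⁅x, y⁆ ∈ C)
    (hinv : ∀ x ∈ M, x * x ∈ C → x ∈ h.N) : ∀ x ∈ M, ∀ y ∈ M, x * y = y * x := by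
  classical
  have hCM : C ≤ M := (C_le_N h).trans hNM
  -- the exponent of `M / C`
  have hex : ∃ e : ℕ, ∀ x ∈ M, x ^ (2 ^ e) ∈ C := by
    obtain ⟨k, hk⟩ := hT.exists_card_eq
    refine ⟨k, fun x _ => ?_⟩
    rw [← hk, pow_card_eq_one']
    exact C.one_mem
  obtain ⟨e, he, hmin⟩ : ∃ e, (∀ x ∈ M, x ^ (2 ^ e) ∈ C) ∧
      ∀ e' < e, ¬ ∀ x ∈ M, x ^ (2 ^ e') ∈ C :=
    ⟨Nat.find hex, Nat.find_spec hex, fun e' he' => Nat.find_min hex he'⟩
  rcases Nat.eq_zero_or_pos e with rfl | hepos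
  · intro x hx y _
    have : x ∈ C := by simpa using he x hx
    exact h.comm_mul this y
  obtain ⟨e', rfl⟩ : ∃ e', e = e' + 1 := ⟨e - 1, by omega⟩
  have hnot := hmin e' (Nat.lt_succ_self e')
  obtain ⟨z0, hz0M, hz0⟩ : ∃ z0 ∈ M, z0 ^ (2 ^ e') ∉ C := by
    by_contra hcon
    apply hnot
    intro x hx
    by_contra hxC
    exact hcon ⟨x, hx, hxC⟩
  -- (F1) `x^m ∈ N`
  have hF1 : ∀ x ∈ M, x ^ (2 ^ e') ∈ h.N := by
    intro x hx
    apply hinv _ (M.pow_mem hx _)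
    have : x ^ (2 ^ e') * x ^ (2 ^ e') = x ^ (2 ^ (e' + 1)) := by
      rw [← pow_add, pow_succ, mul_two]
    rw [this]
    exact he x hx
  -- (F2) `π` is multiplicative
  have hF2 : ∀ x ∈ M, ∀ y ∈ M, ee α ((x * y) ^ (2 ^ e')) =
      ee α (x ^ (2 ^ e')) * ee α (y ^ (2 ^ e')) := by
    intro x hx y hy
    obtain ⟨c, hc, hxy⟩ := ABEL_aux_mul_pow h (hab x hx y hy) (2 ^ e')
    rw [hxy, mul_assoc, ee_mul_of_mem h ((mem_N h).mp (hF1 x hx)),
      ee_mul_of_mem h ((mem_N h).mp (hF1 y hy)), (ee_eq_one_iff h c).mpr hc, mul_one]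
  -- (F3) roots modulo `C`
  have hF3 : ∀ j ≤ e', ∀ x ∈ h.N, x ∉ C → ∃ z ∈ M, ∃ c ∈ C, z ^ (2 ^ j) = x * c := by
    intro j hj x hxN hxC
    obtain ⟨k, c, hcC, hk⟩ := N_trans h (hF1 z0 hz0M) hxN hz0 hxC
    refine ⟨(ρ ^ k) (z0 ^ (2 ^ (e' - j))), ABEL_aux_rho_pow_mem hρ k (M.pow_mem hz0M _), c⁻¹,
      C.inv_mem hcC, ?_⟩
    rw [← map_pow, ← pow_mul, ← pow_add, Nat.sub_add_cancel hj, hk]
    group
  -- (F4) `x^(2^j) ∈ C` for some `j ≤ e'` implies `x ∈ M² C`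
  have hF4 : ∀ j ≤ e', ∀ x ∈ M, x ^ (2 ^ j) ∈ C → ∃ u ∈ M, ∃ c ∈ C, x = u * u * c := by
    intro j
    induction j with
    | zero =>
      intro _ x _ hxj
      refine ⟨1, M.one_mem, x, by simpa using hxj, by group⟩
    | succ j ih =>
      intro hj x hx hxj
      have hjle : j ≤ e' := by omega
      have hyM : x ^ (2 ^ j) ∈ M := M.pow_mem hx _
      have hyy : x ^ (2 ^ j) * x ^ (2 ^ j) ∈ C := by
        have : x ^ (2 ^ j) * x ^ (2 ^ j) = x ^ (2 ^ (j + 1)) := by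
          rw [← pow_add, pow_succ, mul_two]
        rw [this]
        exact hxj
      have hyN := hinv _ hyM hyy
      by_cases hyC : x ^ (2 ^ j) ∈ C
      · exact ih hjle x hx hyC
      · obtain ⟨z, hzM, c, hcC, hz⟩ := hF3 (j + 1) hj _ hyN hyC
        have hzzM : (z * z)⁻¹ ∈ M := M.inv_mem (M.mul_mem hzM hzM)
        have hx'M : x * (z * z)⁻¹ ∈ M := M.mul_mem hx hzzM
        obtain ⟨c1, hc1, hpow⟩ := ABEL_aux_mul_pow h (hab x hx _ hzzM) (2 ^ j)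
        have hzz : (z * z) ^ (2 ^ j) = x ^ (2 ^ j) * c := by
          rw [← hz, ← pow_two, ← pow_mul, pow_succ, mul_comm]
        have hx'C : (x * (z * z)⁻¹) ^ (2 ^ j) ∈ C := by
          rw [hpow, inv_pow, hzz, mul_inv_rev]
          have : x ^ (2 ^ j) * (c⁻¹ * (x ^ (2 ^ j))⁻¹) * c1 = c⁻¹ * c1 := by
            rw [h.comm_mul (C.inv_mem hcC) (x ^ (2 ^ j))⁻¹]
            group
          rw [this]
          exact C.mul_mem (C.inv_mem hcC) hc1
        obtain ⟨u, huM, c2, hc2, hx'⟩ := ih hjle _ hx'M hx'C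
        obtain ⟨c4, hc4, huz⟩ := ABEL_aux_mul_pow h (hab u huM z hzM) 2
        refine ⟨u * z, M.mul_mem huM hzM, c4⁻¹ * c2, C.mul_mem (C.inv_mem hc4) hc2, ?_⟩
        have e1 : x = (x * (z * z)⁻¹) * (z * z) := by group
        rw [e1, hx']
        have e2 : u * z * (u * z) = (u * z) ^ 2 := (pow_two _).symm
        rw [e2, huz, pow_two, pow_two]
        calc u * u * c2 * (z * z) = u * u * (c2 * (z * z)) := by group
          _ = u * u * ((z * z) * c2) := by rw [h.comm_mul hc2 (z * z)]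
          _ = u * u * (z * z) * c4 * (c4⁻¹ * c2) := by group
  -- (F5)+(F6): the kernel of `π` is central in `M`
  have hF6 : ∀ x ∈ M, ee α (x ^ (2 ^ e')) = 1 → ∀ y ∈ M, x * y = y * x := by
    intro x hx hπ y hy
    have hxC : x ^ (2 ^ e') ∈ C := (ee_eq_one_iff h _).mp hπ
    obtain ⟨u, huM, c, hcC, rfl⟩ := hF4 e' le_rfl x hx hxC
    exact ABEL_aux_sq_central h (hab u huM y hy) hcC
  -- (F7) `π` is onto `C`
  have hπC : ∀ x ∈ M, ee α (x ^ (2 ^ e')) ∈ C := fun x hx => (mem_N h).mp (hF1 x hx)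
  have hF7 : ∀ c ∈ C, ∃ x ∈ M, ee α (x ^ (2 ^ e')) = c := by
    intro c hc
    by_cases hc1 : c = 1
    · refine ⟨1, M.one_mem, ?_⟩
      rw [one_pow, ee_one, hc1]
    · have hne : ee α (z0 ^ (2 ^ e')) ≠ 1 := fun h1 => hz0 ((ee_eq_one_iff h _).mp h1)
      obtain ⟨k, hk⟩ := h.trans _ (hπC z0 hz0M) c hc hne hc1
      refine ⟨(ρ ^ k) z0, ABEL_aux_rho_pow_mem hρ k hz0M, ?_⟩
      rw [← map_pow, ee_rho_pow h, hk]
  -- the field model
  haveI : Fact (Nat.Prime 2) := ⟨Nat.prime_two⟩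
  have hn0 : n ≠ 0 := by have := h.two_le; omega
  haveI : Fintype (GaloisField 2 n) := Fintype.ofFinite _
  have hF : Fintype.card (GaloisField 2 n) = 2 ^ n := by
    rw [← Nat.card_eq_fintype_card]
    exact GaloisField.card 2 n hn0
  obtain ⟨θ, ζ, hθmul, hθsurj, hθinj, hθρ, hζ⟩ := FM h (GaloisField 2 n) hF
  have hFgt : 2 < Fintype.card (GaloisField 2 n) := by
    rw [hF]
    calc 2 < 2 ^ 2 := by norm_num
      _ ≤ 2 ^ n := Nat.pow_le_pow_right (by norm_num) h.two_le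
  have hθ1 : θ 1 = 0 := ABEL_aux_theta_one hθmul
  -- data for NFG on the group `↥M`
  have hp_mul : ∀ x y : ↥M, θ (ee α (((x * y : ↥M) : T) ^ (2 ^ e'))) =
      θ (ee α ((x : T) ^ (2 ^ e'))) + θ (ee α ((y : T) ^ (2 ^ e'))) := by
    intro x y
    rw [Subgroup.coe_mul, hF2 _ x.2 _ y.2, hθmul _ (hπC _ x.2) _ (hπC _ y.2)]
  have hp_surj : Function.Surjective (fun x : ↥M => θ (ee α ((x : T) ^ (2 ^ e')))) := by
    intro a
    obtain ⟨c, hcC, hca⟩ := hθsurj a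
    obtain ⟨x, hxM, hx⟩ := hF7 c hcC
    exact ⟨⟨x, hxM⟩, by show θ (ee α (x ^ (2 ^ e'))) = a; rw [hx, hca]⟩
  have hp_rho : ∀ x : ↥M, θ (ee α (((⟨ρ (x : T), hρ _ x.2⟩ : ↥M) : T) ^ (2 ^ e'))) =
      ζ * θ (ee α ((x : T) ^ (2 ^ e'))) := by
    intro x
    show θ (ee α ((ρ (x : T)) ^ (2 ^ e'))) = _
    rw [← map_pow, ee_rho h, hθρ _ (hπC _ x.2)]
  have hB1 : ∀ x x' y : ↥M, θ ⁅((x * x' : ↥M) : T), (y : T)⁆ =
      θ ⁅(x : T), (y : T)⁆ + θ ⁅(x' : T), (y : T)⁆ := by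
    intro x x' y
    have hc1 := hab _ x.2 _ y.2
    have hc2 := hab _ x'.2 _ y.2
    have e : ⁅((x * x' : ↥M) : T), (y : T)⁆ = ⁅(x : T), (y : T)⁆ * ⁅(x' : T), (y : T)⁆ := by
      rw [Subgroup.coe_mul]
      have hcm := h.comm_mul hc2 (x : T)⁻¹
      calc ⁅(x : T) * (x' : T), (y : T)⁆
          = (x : T) * (⁅(x' : T), (y : T)⁆ * (x : T)⁻¹) * ⁅(x : T), (y : T)⁆ := by
            simp only [commutatorElement_def]; group
        _ = (x : T) * ((x : T)⁻¹ * ⁅(x' : T), (y : T)⁆) * ⁅(x : T), (y : T)⁆ := by rw [hcm]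
        _ = ⁅(x' : T), (y : T)⁆ * ⁅(x : T), (y : T)⁆ := by group
        _ = ⁅(x : T), (y : T)⁆ * ⁅(x' : T), (y : T)⁆ := h.comm_mul hc2 _
    rw [e, hθmul _ hc1 _ hc2]
  have hB2 : ∀ x y y' : ↥M, θ ⁅(x : T), ((y * y' : ↥M) : T)⁆ =
      θ ⁅(x : T), (y : T)⁆ + θ ⁅(x : T), (y' : T)⁆ := by
    intro x y y'
    have hc1 := hab _ x.2 _ y.2
    have hc2 := hab _ x.2 _ y'.2
    have e : ⁅(x : T), ((y * y' : ↥M) : T)⁆ = ⁅(x : T), (y : T)⁆ * ⁅(x : T), (y' : T)⁆ := by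
      rw [Subgroup.coe_mul]
      have hcm := h.comm_mul hc2 (y : T)⁻¹
      calc ⁅(x : T), (y : T) * (y' : T)⁆
          = ⁅(x : T), (y : T)⁆ * ((y : T) * (⁅(x : T), (y' : T)⁆ * (y : T)⁻¹)) := by
            simp only [commutatorElement_def]; group
        _ = ⁅(x : T), (y : T)⁆ * ((y : T) * ((y : T)⁻¹ * ⁅(x : T), (y' : T)⁆)) := by rw [hcm]
        _ = ⁅(x : T), (y : T)⁆ * ⁅(x : T), (y' : T)⁆ := by group
    rw [e, hθmul _ hc1 _ hc2]
  have hBr : ∀ x y : ↥M, θ ⁅((⟨ρ (x : T), hρ _ x.2⟩ : ↥M) : T), ((⟨ρ (y : T), hρ _ y.2⟩ : ↥M) : T)⁆ =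
      ζ * θ ⁅(x : T), (y : T)⁆ := by
    intro x y
    show θ ⁅ρ (x : T), ρ (y : T)⁆ = _
    have e : ⁅ρ (x : T), ρ (y : T)⁆ = ρ ⁅(x : T), (y : T)⁆ := by
      simp only [commutatorElement_def, map_mul, map_inv]
    rw [e, hθρ _ (hab _ x.2 _ y.2)]
  have hk1 : ∀ x y : ↥M, θ (ee α ((x : T) ^ (2 ^ e'))) = 0 → θ ⁅(x : T), (y : T)⁆ = 0 := by
    intro x y hx
    have h1 := hθinj _ (hπC _ x.2) hx
    have h2 := hF6 _ x.2 h1 _ y.2
    have : ⁅(x : T), (y : T)⁆ = 1 := by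
      rw [commutatorElement_def, h2]
      group
    rw [this, hθ1]
  have hk2 : ∀ x y : ↥M, θ (ee α ((y : T) ^ (2 ^ e'))) = 0 → θ ⁅(x : T), (y : T)⁆ = 0 := by
    intro x y hy
    have h1 := hθinj _ (hπC _ y.2) hy
    have h2 := hF6 _ y.2 h1 _ x.2
    have : ⁅(x : T), (y : T)⁆ = 1 := by
      rw [commutatorElement_def, ← h2]
      group
    rw [this, hθ1]
  obtain ⟨c, hcB⟩ := NFG hFgt ζ hζ (fun x : ↥M => (⟨ρ (x : T), hρ _ x.2⟩ : ↥M))
    (fun x : ↥M => (⟨ρ (x : T), hρ _ x.2⟩ : ↥M))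
    (fun x : ↥M => θ (ee α ((x : T) ^ (2 ^ e')))) (fun x : ↥M => θ (ee α ((x : T) ^ (2 ^ e'))))
    hp_mul hp_mul hp_surj hp_surj hp_rho hp_rho
    (fun x y : ↥M => θ ⁅(x : T), (y : T)⁆) hB1 hB2 hBr hk1 hk2
  obtain ⟨t1, ht1⟩ := hp_surj 1
  have ht1' : θ (ee α ((t1 : T) ^ (2 ^ e'))) = 1 := ht1
  have hc0 : c = 0 := by
    have := hcB t1 t1
    simp only [commutatorElement_self, hθ1] at this
    rw [ht1'] at this
    simpa using this.symm
  intro x hx y hy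
  have h0 := hcB ⟨x, hx⟩ ⟨y, hy⟩
  rw [hc0, zero_mul] at h0
  have h1 : θ ⁅x, y⁆ = 0 := by simpa using h0
  have h2 := hθinj _ (hab x hx y hy) h1
  rw [commutatorElement_def] at h2
  calc x * y = (x * y * x⁻¹ * y⁻¹) * (y * x) := by group
    _ = y * x := by rw [h2, one_mul]

end Cfsg.Agent.S3161P
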