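import Mathlib
import Cfsg.Agent.Helper16.S3161Defs
import Cfsg.Agent.Helper25.S3161LAYER
import Cfsg.Agent.Helper25.S3161FM
import Cfsg.Agent.Helper3.S3161NFG

set_option autoImplicit false
set_option linter.style.haveILetI false
set_option linter.unusedSectionVars false

/-! Piece CENT3 of the board `s3161pieces`: in type (c) the centre is `C`. -/

namespace Cfsg.Agent.S3161P

open scoped commutatorElement

universe u

variable {T : Type u} [Group T] [Finite T] {α ρ : MulAut T} {C : Subgroup T} {n : ℕ}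

/-- `ee (ee t) = ((ee t)²)⁻¹` -/
theorem CENT3_aux_ee_ee (h : PData α ρ C n) (t : T) :
    ee α (ee α t) = (ee α t * ee α t)⁻¹ := by
  show (ee α t)⁻¹ * α (ee α t) = _
  rw [alpha_ee h t, mul_inv_rev]

/-- all `ee α t` lie in `N` when squares lie in `C` -/
theorem CENT3_aux_ee_mem (h : PData α ρ C n) (hq : ∀ x : T, x * x ∈ C) (t : T) :
    ee α t ∈ h.N := by
  rw [mem_N h, CENT3_aux_ee_ee h t]
  exact C.inv_mem (hq _)

/-- images of central elements under automorphisms are central -/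
theorem CENT3_aux_aut_central (φ : MulAut T) {z : T} (hz : ∀ x, z * x = x * z) (x : T) :
    φ z * x = x * φ z := by
  have h1 := congrArg φ (hz (φ⁻¹ x))
  rw [map_mul, map_mul, MulAut.apply_inv_self] at h1
  exact h1

/-- all commutators lie in `C` when squares lie in `C` (and `C` is central) -/
theorem CENT3_aux_comm_mem (h : PData α ρ C n) (hq : ∀ x : T, x * x ∈ C) (x y : T) :
    ⁅x, y⁆ ∈ C := by
  have hx : (x * x)⁻¹ ∈ C := C.inv_mem (hq x)
  have hy : (y * y)⁻¹ ∈ C := C.inv_mem (hq y)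
  have hxy : (x * y) * (x * y) ∈ C := hq (x * y)
  have hc := h.comm_mul hx y
  have e : ⁅x, y⁆ = (x * y) * (x * y) * (y⁻¹ * ((x * x)⁻¹ * y)) * (y * y)⁻¹ := by
    rw [commutatorElement_def]
    group
  rw [e, hc]
  have e2 : y⁻¹ * (y * (x * x)⁻¹) = (x * x)⁻¹ := by group
  rw [e2]
  exact C.mul_mem (C.mul_mem hxy hx) hy

/-- `d₂ = ee ∘ ee` is multiplicative -/
theorem CENT3_aux_d2_mul (hT : IsPGroup 2 T) (h : PData α ρ C n) (hq : ∀ x : T, x * x ∈ C)
    (s t : T) : ee α (ee α (s * t)) = ee α (ee α s) * ee α (ee α t) := by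
  have hs := CENT3_aux_ee_mem h hq s
  have h1 : ee α (s * t) = ee α s * (⁅(ee α s)⁻¹, t⁻¹⁆ * ee α t) := by
    simp only [ee, map_mul, commutatorElement_def]
    group
  have hcc : ⁅(ee α s)⁻¹, t⁻¹⁆ ∈ C := N_comm hT h (h.N.inv_mem hs) t⁻¹
  rw [h1, ee_mul_of_mem h ((mem_N h).mp hs), ee_mul_of_mem h ((mem_N h).mp (C_le_N h hcc)),
    (ee_eq_one_iff h _).mpr hcc, one_mul]

theorem CENT3_aux_theta_one {F : Type*} [Field F] {θ : T → F}
    (hθmul : ∀ a ∈ C, ∀ b ∈ C, θ (a * b) = θ a + θ b) : θ 1 = 0 := by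
  have := hθmul 1 C.one_mem 1 C.one_mem
  rw [mul_one] at this
  have h2 : θ 1 + θ 1 - θ 1 = θ 1 - θ 1 := by rw [← this]
  simpa using h2

/-- CENT3: in type (c) the centre is `C`. -/
theorem CENT3 (hT : IsPGroup 2 T) (h : PData α ρ C n) (hc : TypeC T C n) :
    ∀ z : T, (∀ x, z * x = x * z) → z ∈ C := by
  obtain ⟨⟨x0, y0, hxy0⟩, hq, hcard⟩ := hc
  intro z hz
  by_contra hzC
  have hCtop : C ≠ ⊤ := by
    intro hC
    apply hxy0
    have : x0 ∈ C := by rw [hC]; trivial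
    exact h.comm_mul this y0
  -- a central element of `N ∖ C`
  have hz' : ∃ z' ∈ h.N, z' ∉ C ∧ ∀ x, z' * x = x * z' := by
    by_cases hzN : z ∈ h.N
    · exact ⟨z, hzN, hzC, hz⟩
    · refine ⟨ee α z, CENT3_aux_ee_mem h hq z, fun hmem => hzN ((mem_N h).mpr hmem), ?_⟩
      intro x
      have h1 := CENT3_aux_aut_central α hz
      have h2 : ∀ x, z⁻¹ * x = x * z⁻¹ := by
        intro x
        have := hz x
        calc z⁻¹ * x = z⁻¹ * (x * z) * z⁻¹ := by group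
          _ = z⁻¹ * (z * x) * z⁻¹ := by rw [this]
          _ = x * z⁻¹ := by group
      show z⁻¹ * α z * x = x * (z⁻¹ * α z)
      rw [mul_assoc, h1 x, ← mul_assoc, h2 x, mul_assoc]
  obtain ⟨z', hz'N, hz'C, hz'c⟩ := hz'
  -- `N` is central
  have hNcent : ∀ y ∈ h.N, ∀ x, y * x = x * y := by
    intro y hy x
    by_cases hyC : y ∈ C
    · exact h.comm_mul hyC x
    · obtain ⟨k, c, hcC, hk⟩ := N_trans h hz'N hy hz'C hyC
      rw [hk, mul_assoc, h.comm_mul hcC x, ← mul_assoc,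
        CENT3_aux_aut_central (ρ ^ k) hz'c x, mul_assoc]
  -- the hom `d₂`
  let f : T →* T := MonoidHom.mk' (fun t => ee α (ee α t)) (CENT3_aux_d2_mul hT h hq)
  have hf : ∀ t, f t = ee α (ee α t) := fun t => rfl
  have hker : f.ker = h.N := by
    ext t
    rw [MonoidHom.mem_ker, hf, ee_eq_one_iff h, mem_N h]
  have hrange : f.range ≤ C := by
    rintro y ⟨t, rfl⟩
    rw [hf]
    exact (mem_N h).mp (CENT3_aux_ee_mem h hq t)
  have hrange_eq : f.range = C := by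
    haveI : Finite ↥C := inferInstance
    apply Subgroup.eq_of_le_of_card_ge hrange
    have hcard1 : Nat.card f.ker * f.ker.index = Nat.card T := Subgroup.card_mul_index _
    rw [Subgroup.index_ker, hker, N_card hT h hCtop, hcard] at hcard1
    rw [h.card]
    have hpos : 0 < 2 ^ n * 2 ^ n := by positivity
    have : 2 ^ n * 2 ^ n * Nat.card ↥f.range = 2 ^ n * 2 ^ n * 2 ^ n := hcard1
    exact le_of_eq (Nat.eq_of_mul_eq_mul_left hpos this).symm
  -- the field model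
  haveI : Fact (Nat.Prime 2) := ⟨Nat.prime_two⟩
  have hn0 : n ≠ 0 := by have := h.two_le; omega
  haveI : Fintype (GaloisField 2 n) := Fintype.ofFinite _
  have hF : Fintype.card (GaloisField 2 n) = 2 ^ n := by
    rw [← Nat.card_eq_fintype_card]
    exact GaloisField.card 2 n hn0
  obtain ⟨θ, ζ, hθmul, hθsurj, hθinj, hθρ, hζ⟩ := FM h (GaloisField 2 n) hF
  have hF2 : 2 < Fintype.card (GaloisField 2 n) := by
    rw [hF]
    calc 2 < 2 ^ 2 := by norm_num
      _ ≤ 2 ^ n := Nat.pow_le_pow_right (by norm_num) h.two_le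
  have hθ1 : θ 1 = 0 := CENT3_aux_theta_one hθmul
  have hfC : ∀ t, f t ∈ C := fun t => hrange ⟨t, rfl⟩
  have hp_mul : ∀ x y : T, θ (f (x * y)) = θ (f x) + θ (f y) := by
    intro x y
    rw [map_mul, hθmul _ (hfC x) _ (hfC y)]
  have hp_surj : Function.Surjective (fun t : T => θ (f t)) := by
    intro a
    obtain ⟨c, hcC, hca⟩ := hθsurj a
    have : c ∈ f.range := by rw [hrange_eq]; exact hcC
    obtain ⟨t, rfl⟩ := this
    exact ⟨t, hca⟩
  have hp_rho : ∀ x : T, θ (f (ρ x)) = ζ * θ (f x) := by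
    intro x
    rw [hf, ee_rho h, ee_rho h, ← hf, hθρ _ (hfC x)]
  have hB1 : ∀ x x' y : T, θ ⁅x * x', y⁆ = θ ⁅x, y⁆ + θ ⁅x', y⁆ := by
    intro x x' y
    have hc1 := CENT3_aux_comm_mem h hq x y
    have hc2 := CENT3_aux_comm_mem h hq x' y
    have e : ⁅x * x', y⁆ = ⁅x, y⁆ * ⁅x', y⁆ := by
      have hcm := h.comm_mul hc2 x⁻¹
      calc ⁅x * x', y⁆ = x * (⁅x', y⁆ * x⁻¹) * ⁅x, y⁆ := by
            simp only [commutatorElement_def]; group
        _ = x * (x⁻¹ * ⁅x', y⁆) * ⁅x, y⁆ := by rw [hcm]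
        _ = ⁅x', y⁆ * ⁅x, y⁆ := by group
        _ = ⁅x, y⁆ * ⁅x', y⁆ := h.comm_mul hc2 _
    rw [e, hθmul _ hc1 _ hc2]
  have hB2 : ∀ x y y' : T, θ ⁅x, y * y'⁆ = θ ⁅x, y⁆ + θ ⁅x, y'⁆ := by
    intro x y y'
    have hc1 := CENT3_aux_comm_mem h hq x y
    have hc2 := CENT3_aux_comm_mem h hq x y'
    have e : ⁅x, y * y'⁆ = ⁅x, y⁆ * ⁅x, y'⁆ := by
      have hcm := h.comm_mul hc2 y⁻¹
      calc ⁅x, y * y'⁆ = ⁅x, y⁆ * (y * (⁅x, y'⁆ * y⁻¹)) := by
            simp only [commutatorElement_def]; group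
        _ = ⁅x, y⁆ * (y * (y⁻¹ * ⁅x, y'⁆)) := by rw [hcm]
        _ = ⁅x, y⁆ * ⁅x, y'⁆ := by group
    rw [e, hθmul _ hc1 _ hc2]
  have hBr : ∀ x y : T, θ ⁅ρ x, ρ y⁆ = ζ * θ ⁅x, y⁆ := by
    intro x y
    have e : ⁅ρ x, ρ y⁆ = ρ ⁅x, y⁆ := by
      simp only [commutatorElement_def, map_mul, map_inv]
    rw [e, hθρ _ (CENT3_aux_comm_mem h hq x y)]
  have hmemN : ∀ x : T, θ (f x) = 0 → x ∈ h.N := by
    intro x hx
    have := hθinj _ (hfC x) hx
    rw [← hker]
    exact this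
  have hk1 : ∀ x y : T, θ (f x) = 0 → θ ⁅x, y⁆ = 0 := by
    intro x y hx
    have hxN := hmemN x hx
    have : ⁅x, y⁆ = 1 := by
      rw [commutatorElement_def, hNcent x hxN y]
      group
    rw [this, hθ1]
  have hk2 : ∀ x y : T, θ (f y) = 0 → θ ⁅x, y⁆ = 0 := by
    intro x y hy
    have hyN := hmemN y hy
    have : ⁅x, y⁆ = 1 := by
      rw [commutatorElement_def, ← hNcent y hyN x]
      group
    rw [this, hθ1]
  obtain ⟨c, hcB⟩ := NFG hF2 ζ hζ (fun x : T => ρ x) (fun x : T => ρ x)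
    (fun t : T => θ (f t)) (fun t : T => θ (f t)) hp_mul hp_mul hp_surj hp_surj hp_rho hp_rho
    (fun x y : T => θ ⁅x, y⁆) hB1 hB2 hBr hk1 hk2
  -- alternating, so `c = 0`
  obtain ⟨t1, ht1⟩ := hp_surj 1
  have hc0 : c = 0 := by
    have := hcB t1 t1
    simp only [commutatorElement_self, hθ1] at this
    have ht1' : θ (f t1) = 1 := ht1
    rw [ht1'] at this
    simpa using this.symm
  apply hxy0
  have h0 := hcB x0 y0
  rw [hc0, zero_mul] at h0
  have h1 : θ ⁅x0, y0⁆ = 0 := by simpa using h0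
  have h2 := hθinj _ (CENT3_aux_comm_mem h hq x0 y0) h1
  rw [commutatorElement_def] at h2
  calc x0 * y0 = (x0 * y0 * x0⁻¹ * y0⁻¹) * (y0 * x0) := by group
    _ = y0 * x0 := by rw [h2, one_mul]

end Cfsg.Agent.S3161P
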