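import Mathlib
import Cfsg.Agent.Helper16.S3161Defs
import Cfsg.Agent.Helper19.S3161QUOT
import Cfsg.Agent.Helper25.S3161LAYER

set_option autoImplicit false
set_option linter.style.haveILetI false

/-! Piece F0 of the board `s3161pieces`: if `T ≠ N` then every involution of `N` lies in `C`. -/

namespace Cfsg.Agent.S3161P

open scoped commutatorElement

universe u

variable {T : Type u} [Group T] [Finite T] {α ρ : MulAut T} {C : Subgroup T} {n : ℕ}

/-- if `T ≠ N` there is `e ∈ N ∖ C` with `e² ≠ 1` (namely `e = ee α t` for `t` in the third layer). -/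
theorem F0_aux_exists (hT : IsPGroup 2 T) (h : PData α ρ C n) (hne : h.N ≠ ⊤) :
    ∃ e ∈ h.N, e ∉ C ∧ e * e ≠ 1 := by
  haveI := h.normal
  have hCN := C_le_N h
  have hCtop : C ≠ ⊤ := by
    intro hC
    apply hne
    rw [eq_top_iff, ← hC]
    exact hCN
  obtain ⟨α', ρ', h', hα', -⟩ := QUOT hT h hCtop
  have hT' : IsPGroup 2 (T ⧸ C) := hT.to_quotient C
  have hlift : ∀ s : T, (QuotientGroup.mk s : T ⧸ C) ∈ h.N.map (QuotientGroup.mk' C) → s ∈ h.N := by
    intro s hs
    obtain ⟨y, hy, hys⟩ := hs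
    have h1 : y⁻¹ * s ∈ C := by
      rw [← QuotientGroup.eq]
      exact hys
    have h2 : s = y * (y⁻¹ * s) := by group
    rw [h2]
    exact h.N.mul_mem hy (hCN h1)
  have hC'top : h.N.map (QuotientGroup.mk' C) ≠ ⊤ := by
    intro htop
    apply hne
    rw [eq_top_iff]
    intro t _
    apply hlift
    rw [htop]
    trivial
  have hcard' := h'.card
  have hnt : Nontrivial ↥(h.N.map (QuotientGroup.mk' C)) := by
    rw [← Finite.one_lt_card_iff_nontrivial, hcard']
    exact Nat.one_lt_two_pow (by have := h.two_le; omega)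
  obtain ⟨c, hc⟩ := exists_ne (1 : ↥(h.N.map (QuotientGroup.mk' C)))
  obtain ⟨xb, -, hxb⟩ := ee_surj hT' h' hC'top c.1 c.2
  obtain ⟨t, rfl⟩ := QuotientGroup.mk_surjective xb
  have hee : ee α' (QuotientGroup.mk t : T ⧸ C) = QuotientGroup.mk (ee α t) := by
    simp only [ee, hα', QuotientGroup.mk_mul, QuotientGroup.mk_inv]
  rw [hee] at hxb
  have heN : ee α t ∈ h.N := by
    apply hlift
    rw [hxb]
    exact c.2
  have heC : ee α t ∉ C := by
    intro hmem
    apply hc
    have h1 : (QuotientGroup.mk (ee α t) : T ⧸ C) = 1 := (QuotientGroup.eq_one_iff _).mpr hmem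
    apply Subtype.ext
    rw [← hxb, h1]
    rfl
  refine ⟨ee α t, heN, heC, ?_⟩
  intro hsq
  have h1 : α (ee α t) = (ee α t)⁻¹ := alpha_ee h t
  have h2 : (ee α t)⁻¹ = ee α t := inv_eq_of_mul_eq_one_left hsq
  rw [h2] at h1
  exact heC ((h.fix _).mp h1)

/-- F0: if `T ≠ N` then every involution of `N` lies in `C`. -/
theorem F0 (hT : IsPGroup 2 T) (h : PData α ρ C n) (hne : h.N ≠ ⊤) :
    ∀ x ∈ h.N, x * x = 1 → x ∈ C := by
  intro x hx hxx
  by_contra hxC
  obtain ⟨e, heN, heC, hee⟩ := F0_aux_exists hT h hne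
  obtain ⟨k, c, hcC, hk⟩ := N_trans h hx heN hxC heC
  apply hee
  rw [hk]
  have hc2 := h.exp c hcC
  have hcomm := h.comm_mul hcC ((ρ ^ k) x)
  calc (ρ ^ k) x * c * ((ρ ^ k) x * c) = (ρ ^ k) x * (c * (ρ ^ k) x) * c := by group
    _ = (ρ ^ k) x * ((ρ ^ k) x * c) * c := by rw [hcomm]
    _ = ((ρ ^ k) x * (ρ ^ k) x) * (c * c) := by group
    _ = (ρ ^ k) (x * x) * (c * c) := by rw [map_mul]
    _ = 1 := by rw [hxx, hc2, map_one, mul_one]

end Cfsg.Agent.S3161P
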