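import Mathlib
import Cfsg.Agent.Helper16.S3161Defs

set_option autoImplicit false

/-! Piece NAB of the board `s3161pieces`: squares in `C` and `|T| = q³` force `T` non-abelian. -/

namespace Cfsg.Agent.S3161P

open scoped commutatorElement

universe u

variable {T : Type u} [Group T] [Finite T] {α ρ : MulAut T} {C : Subgroup T} {n : ℕ}

/-- NAB: if all squares lie in `C` and `|T| = q³` then `T` is not abelian. -/
theorem NAB (h : PData α ρ C n) (hq : ∀ x : T, x * x ∈ C)
    (hc : Nat.card T = 2 ^ n * 2 ^ n * 2 ^ n) : ∃ x y : T, x * y ≠ y * x := by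
  by_contra hne
  have hmc : ∀ a b : T, a * b = b * a := by
    intro a b
    by_contra hab
    exact hne ⟨a, b, hab⟩
  -- the homomorphism `x ↦ x⁻¹ α x`
  let f : T →* T := MonoidHom.mk' (fun x => x⁻¹ * α x) (by
    intro a b
    simp only [map_mul, mul_inv_rev]
    rw [hmc b⁻¹ a⁻¹, mul_assoc, mul_assoc, ← mul_assoc b⁻¹ (α a) (α b), hmc b⁻¹ (α a), mul_assoc])
  have hf : ∀ x, f x = x⁻¹ * α x := fun x => rfl
  -- kernel is `C`
  have hker : f.ker = C := by
    ext x
    rw [MonoidHom.mem_ker, hf, ← h.fix x]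
    constructor
    · intro hx
      have : α x = x * (x⁻¹ * α x) := by group
      rw [this, hx, mul_one]
    · intro hx
      rw [hx, inv_mul_cancel]
  -- the image lies in `C`
  have hsq : ∀ x, f x * f x = 1 := by
    intro x
    rw [hf]
    have h1 : α (x * x) = x * x := (h.fix _).mpr (hq x)
    rw [map_mul] at h1
    calc x⁻¹ * α x * (x⁻¹ * α x) = x⁻¹ * x⁻¹ * (α x * α x) := by
          rw [mul_assoc, mul_assoc, ← mul_assoc (α x) x⁻¹ (α x), hmc (α x) x⁻¹, mul_assoc]
      _ = 1 := by rw [h1]; group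
  have hrange : f.range ≤ C := by
    rintro y ⟨x, rfl⟩
    rw [← h.fix]
    have h2 : f x = (f x)⁻¹ := eq_inv_of_mul_eq_one_left (hsq x)
    change α (x⁻¹ * α x) = f x
    rw [map_mul, map_inv, h.alpha_sq, hmc, h2, hf, mul_inv_rev, inv_inv]
    exact hmc _ _
  have hcard1 : Nat.card f.ker * f.ker.index = Nat.card T := Subgroup.card_mul_index _
  rw [Subgroup.index_ker, hker, h.card, hc] at hcard1
  have hle : Nat.card f.range ≤ Nat.card C := Subgroup.card_le_of_le hrange
  rw [h.card] at hle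
  have h4 : 2 ^ 2 ≤ 2 ^ n := Nat.pow_le_pow_right (by norm_num) h.two_le
  have hpos : 0 < 2 ^ n := by positivity
  have h5 : 2 ^ n * 2 ^ n * 2 ^ n ≤ 2 ^ n * 2 ^ n := by
    rw [← hcard1]
    exact Nat.mul_le_mul_left _ hle
  nlinarith

end Cfsg.Agent.S3161P
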