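import Mathlib
import Cfsg.Prelude.Def_ClassicalGeometry
import Cfsg.Agent.Helper17.S2482GDefs

/-! S2482 chapter (G), piece BLOCKDIAG (helper20): an equivariant isomorphism of sums
(nilpotent + unit parts) is block diagonal. -/

set_option autoImplicit false

namespace Cfsg.Agent.S2482P

open Polynomial Cfsg.Agent.Helper2.SympInvol Cfsg.Agent.S5955P Cfsg.Agent.S5961P Cfsg.Agent.S2676P
  Cfsg.Agent.S2478P Cfsg.Agent.S2481P

universe u

variable {F : Type u} [Field F]

namespace BLOCKDIAG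

theorem intertwine_pow {V W : Type*} [AddCommGroup V] [Module F V] [AddCommGroup W] [Module F W]
    (a : Module.End F V) (b : Module.End F W) (T : V →ₗ[F] W) (hT : ∀ v, b (T v) = T (a v))
    (k : ℕ) (v : V) : (b ^ k) (T v) = T ((a ^ k) v) := by
  induction k generalizing v with
  | zero => simp
  | succ k ih =>
    rw [pow_succ, pow_succ, Module.End.mul_apply, Module.End.mul_apply, hT, ih]

theorem zero_of_nil_unit {V W : Type*} [AddCommGroup V] [Module F V] [AddCommGroup W] [Module F W]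
    (a : Module.End F V) (b : Module.End F W) (T : V →ₗ[F] W) (hT : ∀ v, b (T v) = T (a v))
    (ha : IsNilpotent a) (hb : IsUnit b) (v : V) : T v = 0 := by
  obtain ⟨k, hk⟩ := ha
  obtain ⟨u, hu⟩ := hb.pow k
  have h1 := intertwine_pow a b T hT k v
  rw [hk, LinearMap.zero_apply, map_zero] at h1
  have h2 : ((u⁻¹ : (Module.End F W)ˣ) : Module.End F W) ((b ^ k) (T v)) = T v := by
    rw [← hu, ← Module.End.mul_apply, Units.inv_mul, Module.End.one_apply]
  rw [← h2, h1, map_zero]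

theorem zero_of_unit_nil {V W : Type*} [AddCommGroup V] [Module F V] [AddCommGroup W] [Module F W]
    (a : Module.End F V) (b : Module.End F W) (T : V →ₗ[F] W) (hT : ∀ v, b (T v) = T (a v))
    (ha : IsUnit a) (hb : IsNilpotent b) (v : V) : T v = 0 := by
  obtain ⟨k, hk⟩ := hb
  obtain ⟨u, hu⟩ := ha.pow k
  have h1 := intertwine_pow a b T hT k (((u⁻¹ : (Module.End F V)ˣ) : Module.End F V) v)
  rw [hk, LinearMap.zero_apply] at h1
  have h2 : (a ^ k) (((u⁻¹ : (Module.End F V)ˣ) : Module.End F V) v) = v := by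
    rw [← hu, ← Module.End.mul_apply, Units.mul_inv, Module.End.one_apply]
  rw [h2] at h1
  exact h1.symm

theorem blockdiag {V₁ V₂ W₁ W₂ : Type*} [AddCommGroup V₁] [Module F V₁] [AddCommGroup V₂]
    [Module F V₂] [AddCommGroup W₁] [Module F W₁] [AddCommGroup W₂] [Module F W₂]
    (a₁ : Module.End F V₁) (a₂ : Module.End F V₂) (b₁ : Module.End F W₁) (b₂ : Module.End F W₂)
    (ψ : (V₁ × V₂) →ₗ[F] (W₁ × W₂))
    (hψ : ∀ v w, ψ (a₁ v, a₂ w) = (b₁ (ψ (v, w)).1, b₂ (ψ (v, w)).2))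
    (hn : IsNilpotent a₁) (hn' : IsNilpotent b₁) (hu : IsUnit a₂) (hu' : IsUnit b₂) :
    (∀ v, (ψ (v, 0)).2 = 0) ∧ (∀ w, (ψ (0, w)).1 = 0) := by
  constructor
  · intro v
    have := zero_of_nil_unit a₁ b₂ ((LinearMap.snd F W₁ W₂).comp (ψ.comp (LinearMap.inl F V₁ V₂)))
      (by
        intro v
        simp only [LinearMap.comp_apply, LinearMap.inl_apply, LinearMap.snd_apply]
        have := hψ v 0
        rw [map_zero] at this
        rw [this]) hn hu' v
    simpa using this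
  · intro w
    have := zero_of_unit_nil a₂ b₁ ((LinearMap.fst F W₁ W₂).comp (ψ.comp (LinearMap.inr F V₁ V₂)))
      (by
        intro w
        simp only [LinearMap.comp_apply, LinearMap.inr_apply, LinearMap.fst_apply]
        have := hψ 0 w
        rw [map_zero] at this
        rw [this]) hu hn' w
    simpa using this

theorem linIso_of_sum (S S' S₁ S₂ S₁' S₂' : SpSpace F) (h : S.IsSum S₁ S₂) (h' : S'.IsSum S₁' S₂')
    (c : F) (hn : IsNilpotent (S₁.g - algebraMap F (Module.End F S₁.V) c))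
    (hn' : IsNilpotent (S₁'.g - algebraMap F (Module.End F S₁'.V) c))
    (hu : IsUnit (S₂.g - algebraMap F (Module.End F S₂.V) c))
    (hu' : IsUnit (S₂'.g - algebraMap F (Module.End F S₂'.V) c)) (hx : S.LinIso S') :
    S₁.LinIso S₁' ∧ S₂.LinIso S₂' := by
  obtain ⟨e, -, hg⟩ := h
  obtain ⟨e', -, hg'⟩ := h'
  obtain ⟨x, hxg⟩ := hx
  let ψ : (S₁.V × S₂.V) ≃ₗ[F] (S₁'.V × S₂'.V) := e.symm.trans (x.trans e')
  -- equivariance of `ψ`
  have hψg : ∀ v w, ψ (S₁.g v, S₂.g w) = (S₁'.g (ψ (v, w)).1, S₂'.g (ψ (v, w)).2) := by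
    intro v w
    have h1 := hg (e.symm (v, w))
    rw [LinearEquiv.apply_symm_apply] at h1
    have h2 : e.symm (S₁.g v, S₂.g w) = S.g (e.symm (v, w)) := by
      rw [LinearEquiv.symm_apply_eq, h1]
    show e' (x (e.symm (S₁.g v, S₂.g w))) = _
    rw [h2, hxg, hg']
    rfl
  have hψg' : ∀ v w, ψ.symm (S₁'.g v, S₂'.g w) =
      (S₁.g (ψ.symm (v, w)).1, S₂.g (ψ.symm (v, w)).2) := by
    intro v w
    rw [LinearEquiv.symm_apply_eq, hψg]
    simp
  -- the same for `g - c`
  have hψ : ∀ v w, ψ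
        ((S₁.g - algebraMap F (Module.End F S₁.V) c) v,
          (S₂.g - algebraMap F (Module.End F S₂.V) c) w) =
      ((S₁'.g - algebraMap F (Module.End F S₁'.V) c) (ψ (v, w)).1,
        (S₂'.g - algebraMap F (Module.End F S₂'.V) c) (ψ (v, w)).2) := by
    intro v w
    simp only [LinearMap.sub_apply, Module.algebraMap_end_apply]
    have h1 : ((S₁.g v - c • v, S₂.g w - c • w) : S₁.V × S₂.V) =
        (S₁.g v, S₂.g w) - c • (v, w) := by
      ext <;> simp
    rw [h1, map_sub, map_smul, hψg]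
    ext <;> simp
  have hψ' : ∀ v w, ψ.symm
        ((S₁'.g - algebraMap F (Module.End F S₁'.V) c) v,
          (S₂'.g - algebraMap F (Module.End F S₂'.V) c) w) =
      ((S₁.g - algebraMap F (Module.End F S₁.V) c) (ψ.symm (v, w)).1,
        (S₂.g - algebraMap F (Module.End F S₂.V) c) (ψ.symm (v, w)).2) := by
    intro v w
    simp only [LinearMap.sub_apply, Module.algebraMap_end_apply]
    have h1 : ((S₁'.g v - c • v, S₂'.g w - c • w) : S₁'.V × S₂'.V) =
        (S₁'.g v, S₂'.g w) - c • (v, w) := by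
      ext <;> simp
    rw [h1, map_sub, map_smul, hψg']
    ext <;> simp
  obtain ⟨hA, hB⟩ := blockdiag _ _ _ _ (ψ : (S₁.V × S₂.V) →ₗ[F] (S₁'.V × S₂'.V)) hψ hn hn' hu hu'
  obtain ⟨hA', hB'⟩ := blockdiag _ _ _ _ (ψ.symm : (S₁'.V × S₂'.V) →ₗ[F] (S₁.V × S₂.V)) hψ'
    hn' hn hu' hu
  simp only [LinearEquiv.coe_coe] at hA hB hA' hB'
  have e1 : ∀ v : S₁.V, ψ (v, 0) = ((ψ (v, 0)).1, 0) := fun v => Prod.ext rfl (hA v)
  have e2 : ∀ w : S₂.V, ψ (0, w) = (0, (ψ (0, w)).2) := fun w => Prod.ext (hB w) rfl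
  have e1' : ∀ v : S₁'.V, ψ.symm (v, 0) = ((ψ.symm (v, 0)).1, 0) := fun v => Prod.ext rfl (hA' v)
  have e2' : ∀ w : S₂'.V, ψ.symm (0, w) = (0, (ψ.symm (0, w)).2) := fun w => Prod.ext (hB' w) rfl
  constructor
  · refine ⟨LinearEquiv.ofLinearMap
      ((LinearMap.fst F S₁'.V S₂'.V).comp
        ((ψ : (S₁.V × S₂.V) →ₗ[F] (S₁'.V × S₂'.V)).comp (LinearMap.inl F S₁.V S₂.V)))
      ((LinearMap.fst F S₁.V S₂.V).comp
        ((ψ.symm : (S₁'.V × S₂'.V) →ₗ[F] (S₁.V × S₂.V)).comp (LinearMap.inl F S₁'.V S₂'.V)))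
      ?_ ?_, ?_⟩
    · apply LinearMap.ext
      intro v
      simp only [LinearMap.comp_apply, LinearMap.inl_apply, LinearMap.fst_apply,
        LinearEquiv.coe_coe, LinearMap.id_apply]
      rw [← e1', LinearEquiv.apply_symm_apply]
    · apply LinearMap.ext
      intro v
      simp only [LinearMap.comp_apply, LinearMap.inl_apply, LinearMap.fst_apply,
        LinearEquiv.coe_coe, LinearMap.id_apply]
      rw [← e1, LinearEquiv.symm_apply_apply]
    · intro v
      simp only [LinearEquiv.coe_ofLinearMap, LinearMap.comp_apply, LinearMap.inl_apply,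
        LinearMap.fst_apply, LinearEquiv.coe_coe]
      have := hψg v 0
      rw [map_zero] at this
      rw [this]
  · refine ⟨LinearEquiv.ofLinearMap
      ((LinearMap.snd F S₁'.V S₂'.V).comp
        ((ψ : (S₁.V × S₂.V) →ₗ[F] (S₁'.V × S₂'.V)).comp (LinearMap.inr F S₁.V S₂.V)))
      ((LinearMap.snd F S₁.V S₂.V).comp
        ((ψ.symm : (S₁'.V × S₂'.V) →ₗ[F] (S₁.V × S₂.V)).comp (LinearMap.inr F S₁'.V S₂'.V)))
      ?_ ?_, ?_⟩
    · apply LinearMap.ext
      intro v
      simp only [LinearMap.comp_apply, LinearMap.inr_apply, LinearMap.snd_apply,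
        LinearEquiv.coe_coe, LinearMap.id_apply]
      rw [← e2', LinearEquiv.apply_symm_apply]
    · apply LinearMap.ext
      intro v
      simp only [LinearMap.comp_apply, LinearMap.inr_apply, LinearMap.snd_apply,
        LinearEquiv.coe_coe, LinearMap.id_apply]
      rw [← e2, LinearEquiv.symm_apply_apply]
    · intro v
      simp only [LinearEquiv.coe_ofLinearMap, LinearMap.comp_apply, LinearMap.inr_apply,
        LinearMap.snd_apply, LinearEquiv.coe_coe]
      have := hψg 0 v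
      rw [map_zero] at this
      rw [this]

end BLOCKDIAG

end Cfsg.Agent.S2482P
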