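import Mathlib
import Cfsg.Agent.Helper29.S2560CDefs
import Cfsg.Agent.Helper26.S2558COUNTSO
import Cfsg.Agent.Helper9.S2560WNSCARD

/-! S2560 chapter (C), piece CARDM (helper20): `#SOm F r N = AG q (Wns q) r N`
(twin of helper26's COUNTSO; for odd `m` the second sign is forced `false`). -/

set_option autoImplicit false

namespace Cfsg.Agent.S2560P

open Polynomial Cfsg.Agent.S2478P Cfsg.Agent.S2481P Cfsg.Agent.S2482P Cfsg.Agent.S2558P

universe u

namespace CARDM

section defs

variable {F : Type u} [Field F]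

/-- the local condition on the entry `h` with signs `s` at the index `m` -/
def GoodM (m : ℕ) (h : F[X]) (s : Bool × Bool) : Prop :=
  COUNTSO.Good m h s ∧ (Odd m → ¬ (X + 1 : F[X]) ∣ h)

theorem SOm_eq (r N : ℕ) : SOm F r N = CGEN.SS (GoodM (F := F)) r N := by
  ext x
  constructor
  · rintro ⟨hSO, hm⟩
    rw [COUNTSO.SO_eq] at hSO
    exact ⟨hSO.1, fun m => ⟨hSO.2 m, hm m⟩⟩
  · rintro ⟨hT, hg⟩
    refine ⟨?_, fun m => (hg m).2⟩
    rw [COUNTSO.SO_eq]
    exact ⟨hT, fun m => (hg m).1⟩

theorem goodM_one (m : ℕ) (s : Bool × Bool) : GoodM m (1 : F[X]) s ↔ s = (false, false) := by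
  constructor
  · rintro ⟨h, -⟩
    exact (COUNTSO.good_one m s).1 h
  · intro h
    exact ⟨(COUNTSO.good_one m s).2 h, fun _ => COUNTSSP.not_X_add_one_dvd_one⟩

end defs

section count

variable {F : Type u} [Field F] [Fintype F]

theorem card_Entry (hodd : Odd (Fintype.card F)) (m d : ℕ) :
    Nat.card (CGEN.Entry (GoodM (F := F)) m d) =
      CGEN.EO (Fintype.card F) (Wns (Fintype.card F)) m d := by
  by_cases hm : Even m
  · have hmo : ¬ Odd m := Nat.not_odd_iff_even.2 hm
    have h1 : Nat.card (CGEN.Entry (GoodM (F := F)) m d) =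
        Nat.card (CGEN.Entry (COUNTSO.Good (F := F)) m d) :=
      Nat.card_congr (Equiv.subtypeEquivRight fun e =>
        ⟨fun h => ⟨h.1, h.2.1⟩, fun h => ⟨h.1, h.2, fun ho => absurd ho hmo⟩⟩)
    rw [h1, COUNTSO.card_Entry hodd m d]
    unfold CGEN.EO
    rw [if_pos hm, if_pos hm]
  · have hmo : Odd m := Nat.not_even_iff_odd.1 hm
    unfold CGEN.EO
    rw [if_neg hm, ← WNSCARD.card_minus hodd d]
    refine Nat.card_congr
      { toFun := fun e => ⟨(e.1.1, e.1.2.1), e.2.1.1, e.2.1.2.1, e.2.1.2.2, e.2.2.1.1,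
          e.2.2.2 hmo, fun h => (e.2.2.1.2.2.1 h).2⟩
        invFun := fun x => ⟨(x.1.1, (x.1.2, false)), ⟨x.2.1, x.2.2.1, x.2.2.2.1⟩,
          ⟨x.2.2.2.2.1, fun he => absurd he hm, fun h => ⟨hmo, x.2.2.2.2.2.2 h⟩,
            fun h => by simp at h⟩, fun _ => x.2.2.2.2.2.1⟩
        left_inv := ?_
        right_inv := ?_ }
    · intro e
      apply Subtype.ext
      apply Prod.ext
      · rfl
      · have h2 : e.1.2.2 = false := by
          by_contra h
          exact e.2.2.2 hmo (e.2.2.1.2.2.2 (by simpa using h)).2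
        apply Prod.ext
        · rfl
        · exact h2.symm
    · intro x
      rfl

end count

end CARDM

section count

variable {F : Type u} [Field F] [Fintype F]

theorem CARDM.card_SOm (hodd : Odd (Fintype.card F)) (r N : ℕ) :
    (SOm F r N).Finite ∧
      Nat.card (SOm F r N) = CGEN.AG (Fintype.card F) (Wns (Fintype.card F)) r N := by
  rw [CARDM.SOm_eq, ← CGEN.AS_eq_AG]
  exact CGEN.card_SS (false, false) CARDM.goodM_one _ (CARDM.card_Entry hodd) r N

end count

end Cfsg.Agent.S2560P
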