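import Mathlib
import Cfsg.Agent.Helper26.S4395Defs

set_option autoImplicit false

/-! Board `s4395pieces`, piece QPN: a surjective image of a `p`-nilpotent group is `p`-nilpotent. -/

namespace Cfsg.Agent.S4395P

open Cfsg
open scoped Pointwise

/-- QPN (M): a surjective image of a `p`-nilpotent group is `p`-nilpotent. -/
theorem QPN {p : ℕ} [Fact p.Prime] {A B : Type*} [Group A] [Finite A] [Group B] (f : A →* B)
    (hf : Function.Surjective f) (h : Cfsg.HasNormalPComplement p A) : Cfsg.HasNormalPComplement p B := by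
  obtain ⟨P, N, hN, hc⟩ := h
  have : Finite B := Finite.of_surjective f hf
  refine ⟨P.mapSurjective hf, N.map f, hN.map f hf, ?_⟩
  -- `|N|` is prime to `p`
  have hcardN : (Nat.card N).Coprime p := by
    have h1 : Nat.card N * Nat.card (P : Subgroup A) = Nat.card A := hc.card_mul_card
    have h2 : Nat.card (P : Subgroup A) * (P : Subgroup A).index = Nat.card A :=
      (P : Subgroup A).card_mul_index
    have hpos : 0 < Nat.card (P : Subgroup A) := Nat.card_pos
    have h3 : Nat.card N = (P : Subgroup A).index := by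
      have : Nat.card (P : Subgroup A) * Nat.card N
          = Nat.card (P : Subgroup A) * (P : Subgroup A).index := by
        rw [h2, mul_comm, h1]
      exact Nat.eq_of_mul_eq_mul_left hpos this
    rw [h3]
    have := P.not_dvd_index
    exact (Nat.Coprime.symm ((Nat.Prime.coprime_iff_not_dvd (Fact.out : p.Prime)).2 this))
  apply Subgroup.isComplement'_of_disjoint_and_mul_eq_univ
  · rw [Subgroup.disjoint_def]
    intro b hbN hbP
    obtain ⟨n, hn, rfl⟩ := hbN
    have hbP' : f n ∈ (P : Subgroup A).map f := hbP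
    obtain ⟨x, hx, hxe⟩ := hbP'
    -- the order of `f n` divides `|N|` and is a power of `p`
    have ho1 : orderOf (f n) ∣ Nat.card N := by
      have h1 : orderOf (f n) ∣ orderOf n := orderOf_map_dvd f n
      have h2 : orderOf n ∣ Nat.card N := by
        have := orderOf_dvd_natCard (⟨n, hn⟩ : N)
        rwa [Subgroup.orderOf_mk] at this
      exact h1.trans h2
    obtain ⟨k, hk⟩ := P.isPGroup' ⟨x, hx⟩
    have hk' : x ^ p ^ k = 1 := by
      have := congrArg (Subtype.val) hk
      simpa using this
    have ho2 : orderOf (f n) ∣ p ^ k := by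
      rw [← hxe]
      exact (orderOf_map_dvd f x).trans (orderOf_dvd_of_pow_eq_one hk')
    have ho3 : orderOf (f n) ∣ 1 := by
      have hcop : (Nat.card N).Coprime (p ^ k) := hcardN.pow_right k
      exact Nat.Coprime.eq_one_of_dvd (Nat.Coprime.coprime_dvd_left ho1 hcop) ho2 ▸ dvd_refl _
    exact orderOf_eq_one_iff.1 (Nat.dvd_one.1 ho3)
  · rw [Set.eq_univ_iff_forall]
    intro b
    obtain ⟨a, rfl⟩ := hf b
    have hu : (N : Set A) * ((P : Subgroup A) : Set A) = Set.univ := hc.mul_eq
    have ha : a ∈ (N : Set A) * ((P : Subgroup A) : Set A) := by rw [hu]; trivial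
    obtain ⟨n, hn, x, hx, rfl⟩ := ha
    refine ⟨f n, ⟨n, hn, rfl⟩, f x, ⟨x, hx, rfl⟩, ?_⟩
    exact (map_mul f n x).symm

end Cfsg.Agent.S4395P
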