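import Mathlib
import Cfsg.Prelude.Def_GeometricClasses
import Cfsg.Agent.Helper2.S5886.Defs
import Cfsg.Agent.Helper2.S5664.Defs

/-! # S5664 piece PAIRSUM: pairing `σ ↔ σ⁻¹` in a group of odd order. -/

set_option autoImplicit false

namespace Cfsg.Agent.S5664P

open Cfsg.Agent.S5886P

variable {F K V : Type*} [Field F] [Field K] [Algebra F K]
  [AddCommGroup V] [Module F V] [Module K V] [IsScalarTower F K V]

/-- PAIRSUM (M): strong induction on a Finset `S ⊆ G` closed under inverse: remove `{σ, σ⁻¹}` (`σ ≠ σ⁻¹` for `σ ≠ 1` as `|G|` is odd: `σ² = 1 → σ = 1`). -/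
theorem PAIRSUM {G A : Type*} [CommGroup G] [Fintype G] [AddCommGroup A] (hodd : Odd (Fintype.card G))
    (Y : AddSubgroup A) (f : G → A) (h1 : f 1 ∈ Y) (hpair : ∀ σ : G, σ ≠ 1 → f σ + f σ⁻¹ ∈ Y) :
    ∑ σ, f σ ∈ Y := by
  classical
  have hsq : ∀ a : G, a⁻¹ = a → a = 1 := by
    intro a ha
    have h2 : a ^ 2 = 1 := by
      rw [pow_two]
      nth_rewrite 1 [← ha]
      exact inv_mul_cancel a
    obtain ⟨m, hm⟩ := hodd
    have h3 : a ^ Fintype.card G = 1 := pow_card_eq_one
    rw [hm, pow_succ, pow_mul, h2, one_pow, one_mul] at h3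
    exact h3
  have key : ∑ σ : G, (QuotientAddGroup.mk (f σ) : A ⧸ Y) = 0 := by
    refine Finset.sum_involution (fun a _ => a⁻¹) ?_ ?_ (fun a _ => Finset.mem_univ _) ?_
    · intro a _
      by_cases ha : a = 1
      · subst ha
        rw [inv_one, (QuotientAddGroup.eq_zero_iff (f 1)).mpr h1, add_zero]
      · rw [← QuotientAddGroup.mk_add]
        exact (QuotientAddGroup.eq_zero_iff _).mpr (hpair a ha)
    · intro a _ hne hinv
      apply hne
      rw [hsq a hinv]
      exact (QuotientAddGroup.eq_zero_iff (f 1)).mpr h1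
    · intro a _
      exact inv_inv a
  have h2 : ((QuotientAddGroup.mk (∑ σ : G, f σ) : A ⧸ Y)) = 0 := by
    rw [← key]
    exact map_sum (QuotientAddGroup.mk' Y) f Finset.univ
  exact (QuotientAddGroup.eq_zero_iff _).mp h2

end Cfsg.Agent.S5664P
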