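import Mathlib
import Cfsg.Prelude.Def_GeometricClasses
import Cfsg.Agent.Helper24.S5704.Defs
import Cfsg.Agent.Helper17.S5704.STDefs
import Cfsg.Agent.Helper21.S5637LIB1

set_option autoImplicit false
set_option linter.unusedSectionVars false
set_option linter.unusedVariables false

/-! S5704 chapter STAR', piece STLIN (driver helper17; helper20). -/

namespace Cfsg.Agent.S5704P

open Matrix Cfsg.Agent.S5637P Cfsg.Agent.S5704S Cfsg.Agent.S5634P

variable {F : Type*} [Field F] {n a b : ℕ} (e : Fin n ≃ Fin a × Fin b)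

theorem STLIN {GW : Matrix (Fin b) (Fin b) F} {z : Fin b → F} (hz : z ≠ 0) (y : GL (Fin n) F)
    (α : GL (Fin a) F) (B : GL (Fin b) F)
    (hB : ∀ φ : Fin b → F, φ ⬝ᵥ z = 0 → ∀ x : Fin n → F, cps e (psi GW z) x = 0 →
      cps e φ ((y : Matrix (Fin n) (Fin n) F) *ᵥ x) =
        (α : Matrix (Fin a) (Fin a) F) *ᵥ cps e (φ ᵥ* (B : Matrix (Fin b) (Fin b) F)) x) :
    ∀ x : Fin n → F, cps e (psi GW z) x = 0 →
      (y : Matrix (Fin n) (Fin n) F) *ᵥ x -
        ((krg e α B : GL (Fin n) F) : Matrix (Fin n) (Fin n) F) *ᵥ x ∈ Vw e z := by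
  intro x hx
  rw [LIB1 e hz]
  intro φ hφ
  rw [map_sub, hB φ hφ x hx, krg_val, cps_kr, sub_self]

end Cfsg.Agent.S5704P
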