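import Mathlib
import Cfsg.Agent.Helper27.Suz2Defs
import Cfsg.Agent.Helper19.Suz2B0
import Cfsg.Agent.Helper18.Suz2EXM
import Cfsg.Agent.Helper18.Suz2F3
import Cfsg.Agent.Helper25.SUZ2F4A
import Cfsg.Agent.Helper25.SUZ2F4B
import Cfsg.Agent.Helper9.SUZ2MAS

/-! SUZ2 board, piece F4C: `T = Z2 P` is an abelian `K`-line, squaring onto `Z`. -/

set_option autoImplicit false

namespace Cfsg.Agent.SUZ2P

open Cfsg.Agent.Helper17.Suz2 Cfsg.Agent.SUZ2P

universe u v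

variable {K : Type v} {P : Type u} [Group K] [Group P] [MulDistribMulAction K P]

theorem T_props (h : MinCE K P) :
    KMin K (Om P) (Z2 P) ∧ (∀ t ∈ Z2 P, ∀ t' ∈ Z2 P, t * t' = t' * t) ∧
      ∀ z ∈ Om P, ∃ t ∈ Z2 P, t * t = z := by
  have hS : Star K P := h.star
  have hna : NonAb P := h.nonab
  have : Finite P := hS.fin
  have hlt : Om P < Z2 P := Om_lt_Z2 hS hna
  have hOmInv : KInv K (Om P) := B0_Om_inv
  have hZ2Inv : KInv K (Z2 P) := Z2_inv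
  obtain ⟨M, hM, hMT⟩ := exists_kmin hOmInv hZ2Inv hlt
  obtain ⟨hMab, hMuniq⟩ := F4_unique h hM hMT
  have hsq : ∀ a ∈ Z2 P, a * a ∈ Om P := Z2_sq hS hna
  have hcm : ∀ a ∈ Z2 P, ∀ a' ∈ Z2 P, cm a a' ∈ Om P := fun a ha a' _ => ha a'
  obtain ⟨W, hWinv, hOmW, hWT, hMW, hMWsup⟩ :=
    maschke hS hOmInv hM.invA hZ2Inv hM.lt.le hMT hsq hcm
  have hW : W = Om P := by
    by_contra hne
    have hltW : Om P < W := lt_of_le_of_ne hOmW (Ne.symm hne)
    obtain ⟨M', hM', hM'W⟩ := exists_kmin hOmInv hWinv hltW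
    have hM'eq : M' = M := hMuniq M' hM' (hM'W.trans hWT)
    have hMleW : M ≤ W := hM'eq ▸ hM'W
    have : M = Om P := by
      rw [← hMW]; exact (inf_eq_left.mpr hMleW).symm
    exact (ne_of_gt hM.lt) this
  have hMeq : M = Z2 P := by
    rw [← hMWsup, hW]; exact (sup_eq_left.mpr hM.lt.le).symm
  subst hMeq
  exact ⟨hM, hMab, F4sq hS hna hM le_rfl⟩

end Cfsg.Agent.SUZ2P
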