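import Mathlib
import Cfsg.Agent.Helper27.Suz2Defs
import Cfsg.Agent.Helper19.Suz2B0
import Cfsg.Agent.Helper18.Suz2F3
import Cfsg.Agent.Helper25.SUZ2F4A
import Cfsg.Agent.Helper20.SUZ2F4C

/-! SUZ2 board, piece F5: `C = CT P = C_P(T)`, blueprint F5. -/

set_option autoImplicit false

namespace Cfsg.Agent.SUZ2P

open Cfsg.Agent.Helper17.Suz2 Cfsg.Agent.SUZ2P

universe u v

variable {K : Type v} {P : Type u} [Group K] [Group P] [MulDistribMulAction K P]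

theorem CT_inv : KInv K (CT P) := by
  intro k g hg
  rw [mem_CT] at hg ⊢
  intro t ht
  have ht' : k⁻¹ • t ∈ Z2 P := Z2_inv k⁻¹ t ht
  have h1 := hg _ ht'
  have h2 : k • (k⁻¹ • t * g) = k • (g * k⁻¹ • t) := by rw [h1]
  rw [smul_mul', smul_mul', smul_inv_smul] at h2
  exact h2

theorem CT_normal : (CT P).Normal := by
  constructor
  intro g hg x
  rw [mem_CT] at hg ⊢
  intro t ht
  have hn : (Z2 P).Normal := Z2_normal
  have ht' : x⁻¹ * t * x⁻¹⁻¹ ∈ Z2 P := hn.conj_mem t ht x⁻¹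
  rw [inv_inv] at ht'
  have h1 := hg _ ht'
  calc t * (x * g * x⁻¹) = x * ((x⁻¹ * t * x) * g) * x⁻¹ := by group
    _ = x * (g * (x⁻¹ * t * x)) * x⁻¹ := by rw [h1]
    _ = x * g * x⁻¹ * t := by group

theorem Z2_le_CT (h : MinCE K P) : Z2 P ≤ CT P := by
  intro g hg
  rw [mem_CT]
  intro t ht
  exact (T_props h).2.1 t ht g hg

theorem CT_ne_top (h : MinCE K P) : CT P ≠ ⊤ := by
  intro htop
  have hlt : Om P < Z2 P := Om_lt_Z2 h.star h.nonab
  have hle : Z2 P ≤ Om P := by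
    intro t ht
    rw [← B0_center h.star h.nonab, Subgroup.mem_center_iff]
    intro g
    have hg : g ∈ CT P := by rw [htop]; trivial
    exact ((mem_CT.mp hg) t ht).symm
  exact (not_le_of_gt hlt) hle

theorem F5i (h : MinCE K P) {g : P} (hg : g ∈ CT P) (hgg : g * g ∈ Om P) : g ∈ Z2 P :=
  F4centr h.star h.nonab (T_props h).1 le_rfl (fun m hm => (mem_CT.mp hg) m hm) hgg

theorem F5ii (g h : P) : g * g ∈ CT P ∧ cm g h ∈ CT P := by
  constructor
  · rw [mem_CT]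
    intro t ht
    exact (F4hom (M := Z2 P) le_rfl g h t ht).1
  · rw [mem_CT]
    intro t ht
    exact (F4hom (M := Z2 P) le_rfl g h t ht).2

theorem F5iv (h : MinCE K P) {x t : P} (hx : x * x ∈ Om P) (ht : t ∈ Z2 P) :
    (x * t) * (x * t) ∈ Om P := by
  have htt : t * t ∈ Om P := Z2_sq h.star h.nonab t ht
  have ht' : t⁻¹ ∈ Z2 P := inv_mem ht
  have hc : cm t⁻¹ x⁻¹ ∈ Om P := ht' x⁻¹
  have hcc : cm t⁻¹ x⁻¹ ∈ Subgroup.center P := hc.1
  have hcomm : t * cm t⁻¹ x⁻¹ = cm t⁻¹ x⁻¹ * t := (Subgroup.mem_center_iff.mp hcc t)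
  have hconj : x⁻¹ * t * x = t * cm t⁻¹ x⁻¹ := by unfold cm; group
  have : (x * t) * (x * t) = (x * x) * ((t * t) * cm t⁻¹ x⁻¹) := by
    calc (x * t) * (x * t) = (x * x) * ((x⁻¹ * t * x) * t) := by group
      _ = (x * x) * ((t * cm t⁻¹ x⁻¹) * t) := by rw [hconj]
      _ = (x * x) * (t * (cm t⁻¹ x⁻¹ * t)) := by group
      _ = (x * x) * (t * (t * cm t⁻¹ x⁻¹)) := by rw [hcomm]
      _ = (x * x) * ((t * t) * cm t⁻¹ x⁻¹) := by group
  rw [this]
  exact mul_mem hx (mul_mem htt hc)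

/-- `β` is well defined: `cm t g` depends only on `t²`. -/
theorem cmT_sq_eq (h : MinCE K P) {t t' : P} (ht : t ∈ Z2 P) (ht' : t' ∈ Z2 P)
    (hsq : t * t = t' * t') (g : P) : cm t g = cm t' g := by
  have hab := (T_props h).2.1
  have hcomm : t * t' = t' * t := hab t ht t' ht'
  have hu : (t⁻¹ * t') * (t⁻¹ * t') = 1 := by
    have hcomm' : t' * t⁻¹ = t⁻¹ * t' := by
      have := hab t' ht' t⁻¹ (inv_mem ht)
      exact this
    calc (t⁻¹ * t') * (t⁻¹ * t') = t⁻¹ * (t' * t⁻¹) * t' := by group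
      _ = t⁻¹ * (t⁻¹ * t') * t' := by rw [hcomm']
      _ = t⁻¹ * t⁻¹ * (t' * t') := by group
      _ = t⁻¹ * t⁻¹ * (t * t) := by rw [hsq]
      _ = 1 := by group
  have huOm : t⁻¹ * t' ∈ Om P := (B0_mem_Om h.star).mpr hu
  have huc : t⁻¹ * t' ∈ Subgroup.center P := huOm.1
  have hug : g * (t⁻¹ * t') = (t⁻¹ * t') * g := Subgroup.mem_center_iff.mp huc g
  have ht'eq : t' = t * (t⁻¹ * t') := by group
  have : cm t' g = cm t g := by
    rw [ht'eq]
    generalize t⁻¹ * t' = u at hug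
    unfold cm
    calc t * u * g * (t * u)⁻¹ * g⁻¹ = t * (u * g) * u⁻¹ * t⁻¹ * g⁻¹ := by group
      _ = t * (g * u) * u⁻¹ * t⁻¹ * g⁻¹ := by rw [hug]
      _ = t * g * t⁻¹ * g⁻¹ := by group
  exact this.symm

end Cfsg.Agent.SUZ2P
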