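import Mathlib
import Cfsg.Agent.Helper1.PGroup
import Cfsg.Agent.Helper6.QuatLift
import Cfsg.Agent.Helper20.QuatQuotA

set_option autoImplicit false

namespace Cfsg.Agent.Helper20

open scoped commutatorElement

section quatfacts
open QuaternionGroup

variable {m : ℕ} [NeZero m]

lemma zmod_two_ne_zero (hm : 2 ≤ m) : (2 : ZMod (2 * m)) ≠ 0 := by
  intro h
  have h' : ((2 : ℕ) : ZMod (2 * m)) = 0 := by exact_mod_cast h
  rw [ZMod.natCast_eq_zero_iff] at h'
  have := Nat.le_of_dvd (by norm_num) h'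
  omega

lemma quat_xa_not_comm (hm : 2 ≤ m) (j : ZMod (2 * m)) :
    (xa j : QuaternionGroup m) * a 1 ≠ a 1 * xa j := by
  rw [xa_mul_a, a_mul_xa]
  intro h
  injection h with h
  apply zmod_two_ne_zero hm
  linear_combination h

lemma quat_a_half_not_comm (h : ℕ) (hm : m = 2 * h) :
    (a (h : ZMod (2 * m)) : QuaternionGroup m) * xa 0 ≠ xa 0 * a (h : ZMod (2 * m)) := by
  rw [xa_mul_a, a_mul_xa]
  intro e
  injection e with e
  have e2 : ((m : ℕ) : ZMod (2 * m)) = 0 := by
    have : ((m : ℕ) : ZMod (2 * m)) = 2 * (h : ZMod (2 * m)) := by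
      rw [hm]; push_cast; ring
    rw [this]
    linear_combination -e
  rw [ZMod.natCast_eq_zero_iff] at e2
  have hpos := NeZero.pos m
  have := Nat.le_of_dvd hpos e2
  omega

end quatfacts

section centre

variable {S : Type*} [Group S]

lemma mem_map_center_subtype (C : Subgroup ↥(Subgroup.center S)) (g : S)
    (hg : g ∈ Subgroup.center S) :
    g ∈ C.map (Subgroup.center S).subtype ↔ (⟨g, hg⟩ : ↥(Subgroup.center S)) ∈ C := by
  constructor
  · rintro ⟨c, hc, hcg⟩
    have : c = ⟨g, hg⟩ := Subtype.ext hcg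
    rwa [← this]
  · intro h
    exact ⟨⟨g, hg⟩, h, rfl⟩

lemma map_center_subtype_le (C : Subgroup ↥(Subgroup.center S)) :
    C.map (Subgroup.center S).subtype ≤ Subgroup.center S := by
  rintro _ ⟨z, _, rfl⟩
  exact z.2

/-- If `S ⧸ N` has a unique involution, `N < Z(S)` and `Z(S)` has exponent `2`, then every `g`
with `g² ∈ N` is central. -/
lemma mem_center_of_sq_mem (C : Subgroup ↥(Subgroup.center S)) (hne : C ≠ ⊤)
    (hel : ∀ a : ↥(Subgroup.center S), a ^ 2 = 1)
    [hN : (C.map (Subgroup.center S).subtype).Normal]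
    (hu : ∃! x : S ⧸ C.map (Subgroup.center S).subtype, orderOf x = 2) (g : S)
    (hg : g ^ 2 ∈ C.map (Subgroup.center S).subtype) : g ∈ Subgroup.center S := by
  haveI : Fact (Nat.Prime 2) := ⟨Nat.prime_two⟩
  obtain ⟨z, hz⟩ : ∃ z : ↥(Subgroup.center S), z ∉ C := by
    by_contra hcon
    push Not at hcon
    exact hne (eq_top_iff.2 fun z _ => hcon z)
  set N := C.map (Subgroup.center S).subtype with hNdef
  obtain ⟨u, hu2, huu⟩ := hu
  have hzN : (z : S) ∉ N := by
    rw [hNdef, mem_map_center_subtype C z z.2]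
    exact hz
  have hz2 : ((z : S) : S ⧸ N) ^ 2 = 1 := by
    rw [← QuotientGroup.mk_pow]
    have := hel z
    have h' : (z : S) ^ 2 = 1 := by
      have := congrArg Subtype.val this
      simpa using this
    rw [h']; rfl
  have hz1 : ((z : S) : S ⧸ N) ≠ 1 := by
    rw [Ne, QuotientGroup.eq_one_iff]; exact hzN
  have hzu : ((z : S) : S ⧸ N) = u := huu _ (orderOf_eq_prime hz2 hz1)
  have hg2 : (g : S ⧸ N) ^ 2 = 1 := by
    rw [← QuotientGroup.mk_pow, QuotientGroup.eq_one_iff]; exact hg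
  by_cases hg1 : (g : S ⧸ N) = 1
  · rw [QuotientGroup.eq_one_iff] at hg1
    exact map_center_subtype_le C hg1
  · have hgu : (g : S ⧸ N) = u := huu _ (orderOf_eq_prime hg2 hg1)
    have : ((z : S) : S ⧸ N) = (g : S ⧸ N) := by rw [hzu, hgu]
    rw [QuotientGroup.eq] at this
    have h1 : (z : S)⁻¹ * g ∈ Subgroup.center S := map_center_subtype_le C this
    have : g = (z : S) * ((z : S)⁻¹ * g) := by group
    rw [this]
    exact Subgroup.mul_mem _ z.2 h1

end centre

section transport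

lemma existsUnique_orderOf_of_equiv {A B : Type*} [Group A] [Group B] (E : A ≃* B) (k : ℕ)
    (h : ∃! x : B, orderOf x = k) : ∃! x : A, orderOf x = k := by
  obtain ⟨u, hu, huu⟩ := h
  refine ⟨E.symm u, ?_, ?_⟩
  · show orderOf (E.symm u) = k
    rw [MulEquiv.orderOf_eq]; exact hu
  · intro x hx
    have : E x = u := huu _ (by show orderOf (E x) = k; rw [MulEquiv.orderOf_eq]; exact hx)
    rw [← this, MulEquiv.symm_apply_apply]

lemma isMulCommutative_of_equiv {A B : Type*} [Group A] [Group B] (E : A ≃* B)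
    [hB : IsMulCommutative B] : IsMulCommutative A := by
  refine ⟨⟨fun a b => ?_⟩⟩
  apply E.injective
  rw [map_mul, map_mul, mul_comm']

end transport

section split
open QuaternionGroup

variable {S : Type*} [Group S] {m : ℕ} [NeZero m] (φ : S →* QuaternionGroup m)

/-- A section of `φ` gives a complement of the kernel. -/
lemma split_of_section (ψ : QuaternionGroup m →* S) (hsec : ∀ q, φ (ψ q) = q) :
    ψ.range ⊓ φ.ker = ⊥ ∧ (∀ g : S, ∃ q ∈ ψ.range, ∃ c ∈ φ.ker, g = c * q) ∧
      Nonempty (QuaternionGroup m ≃* ψ.range) := by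
  have hinj : Function.Injective ψ := by
    intro p q hpq
    rw [← hsec p, ← hsec q, hpq]
  refine ⟨?_, ?_, ⟨MonoidHom.ofInjective hinj⟩⟩
  · rw [eq_bot_iff]
    rintro g ⟨⟨q, rfl⟩, hk⟩
    have hk' : ψ q ∈ φ.ker := hk
    rw [MonoidHom.mem_ker, hsec] at hk'
    rw [Subgroup.mem_bot, hk', map_one]
  · intro g
    refine ⟨ψ (φ g), ⟨_, rfl⟩, g * (ψ (φ g))⁻¹, ?_, by group⟩
    rw [MonoidHom.mem_ker, map_mul, map_inv, hsec, mul_inv_cancel]

/-- the section defined by lifts satisfying the quaternion relations -/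
lemma exists_section_of_rel (x y : S) (hx : φ x = a 1) (hy : φ y = xa 0)
    (hX : x ^ (2 * m) = 1) (hY : y * y = x ^ m) (hYX : y * x * y⁻¹ = x⁻¹) :
    ∃ ψ : QuaternionGroup m →* S, ∀ q, φ (ψ q) = q := by
  refine ⟨Cfsg.Agent.Helper6.QuatLift.lift x y hX hY hYX, ?_⟩
  rintro (i | i)
  · show φ (x ^ i.val) = a i
    rw [map_pow, hx, a_one_pow, ZMod.natCast_zmod_val]
  · show φ (y * x ^ i.val) = xa i
    rw [map_mul, map_pow, hx, hy, a_one_pow, ZMod.natCast_zmod_val, xa_mul_a, zero_add]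

end split

end Cfsg.Agent.Helper20
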