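import Mathlib

set_option autoImplicit false
set_option linter.unusedSectionVars false
set_option linter.unusedVariables false

/-! # S0679, chapter (6), piece NO33, core (helper20; Mathlib only)

No element of `G` has cycle type `3² 1⁵`. -/

namespace Cfsg.Agent.S0679P

open Equiv MulAction

variable {α : Type*} [Fintype α] [DecidableEq α] {G : Subgroup (Equiv.Perm α)}

/-- an element of cycle type `{3, 3}` on 11 points has exactly 5 fixed points -/
theorem NO33.card_fix (h11 : Fintype.card α = 11) {x : Perm α} (hct : x.cycleType = {3, 3}) :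
    (Finset.univ.filter fun a => x a = a).card = 5 := by
  have h1 : x.support.card = 6 := by
    rw [← Equiv.Perm.sum_cycleType, hct]
    rfl
  have h2 : (Finset.univ.filter fun a => x a = a) = x.supportᶜ := by
    ext a
    simp [Equiv.Perm.mem_support]
  rw [h2, Finset.card_compl, h11, h1]

/-- a permutation `y` with `y ^ 5 = 1` which maps a 4-set `S` into itself fixes `S` pointwise -/
theorem NO33.fix_of_card_four {y : Perm α} (hy : y ^ 5 = 1) (S : Finset α) (hS : S.card = 4)
    (hinv : ∀ a ∈ S, y a ∈ S) : ∀ a ∈ S, y a = a := by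
  classical
  have hiff : ∀ a, a ∈ S ↔ y a ∈ S := by
    intro a
    refine ⟨hinv a, fun h => ?_⟩
    -- `a = y ^ 4 (y a)`
    have h4 : ∀ b ∈ S, (y ^ 4) b ∈ S := by
      intro b hb
      have : (y ^ 4) b = y (y (y (y b))) := by simp [pow_succ, Equiv.Perm.mul_apply]
      rw [this]
      exact hinv _ (hinv _ (hinv _ (hinv _ hb)))
    have h5 : (y ^ 4) (y a) = a := by
      have : (y ^ 4) (y a) = (y ^ 5) a := by
        rw [pow_succ y 4, Equiv.Perm.mul_apply]
      rw [this, hy, Equiv.Perm.one_apply]
    rw [← h5]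
    exact h4 _ h
  set σ : Perm {a // a ∈ S} := y.subtypePerm (fun a => (hiff a).symm) with hσ
  have hσ5 : σ ^ 5 = 1 := by
    ext a
    rw [hσ, Equiv.Perm.subtypePerm_pow]
    simp [hy]
  have h1 : orderOf σ ∣ 5 := orderOf_dvd_of_pow_eq_one hσ5
  have h2 : orderOf σ ∣ Fintype.card (Perm {a // a ∈ S}) := orderOf_dvd_card
  have h3 : Fintype.card (Perm {a // a ∈ S}) = 24 := by
    rw [Fintype.card_perm, Fintype.card_coe, hS]
    rfl
  rw [h3] at h2
  have h4 : orderOf σ ∣ Nat.gcd 5 24 := Nat.dvd_gcd h1 h2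
  have h5 : orderOf σ = 1 := by
    have : Nat.gcd 5 24 = 1 := by norm_num
    rw [this] at h4
    exact Nat.dvd_one.mp h4
  have h6 : σ = 1 := orderOf_eq_one_iff.mp h5
  intro a ha
  have h7 : σ ⟨a, ha⟩ = ⟨a, ha⟩ := by rw [h6]; rfl
  have h8 := congrArg Subtype.val h7
  simpa [hσ] using h8

/-- core of NO33: an element `y` with `y ^ 5 = 1` commuting with `x` of type `3² 1⁵` on 11 points cannot have
support of size 10. -/
theorem NO33.core (h11 : Fintype.card α = 11) {x : Perm α} (hct : x.cycleType = {3, 3})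
    {y : Perm α} (hy5' : y ^ 5 = 1) (hyx : y * x = x * y) (hs10 : y.support.card = 10) : False := by
  classical
  have hfix : (Finset.univ.filter fun a => y a = a) = y.supportᶜ := by
    ext a
    simp [Equiv.Perm.mem_support]
  have hfix1 : (Finset.univ.filter fun a => y a = a).card = 1 := by
    rw [hfix, Finset.card_compl, h11, hs10]
  obtain ⟨ψ, hψ⟩ := Finset.card_eq_one.mp hfix1
  have hmem : ∀ a, y a = a ↔ a = ψ := by
    intro a
    have : a ∈ (Finset.univ.filter fun a => y a = a) ↔ a ∈ ({ψ} : Finset α) := by rw [hψ]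
    simpa using this
  have hyψ : y ψ = ψ := (hmem ψ).mpr rfl
  -- `x ψ` is fixed by `y`
  have hxψ : x ψ = ψ := by
    apply (hmem _).mp
    have h1 : (y * x) ψ = (x * y) ψ := by rw [hyx]
    simpa [Equiv.Perm.mul_apply, hyψ] using h1
  -- the other four fixed points of `x`
  set S : Finset α := (Finset.univ.filter fun a => x a = a).erase ψ with hS
  have hScard : S.card = 4 := by
    rw [hS, Finset.card_erase_of_mem, NO33.card_fix h11 hct]
    simp [hxψ]
  have hmemS : ∀ a, a ∈ S ↔ a ≠ ψ ∧ x a = a := by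
    intro a
    simp [hS]
  have hinv : ∀ a ∈ S, y a ∈ S := by
    intro a ha
    rw [hmemS] at ha ⊢
    refine ⟨?_, ?_⟩
    · intro h
      apply ha.1
      apply y.injective
      rw [h, hyψ]
    · have h1 : (y * x) a = (x * y) a := by rw [hyx]
      simpa [Equiv.Perm.mul_apply, ha.2] using h1.symm
  have hall := NO33.fix_of_card_four hy5' S hScard hinv
  have hne : S.Nonempty := by
    rw [← Finset.card_pos, hScard]
    norm_num
  obtain ⟨a, ha⟩ := hne
  have h1 := (hmem a).mp (hall a ha)
  exact ((hmemS a).mp ha).1 h1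

end Cfsg.Agent.S0679P
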