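import Mathlib
import Cfsg.Agent.Helper20.S0679ORBCore
import Cfsg.Agent.Helper16.S0679SYL
import Cfsg.Agent.Helper16.S0679FIXONLY

set_option autoImplicit false
set_option linter.unusedSectionVars false
set_option linter.unusedVariables false

/-! # S0679, chapter (6), piece ORB (helper20)

For `x ∈ G` of cycle type `3² 1⁵` and two fixed points `u ≠ v` of `x`, the centraliser of `x` in `G` is
transitive on the other three fixed points (`SYL` + `FIXONLY` + `ORB.core`). -/

namespace Cfsg.Agent.S0679P

open Equiv MulAction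

variable {α : Type*} [Fintype α] [DecidableEq α] {G : Subgroup (Equiv.Perm α)}

/-- ORB (M): for `x` of type `3² 1⁵` and a pair `u ≠ v` of fixed points of `x`, the centraliser of `x` in `G` is
transitive on the other three fixed points. -/
theorem ORB (h11 : Fintype.card α = 11) (h2 : IsMultiplyPretransitive G α 2)
    (hA : ¬ alternatingGroup α ≤ G) (hord : Nat.card G = 7920) {x : Perm α} (hx : x ∈ G)
    (hct : x.cycleType = {3, 3}) {u v w w' : α} (huv : u ≠ v) (hu : x u = u) (hv : x v = v)
    (hw : x w = w) (hw' : x w' = w') (hwu : w ≠ u) (hwv : w ≠ v) (hw'u : w' ≠ u) (hw'v : w' ≠ v) :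
    ∃ c ∈ G, c * x = x * c ∧ c w = w' := by
  obtain ⟨T, hTG, hT9, hxT, hTu, hTv⟩ :=
    SYL h11 h2 hord hx (ORB.orderOf_three hct) huv hu hv
  exact ORB.core h11 hct huv hu hv hw hw' hwu hwv hw'u hw'v T hTG hT9 hxT hTu hTv
    (FIXONLY h11 h2 hA T hTG hT9 huv hwu.symm hwv.symm hTu hTv)

end Cfsg.Agent.S0679P
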