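import Mathlib
import Cfsg.Agent.Helper20.S0679NO33Core
import Cfsg.Agent.Helper4.S0679J
import Cfsg.Agent.Helper25.S0679CT
import Cfsg.Agent.Helper7.S0679CENT5

set_option autoImplicit false
set_option linter.unusedSectionVars false
set_option linter.unusedVariables false

/-! # S0679, chapter (6), piece NO33 (helper20)

No element of `G` has cycle type `3² 1⁵` (`CENT5` + `CT` + `J` + `NO33.core`). -/

namespace Cfsg.Agent.S0679P

open Equiv MulAction

variable {α : Type*} [Fintype α] [DecidableEq α] {G : Subgroup (Equiv.Perm α)}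

/-- NO33 (M) = second half of (6.2): no element of type `3² 1⁵`. -/
theorem NO33 (h11 : Fintype.card α = 11) (h2 : IsMultiplyPretransitive G α 2)
    (hA : ¬ alternatingGroup α ≤ G) (hord : Nat.card G = 7920) {x : Perm α} (hx : x ∈ G)
    (hct : x.cycleType = {3, 3}) : False := by
  obtain ⟨y, hyG, hy5, hyx⟩ := CENT5 h11 h2 hA hord hx hct
  obtain ⟨j, hj1, hjct, hjsupp, hjcyc, -⟩ := CT (g := y) (p := 5) (by norm_num) hy5
  have hsle : y.support.card ≤ 11 := by
    rw [← h11]
    exact Finset.card_le_univ _
  have hj : j = 1 ∨ j = 2 := by omega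
  rcases hj with rfl | rfl
  · -- a 5-cycle: Jordan
    have hs5 : y.support.card = 5 := by rw [hjsupp]
    exact J h11 h2 hA hyG (hjcyc rfl) (by rw [hs5]; norm_num) (by rw [hs5]; norm_num)
  · -- support 10: exactly one fixed point
    have hs10 : y.support.card = 10 := by rw [hjsupp]
    have hy5' : y ^ 5 = 1 := by rw [← hy5]; exact pow_orderOf_eq_one y
    exact NO33.core h11 hct hy5' hyx hs10

end Cfsg.Agent.S0679P
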