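import Mathlib
import Cfsg.Agent.Helper2.S2094.DefsR
import Cfsg.Agent.Helper23.S3352INJPOS
import Cfsg.Agent.Helper9.S2094BLOCKD

set_option autoImplicit false
set_option linter.unusedSectionVars false
set_option linter.unusedVariables false

/-! S2094 chapter K, piece INJD (helper20): the representation is injective on the group generated
by the positive long root elements (BLOCKD + S3352 `eq_one_of_mem_Uh`). -/

namespace Cfsg.Agent.S2094P

open Matrix Cfsg.Agent.S3352P Cfsg.Agent.S3351P Cfsg.Agent.S2096P Cfsg.Agent.RGD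

variable {n : ℕ} {F : Type*} [Field F] {M : Type*} [Group M] {X : J n → J n → F → M}
  {Ys : J n → F → M}

namespace INJD

theorem blkB_inj {A B : Matrix (J n) (J n) F} (h : blkB A = blkB B) : A = B := by
  unfold blkB at h
  exact (Matrix.fromBlocks_inj.1 h).2.2.2

theorem blkB_one' : blkB (1 : Matrix (J n) (J n) F) = 1 := by
  unfold blkB
  exact Matrix.fromBlocks_one

end INJD

section pi

/-- INJD: the representation is injective on the group generated by the positive long root
elements -/
theorem eq_one_of_mem_UhD [Finite F] (π : M →* Matrix (I n) (I n) F)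
    (hπX : ∀ a b, IsRoot a b → ∀ t : F, π (X a b t) = xmB a b t) (hn : 3 ≤ n) (hX : DRel X)
    {u : M} (hu : u ∈ Uh X) (hπu : π u = 1) : u = 1 := by
  obtain ⟨πD, hπD, hblk⟩ := exists_piD π hπX
  rw [← map_Uh_XD] at hu
  obtain ⟨v, hv, rfl⟩ := hu
  have h1 : πD v = 1 := by
    apply INJD.blkB_inj
    rw [← hblk v, INJD.blkB_one']
    exact hπu
  have h2 : v = 1 := eq_one_of_mem_Uh πD hπD hn (dRel_XD hX) hv h1
  rw [h2, map_one]

end pi

end Cfsg.Agent.S2094P
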