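import Mathlib
import Cfsg.Agent.Helper2.S2099.DefsR
import Cfsg.Agent.Helper23.S3352INJPOS
import Cfsg.Agent.Helper9.S2094BLOCKD
import Cfsg.Agent.Helper20.S2099BLOCKQ

set_option autoImplicit false
set_option linter.unusedSectionVars false
set_option linter.unusedVariables false

/-! S2099 chapter K, piece INJDQ (helper20; driver helper2): the representation is injective on the
group generated by the positive long root elements (BLOCKQ + S3352 `eq_one_of_mem_Uh`). -/

namespace Cfsg.Agent.S2099P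

open Matrix Cfsg.Agent.S3352P Cfsg.Agent.S3351P Cfsg.Agent.S2096P Cfsg.Agent.RGD
open Cfsg.Agent.S2094P (RB RootB sc NgEquivariant mapB reflB MD XD XD_coe isRoot_ng_right'
  isRoot_ng_left' sw_ngEquivariant sc_ngEquivariant)

variable {n : ℕ} {F : Type*} [Field F] {κ : Type} [Fintype κ] [DecidableEq κ]
  {M : Type*} [Group M] {Q0 : QuadraticForm F (κ → F)} {X : J n → J n → F → M}
  {Ys : J n → (κ → F) → M}

namespace INJDQ

theorem blkQ_inj {A B : Matrix (J n) (J n) F} (h : blkQ (κ := κ) A = blkQ B) : A = B := by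
  unfold blkQ at h
  exact (Matrix.fromBlocks_inj.1 h).1

end INJDQ

/-- INJDQ: the representation is injective on the group generated by the positive long root
elements -/
theorem eq_one_of_mem_UhD [Finite F] (π : M →* Matrix (IQ n κ) (IQ n κ) F)
    (hπX : ∀ a b, IsRoot a b → ∀ t : F, π (X a b t) = xmQ a b t) (hn : 3 ≤ n) (hX : DRel X)
    {u : M} (hu : u ∈ Uh X) (hπu : π u = 1) : u = 1 := by
  obtain ⟨πD, hπD, hblk⟩ := exists_piD π hπX
  rw [← Cfsg.Agent.S2094P.map_Uh_XD] at hu
  obtain ⟨v, hv, rfl⟩ := hu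
  have h1 : πD v = 1 := by
    apply INJDQ.blkQ_inj (κ := κ)
    rw [← hblk v, BLOCKQ.blkQ_one']
    exact hπu
  have h2 : v = 1 := eq_one_of_mem_Uh πD hπD hn (Cfsg.Agent.S2094P.dRel_XD hX) hv h1
  rw [h2, map_one]

end Cfsg.Agent.S2099P
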