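import Mathlib
import Cfsg.Agent.Helper6.S2861Defs

set_option autoImplicit false

namespace Cfsg.Agent.S2861P

/-- `t` conjugates powers of `t * s` to their inverses. -/
theorem TWO.aux_comm {X : Type*} [Group X] (t s : X) (ht : t * t = 1) (hs : s * s = 1) (j : ℤ) :
    t * (t * s) ^ j = (t * s) ^ (-j) * t := by
  have htinv : t⁻¹ = t := inv_eq_of_mul_eq_one_right ht
  have hsinv : s⁻¹ = s := inv_eq_of_mul_eq_one_right hs
  have hconj : t * (t * s) * t⁻¹ = (t * s)⁻¹ := by
    rw [htinv, mul_inv_rev, htinv, hsinv, ← mul_assoc, ht, one_mul]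
  have h := conj_zpow (a := t) (b := t * s) (i := j)
  rw [hconj, inv_zpow, ← zpow_neg] at h
  rw [h, inv_mul_cancel_right]

/-- a group generated by two involutions `t, s` is `⟨t s⟩ ∪ ⟨t s⟩ t`. -/
theorem TWO.aux_dih {X : Type*} [Group X] (t s : X) (ht : t * t = 1) (hs : s * s = 1)
    (hgen : Subgroup.closure ({t, s} : Set X) = ⊤) (x : X) :
    (∃ j : ℤ, x = (t * s) ^ j) ∨ (∃ j : ℤ, x = (t * s) ^ j * t) := by
  have htinv : t⁻¹ = t := inv_eq_of_mul_eq_one_right ht
  have hsinv : s⁻¹ = s := inv_eq_of_mul_eq_one_right hs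
  have hcomm := TWO.aux_comm t s ht hs
  have hx : x ∈ Subgroup.closure ({t, s} : Set X) := by rw [hgen]; trivial
  induction hx using Subgroup.closure_induction with
  | mem y hy =>
    rcases hy with hy | hy
    · right; exact ⟨0, by rw [hy, zpow_zero, one_mul]⟩
    · right
      refine ⟨-1, ?_⟩
      rw [Set.mem_singleton_iff] at hy
      rw [hy, zpow_neg, zpow_one, mul_inv_rev, htinv, hsinv, mul_assoc, ht, mul_one]
  | one => left; exact ⟨0, by rw [zpow_zero]⟩
  | mul a b _ _ iha ihb =>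
    rcases iha with ⟨i, rfl⟩ | ⟨i, rfl⟩ <;> rcases ihb with ⟨j, rfl⟩ | ⟨j, rfl⟩
    · left; exact ⟨i + j, by rw [zpow_add]⟩
    · right; exact ⟨i + j, by rw [zpow_add, mul_assoc]⟩
    · right
      refine ⟨i + -j, ?_⟩
      rw [mul_assoc, hcomm j, ← mul_assoc, ← zpow_add]
    · left
      refine ⟨i + -j, ?_⟩
      rw [mul_assoc, ← mul_assoc t, hcomm j, mul_assoc, ht, mul_one, ← zpow_add]
  | inv a _ iha =>
    rcases iha with ⟨i, rfl⟩ | ⟨i, rfl⟩
    · left; exact ⟨-i, by rw [zpow_neg]⟩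
    · right
      refine ⟨i, ?_⟩
      rw [mul_inv_rev, htinv, ← zpow_neg, hcomm (-i), neg_neg]

/-- TWO: if `|Yb| = 2` then `Nb = Yb`. -/
theorem TWO {X : Type*} [Group X] [Finite X] (Yb Nb : Subgroup X) (h : Hyp Yb Nb)
    (h2 : Nat.card Yb = 2) : Nb = Yb := by
  -- the involution
  have hne : Yb ≠ ⊥ := by
    intro hbot
    rw [hbot, Subgroup.card_bot] at h2
    exact absurd h2 (by norm_num)
  have hex0 : ∃ t : X, t ∈ Yb ∧ t ≠ 1 := by
    obtain ⟨a, ha⟩ := Subgroup.ne_bot_iff_exists_ne_one.1 hne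
    exact ⟨(a : X), a.2, fun h1 => ha (Subtype.ext h1)⟩
  obtain ⟨t, htY, ht1⟩ := hex0
  have hzle : Subgroup.zpowers t ≤ Yb := Subgroup.zpowers_le.2 htY
  have hord : orderOf t = 2 := by
    have hd : orderOf t ∣ 2 := by
      rw [← h2]
      have := Subgroup.orderOf_dvd_natCard Yb htY
      exact this
    rcases (Nat.dvd_prime Nat.prime_two).1 hd with h1 | h1
    · exact absurd (orderOf_eq_one_iff.1 h1) ht1
    · exact h1
  have hYz : Subgroup.zpowers t = Yb := by
    apply Subgroup.eq_of_le_of_card_ge hzle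
    rw [h2, Nat.card_zpowers, hord]
  have ht : t * t = 1 := by
    have := pow_orderOf_eq_one t
    rwa [hord, pow_two] at this
  have htinv : t⁻¹ = t := inv_eq_of_mul_eq_one_right ht
  have hmemY : ∀ x : X, x ∈ Yb ↔ x = 1 ∨ x = t := by
    intro x
    constructor
    · intro hx
      rw [← hYz] at hx
      obtain ⟨k, rfl⟩ := hx
      show t ^ k = 1 ∨ t ^ k = t
      rcases Int.even_or_odd k with ⟨m, rfl⟩ | ⟨m, rfl⟩
      · left
        rw [← two_mul, zpow_mul, zpow_two, ht, one_zpow]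
      · right
        rw [zpow_add, zpow_one, zpow_mul, zpow_two, ht, one_zpow, one_mul]
    · rintro (rfl | rfl)
      · exact one_mem _
      · exact htY
  -- step 1: some conjugate generates with t
  have hex : ∃ g : X, Subgroup.closure ({t, g * t * g⁻¹} : Set X) = ⊤ := by
    by_contra hall0
    have hall : ∀ g : X, Subgroup.closure ({t, g * t * g⁻¹} : Set X) ≠ ⊤ :=
      fun g hg => hall0 ⟨g, hg⟩
    have hconjN : ∀ g : X, g * t * g⁻¹ ∈ Nb := by
      intro g
      have hle : Yb ≤ Subgroup.closure ({t, g * t * g⁻¹} : Set X) := by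
        rw [← hYz, Subgroup.zpowers_le]
        exact Subgroup.subset_closure (Set.mem_insert _ _)
      exact h.max _ hle (hall g) (Subgroup.subset_closure (Set.mem_insert_of_mem _ rfl))
    apply h.ne_top
    rw [eq_top_iff, ← h.gen, Subgroup.normalClosure, Subgroup.closure_le]
    intro x hx
    rw [Group.mem_conjugatesOfSet_iff] at hx
    obtain ⟨a, ha, hax⟩ := hx
    rw [isConj_iff] at hax
    obtain ⟨c, rfl⟩ := hax
    rcases (hmemY a).1 ha with rfl | rfl
    · simp
    · exact hconjN c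
  obtain ⟨g, hg⟩ := hex
  obtain ⟨s, hs_def⟩ : ∃ s : X, s = g * t * g⁻¹ := ⟨_, rfl⟩
  rw [← hs_def] at hg
  have hs : s * s = 1 := by
    rw [hs_def]
    calc g * t * g⁻¹ * (g * t * g⁻¹) = g * (t * t) * g⁻¹ := by group
      _ = 1 := by rw [ht]; group
  have hsinv : s⁻¹ = s := inv_eq_of_mul_eq_one_right hs
  have hdih := TWO.aux_dih t s ht hs hg
  have hcomm := TWO.aux_comm t s ht hs
  -- step 3: (t s)^(2k+1) = 1
  have hodd : ∃ k : ℤ, (t * s) ^ (2 * k + 1) = 1 := by
    have hsk : ∀ k : ℤ, (t * s) ^ k * t * ((t * s) ^ k)⁻¹ = (t * s) ^ (2 * k) * t := by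
      intro k
      rw [← zpow_neg, mul_assoc, hcomm (-k), neg_neg, ← mul_assoc, ← zpow_add, two_mul]
    have hs2 : s = (t * s)⁻¹ * t := by
      rw [mul_inv_rev, htinv, hsinv, mul_assoc, ht, mul_one]
    have hsg : ∃ k : ℤ, s = (t * s) ^ k * t * ((t * s) ^ k)⁻¹ := by
      rcases hdih g with ⟨k, hk⟩ | ⟨k, hk⟩
      · exact ⟨k, by rw [← hk]; exact hs_def⟩
      · refine ⟨k, ?_⟩
        calc s = g * t * g⁻¹ := hs_def
          _ = ((t * s) ^ k * t) * t * ((t * s) ^ k * t)⁻¹ := by rw [← hk]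
          _ = (t * s) ^ k * t * ((t * s) ^ k)⁻¹ := by
            rw [mul_inv_rev, htinv]
            simp only [mul_assoc]
            rw [← mul_assoc t t, ht, one_mul]
    obtain ⟨k, hk⟩ := hsg
    refine ⟨k, ?_⟩
    rw [hsk k] at hk
    have h3 : (t * s)⁻¹ = (t * s) ^ (2 * k) := by
      have h4 : (t * s)⁻¹ * t = (t * s) ^ (2 * k) * t := by rw [← hs2]; exact hk
      exact mul_right_cancel h4
    rw [zpow_add, zpow_one, ← h3, inv_mul_cancel]
  obtain ⟨k, hk⟩ := hodd
  -- (t s)^(2 j) = 1 → (t s)^j = 1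
  have hkill : ∀ j : ℤ, (t * s) ^ (2 * j) = 1 → (t * s) ^ j = 1 := by
    intro j hj
    have : j = (2 * k + 1) * j + (2 * j) * (-k) := by ring
    rw [this, zpow_add, zpow_mul, zpow_mul, hk, hj, one_zpow, one_zpow, one_mul]
  -- step 4
  apply le_antisymm _ h.le
  intro x hx
  have hxn := h.norm hx
  rw [Subgroup.mem_normalizer_iff] at hxn
  have hxt : x * t * x⁻¹ = t := by
    have h1 : x * t * x⁻¹ ∈ Yb := (hxn t).1 htY
    rcases (hmemY _).1 h1 with h1 | h1
    · exfalso
      apply ht1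
      have : x * t = x := by rwa [mul_inv_eq_one] at h1
      exact mul_left_cancel (this.trans (mul_one x).symm)
    · exact h1
  rw [hmemY]
  rcases hdih x with ⟨j, rfl⟩ | ⟨j, rfl⟩
  · left
    apply hkill
    -- ρ^j t ρ^-j = t  →  ρ^(2j) t = t
    rw [← zpow_neg, mul_assoc, hcomm (-j), neg_neg, ← mul_assoc, ← zpow_add] at hxt
    have : (t * s) ^ (j + j) = 1 := by
      have h5 : (t * s) ^ (j + j) * t = 1 * t := by rw [one_mul]; exact hxt
      exact mul_right_cancel h5
    rwa [two_mul]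
  · right
    have h6 : (t * s) ^ j = 1 := by
      apply hkill
      have h7 : (t * s) ^ j * t * t * ((t * s) ^ j * t)⁻¹ = (t * s) ^ (j + j) * t := by
        rw [mul_inv_rev, htinv, ← zpow_neg]
        simp only [mul_assoc]
        rw [← mul_assoc t t, ht, one_mul, hcomm (-j), neg_neg, ← mul_assoc, ← zpow_add]
      rw [h7] at hxt
      have h5 : (t * s) ^ (j + j) * t = 1 * t := by rw [one_mul]; exact hxt
      rw [two_mul]
      exact mul_right_cancel h5
    rw [h6, one_mul]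

end Cfsg.Agent.S2861P
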