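import Mathlib
import Cfsg.Agent.Helper18.S3265Defs
import Cfsg.Agent.Helper18.S3265Basic
import Cfsg.Agent.Helper18.S3265Split

/-!
# S3265, piece ATOM: splitting off an invariant set of named points
-/

set_option autoImplicit false

namespace Cfsg.Agent.S3265P

open Equiv

theorem range_inv {Ω : Type*} [Fintype Ω] [DecidableEq Ω] (x : Perm Ω) (hx2 : x * x = 1) {m : ℕ}
    (P : Fin m → Ω) (x₀ : Perm (Fin m)) (hx : ∀ i, x (P i) = P (x₀ i)) :
    ∀ ω, x ω ∉ Set.range P ↔ ω ∉ Set.range P := by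
  have hxx : ∀ ω, x (x ω) = ω := fun ω => by
    have := congrArg (fun σ : Perm Ω => σ ω) hx2
    simpa using this
  intro ω
  apply not_congr
  constructor
  · rintro ⟨i, hi⟩
    refine ⟨x₀ i, ?_⟩
    rw [← hx i, hi, hxx]
  · rintro ⟨i, rfl⟩
    exact ⟨x₀ i, (hx i).symm⟩

theorem card_rest {Ω : Type*} [Fintype Ω] [DecidableEq Ω] {m : ℕ} (P : Fin m → Ω)
    (hP : Function.Injective P) :
    Fintype.card {ω // ω ∉ Set.range P} + m = Fintype.card Ω := by
  have h1 : Fintype.card {ω // ω ∉ Set.range P} =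
      Fintype.card Ω - Fintype.card {ω // ω ∈ Set.range P} :=
    Fintype.card_subtype_compl (fun ω => ω ∈ Set.range P)
  have h2 : Fintype.card {ω // ω ∈ Set.range P} = m := by
    have := Set.card_range_of_injective hP
    rw [Fintype.card_fin] at this
    exact this
  have h3 : Fintype.card {ω // ω ∈ Set.range P} ≤ Fintype.card Ω :=
    Fintype.card_subtype_le _
  rw [h1, h2]
  rw [h2] at h3
  omega

/-- the restriction of `x` to the named points is the transport of `x₀` -/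
theorem atom_res_eq {Ω : Type*} [Fintype Ω] [DecidableEq Ω] (x : Perm Ω) {m : ℕ}
    (P : Fin m → Ω) (hP : Function.Injective P) (x₀ : Perm (Fin m))
    (hx : ∀ i, x (P i) = P (x₀ i)) (hxp : ∀ ω, x ω ∈ Set.range P ↔ ω ∈ Set.range P) :
    res x (fun ω => ω ∈ Set.range P) hxp = (Equiv.ofInjective P hP).permCongr x₀ := by
  ext ⟨ω, i, rfl⟩
  simp only [res, Perm.subtypePerm_apply, Equiv.permCongr_apply]
  have h1 : (Equiv.ofInjective P hP).symm ⟨P i, i, rfl⟩ = i := by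
    apply (Equiv.ofInjective P hP).injective
    rw [Equiv.apply_symm_apply]
    rfl
  rw [h1, hx i]
  rfl

theorem atom_card_res {Ω : Type*} [Fintype Ω] [DecidableEq Ω] (x : Perm Ω) (p : Ω → Prop)
    [DecidablePred p] (hxp : ∀ ω, p (x ω) ↔ p ω) {m : ℕ} (e : Fin m ≃ {ω // p ω})
    (x₀ : Perm (Fin m)) (h : res x p hxp = e.permCongr x₀) :
    (res x p hxp).support.card = x₀.support.card := by
  rw [h]
  exact card_support_permCongr e x₀

theorem atom_Q_res {Ω : Type*} [Fintype Ω] [DecidableEq Ω] (x y : Perm Ω) (p : Ω → Prop)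
    [DecidablePred p] (hxp : ∀ ω, p (x ω) ↔ p ω) (hyp : ∀ ω, p (y ω) ↔ p ω) {m : ℕ}
    (e : Fin m ≃ {ω // p ω}) (x₀ y₀ : Perm (Fin m)) (hx : res x p hxp = e.permCongr x₀)
    (hy : res y p hyp = e.permCongr y₀) (hQ : Q x₀ y₀) : Q (res x p hxp) (res y p hyp) := by
  rw [hx, hy]
  exact Q_congr e hQ

theorem atom_range_mem {Ω : Type*} [Fintype Ω] [DecidableEq Ω] (x : Perm Ω)
    {m : ℕ} (P : Fin m → Ω)
    (hxn : ∀ ω, x ω ∉ Set.range P ↔ ω ∉ Set.range P) :
    ∀ ω, x ω ∈ Set.range P ↔ ω ∈ Set.range P := fun ω => not_iff_not.mp (hxn ω)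

theorem adm_rest {Ω : Type*} [Fintype Ω] [DecidableEq Ω] (x y : Perm Ω) (hA : Adm x y) {m : ℕ}
    (P : Fin m → Ω) (hP : Function.Injective P) (x₀ y₀ : Perm (Fin m))
    (hx : ∀ i, x (P i) = P (x₀ i)) (hy : ∀ i, y (P i) = P (y₀ i))
    (hc : x₀.support.card = y₀.support.card)
    (hxn : ∀ ω, x ω ∉ Set.range P ↔ ω ∉ Set.range P)
    (hyn : ∀ ω, y ω ∉ Set.range P ↔ ω ∉ Set.range P) :
    Adm (res x (fun ω => ω ∉ Set.range P) hxn) (res y (fun ω => ω ∉ Set.range P) hyn) := by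
  have hxp := atom_range_mem x P hxn
  have hyp := atom_range_mem y P hyn
  have hxx : ∀ ω, x (x ω) = ω := fun ω => by
    have := congrArg (fun σ : Perm Ω => σ ω) hA.x2
    simpa using this
  have hyy : ∀ ω, y (y ω) = ω := fun ω => by
    have := congrArg (fun σ : Perm Ω => σ ω) hA.y2
    simpa using this
  refine ⟨?_, ?_, ?_⟩
  · ext ⟨ω, hω⟩
    simp only [res, Perm.coe_mul, Function.comp_apply, Perm.subtypePerm_apply, Perm.coe_one, id_eq]
    exact hxx ω
  · ext ⟨ω, hω⟩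
    simp only [res, Perm.coe_mul, Function.comp_apply, Perm.subtypePerm_apply, Perm.coe_one, id_eq]
    exact hyy ω
  · have h1 := card_support_split x (fun ω => ω ∈ Set.range P) hxp hxn
    have h2 := card_support_split y (fun ω => ω ∈ Set.range P) hyp hyn
    have e1 := atom_card_res x (fun ω => ω ∈ Set.range P) hxp (Equiv.ofInjective P hP) x₀
      (atom_res_eq x P hP x₀ hx hxp)
    have e2 := atom_card_res y (fun ω => ω ∈ Set.range P) hyp (Equiv.ofInjective P hP) y₀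
      (atom_res_eq y P hP y₀ hy hyp)
    rw [e1] at h1
    rw [e2] at h2
    have h3 := hA.card
    rw [h1, h2, hc] at h3
    exact Nat.add_left_cancel h3

theorem Q_of_atom {Ω : Type*} [Fintype Ω] [DecidableEq Ω] (x y : Perm Ω) (hA : Adm x y) {m : ℕ}
    (P : Fin m → Ω) (hP : Function.Injective P) (x₀ y₀ z₀ : Perm (Fin m))
    (hx : ∀ i, x (P i) = P (x₀ i)) (hy : ∀ i, y (P i) = P (y₀ i))
    (N₁ N₂ : ℕ) (hg : GoodTriple N₁ N₂ x₀ y₀ z₀)
    (hrest : ∀ (hxn : ∀ ω, x ω ∉ Set.range P ↔ ω ∉ Set.range P)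
      (hyn : ∀ ω, y ω ∉ Set.range P ↔ ω ∉ Set.range P),
      Q (res x (fun ω => ω ∉ Set.range P) hxn) (res y (fun ω => ω ∉ Set.range P) hyn)) :
    Q x y := by
  have hxn := range_inv x hA.x2 P x₀ hx
  have hyn := range_inv y hA.y2 P y₀ hy
  have hxp := atom_range_mem x P hxn
  have hyp := atom_range_mem y P hyn
  refine Q_of_split x y (fun ω => ω ∈ Set.range P) hxp hyp hxn hyn ?_ (hrest hxn hyn)
  exact atom_Q_res x y (fun ω => ω ∈ Set.range P) hxp hyp (Equiv.ofInjective P hP) x₀ y₀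
    (atom_res_eq x P hP x₀ hx hxp) (atom_res_eq y P hP y₀ hy hyp) (Q_of_goodTriple hg)

end Cfsg.Agent.S3265P
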