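import Mathlib
import Cfsg.Agent.Helper18.S3265Defs

/-!
# S3265, piece C4NF: the normal form of the exceptional configuration on four points
-/

set_option autoImplicit false

namespace Cfsg.Agent.S3265P

open Equiv

theorem c4nf_c4x_vals : c4x 0 = 1 ∧ c4x 1 = 0 ∧ c4x 2 = 3 ∧ c4x 3 = 2 := by decide

theorem c4nf_c4y_vals : c4y 0 = 3 ∧ c4y 1 = 2 ∧ c4y 2 = 1 ∧ c4y 3 = 0 := by decide

theorem exc_normal_form {Ω : Type*} [Fintype Ω] [DecidableEq Ω] (x y : Perm Ω) (hA : Adm x y)
    (h : Exc x y) :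
    ∃ c : Fin 4 → Ω, Function.Bijective c ∧ (∀ i, x (c i) = c (c4x i)) ∧
      (∀ i, y (c i) = c (c4y i)) := by
  obtain ⟨hcard, hne, hxf, hyf⟩ := h
  have hxx : ∀ ω, x (x ω) = ω := fun ω => by
    have := congrArg (fun σ : Perm Ω => σ ω) hA.x2
    simpa using this
  have hyy : ∀ ω, y (y ω) = ω := fun ω => by
    have := congrArg (fun σ : Perm Ω => σ ω) hA.y2
    simpa using this
  obtain ⟨ω, hω⟩ : ∃ ω, x ω ≠ y ω := by
    by_contra hcon
    push Not at hcon
    exact hne (Equiv.ext hcon)
  set c0 := ω with hc0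
  set c1 := x c0 with hc1
  set c2 := y c1 with hc2
  set c3 := x c2 with hc3
  have h01 : c0 ≠ c1 := fun e => hxf c0 e.symm
  have h12 : c1 ≠ c2 := fun e => hyf c1 e.symm
  have h23 : c2 ≠ c3 := fun e => hxf c2 e.symm
  have h02 : c0 ≠ c2 := by
    intro e
    apply hω
    -- y c1 = c0, so y c0 = c1 = x c0
    have h1 : y c0 = c1 := by
      have : y c1 = c0 := e.symm
      rw [← this, hyy]
    rw [h1]
  have h13 : c1 ≠ c3 := by
    intro e
    -- x c0 = x c2
    exact h02 (x.injective e)
  have h03 : c0 ≠ c3 := by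
    intro e
    -- c0 = x c2, so c2 = x c0 = c1
    have h1 : x c0 = c2 := by
      rw [e, hc3, hxx]
    exact h12 h1
  set c : Fin 4 → Ω := ![c0, c1, c2, c3] with hc
  have hinj : Function.Injective c := by
    intro i j hij
    fin_cases i <;> fin_cases j <;> simp [hc] at hij ⊢ <;>
      first
        | exact absurd hij h01 | exact absurd hij h02 | exact absurd hij h03
        | exact absurd hij h12 | exact absurd hij h13 | exact absurd hij h23
        | exact absurd hij.symm h01 | exact absurd hij.symm h02 | exact absurd hij.symm h03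
        | exact absurd hij.symm h12 | exact absurd hij.symm h13 | exact absurd hij.symm h23
  have hbij : Function.Bijective c := by
    rw [Fintype.bijective_iff_injective_and_card]
    exact ⟨hinj, by rw [hcard]; rfl⟩
  -- `y c3 = c0`
  have hy3 : y c3 = c0 := by
    obtain ⟨i, hi⟩ := hbij.2 (y c3)
    fin_cases i
    · exact hi.symm
    · exfalso
      -- y c3 = c1 ⇒ c3 = y c1 = c2
      have h1 : c3 = c2 := by
        have : y c3 = c1 := hi.symm
        rw [hc2, ← this, hyy]
      exact h23 h1.symm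
    · exfalso
      -- y c3 = c2 ⇒ c3 = y c2 = c1
      have h1 : c3 = c1 := by
        have h2 : y c3 = c2 := hi.symm
        have h3 : y c2 = c1 := by rw [hc2, hyy]
        rw [← h3, ← h2, hyy]
      exact h13 h1.symm
    · exfalso
      exact hyf c3 hi.symm
  have hy0 : y c0 = c3 := by rw [← hy3, hyy]
  obtain ⟨hx0, hx1, hx2, hx3⟩ := c4nf_c4x_vals
  obtain ⟨hY0, hY1, hY2, hY3⟩ := c4nf_c4y_vals
  refine ⟨c, hbij, ?_, ?_⟩
  · intro i
    fin_cases i
    · show x c0 = c (c4x 0)
      rw [hx0]; rfl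
    · show x c1 = c (c4x 1)
      rw [hx1]; exact hxx c0
    · show x c2 = c (c4x 2)
      rw [hx2]; rfl
    · show x c3 = c (c4x 3)
      rw [hx3]; exact hxx c2
  · intro i
    fin_cases i
    · show y c0 = c (c4y 0)
      rw [hY0]; exact hy0
    · show y c1 = c (c4y 1)
      rw [hY1]; rfl
    · show y c2 = c (c4y 2)
      rw [hY2]; exact hyy c1
    · show y c3 = c (c4y 3)
      rw [hY3]; exact hy3

end Cfsg.Agent.S3265P
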