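import Mathlib
import Cfsg.Prelude.Def_GeometricClasses
import Cfsg.Agent.Helper19.Mono.Defs

/-! S5634 piece ROWCLR: if column `k` of `g ∈ H` is `e_k` then so is row `k`. -/

set_option autoImplicit false

namespace Cfsg.Agent.MonoP

open Matrix

variable {ι : Type} [Fintype ι] [DecidableEq ι] {K : Type*} [Field K] [Fintype K]

namespace ROWCLR

/-- the matrix `1 + e_k ρ` -/
def T (k : ι) (ρ : ι → K) : Matrix ι ι K := 1 + Matrix.vecMulVec (Pi.single k (1 : K)) ρ

omit [Fintype ι] [Fintype K] in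
theorem T_apply (k : ι) (ρ : ι → K) (i j : ι) :
    T k ρ i j = (1 : Matrix ι ι K) i j + (if i = k then ρ j else 0) := by
  unfold T
  rw [Matrix.add_apply, Matrix.vecMulVec_apply, Pi.single_apply]
  split_ifs <;> simp

omit [Fintype K] in
theorem isMono_dg (d : ι → Kˣ) : IsMono ((dg d : GL ι K) : Matrix ι ι K) := by
  refine ⟨1, ?_⟩
  intro i j hij
  rw [dg_val]
  exact Matrix.diagonal_apply_ne _ hij

omit [Fintype K] in
theorem d1_eq_diag (k : ι) (η : Kˣ) : ((d1 k η : GL ι K) : Matrix ι ι K) =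
    Matrix.diagonal (fun i => if i = k then (η : K) else 1) := by
  unfold d1
  rw [dg_val]
  congr 1
  funext i
  rw [Function.update_apply]
  split_ifs <;> simp

omit [Fintype K] in
theorem d1_inv_eq_diag (k : ι) (η : Kˣ) : (((d1 k η)⁻¹ : GL ι K) : Matrix ι ι K) =
    Matrix.diagonal (fun i => if i = k then ((η⁻¹ : Kˣ) : K) else 1) := by
  unfold d1
  rw [dg_inv_val]
  congr 1
  funext i
  rw [Function.update_apply]
  split_ifs <;> simp

omit [Fintype K] in
theorem d1_eq (k : ι) (η : Kˣ) : ((d1 k η : GL ι K) : Matrix ι ι K) =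
    1 + ((η : K) - 1) • Matrix.vecMulVec (Pi.single k (1 : K)) (Pi.single k (1 : K)) := by
  rw [d1_eq_diag]
  ext i j
  rw [Matrix.add_apply, Matrix.smul_apply, Matrix.vecMulVec_apply, Pi.single_apply,
    Pi.single_apply, Matrix.one_apply, Matrix.diagonal_apply]
  by_cases hij : i = j
  · subst hij
    by_cases hik : i = k
    · simp [hik]
    · simp [hik]
  · by_cases hik : i = k
    · subst hik
      simp [hij, Ne.symm hij]
    · simp [hij, hik]

omit [Fintype K] in
theorem conj_d1 (g : GL ι K) (k : ι) (η : Kˣ)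
    (hcol : ∀ i, (g : Matrix ι ι K) i k = (1 : Matrix ι ι K) i k) :
    ((g⁻¹ : GL ι K) : Matrix ι ι K) * ((d1 k η : GL ι K) : Matrix ι ι K) * (g : Matrix ι ι K) =
      1 + ((η : K) - 1) •
        Matrix.vecMulVec (Pi.single k (1 : K)) (fun j => (g : Matrix ι ι K) k j) := by
  have h1 : (g : Matrix ι ι K) *ᵥ Pi.single k (1 : K) = Pi.single k (1 : K) := by
    rw [Matrix.mulVec_single_one]
    funext i
    rw [Matrix.col_apply, hcol i, Matrix.one_apply, Pi.single_apply]
  have h2 : ((g⁻¹ : GL ι K) : Matrix ι ι K) *ᵥ Pi.single k (1 : K) = Pi.single k (1 : K) := by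
    conv_lhs => rw [← h1]
    rw [Matrix.mulVec_mulVec, ← Units.val_mul, inv_mul_cancel, Units.val_one, Matrix.one_mulVec]
  have h3 : Pi.single k (1 : K) ᵥ* (g : Matrix ι ι K) = fun j => (g : Matrix ι ι K) k j := by
    rw [Matrix.single_one_vecMul]
    rfl
  rw [d1_eq, Matrix.mul_add, Matrix.add_mul, Matrix.mul_one, ← Units.val_mul, inv_mul_cancel,
    Units.val_one, Matrix.mul_smul, Matrix.smul_mul, Matrix.mul_vecMulVec, Matrix.vecMulVec_mul,
    h2, h3]

omit [Fintype K] in
theorem comm_val (g : GL ι K) (k : ι) (η : Kˣ)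
    (hcol : ∀ i, (g : Matrix ι ι K) i k = (1 : Matrix ι ι K) i k) :
    ((g⁻¹ * d1 k η * g * (d1 k η)⁻¹ : GL ι K) : Matrix ι ι K) =
      T k (fun j => if j = k then 0 else ((η : K) - 1) * (g : Matrix ι ι K) k j) := by
  rw [Units.val_mul, Units.val_mul, Units.val_mul, conj_d1 g k η hcol, d1_inv_eq_diag]
  ext i j
  rw [Matrix.mul_diagonal, Matrix.add_apply, Matrix.smul_apply, Matrix.vecMulVec_apply,
    Pi.single_apply, T_apply, Matrix.one_apply]
  have hkk : (g : Matrix ι ι K) k k = 1 := by rw [hcol k, Matrix.one_apply_eq]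
  have hη : (η : K) * ((η⁻¹ : Kˣ) : K) = 1 := by rw [← Units.val_mul, mul_inv_cancel, Units.val_one]
  by_cases hjk : j = k
  · subst hjk
    by_cases hij : i = j
    · subst hij
      simp only [if_true, hkk, smul_eq_mul, mul_one]
      rw [add_zero]
      linear_combination hη
    · simp [hij]
  · by_cases hik : i = k
    · subst hik
      simp [hjk, Ne.symm hjk]
    · simp [hjk, hik]

omit [Fintype K] in
theorem conj_T (k l : ι) (hkl : k ≠ l) (η : Kˣ) (ρ : ι → K) (hρ : ρ k = 0) :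
    ((d1 l η : GL ι K) : Matrix ι ι K) * T k ρ * (((d1 l η)⁻¹ : GL ι K) : Matrix ι ι K) =
      T k ρ * Matrix.transvection k l (ρ l * (((η⁻¹ : Kˣ) : K) - 1)) := by
  rw [d1_eq_diag, d1_inv_eq_diag]
  ext i j
  rw [Matrix.mul_diagonal, Matrix.diagonal_mul, Matrix.transvection, Matrix.mul_add, Matrix.mul_one,
    Matrix.add_apply]
  have hη : (η : K) * ((η⁻¹ : Kˣ) : K) = 1 := by rw [← Units.val_mul, mul_inv_cancel, Units.val_one]
  by_cases hjl : j = l
  · subst hjl
    rw [Matrix.mul_single_apply_same, T_apply, T_apply, if_pos rfl, Matrix.one_apply, Matrix.one_apply]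
    by_cases hik : i = k
    · subst hik
      simp only [if_true, hρ, add_zero, if_neg hkl]
      ring
    · by_cases hij : i = j
      · subst hij
        simp only [if_true, if_neg hik, add_zero, zero_mul]
        rw [mul_comm, ← mul_assoc, mul_comm _ (η : K), hη]
        ring
      · simp [hik, hij]
  · rw [Matrix.mul_single_apply_of_ne (hbj := hjl), T_apply, if_neg hjl, Matrix.one_apply]
    by_cases hik : i = k
    · subst hik
      simp [hkl]
    · by_cases hil : i = l
      · subst hil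
        have : ¬ i = j := fun h => hjl h.symm
        simp [hik, this]
      · simp [hik, hil]

end ROWCLR

theorem ROWCLR.row_eq (hK : 3 ≤ Fintype.card K) (H : Subgroup (GL ι K)) (hmon : MonoLE H) (hE : ¬ HasE H)
    (g : GL ι K) (hg : g ∈ H) (k : ι) (hcol : ∀ i, (g : Matrix ι ι K) i k = (1 : Matrix ι ι K) i k) :
    ∀ j, (g : Matrix ι ι K) k j = (1 : Matrix ι ι K) k j := by
  classical
  intro l
  by_cases hlk : l = k
  · subst hlk
    exact hcol l
  rw [Matrix.one_apply_ne (Ne.symm hlk)]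
  by_contra hne
  -- a unit different from one
  obtain ⟨η, hη⟩ : ∃ η : Kˣ, η ≠ 1 := by
    apply Fintype.exists_ne_of_one_lt_card
    rw [Fintype.card_units]
    omega
  have hη1 : (η : K) ≠ 1 := fun h => hη (Units.ext h)
  have hη2 : ((η⁻¹ : Kˣ) : K) ≠ 1 := by
    intro h
    apply hη
    have : η⁻¹ = 1 := Units.ext h
    rw [inv_eq_one] at this
    exact this
  have hd : ∀ (i : ι) (ζ : Kˣ), d1 i ζ ∈ H := fun i ζ => hmon _ (ROWCLR.isMono_dg _)
  set c : GL ι K := g⁻¹ * d1 k η * g * (d1 k η)⁻¹ with hc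
  have hcH : c ∈ H :=
    H.mul_mem (H.mul_mem (H.mul_mem (H.inv_mem hg) (hd k η)) hg) (H.inv_mem (hd k η))
  set ρ : ι → K := fun j => if j = k then 0 else ((η : K) - 1) * (g : Matrix ι ι K) k j with hρ
  have hcv : (c : Matrix ι ι K) = ROWCLR.T k ρ := ROWCLR.comm_val g k η hcol
  have hρk : ρ k = 0 := by rw [hρ]; simp
  have hρl : ρ l = ((η : K) - 1) * (g : Matrix ι ι K) k l := by
    rw [hρ]; simp [hlk]
  apply hE
  refine ⟨k, l, Ne.symm hlk, ρ l * (((η⁻¹ : Kˣ) : K) - 1), ?_, c⁻¹ * (d1 l η * c * (d1 l η)⁻¹), ?_, ?_⟩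
  · rw [hρl]
    exact mul_ne_zero (mul_ne_zero (sub_ne_zero.mpr hη1) hne) (sub_ne_zero.mpr hη2)
  · exact H.mul_mem (H.inv_mem hcH) (H.mul_mem (H.mul_mem (hd l η) hcH) (H.inv_mem (hd l η)))
  · rw [Units.val_mul, Units.val_mul, Units.val_mul, hcv,
      ROWCLR.conj_T k l (Ne.symm hlk) η ρ hρk, ← hcv, ← Matrix.mul_assoc, ← Units.val_mul,
      inv_mul_cancel, Units.val_one, Matrix.one_mul]

end Cfsg.Agent.MonoP
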