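import Mathlib
import Cfsg.Prelude.Def_GeometricClasses
import Cfsg.Agent.Helper18.S5707.Defs

/-! S5707 piece SUPP (driver helper18; helper20 hedge): `Q` vanishes on vectors supported on
`{x | x i₁ ∈ S}`, `S` a set of pairwise `G`-orthogonal basis indices. -/

set_option autoImplicit false

namespace Cfsg.Agent.S5707P

open Matrix

variable {F : Type*} [Field F] {k t : ℕ}

/-- the polar form vanishes on pairs of supported vectors -/
theorem SUPP.polar_eq_zero {G : Matrix (Fin k) (Fin k) F} {c : F} {Q : (X k t → F) → F}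
    (hQ : StdQ G c Q) (i₁ : Fin t) (S : Set (Fin k)) (hS : ∀ a ∈ S, ∀ b ∈ S, G a b = 0)
    (u v : X k t → F) (hu : ∀ x, x i₁ ∉ S → u x = 0) (hv : ∀ x, x i₁ ∉ S → v x = 0) :
    QuadraticMap.polar Q u v = 0 := by
  rw [hQ.polar]
  have : ∀ a b : X k t, u a * (∏ i, G (a i) (b i)) * v b = 0 := by
    intro a b
    by_cases ha : a i₁ ∈ S
    · by_cases hb : b i₁ ∈ S
      · rw [Finset.prod_eq_zero (Finset.mem_univ i₁) (hS _ ha _ hb), mul_zero, zero_mul]
      · rw [hv b hb, mul_zero]
    · rw [hu a ha, zero_mul, zero_mul]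
  simp only [this, Finset.sum_const_zero, mul_zero]

/-- `Q` is additive on supported vectors -/
theorem SUPP.add_eq {G : Matrix (Fin k) (Fin k) F} {c : F} {Q : (X k t → F) → F}
    (hQ : StdQ G c Q) (i₁ : Fin t) (S : Set (Fin k)) (hS : ∀ a ∈ S, ∀ b ∈ S, G a b = 0)
    (u v : X k t → F) (hu : ∀ x, x i₁ ∉ S → u x = 0) (hv : ∀ x, x i₁ ∉ S → v x = 0) :
    Q (u + v) = Q u + Q v := by
  have h := SUPP.polar_eq_zero hQ i₁ S hS u v hu hv
  unfold QuadraticMap.polar at h
  have h2 : Q (u + v) = (Q (u + v) - Q u - Q v) + Q u + Q v := by ring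
  rw [h2, h, zero_add]

/-- `Q` vanishes on the standard basis vectors -/
theorem SUPP.single_eq_zero {G : Matrix (Fin k) (Fin k) F} {c : F} {Q : (X k t → F) → F}
    (hQ : StdQ G c Q) (x : X k t) : Q (Pi.single x 1) = 0 := by
  have h := hQ.pure (fun i => (Pi.single (x i) 1 : Fin k → F))
  have h2 : (fun a : X k t => ∏ i, (Pi.single (x i) 1 : Fin k → F) (a i)) = Pi.single x 1 := by
    funext a
    by_cases hax : a = x
    · subst hax
      simp
    · rw [Pi.single_apply, if_neg hax]
      obtain ⟨i, hi⟩ : ∃ i, a i ≠ x i := by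
        by_contra hcon
        push Not at hcon
        exact hax (funext hcon)
      exact Finset.prod_eq_zero (Finset.mem_univ i) (by rw [Pi.single_apply, if_neg hi])
  rw [h2] at h
  exact h

theorem SUPP.eq_zero {G : Matrix (Fin k) (Fin k) F} {c : F} {Q : (X k t → F) → F} (hQ : StdQ G c Q)
    (i₁ : Fin t) (S : Set (Fin k)) (hS : ∀ a ∈ S, ∀ b ∈ S, G a b = 0) (w : X k t → F)
    (hw : ∀ x, x i₁ ∉ S → w x = 0) : Q w = 0 := by
  classical
  have key : ∀ T : Finset (X k t), Q (fun y => if y ∈ T then w y else 0) = 0 := by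
    intro T
    induction T using Finset.induction_on with
    | empty =>
      have h0 : (fun y : X k t => if y ∈ (∅ : Finset (X k t)) then w y else 0) = (0 : F) • (0 : X k t → F) := by
        funext y; simp
      rw [h0, hQ.smul]
      ring
    | insert x T hxT ih =>
      have hsplit : (fun y : X k t => if y ∈ insert x T then w y else 0) =
          (w x • (Pi.single x 1 : X k t → F)) + (fun y => if y ∈ T then w y else 0) := by
        funext y
        by_cases hyx : y = x
        · subst hyx
          simp [hxT]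
        · simp [Finset.mem_insert, hyx]
      rw [hsplit, SUPP.add_eq hQ i₁ S hS, ih, add_zero, hQ.smul, SUPP.single_eq_zero hQ, mul_zero]
      · intro y hy
        by_cases hyx : y = x
        · subst hyx
          simp [hw y hy]
        · simp [hyx]
      · intro y hy
        simp [hw y hy]
  have := key Finset.univ
  simpa using this

end Cfsg.Agent.S5707P
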