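import Mathlib
import Cfsg.Prelude.Def_GeometricClasses
import Cfsg.Prelude.Def_Classical
import Cfsg.Prelude.Def_LieClassical
import Cfsg.Agent.Helper23.S5984Defs

set_option autoImplicit false
open scoped MatrixGroups Matrix

/-! # S5954 (driver helper20): shared definitions.

`PSU_n(q)` on non-degenerate `m`-spaces.  Everything lives in `F^n = Fin n → F`, `|F| = q²`, with the form
`h = Cfsg.hermForm n F q`; `NonDeg q W`, `perpL q W` are helper2's (`Cfsg.Agent.Helper2.SUGen`), `Pres x` is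
`Cfsg.Agent.S2644.Pres`, `kd x μ` (eigenspace dimension) is helper23's (`Cfsg.Agent.S5984P`). -/

namespace Cfsg.Agent.S5954P

open Cfsg.Agent.S2644 Cfsg.Agent.Helper2.SUGen Cfsg.Agent.Helper28.UPair Cfsg.Agent.S5984P

variable {F : Type*} [Field F] {q n : ℕ}

/-- `W` is invariant under the matrix `x` -/
def Inv (x : Matrix (Fin n) (Fin n) F) (W : Submodule F (Fin n → F)) : Prop :=
  ∀ w ∈ W, x *ᵥ w ∈ W

theorem inv_iff_map (x : Matrix (Fin n) (Fin n) F) (W : Submodule F (Fin n → F)) :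
    W.map (Matrix.toLin' x) ≤ W ↔ Inv x W := by
  constructor
  · intro h w hw
    have : Matrix.toLin' x w ∈ W := h ⟨w, hw, rfl⟩
    rwa [Matrix.toLin'_apply] at this
  · rintro h _ ⟨w, hw, rfl⟩
    rw [Matrix.toLin'_apply]
    exact h w hw

/-- `U` and `W` are orthogonal -/
def Orth (q : ℕ) (U W : Submodule F (Fin n → F)) : Prop :=
  ∀ u ∈ U, ∀ w ∈ W, Cfsg.hermForm n F q u w = 0

/-- the non-degeneracy of the frozen statement is helper2's `NonDeg` -/
theorem nonDeg_iff (W : Submodule F (Fin n → F)) :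
    NonDeg q W ↔ ∀ u ∈ W, u ≠ 0 → ∃ v ∈ W, Cfsg.hermForm n F q u v ≠ 0 := by
  constructor
  · intro h u hu hu0
    by_contra hcon
    push Not at hcon
    exact hu0 (h u hu hcon)
  · intro h y hy hall
    by_contra hy0
    obtain ⟨v, hv, hne⟩ := h y hy hy0
    exact hne (hall v hv)

/-- `x` fixes a non-degenerate `m`-space -/
def Good (q m : ℕ) (x : Matrix (Fin n) (Fin n) F) : Prop :=
  ∃ W : Submodule F (Fin n → F), Module.finrank F W = m ∧ NonDeg q W ∧ Inv x W

theorem good_iff (m : ℕ) (x : Matrix (Fin n) (Fin n) F) :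
    Good q m x ↔ ∃ W : Submodule F (Fin n → F), Module.finrank F W = m ∧
      (∀ u ∈ W, u ≠ 0 → ∃ v ∈ W, Cfsg.hermForm n F q u v ≠ 0) ∧
      W.map (Matrix.toLin' x) ≤ W := by
  constructor
  · rintro ⟨W, h1, h2, h3⟩
    exact ⟨W, h1, (nonDeg_iff W).mp h2, (inv_iff_map x W).mpr h3⟩
  · rintro ⟨W, h1, h2, h3⟩
    exact ⟨W, h1, (nonDeg_iff W).mpr h2, (inv_iff_map x W).mp h3⟩

theorem inv_smul (w : F) (hw : w ≠ 0) (x : Matrix (Fin n) (Fin n) F)
    (W : Submodule F (Fin n → F)) : Inv (w • x) W ↔ Inv x W := by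
  constructor
  · intro h v hv
    have h1 := h v hv
    rw [Matrix.smul_mulVec] at h1
    have h2 := W.smul_mem w⁻¹ h1
    rwa [smul_smul, inv_mul_cancel₀ hw, one_smul] at h2
  · intro h v hv
    rw [Matrix.smul_mulVec]
    exact W.smul_mem w (h v hv)

theorem good_smul (m : ℕ) (w : F) (hw : w ≠ 0) (x : Matrix (Fin n) (Fin n) F) :
    Good q m (w • x) ↔ Good q m x := by
  constructor
  · rintro ⟨W, h1, h2, h3⟩
    exact ⟨W, h1, h2, (inv_smul w hw x W).mp h3⟩
  · rintro ⟨W, h1, h2, h3⟩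
    exact ⟨W, h1, h2, (inv_smul w hw x W).mpr h3⟩

/-- every isometry of determinant one whose `r`-th power is a scalar, non-scalar itself, fixes a
non-degenerate `m`-space -/
def AllGood (F : Type*) [Field F] (q n m r : ℕ) : Prop :=
  ∀ x : Matrix (Fin n) (Fin n) F, Pres (q := q) x → x.det = 1 →
    (∃ z : F, x ^ r = z • (1 : Matrix (Fin n) (Fin n) F)) →
    (∀ z : F, x ≠ z • (1 : Matrix (Fin n) (Fin n) F)) → Good q m x

/-- the dimension of the minimal non-degenerate blocks: `i`, `i/2`, `2i` for `i ≡ 0, 2 (mod 4)`, `i` odd -/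
def cU (i : ℕ) : ℕ := if i % 4 = 0 then i else if i % 4 = 2 then i / 2 else 2 * i

/-- `ε_j = q^j - (-1)^j` -/
def eps (q j : ℕ) : ℕ := if Even j then q ^ j - 1 else q ^ j + 1

/-- `E` is a cyclic subspace for the endomorphism `N` -/
def IsCyc {V : Type*} [AddCommGroup V] [Module F V] (N : Module.End F V) (E : Submodule F V) : Prop :=
  ∃ v : V, E = Submodule.span F (Set.range fun a : ℕ => (N ^ a) v)

/-- a scalar multiple by a norm-one scalar of an isometry is an isometry -/
theorem pres_smul (D : Frob F q) (w : F) (hw : w ^ (q + 1) = 1) (x : Matrix (Fin n) (Fin n) F)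
    (hx : Pres (q := q) x) : Pres (q := q) (w • x) := by
  intro u v
  rw [Matrix.smul_mulVec, Matrix.smul_mulVec, h_smul_left, h_smul_right D, hx u v, D.pow,
    ← mul_assoc, ← pow_succ', hw, one_mul]

end Cfsg.Agent.S5954P
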