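import Mathlib
import Cfsg.Prelude.Def_GeometricClasses
import Cfsg.Agent.Helper19.Mono.Defs

/-! S5634 piece SMALL. -/

set_option autoImplicit false

namespace Cfsg.Agent.MonoP

open Matrix

variable {ι : Type} [Fintype ι] [DecidableEq ι] {K : Type*} [Field K] [Fintype K]

theorem SMALL.isMono (A : Finset ι) (hA : A.card ≤ 1) (g : Matrix ι ι K) (hg : SuppOn A g) : IsMono g := by
  refine ⟨1, ?_⟩
  intro i j hij
  have hij' : i ≠ j := hij
  have h : i ∉ A ∨ j ∉ A := by
    by_contra hcon
    push Not at hcon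
    exact hij' (Finset.card_le_one.mp hA i hcon.1 j hcon.2)
  rw [hg i j h, Matrix.one_apply_ne hij']

end Cfsg.Agent.MonoP
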