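import Mathlib
import Cfsg.Prelude.Def_GeometricClasses
import Cfsg.Agent.Helper19.Mono.Defs
import Cfsg.Agent.Helper28.LinDecompNM

/-! S5634 piece STDFRAME: a decomposition into lines is conjugate to the standard frame. -/

set_option autoImplicit false

namespace Cfsg.Agent.MonoP

open Matrix

variable {ι : Type} [Fintype ι] [DecidableEq ι] {K : Type*} [Field K] [Fintype K]

theorem STDFRAME.exists_conj {n t : ℕ} (D : Fin t → Submodule K (Fin n → K))
    (hD : Cfsg.Geo.IsMDecomposition 1 D) :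
    ∃ B : GL (Fin n) K, ∀ g : GL (Fin n) K,
      g ∈ Cfsg.Geo.decompositionStabilizer D ↔
        IsMono ((B⁻¹ * g * B : GL (Fin n) K) : Matrix (Fin n) (Fin n) K) := by
  classical
  obtain ⟨b, hb1, hb2⟩ := Cfsg.Agent.Helper28.LinNM.exists_adapted_basis D hD
  have htn : t = n := by
    have h1 := Module.finrank_eq_card_basis b
    rw [Module.finrank_fin_fun] at h1
    simpa using h1.symm
  subst htn
  let b' : Module.Basis (Fin t) K (Fin t → K) := b.reindex (Equiv.prodUnique (Fin t) (Fin 1))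
  have hb' : ∀ i, b' i = b (i, 0) := by
    intro i
    show b.reindex (Equiv.prodUnique (Fin t) (Fin 1)) i = _
    rw [Module.Basis.reindex_apply]
    rfl
  have hDspan : ∀ i, D i = Submodule.span K {b' i} := by
    intro i
    apply le_antisymm
    · intro w hw
      have hmem : b' i ∈ D i := by rw [hb']; exact hb1 i 0
      have hne : (⟨b' i, hmem⟩ : D i) ≠ 0 := by
        intro h
        exact b'.ne_zero i (congrArg Subtype.val h)
      obtain ⟨c, hc⟩ := (finrank_eq_one_iff_of_nonzero' _ hne).mp (hD.finrank_eq i) ⟨w, hw⟩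
      rw [Submodule.mem_span_singleton]
      exact ⟨c, congrArg Subtype.val hc⟩
    · rw [Submodule.span_singleton_le_iff_mem, hb']
      exact hb1 i 0
  let Bm : Matrix (Fin t) (Fin t) K := (Pi.basisFun K (Fin t)).toMatrix b'
  have hBm : ∀ i j, Bm i j = b' j i := by
    intro i j
    show (Pi.basisFun K (Fin t)).toMatrix b' i j = _
    rw [Module.Basis.toMatrix_apply, Pi.basisFun_repr]
  let B : GL (Fin t) K := ⟨Bm, b'.toMatrix (Pi.basisFun K (Fin t)),
    Module.Basis.toMatrix_mul_toMatrix_flip _ _, Module.Basis.toMatrix_mul_toMatrix_flip _ _⟩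
  have hBv : (B : Matrix (Fin t) (Fin t) K) = Bm := rfl
  have hB1 : ∀ j, (B : Matrix (Fin t) (Fin t) K) *ᵥ Pi.single j 1 = b' j := by
    intro j
    funext i
    rw [Matrix.mulVec_single_one, Matrix.col_apply, hBv]
    exact hBm i j
  have hB2 : ∀ j, ((B⁻¹ : GL (Fin t) K) : Matrix (Fin t) (Fin t) K) *ᵥ b' j = Pi.single j 1 := by
    intro j
    rw [← hB1 j, Matrix.mulVec_mulVec, ← Units.val_mul, inv_mul_cancel, Units.val_one,
      Matrix.one_mulVec]
  have hcolM : ∀ (g : GL (Fin t) K) (j : Fin t),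
      (fun i => ((B⁻¹ * g * B : GL (Fin t) K) : Matrix (Fin t) (Fin t) K) i j) =
        ((B⁻¹ : GL (Fin t) K) : Matrix (Fin t) (Fin t) K) *ᵥ ((g : Matrix (Fin t) (Fin t) K) *ᵥ b' j) := by
    intro g j
    rw [← hB1 j, Matrix.mulVec_mulVec, Matrix.mulVec_mulVec, ← Units.val_mul, ← Units.val_mul,
      Matrix.mulVec_single_one]
    rfl
  refine ⟨B, fun g => ⟨?_, ?_⟩⟩
  · rintro ⟨σ, hσ⟩
    refine ⟨σ, fun i j hij => ?_⟩
    have hmem : (g : Matrix (Fin t) (Fin t) K) *ᵥ b' j ∈ D (σ j) := by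
      rw [← hσ j]
      refine ⟨b' j, ?_, Matrix.toLin'_apply _ _⟩
      rw [hDspan j]
      exact Submodule.mem_span_singleton_self _
    rw [hDspan (σ j), Submodule.mem_span_singleton] at hmem
    obtain ⟨c, hc⟩ := hmem
    have h1 := congrFun (hcolM g j) i
    rw [h1, ← hc, Matrix.mulVec_smul, hB2, Pi.smul_apply, Pi.single_apply, if_neg hij, smul_zero]
  · rintro ⟨τ, hτ⟩
    refine ⟨τ, fun j => ?_⟩
    obtain ⟨M, hM⟩ : ∃ M : Matrix (Fin t) (Fin t) K,
        M = ((B⁻¹ * g * B : GL (Fin t) K) : Matrix (Fin t) (Fin t) K) := ⟨_, rfl⟩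
    rw [← hM] at hτ
    have hcol : (fun i => M i j) = M (τ j) j • Pi.single (τ j) (1 : K) := by
      funext i
      rw [Pi.smul_apply, Pi.single_apply]
      by_cases h : i = τ j
      · rw [if_pos h, h]; simp
      · rw [if_neg h, hτ i j h]; simp
    have hgb : (g : Matrix (Fin t) (Fin t) K) *ᵥ b' j = M (τ j) j • b' (τ j) := by
      have h1 : (B : Matrix (Fin t) (Fin t) K) *ᵥ (((B⁻¹ : GL (Fin t) K) : Matrix (Fin t) (Fin t) K) *ᵥ
          ((g : Matrix (Fin t) (Fin t) K) *ᵥ b' j)) = (g : Matrix (Fin t) (Fin t) K) *ᵥ b' j := by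
        rw [Matrix.mulVec_mulVec, ← Units.val_mul, mul_inv_cancel, Units.val_one, Matrix.one_mulVec]
      rw [← h1, ← hcolM g j, ← hM, hcol, Matrix.mulVec_smul, hB1]
    have hc0 : M (τ j) j ≠ 0 := by
      intro h0
      rw [h0, zero_smul] at hgb
      apply b'.ne_zero j
      have h2 := congrArg (fun v => ((g⁻¹ : GL (Fin t) K) : Matrix (Fin t) (Fin t) K) *ᵥ v) hgb
      simpa [Matrix.mulVec_mulVec, ← Units.val_mul] using h2
    rw [hDspan j, hDspan (τ j), Submodule.map_span, Set.image_singleton, Matrix.toLin'_apply, hgb]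
    exact Submodule.span_singleton_smul_eq (IsUnit.mk0 _ hc0) _

end Cfsg.Agent.MonoP
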