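import Mathlib

set_option autoImplicit false

namespace Cfsg.Agent.S2607P

/-- M4-P4: over a finite field of odd cardinality there is a non-square unit. -/
theorem exists_nonsquare {F : Type*} [Field F] [Finite F] (h2 : (2 : F) ≠ 0) :
    ∃ x : Fˣ, ∀ u : Fˣ, x ≠ u ^ 2 := by
  by_contra hcon
  push Not at hcon
  have hsurj : Function.Surjective (fun u : Fˣ => u ^ 2) := by
    intro x
    obtain ⟨u, hu⟩ := hcon x
    exact ⟨u, hu.symm⟩
  have hinj : Function.Injective (fun u : Fˣ => u ^ 2) :=
    Finite.injective_iff_surjective.mpr hsurj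
  have h1 : (-1 : Fˣ) = 1 := by
    apply hinj
    simp
  have h3 : ((-1 : Fˣ) : F) = ((1 : Fˣ) : F) := by rw [h1]
  apply h2
  have h4 : (-1 : F) = 1 := by simpa using h3
  calc (2 : F) = 1 + 1 := by norm_num
    _ = -1 + 1 := by rw [h4]
    _ = 0 := by ring

end Cfsg.Agent.S2607P
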