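import Mathlib

set_option autoImplicit false

namespace Cfsg.Agent.S2607P

/-- M4-P5: over a finite field of characteristic two every unit is a square. -/
theorem exists_sqrt_char_two {F : Type*} [Field F] [Finite F] (h2 : (2 : F) = 0) (x : Fˣ) :
    ∃ u : Fˣ, x = u ^ 2 := by
  have hinj : Function.Injective (fun u : Fˣ => u ^ 2) := by
    intro u v huv
    have h1 : (u : F) ^ 2 = (v : F) ^ 2 := by
      have := congrArg (fun w : Fˣ => (w : F)) huv
      simpa using this
    have h3 : ((u : F) - v) ^ 2 = 0 := by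
      have : ((u : F) - v) ^ 2 = (u : F) ^ 2 + (v : F) ^ 2 - 2 * ((u : F) * v) := by ring
      rw [this, h2, h1]
      have : (v : F) ^ 2 + (v : F) ^ 2 = 2 * (v : F) ^ 2 := by ring
      rw [this, h2]
      ring
    have h4 : (u : F) - v = 0 := by
      exact pow_eq_zero_iff (two_ne_zero) |>.mp h3
    exact Units.ext (sub_eq_zero.mp h4)
  have hsurj : Function.Surjective (fun u : Fˣ => u ^ 2) :=
    Finite.injective_iff_surjective.mp hinj
  obtain ⟨u, hu⟩ := hsurj x
  exact ⟨u, hu.symm⟩

end Cfsg.Agent.S2607P
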