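import Mathlib
import Cfsg.Agent.Helper2.S2094.DefsA
import Cfsg.Agent.Helper16.S2096YMAP
import Cfsg.Agent.Helper7.S2094CLYA
import Cfsg.Agent.Helper4.S2094YTMAP
import Cfsg.Agent.Helper23.S2094PITB
import Cfsg.Agent.Helper11.S2094CHARB
import Cfsg.Agent.Helper7.S2094LYEQUIV

set_option autoImplicit false
set_option linter.unusedSectionVars false
set_option linter.unusedVariables false

/-! S2094 chapter A, piece YTYY (helper20): the relation `yy` for the canonical lifts: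
`cm (YT a s) (YT b t) = Y a (ng b) (-(2 s t))`, by the uniqueness principle. -/

namespace Cfsg.Agent.S2094P

open Matrix Cfsg.Agent.S3352P Cfsg.Agent.S3351P Cfsg.Agent.S2096P Cfsg.Agent.S2086P
open scoped commutatorElement

variable {n : ℕ} {F : Type*} [Field F] [Fintype F] {G : Type*} [Group G] {E : Type*} [Group E]
  {X : J n → J n → F → G} {Ys : J n → F → G}

namespace YTYY

/-- the diagonal entries of the matrix of a torus element `tX X p q lam'` -/
theorem pi_tX_entries (π : G →* Matrix (I n) (I n) F)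
    (hπX : ∀ a b, IsRoot a b → ∀ t : F, π (X a b t) = xmB a b t) {p q : J n} (hpq : IsRoot p q)
    {l : F} (hl : l ≠ 0) :
    π (tX X p q l) o0 o0 = 1 ∧ ∀ c : J n, π (tX X p q l) (Sum.inr c) (Sum.inr c) = ev p q c l := by
  rw [pi_tX_B π hπX hpq hl]
  unfold blkB
  refine ⟨?_, fun c => ?_⟩
  · show Matrix.fromBlocks _ _ _ _ (Sum.inl ()) (Sum.inl ()) = _
    rw [Matrix.fromBlocks_apply₁₁, Matrix.one_apply_eq]
  · rw [Matrix.fromBlocks_apply₂₂, Matrix.diagonal_apply_eq]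

theorem tX_mem_HhB {p q : J n} (hpq : IsRoot p q) {l : F} (hl : l ≠ 0) :
    tX X p q l ∈ HhB X Ys :=
  Subgroup.subset_closure (Or.inl ⟨p, q, l, hpq, hl, rfl⟩)

/-- the eigenvalue `1` of `tX X p q l` at an index away from `±p`, `±q` -/
theorem ev_of_ne {p q c : J n} (l : F) (h1 : c ≠ p) (h2 : c ≠ ng q) (h3 : c ≠ q) (h4 : c ≠ ng p) :
    ev p q c l = 1 := by
  unfold ev
  rw [if_neg (by push Not; exact ⟨h1, h2⟩), if_neg (by push Not; exact ⟨h3, h4⟩)]

theorem ev_self {p q : J n} (l : F) : ev p q p l = l := by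
  unfold ev
  rw [if_pos (Or.inl rfl)]

end YTYY

open YTYY in
/-- YTYY -/
theorem YT_yy (π : G →* Matrix (I n) (I n) F)
    (hπX : ∀ a b, IsRoot a b → ∀ t : F, π (X a b t) = xmB a b t)
    (hπY : ∀ a, ∀ t : F, π (Ys a t) = ymB a t) (hn : 3 ≤ n) (h2 : (2 : F) ≠ 0)
    (hB : BRel X Ys) (ψ : E →* G) (hψ : Function.Surjective ψ)
    (hc : ψ.ker ≤ Subgroup.center E) (hL : LongOK X ψ hψ hn) {lam : F} (hl0 : lam ≠ 0)
    (hl1 : lam ≠ 1) {a b : J n} (hab : IsRoot a b) (s t : F) :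
    cm (YT X Ys ψ hψ hn lam a s) (YT X Ys ψ hψ hn lam b t) =
      Y X ψ hψ hn a (ng b) (-(2 * s * t)) := by
  have hmapa := map_YT π hπX hπY hn h2 hB ψ hψ hl0 hl1 a s
  have hmapb := map_YT π hπX hπY hn h2 hB ψ hψ hl0 hl1 b t
  have h1 : cm (YT X Ys ψ hψ hn lam a s) (YT X Ys ψ hψ hn lam b t) =
      cl ψ hψ (Ys a s) (Ys b t) := by
    rw [cm_def, ← commutatorElement_def]
    exact cl_eq ψ hψ hc hmapa hmapb
  rw [h1]
  have hrn : IsRoot a (ng b) := isRoot_ng_right' hab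
  have hae : IsRoot a (th hn a b) := isRoot_left_th hn a b
  have hea : ab (th hn a b) ≠ ab a := ab_th_ne_left hn a b
  have heb : ab (th hn a b) ≠ ab b := ab_th_ne_right hn a b
  have hm1 : (-1 : F) ≠ 0 := neg_ne_zero.2 one_ne_zero
  have hχ : (-1 : F) ≠ 1 := by
    intro h
    apply h2
    have : (2 : F) = 1 - (-1) := by ring
    rw [this, h, sub_self]
  obtain ⟨e₀, he₀⟩ := hψ (tX X a (th hn a b) (-1))
  have hmem : ψ e₀ ∈ HhB X Ys := by rw [he₀]; exact tX_mem_HhB hae hm1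
  obtain ⟨hd0, hdc⟩ := pi_tX_entries (X := X) π hπX hae hm1
  -- the eigenvalues
  have hda : π (tX X a (th hn a b) (-1)) (Sum.inr a) (Sum.inr a) = -1 := by
    rw [hdc, ev_self]
  have hne_of_ab : ∀ {c d : J n}, ab c ≠ ab d → c ≠ d ∧ c ≠ ng d := by
    intro c d h
    exact ⟨fun e => h (by rw [e]), fun e => h (by rw [e, ab_ng])⟩
  have hdb : π (tX X a (th hn a b) (-1)) (Sum.inr b) (Sum.inr b) = 1 := by
    rw [hdc]
    exact ev_of_ne _ hab.1.symm (hne_of_ab heb.symm).2 (hne_of_ab heb.symm).1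
      (fun e => hab.2 (by rw [e, ng_ng]))
  have hdnb : π (tX X a (th hn a b) (-1)) (Sum.inr (ng b)) (Sum.inr (ng b)) = 1 := by
    rw [hdc]
    refine ev_of_ne _ (fun e => hab.2 e.symm) (fun e => ?_) (fun e => ?_)
      (fun e => hab.1 (ng_injective e).symm)
    · exact (hne_of_ab heb.symm).1 (ng_injective e)
    · exact (hne_of_ab heb.symm).2 (by rw [← e, ng_ng])
  have key : (fun s : F => cl ψ hψ (Ys a s) (Ys b t)) =
      fun s : F => Y X ψ hψ hn a (ng b) (-(2 * s * t)) := by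
    apply uniq_lift ψ hc (e₀ := e₀) (χ := -1) _ _ _ hχ
    · -- equivariance of `V`
      intro s'
      show e₀ * cl ψ hψ (Ys a s') (Ys b t) * e₀⁻¹ = cl ψ hψ (Ys a (-1 * s')) (Ys b t)
      rw [conj_cl ψ hψ hc, HhB_conj_Ys_eq π hπX hπY hn h2 hB hmem a s',
        HhB_conj_Ys_eq π hπX hπY hn h2 hB hmem b t, he₀, hda, hdb, hd0, inv_one, mul_one, mul_one,
        one_mul]
    · -- equivariance of `W`
      intro s'
      show e₀ * Y X ψ hψ hn a (ng b) (-(2 * s' * t)) * e₀⁻¹ =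
        Y X ψ hψ hn a (ng b) (-(2 * (-1 * s') * t))
      rw [conj_Y_of_c2 π hπX hπY hn h2 hB ψ hψ hc hL.c2 hmem hrn, he₀, hda, hdnb]
      congr 1
      ring
    · -- same images
      intro s'
      show ψ (cl ψ hψ (Ys a s') (Ys b t)) = ψ (Y X ψ hψ hn a (ng b) (-(2 * s' * t)))
      rw [map_cl, commutatorElement_def, ← cm_def, hB.yy a b hab, map_Y hB.dX ψ hψ hn hrn]
    · -- additivity of `V`
      intro s' s''
      show cl ψ hψ (Ys a (s' + s'')) (Ys b t) =
        cl ψ hψ (Ys a s') (Ys b t) * cl ψ hψ (Ys a s'') (Ys b t)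
      have hCL : CL ψ (Ys a s') ⁅Ys a s'', Ys b t⁆ := by
        rw [commutatorElement_def, ← cm_def, hB.yy a b hab]
        exact cl_Ys_X_fst hn hB ψ hψ hc hrn s' _
      rw [hB.yadd, cl_mul_left ψ hψ hc hCL]
      have hcomm : Commute (cl ψ hψ (Ys a s'') (Ys b t)) (cl ψ hψ (Ys a s') (Ys b t)) := by
        apply hL.c2 a (ng b) a (ng b) hrn hrn (fun e => hab.2 e.symm) hab.2 (ng_ne a).symm
          (by rw [ng_ng]; exact hab.1) (fun e => hab.1 (ng_injective e).symm)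
          (by rw [ng_ng]; exact ng_ne b) (-(2 * s'' * t)) (-(2 * s' * t))
        · rw [map_cl, commutatorElement_def, ← cm_def, hB.yy a b hab]
        · rw [map_cl, commutatorElement_def, ← cm_def, hB.yy a b hab]
      exact hcomm.eq
    · -- additivity of `W`
      intro s' s''
      show Y X ψ hψ hn a (ng b) (-(2 * (s' + s'') * t)) =
        Y X ψ hψ hn a (ng b) (-(2 * s' * t)) * Y X ψ hψ hn a (ng b) (-(2 * s'' * t))
      rw [← hL.rel.add a (ng b) hrn]
      congr 1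
      ring
  exact congrFun key s

end Cfsg.Agent.S2094P
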