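import Mathlib
import Cfsg.Agent.Helper2.S2094.DefsA
import Cfsg.Agent.Helper16.S2096YMAP
import Cfsg.Agent.Helper7.S2094CLYY
import Cfsg.Agent.Helper4.S2094YTADD
import Cfsg.Agent.Helper25.S2094YTEQUIV
import Cfsg.Agent.Helper20.S2094YTYY

set_option autoImplicit false
set_option linter.unusedSectionVars false
set_option linter.unusedVariables false

/-! S2094 chapter A, piece YTXY (helper20): the relation `xy` for the canonical lifts:
`cm (Y a b s) (YT b t) = YT a (s t) * Y a (ng b) (s t t)`, by the uniqueness principle. -/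

namespace Cfsg.Agent.S2094P

open Matrix Cfsg.Agent.S3352P Cfsg.Agent.S3351P Cfsg.Agent.S2096P Cfsg.Agent.S2086P
open scoped commutatorElement

variable {n : ℕ} {F : Type*} [Field F] [Fintype F] {G : Type*} [Group G] {E : Type*} [Group E]
  {X : J n → J n → F → G} {Ys : J n → F → G}

namespace YTXY

/-- all lifts of `g` commute with all lifts of a product if they do so for the factors -/
theorem CL_mul_right (ψ : E →* G) (hψ : Function.Surjective ψ) (hc : ψ.ker ≤ Subgroup.center E)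
    {g g₁ g₂ : G} (h1 : CL ψ g g₁) (h2 : CL ψ g g₂) : CL ψ g (g₁ * g₂) := by
  intro e e' he he'
  obtain ⟨a₁, ha₁⟩ := hψ g₁
  obtain ⟨a₂, ha₂⟩ := hψ g₂
  have hz : e' * (a₁ * a₂)⁻¹ ∈ Subgroup.center E :=
    hc (by rw [MonoidHom.mem_ker, map_mul, map_inv, map_mul, he', ha₁, ha₂, mul_inv_cancel])
  have e1 : e' = (e' * (a₁ * a₂)⁻¹) * (a₁ * a₂) := by group
  rw [e1]
  have k1 : Commute e (e' * (a₁ * a₂)⁻¹) := Subgroup.mem_center_iff.mp hz e
  have k2 : Commute e (a₁ * a₂) := (h1 e a₁ he ha₁).mul_right (h2 e a₂ he ha₂)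
  exact k1.mul_right k2

theorem CL_mul_left (ψ : E →* G) (hψ : Function.Surjective ψ) (hc : ψ.ker ≤ Subgroup.center E)
    {g g₁ g₂ : G} (h1 : CL ψ g₁ g) (h2 : CL ψ g₂ g) : CL ψ (g₁ * g₂) g :=
  (CL_mul_right ψ hψ hc h1.symm h2.symm).symm

/-- rearranging four pairwise commuting elements -/
theorem rearr {c c' y y' : E} (hcc' : Commute c c') (hc'y : Commute c' y) (hyy' : Commute y y') :
    c' * c * (y * y')⁻¹ = c * y⁻¹ * (c' * y'⁻¹) := by
  have k : Commute (c' * y'⁻¹) y⁻¹ := (hc'y.inv_right).mul_left (hyy'.symm.inv_left.inv_right)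
  calc c' * c * (y * y')⁻¹ = c * c' * (y'⁻¹ * y⁻¹) := by rw [hcc'.eq, _root_.mul_inv_rev]
    _ = c * ((c' * y'⁻¹) * y⁻¹) := by group
    _ = c * (y⁻¹ * (c' * y'⁻¹)) := by rw [k.eq]
    _ = c * y⁻¹ * (c' * y'⁻¹) := by group

end YTXY

open YTYY YTXY in
/-- YTXY -/
theorem YT_xy (π : G →* Matrix (I n) (I n) F)
    (hπX : ∀ a b, IsRoot a b → ∀ t : F, π (X a b t) = xmB a b t)
    (hπY : ∀ a, ∀ t : F, π (Ys a t) = ymB a t) (hn : 3 ≤ n) (h2 : (2 : F) ≠ 0)
    (hB : BRel X Ys) (ψ : E →* G) (hψ : Function.Surjective ψ)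
    (hc : ψ.ker ≤ Subgroup.center E) (hL : LongOK X ψ hψ hn) {lam : F} (hl0 : lam ≠ 0)
    (hl1 : lam ≠ 1) {a b : J n} (hab : IsRoot a b) (s t : F) :
    cm (Y X ψ hψ hn a b s) (YT X Ys ψ hψ hn lam b t) =
      YT X Ys ψ hψ hn lam a (s * t) * Y X ψ hψ hn a (ng b) (s * t * t) := by
  have hmapY := map_Y hB.dX ψ hψ hn hab s
  have hmapb := map_YT π hπX hπY hn h2 hB ψ hψ hl0 hl1 b t
  have h1 : cm (Y X ψ hψ hn a b s) (YT X Ys ψ hψ hn lam b t) =
      cl ψ hψ (X a b s) (Ys b t) := by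
    rw [cm_def, ← commutatorElement_def]
    exact cl_eq ψ hψ hc hmapY hmapb
  rw [h1]
  have hrn : IsRoot a (ng b) := isRoot_ng_right' hab
  have hae : IsRoot a (th hn a b) := isRoot_left_th hn a b
  have heb : ab (th hn a b) ≠ ab b := ab_th_ne_right hn a b
  have hm1 : (-1 : F) ≠ 0 := neg_ne_zero.2 one_ne_zero
  have hχ : (-1 : F) ≠ 1 := by
    intro h
    apply h2
    have : (2 : F) = 1 - (-1) := by ring
    rw [this, h, sub_self]
  obtain ⟨e₀, he₀⟩ := hψ (tX X a (th hn a b) (-1))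
  have hmem : ψ e₀ ∈ HhB X Ys := by rw [he₀]; exact tX_mem_HhB hae hm1
  have hmem' : ψ e₀ ∈ Hh X := by
    rw [he₀]; exact Subgroup.subset_closure ⟨a, th hn a b, -1, hae, hm1, rfl⟩
  obtain ⟨hd0, hdc⟩ := pi_tX_entries (X := X) π hπX hae hm1
  have hda : π (tX X a (th hn a b) (-1)) (Sum.inr a) (Sum.inr a) = -1 := by
    rw [hdc, ev_self]
  have hne_of_ab : ∀ {c d : J n}, ab c ≠ ab d → c ≠ d ∧ c ≠ ng d := by
    intro c d h
    exact ⟨fun e => h (by rw [e]), fun e => h (by rw [e, ab_ng])⟩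
  have hdb : π (tX X a (th hn a b) (-1)) (Sum.inr b) (Sum.inr b) = 1 := by
    rw [hdc]
    exact ev_of_ne _ hab.1.symm (hne_of_ab heb.symm).2 (hne_of_ab heb.symm).1
      (fun e => hab.2 (by rw [e, ng_ng]))
  have hdnb : π (tX X a (th hn a b) (-1)) (Sum.inr (ng b)) (Sum.inr (ng b)) = 1 := by
    rw [hdc]
    refine ev_of_ne _ (fun e => hab.2 e.symm) (fun e => ?_) (fun e => ?_)
      (fun e => hab.1 (ng_injective e).symm)
    · exact (hne_of_ab heb.symm).1 (ng_injective e)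
    · exact (hne_of_ab heb.symm).2 (by rw [← e, ng_ng])
  -- the images
  have hψC : ∀ u : F, ψ (cl ψ hψ (X a b u) (Ys b t)) = Ys a (u * t) * X a (ng b) (u * t * t) := by
    intro u
    rw [map_cl, commutatorElement_def, ← cm_def, hB.xy a b hab]
  -- commutation facts
  have cYX : ∀ u v : F, CL ψ (Ys a u) (X a (ng b) v) := fun u v =>
    cl_Ys_X_fst hn hB ψ hψ hc hrn u v
  have cXX : ∀ u v : F, CL ψ (X a (ng b) u) (X a (ng b) v) := fun u v =>
    hL.c2 a (ng b) a (ng b) hrn hrn (fun e => hab.2 e.symm) hab.2 (ng_ne a).symm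
      (by rw [ng_ng]; exact hab.1) (fun e => hab.1 (ng_injective e).symm)
      (by rw [ng_ng]; exact ng_ne b) u v
  have cYY : ∀ u v : F, CL ψ (Ys a u) (Ys a v) := fun u v => cl_Ys_Ys hn hB ψ hψ hc hL a u v
  have cPX : ∀ u v w : F, CL ψ (Ys a u * X a (ng b) v) (X a (ng b) w) := fun u v w =>
    CL_mul_left ψ hψ hc (cYX u w) (cXX v w)
  have cPY : ∀ u v w : F, CL ψ (Ys a u * X a (ng b) v) (Ys a w) := fun u v w =>
    CL_mul_left ψ hψ hc (cYY u w) (cYX w v).symm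
  have cPP : ∀ u v u' v' : F, CL ψ (Ys a u * X a (ng b) v) (Ys a u' * X a (ng b) v') :=
    fun u v u' v' => CL_mul_right ψ hψ hc (cPY u v u') (cPX u v v')
  have hmapYn : ∀ u : F, ψ (Y X ψ hψ hn a (ng b) u) = X a (ng b) u := fun u =>
    map_Y hB.dX ψ hψ hn hrn u
  have key : (fun s : F => cl ψ hψ (X a b s) (Ys b t) * (Y X ψ hψ hn a (ng b) (s * t * t))⁻¹) =
      fun s : F => YT X Ys ψ hψ hn lam a (s * t) := by
    apply uniq_lift ψ hc (e₀ := e₀) (χ := -1) _ _ _ hχ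
    · -- equivariance of `V`
      intro s'
      show e₀ * (cl ψ hψ (X a b s') (Ys b t) * (Y X ψ hψ hn a (ng b) (s' * t * t))⁻¹) * e₀⁻¹ =
        cl ψ hψ (X a b (-1 * s')) (Ys b t) * (Y X ψ hψ hn a (ng b) (-1 * s' * t * t))⁻¹
      have e1 : e₀ * (cl ψ hψ (X a b s') (Ys b t) * (Y X ψ hψ hn a (ng b) (s' * t * t))⁻¹) * e₀⁻¹ =
          (e₀ * cl ψ hψ (X a b s') (Ys b t) * e₀⁻¹) *
            (e₀ * Y X ψ hψ hn a (ng b) (s' * t * t) * e₀⁻¹)⁻¹ := by group
      rw [e1, conj_cl ψ hψ hc, HhB_conj_X_eq π hπX hπY hn h2 hB hmem hab s',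
        HhB_conj_Ys_eq π hπX hπY hn h2 hB hmem b t,
        conj_Y_of_c2 π hπX hπY hn h2 hB ψ hψ hc hL.c2 hmem hrn, he₀, hda, hdb, hdnb, hd0, inv_one,
        mul_one, mul_one, one_mul]
      congr 3
      ring
    · -- equivariance of `W`
      intro s'
      show e₀ * YT X Ys ψ hψ hn lam a (s' * t) * e₀⁻¹ = YT X Ys ψ hψ hn lam a (-1 * s' * t)
      rw [conj_YT π hπX hπY hn h2 hB ψ hψ hc lam hl0 hmem' a, he₀, hda, hd0, inv_one, mul_one, mul_assoc]
    · -- same images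
      intro s'
      show ψ (cl ψ hψ (X a b s') (Ys b t) * (Y X ψ hψ hn a (ng b) (s' * t * t))⁻¹) =
        ψ (YT X Ys ψ hψ hn lam a (s' * t))
      rw [map_mul, map_inv, hψC, hmapYn, mul_inv_cancel_right,
        map_YT π hπX hπY hn h2 hB ψ hψ hl0 hl1 a]
    · -- additivity of `V`
      intro s' s''
      show cl ψ hψ (X a b (s' + s'')) (Ys b t) * (Y X ψ hψ hn a (ng b) ((s' + s'') * t * t))⁻¹ =
        cl ψ hψ (X a b s') (Ys b t) * (Y X ψ hψ hn a (ng b) (s' * t * t))⁻¹ *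
          (cl ψ hψ (X a b s'') (Ys b t) * (Y X ψ hψ hn a (ng b) (s'' * t * t))⁻¹)
      have hCL : CL ψ (X a b s') ⁅X a b s'', Ys b t⁆ := by
        rw [commutatorElement_def, ← cm_def, hB.xy a b hab]
        apply CL_mul_right ψ hψ hc
        · exact (cl_Ys_X_fst hn hB ψ hψ hc hab _ s').symm
        · exact CL_of_commute ψ hc (map_Y hB.dX ψ hψ hn hab s') (hmapYn _)
            (hL.rel.orth a b hab s' _)
      have hadd : (s' + s'') * t * t = s' * t * t + s'' * t * t := by ring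
      rw [hB.dX.add a b hab, cl_mul_left ψ hψ hc hCL, hadd, hL.rel.add a (ng b) hrn]
      apply rearr
      · exact cPP _ _ _ _ _ _ (hψC s') (hψC s'')
      · exact cPX _ _ _ _ _ (hψC s'') (hmapYn _)
      · exact cXX _ _ _ _ (hmapYn _) (hmapYn _)
    · -- additivity of `W`
      intro s' s''
      show YT X Ys ψ hψ hn lam a ((s' + s'') * t) =
        YT X Ys ψ hψ hn lam a (s' * t) * YT X Ys ψ hψ hn lam a (s'' * t)
      rw [add_mul, YT_add hn hB ψ hψ hc hL hl0 a]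
  have := congrFun key s
  exact mul_inv_eq_iff_eq_mul.1 this

end Cfsg.Agent.S2094P
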