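import Mathlib
import Cfsg.Agent.Helper2.S2094.DefsC

set_option autoImplicit false
set_option linter.unusedSectionVars false
set_option linter.unusedVariables false

/-! S2094 chapter C, piece CLRELB2 (helper20): the relation `yy` in the Clifford algebra:
`[1 + s ψ_a ψ_0, 1 + t ψ_b ψ_0] = 1 - 2st ψ_a ψ_b`. -/

namespace Cfsg.Agent.S2094P

open Cfsg.Agent.S3352P Cfsg.Agent.S3351P Cfsg.Agent.S2096P

universe u

variable {n : ℕ} {F : Type*} [Field F] {A : Type*} [Ring A] [Algebra F A] {ψ : J n → A} {ψ0 : A}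

namespace CLRELB2

/-- `(u z)(w z) = -(u w)` -/
theorem NN {A : Type*} [Ring A] (u w z : A) (hz : z * z = 1) (hzw : z * w = -(w * z)) :
    (u * z) * (w * z) = -(u * w) := by
  calc (u * z) * (w * z) = u * (z * w) * z := by noncomm_ring
    _ = u * (-(w * z)) * z := by rw [hzw]
    _ = -(u * w * (z * z)) := by noncomm_ring
    _ = -(u * w) := by rw [hz, mul_one]

/-- the commutator of two unipotent elements whose triple products vanish -/
theorem comm_formula {A : Type*} [Ring A] (α β : A) (h1 : α * α = 0) (h2 : β * β = 0)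
    (h3 : α * β * α = 0) (h4 : β * α * β = 0) :
    (1 + α) * (1 + β) * (1 + -α) * (1 + -β) = 1 + (α * β - β * α) := by
  have hA : (1 + α) * (1 + β) * (1 + -α) = 1 + β + α * β - β * α := by
    calc (1 + α) * (1 + β) * (1 + -α) = 1 + β + α * β - β * α - α * α - α * β * α := by
          noncomm_ring
      _ = 1 + β + α * β - β * α := by rw [h1, h3, sub_zero, sub_zero]
  rw [hA]
  calc (1 + β + α * β - β * α) * (1 + -β)
      = 1 + (α * β - β * α) - β * β - α * (β * β) + β * α * β := by noncomm_ring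
    _ = 1 + (α * β - β * α) := by rw [h2, h4, mul_zero, sub_zero, sub_zero, add_zero]

end CLRELB2

/-- CLRELB2 -/
theorem yc_yy (hψ : CARB ψ ψ0) {a b : J n} (hab : IsRoot a b) (s t : F) :
    yc ψ ψ0 a s * yc ψ ψ0 b t * yc ψ ψ0 a (-s) * yc ψ ψ0 b (-t) =
      xc ψ a (ng b) (-(2 * s * t)) := by
  have huu : ψ a * ψ a = 0 := hψ.car.sq a
  have hww : ψ b * ψ b = 0 := hψ.car.sq b
  have hz : ψ0 * ψ0 = 1 := hψ.sq0
  have hzu : ψ0 * ψ a = -(ψ a * ψ0) := hψ.anti0 a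
  have hzw : ψ0 * ψ b = -(ψ b * ψ0) := hψ.anti0 b
  have huw : ψ a * ψ b = -(ψ b * ψ a) := by
    apply hψ.car.anti
    intro e
    exact hab.2 (by rw [e, ng_ng])
  have hwu : ψ b * ψ a = -(ψ a * ψ b) := by rw [huw, neg_neg]
  -- products of `N_a = ψ_a ψ_0`, `N_b = ψ_b ψ_0`
  have hab' : (ψ a * ψ0) * (ψ b * ψ0) = -(ψ a * ψ b) := CLRELB2.NN _ _ _ hz hzw
  have hba' : (ψ b * ψ0) * (ψ a * ψ0) = ψ a * ψ b := by
    rw [CLRELB2.NN _ _ _ hz hzu, hwu, neg_neg]
  have haa' : (ψ a * ψ0) * (ψ a * ψ0) = 0 := by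
    rw [CLRELB2.NN _ _ _ hz hzu, huu, neg_zero]
  have hbb' : (ψ b * ψ0) * (ψ b * ψ0) = 0 := by
    rw [CLRELB2.NN _ _ _ hz hzw, hww, neg_zero]
  have haba : (ψ a * ψ0) * (ψ b * ψ0) * (ψ a * ψ0) = 0 := by
    rw [hab']
    calc -(ψ a * ψ b) * (ψ a * ψ0) = -(ψ a * (ψ b * ψ a) * ψ0) := by noncomm_ring
      _ = -(ψ a * (-(ψ a * ψ b)) * ψ0) := by rw [hwu]
      _ = (ψ a * ψ a) * ψ b * ψ0 := by noncomm_ring
      _ = 0 := by rw [huu]; simp
  have hbab : (ψ b * ψ0) * (ψ a * ψ0) * (ψ b * ψ0) = 0 := by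
    rw [hba']
    calc ψ a * ψ b * (ψ b * ψ0) = ψ a * (ψ b * ψ b) * ψ0 := by noncomm_ring
      _ = 0 := by rw [hww]; simp
  unfold yc xc
  rw [ng_ng, neg_smul, neg_smul]
  generalize hNa : ψ a * ψ0 = Na at *
  generalize hNb : ψ b * ψ0 = Nb at *
  have h1 : (s • Na) * (s • Na) = 0 := by rw [smul_mul_smul_comm, haa', smul_zero]
  have h2 : (t • Nb) * (t • Nb) = 0 := by rw [smul_mul_smul_comm, hbb', smul_zero]
  have h3 : (s • Na) * (t • Nb) * (s • Na) = 0 := by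
    rw [smul_mul_smul_comm, smul_mul_smul_comm, haba, smul_zero]
  have h4 : (t • Nb) * (s • Na) * (t • Nb) = 0 := by
    rw [smul_mul_smul_comm, smul_mul_smul_comm, hbab, smul_zero]
  rw [CLRELB2.comm_formula _ _ h1 h2 h3 h4, smul_mul_smul_comm, smul_mul_smul_comm, hab', hba']
  congr 1
  generalize ψ a * ψ b = P
  rw [smul_neg, mul_comm t s]
  module

end Cfsg.Agent.S2094P
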