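import Mathlib
import Cfsg.Agent.Helper2.S2094.DefsC
import Cfsg.Agent.Helper20.S2094CLRELB2

set_option autoImplicit false
set_option linter.unusedSectionVars false
set_option linter.unusedVariables false

/-! S2094 chapter C, piece CLWB (helper20): the torus element `tY a (-1)` of the short root `ε_a`
acts as `-1` in the Clifford algebra. -/

namespace Cfsg.Agent.S2094P

open Cfsg.Agent.S3352P Cfsg.Agent.S3351P Cfsg.Agent.S2096P

universe u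

variable {n : ℕ} {F : Type*} [Field F] {A : Type*} [Ring A] [Algebra F A] {ψ : J n → A} {ψ0 : A}

namespace CLWB

/-- `W = (1 - N)(1 - N')(1 - N) = -(N + N')` and `W² = -1` -/
theorem W_sq {A : Type*} [Ring A] (N N' : A) (h1 : N * N = 0) (h2 : N' * N' = 0)
    (h3 : N * N' + N' * N = -1) (h4 : N * N' * N = -N) :
    ((1 + -N) * (1 + -N') * (1 + -N)) * ((1 + -N) * (1 + -N') * (1 + -N)) = -1 := by
  have hW : (1 + -N) * (1 + -N') * (1 + -N) = -(N + N') := by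
    calc (1 + -N) * (1 + -N') * (1 + -N)
        = 1 - N - N - N' + (N * N' + N' * N) + N * N - N * N' * N := by noncomm_ring
      _ = 1 - N - N - N' + -1 + 0 - -N := by rw [h1, h3, h4]
      _ = -(N + N') := by abel
  rw [hW]
  calc -(N + N') * -(N + N') = N * N + N' * N' + (N * N' + N' * N) := by noncomm_ring
    _ = -1 := by rw [h1, h2, h3]; simp

/-- own copy of CLUNITB -/
theorem coe_Yc' (hψ : CARB ψ ψ0) (a : J n) (t : F) :
    ((Yc ψ ψ0 a t : Aˣ) : A) = yc ψ ψ0 a t := by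
  have hN : ψ a * ψ0 * (ψ a * ψ0) = 0 := by
    rw [CLRELB2.NN _ _ _ hψ.sq0 (hψ.anti0 a), hψ.car.sq a, neg_zero]
  have hmul : ∀ s : F, yc ψ ψ0 a s * yc ψ ψ0 a (-s) = 1 := by
    intro s
    unfold yc
    rw [neg_smul]
    have hα : (s • (ψ a * ψ0)) * (s • (ψ a * ψ0)) = 0 := by
      rw [smul_mul_smul_comm, hN, smul_zero]
    generalize s • (ψ a * ψ0) = α at *
    calc (1 + α) * (1 + -α) = 1 - α * α := by noncomm_ring
      _ = 1 := by rw [hα, sub_zero]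
  have hu : IsUnit (yc ψ ψ0 a t) := by
    refine ⟨⟨yc ψ ψ0 a t, yc ψ ψ0 a (-t), hmul t, ?_⟩, rfl⟩
    have := hmul (-t)
    rwa [neg_neg] at this
  unfold Yc
  rw [dif_pos hu]
  exact hu.unit_spec

end CLWB

/-- CLWB -/
theorem coe_tY_Yc (hψ : CARB ψ ψ0) (a : J n) :
    ((tY (Yc (F := F) ψ ψ0) a (-1) : Aˣ) : A) = -1 := by
  have huu : ψ a * ψ a = 0 := hψ.car.sq a
  have hvv : ψ (ng a) * ψ (ng a) = 0 := hψ.car.sq (ng a)
  have hz : ψ0 * ψ0 = 1 := hψ.sq0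
  have hzu : ψ0 * ψ a = -(ψ a * ψ0) := hψ.anti0 a
  have hzv : ψ0 * ψ (ng a) = -(ψ (ng a) * ψ0) := hψ.anti0 (ng a)
  have hpair : ψ a * ψ (ng a) + ψ (ng a) * ψ a = 1 := hψ.car.pair a
  -- `N = ψ_a ψ_0`, `N' = ψ_{-a} ψ_0`
  have hNN' : (ψ a * ψ0) * (ψ (ng a) * ψ0) = -(ψ a * ψ (ng a)) := CLRELB2.NN _ _ _ hz hzv
  have hN'N : (ψ (ng a) * ψ0) * (ψ a * ψ0) = -(ψ (ng a) * ψ a) := CLRELB2.NN _ _ _ hz hzu
  have h1 : (ψ a * ψ0) * (ψ a * ψ0) = 0 := by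
    rw [CLRELB2.NN _ _ _ hz hzu, huu, neg_zero]
  have h2 : (ψ (ng a) * ψ0) * (ψ (ng a) * ψ0) = 0 := by
    rw [CLRELB2.NN _ _ _ hz hzv, hvv, neg_zero]
  have h3 : (ψ a * ψ0) * (ψ (ng a) * ψ0) + (ψ (ng a) * ψ0) * (ψ a * ψ0) = -1 := by
    rw [hNN', hN'N, ← neg_add, hpair]
  have h4 : (ψ a * ψ0) * (ψ (ng a) * ψ0) * (ψ a * ψ0) = -(ψ a * ψ0) := by
    rw [hNN']
    have e : ψ (ng a) * ψ a = 1 - ψ a * ψ (ng a) := by
      rw [← hpair]; abel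
    calc -(ψ a * ψ (ng a)) * (ψ a * ψ0) = -(ψ a * (ψ (ng a) * ψ a) * ψ0) := by noncomm_ring
      _ = -(ψ a * (1 - ψ a * ψ (ng a)) * ψ0) := by rw [e]
      _ = -(ψ a * ψ0) + (ψ a * ψ a) * ψ (ng a) * ψ0 := by noncomm_ring
      _ = -(ψ a * ψ0) := by rw [huu]; simp
  rw [← CLWB.W_sq _ _ h1 h2 h3 h4]
  -- unfold the torus element
  have hone : (-1 : F)⁻¹ = -1 := by
    rw [inv_neg, inv_one]
  unfold tY wY
  rw [hone]
  simp only [Units.val_mul]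
  rw [CLWB.coe_Yc' hψ, CLWB.coe_Yc' hψ]
  unfold yc
  rw [neg_smul, one_smul, neg_smul, one_smul]

end Cfsg.Agent.S2094P
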