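import Mathlib
import Cfsg.Agent.Helper2.S2096.Defs
import Cfsg.Agent.Helper2.S2096.DefsC

set_option autoImplicit false
set_option linter.unusedSectionVars false
set_option linter.unusedVariables false

/-! S2096/S2097 part C, piece CLREL2 (helper20): the commutator relation `xc_mul` in the Clifford
algebra. -/

namespace Cfsg.Agent.S2096P

open Cfsg.Agent.S3352P Cfsg.Agent.S3351P

universe u

variable {n : ℕ} {F : Type*} [Field F] {A : Type*} [Ring A] [Algebra F A] {ψ : J n → A}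

namespace CLREL2

/-- `u v u y = 0` if `u² = 0` and `v u = - u v` -/
theorem L1 {A : Type*} [Ring A] (u v y : A) (huu : u * u = 0) (hvu : v * u = -(u * v)) :
    u * v * (u * y) = 0 := by
  calc u * v * (u * y) = u * (v * u) * y := by noncomm_ring
    _ = u * (-(u * v)) * y := by rw [hvu]
    _ = -((u * u) * v * y) := by noncomm_ring
    _ = 0 := by rw [huu]; simp

/-- `u x w x = 0` if `x² = 0` and `x w = - w x` -/
theorem L2 {A : Type*} [Ring A] (u x w : A) (hxx : x * x = 0) (hxw : x * w = -(w * x)) :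
    u * x * (w * x) = 0 := by
  calc u * x * (w * x) = u * (x * w) * x := by noncomm_ring
    _ = u * (-(w * x)) * x := by rw [hxw]
    _ = -(u * w * (x * x)) := by noncomm_ring
    _ = 0 := by rw [hxx]; simp

/-- the commutator of `u v` and `w x` -/
theorem L3 {A : Type*} [Ring A] (u v w x : A) (hxu : x * u = -(u * x)) (hwu : w * u = -(u * w))
    (hxv : x * v = -(v * x)) (hvw : v * w + w * v = 1) :
    u * v * (w * x) - w * x * (u * v) = u * x := by
  have h1 : w * x * (u * v) = -(u * (w * v) * x) := by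
    calc w * x * (u * v) = w * (x * u) * v := by noncomm_ring
      _ = w * (-(u * x)) * v := by rw [hxu]
      _ = -((w * u) * (x * v)) := by noncomm_ring
      _ = -((-(u * w)) * (-(v * x))) := by rw [hwu, hxv]
      _ = -(u * (w * v) * x) := by noncomm_ring
  rw [h1]
  calc u * v * (w * x) - -(u * (w * v) * x) = u * (v * w + w * v) * x := by noncomm_ring
    _ = u * x := by rw [hvw, mul_one]

/-- the abstract group commutator computation -/
theorem comm_abs {A : Type*} [Ring A] (α β γ : A) (hαα : α * α = 0) (hββ : β * β = 0)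
    (hc : α * β - β * α = γ) (hαβα : α * β * α = 0) (hγβ : γ * β = 0) :
    (1 + α) * (1 + β) * (1 + -α) * (1 + -β) = 1 + γ := by
  have key : (1 + α) * (1 + β) * (1 + -α) * (1 + -β) =
      1 + (α * β - β * α) - α * α - α * β * α - β * β - (α * β - β * α) * β + α * α * β +
        α * β * α * β := by
    noncomm_ring
  rw [key, hc, hαα, hαβα, hββ, hγβ]
  simp

end CLREL2

/-- CLREL2 -/
theorem xc_mul (hψ : CAR ψ) {a b c : J n} (hab : IsRoot a b) (hbc : IsRoot b c)
    (hac : IsRoot a c) (s t : F) :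
    xc ψ a b s * xc ψ b c t * xc ψ a b (-s) * xc ψ b c (-t) = xc ψ a c (s * t) := by
  -- the anticommutation relations
  have huu : ψ a * ψ a = 0 := hψ.sq a
  have hxx : ψ (ng c) * ψ (ng c) = 0 := hψ.sq (ng c)
  have hww : ψ b * ψ b = 0 := hψ.sq b
  have hvu : ψ (ng b) * ψ a = -(ψ a * ψ (ng b)) := by
    apply hψ.anti
    rw [ng_ng]
    exact hab.1
  have hxu : ψ (ng c) * ψ a = -(ψ a * ψ (ng c)) := by
    apply hψ.anti
    rw [ng_ng]
    exact hac.1
  have hwu : ψ b * ψ a = -(ψ a * ψ b) := by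
    apply hψ.anti
    exact hab.2
  have hxv : ψ (ng c) * ψ (ng b) = -(ψ (ng b) * ψ (ng c)) := by
    apply hψ.anti
    rw [ng_ng]
    intro e
    apply hbc.2
    rw [← e, ng_ng]
  have hxw : ψ (ng c) * ψ b = -(ψ b * ψ (ng c)) := by
    apply hψ.anti
    rw [ng_ng]
    exact hbc.1
  have hvw : ψ (ng b) * ψ b + ψ b * ψ (ng b) = 1 := by
    rw [add_comm]
    exact hψ.pair b
  -- the relations between `N₁ = ψ_a ψ_{-b}`, `N₂ = ψ_b ψ_{-c}`, `N₃ = ψ_a ψ_{-c}`
  have h11 : ψ a * ψ (ng b) * (ψ a * ψ (ng b)) = 0 := CLREL2.L1 _ _ _ huu hvu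
  have h13 : ψ a * ψ (ng b) * (ψ a * ψ (ng c)) = 0 := CLREL2.L1 _ _ _ huu hvu
  have h22 : ψ b * ψ (ng c) * (ψ b * ψ (ng c)) = 0 := CLREL2.L1 _ _ _ hww hxw
  have h32 : ψ a * ψ (ng c) * (ψ b * ψ (ng c)) = 0 := CLREL2.L2 _ _ _ hxx hxw
  have hc : ψ a * ψ (ng b) * (ψ b * ψ (ng c)) - ψ b * ψ (ng c) * (ψ a * ψ (ng b)) =
      ψ a * ψ (ng c) := CLREL2.L3 _ _ _ _ hxu hwu hxv hvw
  have h121 : ψ a * ψ (ng b) * (ψ b * ψ (ng c)) * (ψ a * ψ (ng b)) = 0 := by
    have h21 : ψ b * ψ (ng c) * (ψ a * ψ (ng b)) =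
        ψ a * ψ (ng b) * (ψ b * ψ (ng c)) - ψ a * ψ (ng c) := by
      rw [← hc]
      abel
    rw [mul_assoc (ψ a * ψ (ng b)) (ψ b * ψ (ng c)), h21, mul_sub, ← mul_assoc (ψ a * ψ (ng b)),
      h11, zero_mul, h13, sub_zero]
  -- pass to `α = s N₁`, `β = t N₂`, `γ = s t N₃`
  unfold xc
  rw [neg_smul, neg_smul]
  apply CLREL2.comm_abs
  · rw [smul_mul_smul_comm, h11, smul_zero]
  · rw [smul_mul_smul_comm, h22, smul_zero]
  · rw [smul_mul_smul_comm, smul_mul_smul_comm, mul_comm t s, ← smul_sub, hc]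
  · rw [smul_mul_smul_comm, smul_mul_smul_comm, h121, smul_zero]
  · rw [smul_mul_smul_comm, h32, smul_zero]

end Cfsg.Agent.S2096P
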