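import Mathlib
import Cfsg.Agent.Helper2.S2096.Defs
import Cfsg.Agent.Helper2.S2096.DefsC
import Cfsg.Agent.Helper20.S2096CLREL2

set_option autoImplicit false
set_option linter.unusedSectionVars false
set_option linter.unusedVariables false

/-! S2096/S2097 part C, piece CLW (helper20): the torus element `tX a b (-1)` in the Clifford
algebra is `1 - 2E`, `E = p_a q_b + p_b q_a`. -/

namespace Cfsg.Agent.S2096P

open Cfsg.Agent.S3352P Cfsg.Agent.S3351P

universe u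

variable {n : ℕ} {F : Type*} [Field F] {A : Type*} [Ring A] [Algebra F A] {ψ : J n → A}

namespace CLW

/-- `N N' N = N` for `N = u w̄`, `N' = w ū` -/
theorem NNN {A : Type*} [Ring A] (u ub w wb : A) (huu : u * u = 0) (hwb : wb * wb = 0)
    (hpa : u * ub + ub * u = 1) (hpb : w * wb + wb * w = 1) (h1 : u * wb = -(wb * u))
    (h2 : ub * wb = -(wb * ub)) : (u * wb) * (w * ub) * (u * wb) = u * wb := by
  have e1 : wb * w = 1 - w * wb := by
    rw [← hpb]
    abel
  have e2 : ub * u = 1 - u * ub := by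
    rw [← hpa]
    abel
  have e3 : u * (ub * u) * wb = u * wb := by
    rw [e2]
    calc u * (1 - u * ub) * wb = u * wb - (u * u) * ub * wb := by noncomm_ring
      _ = u * wb := by rw [huu]; simp
  have e4 : wb * (ub * u) * wb = 0 := by
    calc wb * (ub * u) * wb = wb * ub * (u * wb) := by noncomm_ring
      _ = wb * ub * (-(wb * u)) := by rw [h1]
      _ = -(wb * (ub * wb) * u) := by noncomm_ring
      _ = -(wb * (-(wb * ub)) * u) := by rw [h2]
      _ = (wb * wb) * ub * u := by noncomm_ring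
      _ = 0 := by rw [hwb]; simp
  calc (u * wb) * (w * ub) * (u * wb) = u * (wb * w) * ub * u * wb := by noncomm_ring
    _ = u * (1 - w * wb) * ub * u * wb := by rw [e1]
    _ = u * (ub * u) * wb - u * w * (wb * (ub * u) * wb) := by noncomm_ring
    _ = u * wb := by rw [e3, e4]; simp

/-- `W² = 1 - 2E` -/
theorem W_sq {A : Type*} [Ring A] (N N' : A) (h1 : N * N = 0) (h2 : N' * N' = 0)
    (h3 : N * N' * N = N) (h4 : N' * N * N' = N') :
    ((1 + -N) * (1 + N') * (1 + -N)) * ((1 + -N) * (1 + N') * (1 + -N)) =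
      1 - 2 • (N * N' + N' * N) := by
  have hW : (1 + -N) * (1 + N') * (1 + -N) = 1 - (N * N' + N' * N) + (N' - N) := by
    calc (1 + -N) * (1 + N') * (1 + -N)
        = 1 - N - N + N' - N * N' - N' * N + N * N + N * N' * N := by noncomm_ring
      _ = 1 - N - N + N' - N * N' - N' * N + 0 + N := by rw [h1, h3]
      _ = 1 - (N * N' + N' * N) + (N' - N) := by abel
  have hEN : (N * N' + N' * N) * N = N := by
    calc (N * N' + N' * N) * N = N * N' * N + N' * (N * N) := by noncomm_ring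
      _ = N := by rw [h1, h3]; simp
  have hEN' : (N * N' + N' * N) * N' = N' := by
    calc (N * N' + N' * N) * N' = N * (N' * N') + N' * N * N' := by noncomm_ring
      _ = N' := by rw [h2, h4]; simp
  have hNE : N * (N * N' + N' * N) = N := by
    calc N * (N * N' + N' * N) = (N * N) * N' + N * N' * N := by noncomm_ring
      _ = N := by rw [h1, h3]; simp
  have hN'E : N' * (N * N' + N' * N) = N' := by
    calc N' * (N * N' + N' * N) = N' * N * N' + (N' * N') * N := by noncomm_ring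
      _ = N' := by rw [h2, h4]; simp
  have hDD : (N' - N) * (N' - N) = -(N * N' + N' * N) := by
    calc (N' - N) * (N' - N) = N' * N' - N' * N - N * N' + N * N := by noncomm_ring
      _ = -(N * N' + N' * N) := by rw [h1, h2]; abel
  rw [hW]
  generalize hE : N * N' + N' * N = E at *
  have hEE : E * E = E := by
    calc E * E = E * (N * N' + N' * N) := by rw [hE]
      _ = (E * N) * N' + (E * N') * N := by noncomm_ring
      _ = E := by rw [hEN, hEN', hE]
  have hED : E * (N' - N) = N' - N := by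
    rw [mul_sub, hEN, hEN']
  have hDE : (N' - N) * E = N' - N := by
    rw [sub_mul, hNE, hN'E]
  generalize N' - N = D at *
  calc (1 - E + D) * (1 - E + D)
      = 1 - E - E + E * E + D + D - E * D - D * E + D * D := by noncomm_ring
    _ = 1 - E - E + E + D + D - D - D + -E := by rw [hEE, hED, hDE, hDD]
    _ = 1 - 2 • E := by abel

/-- own copy of CLUNIT -/
theorem coe_Xc' (hψ : CAR ψ) {a b : J n} (hab : IsRoot a b) (t : F) :
    ((Xc ψ a b t : Aˣ) : A) = xc ψ a b t := by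
  have hvu : ψ (ng b) * ψ a = -(ψ a * ψ (ng b)) := by
    apply hψ.anti
    rw [ng_ng]
    exact hab.1
  have hN : ψ a * ψ (ng b) * (ψ a * ψ (ng b)) = 0 := CLREL2.L1 _ _ _ (hψ.sq a) hvu
  have hmul : ∀ s : F, xc ψ a b s * xc ψ a b (-s) = 1 := by
    intro s
    unfold xc
    rw [neg_smul]
    have hα : (s • (ψ a * ψ (ng b))) * (s • (ψ a * ψ (ng b))) = 0 := by
      rw [smul_mul_smul_comm, hN, smul_zero]
    generalize s • (ψ a * ψ (ng b)) = α at *
    calc (1 + α) * (1 + -α) = 1 - α * α := by noncomm_ring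
      _ = 1 := by rw [hα, sub_zero]
  have hu : IsUnit (xc ψ a b t) := by
    refine ⟨⟨xc ψ a b t, xc ψ a b (-t), hmul t, ?_⟩, rfl⟩
    have := hmul (-t)
    rwa [neg_neg] at this
  unfold Xc
  rw [dif_pos hu]
  exact hu.unit_spec

end CLW

/-- CLW -/
theorem coe_tX_Xc (hψ : CAR ψ) {a b : J n} (hab : IsRoot a b) :
    ((tX (Xc (F := F) ψ) a b (-1) : Aˣ) : A) =
      1 - 2 • (pp ψ a * pp ψ (ng b) + pp ψ b * pp ψ (ng a)) := by
  -- anticommutation relations
  have huu : ψ a * ψ a = 0 := hψ.sq a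
  have hww : ψ b * ψ b = 0 := hψ.sq b
  have hubub : ψ (ng a) * ψ (ng a) = 0 := hψ.sq (ng a)
  have hwbwb : ψ (ng b) * ψ (ng b) = 0 := hψ.sq (ng b)
  have hpa : ψ a * ψ (ng a) + ψ (ng a) * ψ a = 1 := hψ.pair a
  have hpb : ψ b * ψ (ng b) + ψ (ng b) * ψ b = 1 := hψ.pair b
  have h_u_wb : ψ a * ψ (ng b) = -(ψ (ng b) * ψ a) := by
    apply hψ.anti
    intro e
    exact hab.1 (ng_injective e).symm
  have h_wb_u : ψ (ng b) * ψ a = -(ψ a * ψ (ng b)) := by
    rw [h_u_wb, neg_neg]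
  have h_ub_wb : ψ (ng a) * ψ (ng b) = -(ψ (ng b) * ψ (ng a)) := by
    apply hψ.anti
    rw [ng_ng]
    intro e
    exact hab.2 e.symm
  have h_wb_ub : ψ (ng b) * ψ (ng a) = -(ψ (ng a) * ψ (ng b)) := by
    rw [h_ub_wb, neg_neg]
  have h_w_ub : ψ b * ψ (ng a) = -(ψ (ng a) * ψ b) := by
    apply hψ.anti
    intro e
    exact hab.1 (ng_injective e)
  have h_ub_w : ψ (ng a) * ψ b = -(ψ b * ψ (ng a)) := by
    rw [h_w_ub, neg_neg]
  -- `N = ψ_a ψ_{-b}`, `N' = ψ_b ψ_{-a}`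
  have hNN : ψ a * ψ (ng b) * (ψ a * ψ (ng b)) = 0 := CLREL2.L1 _ _ _ huu h_wb_u
  have hN'N' : ψ b * ψ (ng a) * (ψ b * ψ (ng a)) = 0 := CLREL2.L1 _ _ _ hww h_ub_w
  have hNNN : (ψ a * ψ (ng b)) * (ψ b * ψ (ng a)) * (ψ a * ψ (ng b)) = ψ a * ψ (ng b) :=
    CLW.NNN _ _ _ _ huu hwbwb hpa hpb h_u_wb h_ub_wb
  have hN'NN' : (ψ b * ψ (ng a)) * (ψ a * ψ (ng b)) * (ψ b * ψ (ng a)) = ψ b * ψ (ng a) :=
    CLW.NNN _ _ _ _ hww hubub hpb hpa h_w_ub h_wb_ub
  -- `N N' = p_a q_b`, `N' N = p_b q_a`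
  have hE1 : pp ψ a * pp ψ (ng b) = (ψ a * ψ (ng b)) * (ψ b * ψ (ng a)) := by
    unfold pp
    rw [ng_ng]
    calc ψ a * ψ (ng a) * (ψ (ng b) * ψ b) = ψ a * (ψ (ng a) * ψ (ng b)) * ψ b := by noncomm_ring
      _ = ψ a * (-(ψ (ng b) * ψ (ng a))) * ψ b := by rw [h_ub_wb]
      _ = -(ψ a * ψ (ng b) * (ψ (ng a) * ψ b)) := by noncomm_ring
      _ = -(ψ a * ψ (ng b) * (-(ψ b * ψ (ng a)))) := by rw [h_ub_w]
      _ = (ψ a * ψ (ng b)) * (ψ b * ψ (ng a)) := by noncomm_ring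
  have hE2 : pp ψ b * pp ψ (ng a) = (ψ b * ψ (ng a)) * (ψ a * ψ (ng b)) := by
    unfold pp
    rw [ng_ng]
    calc ψ b * ψ (ng b) * (ψ (ng a) * ψ a) = ψ b * (ψ (ng b) * ψ (ng a)) * ψ a := by noncomm_ring
      _ = ψ b * (-(ψ (ng a) * ψ (ng b))) * ψ a := by rw [h_wb_ub]
      _ = -(ψ b * ψ (ng a) * (ψ (ng b) * ψ a)) := by noncomm_ring
      _ = -(ψ b * ψ (ng a) * (-(ψ a * ψ (ng b)))) := by rw [h_wb_u]
      _ = (ψ b * ψ (ng a)) * (ψ a * ψ (ng b)) := by noncomm_ring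
  rw [hE1, hE2, ← CLW.W_sq _ _ hNN hN'N' hNNN hN'NN']
  -- unfold the torus element
  have hone : -(-1 : F)⁻¹ = 1 := by
    rw [inv_neg, inv_one, neg_neg]
  unfold tX wX
  rw [hone]
  simp only [Units.val_mul]
  rw [CLW.coe_Xc' hψ hab, CLW.coe_Xc' hψ hab.symm]
  unfold xc
  rw [neg_smul, one_smul, one_smul]

end Cfsg.Agent.S2096P
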