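import Mathlib
import Cfsg.Agent.Helper2.S2094.DefsR
import Cfsg.Agent.Helper12.OrthGenI

set_option autoImplicit false
set_option linter.unusedSectionVars false
set_option linter.unusedVariables false

/-! S2094 chapter M, piece MODELB (helper20): the root elements `xmB a b t`, `ymB a t` lie in
`Ω_{2n+1}(F)` and generate it (twin of helper8's S3352MODEL). -/

namespace Cfsg.Agent.S2094P

open Matrix Cfsg.Agent.S3352P Cfsg.Agent.S3351P Cfsg.Agent.S2096P

variable {n : ℕ} {F : Type*} [Field F]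

namespace MODELB

open Cfsg.Agent.Helper28.Sg Cfsg.Agent.Helper28.Spin Cfsg.Agent.Helper12.OrthGen Cfsg.Agent.S2614

/-- the polar form against a basis vector `e_x`, `x` a signed index -/
theorem B_single (x : J n) (w : I n → F) :
    B (QfOdd n F) (Pi.single (Sum.inr x) 1) w = w (Sum.inr (ng x)) := by
  rcases x with i | i
  · exact polar_single_left (hypPair_odd n i) w
  · exact polar_single_right (hypPair_odd n i) w

/-- basis vectors `e_x` are singular -/
theorem Q_single (x : J n) : QfOdd n F (Pi.single (Sum.inr x) 1) = 0 := by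
  rcases x with i | i
  · exact Q_single_left (hypPair_odd n i)
  · exact Q_single_right (hypPair_odd n i)

theorem Q_smul_single (x : J n) (t : F) :
    QfOdd n F (t • (Pi.single (Sum.inr x) 1 : I n → F)) = 0 := by
  rw [Q_smul, Q_single, mul_zero]

theorem Q_o0 : QfOdd n F (Pi.single o0 1 : I n → F) = 1 := by
  rw [QfOdd_coe]
  simp [Cfsg.quadFormOdd]

theorem Q_smul_o0 (t : F) : QfOdd n F (t • (Pi.single o0 1 : I n → F)) = t * t := by
  rw [Q_smul, Q_o0, mul_one]

theorem B_o0 (w : I n → F) : B (QfOdd n F) (Pi.single o0 1) w = 2 * w o0 := by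
  show QuadraticMap.polar ⇑(QfOdd n F) _ _ = _
  rw [QfOdd_coe, Cfsg.Agent.S0292.polar_odd]
  simp

theorem xmB_mulVec (a b : J n) (t : F) (x : I n → F) :
    xmB a b t *ᵥ x = x + (t * x (Sum.inr b)) • Pi.single (Sum.inr a) 1 -
      (t * x (Sum.inr (ng a))) • Pi.single (Sum.inr (ng b)) 1 := by
  unfold xmB
  rw [Matrix.add_mulVec, Matrix.one_mulVec, Matrix.smul_mulVec, Matrix.sub_mulVec,
    Matrix.single_mulVec_eq, Matrix.single_mulVec_eq, one_mul, one_mul, smul_sub, smul_smul,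
    smul_smul, add_sub_assoc]

theorem ymB_mulVec (a : J n) (t : F) (x : I n → F) :
    ymB a t *ᵥ x = x + (2 * t * x o0) • Pi.single (Sum.inr a) 1 -
      (t * x (Sum.inr (ng a))) • Pi.single o0 1 -
      (t * t * x (Sum.inr (ng a))) • Pi.single (Sum.inr a) 1 := by
  unfold ymB
  rw [Matrix.sub_mulVec, Matrix.sub_mulVec, Matrix.add_mulVec, Matrix.one_mulVec,
    Matrix.smul_mulVec, Matrix.smul_mulVec, Matrix.smul_mulVec,
    Matrix.single_mulVec_eq, Matrix.single_mulVec_eq, Matrix.single_mulVec_eq,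
    smul_smul, smul_smul, smul_smul]
  simp only [one_mul]

theorem B_single_smul_single {a b : J n} (hab : IsRoot a b) (t : F) :
    B (QfOdd n F) (Pi.single (Sum.inr (ng b)) 1) (t • Pi.single (Sum.inr a) 1) = 0 := by
  rw [B_single, ng_ng]
  simp [hab.1.symm]

theorem B_single_smul_o0 (a : J n) (t : F) :
    B (QfOdd n F) (Pi.single (Sum.inr a) 1) (t • Pi.single o0 1) = 0 := by
  rw [B_single]
  simp

theorem xmB_eq_siegM {a b : J n} (hab : IsRoot a b) (t : F) :
    xmB a b t = siegM (QfOdd n F) (Pi.single (Sum.inr (ng b)) 1) (t • Pi.single (Sum.inr a) 1) := by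
  apply Cfsg.Agent.Helper28.Spin.matrix_ext_mulVec
  intro x
  rw [xmB_mulVec, siegM_mulVec, B_single, ng_ng, Q_smul_single]
  have hB : B (QfOdd n F) (t • (Pi.single (Sum.inr a) 1 : I n → F)) x = t * x (Sum.inr (ng a)) := by
    show QuadraticMap.polar _ (t • (Pi.single (Sum.inr a) 1 : I n → F)) x = _
    rw [QuadraticMap.polar_smul_left]
    have := B_single a x
    simp only [B] at this
    rw [this]; rfl
  rw [hB, zero_mul, zero_smul, sub_zero, smul_smul, mul_comm (x (Sum.inr b)) t]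

theorem ymB_eq_siegM (a : J n) (t : F) :
    ymB a t = siegM (QfOdd n F) (Pi.single (Sum.inr a) 1) ((-t) • Pi.single o0 1) := by
  apply Cfsg.Agent.Helper28.Spin.matrix_ext_mulVec
  intro x
  rw [ymB_mulVec, siegM_mulVec, B_single, Q_smul_o0]
  have hB : B (QfOdd n F) ((-t) • (Pi.single o0 1 : I n → F)) x = (-t) * (2 * x o0) := by
    show QuadraticMap.polar _ ((-t) • (Pi.single o0 1 : I n → F)) x = _
    rw [QuadraticMap.polar_smul_left]
    have := B_o0 (n := n) x
    simp only [B] at this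
    rw [this]; rfl
  rw [hB, smul_smul]
  module

/-- the isometry group and `Ω` of the form `QfOdd` -/
abbrev OOb (n : ℕ) (F : Type*) [Field F] : Type _ := ↥(Cfsg.isometryGroup F ⇑(QfOdd n F))

/-- `Ω` of the form `QfOdd` -/
abbrev GOb (n : ℕ) (F : Type*) [Field F] : Type _ := ↥(Cfsg.Omega F ⇑(QfOdd n F))

/-- the standard frame of three hyperbolic pairs -/
noncomputable def fr3 (hn : 3 ≤ n) : Frame3 (QfOdd n F) :=
  frameOf (fun j : Fin 3 => (Sum.inr (Sum.inl (Fin.castLE hn j)) : I n))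
    (fun j : Fin 3 => (Sum.inr (Sum.inr (Fin.castLE hn j)) : I n))
    (by
      intro x y h
      rcases x with x | x <;> rcases y with y | y <;>
        simp only [Sum.elim_inl, Sum.elim_inr, Sum.inl.injEq, Sum.inr.injEq, reduceCtorEq,
          Fin.castLE_inj] at h
      · rw [h]
      · rw [h])
    (fun j => hypPair_odd n _)

theorem Q_nondeg (h2 : (2 : F) ≠ 0) :
    (QuadraticMap.polarBilin (QfOdd n F)).Nondegenerate :=
  Cfsg.Agent.S0292.QfOdd_nondeg h2 (F := F) n

/-- every Siegel transformation lies in `Ω` -/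
theorem sieg_mem_Omega (hn : 3 ≤ n) (h2 : (2 : F) ≠ 0) (u v : I n → F)
    (hu : QfOdd n F u = 0) (huv : B (QfOdd n F) u v = 0) :
    siegO (QfOdd n F) u v hu huv ∈ Cfsg.Omega F ⇑(QfOdd n F) :=
  S_le_Omega (Q_nondeg h2) (fr3 hn) (siegO_mem_S _ u v hu huv)

/-- a Siegel transformation as an element of `Ω` -/
noncomputable def sgB (hn : 3 ≤ n) (h2 : (2 : F) ≠ 0) (u v : I n → F)
    (hu : QfOdd n F u = 0) (huv : B (QfOdd n F) u v = 0) : GOb n F :=
  ⟨siegO (QfOdd n F) u v hu huv, sieg_mem_Omega hn h2 u v hu huv⟩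

/-- the long root elements in `Ω` -/
noncomputable def Y (hn : 3 ≤ n) (h2 : (2 : F) ≠ 0) (a b : J n) (t : F) : GOb n F :=
  if hab : IsRoot a b then
    sgB hn h2 (Pi.single (Sum.inr (ng b)) 1) (t • Pi.single (Sum.inr a) 1) (Q_single _)
      (B_single_smul_single hab t)
  else 1

/-- the short root elements in `Ω` -/
noncomputable def Z (hn : 3 ≤ n) (h2 : (2 : F) ≠ 0) (a : J n) (t : F) : GOb n F :=
  sgB hn h2 (Pi.single (Sum.inr a) 1) ((-t) • Pi.single o0 1) (Q_single _)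
    (B_single_smul_o0 a (-t))

theorem Y_of_root (hn : 3 ≤ n) (h2 : (2 : F) ≠ 0) {a b : J n} (hab : IsRoot a b) (t : F) :
    ((Y hn h2 a b t : GOb n F) : OOb n F) =
      siegO (QfOdd n F) (Pi.single (Sum.inr (ng b)) 1) (t • Pi.single (Sum.inr a) 1) (Q_single _)
        (B_single_smul_single hab t) := by
  unfold Y
  rw [dif_pos hab]
  rfl

theorem Z_val (hn : 3 ≤ n) (h2 : (2 : F) ≠ 0) (a : J n) (t : F) :
    ((Z hn h2 a t : GOb n F) : OOb n F) =
      siegO (QfOdd n F) (Pi.single (Sum.inr a) 1) ((-t) • Pi.single o0 1) (Q_single _)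
        (B_single_smul_o0 a (-t)) := rfl

theorem coe_Y (hn : 3 ≤ n) (h2 : (2 : F) ≠ 0) {a b : J n} (hab : IsRoot a b) (t : F) :
    mt (QfOdd n F) ((Y hn h2 a b t : GOb n F) : OOb n F) = xmB a b t := by
  rw [xmB_eq_siegM hab t, Y_of_root hn h2 hab t, siegO_val]

theorem coe_Z (hn : 3 ≤ n) (h2 : (2 : F) ≠ 0) (a : J n) (t : F) :
    mt (QfOdd n F) ((Z hn h2 a t : GOb n F) : OOb n F) = ymB a t := by
  rw [ymB_eq_siegM a t, Z_val hn h2 a t, siegO_val]

/-- the root elements generate `Ω` -/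
theorem closure_eq_top [Fintype F] (hn : 3 ≤ n) (h2 : (2 : F) ≠ 0) :
    Subgroup.closure ({g : GOb n F | ∃ a b, ∃ t : F, IsRoot a b ∧ g = Y hn h2 a b t} ∪
      {g : GOb n F | ∃ a, ∃ t : F, g = Z hn h2 a t}) = ⊤ := by
  classical
  set H' : Subgroup (GOb n F) :=
    Subgroup.closure ({g : GOb n F | ∃ a b, ∃ t : F, IsRoot a b ∧ g = Y hn h2 a b t} ∪
      {g : GOb n F | ∃ a, ∃ t : F, g = Z hn h2 a t}) with hH'
  set H : Subgroup (OOb n F) := H'.map (Cfsg.Omega F ⇑(QfOdd n F)).subtype with hH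
  set i0 : Fin n := ⟨0, by omega⟩ with hi0
  set e : I n → F := Pi.single (Sum.inr (Sum.inl i0)) 1 with he
  set f : I n → F := Pi.single (Sum.inr (Sum.inr i0)) 1 with hf
  have hp : HypPair (QfOdd n F) e f :=
    ⟨Q_single _, Q_single _, by rw [he, B_single]; simp [hf]⟩
  -- long root elements with singular vector `e_x`
  have hmemY : ∀ (x c : J n) (t : F), c ≠ x → c ≠ ng x →
      t • (Pi.single (Sum.inr c) 1 : I n → F) ∈ Rad H (Pi.single (Sum.inr x) 1) (Q_single x) := by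
    intro x c t h1 h2'
    have hroot : IsRoot c (ng x) := ⟨h2', by rw [ng_ng]; exact h1⟩
    have hB : B (QfOdd n F) (Pi.single (Sum.inr x) 1) (t • (Pi.single (Sum.inr c) 1 : I n → F)) = 0 := by
      have := B_single_smul_single (F := F) hroot t
      rwa [ng_ng] at this
    refine ⟨hB, ?_⟩
    refine ⟨Y hn h2 c (ng x) t,
      Subgroup.subset_closure (Or.inl ⟨c, ng x, t, hroot, rfl⟩), ?_⟩
    show ((Y hn h2 c (ng x) t : GOb n F) : OOb n F) = _
    rw [Y_of_root hn h2 hroot t]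
    exact siegO_congr _ _ _ _ _ (by rw [ng_ng]) rfl
  -- short root elements with singular vector `e_x`
  have hmemZ : ∀ (x : J n) (t : F),
      t • (Pi.single o0 1 : I n → F) ∈ Rad H (Pi.single (Sum.inr x) 1) (Q_single x) := by
    intro x t
    refine ⟨B_single_smul_o0 x t, ?_⟩
    refine ⟨Z hn h2 x (-t), Subgroup.subset_closure (Or.inr ⟨x, -t, rfl⟩), ?_⟩
    show ((Z hn h2 x (-t) : GOb n F) : OOb n F) = _
    rw [Z_val]
    exact siegO_congr _ _ _ _ _ rfl (by rw [neg_neg])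
  have hrad : ∀ (x : J n) (w : I n → F), w (Sum.inr x) = 0 → w (Sum.inr (ng x)) = 0 →
      w ∈ Rad H (Pi.single (Sum.inr x) 1) (Q_single x) := by
    intro x w hwx hwn
    have hw : w = ∑ k : I n, w k • (Pi.single k 1 : I n → F) := by
      ext d
      rw [Finset.sum_apply]
      simp [Pi.single_apply]
    rw [hw]
    apply AddSubgroup.sum_mem
    intro k _
    rcases k with u | c
    · exact hmemZ x (w (Sum.inl u))
    · by_cases h1 : c = x
      · rw [h1, hwx, zero_smul]; exact AddSubgroup.zero_mem _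
      by_cases h2' : c = ng x
      · rw [h2', hwn, zero_smul]; exact AddSubgroup.zero_mem _
      exact hmemY x c (w (Sum.inr c)) h1 h2'
  have hE : ∀ w, B (QfOdd n F) e w = 0 → B (QfOdd n F) f w = 0 → w ∈ Rad H e hp.Qe := by
    intro w h1 h2'
    rw [he, B_single] at h1
    rw [hf, B_single] at h2'
    exact hrad (Sum.inl i0) w (by simpa using h2') (by simpa using h1)
  have hF : ∀ w, B (QfOdd n F) e w = 0 → B (QfOdd n F) f w = 0 → w ∈ Rad H f hp.Qf := by
    intro w h1 h2'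
    rw [he, B_single] at h1
    rw [hf, B_single] at h2'
    exact hrad (Sum.inr i0) w (by simpa using h1) (by simpa using h2')
  -- the nonsingular vector `e_0`
  set w₀ : I n → F := Pi.single o0 1 with hw₀
  have h0e : B (QfOdd n F) e w₀ = 0 := by
    rw [he, B_single]
    simp [hw₀]
  have h0f : B (QfOdd n F) f w₀ = 0 := by
    rw [hf, B_single]
    simp [hw₀]
  have h0 : QfOdd n F w₀ ≠ 0 := by
    rw [hw₀, Q_o0]; exact one_ne_zero
  have hS : S (QfOdd n F) ≤ H := S_le_of_rad (Q_nondeg h2) hp hE hF h0e h0f h0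
  rw [eq_top_iff]
  intro (g : GOb n F) _
  have hg : (g : OOb n F) ∈ H := by
    apply hS
    rw [← Omega_eq_S (Q_nondeg h2) (fr3 hn) (hgen_odd h2 (Q_nondeg h2))]
    exact g.2
  obtain ⟨g', hg', hgg'⟩ := hg
  have : g' = g := Subtype.ext hgg'
  rw [← this]; exact hg'

/-- the statement for an arbitrary function equal to the quadratic form -/
theorem main [Fintype F] (hn : 3 ≤ n) (h2 : (2 : F) ≠ 0) (q : (I n → F) → F)
    (hq : ⇑(QfOdd n F) = q) :
    ∃ (Y' : J n → J n → F → ↥(Cfsg.Omega F q)) (Z' : J n → F → ↥(Cfsg.Omega F q)),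
      (∀ a b, IsRoot a b → ∀ t : F,
        (((Y' a b t : ↥(Cfsg.isometryGroup F q)) : GL (I n) F) : Matrix (I n) (I n) F) =
          xmB a b t) ∧
      (∀ a, ∀ t : F,
        (((Z' a t : ↥(Cfsg.isometryGroup F q)) : GL (I n) F) : Matrix (I n) (I n) F) =
          ymB a t) ∧
      Subgroup.closure ({g | ∃ a b, ∃ t : F, IsRoot a b ∧ g = Y' a b t} ∪
        {g | ∃ a, ∃ t : F, g = Z' a t}) = ⊤ := by
  subst hq
  exact ⟨Y hn h2, Z hn h2, fun a b hab t => coe_Y hn h2 hab t, fun a t => coe_Z hn h2 a t,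
    closure_eq_top hn h2⟩

end MODELB

/-- MODELB -/
theorem exists_modelB [Fintype F] (hn : 3 ≤ n) (h2 : (2 : F) ≠ 0) :
    ∃ (Y : J n → J n → F → ↥(Cfsg.Omega F (Cfsg.quadFormOdd n F)))
      (Z : J n → F → ↥(Cfsg.Omega F (Cfsg.quadFormOdd n F))),
      (∀ a b, IsRoot a b → ∀ t : F, coeΩB n F (Y a b t) = xmB a b t) ∧
      (∀ a, ∀ t : F, coeΩB n F (Z a t) = ymB a t) ∧
      Subgroup.closure ({g | ∃ a b, ∃ t : F, IsRoot a b ∧ g = Y a b t} ∪
        {g | ∃ a, ∃ t : F, g = Z a t}) = ⊤ := by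
  obtain ⟨Y, Z, h1, h2', h3⟩ :=
    MODELB.main hn h2 (Cfsg.quadFormOdd n F) (Cfsg.Agent.S2614.QfOdd_coe n)
  exact ⟨Y, Z, fun a b hab t => h1 a b hab t, fun a t => h2' a t, h3⟩

end Cfsg.Agent.S2094P
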