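import Mathlib
import Cfsg.Agent.Helper2.S2096.Defs

set_option autoImplicit false
set_option linter.unusedSectionVars false
set_option linter.unusedVariables false

/-! S2096/S2097 part B, piece SCAL (helper20): a matrix commuting with all model root elements
`xm a b t` is scalar. -/

namespace Cfsg.Agent.S2096P

open Matrix Cfsg.Agent.S3352P Cfsg.Agent.S3351P Cfsg.Agent.S2086P

variable {n : ℕ} {F : Type*} [Field F] [Fintype F] {M : Type*} [Group M] {X : J n → J n → F → M}

namespace SCAL

theorem comm_N (A : Matrix (J n) (J n) F)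
    (hA : ∀ a b, IsRoot a b → ∀ t : F, A * xm a b t = xm a b t * A) {a b : J n}
    (hab : IsRoot a b) :
    A * (Matrix.single a b (1 : F) - Matrix.single (ng b) (ng a) (1 : F)) =
      (Matrix.single a b (1 : F) - Matrix.single (ng b) (ng a) (1 : F)) * A := by
  have := hA a b hab 1
  unfold xm at this
  rw [one_smul, mul_add, add_mul, mul_one, one_mul] at this
  exact add_left_cancel this

theorem entry_zero (A : Matrix (J n) (J n) F)
    (hA : ∀ a b, IsRoot a b → ∀ t : F, A * xm a b t = xm a b t * A) {a b i : J n}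
    (hab : IsRoot a b) (hia : i ≠ a) (hib : i ≠ ng b) : A i a = 0 := by
  have hb : b ≠ ng a := by
    intro e
    apply hab.2
    rw [e, ng_ng]
  have h : (A * (Matrix.single a b (1 : F) - Matrix.single (ng b) (ng a) (1 : F))) i b =
      ((Matrix.single a b (1 : F) - Matrix.single (ng b) (ng a) (1 : F)) * A) i b := by
    rw [comm_N A hA hab]
  rw [Matrix.mul_sub, Matrix.sub_mul, Matrix.sub_apply, Matrix.sub_apply,
    Matrix.mul_single_apply_same, Matrix.mul_single_apply_of_ne _ _ _ _ _ hb,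
    Matrix.single_mul_apply_of_ne _ _ _ _ _ hia, Matrix.single_mul_apply_of_ne _ _ _ _ _ hib] at h
  simpa using h

theorem diag_eq (A : Matrix (J n) (J n) F)
    (hA : ∀ a b, IsRoot a b → ∀ t : F, A * xm a b t = xm a b t * A) {a b : J n}
    (hab : IsRoot a b) : A a a = A b b := by
  have hb : b ≠ ng a := by
    intro e
    apply hab.2
    rw [e, ng_ng]
  have h : (A * (Matrix.single a b (1 : F) - Matrix.single (ng b) (ng a) (1 : F))) a b =
      ((Matrix.single a b (1 : F) - Matrix.single (ng b) (ng a) (1 : F)) * A) a b := by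
    rw [comm_N A hA hab]
  rw [Matrix.mul_sub, Matrix.sub_mul, Matrix.sub_apply, Matrix.sub_apply,
    Matrix.mul_single_apply_same, Matrix.mul_single_apply_of_ne _ _ _ _ _ hb,
    Matrix.single_mul_apply_same, Matrix.single_mul_apply_of_ne _ _ _ _ _ hab.2] at h
  simpa using h

end SCAL

/-- SCAL -/
theorem scalar_of_comm (hn : 3 ≤ n) (A : Matrix (J n) (J n) F)
    (hA : ∀ a b, IsRoot a b → ∀ t : F, A * xm a b t = xm a b t * A) : ∃ lam : F, A = lam • 1 := by
  obtain ⟨a0, ha0⟩ : ∃ a0 : J n, a0 = Sum.inl (⟨0, by omega⟩ : Fin n) := ⟨_, rfl⟩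
  refine ⟨A a0 a0, ?_⟩
  ext i j
  rw [Matrix.smul_apply, smul_eq_mul]
  by_cases hij : i = j
  · subst hij
    rw [Matrix.one_apply_eq, mul_one]
    obtain ⟨k, hki, hka⟩ := exists_third_ab hn (ab i) (ab a0)
    have r1 : IsRoot i (Sum.inl k : J n) := isRoot_iff_ab.2 (by rw [ab_inl]; exact hki.symm)
    have r2 : IsRoot (Sum.inl k : J n) a0 := isRoot_iff_ab.2 (by rw [ab_inl]; exact hka)
    rw [SCAL.diag_eq A hA r1, SCAL.diag_eq A hA r2]
  · rw [Matrix.one_apply_ne hij, mul_zero]
    obtain ⟨k, hkj, hki⟩ := exists_third_ab hn (ab j) (ab i)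
    have r1 : IsRoot j (Sum.inl k : J n) := isRoot_iff_ab.2 (by rw [ab_inl]; exact hkj.symm)
    have h2 : i ≠ ng (Sum.inl k : J n) := by
      intro e
      apply hki
      rw [e, ab_ng, ab_inl]
    exact SCAL.entry_zero A hA r1 hij h2

end Cfsg.Agent.S2096P
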