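import Mathlib
import Cfsg.Agent.Helper2.S2099.DefsM

set_option autoImplicit false
set_option linter.unusedSectionVars false
set_option linter.unusedVariables false

/-! S2099 chapter M, piece QF2 (helper20; driver helper2): the polar form of the anisotropic binary
form is not zero. -/

namespace Cfsg.Agent.S2099P

open Matrix Cfsg.Agent.S3352P Cfsg.Agent.S3351P Cfsg.Agent.S2096P

variable {n : ℕ} {F : Type*} [Field F] {κ : Type} [Fintype κ] [DecidableEq κ]

theorem exists_polar_qf2_ne_zero {a b : F}
    (hab : ∀ z₁ z₂ : F, z₁ ^ 2 + a * z₁ * z₂ + b * z₂ ^ 2 = 0 → z₁ = 0 ∧ z₂ = 0) [Finite F] :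
    ∃ w v : Fin 2 → F, QuadraticMap.polar (qf2 a b) w v ≠ 0 := by
  by_cases h2 : (2 : F) = 0
  · by_cases ha : a = 0
    · exfalso
      have hch : ringChar F = 2 := by
        have : CharP F 2 := by
          apply CharTwo.of_one_ne_zero_of_two_eq_zero one_ne_zero h2
        exact ringChar.eq F 2
      obtain ⟨c, hc⟩ := FiniteField.isSquare_of_char_two hch b
      have := (hab c 1 (by rw [ha, hc]; linear_combination (c * c) * h2)).2
      exact one_ne_zero this
    · refine ⟨Pi.single 0 1, Pi.single 1 1, ?_⟩
      rw [polar_qf2]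
      simpa using ha
  · refine ⟨Pi.single 0 1, Pi.single 0 1, ?_⟩
    rw [polar_qf2]
    simpa using h2

end Cfsg.Agent.S2099P
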