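import Mathlib
import Cfsg.Agent.Helper2.S2099.DefsR
import Cfsg.Agent.Helper2.S2099.DefsN
import Cfsg.Agent.Helper2.S2099.DefsZ
import Cfsg.Agent.Helper2.S2096.Defs
import Cfsg.Agent.Helper20.S2096HALFSL
import Cfsg.Agent.Helper23.S2099PIHALFQ
import Cfsg.Agent.Helper23.S2099PITQ
import Cfsg.Agent.Helper15.S2099KREFL
import Cfsg.Agent.Helper4.S2099HABELQ
import Cfsg.Agent.Helper8.S2099TKMUL
import Cfsg.Agent.Helper7.S2099HGENQ

set_option autoImplicit false
set_option linter.unusedSectionVars false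
set_option linter.unusedVariables false

/-! S2099 chapter Z, piece HKERQ2 (helper20; driver helper2): the elements of the torus with
matrix `-1`. -/

namespace Cfsg.Agent.S2099P

open Matrix Cfsg.Agent.S3352P Cfsg.Agent.S3351P Cfsg.Agent.S2096P Cfsg.Agent.S2086P Cfsg.Agent.RGD
  Cfsg.Agent.Helper2
open Cfsg.Agent.S2094P (RB RootB sc NgEquivariant mapB reflB MD XD XD_coe isRoot_ng_right'
  isRoot_ng_left' sw_ngEquivariant sc_ngEquivariant)

section field

variable {n : ℕ} {F : Type*} [Field F] {a b : F} [Aniso a b] {M : Type*} [Group M]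
  {X : J n → J n → F → M} {Ys : J n → (Fin 2 → F) → M}

namespace HKERQ2

theorem conj_one : QK.conj (1 : QK a b) = 1 := by
  ext
  · simp
  · simp

theorem conj_neg (x : QK a b) : QK.conj (-x) = -QK.conj x := by
  ext <;> simp <;> ring

theorem two_ne_zero_K (h2 : (2 : F) ≠ 0) : (2 : QK a b) ≠ 0 := by
  intro h
  apply h2
  have h3 : (2 : QK a b) = ((2 : ℕ) : QK a b) := by norm_cast
  rw [h3] at h
  have := congrArg QK.re h
  rw [QK.natCast_re, QK.zero_re] at this
  exact_mod_cast this

/-- an element with `conj l = -l` and `conj l = l` vanishes -/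
theorem eq_zero_of_conj (h2 : (2 : F) ≠ 0) {l : QK a b} (h1 : QK.conj l = -l)
    (h3 : QK.conj l = l) : l = 0 := by
  have h4 : (2 : QK a b) * l = 0 := by
    have : l = -l := by rw [← h1, h3]
    calc (2 : QK a b) * l = l + l := by ring
      _ = l + -l := by rw [← this]
      _ = 0 := by ring
  rcases mul_eq_zero.1 h4 with h | h
  · exact absurd h (two_ne_zero_K h2)
  · exact h

end HKERQ2

open HKERQ2

/-- HKERQ2 -/
theorem cases_of_pi_eq_neg_one [Fintype F] (π : M →* Matrix (IQ n (Fin 2)) (IQ n (Fin 2)) F)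
    (hπX : ∀ a b, IsRoot a b → ∀ t : F, π (X a b t) = xmQ a b t)
    (hπY : ∀ c, ∀ w : Fin 2 → F, π (Ys c w) = ymQ (qf2 a b) c w) (hn : 3 ≤ n)
    (h2 : (2 : F) ≠ 0) (hB : QRel (qf2 a b) X Ys) (o : Fin n) {h : M}
    (hh : h ∈ HhQ (qf2 a b) X Ys) (hπh : π h = -1) :
    Even n ∧ ¬ IsSquare (-1 : F) ∧ h * h = tK Ys (Sum.inl o) (-1 : QK a b) := by
  classical
  obtain ⟨Θ, hΘ0⟩ := exists_half_sl (G := M) hn hB.dX (∅ : Finset (Fin n))
  have hΘ : ∀ (i j : Fin n) (hij : i ≠ j) (t : F),
      Θ (Matrix.SpecialLinearGroup.transvection hij t) = X (Sum.inl i) (Sum.inl j) t := by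
    intro i j hij t
    rw [hΘ0 i j hij t]
    simp [half]
  obtain ⟨d, l, hl, rfl⟩ := exists_of_mem_HhQ π hπX Θ hΘ hn hB o hh
  have hnl : QK.nrm l ≠ 0 := fun h0 => hl (QK.nrm_eq_zero h0)
  have hQl : qf2 a b (QK.toP l) ≠ 0 := by rw [QK.qf2_toP]; exact hnl
  have hA := pi_Theta_Q π hπX Θ hΘ (dgS n F d)
  have hBm := pi_tY π hπY (e₁ := e1) (qf2_e1 a b) (Sum.inl o) hQl
  have htK : tK Ys (Sum.inl o) l = tY (qf2 a b) Ys e1 (Sum.inl o) (QK.toP l) := rfl
  rw [map_mul, hA, htK, hBm] at hπh
  unfold blkQ at hπh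
  rw [Matrix.fromBlocks_multiply] at hπh
  have hneg : (-1 : Matrix (IQ n (Fin 2)) (IQ n (Fin 2)) F) =
      Matrix.fromBlocks (-1) 0 0 (-1) := by
    rw [← Matrix.fromBlocks_one, Matrix.fromBlocks_neg]
    simp
  rw [hneg, Matrix.fromBlocks_inj] at hπh
  obtain ⟨h11, -, -, h22⟩ := hπh
  rw [Matrix.mul_zero, zero_add, one_mul] at h22
  rw [Matrix.zero_mul, add_zero] at h11
  -- the rotation part: `conj l = -l`
  have hconj : QK.conj l = -l := by
    have h3 := rotM_mulVec (qf2 a b) e1 (QK.toP l) (QK.toP (1 : QK a b))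
    rw [h22, QK.toP_one (a := a) (b := b)] at h3
    have h4 := rot_toP hl (1 : QK a b)
    rw [QK.toP_one (a := a) (b := b), ← h3, mul_one, Matrix.neg_mulVec, Matrix.one_mulVec,
      ← QK.toP_one (a := a) (b := b), ← QK.toP_neg] at h4
    have h5 := QK.toP_injective h4
    have hcl : QK.conj l ≠ 0 := by
      intro h0
      apply hl
      have := QK.conj_conj l
      rw [h0] at this
      rw [← this]
      ext <;> simp
    have h6 : l = -QK.conj l := by
      field_simp at h5
      rw [h5]
    calc QK.conj l = -(-QK.conj l) := (neg_neg _).symm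
      _ = -l := by rw [← h6]
  -- the diagonal part
  set δ : Fin n → F := fun i => ((d.1 i : Fˣ) : F) with hδ
  have hdiag : ∀ i : Fin n, δ i * (if (Sum.inl i : J n) = Sum.inl o then qf2 a b (QK.toP l)
      else if (Sum.inl i : J n) = ng (Sum.inl o) then (qf2 a b (QK.toP l))⁻¹ else 1) = -1 := by
    intro i
    have := congrFun (congrFun h11 (Sum.inl i)) (Sum.inl i)
    rw [Matrix.mul_diagonal, Matrix.fromBlocks_apply₁₁, dgS_coe, Matrix.diagonal_apply_eq] at this
    simpa using this
  have hdi : ∀ i : Fin n, i ≠ o → δ i = -1 := by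
    intro i hi
    have := hdiag i
    rw [if_neg (fun h => hi (Sum.inl_injective h)), if_neg (by simp), mul_one] at this
    exact this
  have hdo : δ o * QK.nrm l = -1 := by
    have := hdiag o
    rw [if_pos rfl, QK.qf2_toP] at this
    exact this
  have hprod : δ o * (-1) ^ (n - 1) = 1 := by
    have h1 : ∏ i, d.1 i = 1 := d.2
    have h3 := congrArg (fun u : Fˣ => (u : F)) h1
    simp only [Units.coe_prod, Units.val_one] at h3
    rw [← Finset.mul_prod_erase Finset.univ _ (Finset.mem_univ o)] at h3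
    have h4 : ∏ x ∈ Finset.univ.erase o, ((d.1 x : Fˣ) : F) = (-1) ^ (n - 1) := by
      rw [Finset.prod_congr rfl (fun x hx => hdi x (Finset.ne_of_mem_erase hx)),
        Finset.prod_const, Finset.card_erase_of_mem (Finset.mem_univ o), Finset.card_univ,
        Fintype.card_fin]
    rw [h4] at h3
    exact h3
  have hmul : algebraMap F (QK a b) (QK.nrm l) = -(l * l) := by
    rw [← QK.mul_conj, hconj]
    ring
  -- `n` is even
  have hev : Even n := by
    rcases Nat.even_or_odd n with he | ho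
    · exact he
    · exfalso
      have h1 : Even (n - 1) := by
        obtain ⟨k, hk⟩ := ho
        exact ⟨k, by omega⟩
      rw [h1.neg_one_pow, mul_one] at hprod
      rw [hprod, one_mul] at hdo
      rw [hdo] at hmul
      have h3 : l * l = 1 := by
        have : (algebraMap F (QK a b)) (-1) = -1 := by rw [map_neg, map_one]
        rw [this] at hmul
        exact (neg_injective hmul).symm
      rcases mul_self_eq_one_iff.1 h3 with h4 | h4
      · exact hl (eq_zero_of_conj h2 hconj (by rw [h4, conj_one]))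
      · exact hl (eq_zero_of_conj h2 hconj (by rw [h4, conj_neg, conj_one]))
  have hodd : Odd (n - 1) := by
    obtain ⟨k, hk⟩ := hev
    exact ⟨k - 1, by omega⟩
  rw [hodd.neg_one_pow, mul_neg, mul_one] at hprod
  have hdo' : δ o = -1 := by
    have := neg_eq_iff_eq_neg.1 hprod
    exact this
  rw [hdo', neg_mul, one_mul, neg_inj] at hdo
  rw [hdo, map_one] at hmul
  have hll : l * l = -1 := by
    rw [hmul, neg_neg]
  refine ⟨hev, ?_, ?_⟩
  · rintro ⟨s, hs⟩
    have h3 : (l - algebraMap F (QK a b) s) * (l + algebraMap F (QK a b) s) = 0 := by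
      have : (l - algebraMap F (QK a b) s) * (l + algebraMap F (QK a b) s) =
          l * l - algebraMap F (QK a b) (s * s) := by
        rw [map_mul]; ring
      rw [this, ← hs, hll, map_neg, map_one]
      ring
    rcases mul_eq_zero.1 h3 with h4 | h4
    · have h5 : l = algebraMap F (QK a b) s := sub_eq_zero.1 h4
      exact hl (eq_zero_of_conj h2 hconj (by rw [h5, QK.conj_algebraMap]))
    · have h5 : l = -algebraMap F (QK a b) s := eq_neg_of_add_eq_zero_left h4
      exact hl (eq_zero_of_conj h2 hconj (by rw [h5, conj_neg, QK.conj_algebraMap]))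
  · have hBmem : tK Ys (Sum.inl o) l ∈ HhQ (qf2 a b) X Ys := by
      rw [htK]
      exact tY_mem_HhQ e1 e1_ne_zero (Sum.inl o) (fun h0 => hl (QK.toP_eq_zero.1 h0))
    have hc := HhQ_comm π hπX hn hB hh hBmem
    have hc' : Θ (dgS n F d) * tK Ys (Sum.inl o) l = tK Ys (Sum.inl o) l * Θ (dgS n F d) := by
      apply mul_right_cancel (b := tK Ys (Sum.inl o) l)
      rw [hc, mul_assoc]
    have hdd : d * d = 1 := by
      apply Subtype.ext
      funext i
      apply Units.ext
      show ((d.1 i : Fˣ) : F) * ((d.1 i : Fˣ) : F) = 1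
      by_cases hi : i = o
      · rw [hi]
        show δ o * δ o = 1
        rw [hdo']
        ring
      · show δ i * δ i = 1
        rw [hdi i hi]
        ring
    calc Θ (dgS n F d) * tK Ys (Sum.inl o) l * (Θ (dgS n F d) * tK Ys (Sum.inl o) l)
        = Θ (dgS n F d) * (tK Ys (Sum.inl o) l * Θ (dgS n F d)) * tK Ys (Sum.inl o) l := by
          simp only [mul_assoc]
      _ = Θ (dgS n F d) * (Θ (dgS n F d) * tK Ys (Sum.inl o) l) * tK Ys (Sum.inl o) l := by
          rw [← hc']
      _ = Θ (dgS n F (d * d)) * (tK Ys (Sum.inl o) l * tK Ys (Sum.inl o) l) := by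
          rw [map_mul, map_mul]
          simp only [mul_assoc]
      _ = tK Ys (Sum.inl o) (-1 : QK a b) := by
          rw [hdd, map_one, map_one, one_mul, ← tK_mul hn hB (Sum.inl o) hl hl, hll]

end field

end Cfsg.Agent.S2099P
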