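import Mathlib
import Cfsg.Prelude.Def_GeometricClasses
import Cfsg.Agent.Helper2.S5886.Defs
import Cfsg.Agent.Helper2.S5664.Defs

/-! # S5664 piece DIM2: `¬ M ≤ Nrm` and an alternating non-degenerate form force `dim_K V ≥ 2`. -/

set_option autoImplicit false

namespace Cfsg.Agent.S5664P

open Cfsg.Agent.S5886P

variable {F K V : Type*} [Field F] [Field K] [Algebra F K]
  [AddCommGroup V] [Module F V] [Module K V] [IsScalarTower F K V]

/-- DIM2 (S-M): `V` is non-trivial (else `V ≃ₗ V` is trivial and `M ≤ Nrm`); pick `v ≠ 0`, PARTNER gives `v'` with `B v v' = 1`; `v, v'` are `K`-independent (`B v v = 0`). -/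
theorem DIM2 [Finite K] [Finite V] (B : V →ₗ[K] V →ₗ[K] K) (hB : IsAltND B)
    (M : Subgroup (V ≃ₗ[F] V)) (hMN : ¬ M ≤ Nrm F K V) : 2 ≤ Module.finrank K V := by
  classical
  have hnt : Nontrivial V := by
    by_contra hnt
    rw [not_nontrivial_iff_subsingleton] at hnt
    apply hMN
    intro g _
    exact ⟨1, fun k x => Subsingleton.elim _ _⟩
  obtain ⟨v, hv⟩ := exists_ne (0 : V)
  have hex : ∃ y, B v y ≠ 0 := by
    by_contra hcon
    push_neg at hcon
    exact hv (hB.nd v hcon)
  obtain ⟨y, hy⟩ := hex
  have hli : LinearIndependent K ![v, y] := by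
    rw [LinearIndependent.pair_iff]
    intro s t hst
    have h1 : B v (s • v + t • y) = 0 := by rw [hst, map_zero]
    rw [map_add, map_smul, map_smul, hB.alt v, smul_zero, zero_add, smul_eq_mul] at h1
    have ht : t = 0 := by
      rcases mul_eq_zero.mp h1 with h | h
      · exact h
      · exact absurd h hy
    rw [ht, zero_smul, add_zero] at hst
    rcases smul_eq_zero.mp hst with h | h
    · exact ⟨h, ht⟩
    · exact absurd h hv
  haveI : Module.Finite K V := Module.Finite.of_finite
  have := hli.fintype_card_le_finrank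
  simpa using this

end Cfsg.Agent.S5664P
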