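import Mathlib
import Cfsg.Prelude.Def_GeometricClasses
import Cfsg.Agent.Helper2.S5886.Defs
import Cfsg.Agent.Helper2.S5664.Defs
import Cfsg.Agent.Helper23.S5664KSPTV
import Cfsg.Agent.Helper4.S5664SIEGEL

/-! # S5664 piece KTRANS2': a `K`-linear isometry of order dividing `p` fixing `v` and moving
`w ↦ w + b • v` (transvection or Siegel element). -/

set_option autoImplicit false

namespace Cfsg.Agent.S5664P

open Cfsg.Agent.S5886P

variable {F K V : Type*} [Field F] [Field K] [Algebra F K]
  [AddCommGroup V] [Module F V] [Module K V] [IsScalarTower F K V]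

namespace KTRANS2P

theorem skew' (B : V →ₗ[K] V →ₗ[K] K) (hB : IsAltND B) (x y : V) : B x y = - B y x := by
  have h := hB.alt (x + y)
  simp only [map_add, LinearMap.add_apply, hB.alt, zero_add, add_zero] at h
  exact eq_neg_of_add_eq_zero_right h

/-- a unipotent element with `(t - 1)^2 = 0`: `t ^ n x = x + n • (t x - x)`. -/
theorem pow_apply (t : V ≃ₗ[F] V) (h2 : ∀ x, t (t x) - t x = t x - x) (n : ℕ) (x : V) :
    (t ^ n) x = x + n • (t x - x) := by
  induction n generalizing x with
  | zero => simp
  | succ n ih =>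
    rw [pow_succ, LinearEquiv.mul_apply, ih (t x), h2 x, succ_nsmul]
    abel

theorem pow_p (p : ℕ) [CharP F p] (t : V ≃ₗ[F] V) (h2 : ∀ x, t (t x) - t x = t x - x) :
    t ^ p = 1 := by
  apply LinearEquiv.ext
  intro x
  rw [pow_apply t h2 p x, ← Nat.cast_smul_eq_nsmul F p (t x - x), CharP.cast_eq_zero F p,
    zero_smul, add_zero]
  rfl

/-- if `w ∉ K v` there is `u ⊥ v` with `B w u ≠ 0`. -/
theorem exists_perp (B : V →ₗ[K] V →ₗ[K] K) (hB : IsAltND B) (v w : V)
    (hw : w ∉ Kline (F := F) (K := K) v) : ∃ u, B u v = 0 ∧ B w u ≠ 0 := by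
  by_contra hcon
  push Not at hcon
  apply hw
  show w ∈ Submodule.span K {v}
  by_cases hall : ∀ x, B x v = 0
  · have : w = 0 := hB.nd w (fun y => hcon y (hall y))
    rw [this]
    exact Submodule.zero_mem _
  · push Not at hall
    obtain ⟨x0, hx0⟩ := hall
    set c : K := B w x0 / B x0 v with hc
    have key : ∀ x, B (w + c • v) x = 0 := by
      intro x
      have h1 : B (x - (B x v / B x0 v) • x0) v = 0 := by
        rw [map_sub, map_smul, LinearMap.sub_apply, LinearMap.smul_apply, smul_eq_mul,
          div_mul_cancel₀ _ hx0, sub_self]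
      have h2 := hcon _ h1
      rw [map_sub, map_smul, smul_eq_mul, sub_eq_zero] at h2
      rw [map_add, map_smul, LinearMap.add_apply, LinearMap.smul_apply, smul_eq_mul, h2,
        skew' B hB v x, hc]
      field_simp
      ring
    have h3 := hB.nd _ key
    have h4 : w = (-c) • v := by
      rw [neg_smul]
      exact eq_neg_of_add_eq_zero_left h3
    rw [h4]
    exact Submodule.smul_mem _ _ (Submodule.mem_span_singleton_self v)

end KTRANS2P

open KTRANS2P in
/-- KTRANS2' (M): if `B w v ≠ 0` use the transvection `x ↦ x + (c * B x v) • v` with `c * B w v = b`; if `B w v = 0`: as `w ∉ K v = (v^⊥)^⊥` there is `u` with `B u v = 0`, `B w u = b` (non-degeneracy; scale), and the Siegel element `x ↦ x + B x u • v + B x v • u` fixes `v` and maps `w ↦ w + b v`. Both are `1 + N` with `N ∘ N = 0`, so `t ^ p = 1 + p N = 1`. -/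
theorem KTRANS2' (p : ℕ) [Fact p.Prime] [CharP F p] (B : V →ₗ[K] V →ₗ[K] K) (hB : IsAltND B)
    (v w : V) (hw : w ∉ Kline (F := F) (K := K) v) (b : F) :
    ∃ t ∈ SpK F B, t v = v ∧ t w = w + b • v ∧ t ^ p = 1 := by
  by_cases hwv : B w v = 0
  · obtain ⟨u0, hu0v, hwu0⟩ := exists_perp (F := F) B hB v w hw
    set u : V := (algebraMap F K b / B w u0) • u0 with hu
    have huv : B u v = 0 := by
      rw [hu, map_smul, LinearMap.smul_apply, hu0v, smul_zero]
    have hvu : B v u = 0 := by rw [skew' B hB, huv, neg_zero]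
    have hwu : B w u = algebraMap F K b := by
      rw [hu, map_smul, smul_eq_mul, div_mul_cancel₀ _ hwu0]
    obtain ⟨g, hg, hgx⟩ := SIEGEL (F := F) B hB v u huv
    refine ⟨g, hg, ?_, ?_, ?_⟩
    · rw [hgx, hvu, hB.alt, zero_smul, zero_smul, add_zero, add_zero]
    · rw [hgx, hwu, hwv, zero_smul, add_zero, algebraMap_smul]
    · apply pow_p p g
      intro x
      have e1 : B (g x) u = B x u := by
        rw [hgx]
        simp only [map_add, map_smul, LinearMap.add_apply, LinearMap.smul_apply, hvu, hB.alt,
          smul_zero, add_zero]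
      have e2 : B (g x) v = B x v := by
        rw [hgx]
        simp only [map_add, map_smul, LinearMap.add_apply, LinearMap.smul_apply, huv, hB.alt,
          smul_zero, add_zero]
      rw [hgx (g x), e1, e2, hgx x]
      abel
  · obtain ⟨g, hg, hgx⟩ := KSPTV (F := F) B hB v (algebraMap F K b / B w v)
    refine ⟨g, hg, ?_, ?_, ?_⟩
    · rw [hgx, hB.alt, mul_zero, zero_smul, add_zero]
    · rw [hgx, div_mul_cancel₀ _ hwv, algebraMap_smul]
    · apply pow_p p g
      intro x
      have e2 : B (g x) v = B x v := by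
        rw [hgx]
        simp only [map_add, map_smul, LinearMap.add_apply, LinearMap.smul_apply, hB.alt,
          smul_zero, add_zero]
      rw [hgx (g x), e2, hgx x]
      abel

end Cfsg.Agent.S5664P
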