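import Mathlib
import Cfsg.Prelude.Def_GeometricClasses
import Cfsg.Agent.Helper2.S5886.Defs
import Cfsg.Agent.Helper1.S5886SPECIAL

/-! S5886 piece C3 (driver helper2; helper20 hedge): the case `r = p = 2`, `dim_K V ≥ 3`. -/

set_option autoImplicit false
set_option linter.unusedVariables false
set_option linter.unusedSectionVars false

namespace Cfsg.Agent.S5886P

variable {F K V : Type*} [Field F] [Field K] [Algebra F K]
  [AddCommGroup V] [Module F V] [Module K V] [IsScalarTower F K V]

namespace C3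

theorem mem_Kline_iff (v x : V) : x ∈ Kline (F := F) (K := K) v ↔ ∃ l : K, l • v = x := by
  unfold Kline
  rw [Submodule.restrictScalars_mem, Submodule.mem_span_singleton]

/-- `1, k` is an `F`-basis of `K` when `[K : F] = 2` and `k ∉ F` -/
theorem exists_coord [Finite K] (hr2 : Module.finrank F K = 2) (k : K)
    (hk : k ∉ Set.range (algebraMap F K)) (μ : K) :
    ∃ α β : F, μ = algebraMap F K α + algebraMap F K β * k := by
  have hli : LinearIndependent F ![(1 : K), k] := by
    rw [linearIndependent_fin2]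
    refine ⟨?_, ?_⟩
    · show k ≠ 0
      intro h0
      exact hk ⟨0, by rw [map_zero, h0]⟩
    · intro a ha
      have ha' : a • k = 1 := ha
      have ha0 : a ≠ 0 := by
        intro h0; rw [h0, zero_smul] at ha'; exact zero_ne_one ha'
      apply hk
      refine ⟨a⁻¹, ?_⟩
      rw [Algebra.smul_def] at ha'
      have h1 : algebraMap F K a ≠ 0 := by
        intro h0; rw [h0, zero_mul] at ha'; exact zero_ne_one ha'
      rw [map_inv₀]
      exact (eq_inv_of_mul_eq_one_right ha').symm
  have hcard : Fintype.card (Fin 2) = Module.finrank F K := by rw [hr2]; rfl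
  let b := basisOfLinearIndependentOfCardEqFinrank hli hcard
  have hb : ⇑b = ![(1 : K), k] := coe_basisOfLinearIndependentOfCardEqFinrank hli hcard
  have hsum := b.sum_repr μ
  rw [Fin.sum_univ_two, hb] at hsum
  refine ⟨b.repr μ 0, b.repr μ 1, ?_⟩
  have h0 : (![(1 : K), k] : Fin 2 → K) 0 = 1 := rfl
  have h1 : (![(1 : K), k] : Fin 2 → K) 1 = k := rfl
  rw [h0, h1, Algebra.smul_def, Algebra.smul_def, mul_one] at hsum
  exact hsum.symm

end C3

/-- C3 : the case `r = p = 2`, `dim_K V ≥ 3` (parity of the fixed space). -/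
theorem C3 [Finite F] [Finite K] [Finite V] [CharP F 2]
    (hm3 : 3 ≤ Module.finrank K V) (hr2 : Module.finrank F K = 2)
    (M : Subgroup (V ≃ₗ[F] V)) (hN : Nrm F K V ⊓ DetIn (⊥ : Subgroup Fˣ) ≤ M)
    (v : V) (k : K) (h : V ≃ₗ[F] V) (hv : v ≠ 0)
    (hh : h ∈ M) (hhv : h v = v) (hhk : h (k • v) ∉ Kline (F := F) (K := K) v)
    (S2 : ∀ g ∈ StabPt M (Kline (F := F) (K := K) v), IsSemi (1 : K ≃ₐ[F] K) (g : V →ₗ[F] V)) :
    False := by
  have : Fact (Nat.Prime 2) := ⟨Nat.prime_two⟩
  -- `k ∉ F`
  have hk : k ∉ Set.range (algebraMap F K) := by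
    rintro ⟨a, rfl⟩
    apply hhk
    rw [algebraMap_smul, map_smul, hhv, ← algebraMap_smul K a v]
    exact (C3.mem_Kline_iff v _).2 ⟨_, rfl⟩
  set w := h (k • v) with hw
  have hwK : w ∉ Submodule.span K {v} := by
    intro hmem
    exact hhk hmem
  -- a third vector
  have hz : ∃ z : V, z ∉ Submodule.span K (Set.range ![w, v]) := by
    by_contra hcon
    push Not at hcon
    have htop : Submodule.span K (Set.range ![w, v]) = ⊤ := by
      rw [eq_top_iff]; intro x _; exact hcon x
    have h1 : Module.finrank K (Submodule.span K (Set.range ![w, v])) ≤ Fintype.card (Fin 2) :=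
      finrank_range_le_card (R := K) ![w, v]
    rw [htop, finrank_top, Fintype.card_fin] at h1
    omega
  obtain ⟨z, hz⟩ := hz
  have he : LinearIndependent K ![z, w, v] := by
    rw [show (![z, w, v] : Fin 3 → V) = Fin.cons z ![w, v] from rfl, linearIndependent_finCons]
    refine ⟨?_, hz⟩
    rw [linearIndependent_fin2]
    refine ⟨hv, fun a ha => ?_⟩
    apply hwK
    rw [Submodule.mem_span_singleton]
    exact ⟨a, ha⟩
  obtain ⟨g0, hg0, hfix, _, hfixsp⟩ := SPECIAL (F := F) (K := K) 2 hr2 3 (by norm_num) ![z, w, v] he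
  have hg0M : g0 ∈ M := hN hg0
  have hg0z : g0 z = z := hfix 0
  have hg0w : g0 w = w := hfix 1
  have hg0v : g0 v = v := hfix 2
  -- the conjugate
  set x : V ≃ₗ[F] V := h⁻¹ * g0 * h with hx
  have hxM : x ∈ M := M.mul_mem (M.mul_mem (M.inv_mem hh) hg0M) hh
  have hxapp : ∀ y, x y = h.symm (g0 (h y)) := fun y => rfl
  have hsv : h.symm v = v := by rw [LinearEquiv.symm_apply_eq, hhv]
  have hxv : x v = v := by rw [hxapp, hhv, hg0v, hsv]
  have hxkv : x (k • v) = k • v := by
    rw [hxapp, ← hw, hg0w, hw, LinearEquiv.symm_apply_apply]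
  have hxL : ∀ y ∈ Kline (F := F) (K := K) v, x y = y := by
    intro y hy
    obtain ⟨μ, rfl⟩ := (C3.mem_Kline_iff (F := F) v y).1 hy
    obtain ⟨α, β, rfl⟩ := C3.exists_coord hr2 k hk μ
    rw [add_smul, mul_smul, algebraMap_smul, algebraMap_smul, map_add, map_smul, map_smul, hxv, hxkv]
  have hxlin := S2 x ⟨hxM, hxL⟩
  -- `x` fixes `z' = h⁻¹ z`, hence `k • z'`
  set z' := h.symm z with hz'
  have hxz' : x z' = z' := by
    rw [hxapp, hz', LinearEquiv.apply_symm_apply, hg0z]
  have hxkz' : x (k • z') = k • z' := by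
    have := hxlin k z'
    rw [AlgEquiv.one_apply] at this
    show (x : V →ₗ[F] V) (k • z') = k • z'
    rw [this]
    show k • x z' = k • z'
    rw [hxz']
  have hg0fix : g0 (h (k • z')) = h (k • z') := by
    have := hxkz'
    rw [hxapp, LinearEquiv.symm_apply_eq] at this
    exact this
  have hspan := hfixsp _ hg0fix
  rw [Submodule.mem_span_range_iff_exists_fun] at hspan
  obtain ⟨c, hc⟩ := hspan
  rw [Fin.sum_univ_three] at hc
  have hc' : c 0 • z' + c 1 • (k • v) + c 2 • v = k • z' := by
    have := congrArg h.symm hc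
    rw [LinearEquiv.symm_apply_apply, map_add, map_add, map_smul, map_smul, map_smul] at this
    simp only [Matrix.cons_val_zero, Matrix.cons_val_one, Matrix.cons_val_two, Matrix.head_cons,
      Matrix.tail_cons] at this
    rw [← hz', hw, LinearEquiv.symm_apply_apply, hsv] at this
    exact this
  -- `z' ∈ K v`
  have hne : k - algebraMap F K (c 0) ≠ 0 := by
    intro h0
    exact hk ⟨c 0, (sub_eq_zero.1 h0).symm⟩
  have hz'L : (k - algebraMap F K (c 0)) • z' =
      (algebraMap F K (c 1) * k + algebraMap F K (c 2)) • v := by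
    rw [sub_smul, add_smul, mul_smul, algebraMap_smul, algebraMap_smul, algebraMap_smul, ← hc']
    abel
  have hz'v : z' = ((k - algebraMap F K (c 0))⁻¹ * (algebraMap F K (c 1) * k + algebraMap F K (c 2))) • v := by
    rw [mul_smul, ← hz'L, smul_smul, inv_mul_cancel₀ hne, one_smul]
  -- hence `z ∈ span {w, v}`
  obtain ⟨α, β, hαβ⟩ := C3.exists_coord hr2 k hk
    ((k - algebraMap F K (c 0))⁻¹ * (algebraMap F K (c 1) * k + algebraMap F K (c 2)))
  rw [hαβ] at hz'v
  have hzz : z = h z' := by rw [hz', LinearEquiv.apply_symm_apply]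
  apply hz
  rw [hzz, hz'v, add_smul, mul_smul, algebraMap_smul, algebraMap_smul, map_add, map_smul, map_smul,
    hhv, ← hw]
  apply Submodule.add_mem
  · rw [← algebraMap_smul K α v]
    exact Submodule.smul_mem _ _ (Submodule.subset_span ⟨1, rfl⟩)
  · rw [← algebraMap_smul K β w]
    exact Submodule.smul_mem _ _ (Submodule.subset_span ⟨0, rfl⟩)

end Cfsg.Agent.S5886P
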