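import Mathlib
import Cfsg.Prelude.Def_GeometricClasses
import Cfsg.Agent.Helper2.S5886.Defs
import Cfsg.Agent.Helper22.S5886YADD
import Cfsg.Agent.Helper26.S5886PROJA
import Cfsg.Agent.Helper22.S5886PROJB
import Cfsg.Agent.Helper20.S5886YBIMOD
import Cfsg.Agent.Helper16.S5886MULTB
import Cfsg.Agent.Helper2.S5886MULTA

/-! S5886 piece KLIN (driver helper2; helper20): for `r = 2` and `Sig ≠ univ` the pointwise stabiliser
of `L = K v` and `yset M L` consist of `K`-linear maps. -/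

set_option autoImplicit false
set_option linter.unusedVariables false
set_option linter.unusedSectionVars false

namespace Cfsg.Agent.S5886P

variable {F K V : Type*} [Field F] [Field K] [Algebra F K]
  [AddCommGroup V] [Module F V] [Module K V] [IsScalarTower F K V]

namespace KLIN

/-- the Galois group has at most two elements when `[K : F] = 2` -/
theorem gal_two [Finite F] [Finite K] (hr2 : Module.finrank F K = 2) (σ τ : K ≃ₐ[F] K)
    (hσ : σ ≠ 1) (hτ : τ ≠ 1) : σ = τ := by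
  by_contra hne
  have h1 : 2 < Fintype.card (K ≃ₐ[F] K) :=
    Fintype.two_lt_card_iff.2 ⟨1, σ, τ, hσ.symm, hτ.symm, hne⟩
  have h2 := AlgEquiv.card_le (F := F) (K := K)
  rw [hr2] at h2
  omega

/-- a non-zero `K`-functional vanishing at `v` -/
theorem exists_psi0 [Finite V] (hm : 2 ≤ Module.finrank K V) (v : V) :
    ∃ ψ : V →ₗ[K] K, ψ v = 0 ∧ ∃ w, ψ w ≠ 0 := by
  have hw : ∃ w : V, w ∉ Submodule.span K {v} := by
    by_contra hcon
    push Not at hcon
    have htop : Submodule.span K {v} = ⊤ := by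
      rw [eq_top_iff]; intro x _; exact hcon x
    have h1 : Module.finrank K (Submodule.span K {v}) ≤ 1 := by
      have := finrank_span_le_card (R := K) ({v} : Set V)
      simpa using this
    rw [htop, finrank_top] at h1
    omega
  obtain ⟨w, hw⟩ := hw
  obtain ⟨f, hfw, hf⟩ := Submodule.exists_dual_map_eq_bot_of_notMem hw inferInstance
  refine ⟨f, ?_, w, hfw⟩
  have h1 : f v ∈ (Submodule.span K {v}).map f := ⟨v, Submodule.mem_span_singleton_self v, rfl⟩
  rw [hf] at h1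
  exact (Submodule.mem_bot K).1 h1

/-- a `τ`-semilinear map fixing `v ≠ 0` and `K v` pointwise is `K`-linear -/
theorem semi_eq_one (v : V) (hv : v ≠ 0) (τ : K ≃ₐ[F] K) (g : V → V)
    (h1 : ∀ c : K, g (c • v) = τ c • g v) (hfix : ∀ c : K, g (c • v) = c • v) : τ = 1 := by
  apply AlgEquiv.ext
  intro c
  have h2 := h1 c
  have h3 := hfix c
  have h4 := hfix 1
  rw [one_smul] at h4
  rw [h3, h4] at h2
  have h5 : (c - τ c) • v = 0 := by rw [sub_smul, ← h2, sub_self]
  rcases smul_eq_zero.1 h5 with h | h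
  · rw [AlgEquiv.one_apply]
    exact (sub_eq_zero.1 h).symm
  · exact absurd h hv

theorem smul_mem_Kline (v : V) (c : K) : c • v ∈ Kline (F := F) (K := K) v :=
  (YBIMOD.mem_Kline_iff v _).2 ⟨c, rfl⟩

/-- `1 ∈ Sig` -/
theorem one_mem_Sig [Finite F] [Finite K] [Finite V] (hm : 2 ≤ Module.finrank K V)
    (M : Subgroup (V ≃ₗ[F] V)) (hN : Nrm F K V ⊓ DetIn (⊥ : Subgroup Fˣ) ≤ M) (v : V) (hv : v ≠ 0) :
    (1 : K ≃ₐ[F] K) ∈ Sig (K := K) M (Kline (F := F) (K := K) v) := by
  obtain ⟨ψ, hψv, w, hψw⟩ := exists_psi0 (K := K) hm v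
  set tK : V →ₗ[K] V := LinearMap.transvection ψ v with htK
  set tF : V →ₗ[F] V := tK.restrictScalars F with htF
  have htx : ∀ x, tF x = x + ψ x • v := fun x => rfl
  have hdet : LinearMap.det tF = 1 := by
    rw [htF, LinearMap.det_restrictScalars, htK, LinearMap.transvection.det, hψv, add_zero, map_one]
  have hdet0 : LinearMap.det tF ≠ 0 := by rw [hdet]; exact one_ne_zero
  set g : V ≃ₗ[F] V := LinearMap.equivOfDetNeZero tF hdet0 with hg
  have hgcoe : (g : V →ₗ[F] V) = tF := LinearEquiv.coe_ofIsUnitDet _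
  have hgx : ∀ x, g x = x + ψ x • v := by
    intro x
    have : g x = (g : V →ₗ[F] V) x := rfl
    rw [this, hgcoe, htx]
  have hgM : g ∈ M := by
    apply hN
    refine ⟨⟨1, fun k x => ?_⟩, ?_⟩
    · show (g : V →ₗ[F] V) (k • x) = (1 : K ≃ₐ[F] K) k • (g : V →ₗ[F] V) x
      rw [hgcoe]
      show tK (k • x) = k • tK x
      rw [map_smul]
    · show LinearEquiv.det g ∈ (⊥ : Subgroup Fˣ)
      rw [Subgroup.mem_bot]
      apply Units.ext
      rw [LinearEquiv.coe_det, hgcoe, hdet, Units.val_one]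
  set A : V →ₗ[F] V := (LinearMap.smulRight ψ v).restrictScalars F with hA
  have hAx : ∀ x, A x = ψ x • v := fun x => rfl
  refine ⟨A, ⟨⟨fun x => ?_, fun x hx => ?_⟩, g, hgM, fun x => ?_⟩, fun k x => ?_, ?_⟩
  · rw [hAx]; exact smul_mem_Kline v _
  · obtain ⟨l, rfl⟩ := (YBIMOD.mem_Kline_iff (F := F) v _).1 hx
    rw [hAx, map_smul, hψv, smul_zero, zero_smul]
  · rw [hgx, hAx]
  · rw [hAx, hAx, map_smul, smul_eq_mul, mul_smul, AlgEquiv.one_apply]
  · intro h0
    have := hAx w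
    rw [h0, LinearMap.zero_apply] at this
    rcases smul_eq_zero.1 this.symm with h | h
    · exact hψw h
    · exact hv h

end KLIN

/-- KLIN : for `r = 2` the pointwise stabiliser of `L` is `K`-linear, and `yset` too. -/
theorem KLIN [Finite F] [Finite K] [Finite V] (hm : 2 ≤ Module.finrank K V)
    (hr2 : Module.finrank F K = 2) (Δ : Subgroup Fˣ)
    (M : Subgroup (V ≃ₗ[F] V)) (hN : Nrm F K V ⊓ DetIn Δ ≤ M) (hMΔ : M ≤ DetIn Δ) (v : V) (hv : v ≠ 0)
    (hS : Sig (K := K) M (Kline (F := F) (K := K) v) ≠ Set.univ) :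
    (∀ g ∈ StabPt M (Kline (F := F) (K := K) v), IsSemi (1 : K ≃ₐ[F] K) (g : V →ₗ[F] V)) ∧
      ∀ A ∈ yset M (Kline (F := F) (K := K) v), IsSemi (1 : K ≃ₐ[F] K) A := by
  have hN' : Nrm F K V ⊓ DetIn (⊥ : Subgroup Fˣ) ≤ M := by
    refine le_trans ?_ hN
    refine inf_le_inf_left _ ?_
    intro g hg
    show LinearEquiv.det g ∈ Δ
    have : LinearEquiv.det g ∈ (⊥ : Subgroup Fˣ) := hg
    rw [Subgroup.mem_bot] at this
    rw [this]; exact Δ.one_mem
  have h2 : 2 ≤ Module.finrank F K := by rw [hr2]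
  have hprime : (Module.finrank F K).Prime := by rw [hr2]; exact Nat.prime_two
  have h1S := KLIN.one_mem_Sig hm M hN' v hv
  obtain ⟨σ₀, hσ₀⟩ := (Set.ne_univ_iff_exists_notMem _).1 hS
  have hσ₀1 : σ₀ ≠ 1 := fun h => hσ₀ (h ▸ h1S)
  -- part 2
  have part2 : ∀ A ∈ yset M (Kline (F := F) (K := K) v), IsSemi (1 : K ≃ₐ[F] K) A := by
    intro A hA
    let Y : AddSubgroup (V →ₗ[F] V) :=
      { carrier := yset M (Kline (F := F) (K := K) v)
        add_mem' := fun {a b} ha hb => YADD.add M _ a b ha hb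
        zero_mem' := YADD.zero M _
        neg_mem' := fun {a} ha => YADD.neg M _ a ha }
    have hproj : ∀ σ : K ≃ₐ[F] K, proj σ A ∈ yset M (Kline (F := F) (K := K) v) := by
      intro σ
      exact PROJ.mem Y (fun c B hB => YBIMOD.lsmul hm h2 M hN' v hv c B hB)
        (fun d B hB => YBIMOD.rsmul hm h2 M hN' v hv d B hB) σ A hA
    have hzero : ∀ σ : K ≃ₐ[F] K, σ ≠ 1 → proj σ A = 0 := by
      intro σ hσ
      by_contra hne
      have hσS : σ ∈ Sig (K := K) M (Kline (F := F) (K := K) v) :=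
        ⟨proj σ A, hproj σ, PROJ.semi σ A, hne⟩
      have := KLIN.gal_two hr2 σ σ₀ hσ hσ₀1
      rw [this] at hσS
      exact hσ₀ hσS
    have hsum := PROJ.sum (F := F) (K := K) A
    rw [finsum_eq_single (fun σ : K ≃ₐ[F] K => proj σ A) 1 (fun σ hσ => hzero σ hσ)] at hsum
    rw [← hsum]
    exact PROJ.semi 1 A
  refine ⟨?_, part2⟩
  -- part 1
  rintro g ⟨hgM, hgfix⟩
  have hgL : ∀ x ∈ Kline (F := F) (K := K) v, g x ∈ Kline (F := F) (K := K) v := by
    intro x hx; rw [hgfix x hx]; exact hx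
  obtain ⟨σ, h1, h2'⟩ := MULTA hm hprime M hN' v hv hS g hgM hgL
  have hvL : v ∈ Kline (F := F) (K := K) v := by
    have := KLIN.smul_mem_Kline (F := F) v (1 : K); rwa [one_smul] at this
  have hσ1 : σ = 1 :=
    KLIN.semi_eq_one v hv σ g (fun c => h1 c v hvL) (fun c => hgfix _ (KLIN.smul_mem_Kline v c))
  subst hσ1
  obtain ⟨n, hnN, hdet, hnL, hgn⟩ := MULTB v g hgL 1 h1 h2'
  have hnM : n ∈ M := by
    apply hN
    refine ⟨hnN, ?_⟩
    show LinearEquiv.det n ∈ Δ
    rw [hdet]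
    exact hMΔ hgM
  have hnfix : ∀ x ∈ Kline (F := F) (K := K) v, n x = x := by
    intro x hx; rw [hnL x hx, hgfix x hx]
  obtain ⟨τ, hτ⟩ := hnN
  have hτ1 : τ = 1 :=
    KLIN.semi_eq_one v hv τ n (fun c => hτ c v) (fun c => hnfix _ (KLIN.smul_mem_Kline v c))
  subst hτ1
  have hnlin : ∀ (k : K) (x : V), n (k • x) = k • n x := by
    intro k x
    have := hτ k x
    rwa [AlgEquiv.one_apply] at this
  -- the unipotent part
  set B : V →ₗ[F] V := (g : V →ₗ[F] V) ∘ₗ (n.symm : V →ₗ[F] V) - LinearMap.id with hB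
  have hBx : ∀ x, B x = g (n.symm x) - x := fun x => rfl
  have hBy : ∀ y, B (n y) = g y - n y := by
    intro y; rw [hBx, LinearEquiv.symm_apply_apply]
  have hBmem : B ∈ yset M (Kline (F := F) (K := K) v) := by
    refine ⟨⟨fun x => ?_, fun x hx => ?_⟩, g * n⁻¹, M.mul_mem hgM (M.inv_mem hnM), fun x => ?_⟩
    · have := hgn (n.symm x)
      rw [LinearEquiv.apply_symm_apply] at this
      rw [hBx]; exact this
    · have h3 : n.symm x = x := by
        rw [LinearEquiv.symm_apply_eq, hnfix x hx]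
      rw [hBx, h3, hgfix x hx, sub_self]
    · rw [hBx]
      show g (n.symm x) = x + (g (n.symm x) - x)
      abel
  have hBlin := part2 B hBmem
  intro k x
  show g (k • x) = (1 : K ≃ₐ[F] K) k • g x
  rw [AlgEquiv.one_apply]
  have e1 : ∀ y, g y = n y + B (n y) := by
    intro y; rw [hBy]; abel
  rw [e1 (k • x), e1 x, hnlin, hBlin k (n x), AlgEquiv.one_apply, smul_add]

end Cfsg.Agent.S5886P
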