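import Mathlib
import Cfsg.Prelude.Def_Characters
import Cfsg.Agent.Helper24.PermReal
import Cfsg.Agent.Helper24.GoingDown
import Cfsg.Agent.Helper24.Involutions
import Cfsg.Agent.Helper24.SmallDegree
import Cfsg.Agent.Helper8.CharVal

set_option autoImplicit false

namespace Cfsg.Agent.Helper20

open Cfsg Cfsg.Agent.Helper24

/-- Weighted class equation, integer valued. -/
theorem int_dvd_sum_of_forall_dvd_orbit {G X : Type*} [Group G] [MulAction G X] [Fintype X]
    (f : X → ℤ) (hf : ∀ (g : G) (x : X), f (g • x) = f x) (d : ℤ)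
    (h : ∀ x, d ∣ (Nat.card (MulAction.orbit G x) : ℤ) * f x) : d ∣ ∑ x, f x := by
  classical
  let e := MulAction.selfEquivSigmaOrbits G X
  have h1 : ∑ x, f x = ∑ p : (Σ ω : MulAction.orbitRel.Quotient G X, MulAction.orbit G ω.out),
      f (p.2 : X) := by
    apply Fintype.sum_equiv e
    intro x
    have : ((e x).2 : X) = x := by
      have := e.symm_apply_apply x
      conv_rhs => rw [← this]
      rfl
    rw [this]
  rw [h1, Fintype.sum_sigma]
  apply Finset.dvd_sum
  intro ω _
  have h2 : ∀ x : MulAction.orbit G ω.out, f (x : X) = f ω.out := by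
    rintro ⟨x, g, rfl⟩
    exact hf g _
  rw [Finset.sum_congr rfl (fun x _ => h2 x), Finset.sum_const, nsmul_eq_mul, Finset.card_univ,
    ← Nat.card_eq_fintype_card]
  exact h ω.out

section twist
universe u
variable {G : Type u} [Group G] [Fintype G] (N : Subgroup G) [N.Normal]

/-- twisting an irreducible character by a linear character of `G ⧸ N` -/
noncomputable def twist (lam : (G ⧸ N) →* ℂˣ) (χ : IrrCharacter G) : IrrCharacter G :=
  ⟨fun g => ((lam (g : G ⧸ N) : ℂˣ) : ℂ) * (χ : G → ℂ) g,
    Cfsg.Agent.Helper8.isIrrCharacter_linear_mul (lam.comp (QuotientGroup.mk' N)) χ.2⟩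

theorem twist_apply (lam : (G ⧸ N) →* ℂˣ) (χ : IrrCharacter G) (g : G) :
    (twist N lam χ : G → ℂ) g = ((lam (g : G ⧸ N) : ℂˣ) : ℂ) * (χ : G → ℂ) g := rfl

/-- the twisting action -/
@[reducible] noncomputable def twistAction : MulAction ((G ⧸ N) →* ℂˣ) (IrrCharacter G) where
  smul := twist N
  one_smul χ := by
    apply Subtype.ext
    funext g
    show (twist N 1 χ : G → ℂ) g = _
    rw [twist_apply]
    simp
  mul_smul a b χ := by
    apply Subtype.ext
    funext g
    show (twist N (a * b) χ : G → ℂ) g = (twist N a (twist N b χ) : G → ℂ) g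
    rw [twist_apply, twist_apply, twist_apply]
    simp [mul_assoc]

end twist

end Cfsg.Agent.Helper20
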