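import Mathlib
import Cfsg.Agent.Helper20.InvolCountA

set_option autoImplicit false

namespace Cfsg.Agent.Helper20

open Cfsg Cfsg.Agent.Helper24 Cfsg.Agent.Helper24.GoingDown

section main
universe u
variable {G : Type u} [Group G] [Fintype G] (N : Subgroup G) [N.Normal]

theorem fsInd_twist (hexp : ∀ q : G ⧸ N, q * q = 1) (lam : (G ⧸ N) →* ℂˣ) (χ : IrrCharacter G) :
    fsInd (twist N lam χ : G → ℂ) = fsInd (χ : G → ℂ) := by
  unfold fsInd
  congr 1
  apply Finset.sum_congr rfl
  intro g _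
  rw [twist_apply]
  have : ((g * g : G) : G ⧸ N) = 1 := by rw [QuotientGroup.mk_mul]; exact hexp _
  rw [this, map_one]
  simp

theorem irrDeg_twist (lam : (G ⧸ N) →* ℂˣ) (χ : IrrCharacter G) :
    irrDeg (twist N lam χ) = irrDeg χ := by
  have h1 := irrDeg_spec (twist N lam χ)
  rw [twist_apply, QuotientGroup.mk_one, map_one, Units.val_one, one_mul, irrDeg_spec] at h1
  exact_mod_cast h1.symm

theorem finite_hom_units (hQc : ∀ a b : G ⧸ N, a * b = b * a) : Finite ((G ⧸ N) →* ℂˣ) := by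
  apply Nat.finite_of_card_ne_zero
  rw [card_hom_units hQc]
  exact Nat.card_pos.ne'

/-- norm bound for the restricted inner product -/
theorem norm_classInner_restrict_le (χ : IrrCharacter G) [Fintype N] :
    ‖classInner (fun n : N => (χ : G → ℂ) n) (fun n : N => (χ : G → ℂ) n)‖ ≤
      ((irrDeg χ : ℝ)) ^ 2 := by
  obtain ⟨n, h1, h2⟩ := Cfsg.Agent.Helper8.char_norm_le (IsIrrCharacter.isCharacter χ.2)
  have hn : n = irrDeg χ := by
    have := irrDeg_spec χ
    rw [h1] at this
    exact_mod_cast this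
  subst hn
  unfold classInner
  rw [norm_mul, norm_inv, Complex.norm_natCast]
  have hpos : (0 : ℝ) < (Nat.card N : ℝ) := by exact_mod_cast Nat.card_pos
  rw [inv_mul_le_iff₀ hpos]
  refine (norm_sum_le _ _).trans ?_
  have : ∀ x ∈ (Finset.univ : Finset N),
      ‖(χ : G → ℂ) x * (starRingEnd ℂ) ((χ : G → ℂ) x)‖ ≤ (irrDeg χ : ℝ) ^ 2 := by
    intro x _
    rw [norm_mul, Complex.norm_conj, sq]
    exact mul_le_mul (h2 _) (h2 _) (norm_nonneg _) (Nat.cast_nonneg _)
  refine (Finset.sum_le_sum this).trans ?_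
  rw [Finset.sum_const, Finset.card_univ, nsmul_eq_mul, Nat.card_eq_fintype_card]

end main

end Cfsg.Agent.Helper20
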