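import Mathlib
import Cfsg.Agent.Helper20.InvolCountB

set_option autoImplicit false

namespace Cfsg.Agent.Helper20

open Cfsg Cfsg.Agent.Helper24 Cfsg.Agent.Helper24.GoingDown

section main
universe u
variable {G : Type u} [Group G] [Fintype G] (N : Subgroup G) [N.Normal]

/-- The stabilizer of `χ` under twisting has order at most `χ(1)²`. -/
theorem card_stabilizer_twist_le (hQc : ∀ a b : G ⧸ N, a * b = b * a) (χ : IrrCharacter G) :
    Nat.card (@MulAction.stabilizer ((G ⧸ N) →* ℂˣ) (IrrCharacter G) _ (twistAction N) χ) ≤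
      irrDeg χ ^ 2 := by
  classical
  letI := twistAction N
  haveI := finite_hom_units N hQc
  haveI : Fintype ((G ⧸ N) →* ℂˣ) := Fintype.ofFinite _
  haveI : Fintype N := Fintype.ofFinite _
  have key := classInner_restrict_eq_card_stab N hQc (χ : G → ℂ) χ.2
  have hb := norm_classInner_restrict_le N χ
  rw [key, Complex.norm_natCast] at hb
  have hcard : Nat.card (MulAction.stabilizer ((G ⧸ N) →* ℂˣ) χ) =
      (Finset.univ.filter (fun lam : (G ⧸ N) →* ℂˣ =>
        (fun k : G => ((lam (k : G ⧸ N) : ℂˣ) : ℂ) * (χ : G → ℂ) k) = (χ : G → ℂ))).card := by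
    rw [← Fintype.card_subtype, ← Nat.card_eq_fintype_card]
    apply Nat.card_congr
    apply Equiv.subtypeEquivRight
    intro lam
    rw [MulAction.mem_stabilizer_iff]
    show twist N lam χ = χ ↔ _
    rw [Subtype.ext_iff]
    rfl
  rw [hcard]
  exact_mod_cast hb

/-- If `G` is a `2`-group and `G ⧸ N` is elementary abelian of order at least `2^(2k+1)`, the
number of solutions of `s * s = 1` is divisible by `2^(k+1)`. -/
theorem two_pow_dvd_card_mul_self_eq_one (hG : IsPGroup 2 G)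
    (hQc : ∀ a b : G ⧸ N, a * b = b * a) (hexp : ∀ q : G ⧸ N, q * q = 1) (k : ℕ)
    (hk : 2 ^ (2 * k + 1) ≤ Nat.card (G ⧸ N)) :
    2 ^ (k + 1) ∣ Nat.card {s : G // s * s = 1} := by
  classical
  haveI : Fact (Nat.Prime 2) := ⟨Nat.prime_two⟩
  letI := twistAction N
  haveI := finite_hom_units N hQc
  haveI : Fintype (IrrCharacter G) := Fintype.ofFinite _
  -- sizes
  obtain ⟨n, hn⟩ := IsPGroup.iff_card.mp hG
  obtain ⟨d, hd⟩ : ∃ d, Nat.card (G ⧸ N) = 2 ^ d := by
    have h1 : Nat.card (G ⧸ N) ∣ 2 ^ n := by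
      rw [← hn, ← Subgroup.index_eq_card]; exact Subgroup.index_dvd_card N
    obtain ⟨d, _, hd⟩ := (Nat.dvd_prime_pow Nat.prime_two).1 h1
    exact ⟨d, hd⟩
  have hkd : 2 * k + 1 ≤ d := by
    rw [hd] at hk
    exact (Nat.pow_le_pow_iff_right (by norm_num)).1 hk
  have hΛ : Nat.card ((G ⧸ N) →* ℂˣ) = 2 ^ d := by rw [card_hom_units hQc, hd]
  -- the sign
  let ε : IrrCharacter G → ℤ := fun χ =>
    if fsInd (χ : G → ℂ) = 1 then 1 else if fsInd (χ : G → ℂ) = -1 then -1 else 0
  have hε : ∀ χ, ((ε χ : ℤ) : ℂ) = fsInd (χ : G → ℂ) := by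
    intro χ
    rcases (fsInd_irr χ).1 with h | h | h
    · have h1 : ε χ = 0 := by
        show (if fsInd (χ : G → ℂ) = 1 then (1 : ℤ) else
          if fsInd (χ : G → ℂ) = -1 then -1 else 0) = 0
        rw [h]; norm_num
      rw [h1, h]; simp
    · have h1 : ε χ = 1 := by
        show (if fsInd (χ : G → ℂ) = 1 then (1 : ℤ) else
          if fsInd (χ : G → ℂ) = -1 then -1 else 0) = 1
        rw [h]; norm_num
      rw [h1, h]; simp
    · have h1 : ε χ = -1 := by
        show (if fsInd (χ : G → ℂ) = 1 then (1 : ℤ) else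
          if fsInd (χ : G → ℂ) = -1 then -1 else 0) = -1
        rw [h]; norm_num
      rw [h1, h]; simp
  let F : IrrCharacter G → ℤ := fun χ => ε χ * (irrDeg χ : ℤ)
  have hsum : ((Nat.card {s : G // s * s = 1} : ℤ) : ℂ) = ((∑ χ, F χ : ℤ) : ℂ) := by
    push_cast
    rw [card_sq_eq_one, finsum_eq_sum_of_fintype]
    apply Finset.sum_congr rfl
    intro χ _
    show _ = (((ε χ * (irrDeg χ : ℤ) : ℤ)) : ℂ)
    push_cast
    rw [hε, ← irrDeg_spec]
    rfl
  have hsum' : (Nat.card {s : G // s * s = 1} : ℤ) = ∑ χ, F χ := by exact_mod_cast hsum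
  have hdvd : ((2 : ℤ) ^ (k + 1)) ∣ ∑ χ, F χ := by
    apply int_dvd_sum_of_forall_dvd_orbit (G := (G ⧸ N) →* ℂˣ) F
    · intro lam χ
      show F (twist N lam χ) = F χ
      show (if fsInd (twist N lam χ : G → ℂ) = 1 then (1 : ℤ) else
          if fsInd (twist N lam χ : G → ℂ) = -1 then -1 else 0) * (irrDeg (twist N lam χ) : ℤ) =
        (if fsInd (χ : G → ℂ) = 1 then (1 : ℤ) else
          if fsInd (χ : G → ℂ) = -1 then -1 else 0) * (irrDeg χ : ℤ)
      rw [fsInd_twist N hexp, irrDeg_twist]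
    · intro χ
      have hnat : 2 ^ (k + 1) ∣ Nat.card (MulAction.orbit ((G ⧸ N) →* ℂˣ) χ) * irrDeg χ := by
        -- orbit-stabilizer
        have hos : Nat.card (MulAction.orbit ((G ⧸ N) →* ℂˣ) χ) *
            Nat.card (MulAction.stabilizer ((G ⧸ N) →* ℂˣ) χ) = 2 ^ d := by
          rw [← hΛ, Nat.card_coe_set_eq, ← MulAction.index_stabilizer]
          exact Subgroup.index_mul_card _
        obtain ⟨s, hsd, hs⟩ := (Nat.dvd_prime_pow Nat.prime_two).1 (Dvd.intro_left _ hos)
        obtain ⟨c, _, hc⟩ := (Nat.dvd_prime_pow Nat.prime_two).1 (hn ▸ irrDeg_dvd_card χ)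
        have hle := card_stabilizer_twist_le N hQc χ
        rw [hs, hc, ← pow_mul] at hle
        have hsc : s ≤ c * 2 := (Nat.pow_le_pow_iff_right (by norm_num)).1 hle
        have horb : Nat.card (MulAction.orbit ((G ⧸ N) →* ℂˣ) χ) = 2 ^ (d - s) := by
          rw [hs] at hos
          have h2 : (2 : ℕ) ^ d = 2 ^ (d - s) * 2 ^ s := by
            rw [← pow_add, Nat.sub_add_cancel hsd]
          rw [h2] at hos
          exact Nat.eq_of_mul_eq_mul_right (by positivity) hos
        rw [horb, hc, ← pow_add]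
        apply pow_dvd_pow
        omega
      have : ((2 : ℤ) ^ (k + 1)) ∣ (Nat.card (MulAction.orbit ((G ⧸ N) →* ℂˣ) χ) : ℤ) *
          (irrDeg χ : ℤ) := by exact_mod_cast hnat
      show ((2 : ℤ) ^ (k + 1)) ∣ (Nat.card (MulAction.orbit ((G ⧸ N) →* ℂˣ) χ) : ℤ) *
          (ε χ * (irrDeg χ : ℤ))
      rw [mul_left_comm]
      exact Dvd.dvd.mul_left this _
  rw [← hsum'] at hdvd
  exact_mod_cast hdvd

end main

end Cfsg.Agent.Helper20
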