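import Mathlib
import Cfsg.Agent.Helper20.InvolCountC
import Cfsg.Agent.Helper20.KulA
import Cfsg.Agent.Helper24.OddIndexReal

set_option autoImplicit false

namespace Cfsg.Agent.Helper20

open Cfsg Cfsg.Agent.Helper24 Cfsg.Agent.Helper24.GoingDown

section AFT
universe u
variable {G : Type u} [Group G]

/-- sign homomorphism of a subgroup of index two -/
noncomputable def signHom (M : Subgroup G) (hM : M.index = 2) : G →* ℂˣ where
  toFun g := by classical exact if g ∈ M then 1 else -1
  map_one' := by simp [M.one_mem]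
  map_mul' a b := by
    classical
    have := Subgroup.mul_mem_iff_of_index_two hM (a := a) (b := b)
    by_cases ha : a ∈ M <;> by_cases hb : b ∈ M <;> simp [ha, hb, this]

theorem signHom_apply_of_mem (M : Subgroup G) (hM : M.index = 2) {g : G} (hg : g ∈ M) :
    signHom M hM g = 1 := by
  classical
  show (if g ∈ M then (1 : ℂˣ) else -1) = 1
  rw [if_pos hg]

theorem signHom_apply_of_not_mem (M : Subgroup G) (hM : M.index = 2) {g : G} (hg : g ∉ M) :
    signHom M hM g = -1 := by
  classical
  show (if g ∈ M then (1 : ℂˣ) else -1) = -1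
  rw [if_neg hg]

theorem neg_one_ne_one_units : (-1 : ℂˣ) ≠ 1 := by
  intro h
  have : ((-1 : ℂˣ) : ℂ) = ((1 : ℂˣ) : ℂ) := by rw [h]
  norm_num at this

theorem signHom_sq (M : Subgroup G) (hM : M.index = 2) (g : G) :
    signHom M hM g * signHom M hM g = 1 := by
  by_cases hg : g ∈ M
  · rw [signHom_apply_of_mem M hM hg, one_mul]
  · rw [signHom_apply_of_not_mem M hM hg]; simp

variable [Fintype G] (N : Subgroup G) [N.Normal]

theorem fsInd_twist_of_sq (lam : (G ⧸ N) →* ℂˣ) (hlam : ∀ q, lam q * lam q = 1)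
    (χ : IrrCharacter G) :
    fsInd (twist N lam χ : G → ℂ) = fsInd (χ : G → ℂ) := by
  unfold fsInd
  congr 1
  apply Finset.sum_congr rfl
  intro g _
  rw [twist_apply]
  have : lam ((g * g : G) : G ⧸ N) = 1 := by rw [QuotientGroup.mk_mul, map_mul]; exact hlam _
  rw [this]
  simp

end AFT

end Cfsg.Agent.Helper20
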