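import Mathlib
import Cfsg.Agent.Helper20.AftA

set_option autoImplicit false

namespace Cfsg.Agent.Helper20

open Cfsg Cfsg.Agent.Helper24 Cfsg.Agent.Helper24.GoingDown

section AFT
universe u
variable {G : Type u} [Group G] [Fintype G] (N : Subgroup G) [N.Normal]

/-- Weighted orbit counting modulo 4 for a subgroup of real linear characters. -/
theorem four_dvd_sum_off_fixed (hG : IsPGroup 2 G) (hQc : ∀ a b : G ⧸ N, a * b = b * a)
    (Λ : Subgroup ((G ⧸ N) →* ℂˣ)) (hΛ4 : 4 ∣ Nat.card Λ) (ε : IrrCharacter G → ℤ)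
    (hε : ∀ lam ∈ Λ, ∀ χ, ε (twist N lam χ) = ε χ) [Fintype (IrrCharacter G)]
    (f : IrrCharacter G → ℤ)
    (hf0 : ∀ χ, (irrDeg χ = 2 ∧ ∀ lam ∈ Λ, twist N lam χ = χ) → f χ = 0)
    (hf1 : ∀ χ, ¬ (irrDeg χ = 2 ∧ ∀ lam ∈ Λ, twist N lam χ = χ) → f χ = ε χ * (irrDeg χ : ℤ)) :
    (4 : ℤ) ∣ ∑ χ : IrrCharacter G, f χ := by
  classical
  haveI : Fact (Nat.Prime 2) := ⟨Nat.prime_two⟩
  letI := twistAction N
  haveI := finite_hom_units N hQc
  obtain ⟨n, hn⟩ := IsPGroup.iff_card.mp hG
  have hLcard : Nat.card ((G ⧸ N) →* ℂˣ) ∣ 2 ^ n := by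
    rw [card_hom_units hQc, ← hn, ← Subgroup.index_eq_card]
    exact Subgroup.index_dvd_card N
  obtain ⟨j, -, hj⟩ := (Nat.dvd_prime_pow Nat.prime_two).1 ((Subgroup.card_subgroup_dvd_card Λ).trans hLcard)
  have hfix_iff : ∀ (mu : (G ⧸ N) →* ℂˣ) (χ : IrrCharacter G),
      (∀ lam ∈ Λ, twist N lam (twist N mu χ) = twist N mu χ) ↔ (∀ lam ∈ Λ, twist N lam χ = χ) := by
    intro mu χ
    have hcomm : ∀ lam : (G ⧸ N) →* ℂˣ, twist N lam (twist N mu χ) = twist N mu (twist N lam χ) := by
      intro lam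
      apply Subtype.ext
      funext g
      rw [twist_apply, twist_apply, twist_apply, twist_apply]
      ring
    constructor
    · intro h lam hlam
      have h1 := h lam hlam
      rw [hcomm] at h1
      have h2 : mu • (twist N lam χ) = mu • χ := h1
      exact smul_left_cancel mu h2
    · intro h lam hlam
      rw [hcomm, h lam hlam]
  apply int_dvd_sum_of_forall_dvd_orbit (G := ↥Λ) f
  · intro lam χ
    show f (twist N lam.1 χ) = f χ
    have hP : (irrDeg (twist N lam.1 χ) = 2 ∧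
        ∀ mu ∈ Λ, twist N mu (twist N lam.1 χ) = twist N lam.1 χ) ↔
        (irrDeg χ = 2 ∧ ∀ mu ∈ Λ, twist N mu χ = χ) := by
      rw [irrDeg_twist, hfix_iff]
    by_cases hY : irrDeg χ = 2 ∧ ∀ lam ∈ Λ, twist N lam χ = χ
    · rw [hf0 χ hY, hf0 _ (hP.mpr hY)]
    · rw [hf1 χ hY, hf1 _ (fun h => hY (hP.mp h)), irrDeg_twist, hε lam.1 lam.2]
  · intro χ
    by_cases hY : irrDeg χ = 2 ∧ ∀ lam ∈ Λ, twist N lam χ = χ
    · rw [hf0 χ hY, mul_zero]; exact dvd_zero _
    rw [hf1 χ hY]
    -- orbit-stabilizer in Λ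
    have hos : Nat.card (MulAction.orbit ↥Λ χ) * Nat.card (MulAction.stabilizer ↥Λ χ) = 2 ^ j := by
      rw [← hj, Nat.card_coe_set_eq, ← MulAction.index_stabilizer]
      exact Subgroup.index_mul_card _
    obtain ⟨i, hij, hi⟩ := (Nat.dvd_prime_pow Nat.prime_two).1 (Dvd.intro _ hos)
    obtain ⟨c, _, hc⟩ := (Nat.dvd_prime_pow Nat.prime_two).1 (hn ▸ irrDeg_dvd_card χ)
    have hstab_le : Nat.card (MulAction.stabilizer ↥Λ χ) ≤
        Nat.card (MulAction.stabilizer ((G ⧸ N) →* ℂˣ) χ) := by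
      apply Nat.card_le_card_of_injective
        (fun s : MulAction.stabilizer ↥Λ χ =>
          (⟨s.1.1, by
            have := s.2
            rw [MulAction.mem_stabilizer_iff] at this ⊢
            exact this⟩ : MulAction.stabilizer ((G ⧸ N) →* ℂˣ) χ))
      intro a b hab
      apply Subtype.ext
      apply Subtype.ext
      exact congrArg (fun s : MulAction.stabilizer ((G ⧸ N) →* ℂˣ) χ => s.1) hab
    have hnat : 4 ∣ Nat.card (MulAction.orbit ↥Λ χ) * irrDeg χ := by
      rcases Nat.lt_or_ge c 2 with hc2 | hc2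
      · interval_cases c
        · -- degree 1
          have hle := card_stabilizer_twist_le N hQc χ
          rw [hc, pow_zero, one_pow] at hle
          have h1 : Nat.card (MulAction.stabilizer ↥Λ χ) = 1 :=
            le_antisymm (hstab_le.trans hle) Nat.card_pos
          rw [h1, mul_one] at hos
          rw [hos, ← hj]
          exact Dvd.dvd.mul_right hΛ4 _
        · -- degree 2, not fixed
          rw [pow_one] at hc
          have hnf : ¬ ∀ lam ∈ Λ, twist N lam χ = χ := fun h => hY ⟨hc, h⟩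
          push Not at hnf
          obtain ⟨lam, hlam, hne⟩ := hnf
          have hi1 : 1 ≤ i := by
            by_contra h0
            have hi0 : i = 0 := by omega
            rw [hi0, pow_zero] at hi
            haveI : Subsingleton (MulAction.orbit ↥Λ χ) :=
              (Nat.card_eq_one_iff_unique.mp hi).1
            have h1 : (⟨(⟨lam, hlam⟩ : ↥Λ) • χ, MulAction.mem_orbit χ _⟩ : MulAction.orbit ↥Λ χ) =
                ⟨χ, MulAction.mem_orbit_self χ⟩ := Subsingleton.elim _ _
            exact hne (congrArg Subtype.val h1)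
          rw [hi, hc]
          have : (2 : ℕ) ^ i = 2 ^ (i - 1) * 2 := by
            rw [← pow_succ, Nat.sub_add_cancel hi1]
          rw [this, mul_assoc]
          exact Dvd.intro_left _ rfl
      · rw [hc]
        have : (2 : ℕ) ^ c = 2 ^ (c - 2) * 4 := by
          rw [show (4 : ℕ) = 2 ^ 2 by norm_num, ← pow_add, Nat.sub_add_cancel hc2]
        rw [this, ← mul_assoc]
        exact Dvd.intro_left _ rfl
    have h4 : (4 : ℤ) ∣ (Nat.card (MulAction.orbit ↥Λ χ) : ℤ) * (irrDeg χ : ℤ) := by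
      exact_mod_cast hnat
    rw [mul_left_comm]
    exact Dvd.dvd.mul_left h4 _

end AFT

end Cfsg.Agent.Helper20
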