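import Mathlib
import Cfsg.Agent.Helper20.AftB

set_option autoImplicit false

namespace Cfsg.Agent.Helper20

open Cfsg Cfsg.Agent.Helper24 Cfsg.Agent.Helper24.GoingDown

section AFT
universe u
variable {G : Type u} [Group G] [Fintype G]

/-- integer-valued Frobenius–Schur sign -/
noncomputable def fsSign (χ : IrrCharacter G) : ℤ := by
  classical
  exact if fsInd (χ : G → ℂ) = 1 then 1 else if fsInd (χ : G → ℂ) = -1 then -1 else 0

theorem fsSign_cast (χ : IrrCharacter G) : ((fsSign χ : ℤ) : ℂ) = fsInd (χ : G → ℂ) := by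
  classical
  rcases (fsInd_irr χ).1 with h | h | h
  · have h1 : fsSign χ = 0 := by
      show (if fsInd (χ : G → ℂ) = 1 then (1 : ℤ) else
        if fsInd (χ : G → ℂ) = -1 then -1 else 0) = 0
      rw [h]; norm_num
    rw [h1, h]; simp
  · have h1 : fsSign χ = 1 := by
      show (if fsInd (χ : G → ℂ) = 1 then (1 : ℤ) else
        if fsInd (χ : G → ℂ) = -1 then -1 else 0) = 1
      rw [h]; norm_num
    rw [h1, h]; simp
  · have h1 : fsSign χ = -1 := by
      show (if fsInd (χ : G → ℂ) = 1 then (1 : ℤ) else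
        if fsInd (χ : G → ℂ) = -1 then -1 else 0) = -1
      rw [h]; norm_num
    rw [h1, h]; simp

theorem fsSign_cases (χ : IrrCharacter G) : fsSign χ = 0 ∨ fsSign χ = 1 ∨ fsSign χ = -1 := by
  classical
  have : ∀ z : ℤ, z = (if fsInd (χ : G → ℂ) = 1 then (1 : ℤ) else
        if fsInd (χ : G → ℂ) = -1 then -1 else 0) → z = 0 ∨ z = 1 ∨ z = -1 := by
    intro z hz
    split_ifs at hz <;> simp [hz]
  exact this _ rfl

theorem fsSign_ne_zero_iff (χ : IrrCharacter G) : fsSign χ ≠ 0 ↔ fsInd (χ : G → ℂ) ≠ 0 := by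
  rw [← fsSign_cast]
  simp

theorem fsSign_eq_of_fsInd_eq (χ ψ : IrrCharacter G)
    (h : fsInd (χ : G → ℂ) = fsInd (ψ : G → ℂ)) : fsSign χ = fsSign ψ := by
  have : ((fsSign χ : ℤ) : ℂ) = ((fsSign ψ : ℤ) : ℂ) := by rw [fsSign_cast, fsSign_cast, h]
  exact_mod_cast this

theorem card_sq_eq_sum_fsSign [Fintype (IrrCharacter G)] :
    (Nat.card {s : G // s * s = 1} : ℤ) = ∑ χ : IrrCharacter G, fsSign χ * (irrDeg χ : ℤ) := by
  have hsum : ((Nat.card {s : G // s * s = 1} : ℤ) : ℂ) =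
      ((∑ χ : IrrCharacter G, fsSign χ * (irrDeg χ : ℤ) : ℤ) : ℂ) := by
    push_cast
    rw [card_sq_eq_one, finsum_eq_sum_of_fintype]
    apply Finset.sum_congr rfl
    intro χ _
    rw [fsSign_cast, ← irrDeg_spec]
    rfl
  exact_mod_cast hsum

theorem fsSign_zmod_two (χ : IrrCharacter G) (h : fsSign χ ≠ 0) :
    ((fsSign χ : ℤ) : ZMod 2) = 1 := by
  rcases fsSign_cases χ with h0 | h1 | h1
  · exact absurd h0 h
  · rw [h1]; simp
  · rw [h1]; decide

end AFT

end Cfsg.Agent.Helper20
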