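import Mathlib
import Cfsg.Agent.Helper20.AftC

set_option autoImplicit false
set_option maxHeartbeats 1000000

namespace Cfsg.Agent.Helper20

open Cfsg Cfsg.Agent.Helper24 Cfsg.Agent.Helper24.GoingDown

section AFT
universe u
variable {G : Type u} [Group G] [Fintype G]

/-- the lift of the sign homomorphism to the abelianization -/
noncomputable def signLift (M : Subgroup G) (hM : M.index = 2) : (G ⧸ commutator G) →* ℂˣ :=
  QuotientGroup.lift (commutator G) (signHom M hM) (Abelianization.commutator_subset_ker _)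

theorem signLift_mk (M : Subgroup G) (hM : M.index = 2) (g : G) :
    signLift M hM (g : G ⧸ commutator G) = signHom M hM g := rfl

theorem signLift_sq (M : Subgroup G) (hM : M.index = 2) (q : G ⧸ commutator G) :
    signLift M hM q * signLift M hM q = 1 := by
  induction q using QuotientGroup.induction_on with
  | H g => rw [signLift_mk]; exact signHom_sq M hM g

/-- Alperin–Feit–Thompson. -/
theorem commutator_index_eq_four (hG : IsPGroup 2 G) (hnc : ¬ IsCyclic G)
    (ht : Nat.card {s : G // s * s = 1} % 4 = 2) : (commutator G).index = 4 := by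
  classical
  haveI : Fact (Nat.Prime 2) := ⟨Nat.prime_two⟩
  have hQc : ∀ a b : G ⧸ commutator G, a * b = b * a := fun a b =>
    mul_comm (G := Abelianization G) a b
  letI := twistAction (commutator G)
  haveI := finite_hom_units (commutator G) hQc
  haveI : Fintype ((G ⧸ commutator G) →* ℂˣ) := Fintype.ofFinite _
  haveI : Fintype (IrrCharacter G) := Fintype.ofFinite _
  obtain ⟨n, hn⟩ := IsPGroup.iff_card.mp hG
  have hL : Nat.card ((G ⧸ commutator G) →* ℂˣ) = (commutator G).index := by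
    rw [card_hom_units hQc, Subgroup.index_eq_card]
  have hLdvd : Nat.card ((G ⧸ commutator G) →* ℂˣ) ∣ 2 ^ n := by
    rw [hL, ← hn]; exact Subgroup.index_dvd_card _
  -- Λ
  set Λ : Subgroup ((G ⧸ commutator G) →* ℂˣ) := (powMonoidHom 2).ker with hΛdef
  have hΛmem : ∀ lam, lam ∈ Λ ↔ ∀ q, lam q * lam q = 1 := by
    intro lam
    rw [hΛdef, MonoidHom.mem_ker, powMonoidHom_apply]
    constructor
    · intro h q
      have := DFunLike.congr_fun h q
      rw [← sq]
      simpa using this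
    · intro h
      ext q
      simp [sq, h q]
  obtain ⟨j, -, hj⟩ := (Nat.dvd_prime_pow Nat.prime_two).1
    ((Subgroup.card_subgroup_dvd_card Λ).trans hLdvd)
  -- two distinct subgroups of index two
  have hbne : (⊥ : Subgroup G) ≠ ⊤ := by
    intro hbt
    apply hnc
    haveI : Subsingleton G := Subgroup.subsingleton_iff.mp (subsingleton_of_bot_eq_top hbt)
    exact isCyclic_of_subsingleton
  obtain ⟨M₁, -, hM₁⟩ := exists_index_p_ge hG hbne
  obtain ⟨M₂, hM₂, hne⟩ : ∃ M₂ : Subgroup G, M₂.index = 2 ∧ M₂ ≠ M₁ := by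
    by_contra hcon
    push Not at hcon
    exact hnc (isCyclic_of_unique_index_p hG M₁ hM₁ hcon)
  have hσ₁ : signLift M₁ hM₁ ∈ Λ := (hΛmem _).mpr (signLift_sq M₁ hM₁)
  have hσ₂ : signLift M₂ hM₂ ∈ Λ := (hΛmem _).mpr (signLift_sq M₂ hM₂)
  have hσ₁1 : signLift M₁ hM₁ ≠ 1 := by
    intro h
    have hne : M₁ ≠ ⊤ := (isCoatom_of_index_p hM₁).1
    obtain ⟨x, -, hx⟩ := SetLike.exists_of_lt (lt_top_iff_ne_top.mpr hne)
    have := DFunLike.congr_fun h (x : G ⧸ commutator G)
    rw [signLift_mk, signHom_apply_of_not_mem M₁ hM₁ hx] at this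
    exact neg_one_ne_one_units this
  have hσ₂1 : signLift M₂ hM₂ ≠ 1 := by
    intro h
    have hne : M₂ ≠ ⊤ := (isCoatom_of_index_p hM₂).1
    obtain ⟨x, -, hx⟩ := SetLike.exists_of_lt (lt_top_iff_ne_top.mpr hne)
    have := DFunLike.congr_fun h (x : G ⧸ commutator G)
    rw [signLift_mk, signHom_apply_of_not_mem M₂ hM₂ hx] at this
    exact neg_one_ne_one_units this
  have hσ₁₂ : signLift M₁ hM₁ ≠ signLift M₂ hM₂ := by
    intro h
    have hnle : ¬ M₂ ≤ M₁ := by
      intro hle
      rcases eq_or_lt_of_le hle with h1 | h1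
      · exact hne h1
      · exact (isCoatom_of_index_p hM₁).1 ((isCoatom_of_index_p hM₂).2 M₁ h1)
    obtain ⟨x, hx2, hx1⟩ := SetLike.not_le_iff_exists.mp hnle
    have := DFunLike.congr_fun h (x : G ⧸ commutator G)
    rw [signLift_mk, signLift_mk, signHom_apply_of_not_mem M₁ hM₁ hx1,
      signHom_apply_of_mem M₂ hM₂ hx2] at this
    exact neg_one_ne_one_units this
  have hj2 : 2 ≤ j := by
    by_contra hlt
    have hjle : j ≤ 1 := by omega
    have hcard : Nat.card Λ ≤ 2 := by
      rw [hj]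
      calc 2 ^ j ≤ 2 ^ 1 := Nat.pow_le_pow_right (by norm_num) hjle
        _ = 2 := by norm_num
    haveI : Fintype Λ := Fintype.ofFinite _
    rw [Nat.card_eq_fintype_card] at hcard
    have h3 : ({(1 : Λ), ⟨_, hσ₁⟩, ⟨_, hσ₂⟩} : Finset Λ).card = 3 := by
      rw [Finset.card_eq_three]
      refine ⟨1, ⟨_, hσ₁⟩, ⟨_, hσ₂⟩, ?_, ?_, ?_, rfl⟩
      · intro h; exact hσ₁1 (congrArg Subtype.val h).symm
      · intro h; exact hσ₂1 (congrArg Subtype.val h).symm
      · intro h; exact hσ₁₂ (congrArg Subtype.val h)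
    have := Finset.card_le_univ ({(1 : Λ), ⟨_, hσ₁⟩, ⟨_, hσ₂⟩} : Finset Λ)
    omega
  have hΛ4 : 4 ∣ Nat.card Λ := by
    rw [hj]
    have : (2 : ℕ) ^ j = 2 ^ (j - 2) * 4 := by
      rw [show (4 : ℕ) = 2 ^ 2 by norm_num, ← pow_add, Nat.sub_add_cancel hj2]
    rw [this]
    exact Dvd.intro_left _ rfl
  -- invariance of the sign
  have hε : ∀ lam ∈ Λ, ∀ χ, fsSign (twist (commutator G) lam χ) = fsSign χ := by
    intro lam hlam χ
    exact fsSign_eq_of_fsInd_eq _ _ (fsInd_twist_of_sq _ lam ((hΛmem lam).mp hlam) χ)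
  -- the fixed set
  set P : IrrCharacter G → Prop :=
    fun χ => irrDeg χ = 2 ∧ ∀ lam ∈ Λ, twist (commutator G) lam χ = χ with hPdef
  have h4 := four_dvd_sum_off_fixed (commutator G) hG hQc Λ hΛ4 fsSign hε
    (fun χ => if P χ then 0 else fsSign χ * (irrDeg χ : ℤ))
    (fun χ h => if_pos h) (fun χ h => if_neg h)
  have hsum := card_sq_eq_sum_fsSign (G := G)
  have hsplit : ∑ χ : IrrCharacter G, fsSign χ * (irrDeg χ : ℤ) =
      ∑ χ : IrrCharacter G, (if P χ then 0 else fsSign χ * (irrDeg χ : ℤ)) +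
        2 * ∑ χ ∈ Finset.univ.filter P, fsSign χ := by
    rw [Finset.mul_sum, Finset.sum_filter, ← Finset.sum_add_distrib]
    apply Finset.sum_congr rfl
    intro χ _
    by_cases h : P χ
    · rw [if_pos h, if_pos h, h.1]; push_cast; ring
    · rw [if_neg h, if_neg h, add_zero]
  -- the sum over the fixed set is odd
  have hodd : (∑ χ ∈ Finset.univ.filter P, fsSign χ) % 2 = 1 := by
    have h1 : ((Nat.card {s : G // s * s = 1} : ℕ) : ℤ) % 4 = 2 := by exact_mod_cast ht
    rw [hsum, hsplit] at h1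
    omega
  have hoddZ : ((∑ χ ∈ Finset.univ.filter P, fsSign χ : ℤ) : ZMod 2) = 1 := by
    have : (∑ χ ∈ Finset.univ.filter P, fsSign χ) = 2 * ((∑ χ ∈ Finset.univ.filter P, fsSign χ) / 2) + 1 := by
      omega
    rw [this]
    push_cast
    have h2 : (2 : ZMod 2) = 0 := rfl
    rw [h2, zero_mul, zero_add]
  -- nonempty, so |Λ| = 4
  have hYne : (Finset.univ.filter P).Nonempty := by
    by_contra hemp
    rw [Finset.not_nonempty_iff_eq_empty] at hemp
    rw [hemp, Finset.sum_empty] at hodd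
    norm_num at hodd
  obtain ⟨χ₀, hχ₀⟩ := hYne
  rw [Finset.mem_filter] at hχ₀
  have hstabΛ : ∀ χ, P χ → Λ ≤ MulAction.stabilizer ((G ⧸ commutator G) →* ℂˣ) χ := by
    intro χ hχ lam hlam
    rw [MulAction.mem_stabilizer_iff]
    exact hχ.2 lam hlam
  have hstabcard : ∀ χ, P χ →
      Nat.card (MulAction.stabilizer ((G ⧸ commutator G) →* ℂˣ) χ) ≤ 4 := by
    intro χ hχ
    have := card_stabilizer_twist_le (commutator G) hQc χ
    rw [hχ.1] at this
    exact this
  have hΛcard : Nat.card Λ = 4 := by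
    have h1 : Nat.card Λ ≤ 4 :=
      (Subgroup.card_le_of_le (hstabΛ χ₀ hχ₀.2)).trans (hstabcard χ₀ hχ₀.2)
    have h2 : 4 ≤ Nat.card Λ := Nat.le_of_dvd Nat.card_pos hΛ4
    omega
  have hstab_eq : ∀ χ, P χ → MulAction.stabilizer ((G ⧸ commutator G) →* ℂˣ) χ = Λ := by
    intro χ hχ
    symm
    apply Subgroup.eq_of_le_of_card_ge (hstabΛ χ hχ)
    rw [hΛcard]
    exact hstabcard χ hχ
  -- suppose the index is not 4
  by_contra hidx
  obtain ⟨m, -, hm⟩ := (Nat.dvd_prime_pow Nat.prime_two).1 hLdvd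
  have hquot : Nat.card (((G ⧸ commutator G) →* ℂˣ) ⧸ Λ) * 4 = 2 ^ m := by
    rw [← hΛcard, ← hm]
    exact (Subgroup.card_eq_card_quotient_mul_card_subgroup Λ).symm
  have hm3 : 3 ≤ m := by
    by_contra hlt
    have hm2 : m ≤ 2 := by omega
    have : m = 2 := by
      interval_cases m
      · omega
      · omega
      · rfl
    apply hidx
    rw [← hL, hm, this]
    norm_num
  have h2q : 2 ∣ Nat.card (((G ⧸ commutator G) →* ℂˣ) ⧸ Λ) := by
    have : (2 : ℕ) ^ m = 2 ^ (m - 3) * 2 * 4 := by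
      rw [show (4 : ℕ) = 2 ^ 2 by norm_num, mul_assoc, ← pow_succ', ← pow_add]
      congr 1
      omega
    rw [this] at hquot
    have := Nat.eq_of_mul_eq_mul_right (by norm_num) hquot
    rw [this]
    exact Dvd.intro_left _ rfl
  obtain ⟨q, hq⟩ := exists_prime_orderOf_dvd_card' 2 h2q
  obtain ⟨mu, rfl⟩ := QuotientGroup.mk_surjective q
  have hmu1 : mu ∉ Λ := by
    intro h
    have : (QuotientGroup.mk mu : ((G ⧸ commutator G) →* ℂˣ) ⧸ Λ) = 1 :=
      (QuotientGroup.eq_one_iff mu).mpr h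
    rw [this, orderOf_one] at hq
    norm_num at hq
  have hmu2 : mu * mu ∈ Λ := by
    have h1 : (QuotientGroup.mk mu : ((G ⧸ commutator G) →* ℂˣ) ⧸ Λ) ^ 2 = 1 := by
      have h0 := pow_orderOf_eq_one (QuotientGroup.mk mu : ((G ⧸ commutator G) →* ℂˣ) ⧸ Λ)
      rw [hq] at h0
      exact h0
    rw [← QuotientGroup.mk_pow, QuotientGroup.eq_one_iff, sq] at h1
    exact h1
  -- the involution
  have hmumu : ∀ χ, P χ → twist (commutator G) mu (twist (commutator G) mu χ) = χ := by
    intro χ hχ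
    have := hχ.2 (mu * mu) hmu2
    refine Eq.trans ?_ this
    apply Subtype.ext
    funext g
    rw [twist_apply, twist_apply, twist_apply]
    simp [mul_assoc]
  have hPmu : ∀ χ, P χ → P (twist (commutator G) mu χ) := by
    intro χ hχ
    refine ⟨by rw [irrDeg_twist]; exact hχ.1, ?_⟩
    intro lam hlam
    have h1 := hχ.2 lam hlam
    refine Eq.trans ?_ (congrArg (twist (commutator G) mu) h1)
    apply Subtype.ext
    funext g
    rw [twist_apply, twist_apply, twist_apply, twist_apply]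
    ring
  have hmune : ∀ χ, P χ → twist (commutator G) mu χ ≠ χ := by
    intro χ hχ h
    have : mu ∈ MulAction.stabilizer ((G ⧸ commutator G) →* ℂˣ) χ := by
      rw [MulAction.mem_stabilizer_iff]; exact h
    rw [hstab_eq χ hχ] at this
    exact hmu1 this
  have hreal : ∀ χ, P χ → fsSign χ ≠ 0 → fsSign (twist (commutator G) mu χ) ≠ 0 := by
    intro χ hχ hne
    rw [fsSign_ne_zero_iff] at hne ⊢
    have hr := (fsInd_irr χ).2 hne
    apply fsInd_ne_zero_of_real
    intro g
    rw [twist_apply]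
    have h1 := congrArg (fun ψ : IrrCharacter G => (ψ : G → ℂ) g) (hχ.2 (mu * mu) hmu2)
    simp only [twist_apply, MonoidHom.mul_apply, Units.val_mul] at h1
    by_cases h0 : (χ : G → ℂ) g = 0
    · rw [h0, mul_zero]; rfl
    · have h2 : ((mu (g : G ⧸ commutator G) : ℂˣ) : ℂ) * ((mu (g : G ⧸ commutator G) : ℂˣ) : ℂ) = 1 := by
        have : (((mu (g : G ⧸ commutator G) : ℂˣ) : ℂ) * ((mu (g : G ⧸ commutator G) : ℂˣ) : ℂ) - 1) *
            (χ : G → ℂ) g = 0 := by rw [sub_mul, h1, one_mul, sub_self]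
        rcases mul_eq_zero.mp this with h | h
        · exact sub_eq_zero.mp h
        · exact absurd h h0
      rcases mul_self_eq_one_iff.mp h2 with h3 | h3
      · rw [h3, one_mul]; exact hr g
      · rw [h3, neg_one_mul, Complex.neg_im, hr g, neg_zero]
  have hzero : ∑ χ ∈ Finset.univ.filter P, ((fsSign χ : ℤ) : ZMod 2) = 0 := by
    apply Finset.sum_involution (fun χ _ => twist (commutator G) mu χ)
    · intro χ hχ
      rw [Finset.mem_filter] at hχ
      by_cases h0 : fsSign χ = 0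
      · have h1 : fsSign (twist (commutator G) mu χ) = 0 := by
          by_contra hne
          have := hreal _ (hPmu χ hχ.2) hne
          rw [hmumu χ hχ.2] at this
          exact this h0
        rw [h0, h1]; simp
      · rw [fsSign_zmod_two χ h0, fsSign_zmod_two _ (hreal χ hχ.2 h0)]
        rfl
    · intro χ hχ _
      rw [Finset.mem_filter] at hχ
      exact hmune χ hχ.2
    · intro χ hχ
      rw [Finset.mem_filter] at hχ ⊢
      exact ⟨Finset.mem_univ _, hPmu χ hχ.2⟩
    · intro χ hχ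
      rw [Finset.mem_filter] at hχ
      exact hmumu χ hχ.2
  rw [Int.cast_sum, hzero] at hoddZ
  exact zero_ne_one hoddZ

end AFT

end Cfsg.Agent.Helper20
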