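import Mathlib
import Cfsg.Agent.Helper9.LieGrpAut

/-!
# Piece A12 of S3782 (Alperin's theorem)

* `card_twisted_le` (A1): `|{g | (φ g)⁻¹ g ∈ N}| ≤ |N| · |Fix φ|`.
* `nsmul_eq_zero_of_autLG_fixed` (A2): fixed points of the induced automorphism of the graded Lie
  ring of a `p`-group are killed by `p ^ n` when `φ` has at most `p ^ n` fixed points.
-/

namespace Cfsg.Agent.Helper20.Alp

open Cfsg.Agent.LieGrp Cfsg.Agent.LieGrp.Aux9

universe u

/-- (A1) -/
theorem card_twisted_le {G : Type*} [Group G] [Finite G] (φ : MulAut G) (N : Subgroup G) :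
    Nat.card {g : G // (φ g)⁻¹ * g ∈ N} ≤ Nat.card N * Nat.card {g : G // φ g = g} := by
  classical
  -- a representative for each value
  let rep : G → G := fun n => if h : ∃ g : G, (φ g)⁻¹ * g = n then Classical.choose h else 1
  have hrep : ∀ g : G, (φ (rep ((φ g)⁻¹ * g)))⁻¹ * rep ((φ g)⁻¹ * g) = (φ g)⁻¹ * g := by
    intro g
    have h : ∃ g' : G, (φ g')⁻¹ * g' = (φ g)⁻¹ * g := ⟨g, rfl⟩
    simp only [rep, dif_pos h]
    exact Classical.choose_spec h
  have hfixed : ∀ g : G, φ (g * (rep ((φ g)⁻¹ * g))⁻¹) = g * (rep ((φ g)⁻¹ * g))⁻¹ := by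
    intro g
    have h := hrep g
    set r := rep ((φ g)⁻¹ * g) with hr
    rw [map_mul, map_inv]
    -- (φ r)⁻¹ * r = (φ g)⁻¹ * g  ⊢ φ g * (φ r)⁻¹ = g * r⁻¹
    have h1 : φ g * (φ r)⁻¹ * r = g := by
      rw [mul_assoc, h, mul_inv_cancel_left]
    exact eq_mul_inv_of_mul_eq h1
  let F : {g : G // (φ g)⁻¹ * g ∈ N} → N × {g : G // φ g = g} := fun g =>
    (⟨(φ g.1)⁻¹ * g.1, g.2⟩, ⟨g.1 * (rep ((φ g.1)⁻¹ * g.1))⁻¹, hfixed g.1⟩)
  have hF : Function.Injective F := by
    intro g h hgh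
    have h1 : (φ g.1)⁻¹ * g.1 = (φ h.1)⁻¹ * h.1 := congrArg (fun x => (x.1 : G)) hgh
    have h2 : g.1 * (rep ((φ g.1)⁻¹ * g.1))⁻¹ = h.1 * (rep ((φ h.1)⁻¹ * h.1))⁻¹ :=
      congrArg (fun x => (x.2 : G)) hgh
    rw [h1] at h2
    exact Subtype.ext (mul_right_cancel h2)
  calc Nat.card {g : G // (φ g)⁻¹ * g ∈ N}
      ≤ Nat.card (N × {g : G // φ g = g}) := Nat.card_le_card_of_injective F hF
    _ = Nat.card N * Nat.card {g : G // φ g = g} := Nat.card_prod _ _

/-- fixed points of the layer map have at most `|Fix φ|` elements -/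
theorem card_layer_fixed_le {G : Type u} [Group G] [Finite G] (φ : MulAut G) (i : ℕ) :
    Nat.card {a : A G i // layerHom φ i a = a} ≤ Nat.card {g : G // φ g = g} := by
  classical
  have hfinA : Finite (A G i) := by
    unfold A
    infer_instance
  -- representatives
  have hex : ∀ a : A G i, ∃ x : G, ∃ hx : x ∈ H G i, cls i x hx = a := cls_surjective i
  choose r hr hra using hex
  have hsucc : H G (i + 1) ≤ H G i := LG1.H_anti (Nat.le_succ i)
  have hmem : ∀ (a : {a : A G i // layerHom φ i a = a}) (h : H G (i + 1)),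
      (φ (r a.1 * h.1))⁻¹ * (r a.1 * h.1) ∈ H G (i + 1) := by
    intro a h
    have h1 : cls i (φ (r a.1)) (map_mem_H φ (hr a.1)) = cls i (r a.1) (hr a.1) := by
      have h0 := layerHom_cls φ i (r a.1) (hr a.1)
      rw [hra] at h0
      rw [← h0, hra]
      exact a.2
    rw [cls_eq_iff] at h1
    -- h1 : (r a)⁻¹ * φ (r a) ∈ H (i+1)
    have h2 : (φ (r a.1))⁻¹ * r a.1 ∈ H G (i + 1) := by
      have := inv_mem h1
      rwa [mul_inv_rev, inv_inv] at this
    have h3 : (φ h.1)⁻¹ ∈ H G (i + 1) := inv_mem (map_mem_H φ h.2)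
    have h4 : (φ (r a.1 * h.1))⁻¹ * (r a.1 * h.1)
        = (φ h.1)⁻¹ * ((φ (r a.1))⁻¹ * r a.1) * h.1 := by
      rw [map_mul, mul_inv_rev]; group
    rw [h4]
    exact mul_mem (mul_mem h3 h2) h.2
  let F : {a : A G i // layerHom φ i a = a} × H G (i + 1) →
      {g : G // (φ g)⁻¹ * g ∈ H G (i + 1)} := fun ah =>
    ⟨r ah.1.1 * ah.2.1, hmem ah.1 ah.2⟩
  have hcls : ∀ (a : A G i) (h : H G (i + 1)),
      cls i (r a * h.1) (mul_mem (hr a) (hsucc h.2)) = a := by
    intro a h
    rw [cls_mul i (r a) h.1 (hr a) (hsucc h.2), hra,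
      (cls_eq_zero_iff i h.1 (hsucc h.2)).mpr h.2, add_zero]
  have hF : Function.Injective F := by
    rintro ⟨a, h⟩ ⟨b, h'⟩ hab
    have h1 : r a.1 * h.1 = r b.1 * h'.1 := congrArg Subtype.val hab
    have h2 : a.1 = b.1 := by
      rw [← hcls a.1 h, ← hcls b.1 h']
      exact cls_congr i h1 _ _
    have h3 : a = b := Subtype.ext h2
    subst h3
    have h4 : h.1 = h'.1 := mul_left_cancel h1
    have h5 : h = h' := Subtype.ext h4
    rw [h5]
  have hle : Nat.card {a : A G i // layerHom φ i a = a} * Nat.card (H G (i + 1))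
      ≤ Nat.card (H G (i + 1)) * Nat.card {g : G // φ g = g} := by
    calc Nat.card {a : A G i // layerHom φ i a = a} * Nat.card (H G (i + 1))
        = Nat.card ({a : A G i // layerHom φ i a = a} × H G (i + 1)) := (Nat.card_prod _ _).symm
      _ ≤ Nat.card {g : G // (φ g)⁻¹ * g ∈ H G (i + 1)} := Nat.card_le_card_of_injective F hF
      _ ≤ Nat.card (H G (i + 1)) * Nat.card {g : G // φ g = g} := card_twisted_le φ _
  have hpos : 0 < Nat.card (H G (i + 1)) := Nat.card_pos
  rw [mul_comm] at hle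
  exact Nat.le_of_mul_le_mul_left hle hpos

/-- (A2) -/
theorem nsmul_eq_zero_of_autLG_fixed {G : Type u} [Group G] [Finite G] {p : ℕ} [Fact p.Prime]
    (hG : IsPGroup p G) (φ : MulAut G) (n : ℕ) (hfix : Nat.card {g : G // φ g = g} ≤ p ^ n)
    (x : LG G) (hx : autLG φ x = x) : (p ^ n) • x = 0 := by
  classical
  have hp : p.Prime := Fact.out
  -- componentwise
  have hcomp_smul : ∀ (k : ℕ) (y : LG G) (i : ℕ), comp (k • y) i = k • comp y i := by
    intro k y i
    induction k with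
    | zero => rw [zero_smul, zero_smul]; rfl
    | succ k ih =>
      rw [succ_nsmul, succ_nsmul, ← ih]
      rfl
  apply comp_ext
  intro i
  rw [hcomp_smul, comp_zero]
  set a := comp x i with ha
  have hafix : layerHom φ i a = a := by
    rw [ha, ← autLGHom_comp, ← autLG_apply, hx]
  have hfinA : Finite (A G i) := by
    unfold A
    infer_instance
  -- order of `a` is a power of `p`
  obtain ⟨m, hm⟩ := IsPGroup.iff_card.mp hG
  have hcard : (Nat.card G) • a = 0 := by
    obtain ⟨g, hg, hga⟩ := cls_surjective i a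
    rw [← hga, ← cls_pow, cls_congr i (pow_card_eq_one' (G := G)) _ (one_mem _), cls_one]
  have hdvd : addOrderOf a ∣ p ^ m := by
    rw [← hm]; exact addOrderOf_dvd_of_nsmul_eq_zero hcard
  obtain ⟨j, hjm, hj⟩ := (Nat.dvd_prime_pow hp).mp hdvd
  -- the fixed points form a subgroup containing `a`
  let Fx : AddSubgroup (A G i) := (layerHom φ i - AddMonoidHom.id (A G i)).ker
  have haF : a ∈ Fx := by
    rw [AddMonoidHom.mem_ker, AddMonoidHom.sub_apply, AddMonoidHom.id_apply, hafix, sub_self]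
  have hFcard : Nat.card Fx ≤ p ^ n := by
    have hle := card_layer_fixed_le φ i
    have heq : Nat.card Fx = Nat.card {a : A G i // layerHom φ i a = a} := by
      apply Nat.card_congr
      refine Equiv.subtypeEquivRight ?_
      intro b
      show b ∈ Fx ↔ _
      rw [AddMonoidHom.mem_ker, AddMonoidHom.sub_apply, AddMonoidHom.id_apply, sub_eq_zero]
    rw [heq]
    exact hle.trans hfix
  have hord : addOrderOf a ∣ Nat.card Fx := AddSubgroup.addOrderOf_dvd_natCard Fx haF
  have hle : p ^ j ≤ p ^ n := by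
    rw [← hj]
    exact (Nat.le_of_dvd Nat.card_pos hord).trans hFcard
  have hjn : j ≤ n := (Nat.pow_le_pow_iff_right hp.one_lt).mp hle
  have : p ^ n = p ^ (n - j) * addOrderOf a := by
    rw [hj, ← pow_add, Nat.sub_add_cancel hjn]
  rw [this, mul_smul, addOrderOf_nsmul_eq_zero, smul_zero]

end Cfsg.Agent.Helper20.Alp
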