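import Mathlib
import Cfsg.Prelude.Def_HallClasses
import Cfsg.Agent.Helper29.AltPronDefs
import Cfsg.Agent.Helper29.AltPronBasics
import Cfsg.Agent.Helper1.SylMaxFIXA

set_option autoImplicit false

/-!
# S2222 piece PRON5: subgroups of odd index in `A_5` are pronormal
-/

namespace Cfsg.Agent.Helper20.AltPron

open MulAction Equiv Cfsg.Agent.Helper29.AltPron
open scoped Pointwise Nat

/-- a subgroup of index prime to `p` contains a Sylow `p`-subgroup -/
theorem exists_sylow_le_of_not_dvd_index {G : Type*} [Group G] [Finite G] (p : ℕ) [Fact p.Prime]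
    (H : Subgroup G) (hH : ¬ p ∣ H.index) : ∃ S : Sylow p G, (S : Subgroup G) ≤ H := by
  obtain ⟨Q⟩ : Nonempty (Sylow p ↥H) := inferInstance
  have hp : p.Prime := Fact.out
  have hcard : Nat.card ↥((Q : Subgroup ↥H).map H.subtype) =
      p ^ (Nat.card G).factorization p := by
    rw [Nat.card_congr ((Q : Subgroup ↥H).equivMapOfInjective H.subtype
      H.subtype_injective).symm.toEquiv, Sylow.card_eq_multiplicity]
    congr 1
    have h1 := Subgroup.card_mul_index H
    rw [← h1, Nat.factorization_mul Nat.card_pos.ne' Subgroup.index_ne_zero_of_finite]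
    simp [Nat.factorization_eq_zero_of_not_dvd hH]
  exact ⟨Sylow.ofCard _ hcard, by rw [Sylow.coe_ofCard]; exact Subgroup.map_subtype_le _⟩

/-- conjugation by an element of the normalizer fixes the subgroup -/
theorem map_conj_eq_of_mem_normalizer {G : Type*} [Group G] (K : Subgroup G) (u : G)
    (hu : u ∈ Subgroup.normalizer (K : Set G)) : K.map (MulAut.conj u).toMonoidHom = K := by
  ext y
  constructor
  · rintro ⟨k, hk, rfl⟩
    exact (Subgroup.mem_normalizer_iff.1 hu k).1 hk
  · intro hy
    refine ⟨u⁻¹ * y * u, ?_, by simp [mul_assoc]⟩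
    have := (Subgroup.mem_normalizer_iff.1 (inv_mem hu) y).1 hy
    simpa using this

/-- reduction of pronormality to the normalizer of a Sylow subgroup -/
theorem pronormal_of_normalizer_le {G : Type*} [Group G] [Finite G] (p : ℕ) [Fact p.Prime]
    (H : Subgroup G) (S : Sylow p G) (hSH : (S : Subgroup G) ≤ H)
    (hN : ∀ u ∈ Subgroup.normalizer ((S : Subgroup G) : Set G),
      H.map (MulAut.conj u).toMonoidHom = H) : Cfsg.IsPronormal H := by
  intro g
  set K := H ⊔ H.map (MulAut.conj g).toMonoidHom with hK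
  have h1 : (S : Subgroup G) ≤ K := hSH.trans le_sup_left
  have h2 : ((g • S : Sylow p G) : Subgroup G) ≤ K := by
    refine le_trans ?_ le_sup_right
    intro y hy
    rw [Sylow.coe_subgroup_smul, Subgroup.mem_smul_pointwise_iff_exists] at hy
    obtain ⟨s, hs, rfl⟩ := hy
    exact ⟨s, hSH hs, rfl⟩
  obtain ⟨k, hk⟩ := MulAction.exists_smul_eq K ((g • S).subtype h2) (S.subtype h1)
  simp_rw [Sylow.smul_subtype, Subgroup.smul_def, smul_smul] at hk
  have hu : (k : G) * g ∈ Subgroup.normalizer ((S : Subgroup G) : Set G) :=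
    Sylow.smul_eq_iff_mem_normalizer.mp (Sylow.subtype_injective hk)
  have h3 := hN _ hu
  refine ⟨(k : G)⁻¹, K.inv_mem k.2, ?_⟩
  ext y
  simp only [Subgroup.mem_map, MulEquiv.coe_toMonoidHom, MulAut.conj_apply]
  constructor
  · rintro ⟨h, hh, rfl⟩
    refine ⟨(k : G) * g * h * ((k : G) * g)⁻¹, ?_, by group⟩
    rw [← h3]
    exact ⟨h, hh, by simp [MulAut.conj_apply, mul_assoc]⟩
  · rintro ⟨h, hh, rfl⟩
    rw [← h3] at hh
    obtain ⟨h', hh', rfl⟩ := hh
    refine ⟨h', hh', ?_⟩
    simp only [MulEquiv.coe_toMonoidHom, MulAut.conj_apply]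
    group

theorem card_alt_five : Nat.card (alternatingGroup (Fin 5)) = 60 := by
  rw [nat_card_alternatingGroup]
  simp [Nat.factorial]

/-- `A_5` has no subgroup of index 3 -/
theorem no_index_three (H : Subgroup (alternatingGroup (Fin 5))) (h : H.index = 3) : False := by
  have hn : H.normalCore.Normal := Subgroup.normalCore_normal H
  rcases hn.eq_bot_or_eq_top with hb | ht
  · have hinj : Function.Injective
        (MulAction.toPermHom (alternatingGroup (Fin 5)) (alternatingGroup (Fin 5) ⧸ H)) := by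
      rw [← MonoidHom.ker_eq_bot_iff, ← Subgroup.normalCore_eq_ker, hb]
    have hle := Nat.card_le_card_of_injective _ hinj
    rw [Nat.card_perm, ← Subgroup.index_eq_card, h, card_alt_five] at hle
    norm_num [Nat.factorial] at hle
  · have : H = ⊤ := top_le_iff.1 (ht ▸ Subgroup.normalCore_le H)
    rw [this, Subgroup.index_top] at h
    norm_num at h

theorem card_sylow_two_alt_five [Fact (Nat.Prime 2)] (S : Sylow 2 (alternatingGroup (Fin 5))) :
    Nat.card ↥(S : Subgroup (alternatingGroup (Fin 5))) = 4 := by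
  rw [Sylow.card_eq_multiplicity, card_alt_five]
  have h60 : (60 : ℕ) = 2 ^ 2 * 15 := by norm_num
  rw [h60, Nat.factorization_mul (by norm_num) (by norm_num),
    Nat.Prime.factorization_pow Nat.prime_two]
  simp [Nat.factorization_eq_zero_of_not_dvd (by norm_num : ¬ 2 ∣ 15)]

theorem finRotate_five_mem : finRotate 5 ∈ alternatingGroup (Fin 5) := by
  rw [Equiv.Perm.mem_alternatingGroup, sign_finRotate]
  norm_num

theorem finRotate_five_ne : ∀ x : Fin 5, finRotate 5 x ≠ x := by decide

theorem exists_third_fin_five : ∀ a b : Fin 5, ∃ z : Fin 5, z ≠ a ∧ z ≠ b := by decide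

/-- PRON5 -/
theorem pronormal_alt_five (H : Subgroup (alternatingGroup (Fin 5))) (hH : Odd H.index) :
    Cfsg.IsPronormal H := by
  classical
  have h2p : Fact (Nat.Prime 2) := ⟨Nat.prime_two⟩
  have hG := card_alt_five
  have hH2 : ¬ 2 ∣ H.index := by
    rw [← even_iff_two_dvd, Nat.not_even_iff_odd]
    exact hH
  obtain ⟨S, hSH⟩ := exists_sylow_le_of_not_dvd_index 2 H hH2
  apply pronormal_of_normalizer_le 2 H S hSH
  intro u hu
  have hScard := card_sylow_two_alt_five S
  obtain ⟨x₀, hfix, htr⟩ := Cfsg.Agent.Helper1.SylMax.fixTrans_alt (α := Fin 5) 2 le_rfl (by simp) S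
  -- `u` fixes `x₀`
  have hux : u • x₀ = x₀ := by
    by_contra hne
    have hfix' : ∀ s ∈ (S : Subgroup (alternatingGroup (Fin 5))), s • (u • x₀) = u • x₀ := by
      intro s hs
      have hs' : u⁻¹ * s * u ∈ (S : Subgroup (alternatingGroup (Fin 5))) := by
        have := (Subgroup.mem_normalizer_iff.1 (inv_mem hu) s).1 hs
        simpa using this
      have := hfix _ hs'
      rw [mul_smul, mul_smul, inv_smul_eq_iff] at this
      exact this
    obtain ⟨z, hz1, hz2⟩ : ∃ z : Fin 5, z ≠ x₀ ∧ z ≠ u • x₀ := by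
      exact exists_third_fin_five _ _
    obtain ⟨r, hr, hrz⟩ := htr (u • x₀) z hne hz1
    rw [hfix' r hr] at hrz
    exact hz2 hrz.symm
  -- cases on `|H|`
  have hidx := Subgroup.card_mul_index H
  rw [hG] at hidx
  have h4 : 4 ∣ Nat.card ↥H := by
    rw [← hScard]
    exact Subgroup.card_dvd_of_le hSH
  obtain ⟨c, hc⟩ := h4
  have hci : c * H.index = 15 := by
    rw [hc] at hidx
    have h' : 4 * (c * H.index) = 4 * 15 := by rw [← mul_assoc]; exact hidx
    exact Nat.eq_of_mul_eq_mul_left (by norm_num) h'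
  have hcle : c ≤ 15 := Nat.le_of_dvd (by norm_num) (Dvd.intro _ hci)
  have hmemH : u ∈ H → H.map (MulAut.conj u).toMonoidHom = H := fun h =>
    map_conj_eq_of_mem_normalizer H u (Subgroup.le_normalizer h)
  have hcases : c = 1 ∨ c = 3 ∨ c = 5 ∨ c = 15 := by
    interval_cases c <;> omega
  rcases hcases with rfl | rfl | rfl | rfl
  · -- H = S
    have hHS : (S : Subgroup (alternatingGroup (Fin 5))) = H :=
      Subgroup.eq_of_le_of_card_ge hSH (by rw [hc, hScard])
    rw [← hHS]
    exact map_conj_eq_of_mem_normalizer _ u hu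
  · -- |H| = 12
    have hHfix : ∀ h ∈ H, h • x₀ = x₀ := by
      by_contra hcon
      push Not at hcon
      obtain ⟨h, hh, hhx⟩ := hcon
      have horb : MulAction.orbit ↥H x₀ = Set.univ := by
        rw [Set.eq_univ_iff_forall]
        intro z
        by_cases hz : z = x₀
        · rw [hz]; exact MulAction.mem_orbit_self x₀
        · obtain ⟨r, hr, hrz⟩ := htr (h • x₀) z hhx hz
          refine ⟨⟨r * h, H.mul_mem (hSH hr) hh⟩, ?_⟩
          change (r * h) • x₀ = z
          rw [mul_smul, hrz]
      have h5 : (MulAction.stabilizer ↥H x₀).index = 5 := by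
        rw [MulAction.index_stabilizer, horb, Set.ncard_univ, Nat.card_fin]
      have hdvd := Subgroup.index_dvd_card (MulAction.stabilizer ↥H x₀)
      rw [h5, hc] at hdvd
      norm_num at hdvd
    set T : Subgroup (alternatingGroup (Fin 5)) :=
      MulAction.stabilizer (alternatingGroup (Fin 5)) x₀ with hT
    have hHT : H ≤ T := by
      intro h hh
      rw [hT, MulAction.mem_stabilizer_iff]
      exact hHfix h hh
    have hTtop : T ≠ ⊤ := by
      intro htop
      have hmem : finRotate 5 ∈ alternatingGroup (Fin 5) := finRotate_five_mem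
      have hmemT : (⟨finRotate 5, hmem⟩ : alternatingGroup (Fin 5)) ∈ T := by
        rw [htop]; exact Subgroup.mem_top _
      rw [hT, MulAction.mem_stabilizer_iff] at hmemT
      exact finRotate_five_ne x₀ hmemT
    have hTH : T = H := by
      have hd1 : Nat.card ↥H ∣ Nat.card ↥T := Subgroup.card_dvd_of_le hHT
      have hd2 : Nat.card ↥T ∣ 60 := by
        rw [← hG]; exact Subgroup.card_subgroup_dvd_card T
      rw [hc] at hd1
      obtain ⟨t', ht'⟩ := hd1
      have ht5 : t' ∣ 5 := by
        rw [ht'] at hd2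
        have : 4 * 3 * t' ∣ 4 * 3 * 5 := by simpa using hd2
        exact Nat.dvd_of_mul_dvd_mul_left (by norm_num) this
      rcases (Nat.dvd_prime (by norm_num : Nat.Prime 5)).1 ht5 with rfl | rfl
      · exact (Subgroup.eq_of_le_of_card_ge hHT (by rw [ht', hc])).symm
      · exfalso
        apply hTtop
        rw [← Subgroup.card_eq_iff_eq_top, ht', hG]
    apply hmemH
    rw [← hTH, hT, MulAction.mem_stabilizer_iff]
    exact hux
  · -- |H| = 20
    exfalso
    exact no_index_three H (by omega)
  · -- H = ⊤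
    apply hmemH
    have : H = ⊤ := by
      rw [← Subgroup.card_eq_iff_eq_top, hc, hG]
    rw [this]
    exact Subgroup.mem_top _

end Cfsg.Agent.Helper20.AltPron
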