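import Mathlib
import Cfsg.Agent.Helper29.AltPronDefs
import Cfsg.Agent.Helper29.AltPronBasics

set_option autoImplicit false

/-!
# S2222 piece UB: the subgroups between a point stabilizer and an A-tight group form a chain
-/

namespace Cfsg.Agent.Helper20.AltPron

open MulAction Equiv Cfsg.Agent.Helper29.AltPron
open scoped Pointwise Nat

variable {α : Type*} [Fintype α] [DecidableEq α]

omit [Fintype α] [DecidableEq α] in
theorem stab_eq_of_le {P K : Subgroup (Perm α)} (ω : α) (h1 : stab P ω ≤ K) (h2 : K ≤ P) :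
    stab K ω = stab P ω := by
  apply le_antisymm
  · intro p hp
    rw [mem_stab] at hp ⊢
    exact ⟨h2 hp.1, hp.2⟩
  · intro p hp
    rw [mem_stab]
    exact ⟨h1 hp, (mem_stab.mp hp).2⟩

theorem chain_aux (hI : Inherit α) (hU : UniqueIdx2 α) (ω : α) :
    ∀ n : ℕ, ∀ P : Subgroup (Perm α), Nat.card P = n → ATight P → stab P ω ≠ ⊥ →
      ∀ H H' : Subgroup (Perm α), stab P ω ≤ H → H ≤ P → stab P ω ≤ H' → H' ≤ P →
        H ≤ H' ∨ H' ≤ H := by
  intro n
  induction n using Nat.strong_induction_on with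
  | _ n ih =>
    intro P hn hP hst H H' hsH hHP hsH' hH'P
    by_cases hHeq : H = P
    · right; rw [hHeq]; exact hH'P
    by_cases hH'eq : H' = P
    · left; rw [hH'eq]; exact hHP
    obtain ⟨Q, hHQ, hQP, hidx⟩ := exists_index_two hP.1 hHP hHeq
    obtain ⟨Q', hH'Q', hQ'P, hidx'⟩ := exists_index_two hP.1 hH'P hH'eq
    have hQQ' : Q = Q' :=
      hU P Q Q' hP ω hst hQP hQ'P hidx hidx' (hsH.trans hHQ) (hsH'.trans hH'Q')
    subst hQQ'
    have hQne : Q ≠ ⊥ := by
      intro h
      apply hst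
      rw [eq_bot_iff, ← h]
      exact hsH.trans hHQ
    obtain ⟨hQt, -⟩ := hI P Q hP hQP hidx hQne ω (hsH.trans hHQ)
    have hstQ : stab Q ω = stab P ω := stab_eq_of_le ω (hsH.trans hHQ) hQP
    have hlt : Nat.card Q < n := by
      rw [← hn, ← hidx]
      have := Nat.card_pos (α := Q)
      omega
    exact ih (Nat.card Q) hlt Q rfl hQt (by rw [hstQ]; exact hst) H H' (by rw [hstQ]; exact hsH)
      hHQ (by rw [hstQ]; exact hsH') hH'Q'

/-- UB -/
theorem intervalChain (hI : Inherit α) (hU : UniqueIdx2 α) {P : Subgroup (Perm α)}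
    (hP : ATight P) (hst : ∀ ω : α, stab P ω ≠ ⊥) : IntervalChain P := by
  intro ω H H' h1 h2 h3 h4
  exact chain_aux hI hU ω _ P rfl hP (hst ω) H H' h1 h2 h3 h4

end Cfsg.Agent.Helper20.AltPron
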