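import Mathlib
import Cfsg.Agent.Helper29.AltPronDefs
import Cfsg.Agent.Helper29.AltPronBasics

set_option autoImplicit false

/-!
# S2222 piece UBLK: if the subgroups over a point stabilizer form a chain, then blocks inside an
orbit through a point are determined by their size
-/

namespace Cfsg.Agent.Helper20.AltPron

open MulAction Equiv Cfsg.Agent.Helper29.AltPron
open scoped Pointwise Nat

variable {α : Type*} [Fintype α] [DecidableEq α]

omit [Fintype α] [DecidableEq α] in
theorem stab_eq_of_le' {P K : Subgroup (Perm α)} (ω : α) (h1 : stab P ω ≤ K) (h2 : K ≤ P) :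
    stab K ω = stab P ω := by
  apply le_antisymm
  · intro p hp
    rw [mem_stab] at hp ⊢
    exact ⟨h2 hp.1, hp.2⟩
  · intro p hp
    rw [mem_stab]
    exact ⟨h1 hp, (mem_stab.mp hp).2⟩

omit [Fintype α] [DecidableEq α] in
/-- a block through `x` inside the orbit of `x` is the orbit of `x` under its setwise stabilizer -/
theorem exists_subgroup_of_block {P : Subgroup (Perm α)} (x : α) (C : Set α) (hC : IsBlock P C)
    (hx : x ∈ C) (hCo : C ⊆ orbit P x) :
    ∃ H : Subgroup (Perm α), stab P x ≤ H ∧ H ≤ P ∧ orbit H x = C := by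
  refine ⟨P ⊓ stabilizer (Perm α) C, ?_, inf_le_left, ?_⟩
  · intro p hp
    rw [mem_stab] at hp
    refine Subgroup.mem_inf.2 ⟨hp.1, ?_⟩
    rw [mem_stabilizer_iff]
    have h := hC.smul_eq_of_mem (g := ⟨p, hp.1⟩) (a := x) hx
      (by change p x ∈ C; rw [hp.2]; exact hx)
    exact h
  · ext y
    rw [mem_orbit_sub]
    constructor
    · rintro ⟨h, hh, rfl⟩
      have h2 := (Subgroup.mem_inf.1 hh).2
      rw [mem_stabilizer_iff] at h2
      have h3 : h • x ∈ h • C := Set.smul_mem_smul_set hx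
      rw [h2] at h3
      exact h3
    · intro hy
      obtain ⟨p, hp, rfl⟩ := mem_orbit_sub.1 (hCo hy)
      refine ⟨p, Subgroup.mem_inf.2 ⟨hp, ?_⟩, rfl⟩
      rw [mem_stabilizer_iff]
      exact hC.smul_eq_of_mem (g := ⟨p, hp⟩) (a := x) hx hy

/-- UBLK -/
theorem uniqueBlocks_of_chain {P : Subgroup (Perm α)} (hch : IntervalChain P) :
    UniqueBlocks P := by
  intro x B B' hB hB' hxB hxB' hBo hB'o hcard
  obtain ⟨H, hsH, hHP, hHB⟩ := exists_subgroup_of_block x B hB hxB hBo
  obtain ⟨H', hsH', hH'P, hH'B⟩ := exists_subgroup_of_block x B' hB' hxB' hB'o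
  have c1 := card_stab_mul H x
  rw [stab_eq_of_le' x hsH hHP, hHB] at c1
  have c2 := card_stab_mul H' x
  rw [stab_eq_of_le' x hsH' hH'P, hH'B] at c2
  have hcardH : Nat.card H = Nat.card H' := by rw [← c1, ← c2, hcard]
  rcases hch x H H' hsH hHP hsH' hH'P with h | h
  · have heq : H = H' := Subgroup.eq_of_le_of_card_ge h (by rw [hcardH])
    rw [← hHB, ← hH'B, heq]
  · have heq : H' = H := Subgroup.eq_of_le_of_card_ge h (by rw [hcardH])
    rw [← hHB, ← hH'B, heq]

end Cfsg.Agent.Helper20.AltPron
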