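import Mathlib

set_option autoImplicit false

namespace Cfsg.Agent.Helper20

/-- An automorphism `y` of `p`-power order of a finite `p`-group `P` fixes a nontrivial element of
every nontrivial `y`-invariant subgroup `W`. -/
lemma exists_fixed_ne_one_of_invariant {P : Type*} [Group P] [Finite P] {p : ℕ} [Fact p.Prime]
    (hP : IsPGroup p P) (y : MulAut P) (k : ℕ) (hy : orderOf y = p ^ k) (W : Subgroup P)
    (hW : W ≠ ⊥) (hinv : ∀ w ∈ W, y w ∈ W) : ∃ w ∈ W, w ≠ 1 ∧ y w = w := by
  classical
  have hpow : ∀ z ∈ Subgroup.zpowers y, ∀ w ∈ W, z w ∈ W := by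
    intro z hz
    have hfin : IsOfFinOrder y := by
      rw [← orderOf_pos_iff, hy]; exact pow_pos (Fact.out : p.Prime).pos k
    obtain ⟨j, rfl⟩ := (Submonoid.mem_powers_iff _ _).1 (hfin.mem_powers_iff_mem_zpowers.2 hz)
    induction j with
    | zero => intro w hw; simpa using hw
    | succ j ih =>
      intro w hw
      rw [pow_succ']
      exact hinv _ (ih (Subgroup.pow_mem _ (Subgroup.mem_zpowers y) j) w hw)
  let S : SubMulAction (Subgroup.zpowers y) P :=
    { carrier := (W : Set P)
      smul_mem' := fun z w hw => hpow z.1 z.2 w hw }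
  haveI : Finite (Subgroup.zpowers y) := by
    apply Nat.finite_of_card_ne_zero
    rw [Nat.card_zpowers, hy]
    exact (pow_pos (Fact.out : p.Prime).pos k).ne'
  have hpg : IsPGroup p (Subgroup.zpowers y) := by
    rw [IsPGroup.iff_card, Nat.card_zpowers]; exact ⟨k, hy⟩
  have hcardS : p ∣ Nat.card S := by
    have h1 : Nat.card S = Nat.card W := rfl
    rw [h1]
    have hWp : IsPGroup p W := hP.to_subgroup W
    obtain ⟨n, hn⟩ := IsPGroup.iff_card.1 hWp
    rw [hn]
    have : n ≠ 0 := by
      rintro rfl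
      rw [pow_zero, Subgroup.card_eq_one] at hn
      exact hW hn
    exact dvd_pow_self p this
  have h1fix : (⟨1, W.one_mem⟩ : S) ∈ MulAction.fixedPoints (Subgroup.zpowers y) S := by
    intro z
    apply Subtype.ext
    show (z : MulAut P) (1 : P) = 1
    simp
  obtain ⟨⟨w, hw⟩, hfix, hne⟩ := hpg.exists_fixed_point_of_prime_dvd_card_of_fixed_point S hcardS h1fix
  refine ⟨w, hw, ?_, ?_⟩
  · intro h
    apply hne
    apply Subtype.ext
    exact h.symm
  · have := hfix ⟨y, Subgroup.mem_zpowers y⟩
    exact congrArg Subtype.val this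

end Cfsg.Agent.Helper20
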