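import Mathlib

/-!
# A counting lemma: two non-fusing TI-subgroups modulo a central subgroup

`count_two_TI`: let `Z` be a central subgroup of a finite group `D`, and `A`, `B` nontrivial subgroups of
order prime to `|Z|` such that `A ∩ A^d ≠ 1` forces `d ∈ A Z`, `B ∩ B^d ≠ 1` forces `d ∈ B Z`, and
`A ∩ B^d = 1` for every `d`.  Then we have a contradiction: the sets `(A^d)^# Z` cover
`|D| (1 - 1/|A|)` elements, the sets `(B^d)^# Z` cover `|D| (1 - 1/|B|)` elements, the two families are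
disjoint and miss `1`.
-/

set_option autoImplicit false
set_option linter.unusedSectionVars false
set_option linter.unusedVariables false

namespace Cfsg.Agent.Helper20.BG13Count

open Subgroup

variable {D : Type*} [Group D]

/-- the map `(d, y, e) ↦ d y d⁻¹ e` -/
def cjm (A Z : Subgroup D) (t : D × ↥A × ↥Z) : D := t.1 * (t.2.1 : D) * t.1⁻¹ * (t.2.2 : D)

theorem cjm_pow [Finite D] (A Z : Subgroup D) (hZ : Z ≤ center D) (t : D × ↥A × ↥Z) :
    (cjm A Z t) ^ Nat.card Z = t.1 * (t.2.1 : D) ^ Nat.card Z * t.1⁻¹ := by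
  unfold cjm
  have hc : Commute (t.1 * (t.2.1 : D) * t.1⁻¹) (t.2.2 : D) := by
    have := Subgroup.mem_center_iff.mp (hZ t.2.2.2) (t.1 * (t.2.1 : D) * t.1⁻¹)
    exact this
  rw [hc.mul_pow, conj_pow]
  have : ((t.2.2 : D)) ^ Nat.card Z = 1 := by
    have h := pow_card_eq_one' (G := ↥Z) (x := t.2.2)
    have h2 := congrArg Subtype.val h
    rw [Subgroup.coe_pow, Subgroup.coe_one] at h2
    exact h2
  rw [this, mul_one]

theorem pow_ne_one_of_coprime [Finite D] {A : Subgroup D} {n : ℕ}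
    (hcop : (Nat.card A).Coprime n) {y : D} (hy : y ∈ A) (hy1 : y ≠ 1) : y ^ n ≠ 1 := by
  intro h
  apply hy1
  have h1 : orderOf y ∣ n := orderOf_dvd_of_pow_eq_one h
  have h2 : orderOf y ∣ Nat.card A := by
    have := orderOf_dvd_natCard (⟨y, hy⟩ : ↥A)
    rwa [Subgroup.orderOf_mk] at this
  have h3 : orderOf y = 1 := Nat.eq_one_of_dvd_coprimes hcop h2 h1
  exact orderOf_eq_one_iff.mp h3

/-- membership in `A ⊔ Z` for central `Z` -/
theorem mem_sup_center {A Z : Subgroup D} (hZ : Z ≤ center D) {x : D} (hx : x ∈ A ⊔ Z) :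
    ∃ a ∈ A, ∃ e ∈ Z, x = a * e := by
  have hZn : Z.Normal := by
    constructor
    intro n hn g
    have h := Subgroup.mem_center_iff.mp (hZ hn) g
    have : g * n * g⁻¹ = n := by rw [h]; group
    rw [this]; exact hn
  have h1 : x ∈ ((A ⊔ Z : Subgroup D) : Set D) := hx
  rw [Subgroup.mul_normal A Z] at h1
  obtain ⟨a, ha, e, he, rfl⟩ := h1
  exact ⟨a, ha, e, he, rfl⟩

theorem card_sup_center_le [Finite D] {A Z : Subgroup D} (hZ : Z ≤ center D) :
    Nat.card ↥(A ⊔ Z) ≤ Nat.card A * Nat.card Z := by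
  rw [← Nat.card_prod]
  apply Nat.card_le_card_of_surjective (fun t : ↥A × ↥Z =>
    (⟨(t.1 : D) * (t.2 : D), mul_mem (le_sup_left (a := A) (b := Z) t.1.2)
      (le_sup_right (a := A) (b := Z) t.2.2)⟩ : ↥(A ⊔ Z)))
  intro x
  obtain ⟨a, ha, e, he, hx⟩ := mem_sup_center hZ x.2
  exact ⟨(⟨a, ha⟩, ⟨e, he⟩), Subtype.ext hx.symm⟩

section main

variable [Finite D] (A Z : Subgroup D)

/-- key step: two triples with the same image differ by an element of `A Z` -/
theorem mem_sup_of_cjm_eq (hZ : Z ≤ center D) (hcop : (Nat.card A).Coprime (Nat.card Z))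
    (hTI : ∀ d : D, A ⊓ A.map (MulAut.conj d).toMonoidHom ≠ ⊥ → d ∈ A ⊔ Z)
    {t₀ t : D × ↥A × ↥Z} (ht : t.2.1 ≠ 1) (h : cjm A Z t₀ = cjm A Z t) :
    t₀.1⁻¹ * t.1 ∈ A ⊔ Z := by
  have h1 := congrArg (· ^ Nat.card Z) h
  simp only [cjm_pow A Z hZ] at h1
  apply hTI
  intro hbot
  have hy : ((t.2.1 : D)) ^ Nat.card Z ≠ 1 :=
    pow_ne_one_of_coprime hcop t.2.1.2 (fun h => ht (Subtype.ext h))
  have hmem : (t₀.2.1 : D) ^ Nat.card Z ∈ A ⊓ A.map (MulAut.conj (t₀.1⁻¹ * t.1)).toMonoidHom := by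
    refine Subgroup.mem_inf.mpr ⟨A.pow_mem t₀.2.1.2 _, ?_⟩
    refine ⟨(t.2.1 : D) ^ Nat.card Z, A.pow_mem t.2.1.2 _, ?_⟩
    simp only [MulEquiv.coe_toMonoidHom, MulAut.conj_apply]
    have : (t₀.2.1 : D) ^ Nat.card Z = t₀.1⁻¹ * (t.1 * (t.2.1 : D) ^ Nat.card Z * t.1⁻¹) * t₀.1 := by
      rw [← h1]; group
    rw [this]; group
  rw [hbot, Subgroup.mem_bot] at hmem
  apply hy
  have : (t.2.1 : D) ^ Nat.card Z = t.1⁻¹ * (t₀.1 * (t₀.2.1 : D) ^ Nat.card Z * t₀.1⁻¹) * t.1 := by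
    rw [h1]; group
  rw [this, hmem]; group

/-- injectivity on a fibre: same first coordinate and same image force equality -/
theorem eq_of_cjm_eq_of_fst_eq (hZ : Z ≤ center D) (hcop : (Nat.card A).Coprime (Nat.card Z))
    {t t' : D × ↥A × ↥Z} (h1 : t.1 = t'.1) (h : cjm A Z t = cjm A Z t') : t = t' := by
  obtain ⟨d, y, e⟩ := t
  obtain ⟨d', y', e'⟩ := t'
  simp only at h1
  subst h1
  unfold cjm at h
  simp only at h
  have hbot : A ⊓ Z = ⊥ := (Subgroup.disjoint_of_coprime_natCard hcop).eq_bot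
  have he : d⁻¹ * (e : D) * d = e := by
    have := Subgroup.mem_center_iff.mp (hZ e.2) d
    calc d⁻¹ * (e : D) * d = d⁻¹ * ((e : D) * d) := by group
      _ = d⁻¹ * (d * (e : D)) := by rw [this]
      _ = e := by group
  have he' : d⁻¹ * (e' : D) * d = e' := by
    have := Subgroup.mem_center_iff.mp (hZ e'.2) d
    calc d⁻¹ * (e' : D) * d = d⁻¹ * ((e' : D) * d) := by group
      _ = d⁻¹ * (d * (e' : D)) := by rw [this]
      _ = e' := by group
  have h2 : (y : D) * (e : D) = (y' : D) * (e' : D) := by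
    have h3 : d⁻¹ * (d * (y : D) * d⁻¹ * (e : D)) * d = d⁻¹ * (d * (y' : D) * d⁻¹ * (e' : D)) * d := by
      rw [h]
    have h4 : d⁻¹ * (d * (y : D) * d⁻¹ * (e : D)) * d = (y : D) * (d⁻¹ * (e : D) * d) := by group
    have h5 : d⁻¹ * (d * (y' : D) * d⁻¹ * (e' : D)) * d = (y' : D) * (d⁻¹ * (e' : D) * d) := by group
    rw [h4, h5, he, he'] at h3
    exact h3
  have h6 : (y' : D)⁻¹ * (y : D) = (e' : D) * (e : D)⁻¹ := by
    have : (y' : D)⁻¹ * ((y : D) * (e : D)) * (e : D)⁻¹ = (y' : D)⁻¹ * ((y' : D) * (e' : D)) * (e : D)⁻¹ := by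
      rw [h2]
    have l : (y' : D)⁻¹ * ((y : D) * (e : D)) * (e : D)⁻¹ = (y' : D)⁻¹ * (y : D) := by group
    have r : (y' : D)⁻¹ * ((y' : D) * (e' : D)) * (e : D)⁻¹ = (e' : D) * (e : D)⁻¹ := by group
    rw [l, r] at this
    exact this
  have h7 : (y' : D)⁻¹ * (y : D) ∈ A ⊓ Z := by
    refine Subgroup.mem_inf.mpr ⟨A.mul_mem (A.inv_mem y'.2) y.2, ?_⟩
    rw [h6]; exact Z.mul_mem e'.2 (Z.inv_mem e.2)
  rw [hbot, Subgroup.mem_bot] at h7
  have hy : (y : D) = y' := by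
    have := inv_mul_eq_one.mp h7
    exact this.symm
  have he2 : (e : D) = e' := by
    rw [hy] at h2
    exact mul_left_cancel h2
  have hy' : y = y' := Subtype.ext hy
  have he3 : e = e' := Subtype.ext he2
  rw [hy', he3]

open Classical in
/-- the conjugates of `A^# Z` cover at least `|D| (1 - 1/|A|)` elements. -/
theorem card_mul_le (hZ : Z ≤ center D) (hcop : (Nat.card A).Coprime (Nat.card Z))
    (hTI : ∀ d : D, A ⊓ A.map (MulAut.conj d).toMonoidHom ≠ ⊥ → d ∈ A ⊔ Z) :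
    Nat.card D * (Nat.card A - 1) ≤ Nat.card A * (cjm A Z '' {t | t.2.1 ≠ 1}).ncard := by
  haveI : Fintype D := Fintype.ofFinite D
  set S : Finset (D × ↥A × ↥Z) :=
    (Finset.univ : Finset D) ×ˢ (((Finset.univ : Finset ↥A).erase 1) ×ˢ (Finset.univ : Finset ↥Z))
    with hS
  have hmemS : ∀ t, t ∈ S ↔ t.2.1 ≠ 1 := by
    intro t
    simp [hS]
  have hScard : S.card = Nat.card D * (Nat.card A - 1) * Nat.card Z := by
    rw [hS, Finset.card_product, Finset.card_product, Finset.card_erase_of_mem (Finset.mem_univ _),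
      Finset.card_univ, Finset.card_univ, Finset.card_univ, ← Nat.card_eq_fintype_card,
      ← Nat.card_eq_fintype_card, ← Nat.card_eq_fintype_card, mul_assoc]
  have hZpos : 0 < Nat.card Z := Nat.card_pos
  -- fibre bound
  have hfib : ∀ b ∈ S.image (cjm A Z), (S.filter (fun t => cjm A Z t = b)).card
      ≤ Nat.card A * Nat.card Z := by
    intro b hb
    obtain ⟨t₀, ht₀S, ht₀⟩ := Finset.mem_image.mp hb
    refine le_trans ?_ (card_sup_center_le (A := A) (Z := Z) hZ)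
    have hT : Nat.card ↥(A ⊔ Z) = (Finset.univ.filter (fun x : D => x ∈ A ⊔ Z)).card := by
      rw [Nat.card_eq_fintype_card]
      exact Fintype.card_subtype _
    rw [hT]
    apply Finset.card_le_card_of_injOn (fun t => t₀.1⁻¹ * t.1)
    · intro t ht
      have ht' := Finset.mem_filter.mp (Finset.mem_coe.mp ht)
      have : t₀.1⁻¹ * t.1 ∈ A ⊔ Z :=
        mem_sup_of_cjm_eq A Z hZ hcop hTI ((hmemS t).mp ht'.1) (ht₀.trans ht'.2.symm)
      simpa using this
    · intro t ht t' ht' hEq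
      have h1 := Finset.mem_filter.mp (Finset.mem_coe.mp ht)
      have h2 := Finset.mem_filter.mp (Finset.mem_coe.mp ht')
      have hfst : t.1 = t'.1 := mul_left_cancel hEq
      exact eq_of_cjm_eq_of_fst_eq A Z hZ hcop hfst (h1.2.trans h2.2.symm)
  have hmain := Finset.card_le_mul_card_image (f := cjm A Z) S (Nat.card A * Nat.card Z) hfib
  have himg : (S.image (cjm A Z)).card = (cjm A Z '' {t | t.2.1 ≠ 1}).ncard := by
    rw [← Set.ncard_coe_finset]
    congr 1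
    ext x
    simp only [Finset.coe_image, Set.mem_image, Finset.mem_coe, hmemS, Set.mem_ofPred_eq]
  rw [himg, hScard] at hmain
  -- cancel |Z|
  have : Nat.card D * (Nat.card A - 1) * Nat.card Z
      ≤ (Nat.card A * (cjm A Z '' {t | t.2.1 ≠ 1}).ncard) * Nat.card Z := by
    calc Nat.card D * (Nat.card A - 1) * Nat.card Z
        ≤ Nat.card A * Nat.card Z * (cjm A Z '' {t | t.2.1 ≠ 1}).ncard := hmain
      _ = (Nat.card A * (cjm A Z '' {t | t.2.1 ≠ 1}).ncard) * Nat.card Z := by ring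
  exact Nat.le_of_mul_le_mul_right this hZpos

/-- `1` is not of the form `d y d⁻¹ e` with `y ∈ A^#`. -/
theorem one_not_mem_img (hZ : Z ≤ center D) (hcop : (Nat.card A).Coprime (Nat.card Z)) :
    (1 : D) ∉ cjm A Z '' {t | t.2.1 ≠ 1} := by
  rintro ⟨t, ht, h⟩
  have h1 := congrArg (· ^ Nat.card Z) h
  simp only [cjm_pow A Z hZ, one_pow] at h1
  have hy : ((t.2.1 : D)) ^ Nat.card Z ≠ 1 :=
    pow_ne_one_of_coprime hcop t.2.1.2 (fun h => ht (Subtype.ext h))
  apply hy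
  have : (t.2.1 : D) ^ Nat.card Z = t.1⁻¹ * (t.1 * (t.2.1 : D) ^ Nat.card Z * t.1⁻¹) * t.1 := by
    group
  rw [this, h1]; group

end main

section two

variable [Finite D]

/-- the two families are disjoint -/
theorem disjoint_img (Z A B : Subgroup D) (hZ : Z ≤ center D)
    (hcopA : (Nat.card A).Coprime (Nat.card Z))
    (hnf : ∀ d : D, A ⊓ B.map (MulAut.conj d).toMonoidHom = ⊥) :
    Disjoint (cjm A Z '' {t | t.2.1 ≠ 1}) (cjm B Z '' {t | t.2.1 ≠ 1}) := by
  rw [Set.disjoint_left]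
  rintro x ⟨t, ht, hx⟩ ⟨t', ht', hx'⟩
  have h := hx.trans hx'.symm
  have h1 := congrArg (· ^ Nat.card Z) h
  simp only [cjm_pow A Z hZ, cjm_pow B Z hZ] at h1
  have hy : ((t.2.1 : D)) ^ Nat.card Z ≠ 1 :=
    pow_ne_one_of_coprime hcopA t.2.1.2 (fun h => ht (Subtype.ext h))
  have hmem : (t.2.1 : D) ^ Nat.card Z ∈ A ⊓ B.map (MulAut.conj (t.1⁻¹ * t'.1)).toMonoidHom := by
    refine Subgroup.mem_inf.mpr ⟨A.pow_mem t.2.1.2 _, ?_⟩
    refine ⟨(t'.2.1 : D) ^ Nat.card Z, B.pow_mem t'.2.1.2 _, ?_⟩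
    simp only [MulEquiv.coe_toMonoidHom, MulAut.conj_apply]
    have : (t.2.1 : D) ^ Nat.card Z = t.1⁻¹ * (t'.1 * (t'.2.1 : D) ^ Nat.card Z * t'.1⁻¹) * t.1 := by
      rw [← h1]; group
    rw [this]; group
  rw [hnf, Subgroup.mem_bot] at hmem
  exact hy hmem

/-- **Counting lemma.** Two non-fusing TI subgroups modulo a central subgroup cannot exist. -/
theorem count_two_TI (Z A B : Subgroup D) (hZ : Z ≤ center D) (hA1 : A ≠ ⊥) (hB1 : B ≠ ⊥)
    (hcopA : (Nat.card A).Coprime (Nat.card Z)) (hcopB : (Nat.card B).Coprime (Nat.card Z))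
    (hTIA : ∀ d : D, A ⊓ A.map (MulAut.conj d).toMonoidHom ≠ ⊥ → d ∈ A ⊔ Z)
    (hTIB : ∀ d : D, B ⊓ B.map (MulAut.conj d).toMonoidHom ≠ ⊥ → d ∈ B ⊔ Z)
    (hnf : ∀ d : D, A ⊓ B.map (MulAut.conj d).toMonoidHom = ⊥) : False := by
  have hA := card_mul_le A Z hZ hcopA hTIA
  have hB := card_mul_le B Z hZ hcopB hTIB
  have hdis := disjoint_img Z A B hZ hcopA hnf
  have h1A := one_not_mem_img A Z hZ hcopA
  have h1B := one_not_mem_img B Z hZ hcopB
  set IA := cjm A Z '' {t | t.2.1 ≠ 1} with hIA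
  set IB := cjm B Z '' {t | t.2.1 ≠ 1} with hIB
  have hfin : (IA ∪ IB).Finite := Set.toFinite _
  have hunion : (IA ∪ IB).ncard = IA.ncard + IB.ncard :=
    Set.ncard_union_eq hdis (Set.toFinite _) (Set.toFinite _)
  have h1 : (1 : D) ∉ IA ∪ IB := by
    intro h
    rcases h with h | h
    · exact h1A h
    · exact h1B h
  have hlt : (IA ∪ IB).ncard < Nat.card D := by
    have : (IA ∪ IB).ncard < (Set.univ : Set D).ncard := by
      apply Set.ncard_lt_ncard _ (Set.toFinite _)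
      refine ⟨Set.subset_univ _, ?_⟩
      intro h
      exact h1 (h (Set.mem_univ 1))
    rwa [Set.ncard_univ] at this
  have ha2 : 2 ≤ Nat.card A := by
    have : 1 < Nat.card A := (Subgroup.one_lt_card_iff_ne_bot A).mpr hA1
    omega
  have hb2 : 2 ≤ Nat.card B := by
    have : 1 < Nat.card B := (Subgroup.one_lt_card_iff_ne_bot B).mpr hB1
    omega
  rw [hunion] at hlt
  obtain ⟨a, ha⟩ : ∃ a, Nat.card A = a + 2 := ⟨Nat.card A - 2, by omega⟩
  obtain ⟨b, hb⟩ : ∃ b, Nat.card B = b + 2 := ⟨Nat.card B - 2, by omega⟩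
  rw [ha] at hA
  rw [hb] at hB
  have hA' : Nat.card D * (a + 1) ≤ (a + 2) * IA.ncard := by simpa using hA
  have hB' : Nat.card D * (b + 1) ≤ (b + 2) * IB.ncard := by simpa using hB
  have hlt' : IA.ncard + IB.ncard + 1 ≤ Nat.card D := hlt
  have e1 : (b + 2) * (Nat.card D * (a + 1)) ≤ (b + 2) * ((a + 2) * IA.ncard) :=
    Nat.mul_le_mul_left _ hA'
  have e2 : (a + 2) * (Nat.card D * (b + 1)) ≤ (a + 2) * ((b + 2) * IB.ncard) :=
    Nat.mul_le_mul_left _ hB'
  have e3 : (a + 2) * (b + 2) * (IA.ncard + IB.ncard + 1) ≤ (a + 2) * (b + 2) * Nat.card D :=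
    Nat.mul_le_mul_left _ hlt'
  nlinarith [e1, e2, e3, Nat.zero_le (Nat.card D * (a * b + a + b))]

end two

end Cfsg.Agent.Helper20.BG13Count
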