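import Mathlib
import Cfsg.Prelude.Def_OddOrderLocal
import Cfsg.Agent.Helper20.BG13O
import Cfsg.Agent.Helper10.BG13Q
import Cfsg.Agent.Helper4.BG13T3
import Cfsg.Agent.Helper4.BG13E2
import Cfsg.Agent.S1350
import Cfsg.Agent.S1415

/-!
# `NotBad1` in the exact shape consumed by `Helper10.BG13Q.noPair_of`

Adapter from `Helper20.BG13N.not_bad1` (file `BG13O`) and helper4's facts on the setting T3.
-/

set_option autoImplicit false
set_option linter.unusedSectionVars false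
set_option linter.unusedVariables false

namespace Cfsg.Agent.Helper20.BG13N

open Subgroup Cfsg

universe u

variable {G : Type u} [Group G] [Finite G]

theorem notBad1 (hG : Cfsg.IsMinSimpleOddOrder G) : Cfsg.Agent.Helper10.BG13Q.NotBad1 G := by
  intro M E X E3 E1 R0 T0 p hM hE hp3 hpκ hXE hXp hE3 hE1 hR0 hR0p hT0 hT0p hpair hcent
  have h1350 : Cfsg.Agent.H9.BG12.St1350 G := fun M hM => Cfsg.Agent.S1350.result hG M hM
  have c : Cfsg.Agent.Helper4.BG13T3.T3 M E X p := ⟨hM, hE, hp3, hpκ, hXE, hXp⟩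
  have cT : Cfsg.Agent.Helper4.BG13T3.T3 M E T0 (Nat.card T0) := c.of_le_E3 hG hE3 hT0 hT0p
  have hF1 := c.tau2_free hG
  obtain ⟨hE3c, hE3comm, hE3n⟩ := (Cfsg.Agent.S1415.result hG M hM E hE).2.2 E3 hE3
  have hτ2 : ∀ q : ℕ, q.Prime → q ∣ Nat.card E → q ∉ Cfsg.tau2 M := by
    intro q hq _ hq2
    exact hq2.2.2.2 (hF1 q hq hq2.2.1)
  have hsup := (Cfsg.Agent.Helper4.BG13E.centralizer_tau1_hall hG hM hE hE1 hE3 hτ2).1
  have hHallE := Cfsg.Agent.H9.BG12.isPiHallOf_compl h1350 hM hE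
  have hcopE : (Nat.card E).Coprime (Nat.card (Cfsg.sigmaCore M)) := by
    apply Nat.coprime_of_dvd
    intro k hk hk1 hk2
    exact hHallE.2.1 k hk hk1 (Cfsg.Agent.H9.BG12.mem_sigma_of_dvd_card_sigmaCore hk hk2)
  have hF3 := (c.centralizer_singleton_eq hG hE3).1
  have hF4 := Cfsg.Agent.Helper4.BG13T3.prime_action_tau1 hG hM hE hE1
  -- `|T0| ∉ α(M)`
  have htτ3 : Nat.card T0 ∈ Cfsg.tau3 M := cT.hp3
  have hT0α : Nat.card T0 ∉ Cfsg.alpha M := by
    intro hα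
    apply hα.2
    intro A hA hAp
    have h1 := htτ3.2.2.2 A hA hAp
    exact h1.trans (Nat.pow_le_pow_right hT0p.pos (by norm_num))
  -- `M ∩ C(T0)` lies in two distinct maximal subgroups
  obtain ⟨H, hH, hNH⟩ := cT.exists_coatom hG
  have hnc := cT.not_conj hG hH hNH
  have hHM : H ≠ M := by
    intro h
    apply hnc 1
    rw [h]
    ext x
    simp [Cfsg.Agent.Helper14.cj]
  have hnu : ¬ Cfsg.InUniqueMaximal (M ⊓ centralizer (T0 : Set G)) := by
    rintro ⟨L, -, hLu⟩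
    have h1 : M = L := hLu M ⟨hM, inf_le_left⟩
    have h2 : H = L := hLu H ⟨hH, inf_le_right.trans ((centralizer_le_normalizer _).trans hNH)⟩
    exact hHM (h2.trans h1.symm)
  exact not_bad1 hG hM hE hE3.1 hE1.1 hsup.ge hE3c hE3n hE3comm hcopE hE1.2.1 hF3 c.Y0_ne_bot hF4
    hR0 hR0p hT0 hT0p hT0α hnu hpair hcent

end Cfsg.Agent.Helper20.BG13N
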