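import Mathlib
import Cfsg.Prelude.Def_OddOrderLocal
import Cfsg.Agent.Helper27.BG15St
import Cfsg.Agent.Helper27.BG15H
import Cfsg.Agent.Helper21.BG10a
import Cfsg.Agent.Helper21.BG10b
import Cfsg.Agent.Helper5.FrobModH
import Cfsg.Agent.Helper20.BG13N
import Cfsg.Agent.Helper20.BG15L
import Cfsg.Agent.Helper9.BG12a
import Cfsg.Agent.Helper23.Cyclic
import Cfsg.Agent.Helper1.BG16C2
import Cfsg.Agent.Helper9.BG12f
import Cfsg.Agent.Helper19.Cores
import Cfsg.Agent.S1404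

/-!
# B&G Theorem 15.7, weak form for `K ≠ 1`, `U ≠ 1`: `F(M)` is a TI-subgroup

If `M = K U M_σ` with `K ≠ 1` and `U ≠ 1` then `F(M) ∩ F(M)^g = 1` for all `g ∉ M`.  Proof: for a
prime `t ∈ σ(M)` and `P = O_t(M)`, the Frobenius group `U K` acts on `Ω = Ω₁(Z(P))` with
`C_Ω(U) = 1` (`U₀` of S1360), so `|Ω| = |C_Ω(K)|^{|K|} ≥ t³` by the Frobenius fixed point formula; hence
`Ω` lies in a unique maximal subgroup and `C_G(y) ≤ M` for every `y ∈ P^#`, while the `σ`-control of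
fusion (S1404) would give `C_G(y) ≰ M`.  For `t ∉ σ(M)` the `t`-part of `F(M)` is cyclic (S1439).

This replaces the use of the (doubtful) frozen statement S1440 in S1372.
-/

set_option autoImplicit false
set_option linter.unusedSectionVars false
set_option linter.unusedVariables false
set_option linter.style.haveILetI false

namespace Cfsg.Agent.Helper20.BG157

open Subgroup Cfsg

universe u

variable {G : Type u} [Group G]

/-- `Ω₁(Z(P))`: the elements of `P ∩ C(P)` of order dividing `t`. -/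
def omegaCenter (P : Subgroup G) (t : ℕ) : Subgroup G where
  carrier := {a | a ∈ P ∧ a ∈ centralizer (P : Set G) ∧ a ^ t = 1}
  one_mem' := ⟨P.one_mem, (centralizer (P : Set G)).one_mem, one_pow t⟩
  mul_mem' := by
    rintro a b ⟨haP, haC, hat⟩ ⟨hbP, hbC, hbt⟩
    refine ⟨P.mul_mem haP hbP, (centralizer (P : Set G)).mul_mem haC hbC, ?_⟩
    have hc : Commute a b := (Subgroup.mem_centralizer_iff.mp haC b hbP).symm
    rw [hc.mul_pow, hat, hbt, one_mul]
  inv_mem' := by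
    rintro a ⟨haP, haC, hat⟩
    exact ⟨P.inv_mem haP, (centralizer (P : Set G)).inv_mem haC, by rw [inv_pow, hat, inv_one]⟩

theorem mem_omegaCenter {P : Subgroup G} {t : ℕ} {a : G} :
    a ∈ omegaCenter P t ↔ a ∈ P ∧ a ∈ centralizer (P : Set G) ∧ a ^ t = 1 := Iff.rfl

theorem omegaCenter_le (P : Subgroup G) (t : ℕ) : omegaCenter P t ≤ P := fun _ h => h.1

theorem omegaCenter_le_centralizer (P : Subgroup G) (t : ℕ) :
    omegaCenter P t ≤ centralizer (P : Set G) := fun _ h => h.2.1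

theorem omegaCenter_elementary (P : Subgroup G) (t : ℕ) :
    Cfsg.IsElementaryAbelian t (omegaCenter P t) := by
  refine ⟨⟨⟨?_⟩⟩, fun a ha => ha.2.2⟩
  rintro ⟨a, ha⟩ ⟨b, hb⟩
  apply Subtype.ext
  exact ((Subgroup.mem_centralizer_iff.mp ha.2.1) b hb.1).symm

theorem conj_mem_omegaCenter {P : Subgroup G} {t : ℕ} {n : G} (hn : n ∈ normalizer (P : Set G))
    {a : G} (ha : a ∈ omegaCenter P t) : n * a * n⁻¹ ∈ omegaCenter P t := by
  obtain ⟨haP, haC, hat⟩ := ha
  refine ⟨(Subgroup.mem_normalizer_iff.mp hn a).mp haP, ?_, ?_⟩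
  · rw [Subgroup.mem_centralizer_iff]
    intro y hy
    have hy' : n⁻¹ * y * n ∈ P := by
      have := (Subgroup.mem_normalizer_iff.mp ((normalizer (P : Set G)).inv_mem hn) y).mp hy
      simpa using this
    have hc := Subgroup.mem_centralizer_iff.mp haC _ hy'
    calc y * (n * a * n⁻¹) = n * ((n⁻¹ * y * n) * a) * n⁻¹ := by group
      _ = n * (a * (n⁻¹ * y * n)) * n⁻¹ := by rw [hc]
      _ = n * a * n⁻¹ * y := by group
  · rw [conj_pow, hat, mul_one, mul_inv_cancel]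

theorem normalizer_le_normalizer_omegaCenter (P : Subgroup G) (t : ℕ) :
    normalizer (P : Set G) ≤ normalizer (omegaCenter P t : Set G) := by
  intro n hn
  rw [Subgroup.mem_normalizer_iff]
  intro a
  constructor
  · exact conj_mem_omegaCenter hn
  · intro h
    have := conj_mem_omegaCenter ((normalizer (P : Set G)).inv_mem hn) h
    have e : n⁻¹ * (n * a * n⁻¹) * n⁻¹⁻¹ = a := by group
    rwa [e] at this

variable [Finite G]

theorem omegaCenter_ne_bot {t : ℕ} [ht : Fact t.Prime] {P : Subgroup G} (hP : IsPGroup t P)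
    (hP1 : P ≠ ⊥) : omegaCenter P t ≠ ⊥ := by
  haveI : Nontrivial ↥P := (Subgroup.nontrivial_iff_ne_bot P).mpr hP1
  haveI : Nontrivial ↥(Subgroup.center ↥P) := hP.center_nontrivial
  have hcp : IsPGroup t ↥(Subgroup.center ↥P) := hP.to_subgroup _
  have hd : t ∣ Nat.card ↥(Subgroup.center ↥P) := by
    obtain ⟨n, hn⟩ := IsPGroup.iff_card.mp hcp
    rw [hn]
    rcases Nat.eq_zero_or_pos n with h0 | hpos
    · exfalso
      rw [h0, pow_zero] at hn
      have : Subsingleton ↥(Subgroup.center ↥P) := (Nat.card_eq_one_iff_unique.mp hn).1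
      exact not_subsingleton _ this
    · exact dvd_pow_self t hpos.ne'
  obtain ⟨c, hc⟩ := exists_prime_orderOf_dvd_card' (G := ↥(Subgroup.center ↥P)) t hd
  intro hbot
  have hmem : ((c : ↥P) : G) ∈ omegaCenter P t := by
    refine ⟨(c : ↥P).2, ?_, ?_⟩
    · rw [Subgroup.mem_centralizer_iff]
      intro y hy
      have h1 := Subgroup.mem_center_iff.mp c.2 ⟨y, hy⟩
      exact congrArg Subtype.val h1
    · have h1 : c ^ t = 1 := by rw [← hc]; exact pow_orderOf_eq_one c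
      have h2 := congrArg (fun x : ↥(Subgroup.center ↥P) => ((x : ↥P) : G)) h1
      simpa using h2
  rw [hbot, Subgroup.mem_bot] at hmem
  have hc1 : c = 1 := by
    apply Subtype.ext
    apply Subtype.ext
    simpa using hmem
  rw [hc1, orderOf_one] at hc
  exact ht.out.one_lt.ne hc

/-- a Frobenius group `U K` (`|K| ≥ 3`) acting coprimely on a nontrivial `t`-group `Ω` with
`C_Ω(U) = 1`: then `|Ω| ≥ t³`. -/
theorem cube_le_card_of_frobenius {K U Ω : Subgroup G} {t : ℕ} [ht : Fact t.Prime]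
    (hKU : K ≤ normalizer (U : Set G))
    (hfpf : ∀ k ∈ K, k ≠ 1 → U ⊓ centralizer ({k} : Set G) = ⊥)
    (hK1 : K ≠ ⊥) (hodd : Odd (Nat.card K))
    (hΩ : IsPGroup t Ω) (hΩ1 : Ω ≠ ⊥) (hinv : U ⊔ K ≤ normalizer (Ω : Set G))
    (hcop : (Nat.card Ω).Coprime (Nat.card ↥(U ⊔ K)))
    (hreg : Ω ⊓ centralizer (U : Set G) = ⊥) : t ^ 3 ≤ Nat.card Ω := by
  have hUn : ∀ e ∈ K, ∀ u ∈ U, e * u * e⁻¹ ∈ U := by
    intro e he u hu
    exact (Subgroup.mem_normalizer_iff.mp (hKU he) u).mp hu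
  have hfpf' : ∀ e ∈ K, e ≠ 1 → ∀ u ∈ U, e * u = u * e → u = 1 := by
    intro e he he1 u hu hcomm
    have hmem : u ∈ U ⊓ centralizer ({e} : Set G) := by
      refine Subgroup.mem_inf.mpr ⟨hu, ?_⟩
      rw [Subgroup.mem_centralizer_iff]
      intro y hy
      rw [Set.mem_singleton_iff] at hy
      subst hy
      exact hcomm
    rw [hfpf e he he1, Subgroup.mem_bot] at hmem
    exact hmem
  have hinv' : ∀ x ∈ U ⊔ K, ∀ h ∈ Ω, x * h * x⁻¹ ∈ Ω := by
    intro x hx h hh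
    exact (Subgroup.mem_normalizer_iff.mp (hinv hx) h).mp hh
  have hsolv : Group.IsSolvable Ω := by
    haveI : Group.IsNilpotent Ω := hΩ.isNilpotent
    infer_instance
  have hform := Cfsg.Agent.Helper5.FrobMod.frobenius_fixed_point_formula U K hUn hfpf' Ω hinv'
    hsolv hcop
  have h1 : Ω ⊓ centralizer ((U ⊔ K : Subgroup G) : Set G) = ⊥ := by
    apply le_antisymm _ bot_le
    rw [← hreg]
    apply inf_le_inf_left
    apply Subgroup.centralizer_le
    exact_mod_cast (le_sup_left : U ≤ U ⊔ K)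
  rw [h1, hreg] at hform
  simp only [Subgroup.card_bot, one_pow, one_mul, mul_one] at hform
  -- `|Ω| = c ^ |K|`
  obtain ⟨a, ha⟩ := IsPGroup.iff_card.mp (hΩ.to_le (inf_le_left : Ω ⊓ centralizer (K : Set G) ≤ Ω))
  rw [ha, ← pow_mul] at hform
  have hΩcard : 1 < Nat.card Ω := (Subgroup.one_lt_card_iff_ne_bot Ω).mpr hΩ1
  have hK3 : 3 ≤ Nat.card K := by
    have h1 : 1 < Nat.card K := (Subgroup.one_lt_card_iff_ne_bot K).mpr hK1
    obtain ⟨m, hm⟩ := hodd
    omega
  have ha1 : 1 ≤ a := by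
    rcases Nat.eq_zero_or_pos a with h0 | h
    · rw [hform, h0, zero_mul, pow_zero] at hΩcard
      exact absurd hΩcard (lt_irrefl 1)
    · exact h
  rw [hform]
  apply Nat.pow_le_pow_right ht.out.pos
  calc 3 ≤ Nat.card K := hK3
    _ = 1 * Nat.card K := (one_mul _).symm
    _ ≤ a * Nat.card K := Nat.mul_le_mul_right _ ha1

open Cfsg.Agent.Helper27.BG15 (St1353 St1360 St1439)
open Cfsg.Agent.Helper14 (cj)

/-- **B&G 15.7 (weak form), `K ≠ 1`, `U ≠ 1`**: no nonidentity element of `F(M)` is conjugated into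
`F(M)` by an element outside `M`. -/
theorem fittingOf_conj_eq_one (hG : Cfsg.IsMinSimpleOddOrder G)
    (h1350 : Cfsg.Agent.H9.BG12.St1350 G) (h1353 : St1353 G) (h1360 : St1360 G) (h1439 : St1439 G)
    {M K U : Subgroup G} (hM : IsCoatom M) (hKU : Cfsg.IsSigmaDecomposition M K U) (hK1 : K ≠ ⊥)
    (hU1 : U ≠ ⊥) {g y : G} (hg : g ∉ M) (hy : y ∈ Cfsg.fittingOf M)
    (hgy : g * y * g⁻¹ ∈ Cfsg.fittingOf M) : y = 1 := by
  by_contra hy1
  set F := Cfsg.fittingOf M with hF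
  have hFM : F ≤ M := Cfsg.Agent.Helper27.BG15.fittingOf_le M
  have hMF : M ≤ normalizer (F : Set G) := Cfsg.Agent.Helper27.BG15.le_normalizer_fittingOf M
  have hFnil : Group.IsNilpotent F := Cfsg.Agent.Helper27.BG15.fittingOf_isNilpotent M
  -- reduce to prime order
  have hord : orderOf y ≠ 1 := fun h => hy1 (orderOf_eq_one_iff.mp h)
  obtain ⟨t, ht, htd⟩ := Nat.exists_prime_and_dvd hord
  haveI : Fact t.Prime := ⟨ht⟩
  set y' := y ^ (orderOf y / t) with hy'
  have hy'ord : orderOf y' = t := orderOf_pow_orderOf_div (orderOf_pos y).ne' htd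
  have hy'1 : y' ≠ 1 := by
    intro h
    rw [h, orderOf_one] at hy'ord
    exact ht.one_lt.ne hy'ord
  have hy'F : y' ∈ F := F.pow_mem hy _
  have hgy'F : g * y' * g⁻¹ ∈ F := by
    have : g * y' * g⁻¹ = (g * y * g⁻¹) ^ (orderOf y / t) := by rw [hy', conj_pow]
    rw [this]; exact F.pow_mem hgy _
  have hgy'ord : orderOf (g * y' * g⁻¹) = t := by
    rw [← hy'ord]
    exact (MulAut.conj g).orderOf_eq y'
  -- `P = O_t(M)`
  set P : Subgroup G := (Cfsg.pCore t ↥M).map M.subtype with hP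
  have hPM : P ≤ M := Subgroup.map_subtype_le _
  have hMP : M ≤ normalizer (P : Set G) :=
    Cfsg.Agent.Helper20.BG15L.le_normalizer_map_subtype_of_normal M (Cfsg.pCore t ↥M)
  have hPt : IsPGroup t P := (Cfsg.Agent.Helper19.pCore_isPGroup (G := ↥M) t).map _
  have hmemP : ∀ z ∈ F, orderOf z = t → z ∈ P := by
    intro z hz hzo
    have hzM : z ∈ M := hFM hz
    haveI hFn : (Cfsg.fittingSubgroup ↥M).Normal := inferInstance
    have hFnil' : Group.IsNilpotent ↥(Cfsg.fittingSubgroup ↥M) :=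
      Cfsg.Agent.Helper7.fittingSubgroup_isNilpotent
    have hzF' : (⟨z, hzM⟩ : ↥M) ∈ Cfsg.fittingSubgroup ↥M := by
      obtain ⟨w, hw, hwz⟩ := hz
      have : w = ⟨z, hzM⟩ := Subtype.ext hwz
      rwa [← this]
    have hAp : IsPGroup t ↥(Subgroup.zpowers (⟨z, hzM⟩ : ↥M)) := by
      apply IsPGroup.of_card (n := 1)
      rw [Nat.card_zpowers, pow_one]
      have : orderOf (⟨z, hzM⟩ : ↥M) = orderOf z := Subgroup.orderOf_mk z hzM
      rw [this, hzo]
    have h1 := Cfsg.Agent.Helper21.BG10.pGroup_le_pCore_of_le_nilpotent_normal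
      (Cfsg.fittingSubgroup ↥M) hFnil' (Subgroup.zpowers (⟨z, hzM⟩ : ↥M)) hAp
      (Subgroup.zpowers_le.mpr hzF')
    exact ⟨⟨z, hzM⟩, h1 (Subgroup.mem_zpowers _), rfl⟩
  have hy'P : y' ∈ P := hmemP y' hy'F hy'ord
  have hgy'P : g * y' * g⁻¹ ∈ P := hmemP _ hgy'F hgy'ord
  have hP1 : P ≠ ⊥ := by
    intro h
    rw [h, Subgroup.mem_bot] at hy'P
    exact hy'1 hy'P
  set X : Subgroup G := Subgroup.zpowers y' with hX
  have hXP : X ≤ P := Subgroup.zpowers_le.mpr hy'P
  have hXM : X ≤ M := hXP.trans hPM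
  have hX1 : X ≠ ⊥ := by
    intro h
    have : y' ∈ (⊥ : Subgroup G) := h ▸ Subgroup.mem_zpowers y'
    exact hy'1 (Subgroup.mem_bot.mp this)
  have hXt : X ≠ ⊤ := fun h => hM.1 (top_le_iff.mp (h ▸ hXM))
  have hXmap : X.map (MulAut.conj g).toMonoidHom = Subgroup.zpowers (g * y' * g⁻¹) := by
    rw [hX, MonoidHom.map_zpowers]
    rfl
  by_cases hσ : t ∈ Cfsg.sigma M
  · -- the `σ`-case
    set Ω := omegaCenter P t with hΩ
    have hΩP : Ω ≤ P := omegaCenter_le P t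
    have hΩM : Ω ≤ M := hΩP.trans hPM
    have hΩ1 : Ω ≠ ⊥ := omegaCenter_ne_bot hPt hP1
    have hΩt : IsPGroup t Ω := hPt.to_le hΩP
    have hPσ : P ≤ Cfsg.sigmaCore M :=
      Cfsg.Agent.H9.BG12.le_sigmaCore_of_isPGroup h1350 hM hσ hPM hPt
    have hMΩ : M ≤ normalizer (Ω : Set G) :=
      hMP.trans (normalizer_le_normalizer_omegaCenter P t)
    have hUM : U ≤ M := hKU.compl.1
    have hKM : K ≤ M := hKU.hall.1
    have hcop : (Nat.card Ω).Coprime (Nat.card ↥(U ⊔ K)) :=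
      (Nat.Coprime.coprime_dvd_right (Subgroup.card_dvd_of_le (hΩP.trans hPσ))
        (Cfsg.Agent.Helper1.BG16C.coprime_sup_sigmaCore hKU h1350 hM)).symm
    -- `C_Ω(U) = 1`
    obtain ⟨U₀, hU₀U, hexp, hreg0⟩ := h1360 M hM K U hKU
    have hU₀1 : U₀ ≠ ⊥ := by
      intro h0
      subst h0
      have h1 : Monoid.exponent ↥(⊥ : Subgroup G) = 1 := Monoid.exp_eq_one_iff.mpr inferInstance
      rw [h1] at hexp
      have h2 : Subsingleton ↥U := Monoid.exp_eq_one_iff.mp hexp.symm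
      exact hU1 (Subgroup.eq_bot_of_subsingleton U)
    obtain ⟨u, hu, hu1⟩ := Cfsg.Agent.Helper20.BG13N.exists_mem_ne_one_of_ne_bot hU₀1
    have hreg : Ω ⊓ centralizer (U : Set G) = ⊥ := by
      rw [eq_bot_iff]
      intro a ha
      rw [Subgroup.mem_inf] at ha
      rw [Subgroup.mem_bot]
      by_contra ha1
      apply hu1
      apply hreg0 u hu
      refine ⟨hUM (hU₀U hu), a, hPσ (hΩP ha.1), ha1, ?_⟩
      exact (Subgroup.mem_centralizer_iff.mp ha.2 u (hU₀U hu))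
    have hodd : Odd (Nat.card K) := Odd.of_dvd_nat hG.1 (Subgroup.card_subgroup_dvd_card K)
    have hcube : t ^ 3 ≤ Nat.card Ω :=
      cube_le_card_of_frobenius hKU.normal (h1353 M hM K U hKU) hK1 hodd hΩt hΩ1
        ((sup_le hUM hKM).trans hMΩ) hcop hreg
    have huniq : Cfsg.InUniqueMaximal Ω :=
      Cfsg.Agent.Lead.BG9.uniq_of_elementary_cube hG (Cfsg.Agent.Lead.BG95.scn3Uniq hG)
        (omegaCenter_elementary P t) hcube
    -- `σ`-control of fusion
    have hXpg : IsPGroup t X := hPt.to_le hXP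
    have hXgM : X.map (MulAut.conj g).toMonoidHom ≤ M := by
      rw [hXmap, Subgroup.zpowers_le]
      exact hFM hgy'F
    obtain ⟨m, hm, c, hc, hgmc⟩ := (Cfsg.Agent.S1404.result hG M hM t hσ X hXpg hX1 hXM).1 g hXgM
    have hcM : c ∉ M := by
      intro h
      apply hg
      rw [hgmc]
      exact M.mul_mem hm h
    obtain ⟨L, hL, hNL⟩ := Cfsg.Agent.Helper21.BG10.exists_coatom_normalizer_le hG.2.1 hX1 hXt
    have hCL : centralizer (X : Set G) ≤ L := (Subgroup.centralizer_le_normalizer _).trans hNL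
    have hΩC : Ω ≤ centralizer (X : Set G) :=
      (omegaCenter_le_centralizer P t).trans (Subgroup.centralizer_le (by exact_mod_cast hXP))
    have hML : M = L := huniq.unique ⟨hM, hΩM⟩ ⟨hL, hΩC.trans hCL⟩
    exact hcM (hML ▸ hCL hc)
  · -- the `σ'`-case: the `t`-part of `F(M)` is cyclic
    obtain ⟨hYc, -, -⟩ := h1439 M hM
    set π' : Set ℕ := {q | q.Prime ∧ q ∉ Cfsg.sigma M} with hπ'
    have hPF : P ≤ F := Cfsg.Agent.Helper27.BG15.le_fittingOf hPM hMP hPt.isNilpotent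
    have hPY : P ≤ Cfsg.piCoreOf π' F := by
      haveI hn : (P.subgroupOf F).Normal :=
        (Subgroup.normal_subgroupOf_iff_le_normalizer hPF).mpr (hFM.trans hMP)
      have hnum : Cfsg.Agent.Helper19.IsPiNum π' (Nat.card ↥(P.subgroupOf F)) := by
        intro q hq hqd
        have hPt' : IsPGroup t ↥(P.subgroupOf F) := hPt.comap_subtype
        obtain ⟨n, hn⟩ := IsPGroup.iff_card.mp hPt'
        rw [hn] at hqd
        have hqt : q = t := (Nat.prime_dvd_prime_iff_eq hq ht).mp (hq.dvd_of_dvd_pow hqd)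
        rw [hqt]
        exact ⟨ht, hσ⟩
      have h1 : P.subgroupOf F ≤ Cfsg.piCore π' ↥F := Cfsg.Agent.Helper19.le_piCore hn hnum
      intro z hz
      exact ⟨⟨z, hPF hz⟩, h1 (Subgroup.mem_subgroupOf.mpr hz), rfl⟩
    have hPc : IsCyclic ↥P :=
      isCyclic_of_injective (Subgroup.inclusion hPY) (Subgroup.inclusion_injective hPY)
    have hX'P : Subgroup.zpowers (g * y' * g⁻¹) ≤ P := Subgroup.zpowers_le.mpr hgy'P
    have hcardeq : Nat.card ↥(Subgroup.zpowers (g * y' * g⁻¹)) = Nat.card ↥X := by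
      rw [hX, Nat.card_zpowers, Nat.card_zpowers, hgy'ord, hy'ord]
    have hXX' : Subgroup.zpowers (g * y' * g⁻¹) = X :=
      Cfsg.Agent.Helper23.eq_of_card_eq_of_isCyclic P hPc _ _ hX'P hXP hcardeq
    have hgN : g ∈ normalizer (X : Set G) :=
      Cfsg.Agent.Helper14.mem_normalizer_iff_map_cj.mpr (hXmap.trans hXX')
    have hMX : M ≤ normalizer (X : Set G) :=
      hMP.trans (Cfsg.Agent.H9.BG12.normalizer_le_normalizer_of_isCyclic hPc hXP)
    have hNX : normalizer (X : Set G) = M :=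
      Cfsg.Agent.Helper27.BG15.normalizer_eq_of_coatom hG hM hX1 hXM hMX
    exact hg (hNX ▸ hgN)

/-- **TI property of `F(M)`** when `K ≠ 1` and `U ≠ 1`. -/
theorem fittingOf_TI_of_ne_bot (hG : Cfsg.IsMinSimpleOddOrder G)
    (h1350 : Cfsg.Agent.H9.BG12.St1350 G) (h1353 : St1353 G) (h1360 : St1360 G) (h1439 : St1439 G)
    {M K U : Subgroup G} (hM : IsCoatom M) (hKU : Cfsg.IsSigmaDecomposition M K U) (hK1 : K ≠ ⊥)
    (hU1 : U ≠ ⊥) : Cfsg.IsTISubset (Cfsg.fittingOf M : Set G) := by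
  intro g hg x hx hgx
  have hgM : g ∉ M := fun h => hg (Cfsg.Agent.Helper27.BG15.le_normalizer_fittingOf M h)
  exact fittingOf_conj_eq_one hG h1350 h1353 h1360 h1439 hM hKU hK1 hU1 hgM hx hgx

/-- the hypothesis `hnonTI` of `Helper10.BG16.s1372_of_weak`, without S1440. -/
theorem nonTI_false (hG : Cfsg.IsMinSimpleOddOrder G)
    (h1350 : Cfsg.Agent.H9.BG12.St1350 G) (h1353 : St1353 G) (h1360 : St1360 G) (h1439 : St1439 G)
    {M K U : Subgroup G} (hM : IsCoatom M) (hKU : Cfsg.IsSigmaDecomposition M K U) (hK1 : K ≠ ⊥)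
    (hU1 : U ≠ ⊥) (g : G) (hg : g ∉ M)
    (hX : Cfsg.fittingOf M ⊓ (Cfsg.fittingOf M).map (MulAut.conj g).toMonoidHom ≠ ⊥) : False := by
  obtain ⟨x, hx, hx1⟩ := Cfsg.Agent.Helper20.BG13N.exists_mem_ne_one_of_ne_bot hX
  rw [Subgroup.mem_inf] at hx
  obtain ⟨y, hy, hyx⟩ := hx.2
  have hyx' : g * y * g⁻¹ = x := hyx
  have h1 := fittingOf_conj_eq_one hG h1350 h1353 h1360 h1439 hM hKU hK1 hU1 hg hy
    (hyx' ▸ hx.1)
  apply hx1
  rw [← hyx', h1]
  group

end Cfsg.Agent.Helper20.BG157
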