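import Mathlib
import Cfsg.Agent.Helper4.Zassenhaus3
import Cfsg.Agent.Helper9.HomCount
import Cfsg.Agent.Helper14.Conj

set_option autoImplicit false
set_option linter.unusedSectionVars false
set_option linter.unusedVariables false
set_option linter.style.haveILetI false

/-! # Extraspecial groups of order `p ^ 3`: a coprime abelian odd-order group acting with
fixed points exactly the centre has order dividing `p - 1` or `p + 1` (part 1: lines) -/

namespace Cfsg.Agent.Helper20.PG3

open Subgroup
open scoped commutatorElement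

variable {G : Type*} [Group G] [Finite G]

/-- decomposition of elements of a join of two elementwise-commuting subgroups -/
theorem mem_sup_of_commute {A B : Subgroup G} (h : ∀ a ∈ A, ∀ b ∈ B, a * b = b * a) {g : G}
    (hg : g ∈ A ⊔ B) : ∃ a ∈ A, ∃ b ∈ B, g = a * b := by
  have hle : A ≤ normalizer (B : Set G) :=
    le_trans (fun a ha => mem_centralizer_iff.mpr (fun b hb => (h a ha b hb).symm))
      (centralizer_le_normalizer _)
  have h1 : g ∈ ((A ⊔ B : Subgroup G) : Set G) := hg
  rw [coe_mul_of_left_le_normalizer_right A B hle, Set.mem_mul] at h1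
  obtain ⟨a, ha, b, hb, rfl⟩ := h1
  exact ⟨a, ha, b, hb, rfl⟩

/-- elements of `zpowers u` are natural powers -/
theorem exists_pow_of_mem_zpowers {u w : G} (hw : w ∈ zpowers u) : ∃ i : ℕ, w = u ^ i := by
  rw [← mem_powers_iff_mem_zpowers] at hw
  obtain ⟨i, hi⟩ := hw
  exact ⟨i, hi.symm⟩

/-- a `p`-subgroup strictly containing a subgroup of order `p` has order at least `p ^ 2` -/
theorem sq_le_card_of_lt {p : ℕ} [Fact p.Prime] {P₀ T : Subgroup G} (hT : IsPGroup p T)
    (hP₀ : Nat.card P₀ = p) (hle : P₀ ≤ T) (hne : P₀ ≠ T) : p ^ 2 ≤ Nat.card T := by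
  have hp : p.Prime := Fact.out
  obtain ⟨j, hj⟩ := IsPGroup.iff_card.mp hT
  have hdvd : p ∣ Nat.card T := hP₀ ▸ Subgroup.card_dvd_of_le hle
  rw [hj]
  have hj1 : j ≠ 0 := by
    rintro rfl
    rw [hj, pow_zero] at hdvd
    exact hp.one_lt.ne' (Nat.dvd_one.mp hdvd)
  have hj2 : j ≠ 1 := by
    rintro rfl
    rw [pow_one] at hj
    exact hne (Subgroup.eq_of_le_of_card_ge hle (by rw [hj, hP₀]))
  exact Nat.pow_le_pow_right hp.pos (by omega)


open Cfsg.Agent.Helper14 (cj mem_map_cj map_cj_one map_cj_mul)

/-- a subgroup acting freely by conjugation on a finite family of subgroups -/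
theorem card_dvd_card_of_free_conj_finset (K : Subgroup G) (T : Finset (Subgroup G))
    (hT : ∀ k ∈ K, ∀ B ∈ T, B.map (cj k) ∈ T)
    (hfree : ∀ k ∈ K, ∀ B ∈ T, B.map (cj k) = B → k = 1) : Nat.card K ∣ T.card := by
  classical
  letI : MulAction K {B // B ∈ T} :=
    { smul := fun y B => ⟨B.1.map (cj (y : G)), hT y y.2 B.1 B.2⟩
      one_smul := fun B => Subtype.ext (map_cj_one B.1)
      mul_smul := fun a b B => Subtype.ext (map_cj_mul B.1 a b).symm }
  have hc : Nat.card {B // B ∈ T} = T.card := by
    rw [Nat.card_eq_fintype_card, Fintype.card_coe]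
  have h := Cfsg.Agent.Helper4.card_dvd_card_mul_of_const_stabilizer (K := K) (X := {B // B ∈ T}) 1
    (by
      intro B
      have : MulAction.stabilizer K B = ⊥ := by
        rw [Subgroup.eq_bot_iff_forall]
        intro k hk
        rw [MulAction.mem_stabilizer_iff] at hk
        have h1 : B.1.map (cj (k : G)) = B.1 := congrArg Subtype.val hk
        exact Subtype.ext (hfree k k.2 B.1 B.2 h1)
      rw [this]
      exact Subgroup.card_bot)
  rwa [mul_one, hc] at h

end Cfsg.Agent.Helper20.PG3
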