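import Mathlib
import Cfsg.Prelude.Def_OddOrderLocal
import Cfsg.Agent.Helper20.PG3a
import Cfsg.Agent.Helper9.NormalElemAb

set_option autoImplicit false
set_option linter.unusedSectionVars false
set_option linter.unusedVariables false
set_option linter.style.haveILetI false

/-! # Generic lemmas for the weak B&G 15.7, case `K ≠ 1`, `U = 1` -/

namespace Cfsg.Agent.Helper20.BG157V

open Subgroup Cfsg
open scoped commutatorElement

variable {G : Type*} [Group G]

/-- two subgroups of `M`, both normalized by `M`, meeting trivially, commute elementwise -/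
theorem commute_of_normal_disjoint {A B M : Subgroup G} (hA : A ≤ M) (hB : B ≤ M)
    (hMA : M ≤ normalizer (A : Set G)) (hMB : M ≤ normalizer (B : Set G)) (hd : A ⊓ B = ⊥) :
    ∀ a ∈ A, ∀ b ∈ B, a * b = b * a := by
  intro a ha b hb
  have h1 : ⁅a, b⁆ ∈ A := by
    have : b * a⁻¹ * b⁻¹ ∈ A := ((mem_normalizer_iff (H := A)).mp (hMA (hB hb)) a⁻¹).mp (A.inv_mem ha)
    have e : ⁅a, b⁆ = a * (b * a⁻¹ * b⁻¹) := by rw [commutatorElement_def]; group
    rw [e]; exact A.mul_mem ha this
  have h2 : ⁅a, b⁆ ∈ B := by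
    have : a * b * a⁻¹ ∈ B := ((mem_normalizer_iff (H := B)).mp (hMB (hA ha)) b).mp hb
    rw [commutatorElement_def]
    exact B.mul_mem this (B.inv_mem hb)
  have h3 : ⁅a, b⁆ ∈ A ⊓ B := ⟨h1, h2⟩
  rw [hd, mem_bot] at h3
  exact commutatorElement_eq_one_iff_mul_comm.mp h3

/-- commutator of products with commuting extra factors -/
theorem commutatorElement_mul_mul {a₁ b₁ c d : G} (hca : Commute c a₁) (hcb : Commute c b₁)
    (hcd : Commute c d) (hda : Commute d a₁) (hdb : Commute d b₁) :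
    ⁅a₁ * c, b₁ * d⁆ = ⁅a₁, b₁⁆ := by
  have h1 : ⁅c, b₁ * d⁆ = 1 :=
    commutatorElement_eq_one_iff_commute.mpr (hcb.mul_right hcd)
  have h2 : ⁅a₁, d⁆ = 1 := commutatorElement_eq_one_iff_commute.mpr hda.symm
  rw [commutatorElement_mul_left_eq_conj_mul, h1, mul_one, mul_inv_cancel, one_mul,
    commutatorElement_mul_right_eq_mul_conj, h2, mul_one, mul_assoc, mul_inv_cancel, mul_one]

variable [Finite G]

/-- a nilpotent subgroup of odd order without elementary abelian subgroups of order `r ^ 2` is cyclic -/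
theorem isCyclic_of_no_elemAb_sq {D : Subgroup G} (hnil : Group.IsNilpotent D) (hodd : Odd (Nat.card D))
    (h : ∀ r : ℕ, r.Prime → ∀ B : Subgroup G, B ≤ D → Cfsg.IsElementaryAbelian r B →
      Nat.card B = r ^ 2 → False) : IsCyclic D := by
  haveI := hnil
  haveI : IsZGroup ↥D := by
    refine ⟨fun r hr R => ?_⟩
    haveI : Fact r.Prime := ⟨hr⟩
    by_contra hnc
    have hr2 : r ≠ 2 := by
      rintro rfl
      have h1 : Nat.card (R : Subgroup ↥D) ∣ Nat.card D := Subgroup.card_subgroup_dvd_card _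
      have h2 : Odd (Nat.card (R : Subgroup ↥D)) := Odd.of_dvd_nat hodd h1
      obtain ⟨n, hn⟩ := IsPGroup.iff_card.mp R.isPGroup'
      rw [hn] at h2
      have hn0 : n = 0 := by
        by_contra hn0
        exact (Nat.not_even_iff_odd.mpr h2) ((Nat.even_pow' hn0).mpr even_two)
      rw [hn0, pow_zero] at hn
      haveI : Subsingleton ↥(R : Subgroup ↥D) := (Nat.card_eq_one_iff_unique.mp hn).1
      exact hnc isCyclic_of_subsingleton
    obtain ⟨B, -, hBe, hBc⟩ :=
      Cfsg.Agent.Helper9.exists_normal_elemAb_sq (R := ↥(R : Subgroup ↥D)) hr2 R.isPGroup' hnc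
    set B' : Subgroup G := (B.map (R : Subgroup ↥D).subtype).map D.subtype with hB'
    have hB'D : B' ≤ D := Subgroup.map_subtype_le _
    have hB'c : Nat.card B' = r ^ 2 := by
      rw [hB', Subgroup.card_map_of_injective D.subtype_injective,
        Subgroup.card_map_of_injective (R : Subgroup ↥D).subtype_injective]
      exact hBc
    refine h r hr B' hB'D ⟨⟨⟨?_⟩⟩, ?_⟩ hB'c
    · rintro ⟨_, _, ⟨a, ha, rfl⟩, rfl⟩ ⟨_, _, ⟨b, hb, rfl⟩, rfl⟩
      apply Subtype.ext
      have := hBe.1.is_comm.comm ⟨a, ha⟩ ⟨b, hb⟩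
      have h2 := congrArg (fun z : ↥B => (((z : ↥(R : Subgroup ↥D)) : ↥D) : G)) this
      simpa using h2
    · rintro _ ⟨_, ⟨a, ha, rfl⟩, rfl⟩
      have := hBe.2 a ha
      have h2 := congrArg (fun z : ↥(R : Subgroup ↥D) => ((z : ↥D) : G)) this
      simpa using h2
  infer_instance

end Cfsg.Agent.Helper20.BG157V
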