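import Mathlib
import Cfsg.Prelude.Def_OddOrderLocal
import Cfsg.Agent.Helper20.BG157Va
import Cfsg.Agent.Helper20.BG157
import Cfsg.Agent.Helper27.BG15C
import Cfsg.Agent.Helper27.BG15H
import Cfsg.Agent.Helper18.FocalFusion
import Cfsg.Agent.Helper19.OmegaOne
import Cfsg.Agent.S1350
import Cfsg.Agent.S1351
import Cfsg.Agent.S1352
import Cfsg.Agent.S1375
import Cfsg.Agent.S1404
import Cfsg.Agent.S1416
import Cfsg.Agent.S1420

set_option autoImplicit false
set_option linter.unusedSectionVars false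
set_option linter.unusedVariables false
set_option linter.style.haveILetI false

/-! # Weak B&G 15.7, case `K ≠ 1`, `U = 1`, `M_F = M_σ` not TI: the local configuration -/

namespace Cfsg.Agent.Helper20.BG157V

open Subgroup Cfsg
open scoped commutatorElement

universe u

variable {G : Type u} [Group G] [Finite G]

/-- the local data: `x ∈ H = M_F` of prime order `t` with `C_G(x) ≤ N ≠ M`, `t ∈ τ₂(N)`, `P` the normal
Sylow `t`-subgroup of `M` -/
structure Loc (M N P : Subgroup G) (t : ℕ) (x : G) : Prop where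
  hM : IsCoatom M
  hN : IsCoatom N
  ht : t.Prime
  hxH : x ∈ Cfsg.fittingHallOf M
  hxo : orderOf x = t
  hxN : centralizer ({x} : Set G) ≤ N
  hcompl : Cfsg.IsComplIn (M ⊓ N) (Cfsg.sigmaCore N) N
  htau : t ∈ Cfsg.tau2 N
  hPH : P ≤ Cfsg.fittingHallOf M
  hMP : M ≤ normalizer (P : Set G)
  hPt : IsPGroup t P
  hPmax : ∀ P' : Subgroup G, P' ≤ M → IsPGroup t P' → P' ≤ P

/-- `M_F` is nilpotent -/
theorem fittingHallOf_isNilpotent (M : Subgroup G) : Group.IsNilpotent ↥(Cfsg.fittingHallOf M) := by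
  haveI := Cfsg.Agent.Helper27.BG15.fittingHall_isNilpotent' ↥M
  exact Group.nilpotent_of_mulEquiv
    ((Cfsg.fittingHall ↥M).equivMapOfInjective M.subtype M.subtype_injective)

/-- from a failure of the TI property to the local data -/
theorem exists_loc (hG : Cfsg.IsMinSimpleOddOrder G) {M : Subgroup G} (hM : IsCoatom M)
    (hFσ : Cfsg.fittingHallOf M = Cfsg.sigmaCore M)
    (hnTI : ¬ Cfsg.IsTISubset (Cfsg.fittingHallOf M : Set G)) :
    ∃ (N P : Subgroup G) (t : ℕ) (x : G), Loc M N P t x := by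
  unfold Cfsg.IsTISubset at hnTI
  push Not at hnTI
  obtain ⟨g, hgN, y, hy, hgy, hy1⟩ := hnTI
  have hgM : g ∉ M := fun h => hgN (Cfsg.Agent.Helper23.le_normalizer_fittingHallOf M h)
  set H := Cfsg.fittingHallOf M with hH
  have hHM : H ≤ M := Cfsg.Agent.Helper23.fittingHallOf_le M
  -- reduce to prime order
  have hord : orderOf y ≠ 1 := fun h => hy1 (orderOf_eq_one_iff.mp h)
  obtain ⟨t, ht, htd⟩ := Nat.exists_prime_and_dvd hord
  haveI : Fact t.Prime := ⟨ht⟩
  set x := y ^ (orderOf y / t) with hx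
  have hxo : orderOf x = t := orderOf_pow_orderOf_div (orderOf_pos y).ne' htd
  have hx1 : x ≠ 1 := by
    intro h
    rw [h, orderOf_one] at hxo
    exact ht.one_lt.ne hxo
  have hxH : x ∈ H := H.pow_mem hy _
  have hgxH : g * x * g⁻¹ ∈ H := by
    have : g * x * g⁻¹ = (g * y * g⁻¹) ^ (orderOf y / t) := by rw [hx, conj_pow]
    rw [this]; exact H.pow_mem hgy _
  have htH : t ∣ Nat.card H := by
    have h1 : orderOf (⟨x, hxH⟩ : ↥H) = orderOf x := Subgroup.orderOf_mk x hxH
    rw [← hxo, ← h1]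
    exact orderOf_dvd_natCard _
  have htσ : t ∈ Cfsg.sigma M := by
    apply Cfsg.Agent.H9.BG12.mem_sigma_of_dvd_card_sigmaCore ht
    rw [← hFσ]; exact htH
  -- `σ`-control of fusion: `C_G(x) ≰ M`
  set X : Subgroup G := zpowers x with hX
  have hXM : X ≤ M := zpowers_le.mpr (hHM hxH)
  have hX1 : X ≠ ⊥ := by
    intro h
    have : x ∈ (⊥ : Subgroup G) := h ▸ mem_zpowers x
    exact hx1 (mem_bot.mp this)
  have hXt : IsPGroup t X := by
    apply IsPGroup.of_card (n := 1)
    rw [Nat.card_zpowers, pow_one, hxo]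
  have hXgM : X.map (MulAut.conj g).toMonoidHom ≤ M := by
    rw [hX, MonoidHom.map_zpowers, zpowers_le]
    exact hHM hgxH
  obtain ⟨m, hm, c, hc, hgmc⟩ := (Cfsg.Agent.S1404.result hG M hM t htσ X hXt hX1 hXM).1 g hXgM
  have hcM : c ∉ M := by
    intro h
    apply hgM
    rw [hgmc]
    exact M.mul_mem hm h
  have hCX : centralizer (X : Set G) = centralizer ({x} : Set G) :=
    Cfsg.Agent.Helper20.BG13N.centralizer_zpowers_eq x
  have hxM : ¬ centralizer ({x} : Set G) ≤ M := fun h => hcM (h (hCX ▸ hc))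
  have hxσ : x ∈ Cfsg.sigmaCore M := hFσ ▸ hxH
  obtain ⟨N, hN, hxN, -, -, hcomplN, -, htau⟩ :=
    Cfsg.Agent.Helper27.BG15.exists_N_tau2 hG (fun M hM => Cfsg.Agent.S1350.result hG M hM)
      (fun M hM => Cfsg.Agent.S1351.result hG M hM)
      (fun M hM K hKc hK => Cfsg.Agent.S1352.result hG M hM K hKc hK)
      (fun M hM x hx hx1 hxM => Cfsg.Agent.S1375.result hG M hM x hx hx1 hxM) hM hxσ hx1 hxM
  obtain ⟨P, hPH, hMP, hPt, -, hPmax⟩ :=
    Cfsg.Agent.Helper27.BG15.exists_normal_sylow_of_dvd_card_fittingHallOf M t htH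
  exact ⟨N, P, t, x, ⟨hM, hN, ht, hxH, hxo, hxN, hcomplN, htau t ht (hxo ▸ dvd_refl _), hPH, hMP, hPt,
    hPmax⟩⟩

end Cfsg.Agent.Helper20.BG157V
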