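import Mathlib
import Cfsg.Agent.Helper20.PG3a
import Cfsg.Agent.Helper9.Class2
import Cfsg.Agent.Lead.PiHall

set_option autoImplicit false
set_option linter.unusedSectionVars false
set_option linter.unusedVariables false
set_option linter.style.haveILetI false

/-! # Extraspecial groups of order `p ^ 3` (part 2): the lines `C_V(u)` and the invariant-line lemma -/

namespace Cfsg.Agent.Helper20.PG3

open Subgroup
open scoped commutatorElement

variable {G : Type*} [Group G] [Finite G]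

/-- the configuration: `V` nonabelian of order `p ^ 3` and exponent `p` with centre `P₀`, acted on by
the abelian odd-order `p'`-group `K` with `C_V(k) = P₀` for all `k ≠ 1` -/
structure X3 (V P₀ K : Subgroup G) (p : ℕ) : Prop where
  hV : Nat.card V = p ^ 3
  hP₀V : P₀ ≤ V
  hP₀ : Nat.card P₀ = p
  hcomm : ∀ a ∈ V, ∀ b ∈ V, ⁅a, b⁆ ∈ P₀
  hcent : ∀ z ∈ P₀, ∀ a ∈ V, z * a = a * z
  hZ : ∀ a ∈ V, (∀ b ∈ V, a * b = b * a) → a ∈ P₀
  hexp : ∀ a ∈ V, a ^ p = 1
  hKV : ∀ k ∈ K, ∀ a ∈ V, k * a * k⁻¹ ∈ V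
  hKP₀ : ∀ k ∈ K, ∀ z ∈ P₀, k * z = z * k
  hfix : ∀ k ∈ K, k ≠ 1 → ∀ a ∈ V, k * a = a * k → a ∈ P₀
  hKab : ∀ a ∈ K, ∀ b ∈ K, a * b = b * a
  hKodd : Odd (Nat.card K)
  hcop : (Nat.card K).Coprime p

/-- the line through `u`: `C_V(u)` -/
def line (V : Subgroup G) (u : G) : Subgroup G := V ⊓ centralizer ({u} : Set G)

theorem mem_line {V : Subgroup G} {u w : G} : w ∈ line V u ↔ w ∈ V ∧ w * u = u * w := by
  unfold line
  rw [mem_inf, mem_centralizer_iff]
  constructor
  · rintro ⟨h1, h2⟩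
    exact ⟨h1, (h2 u rfl).symm⟩
  · rintro ⟨h1, h2⟩
    refine ⟨h1, ?_⟩
    intro h hh
    rw [Set.mem_singleton_iff] at hh
    subst hh
    exact h2.symm

theorem line_le (V : Subgroup G) (u : G) : line V u ≤ V := inf_le_left

theorem centralizer_zpowers_eq' (x : G) :
    centralizer ((zpowers x : Subgroup G) : Set G) = centralizer ({x} : Set G) := by
  rw [Subgroup.zpowers_eq_closure, Subgroup.centralizer_closure]

namespace X3

variable {V P₀ K : Subgroup G} {p : ℕ} [hp : Fact p.Prime]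

theorem isPGroup (h : X3 V P₀ K p) : IsPGroup p V := IsPGroup.of_card h.hV

theorem self_mem_line (h : X3 V P₀ K p) {u : G} (hu : u ∈ V) : u ∈ line V u :=
  mem_line.mpr ⟨hu, rfl⟩

theorem P₀_le_line (h : X3 V P₀ K p) {u : G} (hu : u ∈ V) : P₀ ≤ line V u :=
  fun z hz => mem_line.mpr ⟨h.hP₀V hz, h.hcent z hz u hu⟩

theorem card_line (h : X3 V P₀ K p) {u : G} (hu : u ∈ V) (hu0 : u ∉ P₀) :
    Nat.card (line V u) = p ^ 2 := by
  have hpp : p.Prime := hp.out
  have hVc : V ≤ centralizer (P₀ : Set G) :=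
    fun a ha => mem_centralizer_iff.mpr (fun z hz => h.hcent z hz a ha)
  have huV : zpowers u ≤ V := zpowers_le.mpr hu
  have h1 := Cfsg.Agent.Helper9.relIndex_centralizer_le P₀ V (zpowers u) h.hP₀ hVc
    (huV.trans hVc) (fun a ha b hb => h.hcomm a ha b (huV hb))
  have h2 : (centralizer (V : Set G)).relIndex (zpowers u) ≤ p := by
    apply Nat.le_of_dvd hpp.pos
    refine dvd_trans (relIndex_dvd_card _ _) ?_
    rw [Nat.card_zpowers]
    exact orderOf_dvd_of_pow_eq_one (h.hexp u hu)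
  rw [centralizer_zpowers_eq'] at h1
  have h3 : (line V u).relIndex V = (centralizer ({u} : Set G)).relIndex V := by
    unfold line
    rw [inf_comm, inf_relIndex_right]
  have h4 := Cfsg.Agent.Lead.relIndex_mul_card' (line_le V u)
  rw [h3, h.hV] at h4
  obtain ⟨j, hj⟩ := IsPGroup.iff_card.mp (h.isPGroup.to_le (line_le V u))
  rw [hj] at h4 ⊢
  have hidx : (centralizer ({u} : Set G)).relIndex V ≤ p := h1.trans h2
  have hj2 : 2 ≤ j := by
    have h5 : p ^ 3 ≤ p ^ (j + 1) := by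
      calc p ^ 3 = (centralizer ({u} : Set G)).relIndex V * p ^ j := h4.symm
        _ ≤ p * p ^ j := Nat.mul_le_mul_right _ hidx
        _ = p ^ (j + 1) := by rw [pow_succ, mul_comm]
    have := (Nat.pow_le_pow_iff_right hpp.one_lt).mp h5
    omega
  have hj3 : j ≠ 3 := by
    rintro rfl
    have heq : line V u = V := Subgroup.eq_of_le_of_card_ge (line_le V u) (by rw [hj, h.hV])
    apply hu0
    apply h.hZ u hu
    intro b hb
    have : b ∈ line V u := by rw [heq]; exact hb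
    exact (mem_line.mp this).2.symm
  have hj4 : j ≤ 3 := by
    have h5 : p ^ j ∣ p ^ 3 := Dvd.intro_left _ h4
    exact (Nat.pow_dvd_pow_iff_le_right hpp.one_lt).mp h5
  have : j = 2 := by omega
  rw [this]

theorem line_comm (h : X3 V P₀ K p) {u : G} (hu : u ∈ V) (hu0 : u ∉ P₀) :
    ∀ a ∈ line V u, ∀ b ∈ line V u, a * b = b * a := by
  intro a ha b hb
  have := (IsPGroup.isMulCommutative_of_card_eq_prime_sq (h.card_line hu hu0)).is_comm.comm
    (⟨a, ha⟩ : ↥(line V u)) ⟨b, hb⟩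
  exact congrArg Subtype.val this

/-- elements of the line through `u` -/
theorem exists_of_mem_line (h : X3 V P₀ K p) {u : G} (hu : u ∈ V) (hu0 : u ∉ P₀) {w : G}
    (hw : w ∈ line V u) : ∃ i : ℕ, ∃ z ∈ P₀, w = u ^ i * z := by
  have hT : zpowers u ⊔ P₀ ≤ line V u :=
    sup_le (zpowers_le.mpr (h.self_mem_line hu)) (h.P₀_le_line hu)
  have hTp : IsPGroup p ↥(zpowers u ⊔ P₀ : Subgroup G) := h.isPGroup.to_le (hT.trans (line_le V u))
  have hne : P₀ ≠ zpowers u ⊔ P₀ := by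
    intro heq
    apply hu0
    rw [heq]
    exact (le_sup_left : zpowers u ≤ _) (mem_zpowers u)
  have hc := sq_le_card_of_lt hTp h.hP₀ le_sup_right hne
  have heq : zpowers u ⊔ P₀ = line V u :=
    Subgroup.eq_of_le_of_card_ge hT (by rw [h.card_line hu hu0]; exact hc)
  rw [← heq] at hw
  obtain ⟨a, ha, z, hz, rfl⟩ := mem_sup_of_commute
    (fun a ha z hz => (h.hcent z hz a (zpowers_le.mpr hu ha)).symm) hw
  obtain ⟨i, rfl⟩ := exists_pow_of_mem_zpowers ha
  exact ⟨i, z, hz, rfl⟩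


theorem class_two (h : X3 V P₀ K p) : commutator ↥V ≤ center ↥V := by
  rw [commutator_def, Subgroup.commutator_le]
  intro a _ b _
  rw [Subgroup.mem_center_iff]
  intro g
  apply Subtype.ext
  have hc : ((⁅a, b⁆ : ↥V) : G) = ⁅(a : G), (b : G)⁆ := map_commutatorElement V.subtype a b
  rw [Subgroup.coe_mul, Subgroup.coe_mul, hc]
  exact (h.hcent _ (h.hcomm a a.2 b b.2) g g.2).symm

theorem comm_pow (h : X3 V P₀ K p) {u w : G} (hu : u ∈ V) (hw : w ∈ V) (a b : ℕ) :
    ⁅u ^ a, w ^ b⁆ = ⁅u, w⁆ ^ (a * b) := by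
  have h1 := Cfsg.Agent.Helper9.commutatorElement_pow_left h.class_two
    (⟨u, hu⟩ : ↥V) (⟨w, hw⟩ ^ b) a
  have h2 := Cfsg.Agent.Helper9.commutatorElement_pow_right h.class_two
    (⟨u, hu⟩ : ↥V) ⟨w, hw⟩ b
  rw [h2, ← pow_mul] at h1
  have h3 := congrArg (V.subtype) h1
  rw [map_commutatorElement, map_pow, map_pow, map_pow, map_commutatorElement] at h3
  simpa [mul_comm] using h3

theorem comm_mul_left (h : X3 V P₀ K p) {x c z : G} (hc : c ∈ V) (hz : z ∈ P₀) :
    ⁅x * z, c⁆ = ⁅x, c⁆ := by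
  rw [commutatorElement_mul_left_eq_conj_mul,
    commutatorElement_eq_one_iff_mul_comm.mpr (h.hcent z hz c hc), mul_one, mul_inv_cancel, one_mul]

theorem comm_mul_right (h : X3 V P₀ K p) {x c z : G} (hx : x ∈ V) (hz : z ∈ P₀) :
    ⁅x, c * z⁆ = ⁅x, c⁆ := by
  rw [commutatorElement_mul_right_eq_mul_conj,
    commutatorElement_eq_one_iff_mul_comm.mpr (h.hcent z hz x hx).symm, mul_one, mul_assoc,
    mul_inv_cancel, mul_one]

theorem orderOf_eq (h : X3 V P₀ K p) {u : G} (hu : u ∈ V) (hu1 : u ≠ 1) : orderOf u = p :=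
  orderOf_eq_prime (h.hexp u hu) hu1

/-- **invariant line lemma**: if some `k' ≠ 1` in `K` maps `u` into its own line, then all of `K`
normalizes the line through `u` -/
theorem line_invariant (h : X3 V P₀ K p) {u : G} (hu : u ∈ V) (hu0 : u ∉ P₀) {k' : G}
    (hk' : k' ∈ K) (hk'1 : k' ≠ 1) (hinv : k' * u * k'⁻¹ ∈ line V u) :
    ∀ k ∈ K, ∀ w ∈ line V u, k * w * k⁻¹ ∈ line V u := by
  have hpp : p.Prime := hp.out
  have hu1 : u ≠ 1 := fun h1 => hu0 (h1 ▸ P₀.one_mem)
  have huo : orderOf u = p := h.orderOf_eq hu hu1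
  obtain ⟨a, z₁, hz₁, ha⟩ := h.exists_of_mem_line hu hu0 hinv
  have hz₁V : z₁ ∈ V := h.hP₀V hz₁
  -- conjugation by `k'` fixes `P₀` pointwise
  have hk'z : ∀ z ∈ P₀, k' * z * k'⁻¹ = z := by
    intro z hz
    rw [h.hKP₀ k' hk' z hz, mul_inv_cancel_right]
  have hmo : (orderOf k').Coprime p :=
    Nat.Coprime.coprime_dvd_left (Subgroup.orderOf_dvd_natCard K hk') h.hcop
  -- the eigen-set
  have hE1 : ∀ w ∈ line V u, ∃ z ∈ P₀, k' * w * k'⁻¹ = w ^ a * z := by
    intro w hw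
    obtain ⟨i, z, hz, rfl⟩ := h.exists_of_mem_line hu hu0 hw
    have hzV : z ∈ V := h.hP₀V hz
    have hcuz : Commute (u ^ i) z := ((h.hcent z hz _ (V.pow_mem hu i)).symm : u ^ i * z = z * u ^ i)
    have hcuz₁ : Commute (u ^ a) z₁ := ((h.hcent z₁ hz₁ _ (V.pow_mem hu a)).symm : _ = _)
    refine ⟨(z ^ a)⁻¹ * (z₁ ^ i * z), P₀.mul_mem (P₀.inv_mem (P₀.pow_mem hz a))
      (P₀.mul_mem (P₀.pow_mem hz₁ i) hz), ?_⟩
    have e1 : k' * (u ^ i * z) * k'⁻¹ = (k' * u * k'⁻¹) ^ i * (k' * z * k'⁻¹) := by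
      rw [conj_pow]; group
    rw [e1, ha, hk'z z hz, hcuz₁.mul_pow, hcuz.mul_pow, ← pow_mul, ← pow_mul, mul_comm a i]
    group
  have hE2 : ∀ w ∈ V, (∃ z ∈ P₀, k' * w * k'⁻¹ = w ^ a * z) → w ∈ line V u := by
    intro w hw ⟨z, hz, hwz⟩
    by_contra hnot
    have hne : w * u ≠ u * w := fun hc => hnot (mem_line.mpr ⟨hw, hc⟩)
    set c : G := ⁅u, w⁆ with hc
    have hcP : c ∈ P₀ := h.hcomm u hu w hw
    have hc1 : c ≠ 1 := by
      intro h1
      exact hne (commutatorElement_eq_one_iff_mul_comm.mp h1).symm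
    have hco : orderOf c = p := h.orderOf_eq (h.hP₀V hcP) hc1
    have e1 : k' * c * k'⁻¹ = c ^ (a * a) := by
      rw [hc, conjugate_commutatorElement, ha, hwz, h.comm_mul_left (V.mul_mem (V.pow_mem hw a) (h.hP₀V hz)) hz₁,
        h.comm_mul_right (V.pow_mem hu a) hz, h.comm_pow hu hw]
    rw [hk'z c hcP] at e1
    have e2 : c ^ 1 = c ^ (a * a) := by rw [pow_one]; exact e1
    rw [pow_eq_pow_iff_modEq, hco] at e2
    have e3 : ((a : ZMod p)) * (a : ZMod p) = 1 := by
      have := (ZMod.natCast_eq_natCast_iff _ _ _).mpr e2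
      push_cast at this
      exact this.symm
    rcases mul_self_eq_one_iff.mp e3 with e4 | e4
    · -- `a ≡ 1`: `k'` centralizes `u` modulo `P₀`, hence centralizes `u`
      have e5 : a ≡ 1 [MOD p] := by
        rw [← ZMod.natCast_eq_natCast_iff]; push_cast; exact e4
      have e6 : u ^ a = u := by
        have : u ^ a = u ^ 1 := by rw [pow_eq_pow_iff_modEq, huo]; exact e5
        rwa [pow_one] at this
      rw [e6] at ha
      have e7 : ∀ j : ℕ, k' ^ j * u * (k' ^ j)⁻¹ = u * z₁ ^ j := by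
        intro j
        induction j with
        | zero => simp
        | succ j ih =>
          have : k' ^ (j + 1) * u * (k' ^ (j + 1))⁻¹ = k' * (k' ^ j * u * (k' ^ j)⁻¹) * k'⁻¹ := by
            rw [pow_succ']; group
          rw [this, ih]
          have : k' * (u * z₁ ^ j) * k'⁻¹ = (k' * u * k'⁻¹) * (k' * z₁ * k'⁻¹) ^ j := by
            rw [conj_pow]; group
          rw [this, ha, hk'z z₁ hz₁, mul_assoc, ← pow_succ']
      have e8 := e7 (orderOf k')
      rw [pow_orderOf_eq_one, one_mul, inv_one, mul_one] at e8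
      have e9 : z₁ ^ orderOf k' = 1 := by
        have := congrArg (fun t => u⁻¹ * t) e8
        simpa using this.symm
      have e10 : z₁ = 1 := by
        have h1 : orderOf z₁ ∣ orderOf k' := orderOf_dvd_of_pow_eq_one e9
        have h2 : orderOf z₁ ∣ p := orderOf_dvd_of_pow_eq_one (h.hexp z₁ hz₁V)
        have h3 : orderOf z₁ ∣ 1 := by
          have := Nat.dvd_gcd h1 h2
          rwa [hmo] at this
        exact orderOf_eq_one_iff.mp (Nat.dvd_one.mp h3)
      rw [e10, mul_one] at ha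
      apply hu0
      exact h.hfix k' hk' hk'1 u hu (mul_inv_eq_iff_eq_mul.mp ha)
    · -- `a ≡ -1`: `k'^2` centralizes `u`
      have e5 : u ^ a * u = 1 := by
        rw [← pow_succ]
        apply orderOf_dvd_iff_pow_eq_one.mp
        rw [huo, ← ZMod.natCast_eq_zero_iff]
        push_cast
        rw [e4]; ring
      have e6 : u ^ a = u⁻¹ := eq_inv_of_mul_eq_one_left e5
      rw [e6] at ha
      have hcz : z₁ * u = u * z₁ := h.hcent z₁ hz₁ u hu
      have e7 : (k' * k') * u * (k' * k')⁻¹ = u := by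
        have : (k' * k') * u * (k' * k')⁻¹ = k' * (k' * u * k'⁻¹) * k'⁻¹ := by group
        rw [this, ha]
        have : k' * (u⁻¹ * z₁) * k'⁻¹ = (k' * u * k'⁻¹)⁻¹ * (k' * z₁ * k'⁻¹) := by group
        rw [this, ha, hk'z z₁ hz₁, mul_inv_rev, inv_inv, mul_assoc, ← hcz, ← mul_assoc,
          inv_mul_cancel, one_mul]
      have hkk1 : k' * k' ≠ 1 := by
        intro h1
        have h2 : orderOf k' ∣ 2 := orderOf_dvd_of_pow_eq_one (by rw [pow_two]; exact h1)
        have h3 : Odd (orderOf k') :=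
          Odd.of_dvd_nat h.hKodd (Subgroup.orderOf_dvd_natCard K hk')
        have h4 : orderOf k' = 1 := by
          rcases (Nat.dvd_prime Nat.prime_two).mp h2 with h5 | h5
          · exact h5
          · rw [h5] at h3; exact absurd h3 (by decide)
        exact hk'1 (orderOf_eq_one_iff.mp h4)
      apply hu0
      exact h.hfix (k' * k') (K.mul_mem hk' hk') hkk1 u hu (mul_inv_eq_iff_eq_mul.mp e7)
  intro k hk w hw
  obtain ⟨z, hz, hwz⟩ := hE1 w hw
  have hwV : w ∈ V := line_le V u hw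
  apply hE2 (k * w * k⁻¹) (h.hKV k hk w hwV)
  refine ⟨z, hz, ?_⟩
  have hkk : k' * k = k * k' := h.hKab k' hk' k hk
  have e1 : k' * (k * w * k⁻¹) * k'⁻¹ = k * (k' * w * k'⁻¹) * k⁻¹ := by
    have : k' * (k * w * k⁻¹) * k'⁻¹ = (k' * k) * w * (k' * k)⁻¹ := by group
    rw [this, hkk]; group
  rw [e1, hwz]
  have e2 : k * (w ^ a * z) * k⁻¹ = (k * w * k⁻¹) ^ a * (k * z * k⁻¹) := by
    rw [conj_pow]; group
  rw [e2, h.hKP₀ k hk z hz, mul_inv_cancel_right]

end X3

end Cfsg.Agent.Helper20.PG3
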