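import Mathlib
import Cfsg.Agent.Helper20.PG3b

set_option autoImplicit false
set_option linter.unusedSectionVars false
set_option linter.unusedVariables false
set_option linter.style.haveILetI false

/-! # Extraspecial groups of order `p ^ 3` (part 3): counting lines; `|K|` divides `p - 1` or `p + 1` -/

namespace Cfsg.Agent.Helper20.PG3

open Subgroup
open scoped commutatorElement
open Cfsg.Agent.Helper14 (cj mem_map_cj)

variable {G : Type*} [Group G] [Finite G]

theorem ncard_sdiff_subgroup {A B : Subgroup G} (h : A ≤ B) :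
    ((B : Set G) \ (A : Set G)).ncard = Nat.card B - Nat.card A := by
  rw [Set.ncard_sdiff' (show (A : Set G) ⊆ (B : Set G) from h) (Set.toFinite _)]
  rfl

namespace X3

variable {V P₀ K : Subgroup G} {p : ℕ} [hp : Fact p.Prime]

theorem map_cj_line (h : X3 V P₀ K p) {k : G} (hk : k ∈ K) (u : G) :
    (line V u).map (cj k) = line V (k * u * k⁻¹) := by
  ext w
  rw [mem_map_cj, mem_line, mem_line]
  constructor
  · rintro ⟨h1, h2⟩
    constructor
    · have := h.hKV k hk _ h1
      have e : k * (k⁻¹ * w * k) * k⁻¹ = w := by group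
      rwa [e] at this
    · have e1 : w = k * (k⁻¹ * w * k) * k⁻¹ := by group
      rw [e1]
      have : k * (k⁻¹ * w * k) * k⁻¹ * (k * u * k⁻¹) = k * ((k⁻¹ * w * k) * u) * k⁻¹ := by group
      rw [this, h2]; group
  · rintro ⟨h1, h2⟩
    constructor
    · have := h.hKV k⁻¹ (K.inv_mem hk) _ h1
      rwa [inv_inv] at this
    · have : k⁻¹ * w * k * u = k⁻¹ * (w * (k * u * k⁻¹)) * k := by group
      rw [this, h2]; group

theorem conj_not_mem (h : X3 V P₀ K p) {k : G} (hk : k ∈ K) {w : G} (hw : w ∉ P₀) :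
    k * w * k⁻¹ ∉ P₀ := by
  intro hz
  apply hw
  have e := h.hKP₀ k⁻¹ (K.inv_mem hk) _ hz
  have : w = k⁻¹ * (k * w * k⁻¹) * k⁻¹⁻¹ := by group
  rw [this, e, mul_inv_cancel_right]
  exact hz

/-- the number of lines is `p + 1` -/
theorem card_lines (h : X3 V P₀ K p) [Fintype G] [DecidableEq (Subgroup G)]
    [DecidablePred (fun u : G => u ∈ V ∧ u ∉ P₀)] :
    ((Finset.univ.filter (fun u : G => u ∈ V ∧ u ∉ P₀)).image (line V)).card = p + 1 := by
  classical
  have hpp : p.Prime := hp.out
  set s : Finset G := Finset.univ.filter (fun u : G => u ∈ V ∧ u ∉ P₀) with hs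
  set t : Finset (Subgroup G) := s.image (line V) with ht
  have hs_mem : ∀ u, u ∈ s ↔ u ∈ V ∧ u ∉ P₀ := by
    intro u; rw [hs, Finset.mem_filter]; simp
  have hscard : s.card = p ^ 3 - p := by
    rw [← Set.ncard_coe_finset]
    have : (↑s : Set G) = (V : Set G) \ (P₀ : Set G) := by
      ext u
      rw [Finset.mem_coe, hs_mem, Set.mem_sdiff]; rfl
    rw [this, ncard_sdiff_subgroup h.hP₀V, h.hV, h.hP₀]
  have hfib : ∀ L ∈ t, (s.filter (fun u => line V u = L)).card = p ^ 2 - p := by
    intro L hL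
    obtain ⟨u₀, hu₀s, rfl⟩ := Finset.mem_image.mp hL
    obtain ⟨hu₀, hu₀0⟩ := (hs_mem u₀).mp hu₀s
    rw [← Set.ncard_coe_finset]
    have : (↑(s.filter (fun u => line V u = line V u₀)) : Set G)
        = ((line V u₀ : Subgroup G) : Set G) \ (P₀ : Set G) := by
      ext w
      rw [Finset.mem_coe, Finset.mem_filter, hs_mem, Set.mem_sdiff]
      constructor
      · rintro ⟨⟨hw, hw0⟩, heq⟩
        refine ⟨?_, hw0⟩
        rw [← heq]
        exact h.self_mem_line hw
      · rintro ⟨hw, hw0⟩
        have hwV : w ∈ V := line_le V u₀ hw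
        refine ⟨⟨hwV, hw0⟩, ?_⟩
        symm
        apply Subgroup.eq_of_le_of_card_ge
        · intro a ha
          exact mem_line.mpr ⟨line_le V u₀ ha, h.line_comm hu₀ hu₀0 a ha w hw⟩
        · rw [h.card_line hu₀ hu₀0, h.card_line hwV hw0]
    rw [this, ncard_sdiff_subgroup (h.P₀_le_line hu₀), h.card_line hu₀ hu₀0, h.hP₀]
  have hsum := Finset.card_eq_sum_card_fiberwise (f := line V) (s := s) (t := t)
    (fun u hu => Finset.mem_image_of_mem _ hu)
  rw [Finset.sum_const_nat hfib, hscard] at hsum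
  have hle : p ≤ p ^ 2 := by
    calc p = p ^ 1 := (pow_one p).symm
      _ ≤ p ^ 2 := Nat.pow_le_pow_right hpp.pos (by norm_num)
  obtain ⟨q, hq⟩ : ∃ q, q = p ^ 2 - p := ⟨_, rfl⟩
  have hq' : q + p = p ^ 2 := by rw [hq]; exact Nat.sub_add_cancel hle
  have h3 : p ^ 3 = (p + 1) * q + p := by
    calc p ^ 3 = p * p ^ 2 := by ring
      _ = p * (q + p) := by rw [hq']
      _ = p * q + p ^ 2 := by ring
      _ = p * q + (q + p) := by rw [hq']
      _ = (p + 1) * q + p := by ring
  rw [← hq, h3, Nat.add_sub_cancel] at hsum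
  have hqpos : 0 < q := by
    have : p ^ 1 < p ^ 2 := Nat.pow_lt_pow_right hpp.one_lt (by norm_num)
    rw [pow_one] at this
    omega
  exact (Nat.eq_of_mul_eq_mul_right hqpos hsum).symm

/-- **main result for the extraspecial case**: `|K|` divides `p - 1` or `p + 1` -/
theorem card_dvd (h : X3 V P₀ K p) : Nat.card K ∣ p - 1 ∨ Nat.card K ∣ p + 1 := by
  classical
  have hpp : p.Prime := hp.out
  by_cases hex : ∃ k' ∈ K, k' ≠ 1 ∧ ∃ u ∈ V, u ∉ P₀ ∧ k' * u * k'⁻¹ ∈ line V u
  · left
    obtain ⟨k', hk', hk'1, u, hu, hu0, hinv⟩ := hex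
    have hL := h.line_invariant hu hu0 hk' hk'1 hinv
    have hd := Cfsg.Agent.Helper4.card_dvd_ncard_of_free_conj K
      (((line V u : Subgroup G) : Set G) \ (P₀ : Set G))
      (by
        rintro k hk w ⟨hw, hw0⟩
        exact ⟨hL k hk w hw, h.conj_not_mem hk hw0⟩)
      (by
        rintro k hk w ⟨hw, hw0⟩ hfix
        by_contra hk1
        exact hw0 (h.hfix k hk hk1 w (line_le V u hw) (mul_inv_eq_iff_eq_mul.mp hfix)))
    rw [ncard_sdiff_subgroup (h.P₀_le_line hu), h.card_line hu hu0, h.hP₀] at hd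
    have e : p ^ 2 - p = p * (p - 1) := by
      rw [Nat.mul_sub, mul_one, pow_two]
    rw [e] at hd
    exact h.hcop.dvd_of_dvd_mul_left hd
  · right
    push Not at hex
    haveI : Fintype G := Fintype.ofFinite G
    have hc := h.card_lines
    rw [← hc]
    apply card_dvd_card_of_free_conj_finset
    · intro k hk B hB
      obtain ⟨u, hus, rfl⟩ := Finset.mem_image.mp hB
      rw [Finset.mem_filter] at hus
      rw [h.map_cj_line hk]
      apply Finset.mem_image_of_mem
      rw [Finset.mem_filter]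
      exact ⟨Finset.mem_univ _, h.hKV k hk u hus.2.1, h.conj_not_mem hk hus.2.2⟩
    · intro k hk B hB hfix
      obtain ⟨u, hus, rfl⟩ := Finset.mem_image.mp hB
      rw [Finset.mem_filter] at hus
      by_contra hk1
      apply hex k hk hk1 u hus.2.1 hus.2.2
      rw [← hfix, mem_map_cj]
      have e : k⁻¹ * (k * u * k⁻¹) * k = u := by group
      rw [e]
      exact h.self_mem_line hus.2.1

end X3

end Cfsg.Agent.Helper20.PG3
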