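import Mathlib
import Cfsg.Agent.Helper20.PG3c
import Cfsg.Agent.Helper9.Extraspecial
import Cfsg.Agent.Helper9.NormalElemAb
import Cfsg.Agent.Helper23.OmegaOne
import Cfsg.Agent.Helper18.BG12h
import Cfsg.Agent.S1453

set_option autoImplicit false
set_option linter.unusedSectionVars false
set_option linter.unusedVariables false
set_option linter.style.haveILetI false

/-! # A `p`-group `P` with an element `x` of order `p` whose centralizer is abelian of rank two,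
acted on by an abelian odd-order `p'`-group `K` with `C_P(k) = P₀` of order `p` central:
`|K|` divides `p - 1`, or `|P| = p ^ 3` and `|K|` divides `p + 1`. -/

namespace Cfsg.Agent.Helper20.PG3

open Subgroup
open scoped commutatorElement

variable {G : Type*} [Group G] [Finite G]

/-- the configuration -/
structure PCfg (P P₀ K : Subgroup G) (p : ℕ) (x : G) : Prop where
  hP : IsPGroup p P
  hp2 : p ≠ 2
  hKP : ∀ k ∈ K, ∀ a ∈ P, k * a * k⁻¹ ∈ P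
  hcop : (Nat.card K).Coprime p
  hKodd : Odd (Nat.card K)
  hKab : ∀ a ∈ K, ∀ b ∈ K, a * b = b * a
  hP₀P : P₀ ≤ P
  hP₀ : Nat.card P₀ = p
  hP₀Z : ∀ z ∈ P₀, ∀ a ∈ P, z * a = a * z
  hKP₀ : ∀ k ∈ K, ∀ z ∈ P₀, k * z = z * k
  hfix : ∀ k ∈ K, k ≠ 1 → ∀ a ∈ P, k * a = a * k → a ∈ P₀
  hx : x ∈ P
  hxo : orderOf x = p
  hxZ : ∃ y ∈ P, x * y ≠ y * x
  hCab : ∀ a ∈ P, ∀ b ∈ P, a * x = x * a → b * x = x * b → a * b = b * a
  hΩ : ∀ a ∈ P, a * x = x * a → a ^ p = 1 → ∃ i : ℕ, ∃ z ∈ P₀, a = x ^ i * z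

namespace PCfg

variable {P P₀ K : Subgroup G} {p : ℕ} [hp : Fact p.Prime] {x : G}

theorem conj_P₀ (h : PCfg P P₀ K p x) {a z : G} (ha : a ∈ P) (hz : z ∈ P₀) : a * z * a⁻¹ = z := by
  rw [← h.hP₀Z z hz a ha, mul_inv_cancel_right]

theorem conj_P₀' (h : PCfg P P₀ K p x) {a z : G} (ha : a ∈ P) (hz : z ∈ P₀) : a⁻¹ * z * a = z := by
  have := h.conj_P₀ (P.inv_mem ha) hz
  rwa [inv_inv] at this

theorem pow_P₀ (h : PCfg P P₀ K p x) {z : G} (hz : z ∈ P₀) : z ^ p = 1 := by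
  have := pow_card_eq_one' (G := ↥P₀) (x := ⟨z, hz⟩)
  rw [h.hP₀] at this
  exact congrArg Subtype.val this

/-- `Ω₁(Z(P)) ≤ P₀` -/
theorem omega_center (h : PCfg P P₀ K p x) {z : G} (hz : z ∈ P) (hzc : ∀ a ∈ P, z * a = a * z)
    (hzp : z ^ p = 1) : z ∈ P₀ := by
  have hpp : p.Prime := hp.out
  obtain ⟨i, z₀, hz₀, rfl⟩ := h.hΩ z hz (hzc x h.hx) hzp
  by_cases hxi : x ^ i = 1
  · rw [hxi, one_mul]; exact hz₀
  · exfalso
    have hcop : i.Coprime (orderOf x) := by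
      rw [h.hxo, Nat.coprime_comm, hpp.coprime_iff_not_dvd]
      intro hd
      apply hxi
      rw [← h.hxo] at hd
      exact orderOf_dvd_iff_pow_eq_one.mp hd
    obtain ⟨m, hm⟩ := exists_pow_eq_self_of_coprime hcop
    -- `x ^ i` is central in `P`
    have hc : ∀ a ∈ P, x ^ i * a = a * x ^ i := by
      intro a ha
      have e : x ^ i = (x ^ i * z₀) * z₀⁻¹ := by group
      rw [e, mul_assoc, h.hP₀Z z₀⁻¹ (P₀.inv_mem hz₀) a ha, ← mul_assoc, hzc a ha, mul_assoc]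
    obtain ⟨y, hy, hxy⟩ := h.hxZ
    apply hxy
    rw [← hm]
    have : Commute (x ^ i) y := hc y hy
    exact (this.pow_left m).eq

/-- the subgroup `V = {w ∈ P | w ^ p = 1, [w, P] ≤ P₀}` -/
def V (h : PCfg P P₀ K p x) : Subgroup G where
  carrier := {w | w ∈ P ∧ w ^ p = 1 ∧ ∀ y ∈ P, ⁅w, y⁆ ∈ P₀}
  one_mem' := ⟨P.one_mem, one_pow p, fun y _ => by rw [commutatorElement_one_left]; exact P₀.one_mem⟩
  inv_mem' := by
    rintro w ⟨hw, hwp, hwc⟩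
    refine ⟨P.inv_mem hw, by rw [inv_pow, hwp, inv_one], ?_⟩
    intro y hy
    rw [commutatorElement_inv_left]
    have h1 : ⁅y, w⁆ ∈ P₀ := by
      rw [← commutatorElement_inv]; exact P₀.inv_mem (hwc y hy)
    rw [h.conj_P₀' hw h1]; exact h1
  mul_mem' := by
    rintro w₁ w₂ ⟨hw₁, hwp₁, hwc₁⟩ ⟨hw₂, hwp₂, hwc₂⟩
    have hpp : p.Prime := hp.out
    refine ⟨P.mul_mem hw₁ hw₂, ?_, ?_⟩
    · -- `(w₁ w₂) ^ p = 1`
      set c : G := w₂⁻¹ * w₁⁻¹ * w₂ * w₁ with hc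
      have hcP : c ∈ P₀ := by
        have h1 : ⁅w₁⁻¹, w₂⁆ ∈ P₀ := by
          rw [commutatorElement_inv_left]
          have h2 : ⁅w₂, w₁⁆ ∈ P₀ := hwc₂ w₁ hw₁
          rw [h.conj_P₀' hw₁ h2]; exact h2
        have h3 : c = w₂⁻¹ * ⁅w₁⁻¹, w₂⁆ * w₂ := by
          rw [hc, commutatorElement_def]; group
        rw [h3, h.conj_P₀' hw₂ h1]; exact h1
      have e1 : w₂ * w₁ = w₁ * w₂ * c := by rw [hc]; group
      have hcx : Commute c w₁ := h.hP₀Z c hcP w₁ hw₁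
      have hcy : Commute c w₂ := h.hP₀Z c hcP w₂ hw₂
      rw [Cfsg.Agent.Helper23.mul_pow_of_central_comm w₁ w₂ c e1 hcx hcy p, hwp₁, hwp₂,
        one_mul, one_mul]
      have hodd : Odd p := hpp.odd_of_ne_two h.hp2
      obtain ⟨k, hk⟩ := hodd
      have h2 : p * (p - 1) / 2 = p * k := by
        have : p - 1 = 2 * k := by omega
        rw [this, ← mul_assoc, mul_comm p 2, mul_assoc, Nat.mul_div_cancel_left _ (by norm_num : 0 < 2)]
      rw [h2, pow_mul, h.pow_P₀ hcP, one_pow]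
    · intro y hy
      rw [commutatorElement_mul_left_eq_conj_mul, h.conj_P₀ hw₁ (hwc₂ y hy)]
      exact P₀.mul_mem (hwc₂ y hy) (hwc₁ y hy)

theorem mem_V (h : PCfg P P₀ K p x) {w : G} :
    w ∈ h.V ↔ w ∈ P ∧ w ^ p = 1 ∧ ∀ y ∈ P, ⁅w, y⁆ ∈ P₀ := Iff.rfl

theorem V_le (h : PCfg P P₀ K p x) : h.V ≤ P := fun _ hw => hw.1

theorem P₀_le_V (h : PCfg P P₀ K p x) : P₀ ≤ h.V := by
  intro z hz
  refine ⟨h.hP₀P hz, h.pow_P₀ hz, fun y hy => ?_⟩
  rw [commutatorElement_eq_one_iff_mul_comm.mpr (h.hP₀Z z hz y hy)]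
  exact P₀.one_mem

theorem conj_mem_V (h : PCfg P P₀ K p x) {k : G} (hk : k ∈ K) {w : G} (hw : w ∈ h.V) :
    k * w * k⁻¹ ∈ h.V := by
  obtain ⟨hwP, hwp, hwc⟩ := hw
  refine ⟨h.hKP k hk w hwP, by rw [conj_pow, hwp, mul_one, mul_inv_cancel], ?_⟩
  intro y hy
  have hy' : k⁻¹ * y * k ∈ P := by
    have := h.hKP k⁻¹ (K.inv_mem hk) y hy
    rwa [inv_inv] at this
  have h1 : ⁅w, k⁻¹ * y * k⁆ ∈ P₀ := hwc _ hy'
  have e : ⁅k * w * k⁻¹, y⁆ = k * ⁅w, k⁻¹ * y * k⁆ * k⁻¹ := by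
    rw [conjugate_commutatorElement]
    congr 1
    group
  rw [e, h.hKP₀ k hk _ h1, mul_inv_cancel_right]
  exact h1

end PCfg

end Cfsg.Agent.Helper20.PG3
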