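import Mathlib
import Cfsg.Agent.Helper20.PG3d

set_option autoImplicit false
set_option linter.unusedSectionVars false
set_option linter.unusedVariables false
set_option linter.style.haveILetI false

/-! # The configuration `PCfg` (part 2): `p ^ 2 ≤ |V| ≤ p ^ 3` -/

namespace Cfsg.Agent.Helper20.PG3

open Subgroup
open scoped commutatorElement

variable {G : Type*} [Group G] [Finite G]

namespace PCfg

variable {P P₀ K : Subgroup G} {p : ℕ} [hp : Fact p.Prime] {x : G}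

/-- the set `{x ^ i z | i < p, z ∈ P₀}` -/
def S (h : PCfg P P₀ K p x) : Set G :=
  (fun q : ℕ × G => x ^ q.1 * q.2) '' ((Finset.range p : Set ℕ) ×ˢ (P₀ : Set G))

theorem ncard_S_le (h : PCfg P P₀ K p x) : h.S.ncard ≤ p ^ 2 := by
  unfold S
  refine (Set.ncard_image_le (Set.toFinite _)).trans ?_
  rw [Set.ncard_prod, Set.ncard_coe_finset, Finset.card_range]
  have : (P₀ : Set G).ncard = p := by
    have := Nat.card_coe_set_eq (P₀ : Set G)
    rw [← this]; exact h.hP₀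
  rw [this, pow_two]

theorem mem_S_of (h : PCfg P P₀ K p x) {a : G} (ha : a ∈ P) (hax : a * x = x * a) (hap : a ^ p = 1) :
    a ∈ h.S := by
  obtain ⟨i, z, hz, rfl⟩ := h.hΩ a ha hax hap
  refine ⟨(i % p, z), ⟨?_, hz⟩, ?_⟩
  · rw [Finset.mem_coe, Finset.mem_range]
    exact Nat.mod_lt _ hp.out.pos
  · show x ^ (i % p) * z = x ^ i * z
    rw [← h.hxo, pow_mod_orderOf]

/-- `C_V(x)` -/
def CVx (h : PCfg P P₀ K p x) : Subgroup G := h.V ⊓ centralizer ({x} : Set G)

theorem mem_CVx (h : PCfg P P₀ K p x) {w : G} : w ∈ h.CVx ↔ w ∈ h.V ∧ w * x = x * w :=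
  mem_line

theorem CVx_subset_S (h : PCfg P P₀ K p x) : (h.CVx : Set G) ⊆ h.S := by
  intro w hw
  obtain ⟨hwV, hwx⟩ := h.mem_CVx.mp hw
  exact h.mem_S_of hwV.1 hwx hwV.2.1

theorem card_CVx_le (h : PCfg P P₀ K p x) : Nat.card h.CVx ≤ p ^ 2 := by
  have h1 := Set.ncard_le_ncard h.CVx_subset_S (Set.toFinite _)
  have h2 := Nat.card_coe_set_eq (h.CVx : Set G)
  exact (h2 ▸ h1).trans h.ncard_S_le

theorem relIndex_CVx_le (h : PCfg P P₀ K p x) : h.CVx.relIndex h.V ≤ p := by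
  have hpp : p.Prime := hp.out
  have hVc : h.V ≤ centralizer (P₀ : Set G) :=
    fun a ha => mem_centralizer_iff.mpr (fun z hz => h.hP₀Z z hz a ha.1)
  have hxP : zpowers x ≤ P := zpowers_le.mpr h.hx
  have hxc : zpowers x ≤ centralizer (P₀ : Set G) :=
    fun a ha => mem_centralizer_iff.mpr (fun z hz => h.hP₀Z z hz a (hxP ha))
  have h1 := Cfsg.Agent.Helper9.relIndex_centralizer_le P₀ h.V (zpowers x) h.hP₀ hVc hxc
    (fun a ha b hb => ha.2.2 b (hxP hb))
  have h2 : (centralizer (h.V : Set G)).relIndex (zpowers x) ≤ p := by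
    apply Nat.le_of_dvd hpp.pos
    refine dvd_trans (relIndex_dvd_card _ _) ?_
    rw [Nat.card_zpowers, h.hxo]
  rw [centralizer_zpowers_eq'] at h1
  have h3 : h.CVx.relIndex h.V = (centralizer ({x} : Set G)).relIndex h.V := by
    unfold CVx
    rw [inf_comm, inf_relIndex_right]
  rw [h3]
  exact h1.trans h2

theorem card_V_eq (h : PCfg P P₀ K p x) : h.CVx.relIndex h.V * Nat.card h.CVx = Nat.card h.V :=
  Cfsg.Agent.Lead.relIndex_mul_card' (inf_le_left : h.CVx ≤ h.V)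

theorem card_V_le (h : PCfg P P₀ K p x) : Nat.card h.V ≤ p ^ 3 := by
  rw [← h.card_V_eq]
  calc h.CVx.relIndex h.V * Nat.card h.CVx ≤ p * p ^ 2 :=
        Nat.mul_le_mul h.relIndex_CVx_le h.card_CVx_le
    _ = p ^ 3 := by ring

theorem not_isCyclic (h : PCfg P P₀ K p x) : ¬ IsCyclic ↥P := by
  intro hc
  obtain ⟨y, hy, hxy⟩ := h.hxZ
  apply hxy
  have := (IsCyclic.commGroup (α := ↥P)).mul_comm ⟨x, h.hx⟩ ⟨y, hy⟩
  exact congrArg Subtype.val this

theorem sq_le_card_V (h : PCfg P P₀ K p x) : p ^ 2 ≤ Nat.card h.V := by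
  have hpp : p.Prime := hp.out
  haveI : Finite ↥P := inferInstance
  obtain ⟨B, hBn, hBe, hBc⟩ :=
    Cfsg.Agent.Helper9.exists_normal_elemAb_sq (R := ↥P) h.hp2 h.hP h.not_isCyclic
  have hZ2 := Cfsg.Agent.S1453.le_upperCentralSeries_two (G := ↥P) h.hP B (hUn := hBn) hBc
  have hle : B.map P.subtype ≤ h.V := by
    rintro _ ⟨b, hb, rfl⟩
    refine ⟨b.2, ?_, ?_⟩
    · have := hBe.2 b hb
      have h2 := congrArg Subtype.val this
      simpa using h2
    · intro y hy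
      -- the commutator `[b, y]` lies in `B`, is central in `P` and has order dividing `p`
      have h1 := hZ2 hb
      rw [show (2 : ℕ) = 1 + 1 from rfl, Subgroup.mem_upperCentralSeries_succ_iff] at h1
      have h2 := h1 ⟨y, hy⟩
      rw [Subgroup.upperCentralSeries_one, Subgroup.mem_center_iff] at h2
      have hcB : b * ⟨y, hy⟩ * b⁻¹ * (⟨y, hy⟩ : ↥P)⁻¹ ∈ B := by
        have h3 : (⟨y, hy⟩ : ↥P) * b⁻¹ * (⟨y, hy⟩ : ↥P)⁻¹ ∈ B := hBn.conj_mem _ (B.inv_mem hb) _
        have e : b * ⟨y, hy⟩ * b⁻¹ * (⟨y, hy⟩ : ↥P)⁻¹ = b * ((⟨y, hy⟩ : ↥P) * b⁻¹ * (⟨y, hy⟩ : ↥P)⁻¹) := by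
          group
        rw [e]; exact B.mul_mem hb h3
      have hcp := hBe.2 _ hcB
      have e : ⁅(P.subtype b : G), y⁆ = ((b * ⟨y, hy⟩ * b⁻¹ * (⟨y, hy⟩ : ↥P)⁻¹ : ↥P) : G) := by
        rw [commutatorElement_def]; simp
      rw [e]
      apply h.omega_center (SetLike.coe_mem _)
      · intro a ha
        have := h2 ⟨a, ha⟩
        have h4 := congrArg Subtype.val this
        simp only [Subgroup.coe_mul] at h4
        exact h4.symm
      · have h4 := congrArg Subtype.val hcp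
        simpa using h4
  have hc : Nat.card (B.map P.subtype) = p ^ 2 := by
    rw [Subgroup.card_map_of_injective P.subtype_injective]; exact hBc
  rw [← hc]
  exact Subgroup.card_le_of_le hle

end PCfg

end Cfsg.Agent.Helper20.PG3
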