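import Mathlib
import Cfsg.Agent.Helper20.PG3e

set_option autoImplicit false
set_option linter.unusedSectionVars false
set_option linter.unusedVariables false
set_option linter.style.haveILetI false

/-! # The configuration `PCfg` (part 3): the numerical conclusion -/

namespace Cfsg.Agent.Helper20.PG3

open Subgroup
open scoped commutatorElement

variable {G : Type*} [Group G] [Finite G]

namespace PCfg

variable {P P₀ K : Subgroup G} {p : ℕ} [hp : Fact p.Prime] {x : G}

/-- case `|V| = p ^ 2` -/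
theorem dvd_of_card_V_sq (h : PCfg P P₀ K p x) (hV : Nat.card h.V = p ^ 2) :
    Nat.card K ∣ p - 1 := by
  have hd := Cfsg.Agent.Helper4.card_dvd_ncard_of_free_conj K
    ((h.V : Set G) \ (P₀ : Set G))
    (by
      rintro k hk w ⟨hw, hw0⟩
      refine ⟨h.conj_mem_V hk hw, ?_⟩
      intro hz
      apply hw0
      have e := h.hKP₀ k⁻¹ (K.inv_mem hk) _ hz
      have : w = k⁻¹ * (k * w * k⁻¹) * k⁻¹⁻¹ := by group
      rw [this, e, mul_inv_cancel_right]
      exact hz)
    (by
      rintro k hk w ⟨hw, hw0⟩ hfix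
      by_contra hk1
      exact hw0 (h.hfix k hk hk1 w hw.1 (mul_inv_eq_iff_eq_mul.mp hfix)))
  rw [ncard_sdiff_subgroup h.P₀_le_V, hV, h.hP₀] at hd
  have e : p ^ 2 - p = p * (p - 1) := by
    rw [Nat.mul_sub, mul_one, pow_two]
  rw [e] at hd
  exact h.hcop.dvd_of_dvd_mul_left hd

/-- case `|V| = p ^ 3`: `x ∈ V` -/
theorem x_mem_V (h : PCfg P P₀ K p x) (hV : Nat.card h.V = p ^ 3) : x ∈ h.V := by
  have hpp : p.Prime := hp.out
  have h1 := h.card_V_eq
  have h2 : p ^ 2 ≤ Nat.card h.CVx := by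
    by_contra hlt
    push Not at hlt
    have : h.CVx.relIndex h.V * Nat.card h.CVx < p * p ^ 2 := by
      calc h.CVx.relIndex h.V * Nat.card h.CVx ≤ p * Nat.card h.CVx :=
            Nat.mul_le_mul_right _ h.relIndex_CVx_le
        _ < p * p ^ 2 := Nat.mul_lt_mul_of_pos_left hlt hpp.pos
    rw [h1, hV] at this
    have e : p * p ^ 2 = p ^ 3 := by ring
    omega
  have h3 : (h.CVx : Set G) = h.S := by
    apply Set.eq_of_subset_of_ncard_le h.CVx_subset_S _ (Set.toFinite _)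
    have := Nat.card_coe_set_eq (h.CVx : Set G)
    rw [← this]
    exact h.ncard_S_le.trans h2
  have h4 : x ∈ h.S := by
    refine ⟨(1, 1), ⟨?_, P₀.one_mem⟩, ?_⟩
    · rw [Finset.mem_coe, Finset.mem_range]; exact hpp.one_lt
    · show x ^ 1 * 1 = x
      rw [pow_one, mul_one]
  rw [← h3] at h4
  exact (h.mem_CVx.mp h4).1

theorem card_CVx_lt (h : PCfg P P₀ K p x) : Nat.card h.CVx < p ^ 3 :=
  lt_of_le_of_lt h.card_CVx_le (Nat.pow_lt_pow_right hp.out.one_lt (by norm_num))

/-- case `|V| = p ^ 3`: the centre of `V` is `P₀` -/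
theorem center_V (h : PCfg P P₀ K p x) (hV : Nat.card h.V = p ^ 3) {a : G} (ha : a ∈ h.V)
    (hac : ∀ b ∈ h.V, a * b = b * a) : a ∈ P₀ := by
  have hpp : p.Prime := hp.out
  have hxV := h.x_mem_V hV
  obtain ⟨i, z, hz, rfl⟩ := h.hΩ a ha.1 (hac x hxV) ha.2.1
  by_cases hxi : x ^ i = 1
  · rw [hxi, one_mul]; exact hz
  · exfalso
    have hcop : i.Coprime (orderOf x) := by
      rw [h.hxo, Nat.coprime_comm, hpp.coprime_iff_not_dvd]
      intro hd
      apply hxi
      rw [← h.hxo] at hd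
      exact orderOf_dvd_iff_pow_eq_one.mp hd
    obtain ⟨m, hm⟩ := exists_pow_eq_self_of_coprime hcop
    have hc : ∀ b ∈ h.V, x ^ i * b = b * x ^ i := by
      intro b hb
      have e : x ^ i = (x ^ i * z) * z⁻¹ := by group
      rw [e, mul_assoc, h.hP₀Z z⁻¹ (P₀.inv_mem hz) b hb.1, ← mul_assoc, hac b hb, mul_assoc]
    have hxc : ∀ b ∈ h.V, b * x = x * b := by
      intro b hb
      rw [← hm]
      have : Commute (x ^ i) b := hc b hb
      exact (this.pow_left m).eq.symm
    have hle : h.V ≤ h.CVx := fun b hb => h.mem_CVx.mpr ⟨hb, hxc b hb⟩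
    have := Subgroup.card_le_of_le hle
    rw [hV] at this
    exact absurd h.card_CVx_lt (not_lt.mpr this)

/-- case `|V| = p ^ 3`: `P = V` -/
theorem P_le_V (h : PCfg P P₀ K p x) (hV : Nat.card h.V = p ^ 3) {k₀ : G} (hk₀ : k₀ ∈ K)
    (hk₀1 : k₀ ≠ 1) : P ≤ h.V := by
  have hpp : p.Prime := hp.out
  have hxV := h.x_mem_V hV
  have hZV : centralizer (h.V : Set G) ⊓ h.V = P₀ := by
    apply le_antisymm
    · rintro a ⟨ha1, ha2⟩
      apply h.center_V hV ha2
      intro b hb
      exact ((mem_centralizer_iff.mp ha1) b hb).symm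
    · intro z hz
      refine ⟨mem_centralizer_iff.mpr (fun b hb => (h.hP₀Z z hz b hb.1).symm), h.P₀_le_V hz⟩
  -- decomposition of elements of `P`
  have hdec : ∀ t ∈ P, ∃ v ∈ h.V, ∃ c ∈ centralizer (h.V : Set G), t = v * c := by
    intro t ht
    have h1 := Cfsg.Agent.Helper9.mem_sup_centralizer_of_commutator_mem (p := p) h.V
      (by rw [hZV]; exact h.hP₀)
      (by intro a ha b hb; rw [hZV]; exact ha.2.2 b hb.1) t
      (by
        rw [hZV]
        exact mem_centralizer_iff.mpr (fun z hz => h.hP₀Z z hz t ht))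
      (by
        intro q hq
        rw [hZV, ← commutatorElement_inv]
        exact P₀.inv_mem (hq.2.2 t ht))
    exact mem_sup_of_commute (fun a ha b hb => (mem_centralizer_iff.mp hb) a ha) h1
  -- the `c`-parts are central in `P`
  have hcent : ∀ t ∈ P, ∀ v ∈ h.V, ∀ c ∈ centralizer (h.V : Set G), t = v * c →
      c ∈ P ∧ ∀ a ∈ P, c * a = a * c := by
    intro t ht v hv c hc htvc
    have hcP : c ∈ P := by
      have : c = v⁻¹ * t := by rw [htvc]; group
      rw [this]; exact P.mul_mem (P.inv_mem hv.1) ht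
    refine ⟨hcP, ?_⟩
    intro a ha
    obtain ⟨v', hv', c', hc', rfl⟩ := hdec a ha
    have hc'P : c' ∈ P := by
      have : c' = v'⁻¹ * (v' * c') := by group
      rw [this]; exact P.mul_mem (P.inv_mem hv'.1) ha
    have e1 : c * v' = v' * c := ((mem_centralizer_iff.mp hc) v' hv').symm
    have e2 : c * c' = c' * c :=
      h.hCab c hcP c' hc'P (((mem_centralizer_iff.mp hc) x hxV).symm)
        (((mem_centralizer_iff.mp hc') x hxV).symm)
    rw [← mul_assoc, e1, mul_assoc, e2, mul_assoc]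
  -- the centre of `P` is contained in `P₀`
  have hZP : ∀ c ∈ P, (∀ a ∈ P, c * a = a * c) → c ∈ P₀ := by
    intro c hcP hcc
    set Z : Subgroup G := P ⊓ centralizer (P : Set G) with hZ
    have hZmem : ∀ s, s ∈ Z ↔ s ∈ P ∧ ∀ a ∈ P, s * a = a * s := by
      intro s
      rw [hZ, mem_inf, mem_centralizer_iff]
      constructor
      · rintro ⟨h1, h2⟩; exact ⟨h1, fun a ha => (h2 a ha).symm⟩
      · rintro ⟨h1, h2⟩; exact ⟨h1, fun a ha => (h2 a ha).symm⟩
    have hZp : IsPGroup p Z := h.hP.to_le inf_le_left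
    have hZab : ∀ a ∈ Z, ∀ b ∈ Z, a * b = b * a := by
      intro a ha b hb
      exact ((hZmem a).mp ha).2 b ((hZmem b).mp hb).1
    have hk₀Z : k₀ ∈ normalizer (Z : Set G) := by
      apply (Cfsg.Agent.Helper14.le_normalizer_of_map_cj_le (H := K) (K := Z) ?_) hk₀
      intro k hk s hs
      rw [Cfsg.Agent.Helper14.mem_map_cj] at hs
      have hkinv : ∀ a ∈ P, k⁻¹ * a * k ∈ P := by
        intro a ha
        have := h.hKP k⁻¹ (K.inv_mem hk) a ha
        rwa [inv_inv] at this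
      obtain ⟨hs1, hs2⟩ := (hZmem _).mp hs
      rw [hZmem]
      constructor
      · have := h.hKP k hk _ hs1
        have e : k * (k⁻¹ * s * k) * k⁻¹ = s := by group
        rwa [e] at this
      · intro a ha
        have h3 := hs2 _ (hkinv a ha)
        have e1 : s * a = k * ((k⁻¹ * s * k) * (k⁻¹ * a * k)) * k⁻¹ := by group
        rw [e1, h3]; group
    have hco : (orderOf k₀).Coprime p :=
      Nat.Coprime.coprime_dvd_left (Subgroup.orderOf_dvd_natCard K hk₀) h.hcop
    have hall := Cfsg.Agent.Helper18.BG12.centralizes_of_centralizes_omega hZp hZab hk₀Z hco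
      (by
        intro s hs hsp
        obtain ⟨hs1, hs2⟩ := (hZmem s).mp hs
        exact h.hKP₀ k₀ hk₀ s (h.omega_center hs1 hs2 hsp))
    have hcZ : c ∈ Z := (hZmem c).mpr ⟨hcP, hcc⟩
    exact h.hfix k₀ hk₀ hk₀1 c hcP (hall c hcZ)
  intro t ht
  obtain ⟨v, hv, c, hc, rfl⟩ := hdec t ht
  obtain ⟨hcP, hcc⟩ := hcent _ ht v hv c hc rfl
  exact h.V.mul_mem hv (h.P₀_le_V (hZP c hcP hcc))

/-- case `|V| = p ^ 3`: the extraspecial configuration -/
theorem x3 (h : PCfg P P₀ K p x) (hV : Nat.card h.V = p ^ 3) : X3 h.V P₀ K p where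
  hV := hV
  hP₀V := h.P₀_le_V
  hP₀ := h.hP₀
  hcomm := fun a ha b hb => ha.2.2 b hb.1
  hcent := fun z hz a ha => h.hP₀Z z hz a ha.1
  hZ := fun a ha hac => h.center_V hV ha hac
  hexp := fun a ha => ha.2.1
  hKV := fun k hk a ha => h.conj_mem_V hk ha
  hKP₀ := h.hKP₀
  hfix := fun k hk hk1 a ha => h.hfix k hk hk1 a ha.1
  hKab := h.hKab
  hKodd := h.hKodd
  hcop := h.hcop

/-- **the numerical conclusion** -/
theorem numerics (h : PCfg P P₀ K p x) :
    Nat.card K ∣ p - 1 ∨ (Nat.card P = p ^ 3 ∧ Nat.card K ∣ p + 1) := by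
  have hpp : p.Prime := hp.out
  by_cases hK : K = ⊥
  · left
    rw [hK, Subgroup.card_bot]; exact one_dvd _
  obtain ⟨k₀', hk₀'⟩ := (Subgroup.ne_bot_iff_exists_ne_one (H := K)).mp hK
  obtain ⟨k₀, hk₀, hk₀1⟩ : ∃ k₀ : G, k₀ ∈ K ∧ k₀ ≠ 1 :=
    ⟨(k₀' : G), k₀'.2, fun h1 => hk₀' (Subtype.ext h1)⟩
  obtain ⟨j, hj⟩ := IsPGroup.iff_card.mp (h.hP.to_le h.V_le)
  have hj2 : 2 ≤ j := by
    have := h.sq_le_card_V
    rw [hj] at this
    exact (Nat.pow_le_pow_iff_right hpp.one_lt).mp this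
  have hj3 : j ≤ 3 := by
    have := h.card_V_le
    rw [hj] at this
    exact (Nat.pow_le_pow_iff_right hpp.one_lt).mp this
  have hj' : j = 2 ∨ j = 3 := by omega
  rcases hj' with rfl | rfl
  · left
    exact h.dvd_of_card_V_sq hj
  · rcases (h.x3 hj).card_dvd with h1 | h1
    · left; exact h1
    · right
      refine ⟨?_, h1⟩
      have : P = h.V := le_antisymm (h.P_le_V hj hk₀ hk₀1) h.V_le
      rw [← hj]
      exact congrArg (fun H : Subgroup G => Nat.card H) this

end PCfg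

end Cfsg.Agent.Helper20.PG3
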