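import Mathlib
import Cfsg.Agent.Helper20.BG157Vb
import Cfsg.Agent.Helper20.PG3f

set_option autoImplicit false
set_option linter.unusedSectionVars false
set_option linter.unusedVariables false
set_option linter.style.haveILetI false

/-! # Weak B&G 15.7, case `K ≠ 1`, `U = 1`: consequences of the local configuration -/

namespace Cfsg.Agent.Helper20.BG157V

open Subgroup Cfsg
open scoped commutatorElement

universe u

variable {G : Type u} [Group G] [Finite G]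

namespace Loc

variable {M N P : Subgroup G} {t : ℕ} {x : G}

theorem hHM (c : Loc M N P t x) : Cfsg.fittingHallOf M ≤ M := Cfsg.Agent.Helper23.fittingHallOf_le M

theorem hPM (c : Loc M N P t x) : P ≤ M := c.hPH.trans c.hHM

theorem x_ne_one (c : Loc M N P t x) : x ≠ 1 := by
  intro h
  have := c.hxo
  rw [h, orderOf_one] at this
  exact c.ht.one_lt.ne this

theorem mem_P_of_pow (c : Loc M N P t x) {a : G} (haM : a ∈ M) {k : ℕ} (hao : orderOf a = t ^ k) :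
    a ∈ P := by
  haveI : Fact t.Prime := ⟨c.ht⟩
  have h1 : IsPGroup t ↥(zpowers a) := by
    apply IsPGroup.of_card (n := k)
    rw [Nat.card_zpowers, hao]
  exact c.hPmax (zpowers a) (zpowers_le.mpr haM) h1 (mem_zpowers a)

theorem x_mem_P (c : Loc M N P t x) : x ∈ P :=
  c.mem_P_of_pow (c.hHM c.hxH) (k := 1) (by rw [pow_one]; exact c.hxo)

theorem dvd_card_H (c : Loc M N P t x) {a : G} (ha : a ∈ Cfsg.fittingHallOf M) :
    orderOf a ∣ Nat.card (Cfsg.fittingHallOf M) := by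
  have h1 : orderOf (⟨a, ha⟩ : ↥(Cfsg.fittingHallOf M)) = orderOf a := Subgroup.orderOf_mk a ha
  rw [← h1]
  exact orderOf_dvd_natCard _

/-- elements of `H` of order prime to `t` centralize `P` -/
theorem centralizes_of_coprime (c : Loc M N P t x) {y : G} (hy : y ∈ Cfsg.fittingHallOf M)
    (hcop : (orderOf y).Coprime t) : ∀ a ∈ P, y * a = a * y := by
  haveI : Fact t.Prime := ⟨c.ht⟩
  have key : y ∈ centralizer (P : Set G) := by
    apply Cfsg.Agent.Helper19.mem_of_forall_primePow_mem (centralizer (P : Set G)) (orderOf y) y rfl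
    rintro w hw ⟨q, k, hq, hwo⟩
    haveI : Fact q.Prime := ⟨hq⟩
    have hwH : w ∈ Cfsg.fittingHallOf M := (zpowers_le.mpr hy) hw
    by_cases hk : k = 0
    · rw [hk, pow_zero] at hwo
      rw [orderOf_eq_one_iff.mp hwo]; exact one_mem _
    have hqw : q ∣ orderOf w := by rw [hwo]; exact dvd_pow_self q hk
    have hwy : orderOf w ∣ orderOf y := orderOf_dvd_of_mem_zpowers hw
    have hqt : q ≠ t := by
      rintro rfl
      exact hq.one_lt.ne' (Nat.eq_one_of_dvd_coprimes hcop (hqw.trans hwy) (dvd_refl _))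
    have hqH : q ∣ Nat.card (Cfsg.fittingHallOf M) := hqw.trans (c.dvd_card_H hwH)
    obtain ⟨Q, hQH, hMQ, hQq, -, hQmax⟩ :=
      Cfsg.Agent.Helper27.BG15.exists_normal_sylow_of_dvd_card_fittingHallOf M q hqH
    have hwQ : w ∈ Q := by
      have h1 : IsPGroup q ↥(zpowers w) := by
        apply IsPGroup.of_card (n := k)
        rw [Nat.card_zpowers, hwo]
      exact hQmax (zpowers w) (zpowers_le.mpr (c.hHM hwH)) h1 (mem_zpowers w)
    have hd : Q ⊓ P = ⊥ := (IsPGroup.disjoint_of_ne q t hqt Q P hQq c.hPt).eq_bot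
    have hcomm := commute_of_normal_disjoint (hQH.trans c.hHM) c.hPM hMQ c.hMP hd
    rw [mem_centralizer_iff]
    intro a ha
    exact (hcomm w hwQ a ha).symm
  intro a ha
  exact ((mem_centralizer_iff.mp key) a ha).symm

/-- primes dividing `|M ∩ N|` are not in `σ(N)` -/
theorem not_mem_sigma (hG : Cfsg.IsMinSimpleOddOrder G) (c : Loc M N P t x) {r : ℕ} (hr : r.Prime)
    (hrd : r ∣ Nat.card (M ⊓ N : Subgroup G)) : r ∉ Cfsg.sigma N := by
  obtain ⟨⟨-, -, hidxN⟩, -, -⟩ := Cfsg.Agent.S1350.result hG N c.hN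
  intro hσ
  apply hidxN r hr hσ
  have h1 := Cfsg.Agent.Helper27.BG15.card_mul_card_of_isComplIn c.hcompl
  have h2 : (Cfsg.sigmaCore N).relIndex N * Nat.card (Cfsg.sigmaCore N) = Nat.card N :=
    Cfsg.Agent.Lead.relIndex_mul_card' (Cfsg.Agent.H9.BG12.sigmaCore_le N)
  have h3 : (Cfsg.sigmaCore N).relIndex N = Nat.card (M ⊓ N : Subgroup G) := by
    have hpos : 0 < Nat.card (Cfsg.sigmaCore N) := Nat.card_pos
    apply Nat.eq_of_mul_eq_mul_right hpos
    rw [h2, h1]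
  rw [h3]; exact hrd

/-- nilpotent subgroups of `M ∩ N` are abelian -/
theorem comm_of_nilpotent (hG : Cfsg.IsMinSimpleOddOrder G) (c : Loc M N P t x) {C : Subgroup G}
    (hC : C ≤ M ⊓ N) (hnil : Group.IsNilpotent C) : ∀ a ∈ C, ∀ b ∈ C, a * b = b * a := by
  have h1 := (Cfsg.Agent.S1420.result hG N c.hN (M ⊓ N) c.hcompl).1 C (hC.trans inf_le_right) hnil
    (fun r hr hrd => c.not_mem_sigma hG hr (hrd.trans (Subgroup.card_dvd_of_le hC)))
  intro a ha b hb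
  have := h1.is_comm.comm ⟨a, ha⟩ ⟨b, hb⟩
  exact congrArg Subtype.val this

/-- `C_H(x)` is abelian -/
theorem C_comm (hG : Cfsg.IsMinSimpleOddOrder G) (c : Loc M N P t x) {a b : G}
    (ha : a ∈ Cfsg.fittingHallOf M) (hb : b ∈ Cfsg.fittingHallOf M) (hax : a * x = x * a)
    (hbx : b * x = x * b) : a * b = b * a := by
  set C : Subgroup G := Cfsg.fittingHallOf M ⊓ centralizer ({x} : Set G) with hC
  have hmem : ∀ z, z ∈ C ↔ z ∈ Cfsg.fittingHallOf M ∧ z * x = x * z := fun z =>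
    Cfsg.Agent.Helper20.PG3.mem_line
  have hCMN : C ≤ M ⊓ N := le_inf (inf_le_left.trans c.hHM) (inf_le_right.trans c.hxN)
  have hnil : Group.IsNilpotent C :=
    Cfsg.Agent.Helper27.BG15.isNilpotent_of_le' (inf_le_left : C ≤ Cfsg.fittingHallOf M)
      (fittingHallOf_isNilpotent M)
  exact c.comm_of_nilpotent hG hCMN hnil a ((hmem a).mpr ⟨ha, hax⟩) b ((hmem b).mpr ⟨hb, hbx⟩)

/-- decomposition into `t`-part and `t'`-part -/
theorem exists_decomp (c : Loc M N P t x) {a : G} (ha : a ∈ Cfsg.fittingHallOf M) :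
    ∃ a₁ ∈ P, ∃ a₂ ∈ Cfsg.fittingHallOf M, a = a₁ * a₂ ∧ Commute a₁ a₂ ∧ (orderOf a₂).Coprime t := by
  haveI : Fact t.Prime := ⟨c.ht⟩
  obtain ⟨a₁, a₂, hab, ha₁, ha₂, ⟨k, hk⟩, hcop⟩ := Cfsg.Agent.Helper18.exists_pPart_decomp t a
  have hzH : zpowers a ≤ Cfsg.fittingHallOf M := zpowers_le.mpr ha
  refine ⟨a₁, c.mem_P_of_pow (c.hHM (hzH ha₁)) hk, a₂, hzH ha₂, hab, ?_, hcop⟩
  obtain ⟨i, rfl⟩ := mem_zpowers_iff.mp ha₁
  obtain ⟨j, rfl⟩ := mem_zpowers_iff.mp ha₂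
  exact (Commute.refl a).zpow_zpow i j

/-- commutators of `H` are commutators of `P` -/
theorem comm_eq (hG : Cfsg.IsMinSimpleOddOrder G) (c : Loc M N P t x) {a b : G}
    (ha : a ∈ Cfsg.fittingHallOf M) (hb : b ∈ Cfsg.fittingHallOf M) :
    ∃ a₁ ∈ P, ∃ b₁ ∈ P, ⁅a, b⁆ = ⁅a₁, b₁⁆ := by
  obtain ⟨a₁, ha₁, a₂, ha₂, rfl, hca, hcopa⟩ := c.exists_decomp ha
  obtain ⟨b₁, hb₁, b₂, hb₂, rfl, hcb, hcopb⟩ := c.exists_decomp hb
  have hPa := c.centralizes_of_coprime ha₂ hcopa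
  have hPb := c.centralizes_of_coprime hb₂ hcopb
  have hcd : a₂ * b₂ = b₂ * a₂ :=
    c.C_comm hG ha₂ hb₂ (hPa x c.x_mem_P) (hPb x c.x_mem_P)
  refine ⟨a₁, ha₁, b₁, hb₁, ?_⟩
  exact commutatorElement_mul_mul (hPa a₁ ha₁) (hPa b₁ hb₁) hcd (hPb a₁ ha₁) (hPb b₁ hb₁)

theorem commutator_le (hG : Cfsg.IsMinSimpleOddOrder G) (c : Loc M N P t x) :
    ⁅Cfsg.fittingHallOf M, Cfsg.fittingHallOf M⁆ ≤ P := by
  rw [Subgroup.commutator_le]
  intro a ha b hb
  obtain ⟨a₁, ha₁, b₁, hb₁, h⟩ := c.comm_eq hG ha hb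
  rw [h, commutatorElement_def]
  exact P.mul_mem (P.mul_mem (P.mul_mem ha₁ hb₁) (P.inv_mem ha₁)) (P.inv_mem hb₁)

/-- if `H' ≠ 1` then `P` is not abelian -/
theorem exists_not_comm (hG : Cfsg.IsMinSimpleOddOrder G) (c : Loc M N P t x)
    (hH' : ⁅Cfsg.fittingHallOf M, Cfsg.fittingHallOf M⁆ ≠ ⊥) : ∃ a ∈ P, ∃ b ∈ P, a * b ≠ b * a := by
  by_contra hcon
  push Not at hcon
  apply hH'
  rw [eq_bot_iff, Subgroup.commutator_le]
  intro a ha b hb
  obtain ⟨a₁, ha₁, b₁, hb₁, h⟩ := c.comm_eq hG ha hb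
  rw [h, mem_bot]
  exact commutatorElement_eq_one_iff_mul_comm.mpr (hcon a₁ ha₁ b₁ hb₁)

/-- `x` is not central in `P` when `P` is not abelian -/
theorem x_not_central (hG : Cfsg.IsMinSimpleOddOrder G) (c : Loc M N P t x)
    (hP : ∃ a ∈ P, ∃ b ∈ P, a * b ≠ b * a) : ∃ y ∈ P, x * y ≠ y * x := by
  by_contra hcon
  push Not at hcon
  obtain ⟨a, ha, b, hb, hab⟩ := hP
  exact hab (c.C_comm hG (c.hPH ha) (c.hPH hb) (hcon a ha).symm (hcon b hb).symm)

end Loc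

end Cfsg.Agent.Helper20.BG157V
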