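import Mathlib
import Cfsg.Agent.Helper20.BG157Vc
import Cfsg.Agent.Helper19.Cores

set_option autoImplicit false
set_option linter.unusedSectionVars false
set_option linter.unusedVariables false
set_option linter.style.haveILetI false

/-! # Weak B&G 15.7, case `K ≠ 1`, `U = 1`: `Ω₁(C_P(x))`, `O_{t'}(H)` cyclic, `O_t(H) = P` -/

namespace Cfsg.Agent.Helper20.BG157V

open Subgroup Cfsg
open scoped commutatorElement

universe u

variable {G : Type u} [Group G] [Finite G]

namespace Loc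

variable {M N P : Subgroup G} {t : ℕ} {x : G}

/-- `Ω₁(C_P(x))` -/
def omega (hG : Cfsg.IsMinSimpleOddOrder G) (c : Loc M N P t x) : Subgroup G where
  carrier := {a | a ∈ P ∧ a * x = x * a ∧ a ^ t = 1}
  one_mem' := ⟨P.one_mem, by rw [one_mul, mul_one], one_pow t⟩
  inv_mem' := by
    rintro a ⟨ha, hax, hat⟩
    refine ⟨P.inv_mem ha, ?_, by rw [inv_pow, hat, inv_one]⟩
    have : Commute a x := hax
    exact this.inv_left.eq
  mul_mem' := by
    rintro a b ⟨ha, hax, hat⟩ ⟨hb, hbx, hbt⟩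
    have hab : Commute a b := c.C_comm hG (c.hPH ha) (c.hPH hb) hax hbx
    refine ⟨P.mul_mem ha hb, ?_, by rw [hab.mul_pow, hat, hbt, one_mul]⟩
    have h1 : Commute a x := hax
    have h2 : Commute b x := hbx
    exact (h1.mul_left h2).eq

theorem mem_omega (hG : Cfsg.IsMinSimpleOddOrder G) (c : Loc M N P t x) {a : G} :
    a ∈ c.omega hG ↔ a ∈ P ∧ a * x = x * a ∧ a ^ t = 1 := Iff.rfl

theorem card_omega_le (hG : Cfsg.IsMinSimpleOddOrder G) (c : Loc M N P t x) :
    Nat.card (c.omega hG) ≤ t ^ 2 := by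
  have hΩN : c.omega hG ≤ N := by
    intro a ha
    apply c.hxN
    rw [mem_centralizer_iff]
    intro h hh
    rw [Set.mem_singleton_iff] at hh
    subst hh
    exact ha.2.1.symm
  have hr : Cfsg.PRankLE t 2 ↥N := c.htau.2.2.1
  have h1 := hr ((c.omega hG).subgroupOf N)
    (by
      refine ⟨⟨?_⟩⟩
      rintro ⟨a, ha⟩ ⟨b, hb⟩
      apply Subtype.ext
      apply Subtype.ext
      rw [mem_subgroupOf] at ha hb
      exact c.C_comm hG (c.hPH ha.1) (c.hPH hb.1) ha.2.1 hb.2.1)
    (by
      intro a ha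
      rw [mem_subgroupOf] at ha
      apply Subtype.ext
      have := ha.2.2
      simpa using this)
  rwa [Nat.card_congr (Subgroup.subgroupOfEquivOfLe hΩN).toEquiv] at h1

/-- `O_{t'}(H)` is cyclic when `P` is not abelian -/
theorem isCyclic_pPrimeCore (hG : Cfsg.IsMinSimpleOddOrder G) (c : Loc M N P t x)
    (hP : ∃ a ∈ P, ∃ b ∈ P, a * b ≠ b * a) :
    IsCyclic ↥(Cfsg.pPrimeCore t ↥(Cfsg.fittingHallOf M)) := by
  haveI : Fact t.Prime := ⟨c.ht⟩
  set H := Cfsg.fittingHallOf M with hH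
  set D : Subgroup G := (Cfsg.pPrimeCore t ↥H).map H.subtype with hD
  have hDH : D ≤ H := Subgroup.map_subtype_le _
  have hDc : (Nat.card D).Coprime t := by
    rw [hD, Subgroup.card_map_of_injective H.subtype_injective]
    exact Cfsg.Agent.Helper19.pPrimeCore_coprime t
  have hDcent : ∀ y ∈ D, ∀ a ∈ P, y * a = a * y := by
    intro y hy
    apply c.centralizes_of_coprime (hDH hy)
    have h1 : orderOf y ∣ Nat.card D := by
      have h2 : orderOf (⟨y, hy⟩ : ↥D) = orderOf y := Subgroup.orderOf_mk y hy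
      rw [← h2]; exact orderOf_dvd_natCard _
    exact Nat.Coprime.coprime_dvd_left h1 hDc
  have hDMN : D ≤ M ⊓ N := by
    intro y hy
    refine ⟨c.hHM (hDH hy), c.hxN ?_⟩
    rw [mem_centralizer_iff]
    intro h hh
    rw [Set.mem_singleton_iff] at hh
    subst hh
    exact (hDcent y hy h c.x_mem_P).symm
  have hDnil : Group.IsNilpotent D :=
    Cfsg.Agent.Helper27.BG15.isNilpotent_of_le' hDH (fittingHallOf_isNilpotent M)
  have hDcyc : IsCyclic D := by
    apply isCyclic_of_no_elemAb_sq hDnil (Cfsg.Agent.Helper27.BG15.odd_card_subgroup hG D)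
    intro r hr B hBD hBe hBc
    haveI : Fact r.Prime := ⟨hr⟩
    have hBN : B ≤ N := (hBD.trans hDMN).trans inf_le_right
    have hCB := (Cfsg.Agent.S1416.result hG N c.hN r B ⟨hBN, hBe, hBc⟩).1
    have hPN : P ≤ M ⊓ N := by
      intro a ha
      refine ⟨c.hPM ha, hCB ?_⟩
      rw [mem_centralizer_iff]
      intro b hb
      exact hDcent b (hBD hb) a ha
    obtain ⟨a, ha, b, hb, hab⟩ := hP
    exact hab (c.comm_of_nilpotent hG hPN c.hPt.isNilpotent a ha b hb)
  haveI := hDcyc
  exact isCyclic_of_injective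
    ((Cfsg.pPrimeCore t ↥H).equivMapOfInjective H.subtype H.subtype_injective).toMonoidHom
    ((Cfsg.pPrimeCore t ↥H).equivMapOfInjective H.subtype H.subtype_injective).injective

/-- `O_t(H) = P` -/
theorem card_pCore (c : Loc M N P t x) :
    Nat.card ↥(Cfsg.pCore t ↥(Cfsg.fittingHallOf M)) = Nat.card P := by
  haveI : Fact t.Prime := ⟨c.ht⟩
  set H := Cfsg.fittingHallOf M with hH
  have h1 : (Cfsg.pCore t ↥H).map H.subtype = P := by
    apply le_antisymm
    · exact c.hPmax _ ((Subgroup.map_subtype_le _).trans c.hHM)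
        ((Cfsg.Agent.Helper19.pCore_isPGroup (G := ↥H) t).map _)
    · intro a ha
      have hn : (P.subgroupOf H).Normal :=
        (Subgroup.normal_subgroupOf_iff_le_normalizer c.hPH).mpr (c.hHM.trans c.hMP)
      have hp : IsPGroup t ↥(P.subgroupOf H) := c.hPt.comap_subtype
      have hle : P.subgroupOf H ≤ Cfsg.pCore t ↥H := le_sSup ⟨hn, hp⟩
      exact ⟨⟨a, c.hPH ha⟩, hle (mem_subgroupOf.mpr ha), rfl⟩
  rw [← h1, Subgroup.card_map_of_injective H.subtype_injective]

end Loc

end Cfsg.Agent.Helper20.BG157V
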