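import Mathlib
import Cfsg.Agent.Helper20.BG157Vd
import Cfsg.Agent.S1354
import Cfsg.Agent.S1365
import Cfsg.Agent.S1373

set_option autoImplicit false
set_option linter.unusedSectionVars false
set_option linter.unusedVariables false
set_option linter.style.haveILetI false

/-! # Weak B&G 15.7, case `K ≠ 1`, `U = 1`, `M_F = M_σ` not TI: the Type V numerics -/

namespace Cfsg.Agent.Helper20.BG157V

open Subgroup Cfsg
open scoped commutatorElement
open Cfsg.Agent.Helper20.PG3 (mem_sup_of_commute exists_pow_of_mem_zpowers sq_le_card_of_lt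
  ncard_sdiff_subgroup)
open Cfsg.Agent.Helper20.BG157 (omegaCenter mem_omegaCenter omegaCenter_le omegaCenter_ne_bot
  conj_mem_omegaCenter)

universe u

variable {G : Type u} [Group G] [Finite G]

/-- **B&G 15.7 (weak form), `K ≠ 1`, `U = 1`, `M_F = M_σ` not a TI-subset**: the numerical
alternatives of Type V -/
theorem typeV_numerics (hG : Cfsg.IsMinSimpleOddOrder G) {M K U : Subgroup G} (hM : IsCoatom M)
    (hKU : Cfsg.IsSigmaDecomposition M K U) (hK1 : K ≠ ⊥) (hU : U = ⊥)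
    (hFσ : Cfsg.fittingHallOf M = Cfsg.sigmaCore M)
    (hnTI : ¬ Cfsg.IsTISubset (Cfsg.fittingHallOf M : Set G)) :
    (∃ p : ℕ, p.Prime ∧ p ∣ Nat.card (Cfsg.fittingHallOf M) ∧ Nat.card K ∣ p - 1 ∧
        IsCyclic (Cfsg.pPrimeCore p (Cfsg.fittingHallOf M))) ∨
      (∃ p : ℕ, p.Prime ∧ p ∣ Nat.card (Cfsg.fittingHallOf M) ∧
        Nat.card (Cfsg.pCore p (Cfsg.fittingHallOf M)) = p ^ 3 ∧
        Nat.card K ∣ p + 1 ∧ IsCyclic (Cfsg.pPrimeCore p (Cfsg.fittingHallOf M))) := by
  obtain ⟨N, P, t, x, c⟩ := exists_loc hG hM hFσ hnTI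
  haveI : Fact t.Prime := ⟨c.ht⟩
  have htp : t.Prime := c.ht
  set H := Cfsg.fittingHallOf M with hH
  set Ks : Subgroup G := Cfsg.sigmaCore M ⊓ centralizer (K : Set G) with hKs
  have h1354 := (Cfsg.Agent.S1354.result hG M hM K hKU.cyclic hKU.hall).2 hK1
  obtain ⟨hM', hKsM''⟩ := Cfsg.Agent.S1365.result hG M hM K U hKU hK1
  have hKsp : (Nat.card Ks).Prime := Cfsg.Agent.S1373.result hG M hM K U hKU hK1 hU
  have hM'H : ⁅M, M⁆ = H := by rw [hM', hU, bot_sup_eq, ← hFσ]
  rw [hM'H] at hKsM''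
  have hKs1 : Ks ≠ ⊥ := by
    intro h
    rw [h, Subgroup.card_bot] at hKsp
    exact Nat.not_prime_one hKsp
  have hH'1 : ⁅H, H⁆ ≠ ⊥ := fun h => hKs1 (eq_bot_iff.mpr (h ▸ hKsM''))
  have hPna := c.exists_not_comm hG hH'1
  have hxZ := c.x_not_central hG hPna
  have hKsP : Ks ≤ P := hKsM''.trans (c.commutator_le hG)
  have hKst : Nat.card Ks = t := by
    obtain ⟨n, hn⟩ := IsPGroup.iff_card.mp (c.hPt.to_le hKsP)
    rw [hn] at hKsp ⊢
    have hn1 : n = 1 := by
      by_contra hn1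
      rcases Nat.lt_or_gt_of_ne hn1 with h0 | h2
      · have : n = 0 := by omega
        rw [this, pow_zero] at hKsp
        exact Nat.not_prime_one hKsp
      · exact (Nat.Prime.not_prime_pow (by omega)) hKsp
    rw [hn1, pow_one]
  have hKM : K ≤ M := hKU.hall.1
  have hKP : ∀ k ∈ K, ∀ a ∈ P, k * a * k⁻¹ ∈ P := fun k hk a ha =>
    (mem_normalizer_iff.mp (c.hMP (hKM hk)) a).mp ha
  have htH : t ∣ Nat.card H := c.hxo ▸ c.dvd_card_H c.hxH
  have hcopK : (Nat.card K).Coprime t := by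
    have h1 := Cfsg.Agent.Helper27.BG15.card_K_coprime_card_sigmaCore hKU
    rw [← hFσ] at h1
    exact Nat.Coprime.coprime_dvd_right htH h1
  have hKodd : Odd (Nat.card K) := Cfsg.Agent.Helper27.BG15.odd_card_subgroup hG K
  have hKab : ∀ a ∈ K, ∀ b ∈ K, a * b = b * a := by
    intro a ha b hb
    haveI := hKU.cyclic
    have := (IsCyclic.commGroup (α := ↥K)).mul_comm ⟨a, ha⟩ ⟨b, hb⟩
    exact congrArg Subtype.val this
  have hKKs : ∀ k ∈ K, ∀ z ∈ Ks, k * z = z * k := fun k hk z hz =>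
    mem_centralizer_iff.mp hz.2 k hk
  have hKσ : K ⊓ Cfsg.sigmaCore M = ⊥ :=
    (Subgroup.disjoint_of_coprime_natCard
      (Cfsg.Agent.Helper27.BG15.card_K_coprime_card_sigmaCore hKU)).eq_bot
  have hPσ : P ≤ Cfsg.sigmaCore M := hFσ ▸ c.hPH
  have hfix : ∀ k ∈ K, k ≠ 1 → ∀ a ∈ P, k * a = a * k → a ∈ Ks := by
    intro k hk hk1 a ha hka
    have h1 : a ∈ M ⊓ centralizer ({k} : Set G) := by
      rw [Subgroup.mem_inf]
      refine ⟨c.hPM ha, ?_⟩
      rw [mem_centralizer_iff]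
      intro h hh
      rw [Set.mem_singleton_iff] at hh
      subst hh
      exact hka
    rw [h1354 k hk hk1] at h1
    obtain ⟨k', hk', z, hz, rfl⟩ := mem_sup_of_commute hKKs h1
    have h2 : k' ∈ K ⊓ Cfsg.sigmaCore M := by
      refine ⟨hk', ?_⟩
      have : k' = (k' * z) * z⁻¹ := by group
      rw [this]
      exact (Cfsg.sigmaCore M).mul_mem (hPσ ha) ((Cfsg.sigmaCore M).inv_mem hz.1)
    rw [hKσ, mem_bot] at h2
    rw [h2, one_mul]; exact hz
  have ht2 : t ≠ 2 := by
    rintro rfl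
    have h1 : Odd (Nat.card H) := Cfsg.Agent.Helper27.BG15.odd_card_subgroup hG H
    exact (Nat.not_even_iff_odd.mpr h1) (even_iff_two_dvd.mpr htH)
  have hcyc := c.isCyclic_pPrimeCore hG hPna
  have hΩle := c.card_omega_le hG
  have hxΩ : x ∈ c.omega hG := ⟨c.x_mem_P, rfl, by rw [← c.hxo]; exact pow_orderOf_eq_one x⟩
  have hΩP : c.omega hG ≤ P := fun a ha => ha.1
  by_cases hcen : ∀ z ∈ Ks, ∀ a ∈ P, z * a = a * z
  · -- `K* = Ω₁(Z(P))`
    have hKsΩ : Ks ≤ c.omega hG := by
      intro z hz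
      refine ⟨hKsP hz, hcen z hz x c.x_mem_P, ?_⟩
      have := pow_card_eq_one' (G := ↥Ks) (x := ⟨z, hz⟩)
      rw [hKst] at this
      exact congrArg Subtype.val this
    have hxKs : x ∉ Ks := by
      intro hx
      obtain ⟨y, hy, hxy⟩ := hxZ
      exact hxy (hcen x hx y hy)
    have hT : Ks ⊔ zpowers x ≤ c.omega hG := sup_le hKsΩ (zpowers_le.mpr hxΩ)
    have hne : Ks ≠ Ks ⊔ zpowers x := by
      intro heq
      apply hxKs
      rw [heq]
      exact (le_sup_right : zpowers x ≤ _) (mem_zpowers x)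
    have hTc := sq_le_card_of_lt (c.hPt.to_le (hT.trans hΩP)) hKst le_sup_left hne
    have hTeq : Ks ⊔ zpowers x = c.omega hG :=
      Subgroup.eq_of_le_of_card_ge hT (hΩle.trans hTc)
    have hcfg : Cfsg.Agent.Helper20.PG3.PCfg P Ks K t x :=
      { hP := c.hPt
        hp2 := ht2
        hKP := hKP
        hcop := hcopK
        hKodd := hKodd
        hKab := hKab
        hP₀P := hKsP
        hP₀ := hKst
        hP₀Z := hcen
        hKP₀ := hKKs
        hfix := hfix
        hx := c.x_mem_P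
        hxo := c.hxo
        hxZ := hxZ
        hCab := fun a ha b hb hax hbx => c.C_comm hG (c.hPH ha) (c.hPH hb) hax hbx
        hΩ := by
          intro a ha hax hat
          have haΩ : a ∈ c.omega hG := ⟨ha, hax, hat⟩
          rw [← hTeq] at haΩ
          obtain ⟨z, hz, w, hw, rfl⟩ := mem_sup_of_commute
            (fun z hz w hw => hcen z hz w (zpowers_le.mpr c.x_mem_P hw)) haΩ
          obtain ⟨i, rfl⟩ := exists_pow_of_mem_zpowers hw
          exact ⟨i, z, hz, hcen z hz _ (P.pow_mem c.x_mem_P i)⟩ }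
    rcases hcfg.numerics with h1 | ⟨h1, h2⟩
    · left
      exact ⟨t, htp, htH, h1, hcyc⟩
    · right
      exact ⟨t, htp, htH, by rw [c.card_pCore]; exact h1, h2, hcyc⟩
  · -- `K` acts fixed-point-freely on `Ω₁(Z(P))`
    left
    refine ⟨t, htp, htH, ?_, hcyc⟩
    set Z₀ := omegaCenter P t with hZ₀
    have hP1 : P ≠ ⊥ := by
      intro h
      have := c.x_mem_P
      rw [h, mem_bot] at this
      exact c.x_ne_one this
    have hZ₀1 : Z₀ ≠ ⊥ := omegaCenter_ne_bot c.hPt hP1
    have hZ₀Ω : Z₀ ≤ c.omega hG := by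
      intro z hz
      obtain ⟨hzP, hzC, hzt⟩ := hz
      exact ⟨hzP, (mem_centralizer_iff.mp hzC x c.x_mem_P).symm, hzt⟩
    have hxZ₀ : x ∉ Z₀ := by
      intro hx
      obtain ⟨y, hy, hxy⟩ := hxZ
      exact hxy (mem_centralizer_iff.mp hx.2.1 y hy).symm
    have hZ₀c : Nat.card Z₀ = t := by
      obtain ⟨i, hi⟩ := IsPGroup.iff_card.mp (c.hPt.to_le (omegaCenter_le P t))
      have hi0 : i ≠ 0 := by
        rintro rfl
        rw [pow_zero] at hi
        exact hZ₀1 (Subgroup.card_eq_one.mp hi)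
      have hi2 : i < 2 := by
        by_contra hge
        push Not at hge
        have h1 : t ^ 2 ≤ Nat.card Z₀ := by
          rw [hi]; exact Nat.pow_le_pow_right htp.pos hge
        have h2 : Z₀ = c.omega hG := Subgroup.eq_of_le_of_card_ge hZ₀Ω (hΩle.trans h1)
        exact hxZ₀ (h2 ▸ hxΩ)
      have : i = 1 := by omega
      rw [hi, this, pow_one]
    have hd := Cfsg.Agent.Helper4.card_dvd_ncard_of_free_conj K
      ((Z₀ : Set G) \ ((⊥ : Subgroup G) : Set G))
      (by
        rintro k hk z ⟨hz, hz1⟩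
        refine ⟨conj_mem_omegaCenter (c.hMP (hKM hk)) hz, ?_⟩
        intro h1
        apply hz1
        have h2 : k * z * k⁻¹ = 1 := mem_bot.mp h1
        have : z = 1 := by
          have h3 : z = k⁻¹ * (k * z * k⁻¹) * k := by group
          rw [h3, h2]; group
        exact mem_bot.mpr this)
      (by
        rintro k hk z ⟨hz, hz1⟩ hkz
        by_contra hk1
        have hzKs : z ∈ Ks := hfix k hk hk1 z hz.1 (mul_inv_eq_iff_eq_mul.mp hkz)
        have hz1' : z ≠ 1 := fun h => hz1 (mem_bot.mpr h)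
        apply hcen
        intro w hw a ha
        -- `Ks = ⟨z⟩`
        have hzo : orderOf z = t := by
          have h1 : orderOf z ∣ t := by
            rw [← hKst]
            have h2 : orderOf (⟨z, hzKs⟩ : ↥Ks) = orderOf z := Subgroup.orderOf_mk z hzKs
            rw [← h2]; exact orderOf_dvd_natCard _
          rcases (Nat.dvd_prime htp).mp h1 with h3 | h3
          · exact absurd (orderOf_eq_one_iff.mp h3) hz1'
          · exact h3
        have hzKs' : zpowers z = Ks :=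
          Subgroup.eq_of_le_of_card_ge (zpowers_le.mpr hzKs) (by rw [Nat.card_zpowers, hzo, hKst])
        have hwz : w ∈ zpowers z := hzKs' ▸ hw
        have hwZ₀ : w ∈ Z₀ := (zpowers_le.mpr hz) hwz
        exact (mem_centralizer_iff.mp hwZ₀.2.1 a ha).symm)
    rw [ncard_sdiff_subgroup bot_le, hZ₀c, Subgroup.card_bot] at hd
    exact hd

end Cfsg.Agent.Helper20.BG157V
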