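import Mathlib
import Cfsg.Agent.Helper20.BG15L
import Cfsg.Agent.Helper13.BG15F

/-!
# S1364 with few dependencies

`s1364_of2`: S1364 from St1351, St1354, St1366, St1373, St1426, St1429, St1430, St1431 only, using
helper13's `s1437_of` (B&G 15.2 from St1373, St1426, St1429, St1430) for `K* ≤ M_F` and his
unconditional `fittingHallOf_le_sigmaCore`.  (No S1355, S1356, S1365, S1437 *files* are needed.)
-/

set_option autoImplicit false
set_option linter.unusedSectionVars false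
set_option linter.unusedVariables false

namespace Cfsg.Agent.Helper20.BG15L

open Subgroup Cfsg.Agent.Helper27.BG15

universe u

variable {G : Type u} [Group G] [Finite G]

open Cfsg.Agent.H9.BG12 (sigmaCore_le le_normalizer_sigmaCore)
open Cfsg.Agent.Helper18.BG16B (K_le U_le)

/-- `K* ≤ M_F`, via helper13's `s1437_of`. -/
theorem Kstar_le_fittingHallOf2 (hG : Cfsg.IsMinSimpleOddOrder G) (h1373 : St1373 G)
    (h1426 : St1426 G) (h1429 : St1429 G) (h1430 : St1430 G)
    {M : Subgroup G} (hM : IsCoatom M) {K U : Subgroup G}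
    (hKU : Cfsg.IsSigmaDecomposition M K U) :
    Cfsg.sigmaCore M ⊓ centralizer (K : Set G) ≤ Cfsg.fittingHallOf M := by
  by_cases hne : Cfsg.fittingHallOf M = Cfsg.sigmaCore M
  · rw [hne]; exact inf_le_left
  obtain ⟨-, -, -, hqp, hdvd, -, -⟩ :=
    Cfsg.Agent.Helper13.BG15.s1437_of hG h1373 h1426 h1429 h1430 M hM K U hKU hne
  have hq : Fact (Nat.card ↥(Cfsg.sigmaCore M ⊓ centralizer (K : Set G))).Prime := ⟨hqp⟩
  obtain ⟨Q, hQF, -, -, -, hQmax⟩ := exists_normal_sylow_of_dvd_card_fittingHallOf M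
    (Nat.card ↥(Cfsg.sigmaCore M ⊓ centralizer (K : Set G))) hdvd
  refine le_trans (hQmax _ (inf_le_left.trans (sigmaCore_le M)) ?_) hQF
  exact IsPGroup.of_card (n := 1) (by rw [pow_one])

/-- **S1364**, conditionally, second form. -/
theorem s1364_of2 (hG : Cfsg.IsMinSimpleOddOrder G) (h1351 : St1351 G)
    (h1354 : St1354 G) (h1366 : St1366 G) (h1373 : St1373 G) (h1426 : St1426 G)
    (h1429 : St1429 G) (h1430 : St1430 G) (h1431 : St1431 G) : St1364 G := by
  intro M hM K U hKU hK1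
  obtain ⟨Mstar, ⟨hMs, hKst, hKstH⟩, -⟩ := h1366 M hM K U hKU hK1
  have hcyc : IsCyclic ↥(Cfsg.sigmaCore M ⊓ centralizer (K : Set G)) :=
    (h1351 Mstar hMs).2 _ hKstH
  have hKs1 : Cfsg.sigmaCore M ⊓ centralizer (K : Set G) ≠ ⊥ :=
    (h1354 M hM K hKU.cyclic hKU.hall).1
  have hKsF := Kstar_le_fittingHallOf2 hG h1373 h1426 h1429 h1430 hM hKU
  exact ⟨hcyc, hKs1, hKsF,
    fittingHallOf_not_cyclic hG h1431 hM hKU hK1 hKs1 hKsF
      (Cfsg.Agent.Helper13.BG15.fittingHallOf_le_sigmaCore hG hM)⟩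

end Cfsg.Agent.Helper20.BG15L
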