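import Mathlib
import Cfsg.Agent.Helper20.BG16Ta
import Cfsg.Agent.Helper9.BG12c

set_option autoImplicit false
set_option linter.unusedSectionVars false
set_option linter.unusedVariables false

/-! # B&G §16: type P forces `κ(M) ≠ ∅`, type F forces `K = 1` -/

namespace Cfsg.Agent.Helper20.BG16T

open Subgroup Cfsg
open Cfsg.Agent.Helper14 (cj cj_apply mem_map_cj map_cj_eq_self_of_mem mem_normalizer_iff_map_cj
  IsSylowIn isSylowIn_of_sylow map_cj_normalizer map_cj_le_iff map_cj_inv_map_cj map_cj_map_cj_inv)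
open Cfsg.Agent.H9.BG12 (sigmaCore_le le_normalizer_sigmaCore mem_sigma_of_dvd_card_sigmaCore
  mem_of_map_cj_eq)

universe u

variable {G : Type u} [Group G] [Finite G]

/-- `M` normalizes `M_σ`, elementwise -/
theorem conj_mem_sigmaCore {M : Subgroup G} {m y : G} (hm : m ∈ M) (hy : y ∈ Cfsg.sigmaCore M) :
    m * y * m⁻¹ ∈ Cfsg.sigmaCore M := by
  have h := le_normalizer_sigmaCore M hm
  rw [mem_normalizer_iff_map_cj] at h
  rw [← h]
  exact ⟨y, hy, rfl⟩

/-- Hall `π`-subgroups have order coprime to their index -/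
theorem coprime_of_isPiHallOf {π : Set ℕ} {K M : Subgroup G} (h : Cfsg.IsPiHallOf π K M) :
    (Nat.card K).Coprime (K.relIndex M) :=
  Nat.coprime_of_dvd fun p hp h1 h2 => h.2.2 p hp (h.2.1 p hp h1) h2

/-- type P data force every prime divisor of `|W₁|` into `κ(M)` -/
theorem mem_kappa_of_typeP (h1350 : St1350 G) (h1355 : St1355 G) {M W₁ U W₂ : Subgroup G}
    (hM : IsCoatom M) (hP : Cfsg.IsTypePWith M W₁ U W₂) {q : ℕ} (hq : q.Prime)
    (hqW : q ∣ Nat.card W₁) : q ∈ Cfsg.kappa M := by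
  have : Fact q.Prime := Fact.mk hq
  have hW₁M : W₁ ≤ M := hP.W₁_compl.2.1
  obtain ⟨-, hFσ, hσM', -, -⟩ := h1355 M hM
  refine ⟨hq, dvd_trans hqW (Subgroup.card_dvd_of_le hW₁M), ?_, ?_⟩
  · intro hσ
    -- q divides |M'| since the Sylow q-subgroups of M lie in M_σ ≤ M'
    have hrel : W₁.relIndex M = Nat.card ↥⁅M, M⁆ :=
      relIndex_eq_of_isComplIn (isComplIn_swap hP.W₁_compl)
    have hcop := hP.W₁_hall
    rw [hrel] at hcop
    obtain ⟨hHall, -, -⟩ := h1350 M hM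
    have h1 : ¬ q ∣ (Cfsg.sigmaCore M).relIndex M := hHall.2.2 q hq hσ
    have h2 : q ∣ (Cfsg.sigmaCore M).relIndex M * Nat.card (Cfsg.sigmaCore M) := by
      rw [Cfsg.Agent.Lead.relIndex_mul_card' hHall.1]
      exact dvd_trans hqW (Subgroup.card_dvd_of_le hW₁M)
    have h3 : q ∣ Nat.card (Cfsg.sigmaCore M) := (hq.dvd_mul.mp h2).resolve_left h1
    have h4 : q ∣ Nat.card ↥⁅M, M⁆ := dvd_trans h3 (Subgroup.card_dvd_of_le hσM')
    exact hq.one_lt.ne' (Nat.eq_one_of_dvd_coprimes hcop hqW h4)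
  · obtain ⟨c, hcW, hc1, hall⟩ :=
      exists_conj_mem_sylow_of_cyclic_hall hW₁M hP.W₁_cyclic hP.W₁_hall hqW
    intro P
    obtain ⟨hcyc, m, hm⟩ := hall P
    refine ⟨hcyc, m * c * m⁻¹, hm, ?_, ?_⟩
    · intro h1
      apply hc1
      have : c = m⁻¹ * (m * c * m⁻¹) * m := by group
      rw [this, h1]; group
    · obtain ⟨y₁, hy₁1⟩ := (Subgroup.ne_bot_iff_exists_ne_one).mp hP.selfNormalizing.2.1
      have hy₁' : (y₁ : G) ∈ W₂ := y₁.2
      have hyσ : (y₁ : G) ∈ Cfsg.sigmaCore M := hFσ (hP.W₂_le hy₁').1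
      refine ⟨(m : G) * y₁ * (m : G)⁻¹, conj_mem_sigmaCore m.2 hyσ, ?_, ?_⟩
      · intro h1
        apply hy₁1
        have : (y₁ : G) = (m : G)⁻¹ * ((m : G) * y₁ * (m : G)⁻¹) * (m : G) := by group
        apply Subtype.ext
        rw [this, h1]; simp
      · have hcomm := hP.selfNormalizing.2.2.2.1 (c : G) hcW (y₁ : G) hy₁'
        simp only [Subgroup.coe_mul, Subgroup.coe_inv]
        calc (m : G) * c * (m : G)⁻¹ * ((m : G) * y₁ * (m : G)⁻¹)
            = (m : G) * ((c : G) * y₁) * (m : G)⁻¹ := by group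
          _ = (m : G) * ((y₁ : G) * c) * (m : G)⁻¹ := by rw [hcomm]
          _ = (m : G) * y₁ * (m : G)⁻¹ * ((m : G) * c * (m : G)⁻¹) := by group


/-- if `K ≠ 1` then any Hall `κ(M)`-subgroup `K` is nontrivial as soon as `M` has type P data -/
theorem ne_bot_of_typeP (h1350 : St1350 G) (h1355 : St1355 G) {M W₁ U W₂ K : Subgroup G}
    (hM : IsCoatom M) (hP : Cfsg.IsTypePWith M W₁ U W₂)
    (hK : Cfsg.IsPiHallOf (Cfsg.kappa M) K M) : K ≠ ⊥ := by
  intro hK1
  have hne : Nat.card W₁ ≠ 1 := fun h => hP.W₁_ne (Subgroup.card_eq_one.mp h)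
  obtain ⟨q, hq, hqW⟩ := Nat.exists_prime_and_dvd hne
  have hκ := mem_kappa_of_typeP h1350 h1355 hM hP hq hqW
  have h1 := hK.2.2 q hq hκ
  apply h1
  rw [hK1, Subgroup.relIndex_bot_left]
  exact hκ.2.1

/-- a maximal subgroup of Frobenius type has trivial Hall `κ(M)`-subgroups -/
theorem typeF_K_eq_bot (h1355 : St1355 G) (h1364 : St1364 G) {M K U : Subgroup G}
    (hM : IsCoatom M) (hKU : Cfsg.IsSigmaDecomposition M K U) (hF : Cfsg.IsOfTypeF ↥M) :
    K = ⊥ := by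
  by_contra hK1
  obtain ⟨-, hne, hle, -⟩ := h1364 M hM K U hKU hK1
  have hKM : K ≤ M := hKU.hall.1
  have hne1 : Nat.card K ≠ 1 := fun h => hK1 (Subgroup.card_eq_one.mp h)
  obtain ⟨q, hq, hqK⟩ := Nat.exists_prime_and_dvd hne1
  have : Fact q.Prime := Fact.mk hq
  have hκ : q ∈ Cfsg.kappa M := hKU.hall.2.1 q hq hqK
  obtain ⟨c, hcK, hc1, hall⟩ :=
    exists_conj_mem_sylow_of_cyclic_hall hKM hKU.cyclic (coprime_of_isPiHallOf hKU.hall) hqK
  obtain ⟨-, -, -, -, UF, -, hcompl, -, U0, hU0le, hexp, hfree⟩ := hF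
  -- q does not divide |M_F|
  have hqF : ¬ q ∣ Nat.card (Cfsg.fittingHall ↥M) := by
    intro h
    have h1 : Nat.card (Cfsg.fittingHallOf M) = Nat.card (Cfsg.fittingHall ↥M) :=
      Subgroup.card_map_of_injective (Subgroup.subtype_injective M)
    have h2 : q ∣ Nat.card (Cfsg.sigmaCore M) := by
      refine dvd_trans ?_ (Subgroup.card_dvd_of_le ((h1355 M hM).2.1))
      rw [h1]; exact h
    exact hκ.2.2.1 (mem_sigma_of_dvd_card_sigmaCore hq h2)
  have hcard := hcompl.card_mul_card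
  obtain ⟨a, ha⟩ : ∃ a, a = (Nat.card ↥M).factorization q := ⟨_, rfl⟩
  have hfacUF : (Nat.card ↥UF).factorization q = a := by
    rw [ha, ← hcard, Nat.factorization_mul Nat.card_pos.ne' Nat.card_pos.ne']
    simp [Nat.factorization_eq_zero_of_not_dvd hqF]
  obtain ⟨Q⟩ : Nonempty (Sylow q ↥UF) := inferInstance
  have hQcard : Nat.card ((Q : Subgroup ↥UF).map UF.subtype) =
      q ^ (Nat.card ↥M).factorization q := by
    rw [Subgroup.card_map_of_injective (Subgroup.subtype_injective UF), Sylow.card_eq_multiplicity,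
      hfacUF, ha]
  obtain ⟨hcycP, -⟩ := hall (Sylow.ofCard _ hQcard)
  obtain ⟨w, hw⟩ := hcycP.exists_generator
  have how : orderOf w = q ^ a := by
    rw [orderOf_eq_card_of_forall_mem_zpowers hw, ha]
    exact hQcard
  have hwUF : ((w : ↥M)) ∈ UF := by
    have hwmem : (w : ↥M) ∈ (Q : Subgroup ↥UF).map UF.subtype := w.2
    obtain ⟨z, -, hzw⟩ := hwmem
    rw [← hzw]; exact z.2
  have h1 : q ^ a ∣ Monoid.exponent ↥UF := by
    have := Monoid.order_dvd_exponent (⟨(w : ↥M), hwUF⟩ : ↥UF)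
    rwa [Subgroup.orderOf_mk, Subgroup.orderOf_coe, how] at this
  rw [← hexp] at h1
  obtain ⟨u, hu⟩ := hq.exists_orderOf_eq_pow_factorization_exponent ↥U0
  have hab : a ≤ (Monoid.exponent ↥U0).factorization q :=
    (hq.pow_dvd_iff_le_factorization Monoid.exponent_ne_zero_of_finite).mp h1
  have hou : orderOf (u : ↥M) = q ^ (Monoid.exponent ↥U0).factorization q := by
    rw [Subgroup.orderOf_coe]; exact hu
  have hba : (Monoid.exponent ↥U0).factorization q ≤ a := by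
    rw [ha]
    apply (hq.pow_dvd_iff_le_factorization Nat.card_pos.ne').mp
    rw [← hou]
    exact orderOf_dvd_natCard _
  have hou' : orderOf (u : ↥M) = q ^ a := by rw [hou, le_antisymm hba hab]
  have hcard2 : Nat.card (zpowers (u : ↥M)) = q ^ (Nat.card ↥M).factorization q := by
    rw [Nat.card_zpowers, hou', ha]
  obtain ⟨-, m, hm⟩ := hall (Sylow.ofCard _ hcard2)
  have hm' : m * c * m⁻¹ ∈ zpowers (u : ↥M) := hm
  have hvU0 : m * c * m⁻¹ ∈ U0 := (zpowers_le.mpr u.2) hm'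
  have hv1 : m * c * m⁻¹ ≠ 1 := by
    intro h1
    apply hc1
    have : c = m⁻¹ * (m * c * m⁻¹) * m := by group
    rw [this, h1]; group
  -- a nonidentity element of K* inside M_F
  obtain ⟨y, hy1⟩ := (Subgroup.ne_bot_iff_exists_ne_one).mp hne
  have hyF : (y : G) ∈ Cfsg.fittingHallOf M := hle y.2
  obtain ⟨y', hy'F, hy'y⟩ := hyF
  have hy'1 : y' ≠ 1 := by
    intro h
    apply hy1
    apply Subtype.ext
    rw [← hy'y, h]; rfl
  have hcy : c * y' = y' * c := by
    apply Subtype.ext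
    simp only [Subgroup.coe_mul]
    have hyc : (y : G) ∈ centralizer (K : Set G) := y.2.2
    have h2 : (M.subtype y') = (y : G) := hy'y
    have h3 : ((y' : ↥M) : G) = (y : G) := h2
    rw [h3]
    exact ((Subgroup.mem_centralizer_iff.mp hyc) (c : G) hcK)
  have hx : m * y' * m⁻¹ ∈ Cfsg.fittingHall ↥M :=
    (Cfsg.fittingHall_normal ↥M).conj_mem y' hy'F m
  have hcomm : m * c * m⁻¹ * (m * y' * m⁻¹) = m * y' * m⁻¹ * (m * c * m⁻¹) := by
    calc m * c * m⁻¹ * (m * y' * m⁻¹) = m * (c * y') * m⁻¹ := by group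
      _ = m * (y' * c) * m⁻¹ := by rw [hcy]
      _ = m * y' * m⁻¹ * (m * c * m⁻¹) := by group
  have hx1 := hfree _ hvU0 hv1 _ hx hcomm
  apply hy'1
  have : y' = m⁻¹ * (m * y' * m⁻¹) * m := by group
  rw [this, hx1]; group

end Cfsg.Agent.Helper20.BG16T
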