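import Mathlib
import Cfsg.Agent.Helper20.BG16Tb

set_option autoImplicit false
set_option linter.unusedSectionVars false
set_option linter.unusedVariables false

/-! # B&G §16: standard factorisations versus type P data -/

namespace Cfsg.Agent.Helper20.BG16T

open Subgroup Cfsg
open Cfsg.Agent.Helper14 (cj cj_apply mem_map_cj map_cj_eq_self_of_mem mem_normalizer_iff_map_cj
  IsSylowIn isSylowIn_of_sylow map_cj_normalizer map_cj_le_iff map_cj_inv_map_cj map_cj_map_cj_inv)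
open Cfsg.Agent.H9.BG12 (sigmaCore_le le_normalizer_sigmaCore mem_sigma_of_dvd_card_sigmaCore
  mem_of_map_cj_eq)

universe u

variable {G : Type u} [Group G] [Finite G]

/-- a standard factorisation exists -/
theorem exists_decomp (h1351 : St1351 G) (h1352 : St1352 G) {M : Subgroup G} (hM : IsCoatom M) :
    ∃ K U : Subgroup G, Cfsg.IsSigmaDecomposition M K U := by
  obtain ⟨⟨K, hK⟩, hcyc⟩ := h1351 M hM
  obtain ⟨⟨U, hU⟩, -⟩ := h1352 M hM K (hcyc K hK) hK
  exact ⟨K, U, hU⟩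

theorem map_cj_sigmaCore {M : Subgroup G} {m : G} (hm : m ∈ M) :
    (Cfsg.sigmaCore M).map (cj m) = Cfsg.sigmaCore M :=
  mem_normalizer_iff_map_cj.mp (le_normalizer_sigmaCore M hm)

/-- conjugating a standard factorisation by an element of `M` -/
theorem isSigmaDecomposition_map_cj {M K U : Subgroup G} {m : G} (hm : m ∈ M)
    (h : Cfsg.IsSigmaDecomposition M K U) :
    Cfsg.IsSigmaDecomposition M (K.map (cj m)) (U.map (cj m)) := by
  have hMm : M.map (cj m) = M := map_cj_eq_self_of_mem hm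
  refine ⟨?_, ?_, ?_, ?_⟩
  · have := h.cyclic
    exact isCyclic_of_surjective (K.equivMapOfInjective (cj m) (Cfsg.Agent.Helper14.cj_injective m))
      (K.equivMapOfInjective (cj m) (Cfsg.Agent.Helper14.cj_injective m)).surjective
  · exact Cfsg.Agent.Lead.isPiHallOf_conj (Subgroup.le_normalizer hm) h.hall
  · have := isComplIn_map_cj h.compl m
    rwa [Subgroup.map_sup, map_cj_sigmaCore hm, hMm] at this
  · rw [← map_cj_normalizer]
    exact map_mono h.normal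

/-- with `K = 1` the complement `U` is nontrivial -/
theorem U_ne_bot_of_K_eq_bot (h1355 : St1355 G) {M K U : Subgroup G} (hM : IsCoatom M)
    (hKU : Cfsg.IsSigmaDecomposition M K U) (hK : K = ⊥) : U ≠ ⊥ := by
  intro hU
  obtain ⟨-, -, hσM', hlt, -⟩ := h1355 M hM
  apply lt_irrefl M
  refine lt_of_le_of_lt ?_ hlt
  intro m hm
  obtain ⟨a, ha, b, hb, rfl⟩ := hKU.compl.2.2.2 m hm
  rw [hU, Subgroup.mem_bot] at ha
  rw [hK, bot_sup_eq] at hb
  rw [ha, one_mul]
  exact hσM' hb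

/-- if `U ≠ 1` then `M_F = M_σ` -/
theorem fittingHallOf_eq_of_U_ne_bot (h1357 : St1357 G) {M K U : Subgroup G} (hM : IsCoatom M)
    (hKU : Cfsg.IsSigmaDecomposition M K U) (hU : U ≠ ⊥) :
    Cfsg.fittingHallOf M = Cfsg.sigmaCore M := by
  by_contra hne
  exact hU (h1357 M hM K U hKU hne).1

/-- a nontrivial nilpotent Hall subgroup of `M_σ` has its normalizer in `M` -/
theorem normalizer_le_of_nilpotent_hall (h1350 : St1350 G) {M L : Subgroup G} (hM : IsCoatom M)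
    (hL : L ≤ Cfsg.sigmaCore M) (hcop : (Nat.card L).Coprime (L.relIndex (Cfsg.sigmaCore M)))
    (hnil : Group.IsNilpotent L) (hL1 : L ≠ ⊥) : normalizer (L : Set G) ≤ M := by
  have hne : Nat.card L ≠ 1 := fun h => hL1 (Subgroup.card_eq_one.mp h)
  obtain ⟨r, hr, hrL⟩ := Nat.exists_prime_and_dvd hne
  have : Fact r.Prime := Fact.mk hr
  obtain ⟨hHall, -, -⟩ := h1350 M hM
  have hrσ : r ∣ Nat.card (Cfsg.sigmaCore M) := dvd_trans hrL (Subgroup.card_dvd_of_le hL)
  obtain ⟨R, hR⟩ := Cfsg.Agent.Helper14.exists_isSylowIn (p := r) L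
  have hR2 : IsSylowIn r R (Cfsg.sigmaCore M) := isSylowIn_of_hall hL hcop hrL hR
  have hR3 : IsSylowIn r R M :=
    isSylowIn_of_hall hHall.1 (coprime_of_isPiHallOf hHall) hrσ hR2
  have hNR := normalizer_le_of_mem_sigma (mem_sigma_of_dvd_card_sigmaCore hr hrσ) hR3
  refine le_trans ?_ hNR
  intro g hg
  rw [mem_normalizer_iff_map_cj] at hg ⊢
  have h1 : IsSylowIn r (R.map (cj g)) L := by
    have := hR.map_cj g
    rwa [hg] at this
  obtain ⟨l, hl, hlR⟩ := hR.exists_conj h1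
  rw [hlR]
  -- `R` is normal in `L`
  have hn : ((hR.toSylow : Sylow r ↥L) : Subgroup ↥L).Normal := inferInstance
  have h2 := Cfsg.Agent.Helper14.sylow_smul_map L hR.toSylow ⟨l, hl⟩
  rw [Sylow.smul_eq_of_normal, hR.toSylow_map] at h2
  exact h2.symm


/-- `N` and a subgroup `H` normalizing it and meeting it trivially are complements in `N ⊔ H` -/
theorem isComplIn_of_normalizes {N H : Subgroup G} (hLE : H ≤ normalizer (N : Set G))
    (hd : N ⊓ H = ⊥) : Cfsg.IsComplIn N H (N ⊔ H) := by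
  refine ⟨le_sup_left, le_sup_right, hd, ?_⟩
  intro m hm
  have h := Subgroup.coe_mul_of_right_le_normalizer_left N H hLE
  have hm' : m ∈ ((N ⊔ H : Subgroup G) : Set G) := hm
  rw [h] at hm'
  obtain ⟨a, ha, b, hb, hab⟩ := hm'
  exact ⟨a, ha, b, hb, hab.symm⟩

theorem solvable_of_le {A B : Subgroup G} (h : A ≤ B) (hB : Group.IsSolvable B) :
    Group.IsSolvable A :=
  Group.isSolvable_of_isSolvable_injective (Subgroup.inclusion_injective h)

/-- for `K ≠ 1`, `U` is a complement to `M_σ` in `M'` -/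
theorem isComplIn_sigmaCore_U (h1365 : St1365 G) {M K U : Subgroup G} (hM : IsCoatom M)
    (hKU : Cfsg.IsSigmaDecomposition M K U) (hK1 : K ≠ ⊥) :
    Cfsg.IsComplIn (Cfsg.sigmaCore M) U ⁅M, M⁆ := by
  obtain ⟨hM', -⟩ := h1365 M hM K U hKU hK1
  rw [hM', sup_comm]
  apply isComplIn_of_normalizes (hKU.compl.1.trans (le_normalizer_sigmaCore M))
  rw [eq_bot_iff, ← hKU.compl.2.2.1]
  exact le_inf inf_le_right (inf_le_left.trans le_sup_right)

/-- if `K ≠ 1` and `U ≠ 1`, the group `U'` of any type P data is `M`-conjugate to `U` -/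
theorem typeP_U_conj (hG : Cfsg.IsMinSimpleOddOrder G) (h1350 : St1350 G) (h1357 : St1357 G)
    (h1365 : St1365 G)
    {M K U W₁ U' W₂ : Subgroup G} (hM : IsCoatom M) (hKU : Cfsg.IsSigmaDecomposition M K U)
    (hK1 : K ≠ ⊥) (hU : U ≠ ⊥) (hP : Cfsg.IsTypePWith M W₁ U' W₂) :
    ∃ m ∈ M, U.map (cj m) = U' := by
  have hF := fittingHallOf_eq_of_U_ne_bot h1357 hM hKU hU
  have h1 := isComplIn_sigmaCore_U h1365 hM hKU hK1
  have h2 := hP.U_compl
  rw [hF] at h2
  obtain ⟨hHall, -, -⟩ := h1350 M hM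
  have hM'M : ⁅M, M⁆ ≤ M := Subgroup.commutator_le_self M
  have hcop : (Nat.card (Cfsg.sigmaCore M)).Coprime ((Cfsg.sigmaCore M).relIndex ⁅M, M⁆) := by
    apply Nat.Coprime.coprime_dvd_right _ (coprime_of_isPiHallOf hHall)
    exact ⟨_, (Subgroup.relIndex_mul_relIndex _ _ _ h1.1 hM'M).symm⟩
  obtain ⟨m, hm, hmU⟩ := compl_conj (solvable_of_le hM'M (solvable_of_coatom hG hM)) hcop h1 h2
  exact ⟨m, hM'M hm, hmU⟩

/-- if `K ≠ 1` and `U ≠ 1`, the group `U'` of any type P data is nontrivial and its normalizer is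
not contained in `M` -/
theorem typeP_of_U_ne_bot (hG : Cfsg.IsMinSimpleOddOrder G) (h1350 : St1350 G) (h1357 : St1357 G)
    (h1363 : St1363 G) (h1365 : St1365 G)
    {M K U W₁ U' W₂ : Subgroup G} (hM : IsCoatom M) (hKU : Cfsg.IsSigmaDecomposition M K U)
    (hK1 : K ≠ ⊥) (hU : U ≠ ⊥) (hP : Cfsg.IsTypePWith M W₁ U' W₂) :
    U' ≠ ⊥ ∧ ¬ normalizer (U' : Set G) ≤ M := by
  obtain ⟨m, hm, hmU⟩ := typeP_U_conj hG h1350 h1357 h1365 hM hKU hK1 hU hP
  constructor
  · rw [← hmU]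
    intro h
    exact hU ((Subgroup.map_eq_bot_iff_of_injective U (Cfsg.Agent.Helper14.cj_injective m)).mp h)
  · intro hN
    apply (h1363 M hM K U hKU hK1).2
    rw [← hmU, ← map_cj_normalizer, map_cj_le_iff, map_cj_eq_self_of_mem (inv_mem hm)] at hN
    exact hN

/-- if `K ≠ 1` and `U = 1`, the group `U'` of any type P data is trivial or has its normalizer
in `M` -/
theorem typeP_of_U_eq_bot (h1350 : St1350 G) (h1365 : St1365 G)
    {M K U W₁ U' W₂ : Subgroup G} (hM : IsCoatom M) (hKU : Cfsg.IsSigmaDecomposition M K U)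
    (hK1 : K ≠ ⊥) (hU : U = ⊥) (hP : Cfsg.IsTypePWith M W₁ U' W₂) :
    ⁅M, M⁆ = Cfsg.sigmaCore M ∧ (U' = ⊥ ∨ normalizer (U' : Set G) ≤ M) := by
  obtain ⟨hM', -⟩ := h1365 M hM K U hKU hK1
  rw [hU, bot_sup_eq] at hM'
  refine ⟨hM', ?_⟩
  by_cases hU' : U' = ⊥
  · exact Or.inl hU'
  · right
    have h2 := hP.U_compl
    rw [hM'] at h2
    apply normalizer_le_of_nilpotent_hall h1350 hM h2.2.1 _ hP.U_nilpotent hU'
    rw [relIndex_eq_of_isComplIn (isComplIn_swap h2)]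
    exact Cfsg.Agent.Helper23.typeP_card_U_coprime hP


/-- Type II forces `K ≠ 1` and `U ≠ 1` -/
theorem ne_bot_of_typeII (h1350 : St1350 G) (h1355 : St1355 G) (h1365 : St1365 G)
    {M K U : Subgroup G} (hM : IsCoatom M) (hKU : Cfsg.IsSigmaDecomposition M K U)
    (hII : Cfsg.IsOfTypeII M) : K ≠ ⊥ ∧ U ≠ ⊥ := by
  obtain ⟨W₁, U', W₂, hP, hU'1, -, -, -, hN, -⟩ := hII
  have hK1 := ne_bot_of_typeP h1350 h1355 hM hP hKU.hall
  refine ⟨hK1, fun hU => ?_⟩
  rcases (typeP_of_U_eq_bot h1350 h1365 hM hKU hK1 hU hP).2 with h | h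
  · exact hU'1 h
  · exact hN h

/-- Types III and IV force `K ≠ 1`, `U = 1` and `M' = M_σ` -/
theorem eq_bot_of_typeIII_IV (hG : Cfsg.IsMinSimpleOddOrder G) (h1350 : St1350 G)
    (h1355 : St1355 G) (h1357 : St1357 G) (h1363 : St1363 G) (h1365 : St1365 G)
    {M K U : Subgroup G} (hM : IsCoatom M) (hKU : Cfsg.IsSigmaDecomposition M K U)
    (h : Cfsg.IsOfTypeIII M ∨ Cfsg.IsOfTypeIV M) :
    K ≠ ⊥ ∧ U = ⊥ ∧ ⁅M, M⁆ = Cfsg.sigmaCore M := by
  obtain ⟨W₁, U', W₂, hP, hU'1, hN⟩ : ∃ W₁ U' W₂ : Subgroup G, Cfsg.IsTypePWith M W₁ U' W₂ ∧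
      U' ≠ ⊥ ∧ normalizer (U' : Set G) ≤ M := by
    rcases h with ⟨W₁, U', W₂, hP, hU'1, -, -, -, hN⟩ | ⟨W₁, U', W₂, hP, hU'1, -, -, -, hN⟩
    · exact ⟨W₁, U', W₂, hP, hU'1, hN⟩
    · exact ⟨W₁, U', W₂, hP, hU'1, hN⟩
  have hK1 := ne_bot_of_typeP h1350 h1355 hM hP hKU.hall
  have hU : U = ⊥ := by
    by_contra hU
    exact (typeP_of_U_ne_bot hG h1350 h1357 h1363 h1365 hM hKU hK1 hU hP).2 hN
  exact ⟨hK1, hU, (typeP_of_U_eq_bot h1350 h1365 hM hKU hK1 hU hP).1⟩

theorem centralizer_closure_eq (X : Set G) :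
    centralizer ((Subgroup.closure X : Subgroup G) : Set G) = centralizer X := by
  apply le_antisymm (Subgroup.centralizer_le Subgroup.subset_closure)
  intro g hg
  rw [Subgroup.mem_centralizer_iff]
  intro y hy
  have hle : Subgroup.closure X ≤ centralizer ({g} : Set G) := by
    rw [Subgroup.closure_le]
    intro x hx
    rw [SetLike.mem_coe, Subgroup.mem_centralizer_iff]
    intro z hz
    rw [Set.mem_singleton_iff] at hz
    subst hz
    exact ((Subgroup.mem_centralizer_iff.mp hg) x hx).symm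
  exact ((Subgroup.mem_centralizer_iff.mp (hle hy)) g rfl).symm

end Cfsg.Agent.Helper20.BG16T
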