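import Mathlib
import Cfsg.Agent.Helper20.BG16Tc

set_option autoImplicit false
set_option linter.unusedSectionVars false
set_option linter.unusedVariables false

/-! # B&G §16: Theorem II, parts (S1389, S1390), relative to the frozen statements of Theorems A–C -/

namespace Cfsg.Agent.Helper20.BG16T

open Subgroup Cfsg
open Cfsg.Agent.Helper14 (cj cj_apply mem_map_cj map_cj_eq_self_of_mem mem_normalizer_iff_map_cj
  IsSylowIn isSylowIn_of_sylow map_cj_normalizer map_cj_le_iff map_cj_inv_map_cj map_cj_map_cj_inv)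
open Cfsg.Agent.H9.BG12 (sigmaCore_le le_normalizer_sigmaCore mem_sigma_of_dvd_card_sigmaCore
  mem_of_map_cj_eq)

universe u

variable {G : Type u} [Group G] [Finite G]

/-- the three conclusions of S1390 for a standard factorisation with `M_F = M_σ`, with `A(M)` and
`A₁(M)` replaced by explicit sets -/
theorem s1390_core (h1358 : St1358 G) (h1361 : St1361 G) (h1362 : St1362 G)
    {M K U : Subgroup G} (hM : IsCoatom M) (hKU : Cfsg.IsSigmaDecomposition M K U)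
    (hF : Cfsg.fittingHallOf M = Cfsg.sigmaCore M) :
    (∀ (p : ℕ), p.Prime → ∀ P : Sylow p U, IsMulCommutative (P : Subgroup U) ∧ Cfsg.PRankLE p 2 (P : Subgroup U)) ∧
      (∀ X : Set G, X ⊆ (U : Set G) \ {1} → X.Nonempty → Cfsg.fittingHallOf M ⊓ Subgroup.centralizer X ≠ ⊥ →
        Subgroup.centralizer X ≤ M ∧ ∀ L : Subgroup G, IsCoatom L → Subgroup.centralizer X ≤ L → L = M) ∧
      Cfsg.IsTISubset (Cfsg.sigmaA M U \ (Cfsg.sigmaCore M : Set G)) := by
  refine ⟨h1358 M hM K U hKU, ?_, h1362 M hM K U hKU⟩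
  intro X hXU hXne hXc
  have h := h1361 M hM K U hKU (Subgroup.closure X)
    ((Subgroup.closure_le U).mpr (fun x hx => (hXU hx).1))
    (by
      obtain ⟨x, hx⟩ := hXne
      intro hbot
      have h1 : x ∈ Subgroup.closure X := Subgroup.subset_closure hx
      rw [hbot, Subgroup.mem_bot] at h1
      exact (hXU hx).2 h1)
    (by rw [centralizer_closure_eq, ← hF]; exact hXc)
  rw [centralizer_closure_eq] at h
  exact h


theorem coprime_sigmaCore_relIndex_commutator (h1350 : St1350 G) (h1355 : St1355 G)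
    {M : Subgroup G} (hM : IsCoatom M) :
    (Nat.card (Cfsg.sigmaCore M)).Coprime ((Cfsg.sigmaCore M).relIndex ⁅M, M⁆) := by
  obtain ⟨hHall, -, -⟩ := h1350 M hM
  apply Nat.Coprime.coprime_dvd_right _ (coprime_of_isPiHallOf hHall)
  exact ⟨_, (Subgroup.relIndex_mul_relIndex _ _ _ (h1355 M hM).2.2.1
    (Subgroup.commutator_le_self M)).symm⟩

/-- **S1390** relative to the frozen statements it rests on -/
theorem s1390_of (hG : Cfsg.IsMinSimpleOddOrder G) (h1350 : St1350 G) (h1351 : St1351 G)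
    (h1352 : St1352 G) (h1355 : St1355 G) (h1357 : St1357 G) (h1358 : St1358 G)
    (h1361 : St1361 G) (h1362 : St1362 G) (h1363 : St1363 G) (h1364 : St1364 G)
    (h1365 : St1365 G) {M : Subgroup G} (hM : IsCoatom M) (U : Subgroup G)
    (hU : (Cfsg.IsOfTypeI M ∧ Cfsg.IsComplIn (Cfsg.fittingHallOf M) U M) ∨ (Cfsg.IsOfTypeII M ∧ Cfsg.IsComplIn (Cfsg.fittingHallOf M) U ⁅M, M⁆)) :
    (∀ (p : ℕ), p.Prime → ∀ P : Sylow p U, IsMulCommutative (P : Subgroup U) ∧ Cfsg.PRankLE p 2 (P : Subgroup U)) ∧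
      (∀ X : Set G, X ⊆ (U : Set G) \ {1} → X.Nonempty → Cfsg.fittingHallOf M ⊓ Subgroup.centralizer X ≠ ⊥ →
        Subgroup.centralizer X ≤ M ∧ ∀ L : Subgroup G, IsCoatom L → Subgroup.centralizer X ≤ L → L = M) ∧
      Cfsg.IsTISubset (Cfsg.typeA M \ Cfsg.typeA1 M) := by
  obtain ⟨K₀, U₀, hKU₀⟩ := exists_decomp h1351 h1352 hM
  obtain ⟨hHall, -, -⟩ := h1350 M hM
  rcases hU with ⟨hI, hc⟩ | ⟨hII, hc⟩
  · have hK := typeF_K_eq_bot h1355 h1364 hM hKU₀ hI.1
    have hU₀ := U_ne_bot_of_K_eq_bot h1355 hM hKU₀ hK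
    have hF := fittingHallOf_eq_of_U_ne_bot h1357 hM hKU₀ hU₀
    have hc0 : Cfsg.IsComplIn (Cfsg.sigmaCore M) U₀ M := by
      have := isComplIn_swap hKU₀.compl
      rwa [hK, bot_sup_eq] at this
    rw [hF] at hc
    obtain ⟨m, hm, hmU⟩ := compl_conj (solvable_of_coatom hG hM) (coprime_of_isPiHallOf hHall) hc0 hc
    have hKU := isSigmaDecomposition_map_cj hm hKU₀
    rw [hmU] at hKU
    obtain ⟨c1, c2, c3⟩ := s1390_core h1358 h1361 h1362 hM hKU hF
    refine ⟨c1, c2, ?_⟩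
    have hnot : ¬ (Cfsg.IsOfTypeIII M ∨ Cfsg.IsOfTypeIV M) := fun h =>
      (eq_bot_of_typeIII_IV hG h1350 h1355 h1357 h1363 h1365 hM hKU₀ h).1 hK
    have hsup : U ⊔ Cfsg.sigmaCore M = M := by rw [sup_comm]; exact isComplIn_sup hc
    have hset : Cfsg.typeA M \ Cfsg.typeA1 M = Cfsg.sigmaA M U \ (Cfsg.sigmaCore M : Set G) := by
      unfold Cfsg.typeA Cfsg.typeA1 Cfsg.typeCore Cfsg.sigmaA Cfsg.sigmaHat
      rw [if_pos hI, if_neg hnot, hF, hsup]
      ext a
      simp only [Set.mem_sdiff, Set.mem_ofPred_eq, Set.mem_inter_iff, SetLike.mem_coe,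
        Set.mem_singleton_iff]
      constructor
      · rintro ⟨⟨haM, ha1, hx⟩, hn⟩
        exact ⟨⟨⟨haM, hx⟩, haM⟩, fun h => hn ⟨h, ha1⟩⟩
      · rintro ⟨⟨⟨haM, hx⟩, -⟩, hn⟩
        refine ⟨⟨haM, ?_, hx⟩, fun h => hn h.1⟩
        rintro rfl
        exact hn (one_mem _)
    rw [hset]; exact c3
  · obtain ⟨hK1, hU₀⟩ := ne_bot_of_typeII h1350 h1355 h1365 hM hKU₀ hII
    have hF := fittingHallOf_eq_of_U_ne_bot h1357 hM hKU₀ hU₀
    have hc0 := isComplIn_sigmaCore_U h1365 hM hKU₀ hK1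
    rw [hF] at hc
    have hM'M : ⁅M, M⁆ ≤ M := Subgroup.commutator_le_self M
    obtain ⟨m, hm, hmU⟩ := compl_conj (solvable_of_le hM'M (solvable_of_coatom hG hM))
      (coprime_sigmaCore_relIndex_commutator h1350 h1355 hM) hc0 hc
    have hKU := isSigmaDecomposition_map_cj (hM'M hm) hKU₀
    rw [hmU] at hKU
    obtain ⟨c1, c2, c3⟩ := s1390_core h1358 h1361 h1362 hM hKU hF
    refine ⟨c1, c2, ?_⟩
    have hnotI : ¬ Cfsg.IsOfTypeI M := fun h => hK1 (typeF_K_eq_bot h1355 h1364 hM hKU₀ h.1)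
    have hnot : ¬ (Cfsg.IsOfTypeIII M ∨ Cfsg.IsOfTypeIV M) := fun h =>
      hU₀ (eq_bot_of_typeIII_IV hG h1350 h1355 h1357 h1363 h1365 hM hKU₀ h).2.1
    have hsup : U ⊔ Cfsg.sigmaCore M = ⁅M, M⁆ := by rw [sup_comm]; exact isComplIn_sup hc
    have hset : Cfsg.typeA M \ Cfsg.typeA1 M = Cfsg.sigmaA M U \ (Cfsg.sigmaCore M : Set G) := by
      unfold Cfsg.typeA Cfsg.typeA1 Cfsg.typeCore Cfsg.sigmaA Cfsg.sigmaHat
      rw [if_neg hnotI, if_neg hnot, hF, hsup]
      ext a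
      simp only [Set.mem_sdiff, Set.mem_ofPred_eq, Set.mem_inter_iff, SetLike.mem_coe,
        Set.mem_singleton_iff]
      constructor
      · rintro ⟨⟨haM, ha1, hx⟩, hn⟩
        exact ⟨⟨⟨hM'M haM, hx⟩, haM⟩, fun h => hn ⟨h, ha1⟩⟩
      · rintro ⟨⟨⟨-, hx⟩, haM'⟩, hn⟩
        refine ⟨⟨haM', ?_, hx⟩, fun h => hn h.1⟩
        rintro rfl
        exact hn (one_mem _)
    rw [hset]; exact c3


/-- Hall subgroups of `M_σ`: Sylow normalizers lie in `M`, and they are Hall subgroups of `G` -/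
theorem hall_sigmaCore_props (h1350 : St1350 G) {M L : Subgroup G} (hM : IsCoatom M)
    (hL : L ≤ Cfsg.sigmaCore M) (hcop : (Nat.card L).Coprime (L.relIndex (Cfsg.sigmaCore M))) :
    (∀ (p : ℕ), p.Prime → ∀ (P : Sylow p ↥L), (P : Subgroup ↥L) ≠ ⊥ →
        Subgroup.normalizer ((((P : Subgroup ↥L).map L.subtype : Subgroup G)) : Set G) ≤ M) ∧
      (Nat.card L).Coprime L.index := by
  obtain ⟨hHall, hHallG, -⟩ := h1350 M hM
  constructor
  · intro p hp P hP1
    have : Fact p.Prime := Fact.mk hp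
    have hpL : p ∣ Nat.card L := by
      have h1 : Nat.card (P : Subgroup ↥L) ≠ 1 := fun h => hP1 (Subgroup.card_eq_one.mp h)
      obtain ⟨k, hk⟩ := IsPGroup.iff_card.mp P.isPGroup'
      have hk0 : k ≠ 0 := by
        rintro rfl
        exact h1 (by rw [hk, pow_zero])
      have h2 : p ∣ Nat.card (P : Subgroup ↥L) := by rw [hk]; exact dvd_pow_self p hk0
      exact dvd_trans h2 (Subgroup.card_subgroup_dvd_card _)
    have hpσ : p ∣ Nat.card (Cfsg.sigmaCore M) := dvd_trans hpL (Subgroup.card_dvd_of_le hL)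
    have h1 := isSylowIn_of_hall hL hcop hpL (isSylowIn_of_sylow P)
    have h2 := isSylowIn_of_hall hHall.1 (coprime_of_isPiHallOf hHall) hpσ h1
    exact normalizer_le_of_mem_sigma (mem_sigma_of_dvd_card_sigmaCore hp hpσ) h2
  · rw [← Subgroup.relIndex_mul_index hL]
    apply Nat.Coprime.mul_right hcop
    apply Nat.coprime_of_dvd
    intro p hp h1 h2
    have hpσ : p ∣ Nat.card (Cfsg.sigmaCore M) := dvd_trans h1 (Subgroup.card_dvd_of_le hL)
    exact hHallG.2 p hp (mem_sigma_of_dvd_card_sigmaCore hp hpσ) h2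

/-- **S1389** relative to the frozen statements it rests on -/
theorem s1389_of (hG : Cfsg.IsMinSimpleOddOrder G) (h1350 : St1350 G) (h1351 : St1351 G)
    (h1352 : St1352 G) (h1355 : St1355 G) (h1357 : St1357 G) (h1363 : St1363 G)
    (h1365 : St1365 G) {M : Subgroup G} (hM : IsCoatom M) :
    (∀ (p : ℕ), p.Prime → ∀ (P : Sylow p ↥(Cfsg.typeCore M)), (P : Subgroup ↥(Cfsg.typeCore M)) ≠ ⊥ →
        Subgroup.normalizer ((((P : Subgroup ↥(Cfsg.typeCore M)).map (Cfsg.typeCore M).subtype : Subgroup G)) : Set G) ≤ M) ∧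
      (Nat.card (Cfsg.fittingHallOf M)).Coprime (Cfsg.fittingHallOf M).index ∧
      (Nat.card (Cfsg.typeCore M)).Coprime (Cfsg.typeCore M).index := by
  obtain ⟨K₀, U₀, hKU₀⟩ := exists_decomp h1351 h1352 hM
  have hFσ : Cfsg.fittingHallOf M ≤ Cfsg.sigmaCore M := (h1355 M hM).2.1
  have hFcop : (Nat.card (Cfsg.fittingHallOf M)).Coprime
      ((Cfsg.fittingHallOf M).relIndex (Cfsg.sigmaCore M)) := by
    apply Nat.Coprime.coprime_dvd_right _ (fittingHallOf_coprime_relIndex M)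
    exact ⟨_, (Subgroup.relIndex_mul_relIndex _ _ _ hFσ (sigmaCore_le M)).symm⟩
  obtain ⟨L, hL, hLσ, hLcop⟩ : ∃ L, Cfsg.typeCore M = L ∧ L ≤ Cfsg.sigmaCore M ∧
      (Nat.card L).Coprime (L.relIndex (Cfsg.sigmaCore M)) := by
    unfold Cfsg.typeCore
    by_cases h : Cfsg.IsOfTypeIII M ∨ Cfsg.IsOfTypeIV M
    · rw [if_pos h]
      have hM' := (eq_bot_of_typeIII_IV hG h1350 h1355 h1357 h1363 h1365 hM hKU₀ h).2.2
      refine ⟨_, rfl, hM'.le, ?_⟩
      rw [hM', Subgroup.relIndex_self]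
      exact Nat.coprime_one_right _
    · rw [if_neg h]
      exact ⟨_, rfl, hFσ, hFcop⟩
  subst hL
  have h1 := hall_sigmaCore_props h1350 hM hLσ hLcop
  have h2 := hall_sigmaCore_props h1350 hM hFσ hFcop
  exact ⟨h1.1, h2.2, h1.2⟩

end Cfsg.Agent.Helper20.BG16T
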