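import Mathlib
import Cfsg.Agent.Helper28.BTDefs
import Cfsg.Agent.Helper6.Chev.TablesBN
import Cfsg.Agent.Helper18.BTLEV
import Cfsg.Agent.Helper8.BTWACT
import Cfsg.Agent.Helper28.BTTAB1

set_option autoImplicit false

/-!
# S2154 piece STAB1: the Borel subgroup preserves the filtration of a dominant weight vector
-/

namespace Cfsg.Agent.Helper20.BT

open Cfsg.Lie Cfsg.Agent.Helper6 Cfsg.Agent.Helper28.BT

variable {D : ChevalleyDatum} {F : Type*} [Field F]

/-- STAB1 -/
theorem borel_le_GrPar (hD : IsTabulated D) {μ : Fin D.rank → ℝ} (hdom : Dominant D μ) :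
    D.borelSubgroup F ≤ GrPar (degI D μ) := by
  have Δ := bnData_of_tabulated F hD
  unfold ChevalleyDatum.borelSubgroup
  apply sup_le
  · unfold ChevalleyDatum.posUnipotent
    rw [Subgroup.closure_le]
    rintro g ⟨r, t, hr, hg⟩
    have hgx : g = xU Δ.hB r t := Units.ext hg
    rw [hgx]
    exact GrFil_le_GrPar _ _ (Cfsg.Agent.Helper18.BT.xU_mem_GrFil Δ μ hr.1
      (Cfsg.Agent.Helper28.BT.lev_nonneg_of_dominant hD hdom hr) t)
  · exact (Cfsg.Agent.Helper18.BT.diagonal_le_Gr0 Δ μ).trans (Gr0_le_GrPar _)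

end Cfsg.Agent.Helper20.BT
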