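import Mathlib
import Cfsg.Agent.Helper28.BTDefs
import Cfsg.Agent.Helper6.Chev.TablesBN
import Cfsg.Agent.Helper6.Chev.WeylChain
import Cfsg.Agent.Helper6.Chev.ParabGen
import Cfsg.Agent.Helper18.BTLEV
import Cfsg.Agent.Helper8.BTWACT
import Cfsg.Agent.Helper28.BTTAB1
import Cfsg.Agent.Helper20.BTSTAB1

set_option autoImplicit false

/-!
# S2154 piece STAB2: the stabilizer of the filtration of a dominant weight vector lies in the
standard parabolic subgroup of its zero set
-/

namespace Cfsg.Agent.Helper20.BT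

open Cfsg.Lie Cfsg.Agent.Helper6 Cfsg.Agent.Helper28.BT

variable {D : ChevalleyDatum} {F : Type*} [Field F]

theorem degI_neg (μ : Fin D.rank → ℝ) (a : D.Idx) : degI D (-μ) a = - degI D μ a := by
  have h : -μ = (-1 : ℝ) • μ := by
    ext k; simp
  rw [h, degI_smul]; ring

/-- `Tr n d d'` and `n ∈ GrPar d` force `d' = d` -/
theorem Tr_eq_of_mem_GrPar {ι : Type*} [Fintype ι] [DecidableEq ι] {n : GL ι F} {d d' : ι → ℝ}
    (h : Tr n d d') (hn : n ∈ GrPar d) : d' = d := by
  have hone : ∀ a : ι, ((n : Matrix ι ι F) * ((n⁻¹ : GL ι F) : Matrix ι ι F)) a a = 1 := by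
    intro a
    rw [← Units.val_mul, mul_inv_cancel, Units.val_one, Matrix.one_apply_eq]
  funext a
  apply le_antisymm
  · obtain ⟨b, hb⟩ : ∃ b, (n : Matrix ι ι F) a b ≠ 0 := by
      by_contra hcon
      push Not at hcon
      have h1 := hone a
      rw [Matrix.mul_apply] at h1
      simp [hcon] at h1
    rw [h.1 a b hb]
    exact hn.1 a b hb
  · obtain ⟨c, hc⟩ : ∃ c, ((n⁻¹ : GL ι F) : Matrix ι ι F) c a ≠ 0 := by
      by_contra hcon
      push Not at hcon
      have h1 := hone a
      rw [Matrix.mul_apply] at h1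
      simp [hcon] at h1
    have h2 := h.2 c a hc
    have h3 := hn.2 c a hc
    rw [← h2]
    exact h3

/-- an element of `GrFil d t`, `t > 0`, which lies in `GrPar (-d)` is trivial -/
theorem eq_one_of_mem_GrFil_of_mem_GrPar_neg {ι : Type*} [Fintype ι] [DecidableEq ι]
    {d : ι → ℝ} {t : ℝ} (ht : 0 < t) {g : GL ι F} (h1 : g ∈ GrFil d t)
    (h2 : g ∈ GrPar (fun a => - d a)) : g = 1 := by
  rw [mem_GrFil ht.le] at h1
  apply Units.ext
  rw [Units.val_one]
  have hz : (g : Matrix ι ι F) - 1 = 0 := by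
    ext a b
    rw [Matrix.zero_apply]
    by_contra hne
    have h3 := h1.1 a b hne
    have hab : a ≠ b := by
      rintro rfl
      linarith
    have h4 : (g : Matrix ι ι F) a b ≠ 0 := by
      rw [Matrix.sub_apply, Matrix.one_apply, if_neg hab, sub_zero] at hne
      exact hne
    have h5 := h2.1 a b h4
    simp only at h5
    linarith
  exact sub_eq_zero.1 hz

/-- the negative unipotent subgroup preserves the opposite filtration -/
theorem negUnipotent_le_GrPar_neg (hD : IsTabulated D) {μ : Fin D.rank → ℝ}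
    (hdom : Dominant D μ) : D.negUnipotent F ≤ GrPar (degI D (-μ)) := by
  have Δ := bnData_of_tabulated F hD
  unfold ChevalleyDatum.negUnipotent
  rw [Subgroup.closure_le]
  rintro g ⟨r, t, hr, hg⟩
  have hgx : g = xU Δ.hB r t := Units.ext hg
  rw [hgx]
  have hpos : D.IsPosRoot (D.neg r) := Δ.isPosRoot_neg hr
  have h1 := Cfsg.Agent.Helper28.BT.lev_nonneg_of_dominant hD hdom hpos
  rw [Cfsg.Agent.Helper18.BT.lev_neg Δ μ hr.1] at h1
  have h2 : 0 ≤ lev D (-μ) r := by
    have h : -μ = (-1 : ℝ) • μ := by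
      ext k; simp
    rw [h, lev_smul]; linarith
  exact GrFil_le_GrPar _ _ (Cfsg.Agent.Helper18.BT.xU_mem_GrFil Δ (-μ) hr.1 h2 t)

/-- degree preserving monomial elements lie in the parabolic subgroup of the zero set -/
theorem mem_parabolic_of_Gr0 (hD : IsTabulated D) {μ : Fin D.rank → ℝ} (hdom : Dominant D μ)
    (Δ : BNData D F) :
    ∀ k : ℕ, ∀ n : GL D.Idx F, n ∈ D.monomialSubgroup F → n ∈ Gr0 (degI D μ) →
      (invSet D F n).card = k → n ∈ D.parabolicSubgroup F (zeroSet D μ) := by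
  intro k
  induction k using Nat.strong_induction_on with
  | _ k ih =>
    intro n hnN hn0 hk
    by_cases hnH : n ∈ D.diagonalSubgroup F
    · unfold ChevalleyDatum.parabolicSubgroup
      exact Subgroup.mem_sup_left (Δ.diag_le_borel hnH)
    · obtain ⟨i, hi, hmem⟩ := Δ.exists_simple_mem_invSet hnN hnH
      obtain ⟨hppos, hneg⟩ := Δ.mem_invSet.1 hmem
      have hpr : D.simple i < D.nroots := hppos.1
      -- the level of `p_i` vanishes
      have hlev0 : lev D μ (D.simple i) = 0 := by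
        have h0 : 0 ≤ lev D μ (D.simple i) := hdom ⟨i, hi⟩
        by_contra hne
        have hpos : 0 < lev D μ (D.simple i) := lt_of_le_of_ne h0 (Ne.symm hne)
        have hx : xU Δ.hB (D.simple i) (1 : F) ∈ GrFil (degI D μ) (lev D μ (D.simple i)) :=
          Cfsg.Agent.Helper18.BT.xU_mem_GrFil Δ μ hpr h0 1
        have hconj : n * xU Δ.hB (D.simple i) 1 * n⁻¹ ∈
            GrFil (degI D μ) (lev D μ (D.simple i)) :=
          (Tr.of_mem_Gr0 hn0).conj_mem_GrFil hx
        have hV : n * xU Δ.hB (D.simple i) 1 * n⁻¹ ∈ GrPar (degI D (-μ)) :=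
          negUnipotent_le_GrPar_neg hD hdom (hneg 1)
        have hdeg : degI D (-μ) = fun a => - degI D μ a := funext (degI_neg μ)
        rw [hdeg] at hV
        have h1 := eq_one_of_mem_GrFil_of_mem_GrPar_neg hpos hconj hV
        have hx1 : xU Δ.hB (D.simple i) (1 : F) = 1 := by
          have e : xU Δ.hB (D.simple i) (1 : F) =
              n⁻¹ * (n * xU Δ.hB (D.simple i) 1 * n⁻¹) * n := by group
          rw [e, h1]; group
        exact Δ.xU_one_ne_one hpr hx1
      have hiJ : i ∈ zeroSet D μ := ⟨hi, hlev0⟩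
      set s := nU Δ.hB (D.simple i) (one_ne_zero (α := F)) with hs
      have hsP : s ∈ D.parabolicSubgroup F (zeroSet D μ) := Δ.nU_mem_parabolic hi hiJ
      have hsN : s ∈ D.monomialSubgroup F := nU_one_mem_monomial Δ.hB hpr
      have hs0 : s ∈ Gr0 (degI D μ) := by
        have h := Cfsg.Agent.Helper8.BT.simple_Tr (F := F) Δ ⟨i, hi⟩ μ
        have hrefl : refl D ⟨i, hi⟩ μ = μ := by
          funext k
          unfold Cfsg.Agent.Helper28.BT.refl
          split_ifs with hk
          · show μ k - lev D μ (D.simple i) = μ k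
            rw [hlev0, sub_zero]
          · rw [sub_zero]
        rw [hrefl] at h
        exact h.mem_Gr0
      set m := n * s⁻¹ with hm
      have hmN : m ∈ D.monomialSubgroup F :=
        Subgroup.mul_mem _ hnN (Subgroup.inv_mem _ hsN)
      have hm0 : m ∈ Gr0 (degI D μ) := Subgroup.mul_mem _ hn0 (Subgroup.inv_mem _ hs0)
      have hnm : n = m * s := by rw [hm]; group
      have hposm : ∀ t : F, m * xU Δ.hB (D.simple i) t * m⁻¹ ∈ D.posUnipotent F := by
        intro t
        obtain ⟨e, he, hes0⟩ := Δ.nU_inv_eq' (F := F) hi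
        have hes : s⁻¹ = e * s := hes0
        have hnegr : D.neg (D.simple i) < D.nroots := (Δ.hB.neg _ hpr).1
        obtain ⟨c, hc⟩ := Δ.diag_conj_xU he hnegr
        have hA := Δ.hAll i hi
        have hwpp : wR D (D.simple i) (D.simple i) = D.neg (D.simple i) := by
          unfold wR; rw [if_pos rfl]
        have h1 : s⁻¹ * xU Δ.hB (D.simple i) t * s =
            xU Δ.hB (D.neg (D.simple i))
              (c * (((etaR D (D.simple i) (D.simple i) : ℤ) : F) * t)) := by
          have e1 : s⁻¹ * xU Δ.hB (D.simple i) t * s =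
              e * (s * xU Δ.hB (D.simple i) t * s⁻¹) * e⁻¹ := by
            calc s⁻¹ * xU Δ.hB (D.simple i) t * s
                = s⁻¹ * xU Δ.hB (D.simple i) t * (s⁻¹)⁻¹ := by rw [inv_inv]
              _ = (e * s) * xU Δ.hB (D.simple i) t * (e * s)⁻¹ := by rw [hes]
              _ = e * (s * xU Δ.hB (D.simple i) t * s⁻¹) * e⁻¹ := by group
          rw [e1, hs, nU_conj_xU Δ.hB hA hpr, hwpp, hc]
        have e2 : m * xU Δ.hB (D.simple i) t * m⁻¹ =
            n * (s⁻¹ * xU Δ.hB (D.simple i) t * s) * n⁻¹ := by rw [hm]; group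
        rw [e2, h1]
        obtain ⟨σ, cc, hσ⟩ := Δ.rootPermP_of_mem hnN
        obtain ⟨a1, a2, a3⟩ := hσ (D.simple i) hpr
        obtain ⟨b1, _, b3⟩ := hσ (D.neg (D.simple i)) hnegr
        rw [b3, a2]
        have hσneg : D.IsNegRoot (σ (D.simple i)) := by
          rcases Δ.pos_or_neg a1 with h | h
          · exfalso
            apply Δ.not_pos_and_neg hpr (m := n) _ (hneg 1)
            rw [a3]
            exact Δ.xU_pos_mem h _
          · exact h
        exact Δ.xU_pos_mem (Δ.isPosRoot_neg hσneg) _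
      have hcard := Δ.card_invSet_step hi hmN hposm
      rw [← hs, ← hnm, hk] at hcard
      have hmP := ih (invSet D F m).card (by omega) m hmN hm0 rfl
      rw [hnm]
      exact Subgroup.mul_mem _ hmP hsP

/-- STAB2 -/
theorem GrPar_inf_group_le (hD : IsTabulated D) {μ : Fin D.rank → ℝ} (hdom : Dominant D μ) :
    GrPar (degI D μ) ⊓ D.group F ≤ D.parabolicSubgroup F (zeroSet D μ) := by
  have Δ := bnData_of_tabulated F hD
  intro g hg
  obtain ⟨hgP, hgG⟩ := Subgroup.mem_inf.1 hg
  obtain ⟨b, hb, n, hn, u, hu, rfl⟩ := Δ.exists_normal_form hgG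
  have hBle := borel_le_GrPar (F := F) hD hdom
  have huB : u ∈ D.borelSubgroup F :=
    Δ.posUnipotent_le_borel (Δ.unegGen_le_posUnipotent n hu)
  have hnP : n ∈ GrPar (degI D μ) := by
    have e : n = b⁻¹ * (b * n * u) * u⁻¹ := by group
    rw [e]
    exact Subgroup.mul_mem _ (Subgroup.mul_mem _ (Subgroup.inv_mem _ (hBle hb)) hgP)
      (Subgroup.inv_mem _ (hBle huB))
  obtain ⟨μ', hTr, -⟩ := Cfsg.Agent.Helper8.BT.monomial_Tr Δ hn μ
  have hdd := Tr_eq_of_mem_GrPar hTr hnP
  rw [hdd] at hTr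
  have hn0 : n ∈ Gr0 (degI D μ) := hTr.mem_Gr0
  have hnPJ := mem_parabolic_of_Gr0 hD hdom Δ _ n hn hn0 rfl
  have hBPJ : D.borelSubgroup F ≤ D.parabolicSubgroup F (zeroSet D μ) := by
    unfold ChevalleyDatum.parabolicSubgroup
    exact le_sup_left
  exact Subgroup.mul_mem _ (Subgroup.mul_mem _ (hBPJ hb) hnPJ) (hBPJ huB)

end Cfsg.Agent.Helper20.BT
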