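import Mathlib
import Cfsg.Agent.Helper23.CMDefs
import Cfsg.Agent.Helper24.Abelian
import Cfsg.Agent.Helper24.Regular
import Cfsg.Agent.Helper23.ClassProduct

set_option autoImplicit false

/-!
# S4756 piece COMP: the commutator subgroup is a `p`-group
-/

namespace Cfsg.Agent.Helper23.CM

open Cfsg Cfsg.Agent.Helper24

universe u

variable {G : Type u} [Group G] [Finite G]

/-- FW4 -/
theorem commutator_isPGroup (p : ℕ) (hp : p.Prime)
    (hvan : ∀ χ : IrrCharacter G, (χ : G → ℂ) 1 ≠ 1 → VanOff p (χ : G → ℂ)) :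
    IsPGroup p ↥(commutator G) := by
  classical
  have : Fintype G := Fintype.ofFinite _
  have : Fintype (IrrCharacter G) := Fintype.ofFinite _
  have hall : ∀ {r : ℕ}, r.Prime → r ∣ Nat.card ↥(commutator G) → r = p := by
    intro r hr hdvd
    by_contra hrp
    have : Fact r.Prime := ⟨hr⟩
    obtain ⟨y, hy⟩ := exists_prime_orderOf_dvd_card' r hdvd
    have hyo : orderOf (y : G) = r := by rw [Subgroup.orderOf_coe]; exact hy
    have hy1 : (y : G) ≠ 1 := by
      intro h
      rw [h, orderOf_one] at hyo
      exact hr.one_lt.ne hyo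
    have hsum := sum_irr_one_mul_eq_zero (G := G) hy1
    have hterm : ∀ χ : IrrCharacter G, (χ : G → ℂ) 1 * (χ : G → ℂ) y =
        if (χ : G → ℂ) 1 = 1 then 1 else 0 := by
      intro χ
      split_ifs with h1
      · obtain ⟨φ, hφ⟩ := Cfsg.Agent.Helper23.exists_monoidHom_of_irr_one_eq_one χ h1
        rw [h1, one_mul, hφ]
        have hker : commutator G ≤ φ.toHomUnits.ker :=
          Abelianization.commutator_subset_ker φ.toHomUnits
        have h2 := (MonoidHom.mem_ker).1 (hker y.2)
        have h3 := congrArg (fun u : ℂˣ => (u : ℂ)) h2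
        simpa using h3
      · rw [hvan χ h1 r hr hrp y hy1 ⟨1, by rw [hyo, pow_one]⟩, mul_zero]
    rw [Finset.sum_congr rfl (fun χ _ => hterm χ)] at hsum
    rw [Finset.sum_ite, Finset.sum_const_zero, add_zero, Finset.sum_const, nsmul_eq_mul,
      mul_one] at hsum
    have hcard : (Finset.univ.filter (fun χ : IrrCharacter G => (χ : G → ℂ) 1 = 1)).card = 0 := by
      exact_mod_cast hsum
    have hmem : trivIrr G ∈ Finset.univ.filter (fun χ : IrrCharacter G => (χ : G → ℂ) 1 = 1) := by
      simp
    rw [Finset.card_eq_zero] at hcard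
    rw [hcard] at hmem
    exact absurd hmem (Finset.notMem_empty _)
  have h := Nat.eq_prime_pow_of_unique_prime_dvd (Nat.card_pos.ne') hall
  exact IsPGroup.of_card h

end Cfsg.Agent.Helper23.CM
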