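import Mathlib
import Cfsg.Agent.Helper3.CPDefs
import Cfsg.Agent.Helper3.CPBasic

set_option autoImplicit false

/-!
# S4016 piece LOCa: the first part of the local structure around a cyclic Sylow `p`-subgroup
-/

namespace Cfsg.Agent.Helper20.CPLOCa

open Subgroup Cfsg.Agent.Helper3.CP

universe u

variable {G : Type u} [Group G] [Finite G] {p : ℕ} [Fact p.Prime]

omit [Finite G] [Fact p.Prime] in
/-- a cyclic Sylow subgroup is elementwise commutative -/
theorem sylow_comm (h : Hyp p G) (P : Sylow p G) :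
    ∀ a ∈ (P : Subgroup G), ∀ b ∈ (P : Subgroup G), a * b = b * a := by
  intro a ha b hb
  have hc := h.1 P
  let _i := IsCyclic.commGroup (α := ↥(P : Subgroup G))
  exact congrArg Subtype.val (mul_comm (⟨a, ha⟩ : ↥(P : Subgroup G)) ⟨b, hb⟩)

omit [Fact p.Prime] in
/-- two elements of prime order `p` in a cyclic subgroup generate the same subgroup -/
theorem mem_zpowers_of_orderOf_eq (H : Subgroup G) (hcyc : IsCyclic ↥H) (hp : p.Prime) (a b : G)
    (ha : a ∈ H) (hb : b ∈ H) (hao : orderOf a = p) (hbo : orderOf b = p) : b ∈ zpowers a := by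
  classical
  have : Fintype ↥H := Fintype.ofFinite _
  have hle := IsCyclic.card_pow_eq_one_le (α := ↥H) hp.pos
  set a' : ↥H := ⟨a, ha⟩ with ha'
  set b' : ↥H := ⟨b, hb⟩ with hb'
  have hao' : orderOf a' = p := by rw [← hao]; exact Subgroup.orderOf_mk a ha
  set S := Finset.univ.filter (fun x : ↥H => x ^ p = 1) with hS
  set T := Finset.image (fun i : ℕ => a' ^ i) (Finset.range p) with hT
  have hTS : T ⊆ S := by
    intro x hx
    obtain ⟨i, -, rfl⟩ := Finset.mem_image.1 hx
    simp only [hS, Finset.mem_filter, Finset.mem_univ, true_and]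
    rw [← pow_mul, mul_comm, pow_mul, ← hao', pow_orderOf_eq_one, one_pow]
  have hTcard : T.card = p := by
    rw [hT, Finset.card_image_of_injOn, Finset.card_range]
    intro i hi j hj hij
    simp only [Finset.coe_range, Set.mem_Iio] at hi hj
    rw [← hao'] at hi hj
    exact pow_injOn_Iio_orderOf hi hj hij
  have hST : S = T := (Finset.eq_of_subset_of_card_le hTS (by rw [hTcard]; exact hle)).symm
  have hbS : b' ∈ S := by
    simp only [hS, Finset.mem_filter, Finset.mem_univ, true_and]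
    apply Subtype.ext
    simp only [hb', SubmonoidClass.mk_pow, OneMemClass.coe_one]
    rw [← hbo]; exact pow_orderOf_eq_one b
  rw [hST] at hbS
  obtain ⟨i, -, hi⟩ := Finset.mem_image.1 hbS
  have h1 := congrArg Subtype.val hi
  refine mem_zpowers_iff.2 ⟨(i : ℤ), ?_⟩
  rw [zpow_natCast]
  simpa [ha', hb'] using h1

end Cfsg.Agent.Helper20.CPLOCa

namespace Cfsg.Agent.Helper3.CP

open Subgroup

universe u

variable {G : Type u} [Group G] [Finite G] {p : ℕ} [Fact p.Prime]

/-- LOCa -/
theorem locA_of_compl (h : Hyp p G) (P : Sylow p G)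
    (hNC : ¬ normalizer ((P : Subgroup G) : Set G) ≤ centralizer ((P : Subgroup G) : Set G))
    (z : G) (hz : z ∈ (P : Subgroup G)) (hzo : orderOf z = p) (L : Subgroup G)
    (hLz : L ≤ centralizer ({z} : Set G)) (hLp : ¬ p ∣ Nat.card ↥L)
    (hLn : ∀ g ∈ centralizer ({z} : Set G), ∀ a ∈ L, g * a * g⁻¹ ∈ L)
    (hLall : ∀ x ∈ centralizer ({z} : Set G), ¬ p ∣ orderOf x → x ∈ L)
    (hLP : L ⊔ (P : Subgroup G) = centralizer ({z} : Set G)) : LocA p P L := by
  have hp : p.Prime := Fact.out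
  have hcyc := h.1 P
  have hcomm := Cfsg.Agent.Helper20.CPLOCa.sylow_comm h P
  have hPT : (P : Subgroup G) ≤ centralizer ({z} : Set G) := by
    intro y hy
    rw [mem_centralizer_iff]
    intro w hw
    rw [Set.mem_singleton_iff] at hw
    subst hw
    exact hcomm _ hz y hy
  have hord : ∀ w g : G, orderOf (w * g * w⁻¹) = orderOf g := by
    intro w g
    rw [← MulAut.conj_apply]
    exact MulEquiv.orderOf_eq _ _
  -- Step 1: N(P) normalizes ⟨z⟩
  have hconjz : ∀ w ∈ normalizer ((P : Subgroup G) : Set G), w * z * w⁻¹ ∈ zpowers z := by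
    intro w hw
    have h1 : w * z * w⁻¹ ∈ (P : Subgroup G) := (mem_normalizer_iff.1 hw z).1 hz
    have h2 : orderOf (w * z * w⁻¹) = p := by rw [hord, hzo]
    exact Cfsg.Agent.Helper20.CPLOCa.mem_zpowers_of_orderOf_eq (P : Subgroup G) hcyc hp z _ hz h1
      hzo h2
  -- Step 1b: N(P) normalizes C(z)
  have hconjT : ∀ w ∈ normalizer ((P : Subgroup G) : Set G), ∀ g ∈ centralizer ({z} : Set G),
      w * g * w⁻¹ ∈ centralizer ({z} : Set G) := by
    intro w hw g hg
    have hw' : w⁻¹ ∈ normalizer ((P : Subgroup G) : Set G) := inv_mem hw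
    obtain ⟨j, hj⟩ := mem_zpowers_iff.1 (hconjz w⁻¹ hw')
    rw [inv_inv] at hj
    rw [mem_centralizer_iff]
    intro y hy
    rw [Set.mem_singleton_iff] at hy
    subst hy
    have hgz : g * y ^ j = y ^ j * g := by
      have hc : Commute y g := by
        rw [mem_centralizer_iff] at hg
        exact hg y rfl
      exact (hc.zpow_left j).eq.symm
    have hz' : y = w * y ^ j * w⁻¹ := by rw [hj]; group
    calc y * (w * g * w⁻¹) = (w * y ^ j * w⁻¹) * (w * g * w⁻¹) := by rw [← hz']
      _ = w * (y ^ j * g) * w⁻¹ := by group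
      _ = w * (g * y ^ j) * w⁻¹ := by rw [hgz]
      _ = (w * g * w⁻¹) * (w * y ^ j * w⁻¹) := by group
      _ = w * g * w⁻¹ * y := by rw [← hz']
  -- L_norm
  have hLnorm : ∀ w ∈ normalizer ((P : Subgroup G) : Set G), ∀ a ∈ L, w * a * w⁻¹ ∈ L := by
    intro w hw a ha
    apply hLall _ (hconjT w hw a (hLz ha))
    rw [hord]
    intro hpd
    exact hLp (hpd.trans (L.orderOf_dvd_natCard ha))
  -- Step 2
  obtain ⟨x₀, hx₀N, hx₀o, hx₀C⟩ := exists_pprime_not_mem_centralizer P hcomm hNC
  have hx₀L : ∀ m ∈ L, x₀ * m = m * x₀ :=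
    h.commute_of_pprime L hLp x₀ hx₀o (hLnorm x₀ hx₀N)
  have hPL : ∀ u ∈ (P : Subgroup G), ∀ m ∈ L, u * m * u⁻¹ ∈ L :=
    fun u hu m hm => hLn u (hPT hu) m hm
  have hcent := centralizes_of_pprime P hcyc L hPL x₀ hx₀N hx₀C hx₀L
  refine ⟨hLp, fun a ha y hy => (hcent y hy a ha).symm, ?_, hLnorm⟩
  -- cent_P
  intro y hy hy1
  apply le_antisymm
  · intro g hg
    rw [hLP]
    -- z ∈ zpowers y
    obtain ⟨k, hk⟩ : ∃ k : ℕ, orderOf y = p ^ k := by
      have h1 : IsPGroup p ↥(zpowers y) := P.2.to_le (by rw [zpowers_le]; exact hy)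
      obtain ⟨m, hm⟩ := IsPGroup.iff_card.1 h1
      exact ⟨m, by rw [← hm, Nat.card_zpowers]⟩
    have hk0 : k ≠ 0 := by
      rintro rfl
      rw [pow_zero, orderOf_eq_one_iff] at hk
      exact hy1 hk
    obtain ⟨k', rfl⟩ := Nat.exists_eq_succ_of_ne_zero hk0
    have hy'o : orderOf (y ^ p ^ k') = p := by
      rw [orderOf_pow_of_dvd (pow_ne_zero _ hp.ne_zero) (by rw [hk]; exact pow_dvd_pow p (Nat.le_succ k')),
        hk, pow_succ, Nat.mul_div_cancel_left _ (pow_pos hp.pos k')]
    have hzy' : z ∈ zpowers (y ^ p ^ k') :=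
      Cfsg.Agent.Helper20.CPLOCa.mem_zpowers_of_orderOf_eq (P : Subgroup G) hcyc hp _ z
        (pow_mem hy _) hz hy'o hzo
    have hzy : z ∈ zpowers y :=
      (zpowers_le.2 (pow_mem (mem_zpowers y) _)) hzy'
    obtain ⟨i, hi⟩ := mem_zpowers_iff.1 hzy
    rw [mem_centralizer_iff]
    intro w hw
    rw [Set.mem_singleton_iff] at hw
    subst hw
    have hc : Commute y g := by
      rw [mem_centralizer_iff] at hg
      exact hg y rfl
    rw [← hi]
    exact (hc.zpow_left i).eq
  · apply sup_le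
    · intro a ha
      rw [mem_centralizer_iff]
      intro w hw
      rw [Set.mem_singleton_iff] at hw
      subst hw
      exact hcent w hy a ha
    · intro b hb
      rw [mem_centralizer_iff]
      intro w hw
      rw [Set.mem_singleton_iff] at hw
      subst hw
      exact hcomm w hy b hb

end Cfsg.Agent.Helper3.CP
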