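import Mathlib
import Cfsg.Agent.Helper3.CPDefs
import Cfsg.Agent.Helper3.CPBasic
import Cfsg.Agent.Helper16.BswLoc

set_option autoImplicit false

/-!
# S4016 piece NPCZ: the centralizer of a non-trivial element of a cyclic Sylow `p`-subgroup has a
normal `p`-complement (Burnside inside `C(z)`).
-/

namespace Cfsg.Agent.Helper20.CPNPCZ

open Subgroup Cfsg.Agent.Helper3.CP

universe u

variable {G : Type u} [Group G] [Finite G] {p : ℕ} [Fact p.Prime]

omit [Finite G] [Fact p.Prime] in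
/-- a cyclic Sylow subgroup is elementwise commutative -/
theorem sylow_comm (h : Hyp p G) (P : Sylow p G) :
    ∀ a ∈ (P : Subgroup G), ∀ b ∈ (P : Subgroup G), a * b = b * a := by
  intro a ha b hb
  have hc := h.1 P
  let _i := IsCyclic.commGroup (α := ↥(P : Subgroup G))
  exact congrArg Subtype.val (mul_comm (⟨a, ha⟩ : ↥(P : Subgroup G)) ⟨b, hb⟩)

omit [Finite G] [Fact p.Prime] in
/-- `p`-subgroups are elementwise commutative -/
theorem pgroup_comm (h : Hyp p G) (K : Subgroup G) (hK : IsPGroup p ↥K) :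
    ∀ a ∈ K, ∀ b ∈ K, a * b = b * a := by
  obtain ⟨P, hP⟩ := hK.exists_le_sylow
  intro a ha b hb
  exact sylow_comm h P a (hP ha) b (hP hb)

omit [Finite G] [Fact p.Prime] in
/-- `p`-subgroups are cyclic: a generator -/
theorem pgroup_gen (h : Hyp p G) (K : Subgroup G) (hK : IsPGroup p ↥K) :
    ∃ g ∈ K, ∀ u ∈ K, u ∈ zpowers g := by
  obtain ⟨P, hP⟩ := hK.exists_le_sylow
  have hc := h.1 P
  have hcK : IsCyclic ↥K :=
    isCyclic_of_injective (Subgroup.inclusion hP) (Subgroup.inclusion_injective hP)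
  obtain ⟨⟨g, hgK⟩, hgen⟩ := hcK.exists_generator
  refine ⟨g, hgK, ?_⟩
  intro u hu
  obtain ⟨k, hk⟩ := mem_zpowers_iff.1 (hgen ⟨u, hu⟩)
  refine mem_zpowers_iff.2 ⟨k, ?_⟩
  have := congrArg Subtype.val hk
  simpa using this

/-- the hypothesis of Burnside's theorem inside `C(z)` -/
theorem burnside_hyp (h : Hyp p G) (z : G) (hz1 : z ≠ 1) (hzp : IsPGroup p ↥(zpowers z))
    (R : Subgroup G) (hRT : R ≤ centralizer ({z} : Set G)) (hR : IsPGroup p ↥R)
    (n : G) (hnT : n ∈ centralizer ({z} : Set G)) (hnR : n ∈ normalizer (R : Set G)) :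
    n ∈ centralizer (R : Set G) := by
  have hp : p.Prime := Fact.out
  have hzR : ∀ r ∈ R, z * r = r * z := by
    intro r hr
    have := hRT hr
    rw [mem_centralizer_iff] at this
    exact this z rfl
  have hzN : zpowers z ≤ normalizer (R : Set G) := by
    rw [zpowers_le]
    apply mem_normalizer_of_conj_mem
    intro r hr
    rw [hzR r hr, mul_inv_cancel_right]; exact hr
  set R' : Subgroup G := zpowers z ⊔ R with hR'def
  have hR' : IsPGroup p ↥R' := IsPGroup.to_sup_of_normal_right' hzp hR hzN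
  have hzR' : z ∈ R' := mem_sup_left (mem_zpowers z)
  have hRR' : R ≤ R' := le_sup_right
  obtain ⟨g, hgR', hgen⟩ := pgroup_gen h R' hR'
  -- elements of C(z) ∩ N(R) normalize R'
  have hnorm : ∀ c : G, c ∈ centralizer ({z} : Set G) → c ∈ normalizer (R : Set G) →
      ∀ u ∈ R', c * u * c⁻¹ ∈ R' := by
    intro c hcT hcR
    have hle : R' ≤ R'.comap (MulAut.conj c).toMonoidHom := by
      apply sup_le
      · rw [zpowers_le, mem_comap]
        have : c * z * c⁻¹ = z := by
          rw [mem_centralizer_iff] at hcT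
          have := hcT z rfl
          rw [← this, mul_inv_cancel_right]
        simpa [this] using hzR'
      · intro r hr
        rw [mem_comap]
        exact hRR' ((mem_normalizer_iff.1 hcR r).1 hr)
    intro u hu
    exact hle hu
  obtain ⟨a, b, hab, hao, hbo⟩ := exists_pow_decomp hp n
  -- p-part
  have haC : ∀ u ∈ R', n ^ a * u = u * n ^ a := by
    have hc1 : zpowers (n ^ a) ≤ normalizer (R' : Set G) := by
      rw [zpowers_le]
      exact mem_normalizer_of_conj_mem R' _ (hnorm _ (pow_mem hnT a) (pow_mem hnR a))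
    have hc2 : IsPGroup p ↥(zpowers (n ^ a)) := by
      obtain ⟨k, hk⟩ := hao
      apply IsPGroup.of_card (n := k)
      rw [Nat.card_zpowers, hk]
    have hc3 := IsPGroup.to_sup_of_normal_right' hc2 hR' hc1
    intro u hu
    exact pgroup_comm h _ hc3 _ (mem_sup_left (mem_zpowers _)) u (mem_sup_right hu)
  -- p'-part
  have hbg : n ^ b * g * (n ^ b)⁻¹ = g := by
    have hconj : n ^ b * g * (n ^ b)⁻¹ ∈ R' := hnorm _ (pow_mem hnT b) (pow_mem hnR b) g hgR'
    have hfin : IsOfFinOrder g := isOfFinOrder_of_finite g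
    obtain ⟨k', hk'⟩ : ∃ k' : ℕ, n ^ b * g * (n ^ b)⁻¹ = g ^ k' := by
      have hmem : n ^ b * g * (n ^ b)⁻¹ ∈ Submonoid.powers g :=
        hfin.mem_powers_iff_mem_zpowers.2 (hgen _ hconj)
      obtain ⟨k', hk'⟩ := (Submonoid.mem_powers_iff _ _).1 hmem
      exact ⟨k', hk'.symm⟩
    obtain ⟨m, hm⟩ : ∃ m : ℕ, orderOf g = p ^ m := by
      have h1 : IsPGroup p ↥(zpowers g) := hR'.to_le (by rw [zpowers_le]; exact hgR')
      obtain ⟨m, hm⟩ := IsPGroup.iff_card.1 h1
      exact ⟨m, by rw [← hm, Nat.card_zpowers]⟩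
    have hcz : n ^ b * z * (n ^ b)⁻¹ = z := by
      have h1 : n ^ b ∈ centralizer ({z} : Set G) := pow_mem hnT b
      rw [mem_centralizer_iff] at h1
      rw [← h1 z rfl, mul_inv_cancel_right]
    exact Cfsg.Agent.Helper20.conj_eq_self_of_coprime_fix g (n ^ b) z p m k' (orderOf (n ^ b)) hp hm
      hk' (hgen z hzR') hz1 hcz (pow_orderOf_eq_one _)
      ((Nat.Prime.coprime_iff_not_dvd hp).2 hbo).symm
  have hbC : ∀ u ∈ R', n ^ b * u = u * n ^ b := by
    intro u hu
    obtain ⟨i, rfl⟩ := mem_zpowers_iff.1 (hgen u hu)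
    have hcg : Commute (n ^ b) g := mul_inv_eq_iff_eq_mul.1 hbg
    exact (hcg.zpow_right i).eq
  rw [mem_centralizer_iff]
  intro r hr
  have hr' := hRR' hr
  calc r * n = r * (n ^ a * n ^ b) := by rw [← hab]
    _ = (n ^ a * n ^ b) * r := by
      rw [← mul_assoc, ← haC r hr', mul_assoc, ← hbC r hr', mul_assoc]
    _ = n * r := by rw [← hab]

end Cfsg.Agent.Helper20.CPNPCZ

namespace Cfsg.Agent.Helper3.CP

open Subgroup

universe u

variable {G : Type u} [Group G] [Finite G] {p : ℕ} [Fact p.Prime]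

/-- NPCZ -/
theorem exists_compl_centralizer (h : Hyp p G) (P : Sylow p G) (z : G) (hz : z ∈ (P : Subgroup G))
    (hz1 : z ≠ 1) :
    ∃ L : Subgroup G, L ≤ centralizer ({z} : Set G) ∧ ¬ p ∣ Nat.card ↥L ∧
      (∀ g ∈ centralizer ({z} : Set G), ∀ a ∈ L, g * a * g⁻¹ ∈ L) ∧
      (∀ x ∈ centralizer ({z} : Set G), ¬ p ∣ orderOf x → x ∈ L) ∧
      L ⊔ (P : Subgroup G) = centralizer ({z} : Set G) := by
  have hp : p.Prime := Fact.out
  have hzp : IsPGroup p ↥(zpowers z) := P.2.to_le (by rw [zpowers_le]; exact hz)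
  obtain ⟨M, a, hMT, hMn, hcard, hMp, hMall⟩ :=
    Cfsg.Agent.Helper21.Bsw.Loc.burnside_in p (centralizer ({z} : Set G))
      (fun R hRT hR _ n hnT hnR =>
        Cfsg.Agent.Helper20.CPNPCZ.burnside_hyp h z hz1 hzp R hRT hR n hnT hnR)
  have hPT : (P : Subgroup G) ≤ centralizer ({z} : Set G) := by
    intro y hy
    rw [mem_centralizer_iff]
    intro w hw
    rw [Set.mem_singleton_iff] at hw
    subst hw
    exact Cfsg.Agent.Helper20.CPNPCZ.sylow_comm h P _ hz y hy
  refine ⟨M, hMT, hMp, hMn, ?_, ?_⟩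
  · intro x hx hxo
    exact hMall x hx (orderOf x) ((Nat.Prime.coprime_iff_not_dvd hp).2 hxo).symm
      (pow_orderOf_eq_one x)
  · have hle : M ⊔ (P : Subgroup G) ≤ centralizer ({z} : Set G) := sup_le hMT hPT
    apply Subgroup.eq_of_le_of_card_ge hle
    apply Nat.le_of_dvd Nat.card_pos
    have h1 : Nat.card ↥M ∣ Nat.card ↥(M ⊔ (P : Subgroup G)) :=
      Subgroup.card_dvd_of_le le_sup_left
    have h2 : Nat.card ↥(P : Subgroup G) ∣ Nat.card ↥(M ⊔ (P : Subgroup G)) :=
      Subgroup.card_dvd_of_le le_sup_right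
    have h3 : p ^ a ∣ Nat.card ↥(P : Subgroup G) := by
      rw [Sylow.card_eq_multiplicity]
      have : p ^ a ∣ Nat.card G :=
        (Dvd.intro_left _ hcard).trans (Subgroup.card_subgroup_dvd_card _)
      exact (Nat.Prime.pow_dvd_iff_dvd_ordProj hp Nat.card_pos.ne').1 this
    rw [← hcard]
    have hcop : Nat.Coprime (Nat.card ↥M) (p ^ a) :=
      Nat.Coprime.pow_right a ((Nat.Prime.coprime_iff_not_dvd hp).2 hMp).symm
    exact hcop.mul_dvd_of_dvd_of_dvd h1 (h3.trans h2)

end Cfsg.Agent.Helper3.CP
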