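import Mathlib
import Cfsg.Agent.Helper20.Sylow

set_option autoImplicit false

namespace Cfsg.Agent.Helper20

/-- An element of order prime to `p` centralizes `P`, provided all `q`-elements (`q ≠ p`) do. -/
lemma mem_centralizer_of_coprime {G : Type*} [Group G] [Finite G] (p : ℕ) [Fact p.Prime]
    (S : Set G)
    (hS : ∀ y : G, (∃ q b : ℕ, q.Prime ∧ q ≠ p ∧ orderOf y = q ^ b) → y ∈ Subgroup.centralizer S)
    (k : G) (hk : (orderOf k).Coprime p) : k ∈ Subgroup.centralizer S := by
  set C : Subgroup G := Subgroup.centralizer S with hC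
  have htop : C.subgroupOf (Subgroup.zpowers k) = ⊤ := by
    apply eq_top_of_forall_sylow_le
    intro q _
    obtain ⟨Q⟩ : Nonempty (Sylow q (Subgroup.zpowers k)) := inferInstance
    refine ⟨Q, ?_⟩
    intro z hz
    rw [Subgroup.mem_subgroupOf]
    obtain ⟨b, hb⟩ := orderOf_eq_pow_of_mem_pgroup (Q : Subgroup (Subgroup.zpowers k)) Q.2 z hz
    by_cases hqp : q = p
    · -- then z = 1
      have h1 : orderOf (z : G) ∣ orderOf k := by
        apply orderOf_dvd_of_mem_zpowers
        exact z.2
      have h2 : (orderOf (z : G)).Coprime p := Nat.Coprime.coprime_dvd_left h1 hk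
      rw [Subgroup.orderOf_coe] at h2
      rw [hb, hqp] at h2
      have hb0 : b = 0 := by
        by_contra hne
        have : p ∣ Nat.gcd (p ^ b) p := Nat.dvd_gcd (dvd_pow_self p hne) dvd_rfl
        rw [h2] at this
        exact (Fact.out : p.Prime).one_lt.ne' (Nat.dvd_one.1 this)
      rw [hb0, pow_zero, orderOf_eq_one_iff] at hb
      rw [hb]
      exact Subgroup.one_mem _
    · apply hS
      refine ⟨q, b, Fact.out, hqp, ?_⟩
      rw [Subgroup.orderOf_coe]
      exact hb
  have : (⟨k, Subgroup.mem_zpowers k⟩ : Subgroup.zpowers k) ∈ C.subgroupOf (Subgroup.zpowers k) := by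
    rw [htop]; trivial
  rw [Subgroup.mem_subgroupOf] at this
  exact this

/-- In `G = P × K` (internal, `P` a Sylow `p`-subgroup), `q`-elements for `q ≠ p` lie in `K`. -/
lemma q_elt_mem_complement {G : Type*} [Group G] [Finite G] (p : ℕ) [Fact p.Prime]
    (P : Sylow p G) (K : Subgroup G) (hKn : K.Normal)
    (hinf : (P : Subgroup G) ⊓ K = ⊥) (hsup : (P : Subgroup G) ⊔ K = ⊤)
    (y : G) (q b : ℕ) (hq : q.Prime) (hqp : q ≠ p) (hy : orderOf y = q ^ b) : y ∈ K := by
  have hp : p.Prime := Fact.out
  haveI := hKn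
  have hcompl : Subgroup.IsComplement' (P : Subgroup G) K := by
    apply Subgroup.isComplement'_of_disjoint_and_mul_eq_univ (disjoint_iff.2 hinf)
    rw [← Subgroup.mul_normal, hsup]; rfl
  have hidx : K.index = Nat.card (P : Subgroup G) := hcompl.index_eq_card
  obtain ⟨n, hn⟩ := IsPGroup.iff_card.1 P.2
  have h1 : y ^ (p ^ n) ∈ K := by
    rw [← hn, ← hidx]; exact Subgroup.pow_index_mem K y
  rw [← QuotientGroup.eq_one_iff] at h1 ⊢
  have h2 : ((y : G ⧸ K)) ^ (q ^ b) = 1 := by
    rw [← QuotientGroup.mk_pow, ← hy, pow_orderOf_eq_one]; rfl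
  rw [QuotientGroup.mk_pow] at h1
  have d1 := orderOf_dvd_of_pow_eq_one h1
  have d2 := orderOf_dvd_of_pow_eq_one h2
  have hcop : Nat.Coprime (p ^ n) (q ^ b) :=
    Nat.Coprime.pow _ _ ((Nat.coprime_primes hp hq).2 (Ne.symm hqp))
  have := Nat.eq_one_of_dvd_coprimes hcop d1 d2
  exact orderOf_eq_one_iff.1 this

theorem sylow_direct_factor_iff {G : Type*} [Group G] [Finite G] (p : ℕ) [Fact p.Prime] :
    (∃ (P : Sylow p G) (K : Subgroup G), (P : Subgroup G).Normal ∧ K.Normal ∧
      (P : Subgroup G) ⊓ K = ⊥ ∧ (P : Subgroup G) ⊔ K = ⊤) ↔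
    ∀ x y : G, (∃ a : ℕ, orderOf x = p ^ a) →
      (∃ q b : ℕ, q.Prime ∧ q ≠ p ∧ orderOf y = q ^ b) → x * y = y * x := by
  have hp : p.Prime := Fact.out
  constructor
  · rintro ⟨P, K, hPn, hKn, hinf, hsup⟩ x y ⟨a, ha⟩ ⟨q, b, hq, hqp, hy⟩
    have hxP : x ∈ (P : Subgroup G) := mem_normal_sylow_of_orderOf P hPn x a ha
    have hyK : y ∈ K := q_elt_mem_complement p P K hKn hinf hsup y q b hq hqp hy
    exact Subgroup.commute_of_normal_of_disjoint _ _ hPn hKn (disjoint_iff.2 hinf) x y hxP hyK
  · intro h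
    obtain ⟨P⟩ : Nonempty (Sylow p G) := inferInstance
    -- all q-elements centralize P
    have hcent : ∀ y : G, (∃ q b : ℕ, q.Prime ∧ q ≠ p ∧ orderOf y = q ^ b) →
        y ∈ Subgroup.centralizer ((P : Subgroup G) : Set G) := by
      intro y hy
      rw [Subgroup.mem_centralizer_iff]
      intro x hx
      exact h x y (orderOf_eq_pow_of_mem_pgroup _ P.2 x hx) hy
    -- P is normal
    have hPn : (P : Subgroup G).Normal := by
      rw [← Subgroup.normalizer_eq_top_iff]
      apply eq_top_of_forall_sylow_le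
      intro q _
      by_cases hqp : q = p
      · subst hqp
        exact ⟨P, Subgroup.le_normalizer⟩
      · obtain ⟨Q⟩ : Nonempty (Sylow q G) := inferInstance
        refine ⟨Q, ?_⟩
        intro z hz
        apply Subgroup.centralizer_le_normalizer
        apply hcent
        obtain ⟨b, hb⟩ := orderOf_eq_pow_of_mem_pgroup _ Q.2 z hz
        exact ⟨q, b, Fact.out, hqp, hb⟩
    haveI := hPn
    -- complement
    have hcop : Nat.Coprime (Nat.card (P : Subgroup G)) (P : Subgroup G).index :=
      P.card_coprime_index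
    obtain ⟨K, hK⟩ := Subgroup.exists_right_complement'_of_coprime hcop
    have hKcard : (Nat.card K).Coprime p := by
      have h1 : Nat.card K = (P : Subgroup G).index := by
        have := hK.symm.index_eq_card
        exact this.symm
      rw [h1]
      exact ((Nat.Prime.coprime_iff_not_dvd hp).2 P.not_dvd_index).symm
    -- K centralizes P
    have hKC : K ≤ Subgroup.centralizer ((P : Subgroup G) : Set G) := by
      intro k hk
      apply mem_centralizer_of_coprime p _ hcent
      have : orderOf k ∣ Nat.card K := by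
        have := orderOf_dvd_natCard (⟨k, hk⟩ : K)
        rwa [Subgroup.orderOf_mk] at this
      exact Nat.Coprime.coprime_dvd_left this hKcard
    have hKn : K.Normal := by
      rw [← Subgroup.normalizer_eq_top_iff, eq_top_iff, ← hK.sup_eq_top, sup_le_iff]
      refine ⟨?_, Subgroup.le_normalizer⟩
      -- P ≤ centralizer K ≤ normalizer K
      intro x hx
      apply Subgroup.centralizer_le_normalizer
      rw [Subgroup.mem_centralizer_iff]
      intro k hk
      have := hKC hk
      rw [Subgroup.mem_centralizer_iff] at this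
      exact (this x hx).symm
    exact ⟨P, K, hPn, hKn, disjoint_iff.1 hK.disjoint, hK.sup_eq_top⟩

end Cfsg.Agent.Helper20
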