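import Mathlib
import Cfsg.Agent.Helper24.CosetAverage
import Cfsg.Agent.Helper24.FullyRamified
import Cfsg.Agent.Helper24.Commutator
import Cfsg.Agent.Helper24.CyclicExtension
import Cfsg.Agent.Helper24.RealChar
import Cfsg.Agent.Helper24.SmallDegree
import Cfsg.Agent.Helper8.CharComp

set_option autoImplicit false
set_option maxHeartbeats 1000000

namespace Cfsg.Agent.Helper20

open Cfsg Cfsg.Agent.Helper24

section FullyRamCyc
universe u
variable {H : Type u} [Group H] [Fintype H]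

/-- If `χ` is fully ramified over `Z` and `⟨gZ⟩ = D/Z` is self-centralizing in `H/Z`, then
`g ∈ Z`. -/
theorem false_of_self_centralizing (Z : Subgroup H) [hZn : Z.Normal] (χ : IrrCharacter H)
    (θ : IrrCharacter ↥Z) (e : ℕ) (he : e ^ 2 = Z.index)
    (hres : ∀ z : ↥Z, (χ : H → ℂ) z = (e : ℂ) * (θ : ↥Z → ℂ) z)
    (D : Subgroup H) (hZD : Z ≤ D) (hcyc : IsCyclic (↥D ⧸ Z.subgroupOf D))
    (g : H) (hgD : g ∈ D) (hgZ : g ∉ Z)
    (hself : ∀ z ∈ Z, ∀ t : H, t * (z * g) * t⁻¹ * (z * g)⁻¹ ∈ Z → t ∈ D) : False := by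
  classical
  haveI : Fintype ↥Z := Fintype.ofFinite _
  haveI : Fintype ↥D := Fintype.ofFinite _
  haveI : Fintype ↥(Z.subgroupOf D) := Fintype.ofFinite _
  have he0 : e ≠ 0 := by
    intro h0
    rw [h0] at he
    have : Z.index ≠ 0 := Subgroup.index_ne_zero_of_finite
    exact this (by rw [← he]; norm_num)
  have hec : (e : ℂ) ≠ 0 := by exact_mod_cast he0
  -- fully ramified facts
  have hresf : (fun n : ↥Z => (χ : H → ℂ) n) = (e : ℂ) • (θ : ↥Z → ℂ) := by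
    funext z
    rw [Pi.smul_apply, smul_eq_mul]
    exact hres z
  have hcon : classInner (fun n : ↥Z => (χ : H → ℂ) n) (θ : ↥Z → ℂ) ≠ 0 := by
    rw [hresf, classInner_smul_left, classInner_irr_self]
    simpa using hec
  have hfr := (fully_ramified_iff Z (χ : H → ℂ) (θ : ↥Z → ℂ) χ.2 θ.2 hcon).1.mp ⟨e, hresf, he⟩
  obtain ⟨hvan, hinv⟩ := hfr
  -- the subgroup pair
  set N : Subgroup ↥D := Z.subgroupOf D with hN
  let f : ↥N ≃* ↥Z := Subgroup.subgroupOfEquivOfLe hZD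
  have hf : ∀ n : ↥N, ((f n : ↥Z) : H) = ((n : ↥D) : H) := fun n => rfl
  set θ' : ↥N → ℂ := fun n => (θ : ↥Z → ℂ) (f n) with hθ'
  have hθ'irr : IsIrrCharacter ↥N θ' :=
    Cfsg.Agent.Helper8.isIrrCharacter_comp_surjective f.toMonoidHom f.surjective θ.2
  have hinv' : ∀ (k : ↥D) (n : ↥N),
      θ' ⟨k * n * k⁻¹, (inferInstance : N.Normal).conj_mem (n : ↥D) n.2 k⟩ = θ' n := by
    intro k n
    have := hinv (k : H) (f n)
    simp only [hθ']
    convert this using 2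
    apply Subtype.ext
    rfl
  obtain ⟨θh, hθhirr, hθhres⟩ := exists_extension_of_cyclic_quotient N hcyc θ' hθ'irr hinv'
  -- commutativity of the quotient
  have hcomm : ∀ a b : ↥D, a * b * a⁻¹ * b⁻¹ ∈ N := by
    intro a b
    haveI := hcyc
    rw [← QuotientGroup.eq_one_iff]
    have hc : ∀ x y : ↥D ⧸ N, x * y = y * x := fun x y => by
      letI := IsCyclic.commGroup (α := ↥D ⧸ N)
      exact mul_comm x y
    simp only [QuotientGroup.mk_mul, QuotientGroup.mk_inv]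
    rw [hc (a : ↥D ⧸ N) (b : ↥D ⧸ N)]
    group
  -- vanishing of θh on the coset
  have hvanish : ∀ z : ↥Z, θh (⟨(z : H) * g, D.mul_mem (hZD z.2) hgD⟩ : ↥D) = 0 := by
    intro z
    set g' : H := (z : H) * g with hg'
    have hg'D : g' ∈ D := D.mul_mem (hZD z.2) hgD
    have hg'Z : g' ∉ Z := by
      intro h
      apply hgZ
      have : g = (z : H)⁻¹ * g' := by rw [hg']; group
      rw [this]
      exact Z.mul_mem (Z.inv_mem z.2) h
    have hχg' : (χ : H → ℂ) g' = 0 := hvan g' hg'Z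
    have hHsum := irr_sum_conj_mul χ g' g'⁻¹
    rw [hχg', mul_zero, zero_mul] at hHsum
    have hχ1 : (χ : H → ℂ) 1 ≠ 0 := by
      rw [irrDeg_spec]
      exact_mod_cast (irrDeg_pos χ).ne'
    have hHsum' : ∑ t : H, (χ : H → ℂ) (t * g' * t⁻¹ * g'⁻¹) = 0 := by
      rcases mul_eq_zero.mp hHsum with h | h
      · exact absurd h hχ1
      · exact h
    -- restrict the sum to D
    have hsumD : ∑ t : H, (χ : H → ℂ) (t * g' * t⁻¹ * g'⁻¹) =
        ∑ t : ↥D, (χ : H → ℂ) ((t : H) * g' * (t : H)⁻¹ * g'⁻¹) := by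
      rw [← Finset.sum_subtype (Finset.univ.filter (fun t : H => t ∈ D))
        (fun t => by simp) (fun t : H => (χ : H → ℂ) (t * g' * t⁻¹ * g'⁻¹))]
      rw [Finset.sum_filter]
      apply Finset.sum_congr rfl
      intro t _
      by_cases ht : t ∈ D
      · rw [if_pos ht]
      · rw [if_neg ht]
        apply hvan
        intro hmem
        exact ht (hself z z.2 t hmem)
    -- each term in D
    have hterm : ∀ t : ↥D, (χ : H → ℂ) ((t : H) * g' * (t : H)⁻¹ * g'⁻¹) =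
        (e : ℂ) * θh (t * ⟨g', hg'D⟩ * t⁻¹ * (⟨g', hg'D⟩ : ↥D)⁻¹) := by
      intro t
      have hmem : t * ⟨g', hg'D⟩ * t⁻¹ * (⟨g', hg'D⟩ : ↥D)⁻¹ ∈ N := hcomm t ⟨g', hg'D⟩
      have h1 := hθhres ⟨_, hmem⟩
      rw [h1]
      simp only [hθ']
      have h2 := hres (f ⟨_, hmem⟩)
      rw [← h2]
      rfl
    have hKsum : ∑ t : ↥D, θh (t * ⟨g', hg'D⟩ * t⁻¹ * (⟨g', hg'D⟩ : ↥D)⁻¹) = 0 := by
      have : (e : ℂ) * ∑ t : ↥D, θh (t * ⟨g', hg'D⟩ * t⁻¹ * (⟨g', hg'D⟩ : ↥D)⁻¹) = 0 := by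
        rw [Finset.mul_sum, ← Finset.sum_congr rfl (fun t _ => hterm t), ← hsumD, hHsum']
      rcases mul_eq_zero.mp this with h | h
      · exact absurd h hec
      · exact h
    have hK := irr_sum_conj_mul (⟨θh, hθhirr⟩ : IrrCharacter ↥D) ⟨g', hg'D⟩ (⟨g', hg'D⟩ : ↥D)⁻¹
    simp only at hK
    rw [hKsum, mul_zero] at hK
    have hinvc := irr_inv (⟨θh, hθhirr⟩ : IrrCharacter ↥D) ⟨g', hg'D⟩
    simp only at hinvc
    rw [hinvc] at hK
    have hDpos : (Nat.card ↥D : ℂ) ≠ 0 := by exact_mod_cast Nat.card_pos.ne'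
    have h3 : θh ⟨g', hg'D⟩ * (starRingEnd ℂ) (θh ⟨g', hg'D⟩) = 0 := by
      have h4 : (Nat.card ↥D : ℂ) * (θh ⟨g', hg'D⟩ * (starRingEnd ℂ) (θh ⟨g', hg'D⟩)) = 0 := by
        rw [← mul_assoc]; exact hK.symm
      rcases mul_eq_zero.mp h4 with h | h
      · exact absurd h hDpos
      · exact h
    rw [Complex.mul_conj, ← Complex.ofReal_zero, Complex.ofReal_inj, Complex.normSq_eq_zero] at h3
    exact h3
  -- coset average
  have hθhN : IsIrrCharacter ↥N (fun n : ↥N => θh n) := by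
    have : (fun n : ↥N => θh n) = θ' := funext hθhres
    rw [this]; exact hθ'irr
  have havg := (coset_average_theorem N θh hθhirr hθhN θh hθhirr _ rfl).2.2 rfl
  have h1 := congrFun havg (⟨g, hgD⟩ : ↥D)
  have hzero : ∑ n : ↥N, θh ((n : ↥D) * ⟨g, hgD⟩) *
      (starRingEnd ℂ) (θh ((n : ↥D) * ⟨g, hgD⟩)) = 0 := by
    apply Finset.sum_eq_zero
    intro n _
    have := hvanish (f n)
    have heq : ((n : ↥D) * ⟨g, hgD⟩ : ↥D) = ⟨((f n : ↥Z) : H) * g, D.mul_mem (hZD (f n).2) hgD⟩ := by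
      apply Subtype.ext
      rfl
    rw [heq, this, zero_mul]
  rw [hzero, mul_zero] at h1
  exact zero_ne_one h1

end FullyRamCyc

end Cfsg.Agent.Helper20
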