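import Mathlib

set_option autoImplicit false

/-!
Number theory piece (P4) for the Gross–Shult exceptional case:
`p` odd prime, `p ^ m = 2 ^ d + 1`, `m ≤ n`, `p ^ n ∣ 2 ^ e - 1`, `0 < e`  ⟹  `2 * d * p ^ (n - m) ≤ e`.
-/

namespace Cfsg.Agent.Helper20.GSP4

/-- If `N = 2 ^ d + 1` divides `2 ^ e - 1` (with `d ≥ 1`) then `2 * d ∣ e`. -/
theorem two_mul_dvd_of_dvd {d e : ℕ} (hd : 0 < d) (h : 2 ^ d + 1 ∣ 2 ^ e - 1) : 2 * d ∣ e := by
  set N := 2 ^ d + 1 with hN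
  have hN1 : 1 < N := by
    have : 0 < 2 ^ d := Nat.pos_of_ne_zero (by positivity)
    omega
  have hpow_d : (2 : ZMod N) ^ d = -1 := by
    have h0 : ((2 ^ d + 1 : ℕ) : ZMod N) = 0 := by
      rw [← hN]; exact ZMod.natCast_self N
    push_cast at h0
    exact eq_neg_of_add_eq_zero_left h0
  have hpow_2d : (2 : ZMod N) ^ (2 * d) = 1 := by
    rw [mul_comm, pow_mul, hpow_d]; norm_num
  have hpow_e : (2 : ZMod N) ^ e = 1 := by
    have h1 : 1 ≤ 2 ^ e := Nat.one_le_two_pow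
    have h0 : ((2 ^ e - 1 : ℕ) : ZMod N) = 0 := (ZMod.natCast_eq_zero_iff _ _).mpr h
    rw [Nat.cast_sub h1] at h0
    push_cast at h0
    exact sub_eq_zero.mp h0
  -- the order of 2
  have ho_dvd_2d : orderOf (2 : ZMod N) ∣ 2 * d := orderOf_dvd_of_pow_eq_one hpow_2d
  have ho_dvd_e : orderOf (2 : ZMod N) ∣ e := orderOf_dvd_of_pow_eq_one hpow_e
  have ho_pos : 0 < orderOf (2 : ZMod N) :=
    Nat.pos_of_ne_zero (fun h0 => by
      rw [h0] at ho_dvd_2d
      have := Nat.eq_zero_of_zero_dvd ho_dvd_2d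
      omega)
  -- the order exceeds d
  have ho_gt : d < orderOf (2 : ZMod N) := by
    by_contra hle
    replace hle := not_lt.mp hle
    set o := orderOf (2 : ZMod N) with ho
    have h1 : (2 : ZMod N) ^ o = 1 := pow_orderOf_eq_one _
    have h2 : ((2 ^ o - 1 : ℕ) : ZMod N) = 0 := by
      rw [Nat.cast_sub Nat.one_le_two_pow]; push_cast; rw [h1]; simp
    have h3 : N ∣ 2 ^ o - 1 := (ZMod.natCast_eq_zero_iff _ _).mp h2
    have h4 : 2 ^ o ≤ 2 ^ d := Nat.pow_le_pow_right (by norm_num) hle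
    have h5 : 2 ^ o - 1 < N := by omega
    have h6 : 2 ^ o - 1 = 0 := Nat.eq_zero_of_dvd_of_lt h3 h5
    have h7 : 2 ≤ 2 ^ o := by
      calc 2 = 2 ^ 1 := by norm_num
        _ ≤ 2 ^ o := Nat.pow_le_pow_right (by norm_num) ho_pos
    omega
  -- order divides 2d and exceeds d, so equals 2d
  obtain ⟨k, hk⟩ := ho_dvd_2d
  have hk1 : k = 1 := by
    rcases k with _ | _ | k
    · simp at hk; omega
    · rfl
    · exfalso
      have : 2 * d = orderOf (2 : ZMod N) * (k + 2) := hk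
      nlinarith
  rw [hk1, mul_one] at hk
  rw [hk]; exact ho_dvd_e

/-- **P4.** -/
theorem main {p d m n e : ℕ} (hp : p.Prime) (hp2 : p ≠ 2) (hpm : p ^ m = 2 ^ d + 1)
    (hmn : m ≤ n) (he : 0 < e) (hdiv : p ^ n ∣ 2 ^ e - 1) :
    2 * d * p ^ (n - m) ≤ e := by
  have : Fact p.Prime := ⟨hp⟩
  have hodd : Odd p := hp.odd_of_ne_two hp2
  -- d ≥ 1, m ≥ 1
  have hd : 0 < d := by
    rcases Nat.eq_zero_or_pos d with h0 | h0
    · exfalso
      subst h0
      have h2 : p ^ m = 2 := by simpa using hpm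
      have hm0 : m ≠ 0 := by
        rintro rfl; simp at h2
      have : p ∣ 2 := by
        rw [← h2]; exact dvd_pow_self p hm0
      have := (Nat.prime_dvd_prime_iff_eq hp Nat.prime_two).mp this
      exact hp2 this
    · exact h0
  have hm : 0 < m := by
    rcases Nat.eq_zero_or_pos m with h0 | h0
    · exfalso
      subst h0
      have : 0 < 2 ^ d := Nat.pos_of_ne_zero (by positivity)
      simp at hpm
    · exact h0
  -- N ∣ 2^e - 1
  have hNdiv : 2 ^ d + 1 ∣ 2 ^ e - 1 := by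
    rw [← hpm]
    exact dvd_trans (pow_dvd_pow p hmn) hdiv
  obtain ⟨j, hj⟩ := two_mul_dvd_of_dvd hd hNdiv
  have hj0 : j ≠ 0 := by
    rintro rfl; simp at hj; omega
  -- LTE
  have hx : ¬ p ∣ 2 ^ (2 * d) := by
    intro h
    have := hp.dvd_of_dvd_pow h
    exact hp2 ((Nat.prime_dvd_prime_iff_eq hp Nat.prime_two).mp this)
  have hfac : 2 ^ (2 * d) - 1 = (2 ^ d - 1) * (2 ^ d + 1) := by
    have h1 : 1 ≤ 2 ^ d := Nat.one_le_two_pow
    have : 2 ^ (2 * d) = 2 ^ d * 2 ^ d := by rw [two_mul, pow_add]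
    rw [this]
    zify [h1, Nat.one_le_iff_ne_zero.mpr (mul_ne_zero (by positivity : (2:ℕ) ^ d ≠ 0) (by positivity : (2:ℕ) ^ d ≠ 0))]
    ring
  have hpdvdN : p ∣ 2 ^ d + 1 := by
    rw [← hpm]; exact dvd_pow_self p hm.ne'
  have hpndvd : ¬ p ∣ 2 ^ d - 1 := by
    intro h
    have h1 : 1 ≤ 2 ^ d := Nat.one_le_two_pow
    have h2 : p ∣ (2 ^ d + 1) - (2 ^ d - 1) := Nat.dvd_sub hpdvdN h
    have h3 : (2 ^ d + 1) - (2 ^ d - 1) = 2 := by omega
    rw [h3] at h2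
    exact hp2 ((Nat.prime_dvd_prime_iff_eq hp Nat.prime_two).mp h2)
  have hxy : p ∣ 2 ^ (2 * d) - 1 := by
    rw [hfac]; exact dvd_mul_of_dvd_right hpdvdN _
  have hlt : 1 < 2 ^ (2 * d) := by
    have : 0 < 2 * d := by omega
    exact Nat.one_lt_two_pow this.ne'
  have hLTE := padicValNat.pow_sub_pow (p := p) hodd hlt hxy hx hj0
  rw [one_pow, ← pow_mul, ← hj] at hLTE
  -- valuation of 2^(2d) - 1 is m
  have hval : padicValNat p (2 ^ (2 * d) - 1) = m := by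
    rw [hfac]
    have h1 : 2 ^ d - 1 ≠ 0 := by
      have : 2 ≤ 2 ^ d := by
        calc 2 = 2 ^ 1 := by norm_num
          _ ≤ 2 ^ d := Nat.pow_le_pow_right (by norm_num) hd
      omega
    rw [padicValNat.mul h1 (by positivity), ← hpm, padicValNat.prime_pow,
      padicValNat.eq_zero_of_not_dvd hpndvd, zero_add]
  rw [hval] at hLTE
  -- n ≤ valuation
  have hne : 2 ^ e - 1 ≠ 0 := by
    have : 2 ≤ 2 ^ e := by
      calc 2 = 2 ^ 1 := by norm_num
        _ ≤ 2 ^ e := Nat.pow_le_pow_right (by norm_num) he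
    omega
  have hnle : n ≤ padicValNat p (2 ^ e - 1) := (padicValNat_dvd_iff_le hne).mp hdiv
  rw [hLTE] at hnle
  have hvj : n - m ≤ padicValNat p j := by omega
  have hpj : p ^ (n - m) ∣ j := (padicValNat_dvd_iff_le hj0).mpr hvj
  have hjle : p ^ (n - m) ≤ j := Nat.le_of_dvd (Nat.pos_of_ne_zero hj0) hpj
  calc 2 * d * p ^ (n - m) ≤ 2 * d * j := Nat.mul_le_mul_left _ hjle
    _ = e := hj.symm

end Cfsg.Agent.Helper20.GSP4
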