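import Mathlib
import Cfsg.Prelude.Def_Characters
import Cfsg.Agent.Helper5.ElementarySplit
import Cfsg.Agent.Helper24.BrauerCyclic

/-!
# Hall subgroups with controlled fusion (Isaacs 8.22), part A

Power maps picking out the `π`-part, images of elementary groups, and the power map on an
elementary subgroup being multiplicative.
-/

set_option autoImplicit false

namespace Cfsg.Agent.Helper20.HallComp

open Cfsg

theorem pow_eq_self_of_modEq {X : Type*} [Group X] {x : X} {n a : ℕ} (ha : a ≡ 1 [MOD n])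
    (hx : x ^ n = 1) : x ^ a = x := by
  have h1 : orderOf x ∣ n := orderOf_dvd_of_pow_eq_one hx
  have h2 : a ≡ 1 [MOD orderOf x] := ha.of_dvd h1
  have := (pow_eq_pow_iff_modEq (x := x)).mpr h2
  simpa using this

theorem pow_eq_one_of_dvd {X : Type*} [Group X] {x : X} {m a : ℕ} (ha : m ∣ a)
    (hx : x ^ m = 1) : x ^ a = 1 := by
  obtain ⟨c, rfl⟩ := ha
  rw [pow_mul, hx, one_pow]

theorem isElementary_of_surjective {E E' : Type*} [Group E] [Group E'] {p : ℕ}
    (hp : p.Prime) (f : E →* E') (hf : Function.Surjective f) (hE : IsElementary p E) :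
    IsElementary p E' := by
  obtain ⟨x, hxc, hxp, k, hk⟩ := hE
  refine ⟨f x, ?_, ?_, ?_⟩
  · rw [Subgroup.mem_center_iff]
    intro y
    obtain ⟨e, rfl⟩ := hf y
    rw [← map_mul, ← map_mul, Subgroup.mem_center_iff.mp hxc e]
  · exact Nat.Coprime.coprime_dvd_left (orderOf_map_dvd f x) hxp
  · have h1 : (Subgroup.zpowers (f x)).index ∣ (Subgroup.zpowers x).index := by
      rw [← MonoidHom.map_zpowers]
      exact Subgroup.index_map_dvd _ hf
    rw [hk] at h1
    obtain ⟨j, _, hj⟩ := (Nat.dvd_prime_pow hp).mp h1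
    exact ⟨j, hj⟩

theorem card_dvd_of_forall_pow_eq_one {G : Type*} [Group G] [Finite G] {n m : ℕ}
    (hcard : Nat.card G = n * m) (hcop : Nat.Coprime n m) (K : Subgroup G)
    (hK : ∀ y ∈ K, y ^ n = 1) : Nat.card K ∣ n := by
  have h1 : Nat.card K ∣ n * m := hcard ▸ Subgroup.card_subgroup_dvd_card K
  have h2 : Nat.Coprime (Nat.card K) m := by
    by_contra hne
    obtain ⟨r, hr, hrK, hrm⟩ := Nat.Prime.not_coprime_iff_dvd.mp hne
    haveI := Fact.mk hr
    obtain ⟨y, hy⟩ := exists_prime_orderOf_dvd_card' r hrK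
    have hyn : (y : G) ^ n = 1 := hK y y.2
    have h3 : orderOf (y : G) = r := by rw [Subgroup.orderOf_coe, hy]
    have h4 : r ∣ n := h3 ▸ orderOf_dvd_of_pow_eq_one hyn
    have h5 : r ∣ 1 := hcop ▸ Nat.dvd_gcd h4 hrm
    exact hr.one_lt.ne' (Nat.dvd_one.mp h5)
  exact h2.dvd_of_dvd_mul_right h1

/-- On an elementary subgroup the power map by `a` (`a ≡ 1` mod `n`, `m ∣ a`) is multiplicative. -/
theorem pow_mul_of_elementary {G : Type*} [Group G] [Finite G] {n m a : ℕ}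
    (hcard : Nat.card G = n * m) (hcop : Nat.Coprime n m) (ha1 : a ≡ 1 [MOD n]) (ham : m ∣ a)
    (E : Subgroup G) {p : ℕ} (hp : p.Prime) (hE : IsElementary p E) (e₁ e₂ : E) :
    (e₁ * e₂) ^ a = e₁ ^ a * e₂ ^ a := by
  have hGpos : 0 < Nat.card G := Nat.card_pos
  have hn0 : n ≠ 0 := fun h => by rw [h, zero_mul] at hcard; omega
  have hm0 : m ≠ 0 := fun h => by rw [h, mul_zero] at hcard; omega
  have hEcard : Nat.card E ∣ n * m := hcard ▸ Subgroup.card_subgroup_dvd_card E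
  obtain ⟨A, B, _, hcomm, hprod, hAn, hBm⟩ :=
    Cfsg.Agent.Helper5.exists_coprime_split hp hE n m hcop hn0 hm0 hEcard
  have key : ∀ a' ∈ A, ∀ b' ∈ B, (a' * b') ^ a = a' := by
    intro a' ha' b' hb'
    have hc : Commute a' b' := hcomm a' ha' b' hb'
    have h1 : a' ^ n = 1 :=
      orderOf_dvd_iff_pow_eq_one.mp ((Subgroup.orderOf_dvd_natCard A ha').trans hAn)
    have h2 : b' ^ m = 1 :=
      orderOf_dvd_iff_pow_eq_one.mp ((Subgroup.orderOf_dvd_natCard B hb').trans hBm)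
    rw [hc.mul_pow, pow_eq_self_of_modEq ha1 h1, pow_eq_one_of_dvd ham h2, mul_one]
  obtain ⟨a₁, ha₁, b₁, hb₁, rfl⟩ := hprod e₁
  obtain ⟨a₂, ha₂, b₂, hb₂, rfl⟩ := hprod e₂
  have e : a₁ * b₁ * (a₂ * b₂) = (a₁ * a₂) * (b₁ * b₂) := by
    have := hcomm a₂ ha₂ b₁ hb₁
    calc a₁ * b₁ * (a₂ * b₂) = a₁ * (b₁ * a₂) * b₂ := by group
      _ = a₁ * (a₂ * b₁) * b₂ := by rw [this]
      _ = (a₁ * a₂) * (b₁ * b₂) := by group
  rw [e, key _ (A.mul_mem ha₁ ha₂) _ (B.mul_mem hb₁ hb₂), key a₁ ha₁ b₁ hb₁, key a₂ ha₂ b₂ hb₂]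

end Cfsg.Agent.Helper20.HallComp
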