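import Mathlib
import Cfsg.Prelude.Def_Characters
import Cfsg.Agent.Helper20.HallCompA
import Cfsg.Agent.Helper24.BrauerChar
import Cfsg.Agent.Helper8.CharComp

/-!
# Hall subgroups with controlled fusion (Isaacs 8.22), part B

The extension `tilde θ` of a class function `θ` of `H` to `G` via `π`-parts, and the fact that it is
a generalized character when `θ` is a character (Brauer's characterization).
-/

set_option autoImplicit false

namespace Cfsg.Agent.Helper20.HallComp

open Cfsg Cfsg.Agent.Helper24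

universe u

variable {G : Type u} [Group G]

/-- The standing hypotheses of Isaacs' Theorem 8.22, with `n = |H|`, `m = |G : H|` and `a` an
exponent that is `1` mod `n` and `0` mod `m`. -/
structure HC (H : Subgroup G) (n m a : ℕ) : Prop where
  hn : Nat.card H = n
  hcard : Nat.card G = n * m
  hcop : Nat.Coprime n m
  ha1 : a ≡ 1 [MOD n]
  ham : m ∣ a
  hfus : ∀ x ∈ H, ∀ y ∈ H, IsConj x y → ∃ h ∈ H, h * x * h⁻¹ = y
  helem : ∀ (E : Subgroup G) (p : ℕ), p.Prime → IsElementary p E → Nat.card E ∣ n →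
    ∃ g : G, E.map (MulAut.conj g).toMonoidHom ≤ H

variable {H : Subgroup G} {n m a : ℕ}

theorem HC.pow_pow [Finite G] (hc : HC H n m a) (g : G) : (g ^ a) ^ n = 1 := by
  obtain ⟨c, hc'⟩ := hc.ham
  rw [← pow_mul, hc', mul_comm m c, mul_assoc, mul_comm m n, ← hc.hcard, mul_comm, pow_mul,
    pow_card_eq_one', one_pow]

theorem HC.pow_of_mem [Finite G] (hc : HC H n m a) {h : G} (hh : h ∈ H) : h ^ a = h := by
  apply pow_eq_self_of_modEq hc.ha1
  have h1 : (⟨h, hh⟩ : H) ^ Nat.card H = 1 := pow_card_eq_one'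
  rw [hc.hn] at h1
  have := congrArg Subtype.val h1
  simpa using this

theorem HC.exists_conj [Finite G] (hc : HC H n m a) (g : G) : ∃ t : G, t * g ^ a * t⁻¹ ∈ H := by
  haveI : Fact (Nat.Prime 2) := ⟨Nat.prime_two⟩
  have hE : IsElementary 2 (Subgroup.zpowers (g ^ a)) :=
    isElementary_of_isCyclic 2 (Subgroup.zpowers (g ^ a))
  have hcardE : Nat.card (Subgroup.zpowers (g ^ a)) ∣ n := by
    rw [Nat.card_zpowers]
    exact orderOf_dvd_of_pow_eq_one (hc.pow_pow g)
  obtain ⟨t, ht⟩ := hc.helem _ 2 Nat.prime_two hE hcardE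
  refine ⟨t, ?_⟩
  have := ht (Subgroup.mem_map_of_mem _ (Subgroup.mem_zpowers (g ^ a)))
  simpa [MulAut.conj_apply] using this

/-- A chosen element of `H` conjugate to the `π`-part `g ^ a`. -/
noncomputable def rep [Finite G] (hc : HC H n m a) (g : G) : H :=
  ⟨(hc.exists_conj g).choose * g ^ a * (hc.exists_conj g).choose⁻¹, (hc.exists_conj g).choose_spec⟩

theorem isConj_rep [Finite G] (hc : HC H n m a) (g : G) : IsConj (g ^ a) (rep hc g : G) := by
  rw [isConj_iff]
  exact ⟨(hc.exists_conj g).choose, rfl⟩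

/-- The extension of a function on `H` to `G`. -/
noncomputable def tilde [Finite G] (hc : HC H n m a) (θ : H → ℂ) (g : G) : ℂ := θ (rep hc g)

theorem tilde_eq [Finite G] (hc : HC H n m a) {θ : H → ℂ} (hθ : IsClassFunction H θ) {g : G}
    (y : H) (hy : IsConj (g ^ a) (y : G)) : tilde hc θ g = θ y := by
  have h1 : IsConj (rep hc g : G) (y : G) := (isConj_rep hc g).symm.trans hy
  obtain ⟨h, hh, hconj⟩ := hc.hfus _ (rep hc g).2 _ y.2 h1
  have h2 : y = ⟨h, hh⟩ * rep hc g * (⟨h, hh⟩ : H)⁻¹ := by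
    apply Subtype.ext
    simp [hconj]
  show θ (rep hc g) = θ y
  rw [h2, hθ]

theorem isClassFunction_tilde [Finite G] (hc : HC H n m a) {θ : H → ℂ}
    (hθ : IsClassFunction H θ) : IsClassFunction G (tilde hc θ) := by
  intro g s
  symm
  apply tilde_eq hc hθ
  have h1 : IsConj (g ^ a) ((s * g * s⁻¹) ^ a) := by
    rw [conj_pow, isConj_iff]
    exact ⟨s, rfl⟩
  exact h1.trans (isConj_rep hc _)

theorem tilde_coe [Finite G] (hc : HC H n m a) {θ : H → ℂ} (hθ : IsClassFunction H θ) (h : H) :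
    tilde hc θ (h : G) = θ h := by
  apply tilde_eq hc hθ
  rw [hc.pow_of_mem h.2]

theorem tilde_one [Finite G] (hc : HC H n m a) {θ : H → ℂ} (hθ : IsClassFunction H θ) :
    tilde hc θ 1 = θ 1 := by
  have := tilde_coe hc hθ 1
  simpa using this

theorem tilde_of_pow_eq_one [Finite G] (hc : HC H n m a) {θ : H → ℂ} (hθ : IsClassFunction H θ)
    {g : G} (hg : g ^ a = 1) : tilde hc θ g = θ 1 := by
  apply tilde_eq hc hθ
  rw [hg]
  simp

/-- **Brauer**: the extension of a character of `H` is a generalized character of `G`. -/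
theorem isGeneralizedCharacter_tilde [Fintype G] (hc : HC H n m a) {θ : H → ℂ}
    (hθ : IsCharacter H θ) : IsGeneralizedCharacter G (tilde hc θ) := by
  have hcf : IsClassFunction H θ := IsCharacter.isClassFunction hθ
  apply isGeneralizedCharacter_of_restrict_elementary _ (isClassFunction_tilde hc hcf)
  intro E p hp hE
  -- the power map on `E`
  let pw : E →* E := MonoidHom.mk' (fun e => e ^ a)
    (fun e₁ e₂ => pow_mul_of_elementary hc.hcard hc.hcop hc.ha1 hc.ham E hp hE e₁ e₂)
  let φ : E →* G := E.subtype.comp pw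
  have hφ : ∀ e : E, φ e = (e : G) ^ a := fun e => by simp [φ, pw]
  have hEl : IsElementary p φ.range :=
    isElementary_of_surjective hp φ.rangeRestrict φ.rangeRestrict_surjective hE
  have hcardR : Nat.card φ.range ∣ n := by
    apply card_dvd_of_forall_pow_eq_one hc.hcard hc.hcop
    rintro y ⟨e, rfl⟩
    rw [hφ]
    exact hc.pow_pow _
  obtain ⟨t, ht⟩ := hc.helem _ p hp hEl hcardR
  have hmem : ∀ e : E, ((MulAut.conj t).toMonoidHom.comp φ) e ∈ H := by
    intro e
    exact ht (Subgroup.mem_map_of_mem _ ⟨e, rfl⟩)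
  let κ : E →* H := ((MulAut.conj t).toMonoidHom.comp φ).codRestrict H hmem
  have hκ : ∀ e : E, (κ e : G) = t * (e : G) ^ a * t⁻¹ := by
    intro e
    simp [κ, hφ, MulAut.conj_apply]
  have heq : (fun e : E => tilde hc θ (e : G)) = fun e => θ (κ e) := by
    funext e
    apply tilde_eq hc hcf
    rw [hκ, isConj_iff]
    exact ⟨t, rfl⟩
  rw [heq]
  exact IsCharacter.isGeneralizedCharacter (Cfsg.Agent.Helper8.isCharacter_comp κ hθ)

end Cfsg.Agent.Helper20.HallComp
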