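import Mathlib
import Cfsg.Prelude.Def_Characters
import Cfsg.Agent.Helper20.HallCompB
import Cfsg.Agent.Helper24.Generalized
import Cfsg.Agent.Helper24.Integrality
import Cfsg.Agent.Helper24.Linear
import Cfsg.Agent.Helper24.Regular

/-!
# Hall subgroups with controlled fusion (Isaacs 8.22), part C

The counting formula for `∑ g, F (rep g)`, the weight function `wq`, the proof that it is
identically one, and the resulting isometry `[tilde α, tilde β] = [α, β]`.
-/

set_option autoImplicit false

namespace Cfsg.Agent.Helper20.HallComp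

open Cfsg Cfsg.Agent.Helper24
open scoped ComplexConjugate

universe u

variable {G : Type u} [Group G] {H : Subgroup G} {n m a : ℕ}

/-- Size of the section of `h`: the number of `g` whose `π`-part `g ^ a` is conjugate to `h`. -/
noncomputable def sec (a : ℕ) (h : H) : ℕ := Nat.card {g : G // IsConj (g ^ a) (h : G)}

/-- Number of elements of `H` that are `G`-conjugate to `h`. -/
noncomputable def fus (h : H) : ℕ := Nat.card {y : H // IsConj (y : G) (h : G)}

theorem fus_pos [Finite G] (h : H) : 0 < fus h := by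
  haveI : Nonempty {y : H // IsConj (y : G) (h : G)} := ⟨⟨h, IsConj.refl _⟩⟩
  exact Nat.card_pos

theorem sec_pos [Finite G] (hc : HC H n m a) (h : H) : 0 < sec a h := by
  haveI : Nonempty {g : G // IsConj (g ^ a) (h : G)} :=
    ⟨⟨(h : G), by rw [hc.pow_of_mem h.2]⟩⟩
  exact Nat.card_pos

theorem fus_eq_of_isConj {h h' : H} (hh : IsConj (h : G) (h' : G)) : fus h = fus h' :=
  Nat.card_congr (Equiv.subtypeEquivRight
    (fun _ => ⟨fun hy => hy.trans hh, fun hy => hy.trans hh.symm⟩))

theorem sec_eq_of_isConj {h h' : H} (hh : IsConj (h : G) (h' : G)) : sec a h = sec a h' :=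
  Nat.card_congr (Equiv.subtypeEquivRight
    (fun _ => ⟨fun hy => hy.trans hh, fun hy => hy.trans hh.symm⟩))

/-- The counting formula. -/
theorem sum_rep [Fintype G] [Fintype H] (hc : HC H n m a) {F : H → ℂ}
    (hF : IsClassFunction H F) :
    ∑ g : G, F (rep hc g) = ∑ h : H, F h * ((sec a h : ℂ) / (fus h : ℂ)) := by
  classical
  have h1 : ∀ g : G, F (rep hc g) =
      ∑ h : H, if IsConj (g ^ a) (h : G) then F h / (fus h : ℂ) else 0 := by
    intro g
    have h2 : ∀ h : H, IsConj (g ^ a) (h : G) →
        F h / (fus h : ℂ) = F (rep hc g) / (fus (rep hc g) : ℂ) := by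
      intro h hh
      have e1 : F (rep hc g) = F h := tilde_eq hc hF h hh
      have e2 : fus h = fus (rep hc g) := fus_eq_of_isConj (hh.symm.trans (isConj_rep hc g))
      rw [e1, e2]
    rw [← Finset.sum_filter,
      Finset.sum_congr rfl (fun h hh => h2 h (Finset.mem_filter.mp hh).2),
      Finset.sum_const, nsmul_eq_mul]
    have e3 : (Finset.univ.filter (fun h : H => IsConj (g ^ a) (h : G))).card =
        fus (rep hc g) := by
      unfold fus
      rw [Nat.card_eq_fintype_card, Fintype.card_subtype]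
      congr 1
      ext h
      simp only [Finset.mem_filter, Finset.mem_univ, true_and]
      exact ⟨fun hh => hh.symm.trans (isConj_rep hc g),
        fun hh => (isConj_rep hc g).trans hh.symm⟩
    rw [e3]
    have : (fus (rep hc g) : ℂ) ≠ 0 := by exact_mod_cast (fus_pos _).ne'
    field_simp
  simp_rw [h1]
  rw [Finset.sum_comm]
  refine Finset.sum_congr rfl (fun h _ => ?_)
  rw [← Finset.sum_filter, Finset.sum_const, nsmul_eq_mul]
  have e4 : (Finset.univ.filter (fun g : G => IsConj (g ^ a) (h : G))).card = sec a h := by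
    unfold sec
    rw [Nat.card_eq_fintype_card, Fintype.card_subtype]
  rw [e4]
  ring

/-- The weight function. -/
noncomputable def wq (m a : ℕ) (h : H) : ℚ := (sec a h : ℚ) / ((m : ℚ) * (fus h : ℚ))

theorem HC.n_pos [Finite G] (hc : HC H n m a) : 0 < n := by
  have : 0 < Nat.card G := Nat.card_pos
  rw [hc.hcard] at this
  exact Nat.pos_of_mul_pos_right this

theorem HC.m_pos [Finite G] (hc : HC H n m a) : 0 < m := by
  have : 0 < Nat.card G := Nat.card_pos
  rw [hc.hcard] at this
  exact Nat.pos_of_mul_pos_left this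

theorem wq_pos [Finite G] (hc : HC H n m a) (h : H) : 0 < wq m a h := by
  unfold wq
  have h1 : (0 : ℚ) < sec a h := by exact_mod_cast sec_pos hc h
  have h2 : (0 : ℚ) < fus h := by exact_mod_cast fus_pos h
  have h3 : (0 : ℚ) < m := by exact_mod_cast hc.m_pos
  positivity

theorem wq_conj (x h : H) : wq m a (x * h * x⁻¹) = wq m a h := by
  have hh : IsConj ((x * h * x⁻¹ : H) : G) (h : G) := by
    rw [isConj_comm, isConj_iff]
    exact ⟨(x : G), by simp⟩
  unfold wq
  rw [sec_eq_of_isConj hh, fus_eq_of_isConj hh]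

/-- The inner product formula with weights. -/
theorem classInner_tilde_wq [Fintype G] [Fintype H] (hc : HC H n m a) {α β : H → ℂ}
    (hα : IsClassFunction H α) (hβ : IsClassFunction H β) :
    classInner (tilde hc α) (tilde hc β) =
      (Nat.card H : ℂ)⁻¹ * ∑ h : H, α h * conj (β h) * ((wq m a h : ℚ) : ℂ) := by
  have hF : IsClassFunction H (fun h => α h * conj (β h)) := by
    intro h x
    show α (x * h * x⁻¹) * conj (β (x * h * x⁻¹)) = α h * conj (β h)
    rw [hα, hβ]
  have h1 := sum_rep hc hF
  unfold classInner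
  show (Nat.card G : ℂ)⁻¹ * ∑ g : G, α (rep hc g) * conj (β (rep hc g)) = _
  rw [h1, hc.hcard, hc.hn, Finset.mul_sum, Finset.mul_sum]
  refine Finset.sum_congr rfl (fun h _ => ?_)
  have hn0 : (n : ℂ) ≠ 0 := by exact_mod_cast hc.n_pos.ne'
  have hm0 : (m : ℂ) ≠ 0 := by exact_mod_cast hc.m_pos.ne'
  have hf0 : (fus h : ℂ) ≠ 0 := by exact_mod_cast (fus_pos h).ne'
  unfold wq
  push_cast
  field_simp

theorem tilde_const_one [Finite G] (hc : HC H n m a) :
    tilde hc (fun _ : H => (1 : ℂ)) = fun _ => 1 := rfl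

theorem isClassFunction_const_one (X : Type*) [Group X] : IsClassFunction X (fun _ => (1 : ℂ)) :=
  fun _ _ => rfl

/-- The weight function as a complex function. -/
noncomputable def W (m a : ℕ) (h : H) : ℂ := ((wq m a h : ℚ) : ℂ)

theorem isClassFunction_W : IsClassFunction H (W (H := H) m a) := by
  intro h x
  show ((wq m a (x * h * x⁻¹) : ℚ) : ℂ) = ((wq m a h : ℚ) : ℂ)
  rw [wq_conj]

theorem isGeneralizedCharacter_W [Fintype G] [Fintype H] [Fintype (IrrCharacter G)]
    [Fintype (IrrCharacter H)] (hc : HC H n m a) :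
    IsGeneralizedCharacter H (W (H := H) m a) := by
  apply isGeneralizedCharacter_of_classInner_int isClassFunction_W
  intro θ
  have h1 := classInner_tilde_wq hc (isClassFunction_const_one H) (isClassFunction_irr θ)
  rw [tilde_const_one] at h1
  have h2 : classInner (W (H := H) m a) (θ : H → ℂ) =
      classInner (fun _ : G => (1 : ℂ)) (tilde hc (θ : H → ℂ)) := by
    rw [h1]
    unfold classInner W
    congr 1
    refine Finset.sum_congr rfl (fun h _ => ?_)
    ring
  rw [h2]
  exact IsGeneralizedCharacter.classInner_int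
    (IsIrrCharacter.isGeneralizedCharacter isIrrCharacter_const_one)
    (isGeneralizedCharacter_tilde hc (IsIrrCharacter.isCharacter θ.2))

theorem wq_ge_one [Fintype G] [Fintype H] [Fintype (IrrCharacter G)]
    [Fintype (IrrCharacter H)] (hc : HC H n m a) (h : H) : 1 ≤ wq m a h := by
  obtain ⟨χ, ψ, hχ, hψ, hW⟩ := isGeneralizedCharacter_W hc
  obtain ⟨k₁, ρ₁, rfl⟩ := hχ
  obtain ⟨k₂, ρ₂, rfl⟩ := hψ
  have hint : IsIntegral ℤ ((wq m a h : ℚ) : ℂ) := by
    have := congrFun hW h
    show IsIntegral ℤ (W (H := H) m a h)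
    rw [this]
    exact IsIntegral.sub (char_isIntegral ρ₁ h) (char_isIntegral ρ₂ h)
  obtain ⟨z, hz⟩ := exists_int_of_isIntegral_ratCast hint
  have hpos := wq_pos hc h
  rw [hz] at hpos ⊢
  have : (0 : ℤ) < z := by exact_mod_cast hpos
  exact_mod_cast this

theorem sum_wq [Fintype G] [Fintype H] (hc : HC H n m a) : ∑ h : H, wq m a h = n := by
  have h1 := classInner_tilde_wq hc (isClassFunction_const_one H) (isClassFunction_const_one H)
  rw [tilde_const_one] at h1
  have h2 : classInner (fun _ : G => (1 : ℂ)) (fun _ : G => (1 : ℂ)) = 1 := by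
    unfold classInner
    simp only [map_one, mul_one, Finset.sum_const, Finset.card_univ, nsmul_eq_mul]
    rw [← Nat.card_eq_fintype_card]
    have : (Nat.card G : ℂ) ≠ 0 := by exact_mod_cast (Nat.card_pos (α := G)).ne'
    field_simp
  rw [h2, hc.hn] at h1
  have hn0 : (n : ℂ) ≠ 0 := by exact_mod_cast hc.n_pos.ne'
  have h3 : ∑ h : H, ((wq m a h : ℚ) : ℂ) = n := by
    have : ∑ h : H, (1 : ℂ) * conj (1 : ℂ) * ((wq m a h : ℚ) : ℂ) = ∑ h : H, ((wq m a h : ℚ) : ℂ) := by
      refine Finset.sum_congr rfl (fun h _ => ?_)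
      simp
    rw [this] at h1
    field_simp at h1
    exact h1.symm
  have h4 : ((∑ h : H, wq m a h : ℚ) : ℂ) = ((n : ℚ) : ℂ) := by
    push_cast
    exact h3
  exact_mod_cast h4

theorem wq_eq_one [Fintype G] [Fintype H] [Fintype (IrrCharacter G)]
    [Fintype (IrrCharacter H)] (hc : HC H n m a) (h : H) : wq m a h = 1 := by
  have h1 : ∑ h : H, (wq m a h - 1) = 0 := by
    rw [Finset.sum_sub_distrib, sum_wq hc]
    simp only [Finset.sum_const, Finset.card_univ, nsmul_eq_mul, mul_one]
    rw [← Nat.card_eq_fintype_card, hc.hn]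
    simp
  have h2 := (Finset.sum_eq_zero_iff_of_nonneg
    (fun h _ => sub_nonneg.mpr (wq_ge_one hc h))).mp h1 h (Finset.mem_univ h)
  linarith

/-- The extension map is an isometry. -/
theorem classInner_tilde [Fintype G] [Fintype H] [Fintype (IrrCharacter G)]
    [Fintype (IrrCharacter H)] (hc : HC H n m a) {α β : H → ℂ}
    (hα : IsClassFunction H α) (hβ : IsClassFunction H β) :
    classInner (tilde hc α) (tilde hc β) = classInner α β := by
  rw [classInner_tilde_wq hc hα hβ]
  unfold classInner
  congr 1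
  refine Finset.sum_congr rfl (fun h _ => ?_)
  rw [wq_eq_one hc h]
  simp

/-- The extension of an irreducible character of `H` is an irreducible character of `G`. -/
theorem isIrrCharacter_tilde [Fintype G] [Fintype H] [Fintype (IrrCharacter G)]
    [Fintype (IrrCharacter H)] (hc : HC H n m a) (θ : IrrCharacter H) :
    IsIrrCharacter G (tilde hc (θ : H → ℂ)) := by
  apply IsGeneralizedCharacter.isIrrCharacter_of_classInner_self
    (isGeneralizedCharacter_tilde hc (IsIrrCharacter.isCharacter θ.2))
  · rw [classInner_tilde hc (isClassFunction_irr θ) (isClassFunction_irr θ), classInner_irr_self]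
  · rw [tilde_one hc (isClassFunction_irr θ)]
    obtain ⟨d, hd, hd1⟩ := isIrrCharacter_one θ.2
    rw [hd1]
    simpa using hd

/-- The number of `π'`-elements is `m`. -/
theorem card_pow_eq_one [Fintype G] [Fintype H] [Fintype (IrrCharacter G)]
    [Fintype (IrrCharacter H)] (hc : HC H n m a) : Nat.card {g : G // g ^ a = 1} = m := by
  have h1 := wq_eq_one hc (1 : H)
  have hf : fus (1 : H) = 1 := by
    unfold fus
    rw [Nat.card_eq_one_iff_unique]
    refine ⟨⟨?_⟩, ⟨⟨1, IsConj.refl _⟩⟩⟩
    rintro ⟨y, hy⟩ ⟨y', hy'⟩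
    apply Subtype.ext
    have e1 : (y : G) = 1 := isConj_one_left.mp (by simpa using hy)
    have e2 : (y' : G) = 1 := isConj_one_left.mp (by simpa using hy')
    exact Subtype.ext (e1.trans e2.symm)
  have hs : sec a (1 : H) = Nat.card {g : G // g ^ a = 1} := by
    unfold sec
    exact Nat.card_congr (Equiv.subtypeEquivRight (fun g => by
      rw [Subgroup.coe_one]; exact isConj_one_left))
  rw [← hs]
  unfold wq at h1
  rw [hf] at h1
  have hm0 : (m : ℚ) ≠ 0 := by exact_mod_cast hc.m_pos.ne'
  field_simp at h1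
  have h2 : sec a (1 : H) = m * 1 := by exact_mod_cast h1
  rw [h2, mul_one]

end Cfsg.Agent.Helper20.HallComp
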