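import Mathlib
import Cfsg.Agent.Helper16.BaerSuzuki
import Cfsg.Agent.Helper20.NormZpowers
import Cfsg.Agent.Helper20.Sylow

set_option autoImplicit false

namespace Cfsg.Agent.Helper20

/-- no element of the group inverts a nontrivial element of odd order -/
def NoInv (G : Type*) [Group G] : Prop :=
  ∀ w y : G, Odd (orderOf y) → w * y * w⁻¹ = y⁻¹ → y = 1

lemma isPGroup_two_zpowers_of_pow {G : Type*} [Group G] [Finite G] (d : G) (a : ℕ)
    (h : d ^ (2 ^ a) = 1) : IsPGroup 2 (Subgroup.zpowers d) := by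
  haveI : Fact (Nat.Prime 2) := ⟨Nat.prime_two⟩
  rw [IsPGroup.iff_card, Nat.card_zpowers]
  obtain ⟨k, _, hk⟩ := (Nat.dvd_prime_pow Nat.prime_two).1 (orderOf_dvd_of_pow_eq_one h)
  exact ⟨k, hk⟩

/-- Under `NoInv`, every involution lies in every Sylow `2`-subgroup (Baer–Suzuki). -/
lemma invol_mem_core_of_noInv {G : Type*} [Group G] [Finite G] (hG : NoInv G)
    (t : G) (ht : t * t = 1) : t ∈ (⨅ P : Sylow 2 G, (P : Subgroup G) : Subgroup G) := by
  haveI : Fact (Nat.Prime 2) := ⟨Nat.prime_two⟩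
  apply Cfsg.Agent.Helper16.baer_suzuki_elt 2 t
  intro g
  have htinv : t⁻¹ = t := inv_eq_of_mul_eq_one_left ht
  obtain ⟨s, hs⟩ : ∃ s, s = g * t * g⁻¹ := ⟨_, rfl⟩
  have hss : s * s = 1 := by
    rw [hs]
    calc g * t * g⁻¹ * (g * t * g⁻¹) = g * (t * t) * g⁻¹ := by group
      _ = 1 := by rw [ht]; group
  have hsinv : s⁻¹ = s := inv_eq_of_mul_eq_one_left hss
  rw [← hs]
  obtain ⟨d, hd⟩ : ∃ d, d = t * s := ⟨_, rfl⟩
  have htd : t * d * t⁻¹ = d⁻¹ := by
    rw [hd, mul_inv_rev, hsinv, htinv]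
    calc t * (t * s) * t = (t * t) * s * t := by group
      _ = s * t := by rw [ht, one_mul]
  obtain ⟨a, m, u, v, hcop, hordv, hdecomp⟩ := exists_pow_decomp 2 d
  have hy1 : d ^ (2 ^ a) = 1 := by
    apply hG t
    · exact Nat.coprime_two_left.1 hcop.symm
    · rw [← conj_pow, htd, inv_pow]
  have hpd : IsPGroup 2 (Subgroup.zpowers d) := isPGroup_two_zpowers_of_pow d a hy1
  have hpt : IsPGroup 2 (Subgroup.zpowers t) :=
    isPGroup_two_zpowers_of_pow t 1 (by rw [pow_one, pow_two]; exact ht)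
  have hle : Subgroup.zpowers t ≤
      Subgroup.normalizer ((Subgroup.zpowers d : Subgroup G) : Set G) := by
    rw [Subgroup.zpowers_le, mem_normalizer_zpowers_iff]
    refine ⟨by rw [htd]; exact Subgroup.inv_mem _ (Subgroup.mem_zpowers d), ?_⟩
    have : t⁻¹ * d * t = d⁻¹ := by
      rw [← htd, htinv]
    rw [this]; exact Subgroup.inv_mem _ (Subgroup.mem_zpowers d)
  have hsup := IsPGroup.to_sup_of_normal_right' hpt hpd hle
  refine hsup.to_le ?_
  rw [Subgroup.closure_le]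
  intro z hz
  rcases hz with rfl | hz
  · exact Subgroup.mem_sup_left (Subgroup.mem_zpowers _)
  · rw [Set.mem_singleton_iff] at hz
    have : z = t⁻¹ * d := by rw [hz, hd]; group
    rw [this]
    exact Subgroup.mul_mem _ (Subgroup.mem_sup_left (Subgroup.inv_mem _ (Subgroup.mem_zpowers _)))
      (Subgroup.mem_sup_right (Subgroup.mem_zpowers _))

/-- a normal `p`-subgroup lies in every Sylow `p`-subgroup -/
lemma normal_pgroup_le_sylow' {G : Type*} [Group G] {p : ℕ} [Fact p.Prime] (M : Subgroup G)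
    [M.Normal] (hM : IsPGroup p M) (Q : Sylow p G) : M ≤ (Q : Subgroup G) := by
  have h1 := IsPGroup.to_sup_of_normal_left hM Q.2
  have h2 := Q.is_maximal' h1 le_sup_right
  rw [← h2]; exact le_sup_left

/-- If `G` and all its quotients by normal `2`-subgroups satisfy `NoInv`, the Sylow
`2`-subgroups of `G` are normal. -/
theorem sylow2_normal_of_noInv {G : Type*} [Group G] [Finite G]
    (hQ : ∀ (O : Subgroup G) [O.Normal], IsPGroup 2 O → NoInv (G ⧸ O)) (P : Sylow 2 G) :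
    (P : Subgroup G).Normal := by
  haveI : Fact (Nat.Prime 2) := ⟨Nat.prime_two⟩
  obtain ⟨O, hO⟩ : ∃ O : Subgroup G, O = (⨅ P : Sylow 2 G, (P : Subgroup G) : Subgroup G) := ⟨_, rfl⟩
  haveI hOn : O.Normal := by rw [hO]; exact Cfsg.Agent.Helper16.iInf_sylow_normal 2
  have hOp : IsPGroup 2 O := by rw [hO]; exact Cfsg.Agent.Helper16.iInf_sylow_isPGroup 2
  have hOP : O ≤ (P : Subgroup G) := by rw [hO]; exact iInf_le _ P
  suffices hPO : (P : Subgroup G) ≤ O by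
    have : (P : Subgroup G) = O := le_antisymm hPO hOP
    rw [this]; exact hOn
  by_contra hcon
  obtain ⟨x, hxP, hxO⟩ := SetLike.not_le_iff_exists.1 hcon
  have hirrQ := hQ O hOp
  have hx1 : (x : G ⧸ O) ≠ 1 := by
    intro h; exact hxO ((QuotientGroup.eq_one_iff x).1 h)
  obtain ⟨k, hk⟩ := orderOf_eq_pow_of_mem_pgroup (P : Subgroup G) P.2 x hxP
  obtain ⟨j, hj⟩ : ∃ j, orderOf (x : G ⧸ O) = 2 ^ j := by
    have : orderOf (x : G ⧸ O) ∣ 2 ^ k := by
      rw [← hk]; exact orderOf_map_dvd (QuotientGroup.mk' O) x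
    obtain ⟨j, _, hj⟩ := (Nat.dvd_prime_pow Nat.prime_two).1 this
    exact ⟨j, hj⟩
  have hj0 : j ≠ 0 := by
    rintro rfl
    rw [pow_zero, orderOf_eq_one_iff] at hj
    exact hx1 hj
  obtain ⟨j', rfl⟩ : ∃ j', j = j' + 1 := ⟨j - 1, by omega⟩
  have ht2 : ((x ^ (2 ^ j') : G) : G ⧸ O) * ((x ^ (2 ^ j') : G) : G ⧸ O) = 1 := by
    rw [QuotientGroup.mk_pow, ← pow_add, ← two_mul, ← pow_succ', ← hj, pow_orderOf_eq_one]
  have ht1 : ((x ^ (2 ^ j') : G) : G ⧸ O) ≠ 1 := by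
    rw [QuotientGroup.mk_pow]
    intro h
    have := orderOf_dvd_of_pow_eq_one h
    rw [hj] at this
    have := Nat.le_of_dvd (by positivity) this
    have : 2 ^ j' < 2 ^ (j' + 1) := Nat.pow_lt_pow_right (by norm_num) (by omega)
    omega
  have hcore := invol_mem_core_of_noInv hirrQ _ ht2
  have hNn : (⨅ Q : Sylow 2 (G ⧸ O), (Q : Subgroup (G ⧸ O)) : Subgroup (G ⧸ O)).Normal :=
    Cfsg.Agent.Helper16.iInf_sylow_normal 2
  have hNp : IsPGroup 2 (⨅ Q : Sylow 2 (G ⧸ O), (Q : Subgroup (G ⧸ O)) : Subgroup (G ⧸ O)) :=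
    Cfsg.Agent.Helper16.iInf_sylow_isPGroup 2
  have hMp : IsPGroup 2 ((⨅ Q : Sylow 2 (G ⧸ O), (Q : Subgroup (G ⧸ O)) : Subgroup (G ⧸ O)).comap
      (QuotientGroup.mk' O)) := by
    apply hNp.comap_of_ker_isPGroup
    rw [QuotientGroup.ker_mk']; exact hOp
  haveI hMn : ((⨅ Q : Sylow 2 (G ⧸ O), (Q : Subgroup (G ⧸ O)) : Subgroup (G ⧸ O)).comap
      (QuotientGroup.mk' O)).Normal := hNn.comap _
  have hMO : ((⨅ Q : Sylow 2 (G ⧸ O), (Q : Subgroup (G ⧸ O)) : Subgroup (G ⧸ O)).comap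
      (QuotientGroup.mk' O)) ≤ O := by
    intro z hz
    rw [hO]
    exact Subgroup.mem_iInf.2 (fun Q => normal_pgroup_le_sylow' _ hMp Q hz)
  have : x ^ (2 ^ j') ∈ O := hMO (by rw [Subgroup.mem_comap]; exact hcore)
  exact ht1 ((QuotientGroup.eq_one_iff _).2 this)

end Cfsg.Agent.Helper20
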