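import Cfsg.Agent.Helper15.Iso44Defs
import Cfsg.Agent.Helper7.FStar
import Cfsg.Agent.Helper7.Fitting
import Cfsg.Agent.Helper15.Iso44Bas
import Cfsg.Agent.Helper21.Iso44CHARPB

/-! Board `s3044pieces`, row CLAY, core: in case B (`Y` perfect) the layer of `Y / O_p(Y)` is everything
(`normal_le_Y` of INV and `comm_YL_Y` of CY enter as hypotheses). -/

set_option autoImplicit false

namespace Cfsg.Agent.Helper15.Iso44

open Cfsg Subgroup
open scoped commutatorElement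

variable {G : Type*} [Group G] [Finite G] {p : ℕ} [Fact p.Prime] {S : Sylow p G} {P : Subgroup G}

section caseB
variable [hn : (Cfsg.pCore p ↥(Ysub p P)).Normal]

namespace CLAY

/-- a subgroup of `X = Y/O_p(Y)` whose preimage lies in `Y_L` is central in `X`. -/
theorem aux_central (hCYL : ⁅YLsub p S P, Ysub p P⁆ ≤ Osub p P)
    (K : Subgroup (↥(Ysub p P) ⧸ Cfsg.pCore p ↥(Ysub p P)))
    (hK : pb p P K ≤ YLsub p S P) : K ≤ Subgroup.center (↥(Ysub p P) ⧸ Cfsg.pCore p ↥(Ysub p P)) := by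
  intro k hk
  rw [Subgroup.mem_center_iff]
  intro x
  induction k using QuotientGroup.induction_on with
  | H g =>
    induction x using QuotientGroup.induction_on with
    | H y =>
      have hg : (g : G) ∈ pb p P K := (mem_pb K (g : G)).mpr ⟨g.2, hk⟩
      have h1 : ⁅(g : G), (y : G)⁆ ∈ Osub p P :=
        hCYL (Subgroup.commutator_mem_commutator (hK hg) y.2)
      obtain ⟨z, hz, hzc⟩ := h1
      have h2 : z = ⁅g, y⁆ := by
        apply Subtype.ext
        rw [← Subgroup.subtype_apply, hzc]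
        simp [commutatorElement_def]
      rw [h2] at hz
      have h3 : ((⁅g, y⁆ : ↥(Ysub p P)) : ↥(Ysub p P) ⧸ Cfsg.pCore p ↥(Ysub p P)) = 1 :=
        (QuotientGroup.eq_one_iff _).mpr hz
      have h4 : ⁅(g : ↥(Ysub p P) ⧸ Cfsg.pCore p ↥(Ysub p P)), (y : ↥(Ysub p P) ⧸ Cfsg.pCore p ↥(Ysub p P))⁆ = 1 := by
        rw [← h3]
        simp [commutatorElement_def]
      have h5 := commutatorElement_eq_one_iff_mul_comm.mp h4
      exact h5.symm

/-- `X = Y/O_p(Y)` is perfect in case B. -/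
theorem aux_perfect (hB : ⁅Ysub p P, Ysub p P⁆ = Ysub p P) :
    ⁅(⊤ : Subgroup (↥(Ysub p P) ⧸ Cfsg.pCore p ↥(Ysub p P))),
      (⊤ : Subgroup (↥(Ysub p P) ⧸ Cfsg.pCore p ↥(Ysub p P)))⁆ =
      (⊤ : Subgroup (↥(Ysub p P) ⧸ Cfsg.pCore p ↥(Ysub p P))) := by
  have h1 : ⁅(⊤ : Subgroup ↥(Ysub p P)), (⊤ : Subgroup ↥(Ysub p P))⁆ = (⊤ : Subgroup ↥(Ysub p P)) := by
    apply Subgroup.map_injective (Ysub p P).subtype_injective
    rw [Subgroup.map_commutator, ← MonoidHom.range_eq_map, Subgroup.range_subtype, hB]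
  have h2 := congrArg (Subgroup.map (QuotientGroup.mk' (Cfsg.pCore p ↥(Ysub p P)))) h1
  rw [Subgroup.map_commutator,
    Subgroup.map_top_of_surjective _ (QuotientGroup.mk'_surjective _)] at h2
  exact h2

/-- a solvable `X` is impossible in case B. -/
theorem aux_not_solvable (h : Ctx p S P) (hB : ⁅Ysub p P, Ysub p P⁆ = Ysub p P)
    (hsol : Group.IsSolvable (↥(Ysub p P) ⧸ Cfsg.pCore p ↥(Ysub p P))) : False := by
  have hperf := aux_perfect (p := p) (P := P) hB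
  have hder : ∀ n : ℕ, derivedSeries (↥(Ysub p P) ⧸ Cfsg.pCore p ↥(Ysub p P)) n = ⊤ := by
    intro n
    induction n with
    | zero => rfl
    | succ n ih => rw [derivedSeries_succ, ih, hperf]
  obtain ⟨n, hn'⟩ := hsol.solvable
  rw [hder n] at hn'
  -- `X` is trivial, so `Y ≤ O ≤ L`
  apply Y_not_le_L h
  intro y hy
  have h1 : ((⟨y, hy⟩ : ↥(Ysub p P)) : ↥(Ysub p P) ⧸ Cfsg.pCore p ↥(Ysub p P)) ∈
      (⊤ : Subgroup (↥(Ysub p P) ⧸ Cfsg.pCore p ↥(Ysub p P))) := Subgroup.mem_top _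
  rw [hn', Subgroup.mem_bot, QuotientGroup.eq_one_iff] at h1
  have h2 : y ∈ Osub p P := ⟨⟨y, hy⟩, h1, rfl⟩
  exact S_le_L (O_le_S h2)

/-- `F(X) = ⊤` is impossible in case B. -/
theorem aux_fitting_ne_top (h : Ctx p S P) (hB : ⁅Ysub p P, Ysub p P⁆ = Ysub p P)
    (hF : Cfsg.fittingSubgroup (↥(Ysub p P) ⧸ Cfsg.pCore p ↥(Ysub p P)) = ⊤) : False := by
  have hnil : Group.IsNilpotent ↥(Cfsg.fittingSubgroup (↥(Ysub p P) ⧸ Cfsg.pCore p ↥(Ysub p P))) :=
    Cfsg.Agent.Helper7.fittingSubgroup_isNilpotent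
  have hsurj : Function.Surjective
      (Cfsg.fittingSubgroup (↥(Ysub p P) ⧸ Cfsg.pCore p ↥(Ysub p P))).subtype := by
    intro x
    exact ⟨⟨x, hF ▸ Subgroup.mem_top x⟩, rfl⟩
  have hsol : Group.IsSolvable (↥(Ysub p P) ⧸ Cfsg.pCore p ↥(Ysub p P)) :=
    Group.isSolvable_of_surjective hsurj
  exact aux_not_solvable h hB hsol

/-- CLAY with `normal_le_Y` (INV) and `comm_YL_Y` (CY) as hypotheses. -/
theorem core (h : Ctx p S P) (hB : ⁅Ysub p P, Ysub p P⁆ = Ysub p P)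
    (hNLY : ∀ N : Subgroup G, N.Normal → N ≤ Ysub p P → N = Ysub p P ∨ N ≤ YLsub p S P)
    (hCYL : ⁅YLsub p S P, Ysub p P⁆ ≤ Osub p P) :
    Cfsg.layer (↥(Ysub p P) ⧸ Cfsg.pCore p ↥(Ysub p P)) = ⊤ := by
  by_contra hne
  -- the preimage of the layer is normal in `G`, hence inside `Y_L`
  have h1n : (pb p P (Cfsg.layer (↥(Ysub p P) ⧸ Cfsg.pCore p ↥(Ysub p P)))).Normal := pb_normal _
  have h1 : pb p P (Cfsg.layer (↥(Ysub p P) ⧸ Cfsg.pCore p ↥(Ysub p P))) ≤ YLsub p S P := by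
    rcases hNLY _ h1n (pb_le_Y _) with h2 | h2
    · exfalso
      apply hne
      rw [eq_top_iff, ← pb_le_pb_iff (p := p) (P := P), pb_top, h2]
    · exact h2
  have h2 := aux_central hCYL _ h1
  -- so there is no component
  have h3 : Cfsg.layer (↥(Ysub p P) ⧸ Cfsg.pCore p ↥(Ysub p P)) = ⊥ := by
    rw [eq_bot_iff, Cfsg.Agent.Helper7.layer_le_iff]
    intro L hL
    exfalso
    apply Cfsg.Agent.Helper7.IsQuasisimple.not_isMulCommutative hL.2
    refine ⟨⟨fun a b => ?_⟩⟩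
    apply Subtype.ext
    have ha := h2 (Cfsg.Agent.Helper7.IsComponent.le_layer hL a.2)
    exact ((Subgroup.mem_center_iff.mp ha) b).symm
  have h4 := Cfsg.Agent.Helper7.centralizer_fitting_le_iff_layer_eq_bot.mpr h3
  -- the preimage of the Fitting subgroup
  have h5n : (pb p P (Cfsg.fittingSubgroup (↥(Ysub p P) ⧸ Cfsg.pCore p ↥(Ysub p P)))).Normal :=
    pb_normal _
  rcases hNLY _ h5n (pb_le_Y _) with h6 | h6
  · apply aux_fitting_ne_top h hB
    rw [eq_top_iff, ← pb_le_pb_iff (p := p) (P := P), pb_top, h6]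
  · have h7 := aux_central hCYL _ h6
    apply aux_fitting_ne_top h hB
    rw [eq_top_iff]
    refine le_trans ?_ h4
    intro x _
    rw [Subgroup.mem_centralizer_iff]
    intro f hf
    exact ((Subgroup.mem_center_iff.mp (h7 hf)) x).symm

end CLAY

end caseB

end Cfsg.Agent.Helper15.Iso44
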