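import Mathlib

/-! Board `s3044pieces`, row RPR, context-free auxiliaries: factorisation `Y = C·R` for subgroups of coprime relative index,
and the "centraliser modulo a normal subgroup" subgroup. -/

set_option autoImplicit false

namespace Cfsg.Agent.Helper15.Iso44.RPR

open Subgroup
open scoped commutatorElement

variable {G : Type*} [Group G]

/-- subgroups `R, C ≤ Y` of coprime relative indices: `Y = C·R`. -/
theorem aux_factor [Finite G] {R C Y : Subgroup G} (hC : C ≤ Y)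
    (hcop : (R.relIndex Y).Coprime (C.relIndex Y)) :
    ∀ y ∈ Y, ∃ c ∈ C, ∃ u ∈ R, y = c * u := by
  classical
  -- the embedding `C/(R∩C) ↪ Y/(R∩Y)`
  let e := Subgroup.quotientSubgroupOfEmbeddingOfLE R hC
  have h1 : R.relIndex C * C.relIndex Y = (R ⊓ C).relIndex Y := by
    have := Subgroup.relIndex_inf_mul_relIndex R C Y
    rwa [inf_of_le_left hC] at this
  have h2 : R.relIndex Y ∣ (R ⊓ C).relIndex Y := Subgroup.relIndex_dvd_of_le_left Y inf_le_left
  have h3 : R.relIndex Y ∣ R.relIndex C := by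
    rw [← h1] at h2
    exact hcop.dvd_of_dvd_mul_right h2
  have hpos : 0 < R.relIndex C := Nat.pos_of_ne_zero (by
    unfold Subgroup.relIndex
    exact Subgroup.index_ne_zero_of_finite)
  have h4 : Nat.card (↥Y ⧸ R.subgroupOf Y) ≤ Nat.card (↥C ⧸ R.subgroupOf C) := Nat.le_of_dvd hpos h3
  have hsurj : Function.Surjective e := by
    have hbij : Function.Bijective e := by
      rw [Nat.bijective_iff_injective_and_card]
      exact ⟨e.injective, le_antisymm (Nat.card_le_card_of_injective e e.injective) h4⟩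
    exact hbij.2
  intro y hy
  obtain ⟨q, hq⟩ := hsurj (QuotientGroup.mk (⟨y, hy⟩ : ↥Y))
  induction q using QuotientGroup.induction_on with
  | H c =>
    rw [Subgroup.quotientSubgroupOfEmbeddingOfLE_apply_mk] at hq
    have h5 := QuotientGroup.eq.mp hq
    rw [Subgroup.mem_subgroupOf] at h5
    refine ⟨c, c.2, (c : G)⁻¹ * y, ?_, by group⟩
    simpa using h5

/-- `{g : ∀ x ∈ Q, ⁅g, x⁆ ∈ O}` for a normal subgroup `O`. -/
def auxCent (O Q : Subgroup G) [hO : O.Normal] : Subgroup G where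
  carrier := {g | ∀ x ∈ Q, ⁅g, x⁆ ∈ O}
  one_mem' := by
    intro x _
    rw [commutatorElement_one_left]
    exact O.one_mem
  mul_mem' := by
    intro a b ha hb x hx
    have e : ⁅a * b, x⁆ = a * ⁅b, x⁆ * a⁻¹ * ⁅a, x⁆ := by
      simp only [commutatorElement_def]; group
    rw [e]
    exact O.mul_mem (hO.conj_mem _ (hb x hx) a) (ha x hx)
  inv_mem' := by
    intro a ha x hx
    have e : ⁅a⁻¹, x⁆ = a⁻¹ * (⁅a, x⁆)⁻¹ * a⁻¹⁻¹ := by
      simp only [commutatorElement_def]; group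
    rw [e]
    exact hO.conj_mem _ (O.inv_mem (ha x hx)) a⁻¹

theorem mem_auxCent {O Q : Subgroup G} [hO : O.Normal] {g : G} :
    g ∈ auxCent O Q ↔ ∀ x ∈ Q, ⁅g, x⁆ ∈ O := Iff.rfl

/-- an element whose `r₁^k`-th and `r₂^l`-th powers lie in the normal subgroup `O` (distinct primes) lies in `O`. -/
theorem aux_bezout {O : Subgroup G} [hO : O.Normal] {r₁ r₂ : ℕ} (h1 : r₁.Prime) (h2 : r₂.Prime) (hne : r₁ ≠ r₂)
    {d : G} {k l : ℕ} (hk : d ^ (r₁ ^ k) ∈ O) (hl : d ^ (r₂ ^ l) ∈ O) : d ∈ O := by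
  have e1 : ((d : G) : G ⧸ O) ^ (r₁ ^ k) = 1 := by
    rw [← QuotientGroup.mk_pow]; exact (QuotientGroup.eq_one_iff _).mpr hk
  have e2 : ((d : G) : G ⧸ O) ^ (r₂ ^ l) = 1 := by
    rw [← QuotientGroup.mk_pow]; exact (QuotientGroup.eq_one_iff _).mpr hl
  have hcop : Nat.Coprime (r₁ ^ k) (r₂ ^ l) :=
    Nat.Coprime.pow _ _ ((Nat.coprime_primes h1 h2).mpr hne)
  have e3 : ((d : G) : G ⧸ O) ^ Nat.gcd (r₁ ^ k) (r₂ ^ l) = 1 := pow_gcd_eq_one.mpr ⟨e1, e2⟩
  rw [hcop.gcd_eq_one, pow_one] at e3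
  exact (QuotientGroup.eq_one_iff _).mp e3

end Cfsg.Agent.Helper15.Iso44.RPR
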