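import Cfsg.Agent.Helper15.Iso44Defs
import Cfsg.Agent.Helper20.Iso44RPRaux
import Cfsg.Agent.Helper15.Iso44Bas
import Cfsg.Agent.Helper14.Iso44SYL
import Cfsg.Agent.Helper24.Iso44NC

/-! Board `s3044pieces`, row RPR, core: under `PPrimeQuot`, `Y/O` is an `r`-group for some prime `r`
(INV and COP enter as hypotheses). -/

set_option autoImplicit false

namespace Cfsg.Agent.Helper15.Iso44

open Cfsg Subgroup
open scoped commutatorElement

variable {G : Type*} [Group G] [Finite G] {p : ℕ} [Fact p.Prime] {S : Sylow p G} {P : Subgroup G}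

namespace RPR

/-- an `S`-invariant `R ≤ L ∩ Y` centralises `Q_L` modulo `O` (under `PPrimeQuot`). -/
theorem aux_le_cent (hp' : PPrimeQuot p P) {R : Subgroup G} (hRY : R ≤ Ysub p P)
    (hSR : (S : Subgroup G) ≤ normalizer (R : Set G)) (hRL : R ≤ Lsub p S P) :
    R ≤ Ysub p P ⊓ auxCent (Osub p P) (QLsub p S P) := by
  intro u hu
  refine Subgroup.mem_inf.mpr ⟨hRY hu, ?_⟩
  rw [mem_auxCent]
  intro x hx
  have h1 : ⁅u, x⁆ ∈ QLsub p S P := by
    have hn := L_le_normalizer_QL (p := p) (S := S) (P := P) (hRL hu)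
    have h2 : u * x * u⁻¹ ∈ QLsub p S P := (Subgroup.mem_normalizer_iff.mp hn x).mp hx
    have e : ⁅u, x⁆ = (u * x * u⁻¹) * x⁻¹ := by simp only [commutatorElement_def]
    rw [e]
    exact Subgroup.mul_mem _ h2 (Subgroup.inv_mem _ hx)
  have h2 : ⁅u, x⁆ ∈ R := by
    have hn := hSR (QL_le_S (p := p) (S := S) (P := P) hx)
    have h3 : x * u⁻¹ * x⁻¹ ∈ R := (Subgroup.mem_normalizer_iff.mp hn u⁻¹).mp (R.inv_mem hu)
    have e : ⁅u, x⁆ = u * (x * u⁻¹ * x⁻¹) := by simp only [commutatorElement_def]; group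
    rw [e]
    exact R.mul_mem hu h3
  have hT : IsPGroup p ↥(R ⊓ QLsub p S P : Subgroup G) :=
    (QL_isPGroup (p := p) (S := S) (P := P)).to_le inf_le_right
  exact hp' (R ⊓ QLsub p S P) hT (inf_le_left.trans hRY) (Subgroup.mem_inf.mpr ⟨h2, h1⟩)

/-- RPR with the conclusions of INV (`inv_dich`) and COP (`Y_eq_comm`) as hypotheses. -/
theorem core (h : Ctx p S P) (hp' : PPrimeQuot p P)
    (hINV : ∀ X : Subgroup G, (S : Subgroup G) ≤ normalizer (X : Set G) → Dsub p P ≤ X ∨ X ≤ Lsub p S P)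
    (hCOP : Ysub p P = ⁅Ysub p P, QLsub p S P⁆ ⊔ Osub p P) :
    ∃ r : ℕ, r.Prime ∧ ∀ y ∈ Ysub p P, ∃ k : ℕ, y ^ (r ^ k) ∈ Osub p P := by
  classical
  set C : Subgroup G := Ysub p P ⊓ RPR.auxCent (Osub p P) (QLsub p S P) with hC
  have hCY : C ≤ Ysub p P := inf_le_left
  -- the chosen `S`-invariant Sylow subgroups
  have hSyl := fun (r : ℕ) (hr : r.Prime) => exists_inv_sylow (S := S) hp' r hr
  by_cases hgood : ∃ r : ℕ, ∃ hr : r.Prime, Dsub p P ≤ (hSyl r hr).choose
  · obtain ⟨r0, hr0, hDR⟩ := hgood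
    obtain ⟨hOR, hRY, hSR, hRpow, hRidx⟩ := (hSyl r0 hr0).choose_spec
    set R := (hSyl r0 hr0).choose with hR
    refine ⟨r0, hr0, ?_⟩
    -- `C.relIndex Y` is a power of `r0`
    have hCidx : ∀ r : ℕ, r.Prime → r ≠ r0 → ¬ r ∣ C.relIndex (Ysub p P) := by
      intro r hr hne hdvd
      obtain ⟨hOR', hRY', hSR', hRpow', hRidx'⟩ := (hSyl r hr).choose_spec
      set R' := (hSyl r hr).choose with hR'
      rcases hINV R' hSR' with hD | hL
      · apply D_not_le_O h
        intro d hd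
        obtain ⟨k, hk⟩ := hRpow d (hDR hd)
        obtain ⟨l, hl⟩ := hRpow' d (hD hd)
        exact RPR.aux_bezout hr0 hr (Ne.symm hne) hk hl
      · have h1 : R' ≤ C := RPR.aux_le_cent hp' hRY' hSR' hL
        exact hRidx' (dvd_trans hdvd (Subgroup.relIndex_dvd_of_le_left _ h1))
    have hcop : (R.relIndex (Ysub p P)).Coprime (C.relIndex (Ysub p P)) := by
      apply Nat.coprime_of_dvd
      intro q hq hqR hqC
      by_cases hq0 : q = r0
      · exact hRidx (hq0 ▸ hqR)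
      · exact hCidx q hq hq0 hqC
    have hfac := RPR.aux_factor hCY hcop
    -- `[Y, Q_L] ≤ R`
    have hcomm : ⁅Ysub p P, QLsub p S P⁆ ≤ R := by
      rw [Subgroup.commutator_le]
      intro y hy x hx
      obtain ⟨c, hc, u, hu, hycu⟩ := hfac y⁻¹ (Subgroup.inv_mem _ hy)
      have hy' : y = u⁻¹ * c⁻¹ := by
        have : y⁻¹⁻¹ = (c * u)⁻¹ := by rw [hycu]
        rw [inv_inv, mul_inv_rev] at this
        exact this
      have hcO : ⁅c⁻¹, x⁆ ∈ Osub p P := by
        have := (Subgroup.mem_inf.mp (C.inv_mem hc)).2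
        exact RPR.mem_auxCent.mp this x hx
      have huR : ⁅u⁻¹, x⁆ ∈ R := by
        have hn := hSR (QL_le_S (p := p) (S := S) (P := P) hx)
        have h3 : x * u * x⁻¹ ∈ R := (Subgroup.mem_normalizer_iff.mp hn u).mp hu
        have e : ⁅u⁻¹, x⁆ = u⁻¹ * (x * u * x⁻¹) := by simp only [commutatorElement_def]; group
        rw [e]
        exact R.mul_mem (R.inv_mem hu) h3
      have e : ⁅y, x⁆ = u⁻¹ * ⁅c⁻¹, x⁆ * u⁻¹⁻¹ * ⁅u⁻¹, x⁆ := by
        rw [hy']; simp only [commutatorElement_def]; group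
      rw [e]
      exact R.mul_mem (R.mul_mem (R.mul_mem (R.inv_mem hu) (hOR hcO)) (R.inv_mem (R.inv_mem hu))) huR
    have hYR : Ysub p P ≤ R := by
      have h1 := hCOP
      calc Ysub p P = ⁅Ysub p P, QLsub p S P⁆ ⊔ Osub p P := h1
        _ ≤ R := sup_le hcomm hOR
    intro y hy
    exact hRpow y (hYR hy)
  · exfalso
    push Not at hgood
    -- every chosen Sylow lies in `C`, so `C = Y ≥ D`
    have hone : C.relIndex (Ysub p P) = 1 := by
      by_contra hne
      obtain ⟨r, hr, hdvd⟩ := Nat.exists_prime_and_dvd hne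
      obtain ⟨hOR', hRY', hSR', hRpow', hRidx'⟩ := (hSyl r hr).choose_spec
      set R' := (hSyl r hr).choose with hR'
      rcases hINV R' hSR' with hD | hL
      · exact hgood r hr hD
      · have h1 : R' ≤ C := RPR.aux_le_cent hp' hRY' hSR' hL
        exact hRidx' (dvd_trans hdvd (Subgroup.relIndex_dvd_of_le_left _ h1))
    have hYC : Ysub p P ≤ C := Subgroup.relIndex_eq_one.mp hone
    apply not_comm_D_QL h
    rw [Subgroup.commutator_le]
    intro d hd x hx
    have := (Subgroup.mem_inf.mp (hYC (D_le_Y hd))).2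
    exact RPR.mem_auxCent.mp this x hx

end RPR

end Cfsg.Agent.Helper15.Iso44
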