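import Mathlib
import Cfsg.Agent.Helper2.Order60

/-!
# S3278 piece FIN: the endgame (index of a proper subgroup below 6 forces order 60)
-/

set_option autoImplicit false

namespace Cfsg.Agent.Helper20.K4C

variable {G : Type*} [Group G] [Finite G]

theorem iso_A5_of_bound [IsSimpleGroup G] (H : Subgroup G) (c : ℕ) (hc4 : 4 ∣ c) (hc0 : 0 < c)
    (hH : 3 * c ≤ Nat.card H) (hHtop : H ≠ ⊤) (h8 : ¬ 8 ∣ Nat.card G)
    (hG : Nat.card G < 18 * c ∨ Nat.card G = 3 * c) :
    Nonempty (G ≃* ↥(alternatingGroup (Fin 5))) := by
  classical
  have hmul : Nat.card H * H.index = Nat.card G := Subgroup.card_mul_index H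
  have hidx_pos : 0 < H.index := Nat.pos_of_ne_zero Subgroup.index_ne_zero_of_finite
  have hidx1 : H.index ≠ 1 := fun h => hHtop (Subgroup.index_eq_one.mp h)
  have hdvd : Nat.card G ∣ Nat.factorial H.index := by
    have hinj := Cfsg.Agent.Helper2.injective_toPermHom_of_simple H hHtop
    have := Fintype.ofFinite (G ⧸ H)
    have h1 := Subgroup.card_dvd_of_injective _ hinj
    rwa [Nat.card_eq_fintype_card (α := Equiv.Perm (G ⧸ H)), Fintype.card_perm,
      ← Nat.card_eq_fintype_card, ← Subgroup.index_eq_card] at h1
  obtain ⟨c', rfl⟩ := hc4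
  generalize hn : H.index = n at *
  generalize hh : Nat.card H = h at *
  generalize hN : Nat.card G = N at *
  have hn5 : n ≤ 5 := by
    rcases hG with hG | hG
    · by_contra hcon
      have h6 : 6 ≤ n := by omega
      have : h * 6 ≤ h * n := Nat.mul_le_mul_left _ h6
      omega
    · by_contra hcon
      have h2 : 2 ≤ n := by omega
      have : h * 2 ≤ h * n := Nat.mul_le_mul_left _ h2
      omega
  rcases hG with hG | hG
  · have hcase : n = 2 ∨ n = 3 ∨ n = 4 ∨ n = 5 := by omega
    rcases hcase with rfl | rfl | rfl | rfl
    · exfalso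
      have := Nat.le_of_dvd (by decide) hdvd
      have h2 : Nat.factorial 2 = 2 := by decide
      omega
    · exfalso
      have := Nat.le_of_dvd (by decide) hdvd
      have h2 : Nat.factorial 3 = 6 := by decide
      omega
    · exfalso
      have := Nat.le_of_dvd (by decide) hdvd
      have h2 : Nat.factorial 4 = 24 := by decide
      omega
    · have h2 : Nat.factorial 5 = 120 := by decide
      rw [h2] at hdvd
      obtain ⟨k, hk⟩ := hdvd
      have hk2 : k ≤ 2 := by
        by_contra hcon
        have h3 : 3 ≤ k := by omega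
        have : N * 3 ≤ N * k := Nat.mul_le_mul_left _ h3
        omega
      have hcase : k = 0 ∨ k = 1 ∨ k = 2 := by omega
      rcases hcase with rfl | rfl | rfl
      · omega
      · exfalso
        apply h8
        have : N = 120 := by omega
        rw [this]
        decide
      · have h60 : N = 60 := by omega
        subst hN
        exact Cfsg.Agent.Helper2.nonempty_mulEquiv_alternatingGroup_five_of_card h60
  · exfalso
    by_cases h2 : 2 ≤ n
    · have : h * 2 ≤ h * n := Nat.mul_le_mul_left _ h2
      omega
    · omega

end Cfsg.Agent.Helper20.K4C
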