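import Mathlib

/-!
# S3278 piece SYL: the Sylow 2-subgroup of `G` inside `C(x)` is the four-group
-/

set_option autoImplicit false

namespace Cfsg.Agent.Helper20.K4C

variable {G : Type*} [Group G] [Finite G]

theorem sylow_eq (x : G) (S₀ : Subgroup G) (hK : IsKleinFour ↥S₀)
    (hmem : ∀ u ∈ Subgroup.centralizer ({x} : Set G), ∀ k : ℕ, u ^ (2 ^ k) = 1 → u ∈ S₀)
    (S : Sylow 2 G) (hS : (S : Subgroup G) ≤ Subgroup.centralizer ({x} : Set G)) :
    (S : Subgroup G) = S₀ := by
  have hle : (S : Subgroup G) ≤ S₀ := by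
    intro s hs
    obtain ⟨k, hk⟩ := S.isPGroup' ⟨s, hs⟩
    have hk' : s ^ (2 ^ k) = 1 := by
      have := congrArg Subtype.val hk
      simpa using this
    exact hmem s (hS hs) k hk'
  have hcard : Nat.card S₀ = 2 ^ 2 := by
    rw [IsKleinFour.card_four]; norm_num
  have hp : IsPGroup 2 S₀ := IsPGroup.of_card hcard
  obtain ⟨Q, hQ⟩ := hp.exists_le_sylow
  have h1 : Nat.card S₀ ≤ Nat.card Q := Subgroup.card_le_of_le hQ
  have h2 : Nat.card Q = Nat.card S := by
    rw [Sylow.card_eq_multiplicity, Sylow.card_eq_multiplicity]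
  exact Subgroup.eq_of_le_of_card_ge hle (by
    show Nat.card S₀ ≤ Nat.card (S : Subgroup G)
    calc Nat.card S₀ ≤ Nat.card Q := h1
      _ = Nat.card S := h2)

end Cfsg.Agent.Helper20.K4C
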