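import Mathlib

/-!
# Kreknin's theorem for `(ℤ/n)`-graded Lie rings with trivial zero component

We work with a family `M : ZMod n → AddSubgroup L` of additive subgroups of a Lie ring `L`
(the homogeneous components) such that `⁅M i, M j⁆ ⊆ M (i + j)` and `M 0 = ⊥`.  The derived series is
computed componentwise (`dser`).  Main result: `dser M (2 ^ (n - 1) - 1) e = ⊥` for all `e`.
-/

namespace Cfsg.Agent.Helper20.Kreknin

variable {L : Type*} [LieRing L]

/-- additive subgroup generated by the brackets `⁅a, b⁆`, `a ∈ A`, `b ∈ B`. -/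
def br (A B : AddSubgroup L) : AddSubgroup L :=
  AddSubgroup.closure {z | ∃ a ∈ A, ∃ b ∈ B, z = ⁅a, b⁆}

lemma mem_br {A B : AddSubgroup L} {a b : L} (ha : a ∈ A) (hb : b ∈ B) : ⁅a, b⁆ ∈ br A B :=
  AddSubgroup.subset_closure ⟨a, ha, b, hb, rfl⟩

lemma br_le {A B C : AddSubgroup L} (h : ∀ a ∈ A, ∀ b ∈ B, ⁅a, b⁆ ∈ C) : br A B ≤ C := by
  unfold br
  rw [AddSubgroup.closure_le]
  rintro z ⟨a, ha, b, hb, rfl⟩
  exact h a ha b hb

lemma br_mono {A A' B B' : AddSubgroup L} (hA : A ≤ A') (hB : B ≤ B') : br A B ≤ br A' B' :=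
  br_le fun _ ha _ hb => mem_br (hA ha) (hB hb)

lemma br_bot_left (B : AddSubgroup L) : br ⊥ B = ⊥ := by
  rw [eq_bot_iff]
  refine br_le fun a ha b _ => ?_
  rw [AddSubgroup.mem_bot] at ha
  rw [ha, zero_lie]; exact zero_mem _

lemma br_bot_right (A : AddSubgroup L) : br A ⊥ = ⊥ := by
  rw [eq_bot_iff]
  refine br_le fun a _ b hb => ?_
  rw [AddSubgroup.mem_bot] at hb
  rw [hb, lie_zero]; exact zero_mem _

variable {n : ℕ}

/-- graded family with trivial zero component. -/
structure IsGr (M : ZMod n → AddSubgroup L) : Prop where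
  lie_mem : ∀ i j : ZMod n, ∀ x ∈ M i, ∀ y ∈ M j, ⁅x, y⁆ ∈ M (i + j)
  zero : M 0 = ⊥

/-- componentwise derived family. -/
def dfam (M : ZMod n → AddSubgroup L) : ZMod n → AddSubgroup L :=
  fun e => ⨆ i : ZMod n, br (M i) (M (e - i))

/-- componentwise derived series. -/
def dser (M : ZMod n → AddSubgroup L) (m : ℕ) : ZMod n → AddSubgroup L :=
  (dfam^[m]) M

lemma dser_zero (M : ZMod n → AddSubgroup L) : dser M 0 = M := rfl

lemma dser_succ (M : ZMod n → AddSubgroup L) (m : ℕ) : dser M (m + 1) = dfam (dser M m) := by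
  unfold dser
  rw [Function.iterate_succ_apply']

lemma dser_add (M : ZMod n → AddSubgroup L) (a b : ℕ) : dser M (a + b) = dser (dser M a) b := by
  unfold dser
  rw [add_comm, Function.iterate_add_apply]

lemma dfam_le {M : ZMod n → AddSubgroup L} (hM : IsGr M) (e : ZMod n) : dfam M e ≤ M e := by
  unfold dfam
  refine iSup_le fun i => br_le fun a ha b hb => ?_
  have := hM.lie_mem i (e - i) a ha b hb
  simpa using this

lemma mem_dfam {M : ZMod n → AddSubgroup L} {i j : ZMod n} {x y : L} (hx : x ∈ M i) (hy : y ∈ M j) :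
    ⁅x, y⁆ ∈ dfam M (i + j) := by
  unfold dfam
  have h1 : ⁅x, y⁆ ∈ br (M i) (M (i + j - i)) := by
    have : i + j - i = j := by ring
    rw [this]; exact mem_br hx hy
  exact (le_iSup (fun i' : ZMod n => br (M i') (M (i + j - i'))) i) h1

lemma isGr_dfam {M : ZMod n → AddSubgroup L} (hM : IsGr M) : IsGr (dfam M) where
  lie_mem := fun i j x hx y hy => mem_dfam (dfam_le hM i hx) (dfam_le hM j hy)
  zero := by
    rw [eq_bot_iff, ← hM.zero]
    exact dfam_le hM 0

lemma isGr_dser {M : ZMod n → AddSubgroup L} (hM : IsGr M) (m : ℕ) : IsGr (dser M m) := by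
  induction m with
  | zero => exact hM
  | succ m ih => rw [dser_succ]; exact isGr_dfam ih

lemma dser_succ_le {M : ZMod n → AddSubgroup L} (hM : IsGr M) (m : ℕ) (e : ZMod n) :
    dser M (m + 1) e ≤ dser M m e := by
  rw [dser_succ]; exact dfam_le (isGr_dser hM m) e

lemma dser_anti {M : ZMod n → AddSubgroup L} (hM : IsGr M) {a b : ℕ} (hab : a ≤ b) (e : ZMod n) :
    dser M b e ≤ dser M a e := by
  induction b, hab using Nat.le_induction with
  | base => exact le_rfl
  | succ b _ ih => exact (dser_succ_le hM b e).trans ih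

lemma dser_le {M : ZMod n → AddSubgroup L} (hM : IsGr M) (m : ℕ) (e : ZMod n) : dser M m e ≤ M e := by
  have := dser_anti hM (Nat.zero_le m) e
  simpa [dser_zero] using this

/-- `W k M`: sum of the brackets `⁅M t, M (k - t)⁆` over the `t` with `k < t.val`. -/
def W (k : ℕ) (M : ZMod n → AddSubgroup L) : AddSubgroup L :=
  ⨆ t : {t : ZMod n // k < t.val}, br (M t.1) (M ((k : ZMod n) - t.1))

lemma mem_W {k : ℕ} {M : ZMod n → AddSubgroup L} {t : ZMod n} (ht : k < t.val) {x y : L}
    (hx : x ∈ M t) (hy : y ∈ M ((k : ZMod n) - t)) : ⁅x, y⁆ ∈ W k M := by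
  unfold W
  exact (le_iSup (fun t : {t : ZMod n // k < t.val} => br (M t.1) (M ((k : ZMod n) - t.1))) ⟨t, ht⟩)
    (mem_br hx hy)

lemma W_mono {k : ℕ} {M N : ZMod n → AddSubgroup L} (h : ∀ e, N e ≤ M e) : W k N ≤ W k M := by
  unfold W
  exact iSup_le fun t => (br_mono (h _) (h _)).trans
    (le_iSup (fun t : {t : ZMod n // k < t.val} => br (M t.1) (M ((k : ZMod n) - t.1))) t)

section arith
variable [NeZero n]

lemma eq_natCast_of_val_eq {e : ZMod n} {k : ℕ} (h : e.val = k) : e = (k : ZMod n) := by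
  rw [← h, ZMod.natCast_zmod_val]

lemma lt_val_natCast_sub {i : ℕ} {t : ZMod n} (h : i < t.val) : i < ((i : ZMod n) - t).val := by
  have htn : t.val < n := ZMod.val_lt t
  have h1 : ((i : ZMod n) - t) = ((n + i - t.val : ℕ) : ZMod n) := by
    rw [Nat.cast_sub (by omega), Nat.cast_add, ZMod.natCast_self, zero_add, ZMod.natCast_zmod_val]
  rw [h1, ZMod.val_natCast, Nat.mod_eq_of_lt (by omega)]
  omega

end arith

/-- auxiliary property: brackets of degree `k` with a factor from the `m`-th derived family of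
degree at least `i` lie in `W k M`. -/
def T (M : ZMod n → AddSubgroup L) (k m i : ℕ) : Prop :=
  ∀ e : ZMod n, i ≤ e.val → ∀ a ∈ dser M m e, ∀ b ∈ M ((k : ZMod n) - e), ⁅a, b⁆ ∈ W k M

lemma T_base [NeZero n] {M : ZMod n → AddSubgroup L} (hM : IsGr M) (k : ℕ) : T M k 0 k := by
  intro e he a ha b hb
  rcases Nat.eq_or_lt_of_le he with h | h
  · have : e = (k : ZMod n) := eq_natCast_of_val_eq h.symm
    rw [this, sub_self, hM.zero, AddSubgroup.mem_bot] at hb
    rw [hb, lie_zero]; exact zero_mem _
  · exact mem_W h ha hb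

lemma T_step [NeZero n] {M : ZMod n → AddSubgroup L} (hM : IsGr M) {k m i c : ℕ}
    (hT : T M k m (i + 1))
    (hC : dser (dser M m) c (i : ZMod n) ≤ W i (dser M m)) : T M k (m + c) i := by
  intro e he a ha b hb
  rcases Nat.eq_or_lt_of_le he with h | h
  · have hei : e = (i : ZMod n) := eq_natCast_of_val_eq h.symm
    subst hei
    rw [dser_add] at ha
    have haW := hC ha
    let P : AddSubgroup L :=
      { carrier := {x | ⁅x, b⁆ ∈ W k M}
        add_mem' := by
          intro x y hx hy
          show ⁅x + y, b⁆ ∈ W k M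
          rw [add_lie]; exact add_mem hx hy
        zero_mem' := by
          show ⁅(0 : L), b⁆ ∈ W k M
          rw [zero_lie]; exact zero_mem _
        neg_mem' := by
          intro x hx
          show ⁅-x, b⁆ ∈ W k M
          rw [neg_lie]; exact neg_mem hx }
    suffices hle : W i (dser M m) ≤ P from hle haW
    unfold W
    refine iSup_le fun t => br_le fun u hu v hv => ?_
    show ⁅⁅u, v⁆, b⁆ ∈ W k M
    rw [lie_lie]
    refine sub_mem ?_ ?_
    · refine hT t.1 t.2 u hu ⁅v, b⁆ ?_
      have hv' := dser_le hM m _ hv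
      have := hM.lie_mem _ _ v hv' b hb
      convert this using 2; ring
    · refine hT ((i : ZMod n) - t.1) (lt_val_natCast_sub t.2) v hv ⁅u, b⁆ ?_
      have hu' := dser_le hM m _ hu
      have := hM.lie_mem _ _ u hu' b hb
      convert this using 2; ring
  · exact hT e h a (dser_anti hM (Nat.le_add_right m c) e ha) b hb

/-- the key claim: the degree `k`-component of the `2 ^ (k - 1)`-th derived family is contained in
`W k M` (brackets of components of higher degrees). -/
theorem claim [NeZero n] : ∀ k' : ℕ, k' + 1 < n → ∀ M : ZMod n → AddSubgroup L, IsGr M →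
    dser M (2 ^ k') ((k' + 1 : ℕ) : ZMod n) ≤ W (k' + 1) M := by
  intro k'
  induction k' using Nat.strong_induction_on with
  | _ k' ih =>
    intro hk M hM
    have hT : ∀ j, j ≤ k' → T M (k' + 1) (2 ^ k' - 2 ^ (k' - j)) (k' - j + 1) := by
      intro j
      induction j with
      | zero =>
        intro _
        have := T_base hM (k' + 1)
        simpa using this
      | succ j ihj =>
        intro hj
        have h1 := ihj (by omega)
        obtain ⟨i', hi'⟩ : ∃ i', k' = i' + (j + 1) := ⟨k' - (j + 1), by omega⟩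
        have e1 : k' - (j + 1) = i' := by omega
        have e2 : k' - j = i' + 1 := by omega
        rw [e1]; rw [e2] at h1
        have hC := ih i' (by omega) (by omega) (dser M (2 ^ k' - 2 ^ (i' + 1))) (isGr_dser hM _)
        have h3 := T_step hM h1 hC
        have e3 : 2 ^ k' - 2 ^ (i' + 1) + 2 ^ i' = 2 ^ k' - 2 ^ i' := by
          have h4 : 2 ^ (i' + 1) ≤ 2 ^ k' := Nat.pow_le_pow_right (by norm_num) (by omega)
          have h5 : 2 ^ (i' + 1) = 2 * 2 ^ i' := by ring
          omega
        rwa [e3] at h3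
    have hT1 := hT k' le_rfl
    rw [Nat.sub_self, pow_zero, zero_add] at hT1
    have h2 : 2 ^ k' = (2 ^ k' - 1) + 1 := by
      have : 1 ≤ 2 ^ k' := Nat.one_le_two_pow
      omega
    rw [h2, dser_succ]
    unfold dfam
    refine iSup_le fun i => br_le fun a ha b hb => ?_
    rcases Nat.eq_zero_or_pos i.val with h0 | h0
    · have : i = 0 := (ZMod.val_eq_zero i).mp h0
      subst this
      have ha' := dser_le hM _ _ ha
      rw [hM.zero, AddSubgroup.mem_bot] at ha'
      rw [ha', zero_lie]; exact zero_mem _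
    · exact hT1 i h0 a ha b (dser_le hM _ _ hb)

theorem zlemma [NeZero n] : ∀ k : ℕ, ∀ M : ZMod n → AddSubgroup L, IsGr M →
    (∀ e : ZMod n, k < e.val → M e = ⊥) → ∀ e, dser M (2 ^ k - 1) e = ⊥ := by
  intro k
  induction k with
  | zero =>
    intro M hM h e
    rw [pow_zero, Nat.sub_self, dser_zero]
    rcases Nat.eq_zero_or_pos e.val with h0 | h0
    · rw [(ZMod.val_eq_zero e).mp h0]; exact hM.zero
    · exact h e h0
  | succ k ih =>
    intro M hM h e
    by_cases hk : k + 1 < n
    · have hNgr : IsGr (dser M (2 ^ k)) := isGr_dser hM _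
      have hN0 : ∀ e : ZMod n, k < e.val → dser M (2 ^ k) e = ⊥ := by
        intro e he
        rcases Nat.eq_or_lt_of_le (Nat.succ_le_of_lt he) with h1 | h1
        · have : e = ((k + 1 : ℕ) : ZMod n) := eq_natCast_of_val_eq h1.symm
          rw [this, eq_bot_iff]
          refine (claim k hk M hM).trans ?_
          unfold W
          refine iSup_le fun t => ?_
          rw [h t.1 t.2, br_bot_left]
        · rw [eq_bot_iff, ← h e h1]; exact dser_le hM _ _
      have h3 := ih (dser M (2 ^ k)) hNgr hN0 e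
      rw [← dser_add] at h3
      have e1 : 2 ^ k + (2 ^ k - 1) = 2 ^ (k + 1) - 1 := by
        have : 1 ≤ 2 ^ k := Nat.one_le_two_pow
        have : 2 ^ (k + 1) = 2 * 2 ^ k := by ring
        omega
      rwa [e1] at h3
    · have h' : ∀ e : ZMod n, k < e.val → M e = ⊥ := by
        intro e he
        have := ZMod.val_lt e
        omega
      have h3 := ih M hM h' e
      rw [eq_bot_iff, ← h3]
      refine dser_anti hM ?_ e
      have : 2 ^ k ≤ 2 ^ (k + 1) := Nat.pow_le_pow_right (by norm_num) (by omega)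
      omega

/-- **Kreknin's theorem** (componentwise form): a `(ℤ/n)`-graded Lie ring with trivial zero
component is solvable of derived length at most `2 ^ (n - 1) - 1`. -/
theorem kreknin [NeZero n] (M : ZMod n → AddSubgroup L) (hM : IsGr M) (e : ZMod n) :
    dser M (2 ^ (n - 1) - 1) e = ⊥ :=
  zlemma (n - 1) M hM (fun e he => by have := ZMod.val_lt e; omega) e

/-! ### Bridges -/

/-- the additive subgroup of the `x` with `⁅x, b⁆ ∈ C`. -/
def lieLeft (C : AddSubgroup L) (b : L) : AddSubgroup L where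
  carrier := {x | ⁅x, b⁆ ∈ C}
  add_mem' := by
    intro x y hx hy
    show ⁅x + y, b⁆ ∈ C
    rw [add_lie]; exact add_mem hx hy
  zero_mem' := by
    show ⁅(0 : L), b⁆ ∈ C
    rw [zero_lie]; exact zero_mem _
  neg_mem' := by
    intro x hx
    show ⁅-x, b⁆ ∈ C
    rw [neg_lie]; exact neg_mem hx

/-- the additive subgroup of the `y` with `⁅a, y⁆ ∈ C`. -/
def lieRight (C : AddSubgroup L) (a : L) : AddSubgroup L where
  carrier := {y | ⁅a, y⁆ ∈ C}
  add_mem' := by
    intro x y hx hy
    show ⁅a, x + y⁆ ∈ C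
    rw [lie_add]; exact add_mem hx hy
  zero_mem' := by
    show ⁅a, (0 : L)⁆ ∈ C
    rw [lie_zero]; exact zero_mem _
  neg_mem' := by
    intro x hx
    show ⁅a, -x⁆ ∈ C
    rw [lie_neg]; exact neg_mem hx

lemma br_iSup_le {ι κ : Sort*} (A : ι → AddSubgroup L) (B : κ → AddSubgroup L) (C : AddSubgroup L)
    (h : ∀ i j, br (A i) (B j) ≤ C) : br (⨆ i, A i) (⨆ j, B j) ≤ C := by
  refine br_le fun x hx y hy => ?_
  have h1 : (⨆ i, A i) ≤ lieLeft C y := by
    refine iSup_le fun i a ha => ?_
    show ⁅a, y⁆ ∈ C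
    have h2 : (⨆ j, B j) ≤ lieRight C a := by
      refine iSup_le fun j b hb => ?_
      exact h i j (mem_br ha hb)
    exact h2 hy
  exact h1 hx

/-- any sequence of additive subgroups that starts inside the sum of the components and descends
at least as fast as a derived series is dominated by the componentwise derived series. -/
theorem seq_le_dser {M : ZMod n → AddSubgroup L} (S : ℕ → AddSubgroup L) (h0 : S 0 ≤ ⨆ e, M e)
    (hS : ∀ m, S (m + 1) ≤ br (S m) (S m)) : ∀ m, S m ≤ ⨆ e, dser M m e := by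
  intro m
  induction m with
  | zero => simpa [dser_zero] using h0
  | succ m ih =>
    refine (hS m).trans ((br_mono ih ih).trans ?_)
    refine br_iSup_le _ _ _ fun i j => ?_
    rw [dser_succ]
    refine br_le fun a ha b hb => ?_
    exact (le_iSup (fun e => dfam (dser M m) e) (i + j)) (mem_dfam ha hb)

/-- **Kreknin's theorem**, sequence form. -/
theorem seq_eq_bot [NeZero n] {M : ZMod n → AddSubgroup L} (hM : IsGr M) (S : ℕ → AddSubgroup L)
    (h0 : S 0 ≤ ⨆ e, M e) (hS : ∀ m, S (m + 1) ≤ br (S m) (S m)) : S (2 ^ (n - 1) - 1) = ⊥ := by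
  rw [eq_bot_iff]
  refine (seq_le_dser S h0 hS _).trans (iSup_le fun e => ?_)
  rw [kreknin M hM e]

lemma smul_mem_br {R : Type*} [CommRing R] [LieAlgebra R L] (I J : Submodule R L) (r : R) {z : L}
    (hz : z ∈ br I.toAddSubgroup J.toAddSubgroup) :
    r • z ∈ br I.toAddSubgroup J.toAddSubgroup := by
  unfold br at hz ⊢
  induction hz using AddSubgroup.closure_induction with
  | mem z hz =>
    obtain ⟨a, ha, b, hb, rfl⟩ := hz
    rw [← smul_lie]
    exact AddSubgroup.subset_closure ⟨r • a, I.smul_mem r ha, b, hb, rfl⟩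
  | zero => rw [smul_zero]; exact zero_mem _
  | add x y _ _ hx hy => rw [smul_add]; exact add_mem hx hy
  | neg x _ hx => rw [smul_neg]; exact neg_mem hx

/-- **Kreknin's theorem** for Mathlib's derived series: a Lie algebra which is the sum of the
components of a `(ℤ/n)`-grading (by additive subgroups) with trivial zero component is solvable of
derived length at most `2 ^ (n - 1) - 1`. -/
theorem derivedSeries_eq_bot [NeZero n] {R : Type*} [CommRing R] [LieAlgebra R L]
    {M : ZMod n → AddSubgroup L} (hM : IsGr M) (htop : (⨆ e, M e) = ⊤) :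
    LieAlgebra.derivedSeries R L (2 ^ (n - 1) - 1) = ⊥ := by
  have key := seq_eq_bot hM
    (fun m => (LieAlgebra.derivedSeries R L m).toSubmodule.toAddSubgroup)
    (by rw [htop]; exact le_top)
    (by
      intro m x hx
      change x ∈ (LieAlgebra.derivedSeries R L (m + 1)).toSubmodule at hx
      rw [LieAlgebra.derivedSeries_def, LieAlgebra.derivedSeriesOfIdeal_succ,
        LieSubmodule.lieIdeal_oper_eq_linear_span] at hx
      let Q : Submodule R L :=
        { carrier := br (LieAlgebra.derivedSeries R L m).toSubmodule.toAddSubgroup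
            (LieAlgebra.derivedSeries R L m).toSubmodule.toAddSubgroup
          add_mem' := fun hx hy => add_mem hx hy
          zero_mem' := zero_mem _
          smul_mem' := fun r _ hz => smul_mem_br _ _ r hz }
      have hle : Submodule.span R {z : L | ∃ (x : LieAlgebra.derivedSeries R L m)
          (y : LieAlgebra.derivedSeries R L m), ⁅(x : L), (y : L)⁆ = z} ≤ Q := by
        rw [Submodule.span_le]
        rintro z ⟨x, y, rfl⟩
        exact mem_br x.2 y.2
      exact hle hx)
  rw [eq_bot_iff]
  intro x hx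
  have : x ∈ (⊥ : AddSubgroup L) := by
    rw [← key]; exact hx
  rw [AddSubgroup.mem_bot] at this
  rw [this]; exact zero_mem _

end Cfsg.Agent.Helper20.Kreknin
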