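import Mathlib
import Cfsg.Agent.Helper20.KulA
import Cfsg.Agent.Helper20.KulG
import Cfsg.Agent.Helper20.KulH

set_option autoImplicit false
set_option linter.style.haveILetI false

/-!
# 2-groups: basic lemmas for the count of subgroups modulo 4 (helper20)
-/

namespace Cfsg.Agent.Helper20

open Subgroup

universe u

variable {X : Type u} [Group X]

/-- parity of exponents is well defined in a cyclic group of even order. -/
theorem zpow_mem_zpowers_sq_iff {y : X} (hy : Even (orderOf y)) (i : ℤ) :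
    y ^ i ∈ zpowers (y ^ 2) ↔ Even i := by
  constructor
  · intro h
    obtain ⟨l, hl⟩ := mem_zpowers_iff.mp h
    have h1 : y ^ (2 * l) = y ^ i := by
      rw [← hl, ← zpow_natCast y 2, ← zpow_mul]
      norm_num
    rw [zpow_eq_zpow_iff_modEq] at h1
    obtain ⟨t, ht⟩ := hy
    have h2 : (2 : ℤ) ∣ (orderOf y : ℤ) := ⟨t, by rw [ht]; push_cast; ring⟩
    have h3 := (Int.ModEq.dvd h1)
    have h4 : (2 : ℤ) ∣ i - 2 * l := dvd_trans h2 h3
    have h5 : (2 : ℤ) ∣ i := by
      have := dvd_add h4 (dvd_mul_right 2 l)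
      rwa [sub_add_cancel] at this
    exact even_iff_two_dvd.mpr h5
  · rintro ⟨l, rfl⟩
    refine mem_zpowers_iff.mpr ⟨l, ?_⟩
    rw [← zpow_natCast y 2, ← zpow_mul]
    congr 1
    push_cast
    ring

/-- if `⟨z⟩` is normal then so is `⟨z^n⟩`. -/
theorem normal_zpowers_pow {z : X} (hz : (zpowers z).Normal) (n : ℕ) :
    (zpowers (z ^ n)).Normal := by
  constructor
  intro h hh g
  obtain ⟨l, rfl⟩ := mem_zpowers_iff.mp hh
  have h1 : g * z * g⁻¹ ∈ zpowers z := hz.conj_mem z (mem_zpowers z) g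
  obtain ⟨j, hj⟩ := mem_zpowers_iff.mp h1
  have h2 : g * (z ^ n) ^ l * g⁻¹ = (g * z * g⁻¹) ^ ((n : ℤ) * l) := by
    rw [← zpow_natCast z n, ← zpow_mul]
    exact conj_zpow.symm
  rw [h2, ← hj, ← zpow_mul]
  refine mem_zpowers_iff.mpr ⟨j * l, ?_⟩
  rw [← zpow_natCast z n, ← zpow_mul]
  congr 1
  ring

/-- a subgroup of index two contains the commutator subgroup. -/
theorem commutator_le_of_index_two {M : Subgroup X} (hM : M.index = 2) : commutator X ≤ M := by
  haveI : M.Normal := normal_of_index_eq_two hM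
  rw [← Subgroup.Normal.quotient_commutative_iff_commutator_le]
  have hc : Nat.card (X ⧸ M) = 2 := hM
  haveI : Fact (Nat.Prime 2) := ⟨Nat.prime_two⟩
  haveI : IsCyclic (X ⧸ M) := isCyclic_of_prime_card hc
  exact ⟨⟨fun a b => (IsCyclic.commGroup (α := X ⧸ M)).mul_comm a b⟩⟩

/-- in a noncyclic finite 2-group, the commutator subgroup has index divisible by 4. -/
theorem four_dvd_index_commutator [Finite X] (hP : IsPGroup 2 X) (hnc : ¬ IsCyclic X) :
    4 ∣ (commutator X).index := by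
  haveI : Fact (Nat.Prime 2) := ⟨Nat.prime_two⟩
  have h1 := card_index_p_modEq hP hnc
  have h2 : 1 < Nat.card {M : Subgroup X // M.index = 2} := by
    by_contra hcon
    have h3 : Nat.card {M : Subgroup X // M.index = 2} ≤ 1 := by omega
    have h4 := h1
    unfold Nat.ModEq at h4
    norm_num at h4
    omega
  haveI : Finite {M : Subgroup X // M.index = 2} := inferInstance
  obtain ⟨M₁, M₂, hne⟩ := (Finite.one_lt_card_iff_nontrivial.mp h2).exists_pair_ne
  have hne' : M₁.1 ≠ M₂.1 := fun h => hne (Subtype.ext h)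
  have h5 := index_inf_of_index_p hP M₁.2 M₂.2 hne'
  have h6 : commutator X ≤ M₁.1 ⊓ M₂.1 :=
    le_inf (commutator_le_of_index_two M₁.2) (commutator_le_of_index_two M₂.2)
  have h7 := index_dvd_of_le h6
  rwa [h5] at h7

/-- a subgroup of a cyclic 2-group `⟨y⟩` not inside `⟨y²⟩` is everything. -/
theorem zpowers_eq_of_not_mem_sq {y h : X} (n : ℕ) (hy : orderOf y = 2 ^ (n + 1))
    (hh : h ∈ zpowers y) (hh2 : h ∉ zpowers (y ^ 2)) : zpowers h = zpowers y := by
  obtain ⟨i, rfl⟩ := mem_zpowers_iff.mp hh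
  have hev : Even (orderOf y) := by rw [hy, pow_succ]; exact even_two.mul_left _
  rw [zpow_mem_zpowers_sq_iff hev] at hh2
  have hodd : Odd i := Int.not_even_iff_odd.mp hh2
  obtain ⟨s, hs⟩ := hodd
  have hcop : IsCoprime ((2 : ℤ) ^ (n + 1)) i := by
    apply IsCoprime.pow_left
    exact ⟨-s, 1, by rw [hs]; ring⟩
  obtain ⟨a, b, hab⟩ := hcop
  apply le_antisymm
  · rw [zpowers_le]; exact hh
  · rw [zpowers_le]
    refine mem_zpowers_iff.mpr ⟨b, ?_⟩
    have h1 : y ^ ((2 : ℤ) ^ (n + 1)) = 1 := by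
      have := pow_orderOf_eq_one y
      rw [hy] at this
      rw [← this, ← zpow_natCast]
      push_cast
      rfl
    calc (y ^ i) ^ b = y ^ (b * i) := by rw [← zpow_mul, mul_comm]
      _ = (y ^ ((2 : ℤ) ^ (n + 1))) ^ a * y ^ (b * i) := by rw [h1, one_zpow, one_mul]
      _ = y ^ (a * 2 ^ (n + 1) + b * i) := by rw [← zpow_mul, ← zpow_add]; congr 1; ring
      _ = y := by rw [hab, zpow_one]

end Cfsg.Agent.Helper20
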