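import Mathlib
import Cfsg.Agent.Helper20.Kul2A

set_option autoImplicit false
set_option linter.style.haveILetI false
set_option linter.unusedSectionVars false

/-!
# 2-groups with a cyclic maximal subgroup: the commutator criterion (helper20)
-/

namespace Cfsg.Agent.Helper20

open Subgroup
open scoped commutatorElement

universe u

variable {X : Type u} [Group X] [Finite X]

theorem index_zpowers_of_order (k : ℕ) (hk : 1 ≤ k) (hX : Nat.card X = 2 ^ k) (z : X)
    (hz : orderOf z = 2 ^ (k - 1)) : (zpowers z).index = 2 := by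
  have h1 := (zpowers z).card_mul_index
  rw [Nat.card_zpowers, hz, hX] at h1
  have h2 : 2 ^ k = 2 ^ (k - 1) * 2 := by rw [← pow_succ]; congr 1; omega
  rw [h2] at h1
  exact Nat.eq_of_mul_eq_mul_left (by positivity) h1

theorem even_order_of_order (k : ℕ) (hk : 2 ≤ k) (z : X) (hz : orderOf z = 2 ^ (k - 1)) :
    Even (orderOf z) := by
  have h2 : 2 ^ (k - 1) = 2 ^ (k - 2) * 2 := by rw [← pow_succ]; congr 1; omega
  rw [hz, h2]
  exact even_two.mul_left _

/-- the commutator of `g` with the generator of a normal cyclic 2-subgroup is a square. -/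
theorem conj_mul_inv_mem_sq (k : ℕ) (hk : 2 ≤ k) (z : X) (hz : orderOf z = 2 ^ (k - 1))
    (hn : (zpowers z).Normal) (g : X) : g * z * g⁻¹ * z⁻¹ ∈ zpowers (z ^ 2) := by
  have hev := even_order_of_order k hk z hz
  have h1 : g * z * g⁻¹ ∈ zpowers z := hn.conj_mem z (mem_zpowers z) g
  obtain ⟨j, hj⟩ := mem_zpowers_iff.mp h1
  have hord : orderOf (g * z * g⁻¹) = orderOf z := by
    have := orderOf_injective (MulAut.conj g).toMonoidHom (MulAut.conj g).injective z
    simpa [MulAut.conj_apply] using this
  have hodd : ¬ Even j := by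
    intro he
    have h2 : z ^ j ∈ zpowers (z ^ 2) := (zpow_mem_zpowers_sq_iff hev j).mpr he
    have h3 := orderOf_dvd_of_mem_zpowers h2
    rw [hj, hord] at h3
    have h4 : orderOf (z ^ 2) = 2 ^ (k - 2) := by
      rw [orderOf_pow' z (by norm_num), hz]
      have h2 : 2 ^ (k - 1) = 2 ^ (k - 2) * 2 := by rw [← pow_succ]; congr 1; omega
      rw [h2, Nat.gcd_mul_left_left, Nat.mul_div_cancel _ (by norm_num)]
    rw [h4, hz] at h3
    have h5 := Nat.le_of_dvd (by positivity) h3
    have h6 : 2 ^ (k - 2) < 2 ^ (k - 1) := Nat.pow_lt_pow_right (by norm_num) (by omega)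
    omega
  have h7 : g * z * g⁻¹ * z⁻¹ = z ^ (j - 1) := by
    rw [← hj, zpow_sub, zpow_one]
  rw [h7, zpow_mem_zpowers_sq_iff hev]
  have := Int.not_even_iff_odd.mp hodd
  obtain ⟨s, hs⟩ := this
  exact ⟨s, by rw [hs]; ring⟩

/-- an element outside a subgroup of index two generates the group together with it. -/
theorem closure_pair_eq_top (k : ℕ) (hk : 1 ≤ k) (hX : Nat.card X = 2 ^ k) (z : X)
    (hz : orderOf z = 2 ^ (k - 1)) (g : X) (hg : g ∉ zpowers z) :
    closure ({z, g} : Set X) = ⊤ := by
  haveI : Fact (Nat.Prime 2) := ⟨Nat.prime_two⟩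
  have hidx := index_zpowers_of_order k hk hX z hz
  have hco := isCoatom_of_index_p (p := 2) hidx
  have h1 : zpowers z ≤ closure ({z, g} : Set X) := by
    rw [zpowers_le]; exact subset_closure (by simp)
  have h2 : g ∈ closure ({z, g} : Set X) := subset_closure (by simp)
  rcases hco.le_iff.mp h1 with h | h
  · exact h
  · exact absurd (h ▸ h2) hg

/-- the commutator criterion for maximal class. -/
theorem index_commutator_eq_four_iff (k : ℕ) (hk : 3 ≤ k) (hX : Nat.card X = 2 ^ k)
    (hnc : ¬ IsCyclic X) (z : X) (hz : orderOf z = 2 ^ (k - 1)) (g : X) (hg : g ∉ zpowers z) :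
    (commutator X).index = 4 ↔ g * z * g⁻¹ * z⁻¹ ∉ zpowers (z ^ 4) := by
  haveI : Fact (Nat.Prime 2) := ⟨Nat.prime_two⟩
  have hP : IsPGroup 2 X := IsPGroup.of_card hX
  have hidx := index_zpowers_of_order k (by omega) hX z hz
  have hn : (zpowers z).Normal := normal_of_index_eq_two hidx
  have hev := even_order_of_order k (by omega) z hz
  have hv := conj_mul_inv_mem_sq k (by omega) z hz hn g
  have h42 : z ^ 4 = (z ^ 2) ^ 2 := by rw [← pow_mul]
  have hy : orderOf (z ^ 2) = 2 ^ (k - 3 + 1) := by
    rw [orderOf_pow' z (by norm_num), hz]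
    have h2 : 2 ^ (k - 1) = 2 ^ (k - 2) * 2 := by rw [← pow_succ]; congr 1; omega
    rw [h2, Nat.gcd_mul_left_left, Nat.mul_div_cancel _ (by norm_num)]
    congr 1; omega
  have h4dvd := four_dvd_index_commutator hP hnc
  constructor
  · intro h4 hmem
    -- the quotient by ⟨z^4⟩ is commutative
    haveI hn4 : (zpowers (z ^ 4)).Normal := normal_zpowers_pow hn 4
    have hcomm : IsMulCommutative (X ⧸ zpowers (z ^ 4)) := by
      set φ := QuotientGroup.mk' (zpowers (z ^ 4)) with hφ
      have hzg : φ g * φ z = φ z * φ g := by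
        have : φ (g * z * g⁻¹ * z⁻¹) = 1 := (QuotientGroup.eq_one_iff _).mpr hmem
        rw [map_mul, map_mul, map_mul, map_inv, map_inv] at this
        calc φ g * φ z = (φ g * φ z * (φ g)⁻¹ * (φ z)⁻¹) * (φ z * φ g) := by group
          _ = φ z * φ g := by rw [this, one_mul]
      have hcl : closure ({φ z, φ g} : Set (X ⧸ zpowers (z ^ 4))) = ⊤ := by
        have := closure_pair_eq_top k (by omega) hX z hz g hg
        have h2 : (closure ({z, g} : Set X)).map φ = ⊤ := by
          rw [this, ← MonoidHom.range_eq_map, MonoidHom.range_eq_top]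
          exact QuotientGroup.mk'_surjective _
        rw [MonoidHom.map_closure] at h2
        rw [← h2]
        congr 1
        ext q
        simp [Set.image_pair]
      have hc2 := Subgroup.isMulCommutative_closure (k := ({φ z, φ g} : Set (X ⧸ zpowers (z ^ 4))))
        (by
          intro a ha b hb
          simp only [Set.mem_insert_iff, Set.mem_singleton_iff] at ha hb
          rcases ha with rfl | rfl <;> rcases hb with rfl | rfl
          · rfl
          · exact hzg.symm
          · exact hzg
          · rfl)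
      rw [hcl] at hc2
      refine ⟨⟨fun a b => ?_⟩⟩
      have := hc2.is_comm.comm ⟨a, mem_top a⟩ ⟨b, mem_top b⟩
      exact congrArg Subtype.val this
    have hle := Subgroup.Normal.quotient_commutative_iff_commutator_le.mp hcomm
    have hd := index_dvd_of_le hle
    have hi4 : (zpowers (z ^ 4)).index = 8 := by
      have h1 := (zpowers (z ^ 4)).card_mul_index
      have ho4 : orderOf (z ^ 4) = 2 ^ (k - 3) := by
        rw [orderOf_pow' z (by norm_num), hz]
        have h2 : 2 ^ (k - 1) = 2 ^ (k - 3) * 4 := by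
          have : (4 : ℕ) = 2 ^ 2 := by norm_num
          rw [this, ← pow_add]; congr 1; omega
        rw [h2, Nat.gcd_mul_left_left, Nat.mul_div_cancel _ (by norm_num)]
      rw [Nat.card_zpowers, ho4, hX] at h1
      have h2 : 2 ^ k = 2 ^ (k - 3) * 8 := by
        have : (8 : ℕ) = 2 ^ 3 := by norm_num
        rw [this, ← pow_add]; congr 1; omega
      rw [h2] at h1
      exact Nat.eq_of_mul_eq_mul_left (by positivity) h1
    rw [hi4, h4] at hd
    omega
  · intro hnot
    rw [h42] at hnot
    have heq := zpowers_eq_of_not_mem_sq (k - 3) hy hv hnot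
    have hvc : g * z * g⁻¹ * z⁻¹ ∈ commutator X := by
      have : g * z * g⁻¹ * z⁻¹ = ⁅g, z⁆ := rfl
      rw [this]
      exact Subgroup.commutator_mem_commutator (mem_top g) (mem_top z)
    have hle : zpowers (z ^ 2) ≤ commutator X := by
      rw [← heq, zpowers_le]; exact hvc
    have hd := index_dvd_of_le hle
    have hi2 : (zpowers (z ^ 2)).index = 4 := by
      have h1 := (zpowers (z ^ 2)).card_mul_index
      rw [Nat.card_zpowers, hy, hX] at h1
      have h2 : 2 ^ k = 2 ^ (k - 3 + 1) * 4 := by
        have : (4 : ℕ) = 2 ^ 2 := by norm_num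
        rw [this, ← pow_add]; congr 1; omega
      rw [h2] at h1
      exact Nat.eq_of_mul_eq_mul_left (by positivity) h1
    rw [hi2] at hd
    have hpos : 0 < (commutator X).index := Nat.pos_of_ne_zero (index_ne_zero_of_finite)
    have := Nat.le_of_dvd (by norm_num) hd
    obtain ⟨t, ht⟩ := h4dvd
    have : t = 1 := by nlinarith
    rw [ht, this]

end Cfsg.Agent.Helper20
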