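import Mathlib
import Cfsg.Agent.Helper20.Kul2B

set_option autoImplicit false
set_option linter.style.haveILetI false
set_option linter.unusedSectionVars false

/-!
# 2-groups with a cyclic maximal subgroup: squares of the elements outside (helper20)
-/

namespace Cfsg.Agent.Helper20

open Subgroup

universe u

variable {X : Type u} [Group X]

/-- membership in `⟨z^n⟩` by divisibility of exponents. -/
theorem zpow_mem_zpowers_pow_iff {z : X} (n : ℕ) (hn : n ∣ orderOf z) (i : ℤ) :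
    z ^ i ∈ zpowers (z ^ n) ↔ (n : ℤ) ∣ i := by
  constructor
  · intro h
    obtain ⟨l, hl⟩ := mem_zpowers_iff.mp h
    have h1 : z ^ ((n : ℤ) * l) = z ^ i := by
      rw [← hl, ← zpow_natCast z n, ← zpow_mul]
    rw [zpow_eq_zpow_iff_modEq] at h1
    obtain ⟨t, ht⟩ := hn
    have h2 : (n : ℤ) ∣ (orderOf z : ℤ) := ⟨t, by rw [ht]; push_cast; ring⟩
    have h3 := (Int.ModEq.dvd h1)
    have h4 : (n : ℤ) ∣ i - n * l := dvd_trans h2 h3
    have := dvd_add h4 (dvd_mul_right (n : ℤ) l)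
    rwa [sub_add_cancel] at this
  · rintro ⟨l, rfl⟩
    refine mem_zpowers_iff.mpr ⟨l, ?_⟩
    rw [← zpow_natCast z n, ← zpow_mul]

variable [Finite X]

/-- the data: a noncyclic group of order `2^k` with an element `z` of order `2^(k-1)`. -/
structure CycMax (X : Type u) [Group X] (k : ℕ) (z : X) : Prop where
  hk : 3 ≤ k
  card : Nat.card X = 2 ^ k
  nc : ¬ IsCyclic X
  ord : orderOf z = 2 ^ (k - 1)

namespace CycMax

variable {k : ℕ} {z : X} (S : CycMax X k z)

include S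

theorem index : (zpowers z).index = 2 := index_zpowers_of_order k (by have := S.hk; omega) S.card z S.ord

theorem normal : (zpowers z).Normal := normal_of_index_eq_two S.index

theorem four_dvd : 4 ∣ orderOf z := by
  rw [S.ord]
  have : 2 ^ (k - 1) = 2 ^ (k - 3) * 4 := by
    have h4 : (4 : ℕ) = 2 ^ 2 := by norm_num
    rw [h4, ← pow_add]; congr 1; have := S.hk; omega
  rw [this]; exact dvd_mul_left _ _

theorem two_dvd : 2 ∣ orderOf z := dvd_trans (by norm_num) S.four_dvd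

/-- squares of elements outside `⟨z⟩` are even powers of `z`. -/
theorem sq_exp (g : X) (hg : g ∉ zpowers z) : ∃ e : ℤ, g ^ 2 = z ^ e ∧ (2 : ℤ) ∣ e := by
  haveI : Fact (Nat.Prime 2) := ⟨Nat.prime_two⟩
  have h1 : g ^ 2 ∈ zpowers z := sq_mem_of_index_two S.index g
  obtain ⟨e, he⟩ := mem_zpowers_iff.mp h1
  refine ⟨e, he.symm, ?_⟩
  by_contra hodd
  have h2 : z ^ e ∉ zpowers (z ^ 2) := by
    rw [zpow_mem_zpowers_pow_iff 2 S.two_dvd]; exact_mod_cast hodd
  have hord : orderOf z = 2 ^ (k - 2 + 1) := by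
    rw [S.ord]; congr 1; have := S.hk; omega
  have h3 := zpowers_eq_of_not_mem_sq (k - 2) hord (mem_zpowers_iff.mpr ⟨e, rfl⟩) h2
  rw [he] at h3
  have h4 : zpowers z ≤ zpowers g := by
    rw [← h3, zpowers_le]; exact Subgroup.pow_mem _ (mem_zpowers g) 2
  have hco := isCoatom_of_index_p (p := 2) S.index
  rcases hco.le_iff.mp h4 with h | h
  · apply S.nc
    exact ⟨⟨g, fun x => by
      have : x ∈ zpowers g := by rw [h]; exact mem_top x
      exact this⟩⟩
  · exact hg (h ▸ mem_zpowers g)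

/-- all elements outside `⟨z⟩` act in the same way on `z`. -/
theorem conj_eq (g h : X) (hg : g ∉ zpowers z) (hh : h ∉ zpowers z) :
    g * z * g⁻¹ = h * z * h⁻¹ := by
  have h1 : h⁻¹ * g ∈ zpowers z := by
    rw [mul_mem_iff_of_index_two S.index, inv_mem_iff]
    exact ⟨fun h' => absurd h' hh, fun h' => absurd h' hg⟩
  obtain ⟨i, hi⟩ := mem_zpowers_iff.mp h1
  have h2 : (h⁻¹ * g) * z * (h⁻¹ * g)⁻¹ = z := by
    rw [← hi, ← zpow_add_one, ← zpow_neg, ← zpow_add]; simp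
  calc g * z * g⁻¹ = h * ((h⁻¹ * g) * z * (h⁻¹ * g)⁻¹) * h⁻¹ := by group
    _ = h * z * h⁻¹ := by rw [h2]

/-- the common exponent of the action. -/
theorem conj_exp : ∃ b : ℤ, (2 : ℤ) ∣ b ∧ ∀ g : X, g ∉ zpowers z → g * z * g⁻¹ = z ^ (b + 1) := by
  have hne : zpowers z ≠ ⊤ := by
    intro h
    have := S.index
    rw [h, index_top] at this
    omega
  obtain ⟨g₀, -, hg₀⟩ := SetLike.exists_of_lt (lt_top_iff_ne_top.mpr hne)
  have hv := conj_mul_inv_mem_sq k (by have := S.hk; omega) z S.ord S.normal g₀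
  obtain ⟨l, hl⟩ := mem_zpowers_iff.mp hv
  refine ⟨2 * l, dvd_mul_right _ _, ?_⟩
  intro g hg
  rw [S.conj_eq g g₀ hg hg₀]
  have : g₀ * z * g₀⁻¹ = (g₀ * z * g₀⁻¹ * z⁻¹) * z := by group
  rw [this, ← hl, ← zpow_natCast z 2, ← zpow_mul, zpow_add, zpow_one]
  norm_num

/-- the criterion for maximal class in terms of the exponent. -/
theorem index_comm_iff (b : ℤ) (hb : ∀ g : X, g ∉ zpowers z → g * z * g⁻¹ = z ^ (b + 1)) :
    (commutator X).index = 4 ↔ ¬ (4 : ℤ) ∣ b := by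
  have hne : zpowers z ≠ ⊤ := by
    intro h
    have := S.index
    rw [h, index_top] at this
    omega
  obtain ⟨g₀, -, hg₀⟩ := SetLike.exists_of_lt (lt_top_iff_ne_top.mpr hne)
  rw [index_commutator_eq_four_iff k S.hk S.card S.nc z S.ord g₀ hg₀, hb g₀ hg₀]
  have : z ^ (b + 1) * z⁻¹ = z ^ b := by rw [zpow_add, zpow_one, mul_inv_cancel_right]
  rw [this, zpow_mem_zpowers_pow_iff 4 S.four_dvd]
  norm_num

/-- the square of `z^i * g`. -/
theorem sq_mul (b : ℤ) (hb : ∀ g : X, g ∉ zpowers z → g * z * g⁻¹ = z ^ (b + 1))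
    (g : X) (hg : g ∉ zpowers z) (e : ℤ) (he : g ^ 2 = z ^ e) (i : ℤ) :
    (z ^ i * g) ^ 2 = z ^ (i * (b + 2) + e) := by
  have h1 : g * z ^ i * g⁻¹ = z ^ ((b + 1) * i) := by
    rw [← conj_zpow, hb g hg, ← zpow_mul]
  calc (z ^ i * g) ^ 2 = z ^ i * (g * z ^ i * g⁻¹) * g ^ 2 := by rw [pow_two, pow_two]; group
    _ = z ^ (i * (b + 2) + e) := by
      rw [h1, he, ← zpow_add, ← zpow_add]; congr 1; ring

/-- full order outside `⟨z⟩` in terms of the exponent of the square. -/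
theorem order_iff (g : X) (hg : g ∉ zpowers z) (e : ℤ) (he : g ^ 2 = z ^ e) (he2 : (2 : ℤ) ∣ e) :
    orderOf g = 2 ^ (k - 1) ↔ ¬ (4 : ℤ) ∣ e := by
  haveI : Fact (Nat.Prime 2) := ⟨Nat.prime_two⟩
  have hk := S.hk
  have hP : IsPGroup 2 X := IsPGroup.of_card S.card
  obtain ⟨n, hn⟩ := IsPGroup.iff_orderOf.mp hP g
  have hn0 : n ≠ 0 := by
    intro h0
    rw [h0, pow_zero, orderOf_eq_one_iff] at hn
    exact hg (hn ▸ one_mem _)
  have hg2 : orderOf (g ^ 2) = 2 ^ (n - 1) := by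
    rw [orderOf_pow' g (by norm_num), hn]
    have h2 : 2 ^ n = 2 ^ (n - 1) * 2 := by rw [← pow_succ]; congr 1; omega
    rw [h2, Nat.gcd_mul_left_left, Nat.mul_div_cancel _ (by norm_num)]
  have hy : orderOf (z ^ 2) = 2 ^ (k - 3 + 1) := by
    rw [orderOf_pow' z (by norm_num), S.ord]
    have h2 : 2 ^ (k - 1) = 2 ^ (k - 2) * 2 := by rw [← pow_succ]; congr 1; omega
    rw [h2, Nat.gcd_mul_left_left, Nat.mul_div_cancel _ (by norm_num)]
    congr 1; omega
  have ho4 : orderOf (z ^ 4) = 2 ^ (k - 3) := by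
    rw [orderOf_pow' z (by norm_num), S.ord]
    have h2 : 2 ^ (k - 1) = 2 ^ (k - 3) * 4 := by
      have : (4 : ℕ) = 2 ^ 2 := by norm_num
      rw [this, ← pow_add]; congr 1; omega
    rw [h2, Nat.gcd_mul_left_left, Nat.mul_div_cancel _ (by norm_num)]
  have hmem2 : g ^ 2 ∈ zpowers (z ^ 2) := by
    rw [he, zpow_mem_zpowers_pow_iff 2 S.two_dvd]; exact_mod_cast he2
  have h42 : z ^ 4 = (z ^ 2) ^ 2 := by rw [← pow_mul]
  constructor
  · intro hord h4
    have hmem4 : g ^ 2 ∈ zpowers (z ^ 4) := by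
      rw [he, zpow_mem_zpowers_pow_iff 4 S.four_dvd]; exact_mod_cast h4
    have h3 := orderOf_dvd_of_mem_zpowers hmem4
    rw [hg2, ho4] at h3
    have hnk : n = k - 1 := Nat.pow_right_injective (le_refl 2) (hn.symm.trans hord)
    rw [hnk] at h3
    have h5 := Nat.le_of_dvd (by positivity) h3
    have h6 : 2 ^ (k - 3) < 2 ^ (k - 1 - 1) := Nat.pow_lt_pow_right (by norm_num) (by omega)
    omega
  · intro h4
    have hnot : g ^ 2 ∉ zpowers ((z ^ 2) ^ 2) := by
      rw [← h42, he, zpow_mem_zpowers_pow_iff 4 S.four_dvd]; exact_mod_cast h4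
    have heq := zpowers_eq_of_not_mem_sq (k - 3) hy hmem2 hnot
    have h7 : orderOf (g ^ 2) = orderOf (z ^ 2) := by
      rw [← Nat.card_zpowers, ← Nat.card_zpowers, heq]
    rw [hg2, hy] at h7
    have := Nat.pow_right_injective (le_refl 2) h7
    rw [hn]; congr 1; omega

end CycMax

end Cfsg.Agent.Helper20
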