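import Mathlib
import Cfsg.Agent.Helper20.KulD
import Cfsg.Agent.Helper20.FrobD
import Cfsg.Agent.Helper20.EqOrdC

set_option autoImplicit false

/-!
# Counting elements of order `a * m` via pairs (element of order `m`, cyclic subgroup of order `a`)
(helper20)
-/

namespace Cfsg.Agent.Helper20

open Subgroup

variable (G : Type*) [Group G]

/-- pairs `(y, C)` with `y` of order `m`, `C` cyclic of order `a` centralizing `y`. -/
def TT (a m : ℕ) : Type _ :=
  {t : G × Subgroup G // orderOf t.1 = m ∧ t.2 ≤ centralizer {t.1} ∧ IsCyclic t.2 ∧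
    Nat.card t.2 = a}

/-- commuting pairs `(x, y)` with orders `a`, `m`. -/
def PP (a m : ℕ) : Type _ :=
  {q : G × G // Commute q.1 q.2 ∧ orderOf q.1 = a ∧ orderOf q.2 = m}

instance [Finite G] (a m : ℕ) : Finite (TT G a m) := by unfold TT; infer_instance
instance [Finite G] (a m : ℕ) : Finite (PP G a m) := by unfold PP; infer_instance

variable {G}

theorem card_order_eq_card_PP [Finite G] (a m : ℕ) (hcop : a.Coprime m) :
    Nat.card {g : G // orderOf g = a * m} = Nat.card (PP G a m) := by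
  symm
  refine Nat.card_congr (Equiv.ofBijective (fun q : PP G a m => ⟨q.1.1 * q.1.2, ?_⟩) ⟨?_, ?_⟩)
  · obtain ⟨⟨x, y⟩, hc, hx, hy⟩ := q
    simp only
    rw [hc.orderOf_mul_eq_mul_orderOf_of_coprime (by rw [hx, hy]; exact hcop), hx, hy]
  · rintro ⟨⟨x, y⟩, hc, hx, hy⟩ ⟨⟨x', y'⟩, hc', hx', hy'⟩ h
    have h1 : x * y = x' * y' := congrArg Subtype.val h
    simp only at hc hx hy hc' hx' hy'
    obtain ⟨e1, e2⟩ := coprime_decomp_unique hc hc' h1 (by rw [hx, hy]; exact hcop)
      (by rw [hx, hy']; exact hcop) (by rw [hx', hy]; exact hcop) (by rw [hx', hy']; exact hcop)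
    apply Subtype.ext
    exact Prod.ext e1 e2
  · rintro ⟨g, hg⟩
    obtain ⟨y, z, hc, hyz, hy, hz⟩ := exists_coprime_split g a m hg hcop
    exact ⟨⟨(y, z), hc, hy, hz⟩, Subtype.ext hyz⟩

/-- the map `(x, y) ↦ (y, ⟨x⟩)`. -/
def PPtoTT (a m : ℕ) (q : PP G a m) : TT G a m :=
  ⟨(q.1.2, zpowers q.1.1), q.2.2.2, by
    rw [zpowers_le, mem_centralizer_singleton_iff]
    exact q.2.1.eq, inferInstance, by rw [Nat.card_zpowers]; exact q.2.2.1⟩

/-- the fibre of `PPtoTT` over `(y, C)` is the set of generators of `C`. -/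
def fiberEquiv [Finite G] (a m : ℕ) (t : TT G a m) :
    {q : PP G a m // PPtoTT a m q = t} ≃ {x : t.1.2 // orderOf x = a} where
  toFun q := ⟨⟨q.1.1.1, by
    have := congrArg (fun t : TT G a m => t.1.2) q.2
    simp only [PPtoTT] at this
    rw [← this]; exact mem_zpowers _⟩, by
    rw [← Subgroup.orderOf_coe]
    exact q.1.2.2.1⟩
  invFun x := ⟨⟨((x.1 : G), t.1.1), by
      have := t.2.2.1 x.1.2
      rw [mem_centralizer_singleton_iff] at this
      exact this, by rw [Subgroup.orderOf_coe]; exact x.2, t.2.1⟩, by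
    apply Subtype.ext
    refine Prod.ext rfl ?_
    simp only [PPtoTT]
    haveI : Finite t.1.2 := inferInstance
    refine Subgroup.eq_of_le_of_card_ge ?_ ?_
    · rw [zpowers_le]; exact x.1.2
    · rw [Nat.card_zpowers, Subgroup.orderOf_coe, x.2, t.2.2.2.2]⟩
  left_inv q := by
    apply Subtype.ext
    apply Subtype.ext
    have := congrArg (fun t : TT G a m => t.1.1) q.2
    simp only [PPtoTT] at this
    exact Prod.ext rfl this.symm
  right_inv x := by
    apply Subtype.ext
    apply Subtype.ext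
    rfl

theorem card_PP_eq [Finite G] (a m : ℕ) :
    Nat.card (PP G a m) = a.totient * Nat.card (TT G a m) := by
  classical
  haveI : Fintype (TT G a m) := Fintype.ofFinite _
  rw [← Nat.card_congr (Equiv.sigmaFiberEquiv (PPtoTT (G := G) a m)), Nat.card_sigma]
  have : ∀ t : TT G a m, Nat.card {q : PP G a m // PPtoTT a m q = t} = a.totient := by
    intro t
    rw [Nat.card_congr (fiberEquiv a m t)]
    haveI : IsCyclic t.1.2 := t.2.2.2.1
    haveI : Fintype t.1.2 := Fintype.ofFinite _
    have h1 := IsCyclic.card_orderOf_eq_totient (α := t.1.2) (d := a)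
      (by rw [← Nat.card_eq_fintype_card, t.2.2.2.2])
    rw [← h1, Nat.card_eq_fintype_card, Fintype.card_subtype]
  rw [Finset.sum_congr rfl (fun t _ => this t), Finset.sum_const, smul_eq_mul, Finset.card_univ,
    Nat.card_eq_fintype_card, mul_comm]

end Cfsg.Agent.Helper20
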