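import Mathlib
import Cfsg.Agent.Helper20.Kul2C
import Cfsg.Agent.Helper20.KulE

set_option autoImplicit false
set_option linter.style.haveILetI false
set_option linter.unusedSectionVars false

/-!
# 2-groups: parity of the number of cyclic maximal subgroups (helper20)
-/

namespace Cfsg.Agent.Helper20

open Subgroup

universe u

/-- noncyclic with commutator quotient of order four. -/
def MC2 (Y : Type u) [Group Y] : Prop := ¬ IsCyclic Y ∧ (commutator Y).index = 4

/-- noncyclic with larger commutator quotient. -/
def RR2 (Y : Type u) [Group Y] : Prop := ¬ IsCyclic Y ∧ (commutator Y).index ≠ 4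

variable {X : Type u} [Group X] [Finite X]

/-- elements of order `a` versus cyclic subgroups of order `a`. -/
theorem card_order_eq_totient_mul (a : ℕ) :
    Nat.card {g : X // orderOf g = a} =
      a.totient * Nat.card {M : Subgroup X // IsCyclic M ∧ Nat.card M = a} := by
  have h1 := card_order_eq_card_PP (G := X) a 1 (Nat.coprime_one_right a)
  rw [mul_one] at h1
  rw [h1, card_PP_eq]
  congr 1
  refine Nat.card_congr
    { toFun := fun t => ⟨t.1.2, t.2.2.2.1, t.2.2.2.2⟩
      invFun := fun M => ⟨((1 : X), M.1), orderOf_one, fun x _ => by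
        rw [mem_centralizer_iff]
        intro y hy
        rw [Set.mem_singleton_iff] at hy
        rw [hy, one_mul, mul_one], M.2.1, M.2.2⟩
      left_inv := fun t => by
        apply Subtype.ext
        have : t.1.1 = 1 := orderOf_eq_one_iff.mp t.2.1
        exact Prod.ext this.symm rfl
      right_inv := fun M => rfl }

namespace CycMax

variable {k : ℕ} {z : X} (S : CycMax X k z)

include S

theorem index_two_iff (M : Subgroup X) : M.index = 2 ↔ Nat.card M = 2 ^ (k - 1) := by
  have h1 := M.card_mul_index
  rw [S.card] at h1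
  have h2 : 2 ^ k = 2 ^ (k - 1) * 2 := by rw [← pow_succ]; congr 1; have := S.hk; omega
  rw [h2] at h1
  constructor
  · intro h
    rw [h] at h1
    exact Nat.eq_of_mul_eq_mul_right (by norm_num) h1
  · intro h
    rw [h] at h1
    exact Nat.eq_of_mul_eq_mul_left (by positivity) h1

/-- the number of elements of full order. -/
theorem card_full :
    Nat.card {g : X // orderOf g = 2 ^ (k - 1)} =
      2 ^ (k - 2) * Nat.card {M : Subgroup X // M.index = 2 ∧ IsCyclic M} := by
  rw [card_order_eq_totient_mul, Nat.totient_prime_pow Nat.prime_two (by have := S.hk; omega)]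
  have : k - 1 - 1 = k - 2 := by omega
  rw [this, Nat.add_one_sub_one, mul_one]
  congr 1
  exact Nat.card_congr (Equiv.subtypeEquivRight fun M => by
    rw [S.index_two_iff M]; tauto)

/-- the elements of full order inside `⟨z⟩`. -/
theorem card_full_inside [Fintype X] [DecidablePred (· ∈ zpowers z)] :
    (Finset.univ.filter (fun g : X => g ∈ zpowers z ∧ orderOf g = 2 ^ (k - 1))).card =
      2 ^ (k - 2) := by
  classical
  haveI : Fintype (zpowers z) := Fintype.ofFinite _
  have h1 := IsCyclic.card_orderOf_eq_totient (α := zpowers z) (d := 2 ^ (k - 1))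
    (by rw [← Nat.card_eq_fintype_card, Nat.card_zpowers, S.ord])
  rw [Nat.totient_prime_pow Nat.prime_two (by have := S.hk; omega)] at h1
  have : k - 1 - 1 = k - 2 := by omega
  rw [this, Nat.add_one_sub_one, mul_one] at h1
  rw [← h1]
  symm
  refine Finset.card_bij (fun c _ => (c : X)) ?_ ?_ ?_
  · intro c hc
    rw [Finset.mem_filter] at hc ⊢
    exact ⟨Finset.mem_univ _, c.2, by rw [Subgroup.orderOf_coe]; exact hc.2⟩
  · intro c₁ _ c₂ _ h
    exact Subtype.ext h
  · intro g hg
    rw [Finset.mem_filter] at hg
    refine ⟨⟨g, hg.2.1⟩, ?_, rfl⟩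
    rw [Finset.mem_filter]
    exact ⟨Finset.mem_univ _, by rw [← Subgroup.orderOf_coe]; exact hg.2.2⟩

/-- the number of elements outside `⟨z⟩`. -/
theorem card_outside [Fintype X] [DecidablePred (· ∈ zpowers z)] :
    (Finset.univ.filter (fun g : X => g ∉ zpowers z)).card = 2 ^ (k - 1) := by
  classical
  have h1 := Finset.card_filter_add_card_filter_not (s := (Finset.univ : Finset X))
    (fun g : X => g ∈ zpowers z)
  have h2 : (Finset.univ.filter (fun g : X => g ∈ zpowers z)).card = 2 ^ (k - 1) := by
    rw [← Fintype.card_subtype, ← Nat.card_eq_fintype_card]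
    show Nat.card (zpowers z) = _
    rw [Nat.card_zpowers, S.ord]
  rw [h2, Finset.card_univ, ← Nat.card_eq_fintype_card, S.card] at h1
  have h3 : 2 ^ k = 2 ^ (k - 1) * 2 := by rw [← pow_succ]; congr 1; have := S.hk; omega
  omega

end CycMax

end Cfsg.Agent.Helper20
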