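import Mathlib
import Cfsg.Agent.Helper20.Kul2D

set_option autoImplicit false
set_option linter.style.haveILetI false
set_option linter.unusedSectionVars false

/-!
# 2-groups: parity of the number of cyclic maximal subgroups, II (helper20)
-/

namespace Cfsg.Agent.Helper20

open Subgroup

universe u

variable {X : Type u} [Group X] [Finite X]

namespace CycMax

variable {k : ℕ} {z : X} (S : CycMax X k z)

include S

theorem zpow_mul_not_mem (g : X) (hg : g ∉ zpowers z) (i : ℤ) : z ^ i * g ∉ zpowers z := by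
  intro h
  exact hg ((mul_mem_cancel_left (zpow_mem (mem_zpowers z) i)).mp h)

/-- order of `z^i * g` in terms of exponents. -/
theorem order_zpow_mul_iff (b : ℤ) (hb2 : (2 : ℤ) ∣ b)
    (hb : ∀ g : X, g ∉ zpowers z → g * z * g⁻¹ = z ^ (b + 1))
    (g : X) (hg : g ∉ zpowers z) (e : ℤ) (he : g ^ 2 = z ^ e) (he2 : (2 : ℤ) ∣ e) (i : ℤ) :
    orderOf (z ^ i * g) = 2 ^ (k - 1) ↔ ¬ (4 : ℤ) ∣ (i * (b + 2) + e) := by
  refine S.order_iff (z ^ i * g) (S.zpow_mul_not_mem g hg i) _ (S.sq_mul b hb g hg e he i) ?_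
  obtain ⟨b', rfl⟩ := hb2
  obtain ⟨e', rfl⟩ := he2
  exact ⟨i * (b' + 1) + e', by ring⟩

theorem good_mul_iff_RR (b : ℤ) (hb2 : (2 : ℤ) ∣ b)
    (hb : ∀ g : X, g ∉ zpowers z → g * z * g⁻¹ = z ^ (b + 1)) (h4 : (4 : ℤ) ∣ b)
    (g : X) (hg : g ∉ zpowers z) :
    orderOf (z * g) = 2 ^ (k - 1) ↔ ¬ orderOf g = 2 ^ (k - 1) := by
  obtain ⟨e, he, he2⟩ := S.sq_exp g hg
  have h1 := S.order_zpow_mul_iff b hb2 hb g hg e he he2 1
  rw [zpow_one] at h1
  rw [h1, S.order_iff g hg e he he2]
  obtain ⟨b', rfl⟩ := h4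
  obtain ⟨e', rfl⟩ := he2
  omega

theorem good_zpow_mul_iff_MC (b : ℤ) (hb2 : (2 : ℤ) ∣ b)
    (hb : ∀ g : X, g ∉ zpowers z → g * z * g⁻¹ = z ^ (b + 1)) (h4 : ¬ (4 : ℤ) ∣ b)
    (g : X) (hg : g ∉ zpowers z) (i : ℤ) :
    orderOf (z ^ i * g) = 2 ^ (k - 1) ↔ orderOf g = 2 ^ (k - 1) := by
  obtain ⟨e, he, he2⟩ := S.sq_exp g hg
  rw [S.order_zpow_mul_iff b hb2 hb g hg e he he2 i, S.order_iff g hg e he he2]
  obtain ⟨b', rfl⟩ := hb2
  obtain ⟨e', rfl⟩ := he2
  have hb' : ¬ (2 : ℤ) ∣ b' := by
    intro h; apply h4; obtain ⟨c, rfl⟩ := h; exact ⟨c, by ring⟩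
  obtain ⟨c, hc⟩ : ∃ c, b' = 2 * c + 1 := by
    have := Int.emod_two_eq_zero_or_one b'
    refine ⟨b' / 2, ?_⟩
    omega
  subst hc
  have : i * (2 * (2 * c + 1) + 2) + 2 * e' = 4 * (i * (c + 1)) + 2 * e' := by ring
  rw [this]
  omega

/-- type R: exactly two cyclic maximal subgroups. -/
theorem card_cyclic_max_RR (hR : (commutator X).index ≠ 4) :
    Nat.card {M : Subgroup X // M.index = 2 ∧ IsCyclic M} = 2 := by
  classical
  haveI : Fintype X := Fintype.ofFinite X
  obtain ⟨b, hb2, hb⟩ := S.conj_exp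
  have h4 : (4 : ℤ) ∣ b := by
    by_contra h
    exact hR ((S.index_comm_iff b hb).mpr h)
  set d := 2 ^ (k - 1) with hd
  -- the bijection between good and bad elements outside
  have hbij : (Finset.univ.filter (fun g : X => g ∉ zpowers z ∧ orderOf g = d)).card =
      (Finset.univ.filter (fun g : X => g ∉ zpowers z ∧ ¬ orderOf g = d)).card := by
    refine Finset.card_bij' (fun g _ => z * g) (fun g _ => z⁻¹ * g) ?_ ?_ ?_ ?_
    · intro g hg
      rw [Finset.mem_filter] at hg ⊢
      have := S.zpow_mul_not_mem g hg.2.1 1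
      rw [zpow_one] at this
      refine ⟨Finset.mem_univ _, this, ?_⟩
      rw [S.good_mul_iff_RR b hb2 hb h4 g hg.2.1]
      exact not_not.mpr hg.2.2
    · intro g hg
      rw [Finset.mem_filter] at hg ⊢
      have h1 := S.zpow_mul_not_mem g hg.2.1 (-1)
      rw [zpow_neg, zpow_one] at h1
      refine ⟨Finset.mem_univ _, h1, ?_⟩
      have h2 := S.good_mul_iff_RR b hb2 hb h4 (z⁻¹ * g) h1
      rw [mul_inv_cancel_left] at h2
      by_contra h3
      exact hg.2.2 (h2.mpr h3)
    · intro g _
      exact inv_mul_cancel_left z g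
    · intro g _
      exact mul_inv_cancel_left z g
  have hsplit : (Finset.univ.filter (fun g : X => g ∉ zpowers z ∧ orderOf g = d)).card +
      (Finset.univ.filter (fun g : X => g ∉ zpowers z ∧ ¬ orderOf g = d)).card = 2 ^ (k - 1) := by
    rw [← S.card_outside]
    have := Finset.card_filter_add_card_filter_not
      (s := Finset.univ.filter (fun g : X => g ∉ zpowers z)) (fun g : X => orderOf g = d)
    rw [Finset.filter_filter, Finset.filter_filter] at this
    exact this
  have hfull : (Finset.univ.filter (fun g : X => orderOf g = d)).card =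
      (Finset.univ.filter (fun g : X => g ∈ zpowers z ∧ orderOf g = d)).card +
      (Finset.univ.filter (fun g : X => g ∉ zpowers z ∧ orderOf g = d)).card := by
    have := Finset.card_filter_add_card_filter_not
      (s := Finset.univ.filter (fun g : X => orderOf g = d)) (fun g : X => g ∈ zpowers z)
    rw [Finset.filter_filter, Finset.filter_filter] at this
    rw [← this]
    congr 2 <;> (ext g; simp only [Finset.mem_filter, Finset.mem_univ, true_and]; tauto)
  have hc := S.card_full
  rw [Nat.card_eq_fintype_card, Fintype.card_subtype, hfull, S.card_full_inside] at hc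
  have h2 : 2 ^ (k - 1) = 2 ^ (k - 2) * 2 := by rw [← pow_succ]; congr 1; have := S.hk; omega
  have hpos : 0 < 2 ^ (k - 2) := by positivity
  set c := Nat.card {M : Subgroup X // M.index = 2 ∧ IsCyclic M} with hcdef
  have h5 : (Finset.univ.filter (fun g : X => g ∉ zpowers z ∧ orderOf g = d)).card = 2 ^ (k - 2) := by
    omega
  rw [h5] at hc
  have h6 : 2 ^ (k - 2) * 2 = 2 ^ (k - 2) * c := by rw [← hc]; ring
  exact (Nat.eq_of_mul_eq_mul_left hpos h6).symm

/-- maximal class: an odd number of cyclic maximal subgroups. -/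
theorem card_cyclic_max_MC (hM : (commutator X).index = 4) :
    Nat.card {M : Subgroup X // M.index = 2 ∧ IsCyclic M} = 1 ∨
      Nat.card {M : Subgroup X // M.index = 2 ∧ IsCyclic M} = 3 := by
  classical
  haveI : Fintype X := Fintype.ofFinite X
  obtain ⟨b, hb2, hb⟩ := S.conj_exp
  have h4 : ¬ (4 : ℤ) ∣ b := (S.index_comm_iff b hb).mp hM
  set d := 2 ^ (k - 1) with hd
  have hne : zpowers z ≠ ⊤ := by
    intro h
    have := S.index
    rw [h, index_top] at this
    omega
  obtain ⟨g₀, -, hg₀⟩ := SetLike.exists_of_lt (lt_top_iff_ne_top.mpr hne)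
  have hall : ∀ g : X, g ∉ zpowers z → (orderOf g = d ↔ orderOf g₀ = d) := by
    intro g hg
    have h1 : g * g₀⁻¹ ∈ zpowers z := by
      rw [mul_mem_iff_of_index_two S.index, inv_mem_iff]
      exact ⟨fun h' => absurd h' hg, fun h' => absurd h' hg₀⟩
    obtain ⟨i, hi⟩ := mem_zpowers_iff.mp h1
    have h2 := S.good_zpow_mul_iff_MC b hb2 hb h4 g₀ hg₀ i
    rw [hi, inv_mul_cancel_right] at h2
    exact h2
  have hfull : (Finset.univ.filter (fun g : X => orderOf g = d)).card =
      (Finset.univ.filter (fun g : X => g ∈ zpowers z ∧ orderOf g = d)).card +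
      (Finset.univ.filter (fun g : X => g ∉ zpowers z ∧ orderOf g = d)).card := by
    have := Finset.card_filter_add_card_filter_not
      (s := Finset.univ.filter (fun g : X => orderOf g = d)) (fun g : X => g ∈ zpowers z)
    rw [Finset.filter_filter, Finset.filter_filter] at this
    rw [← this]
    congr 2 <;> (ext g; simp only [Finset.mem_filter, Finset.mem_univ, true_and]; tauto)
  have hc := S.card_full
  rw [Nat.card_eq_fintype_card, Fintype.card_subtype, hfull, S.card_full_inside] at hc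
  have h2 : 2 ^ (k - 1) = 2 ^ (k - 2) * 2 := by rw [← pow_succ]; congr 1; have := S.hk; omega
  have hpos : 0 < 2 ^ (k - 2) := by positivity
  set c := Nat.card {M : Subgroup X // M.index = 2 ∧ IsCyclic M} with hcdef
  by_cases hg0 : orderOf g₀ = d
  · right
    have h5 : (Finset.univ.filter (fun g : X => g ∉ zpowers z ∧ orderOf g = d)) =
        (Finset.univ.filter (fun g : X => g ∉ zpowers z)) := by
      ext g
      simp only [Finset.mem_filter, Finset.mem_univ, true_and]
      constructor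
      · exact fun h => h.1
      · exact fun h => ⟨h, (hall g h).mpr hg0⟩
    rw [h5, S.card_outside, h2] at hc
    have h6 : 2 ^ (k - 2) * 3 = 2 ^ (k - 2) * c := by rw [← hc]; ring
    exact (Nat.eq_of_mul_eq_mul_left hpos h6).symm
  · left
    have h5 : (Finset.univ.filter (fun g : X => g ∉ zpowers z ∧ orderOf g = d)) = ∅ := by
      ext g
      simp only [Finset.mem_filter, Finset.mem_univ, true_and, Finset.notMem_empty, iff_false]
      rintro ⟨h, h'⟩
      exact hg0 ((hall g h).mp h')
    rw [h5, Finset.card_empty, add_zero] at hc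
    have h6 : 2 ^ (k - 2) * 1 = 2 ^ (k - 2) * c := by rw [← hc]; ring
    exact (Nat.eq_of_mul_eq_mul_left hpos h6).symm

end CycMax

end Cfsg.Agent.Helper20
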