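import Mathlib
import Cfsg.Agent.Helper20.Kul2E
import Cfsg.Agent.Helper9.MaxClassTwoC

set_option autoImplicit false
set_option linter.style.haveILetI false
set_option linter.unusedSectionVars false

/-!
# 2-groups: cyclic maximal subgroups, wrappers; maximal subgroups of groups of maximal class
(helper20)
-/

namespace Cfsg.Agent.Helper20

open Subgroup

universe u

variable {X : Type u} [Group X] [Finite X]

theorem coe_mem_zpowers_iff (M : Subgroup X) (a b : M) :
    a ∈ zpowers b ↔ (a : X) ∈ zpowers (b : X) := by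
  rw [mem_zpowers_iff, mem_zpowers_iff]
  constructor
  · rintro ⟨i, hi⟩
    exact ⟨i, by rw [← hi, Subgroup.coe_zpow]⟩
  · rintro ⟨i, hi⟩
    exact ⟨i, Subtype.ext (by rw [Subgroup.coe_zpow, hi])⟩

/-- a cyclic subgroup of index two provides the data `CycMax`. -/
theorem exists_cycMax (k : ℕ) (hk : 3 ≤ k) (hX : Nat.card X = 2 ^ k) (hnc : ¬ IsCyclic X)
    (C : Subgroup X) (hC : IsCyclic C) (hCi : C.index = 2) :
    ∃ z : X, CycMax X k z ∧ zpowers z = C := by
  obtain ⟨c, hc⟩ := (Subgroup.isCyclic_iff_exists_zpowers_eq_top C).mp hC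
  refine ⟨c, ⟨hk, hX, hnc, ?_⟩, hc⟩
  have h1 := C.card_mul_index
  rw [hCi, hX, ← hc, Nat.card_zpowers] at h1
  have h2 : 2 ^ k = 2 ^ (k - 1) * 2 := by rw [← pow_succ]; congr 1; omega
  rw [h2] at h1
  exact Nat.eq_of_mul_eq_mul_right (by norm_num) h1

/-- maximal class: an odd number of cyclic maximal subgroups. -/
theorem odd_card_cyclic_max_of_MC2 (k : ℕ) (hk : 3 ≤ k) (hX : Nat.card X = 2 ^ k) (h : MC2 X) :
    Odd (Nat.card {M : Subgroup X // M.index = 2 ∧ IsCyclic M}) := by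
  have hc := Cfsg.Agent.Helper9.maxClass_of_index_commutator_aux k hk X hX h.2
  obtain ⟨C, hC, hCi⟩ := Cfsg.Agent.Helper9.exists_isCyclic_index_two_of_maxClass_aux k hk X hX hc
  obtain ⟨z, S, -⟩ := exists_cycMax k hk hX h.1 C hC hCi
  rcases S.card_cyclic_max_MC h.2 with h1 | h1 <;> rw [h1]
  · exact odd_one
  · exact ⟨1, by norm_num⟩

/-- not of maximal class: an even number of cyclic maximal subgroups. -/
theorem even_card_cyclic_max_of_RR2 (k : ℕ) (hk : 3 ≤ k) (hX : Nat.card X = 2 ^ k) (h : RR2 X) :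
    Even (Nat.card {M : Subgroup X // M.index = 2 ∧ IsCyclic M}) := by
  by_cases hex : ∃ C : Subgroup X, C.index = 2 ∧ IsCyclic C
  · obtain ⟨C, hCi, hC⟩ := hex
    obtain ⟨z, S, -⟩ := exists_cycMax k hk hX h.1 C hC hCi
    rw [S.card_cyclic_max_RR h.2]
    exact even_two
  · haveI : IsEmpty {M : Subgroup X // M.index = 2 ∧ IsCyclic M} :=
      ⟨fun M => hex ⟨M.1, M.2⟩⟩
    rw [Nat.card_of_isEmpty]
    exact Even.zero

/-- in a group of maximal class of order at least 16, the noncyclic maximal subgroups are of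
maximal class. -/
theorem MC2_of_max_of_MC2 (k : ℕ) (hk : 4 ≤ k) (hX : Nat.card X = 2 ^ k) (h : MC2 X)
    (M : Subgroup X) (hM : M.index = 2) (hMnc : ¬ IsCyclic M) : MC2 M := by
  haveI : Fact (Nat.Prime 2) := ⟨Nat.prime_two⟩
  refine ⟨hMnc, ?_⟩
  have hc := Cfsg.Agent.Helper9.maxClass_of_index_commutator_aux k (by omega) X hX h.2
  obtain ⟨C, hC, hCi⟩ :=
    Cfsg.Agent.Helper9.exists_isCyclic_index_two_of_maxClass_aux k (by omega) X hX hc
  obtain ⟨z, S, hzC⟩ := exists_cycMax k (by omega) hX h.1 C hC hCi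
  have hMcard : Nat.card M = 2 ^ (k - 1) := (S.index_two_iff M).mp hM
  -- an element of M outside ⟨z⟩
  have hnle : ¬ M ≤ zpowers z := by
    intro hle
    have : M = zpowers z := by
      apply Subgroup.eq_of_le_of_card_ge hle
      rw [hMcard, Nat.card_zpowers, S.ord]
    apply hMnc
    rw [this]
    infer_instance
  obtain ⟨g, hgM, hgz⟩ := SetLike.not_le_iff_exists.mp hnle
  have hz2M : z ^ 2 ∈ M := sq_mem_of_index_two hM z
  obtain ⟨b, hb2, hb⟩ := S.conj_exp
  have hb4 : ¬ (4 : ℤ) ∣ b := (S.index_comm_iff b hb).mp h.2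
  have ho2 : orderOf (z ^ 2) = 2 ^ (k - 2) := by
    rw [orderOf_pow' z (by norm_num), S.ord]
    have h2 : 2 ^ (k - 1) = 2 ^ (k - 2) * 2 := by rw [← pow_succ]; congr 1; omega
    rw [h2, Nat.gcd_mul_left_left, Nat.mul_div_cancel _ (by norm_num)]
  set y' : M := ⟨z ^ 2, hz2M⟩ with hy'
  set g' : M := ⟨g, hgM⟩ with hg'
  have hoy' : orderOf y' = 2 ^ (k - 1 - 1) := by
    rw [← Subgroup.orderOf_coe, hy']
    simp only
    rw [ho2]; congr 1
  have hg'n : g' ∉ zpowers y' := by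
    rw [coe_mem_zpowers_iff]
    intro hmem
    apply hgz
    have : zpowers (z ^ 2) ≤ zpowers z := by
      rw [zpowers_le]; exact Subgroup.pow_mem _ (mem_zpowers z) 2
    exact this hmem
  rw [index_commutator_eq_four_iff (k - 1) (by omega) hMcard hMnc y' hoy' g' hg'n,
    coe_mem_zpowers_iff]
  have h1 : ((g' * y' * g'⁻¹ * y'⁻¹ : M) : X) = z ^ (2 * b) := by
    show g * z ^ 2 * g⁻¹ * (z ^ 2)⁻¹ = _
    have h2 : g * z ^ 2 * g⁻¹ = (g * z * g⁻¹) ^ 2 := (conj_pow (a := g) (b := z) (i := 2)).symm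
    rw [h2, hb g hgz, ← zpow_natCast, ← zpow_mul, ← zpow_natCast z 2, ← zpow_neg, ← zpow_add]
    congr 1
    push_cast
    ring
  have h3 : ((y' ^ 4 : M) : X) = z ^ 8 := by
    show (z ^ 2) ^ 4 = _
    rw [← pow_mul]
  rw [h1, h3]
  have h8 : 8 ∣ orderOf z := by
    rw [S.ord]
    have : 2 ^ (k - 1) = 2 ^ (k - 4) * 8 := by
      have h8 : (8 : ℕ) = 2 ^ 3 := by norm_num
      rw [h8, ← pow_add]; congr 1; omega
    rw [this]; exact dvd_mul_left _ _
  rw [zpow_mem_zpowers_pow_iff 8 h8]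
  obtain ⟨b', rfl⟩ := hb2
  intro hdvd
  apply hb4
  obtain ⟨t, ht⟩ := hdvd
  exact ⟨t, by push_cast at ht; linarith⟩

end Cfsg.Agent.Helper20
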