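import Mathlib
import Cfsg.Agent.Helper20.Kul2F

set_option autoImplicit false
set_option linter.style.haveILetI false
set_option linter.unusedSectionVars false

/-!
# 2-groups not of maximal class with a maximal subgroup of maximal class: the quotient of
order 16 (helper20)
-/

namespace Cfsg.Agent.Helper20

open Subgroup
open scoped commutatorElement

universe u

variable {X : Type u} [Group X] [Finite X]

/-- the data: `⟨w⟩` of index four with `X' = ⟨w²⟩`, and `g₀` inverting `w` modulo `⟨w⁴⟩`. -/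
structure RData (X : Type u) [Group X] (k : ℕ) (w g₀ : X) : Prop where
  hk : 4 ≤ k
  card : Nat.card X = 2 ^ k
  ord : orderOf w = 2 ^ (k - 2)
  comm : commutator X = zpowers (w ^ 2)
  g0 : g₀ * w * g₀⁻¹ * w⁻¹ ∉ zpowers (w ^ 4)

namespace RData

variable {k : ℕ} {w g₀ : X} (S : RData X k w g₀)

include S

theorem ord2 : orderOf (w ^ 2) = 2 ^ (k - 3) := by
  have hk := S.hk
  rw [orderOf_pow' w (by norm_num), S.ord]
  have h2 : 2 ^ (k - 2) = 2 ^ (k - 3) * 2 := by rw [← pow_succ]; congr 1; omega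
  rw [h2, Nat.gcd_mul_left_left, Nat.mul_div_cancel _ (by norm_num)]

theorem ord4 : orderOf (w ^ 4) = 2 ^ (k - 4) := by
  have hk := S.hk
  rw [orderOf_pow' w (by norm_num), S.ord]
  have h2 : 2 ^ (k - 2) = 2 ^ (k - 4) * 4 := by
    have : (4 : ℕ) = 2 ^ 2 := by norm_num
    rw [this, ← pow_add]; congr 1; omega
  rw [h2, Nat.gcd_mul_left_left, Nat.mul_div_cancel _ (by norm_num)]

theorem pow42 : w ^ 4 = (w ^ 2) ^ 2 := by rw [← pow_mul]

theorem normal2 : (zpowers (w ^ 2)).Normal := by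
  rw [← S.comm]; infer_instance

theorem normalN : (zpowers (w ^ 4)).Normal := by
  rw [S.pow42]; exact normal_zpowers_pow S.normal2 2

theorem four_dvd : 4 ∣ orderOf w := by
  rw [S.ord]
  have : 2 ^ (k - 2) = 2 ^ (k - 4) * 4 := by
    have h4 : (4 : ℕ) = 2 ^ 2 := by norm_num
    rw [h4, ← pow_add]; congr 1; have := S.hk; omega
  rw [this]; exact dvd_mul_left _ _

theorem comm_mem (g : X) : g * w * g⁻¹ * w⁻¹ ∈ zpowers (w ^ 2) := by
  rw [← S.comm]
  exact Subgroup.commutator_mem_commutator (mem_top g) (mem_top w)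

/-- the square of `w` is central modulo `⟨w⁴⟩`. -/
theorem sq_central (g : X) : g * w ^ 2 * g⁻¹ * (w ^ 2)⁻¹ ∈ zpowers (w ^ 4) := by
  have hk := S.hk
  have h1 : orderOf (w ^ 2) = 2 ^ (k - 2 - 1) := by rw [S.ord2]; congr 1
  have := conj_mul_inv_mem_sq (k - 2) (by omega) (w ^ 2) h1 S.normal2 g
  rwa [← S.pow42] at this

end RData

/-- the quotient map modulo `⟨w⁴⟩`. -/
noncomputable abbrev RData.phi {k : ℕ} {w g₀ : X} (S : RData X k w g₀) :
    haveI := S.normalN
    X →* X ⧸ zpowers (w ^ 4) :=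
  haveI := S.normalN
  QuotientGroup.mk' (zpowers (w ^ 4))

namespace RData

variable {k : ℕ} {w g₀ : X} (S : RData X k w g₀)

theorem phi_eq_one_iff (x : X) :
    haveI := S.normalN
    S.phi x = 1 ↔ x ∈ zpowers (w ^ 4) := by
  haveI := S.normalN
  exact QuotientGroup.eq_one_iff x

theorem phi_surjective :
    haveI := S.normalN
    Function.Surjective S.phi := by
  haveI := S.normalN
  exact QuotientGroup.mk'_surjective _

theorem c_central (g : X) :
    haveI := S.normalN
    S.phi g * S.phi (w ^ 2) = S.phi (w ^ 2) * S.phi g := by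
  haveI := S.normalN
  have h1 := (S.phi_eq_one_iff _).mpr (S.sq_central g)
  rw [map_mul, map_mul, map_mul, map_inv, map_inv] at h1
  calc S.phi g * S.phi (w ^ 2)
      = (S.phi g * S.phi (w ^ 2) * (S.phi g)⁻¹ * (S.phi (w ^ 2))⁻¹) * (S.phi (w ^ 2) * S.phi g) := by
        group
    _ = S.phi (w ^ 2) * S.phi g := by rw [h1, one_mul]

theorem c_sq :
    haveI := S.normalN
    S.phi (w ^ 2) * S.phi (w ^ 2) = 1 := by
  haveI := S.normalN
  rw [← map_mul, S.phi_eq_one_iff, ← pow_two, ← S.pow42]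
  exact mem_zpowers _

/-- every element acts on `w` modulo `⟨w⁴⟩` trivially or by multiplication with `w²`. -/
theorem conj_dich (g : X) :
    haveI := S.normalN
    S.phi g * S.phi w * (S.phi g)⁻¹ = S.phi w ∨
      S.phi g * S.phi w * (S.phi g)⁻¹ = S.phi (w ^ 2) * S.phi w := by
  haveI := S.normalN
  obtain ⟨l, hl⟩ := mem_zpowers_iff.mp (S.comm_mem g)
  have h1 : S.phi g * S.phi w * (S.phi g)⁻¹ = S.phi ((w ^ 2) ^ l) * S.phi w := by
    rw [hl, map_mul, map_mul, map_mul, map_inv, map_inv]; group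
  rw [h1]
  rcases Int.even_or_odd l with ⟨t, ht⟩ | ⟨t, ht⟩
  · left
    have : (w ^ 2) ^ l ∈ zpowers (w ^ 4) := by
      rw [S.pow42]
      refine mem_zpowers_iff.mpr ⟨t, ?_⟩
      rw [ht, ← zpow_natCast (w ^ 2) 2, ← zpow_mul]; congr 1; push_cast; ring
    rw [(S.phi_eq_one_iff _).mpr this, one_mul]
  · right
    have : (w ^ 2) ^ l = (w ^ 4) ^ t * w ^ 2 := by
      rw [S.pow42, ht, ← zpow_natCast (w ^ 2) 2, ← zpow_mul, zpow_add, zpow_one]
      congr 2
    rw [this, map_mul]
    have h2 : S.phi ((w ^ 4) ^ t) = 1 :=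
      (S.phi_eq_one_iff _).mpr (zpow_mem (mem_zpowers _) t)
    rw [h2, one_mul]

/-- the centralizer of `w` modulo `⟨w⁴⟩`. -/
noncomputable def KK : Subgroup X :=
  haveI := S.normalN
  (centralizer {S.phi w}).comap S.phi

theorem mem_KK (g : X) :
    haveI := S.normalN
    g ∈ S.KK ↔ S.phi g * S.phi w = S.phi w * S.phi g := by
  haveI := S.normalN
  unfold KK
  rw [mem_comap, mem_centralizer_singleton_iff]

theorem g0_not_mem : g₀ ∉ S.KK := by
  haveI := S.normalN
  rw [S.mem_KK]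
  intro h
  apply S.g0
  rw [← S.phi_eq_one_iff, map_mul, map_mul, map_mul, map_inv, map_inv, h]
  group

theorem not_mem_KK_iff (g : X) :
    haveI := S.normalN
    g ∉ S.KK ↔ S.phi g * S.phi w * (S.phi g)⁻¹ = S.phi (w ^ 2) * S.phi w := by
  haveI := S.normalN
  have hc1 : S.phi (w ^ 2) ≠ 1 := by
    intro h
    rw [S.phi_eq_one_iff, S.pow42] at h
    have h1 := orderOf_dvd_of_mem_zpowers h
    rw [← S.pow42, S.ord4] at h1
    have h2 : orderOf (w ^ 2) = 2 ^ (k - 3) := S.ord2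
    have h3 : orderOf ((w ^ 2) ^ 2) = 2 ^ (k - 4) := by rw [← S.pow42]; exact S.ord4
    rw [h2] at h1
    have h5 := Nat.le_of_dvd (by positivity) h1
    have h6 : 2 ^ (k - 4) < 2 ^ (k - 3) := Nat.pow_lt_pow_right (by norm_num) (by have := S.hk; omega)
    omega
  rw [S.mem_KK]
  constructor
  · intro h
    rcases S.conj_dich g with h1 | h1
    · exfalso; apply h
      calc S.phi g * S.phi w = (S.phi g * S.phi w * (S.phi g)⁻¹) * S.phi g := by group
        _ = S.phi w * S.phi g := by rw [h1]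
    · exact h1
  · intro h h'
    have : S.phi g * S.phi w * (S.phi g)⁻¹ = S.phi w := by rw [h']; group
    rw [this] at h
    apply hc1
    calc S.phi (w ^ 2) = (S.phi (w ^ 2) * S.phi w) * (S.phi w)⁻¹ := by group
      _ = 1 := by rw [← h]; group

theorem KK_index : S.KK.index = 2 := by
  haveI := S.normalN
  rw [index_eq_two_iff]
  refine ⟨g₀, fun b => ?_⟩
  by_cases hb : b ∈ S.KK
  · refine Or.inr ⟨hb, ?_⟩
    intro h
    exact S.g0_not_mem ((mul_mem_cancel_left hb).mp h)
  · refine Or.inl ⟨?_, hb⟩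
    have h1 := (S.not_mem_KK_iff b).mp hb
    have h2 := (S.not_mem_KK_iff g₀).mp S.g0_not_mem
    rw [S.mem_KK, map_mul]
    have h3 : S.phi b * S.phi g₀ * S.phi w * (S.phi b * S.phi g₀)⁻¹ = S.phi w := by
      calc S.phi b * S.phi g₀ * S.phi w * (S.phi b * S.phi g₀)⁻¹
          = S.phi b * (S.phi g₀ * S.phi w * (S.phi g₀)⁻¹) * (S.phi b)⁻¹ := by group
        _ = S.phi b * (S.phi (w ^ 2) * S.phi w) * (S.phi b)⁻¹ := by rw [h2]
        _ = (S.phi b * S.phi (w ^ 2)) * S.phi w * (S.phi b)⁻¹ := by group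
        _ = S.phi (w ^ 2) * (S.phi b * S.phi w * (S.phi b)⁻¹) := by rw [S.c_central b]; group
        _ = S.phi (w ^ 2) * S.phi (w ^ 2) * S.phi w := by rw [h1]; group
        _ = S.phi w := by rw [S.c_sq, one_mul]
    calc S.phi b * S.phi g₀ * S.phi w
        = (S.phi b * S.phi g₀ * S.phi w * (S.phi b * S.phi g₀)⁻¹) * (S.phi b * S.phi g₀) := by group
      _ = S.phi w * (S.phi b * S.phi g₀) := by rw [h3]

theorem zpowers_le_KK : zpowers w ≤ S.KK := by
  haveI := S.normalN
  rw [zpowers_le, S.mem_KK]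

end RData

end Cfsg.Agent.Helper20
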