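import Mathlib
import Cfsg.Agent.Helper20.Kul2G
import Cfsg.Agent.Helper20.KulD

set_option autoImplicit false
set_option linter.style.haveILetI false
set_option linter.unusedSectionVars false

/-!
# 2-groups not of maximal class: the number of maximal subgroups of maximal class is even
(helper20)
-/

namespace Cfsg.Agent.Helper20

open Subgroup
open scoped commutatorElement

universe u

variable {X : Type u} [Group X] [Finite X]

/-- a subgroup of order `2^(j+1)` is generated by a subgroup of order `2^j` and any further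
element. -/
theorem closure_insert_eq_of_card (J M : Subgroup X) (hJM : J ≤ M) (j : ℕ) (hJ : Nat.card J = 2 ^ j)
    (hM : Nat.card M = 2 ^ (j + 1)) (g : X) (hgM : g ∈ M) (hgJ : g ∉ J) :
    closure (insert g (J : Set X)) = M := by
  have hle : closure (insert g (J : Set X)) ≤ M := by
    rw [closure_le]
    intro x hx
    rcases hx with rfl | hx
    · exact hgM
    · exact hJM hx
  have hJle : J ≤ closure (insert g (J : Set X)) := fun x hx =>
    subset_closure (Set.mem_insert_of_mem _ hx)
  have hg : g ∈ closure (insert g (J : Set X)) := subset_closure (Set.mem_insert _ _)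
  apply Subgroup.eq_of_le_of_card_ge hle
  have h1 := Subgroup.card_dvd_of_le hle
  rw [hM] at h1
  obtain ⟨i, hi, hic⟩ := (Nat.dvd_prime_pow Nat.prime_two).mp h1
  have h2 := Subgroup.card_dvd_of_le hJle
  rw [hJ, hic] at h2
  have h3 : j ≤ i := (Nat.pow_dvd_pow_iff_le_right (by norm_num)).mp h2
  have h4 : i ≠ j := by
    intro h
    have : J = closure (insert g (J : Set X)) :=
      Subgroup.eq_of_le_of_card_ge hJle (by rw [hic, h, hJ])
    exact hgJ (this ▸ hg)
  have : i = j + 1 := by omega
  rw [hM, hic, this]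

namespace RData

variable {k : ℕ} {w g₀ : X} (S : RData X k w g₀)

/-- abelian modulo `⟨w⁴⟩`. -/
def PP (M : Subgroup X) : Prop :=
  haveI := S.normalN
  ∀ a ∈ M, ∀ b ∈ M, S.phi a * S.phi b = S.phi b * S.phi a

/-- commutation modulo `⟨w⁴⟩` passes to the closure. -/
theorem comm_closure (T : Set X)
    (hT : haveI := S.normalN; ∀ a ∈ T, ∀ b ∈ T, S.phi a * S.phi b = S.phi b * S.phi a) :
    S.PP (closure T) := by
  haveI := S.normalN
  have hc := Subgroup.isMulCommutative_closure (k := S.phi '' T) (by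
    rintro _ ⟨a, ha, rfl⟩ _ ⟨b, hb, rfl⟩
    exact hT a ha b hb)
  intro a ha b hb
  have h1 : S.phi a ∈ closure (S.phi '' T) := by
    rw [← MonoidHom.map_closure]; exact mem_map_of_mem _ ha
  have h2 : S.phi b ∈ closure (S.phi '' T) := by
    rw [← MonoidHom.map_closure]; exact mem_map_of_mem _ hb
  have := hc.is_comm.comm ⟨_, h1⟩ ⟨_, h2⟩
  exact congrArg Subtype.val this

include S

theorem card_X : Nat.card X = 2 ^ k := S.card

theorem index_two_iff (M : Subgroup X) : M.index = 2 ↔ Nat.card M = 2 ^ (k - 1) := by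
  have h1 := M.card_mul_index
  rw [S.card] at h1
  have h2 : 2 ^ k = 2 ^ (k - 1) * 2 := by rw [← pow_succ]; congr 1; have := S.hk; omega
  rw [h2] at h1
  constructor
  · intro h
    rw [h] at h1
    exact Nat.eq_of_mul_eq_mul_right (by norm_num) h1
  · intro h
    rw [h] at h1
    exact Nat.eq_of_mul_eq_mul_left (by positivity) h1

theorem PP_KK : S.PP S.KK := by
  haveI := S.normalN
  have hk := S.hk
  have hKc : Nat.card S.KK = 2 ^ (k - 2 + 1) := by
    rw [(S.index_two_iff S.KK).mp S.KK_index]; congr 1; omega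
  have hAc : Nat.card (zpowers w) = 2 ^ (k - 2) := by rw [Nat.card_zpowers, S.ord]
  have hne : ¬ S.KK ≤ zpowers w := by
    intro hle
    have := Subgroup.card_le_of_le hle
    rw [hKc, hAc] at this
    have : 2 ^ (k - 2) < 2 ^ (k - 2 + 1) := Nat.pow_lt_pow_right (by norm_num) (by omega)
    omega
  obtain ⟨g₂, hg₂K, hg₂A⟩ := SetLike.not_le_iff_exists.mp hne
  have hcl := closure_insert_eq_of_card (zpowers w) S.KK S.zpowers_le_KK (k - 2) hAc hKc g₂ hg₂K hg₂A
  rw [← hcl]
  apply S.comm_closure
  have hgw := (S.mem_KK g₂).mp hg₂K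
  have hAA : ∀ a ∈ zpowers w, ∀ b ∈ zpowers w, S.phi a * S.phi b = S.phi b * S.phi a := by
    intro a ha b hb
    obtain ⟨i, rfl⟩ := mem_zpowers_iff.mp ha
    obtain ⟨j, rfl⟩ := mem_zpowers_iff.mp hb
    rw [← map_mul, ← map_mul, ← zpow_add, ← zpow_add, add_comm]
  have hgA : ∀ a ∈ zpowers w, S.phi g₂ * S.phi a = S.phi a * S.phi g₂ := by
    intro a ha
    obtain ⟨i, rfl⟩ := mem_zpowers_iff.mp ha
    rw [map_zpow]
    exact (Commute.zpow_right hgw i).eq
  intro a ha b hb
  rcases ha with rfl | ha <;> rcases hb with rfl | hb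
  · rfl
  · exact hgA b hb
  · exact (hgA a ha).symm
  · exact hAA a ha b hb

theorem PP_iff (M : Subgroup X) : S.PP M ↔ ⁅M, M⁆ ≤ zpowers (w ^ 4) := by
  haveI := S.normalN
  rw [Subgroup.commutator_le]
  unfold PP
  refine forall₂_congr fun a _ => forall₂_congr fun b _ => ?_
  rw [← S.phi_eq_one_iff, commutatorElement_def, map_mul, map_mul, map_mul, map_inv, map_inv]
  constructor
  · intro h; rw [h]; group
  · intro h
    calc S.phi a * S.phi b = (S.phi a * S.phi b * (S.phi a)⁻¹ * (S.phi b)⁻¹) * (S.phi b * S.phi a) := by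
          group
      _ = S.phi b * S.phi a := by rw [h, one_mul]

theorem card_N : Nat.card (zpowers (w ^ 4)) = 2 ^ (k - 4) := by
  rw [Nat.card_zpowers, S.ord4]

theorem card_comm : Nat.card (commutator X) = 2 ^ (k - 3) := by
  rw [S.comm, Nat.card_zpowers, S.ord2]

theorem not_PP_top : ¬ S.PP ⊤ := by
  rw [S.PP_iff, ← _root_.commutator_def]
  intro hle
  have := Subgroup.card_le_of_le hle
  rw [S.card_comm, S.card_N] at this
  have : 2 ^ (k - 4) < 2 ^ (k - 3) := Nat.pow_lt_pow_right (by norm_num) (by have := S.hk; omega)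
  omega

/-- maximal subgroups of maximal class are those that are not abelian modulo `⟨w⁴⟩`. -/
theorem MC2_iff_not_PP (M : Subgroup X) (hM : M.index = 2) : MC2 M ↔ ¬ S.PP M := by
  have hk := S.hk
  have hMc := (S.index_two_iff M).mp hM
  have hcm : Nat.card (commutator M) = Nat.card (⁅M, M⁆ : Subgroup X) := by
    rw [← M.map_subtype_commutator, card_map_subtype]
  rw [S.PP_iff]
  constructor
  · rintro ⟨-, h4⟩ hle
    have h1 := (commutator M).card_mul_index
    rw [h4, hMc, hcm] at h1
    have h2 := Subgroup.card_le_of_le hle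
    rw [S.card_N] at h2
    have h3 : 2 ^ (k - 1) = 2 ^ (k - 4) * 8 := by
      have h8 : (8 : ℕ) = 2 ^ 3 := by norm_num
      rw [h8, ← pow_add]; congr 1; omega
    have hpos : 0 < 2 ^ (k - 4) := by positivity
    nlinarith
  · intro hnle
    obtain ⟨h, hh, hhN⟩ := SetLike.not_le_iff_exists.mp hnle
    have hle : (⁅M, M⁆ : Subgroup X) ≤ zpowers (w ^ 2) := by
      rw [← S.comm, _root_.commutator_def]
      exact Subgroup.commutator_mono le_top le_top
    have ho : orderOf (w ^ 2) = 2 ^ (k - 4 + 1) := by rw [S.ord2]; congr 1; omega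
    rw [S.pow42] at hhN
    have heq := zpowers_eq_of_not_mem_sq (k - 4) ho (hle hh) hhN
    have hge : zpowers (w ^ 2) ≤ (⁅M, M⁆ : Subgroup X) := by
      rw [← heq, zpowers_le]; exact hh
    have hE : (⁅M, M⁆ : Subgroup X) = zpowers (w ^ 2) := le_antisymm hle hge
    have hc3 : Nat.card (commutator M) = 2 ^ (k - 3) := by
      rw [hcm, hE, Nat.card_zpowers, S.ord2]
    refine ⟨?_, ?_⟩
    · intro hcyc
      have hcomm : IsMulCommutative M := ⟨⟨fun a b => (IsCyclic.commGroup (α := M)).mul_comm a b⟩⟩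
      have := Cfsg.Agent.Helper9.commutator_eq_bot_of_comm hcomm
      rw [this, Subgroup.card_bot] at hc3
      have : 2 ^ 1 ≤ 2 ^ (k - 3) := Nat.pow_le_pow_right (by norm_num) (by omega)
      omega
    · have h1 := (commutator M).card_mul_index
      rw [hc3, hMc] at h1
      have h3 : 2 ^ (k - 1) = 2 ^ (k - 3) * 4 := by
        have h4 : (4 : ℕ) = 2 ^ 2 := by norm_num
        rw [h4, ← pow_add]; congr 1; omega
      rw [h3] at h1
      exact Nat.eq_of_mul_eq_mul_left (by positivity) h1

end RData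

end Cfsg.Agent.Helper20
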