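import Mathlib
import Cfsg.Agent.Helper20.Kul2H

set_option autoImplicit false
set_option linter.style.haveILetI false
set_option linter.unusedSectionVars false

/-!
# 2-groups: the number of maximal subgroups of maximal class is even (helper20)
-/

namespace Cfsg.Agent.Helper20

open Subgroup
open scoped commutatorElement

universe u

theorem card_subtype_split {α : Type*} [Finite α] (A B : α → Prop) :
    Nat.card {x : α // A x} = Nat.card {x : α // A x ∧ B x} + Nat.card {x : α // A x ∧ ¬ B x} := by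
  classical
  haveI : Fintype α := Fintype.ofFinite α
  rw [Nat.card_eq_fintype_card, Nat.card_eq_fintype_card, Nat.card_eq_fintype_card,
    Fintype.card_subtype, Fintype.card_subtype, Fintype.card_subtype]
  have := Finset.card_filter_add_card_filter_not (s := Finset.univ.filter A) B
  rw [Finset.filter_filter, Finset.filter_filter] at this
  exact this.symm

variable {X : Type u} [Group X] [Finite X]

namespace RData

variable {k : ℕ} {w g₀ : X} (S : RData X k w g₀)

include S

/-- two distinct maximal subgroups abelian modulo `⟨w⁴⟩` determine all of them. -/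
theorem PP_iff_of_two (M₁ M₂ : Subgroup X) (h1 : M₁.index = 2) (h2 : M₂.index = 2)
    (hne : M₁ ≠ M₂) (hP1 : S.PP M₁) (hP2 : S.PP M₂) (M : Subgroup X) (hM : M.index = 2) :
    S.PP M ↔ M₁ ⊓ M₂ ≤ M := by
  haveI := S.normalN
  haveI : Fact (Nat.Prime 2) := ⟨Nat.prime_two⟩
  have hk := S.hk
  have hP : IsPGroup 2 X := IsPGroup.of_card S.card
  have hJi := index_inf_of_index_p hP h1 h2 hne
  have hJc : Nat.card (M₁ ⊓ M₂ : Subgroup X) = 2 ^ (k - 2) := by
    have e1 := (M₁ ⊓ M₂).card_mul_index
    rw [hJi, S.card] at e1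
    have h3 : 2 ^ k = 2 ^ (k - 2) * (2 * 2) := by
      have h4 : (2 * 2 : ℕ) = 2 ^ 2 := by norm_num
      rw [h4, ← pow_add]; congr 1; omega
    rw [h3] at e1
    exact Nat.eq_of_mul_eq_mul_right (by norm_num) e1
  have hco1 := isCoatom_of_index_p (p := 2) h1
  have hco2 := isCoatom_of_index_p (p := 2) h2
  have hsup : M₁ ⊔ M₂ = ⊤ := by
    rcases hco1.le_iff.mp (le_sup_left : M₁ ≤ M₁ ⊔ M₂) with h | h
    · exact h
    · exfalso
      have h4 : M₂ ≤ M₁ := by rw [← h]; exact le_sup_right
      rcases hco2.le_iff.mp h4 with h5 | h5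
      · exact hco1.1 h5
      · exact hne h5
  -- the intersection is central modulo ⟨w⁴⟩
  have hcen : ∀ j ∈ M₁ ⊓ M₂, ∀ g : X, S.phi j * S.phi g = S.phi g * S.phi j := by
    intro j hj g
    have hle : M₁ ⊔ M₂ ≤ (centralizer {S.phi j}).comap S.phi := by
      apply sup_le
      · intro a ha
        rw [mem_comap, mem_centralizer_singleton_iff]
        exact hP1 a ha j hj.1
      · intro a ha
        rw [mem_comap, mem_centralizer_singleton_iff]
        exact hP2 a ha j hj.2
    have hg : g ∈ (centralizer {S.phi j}).comap S.phi := hle (hsup ▸ mem_top g)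
    rw [mem_comap, mem_centralizer_singleton_iff] at hg
    exact hg.symm
  constructor
  · intro hPM
    by_contra hnle
    have hco := isCoatom_of_index_p (p := 2) hM
    have hsup2 : M ⊔ (M₁ ⊓ M₂) = ⊤ := by
      rcases hco.le_iff.mp (le_sup_left : M ≤ M ⊔ (M₁ ⊓ M₂)) with h | h
      · exact h
      · exfalso; apply hnle; rw [← h]; exact le_sup_right
    apply S.not_PP_top
    have hcl : closure ((M : Set X) ∪ ((M₁ ⊓ M₂ : Subgroup X) : Set X)) = ⊤ := by
      rw [Subgroup.closure_union, closure_eq, closure_eq, hsup2]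
    rw [← hcl]
    apply S.comm_closure
    intro a ha b hb
    rcases ha with ha | ha
    · rcases hb with hb | hb
      · exact hPM a ha b hb
      · exact (hcen b hb a).symm
    · exact hcen a ha b
  · intro hle
    have hMc : Nat.card M = 2 ^ (k - 2 + 1) := by
      rw [(S.index_two_iff M).mp hM]; congr 1; omega
    have hne2 : ¬ M ≤ M₁ ⊓ M₂ := by
      intro hle2
      have := Subgroup.card_le_of_le hle2
      rw [hMc, hJc] at this
      have : 2 ^ (k - 2) < 2 ^ (k - 2 + 1) := Nat.pow_lt_pow_right (by norm_num) (by omega)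
      omega
    obtain ⟨g₁, hg₁M, hg₁J⟩ := SetLike.not_le_iff_exists.mp hne2
    have hcl := closure_insert_eq_of_card (M₁ ⊓ M₂) M hle (k - 2) hJc hMc g₁ hg₁M hg₁J
    rw [← hcl]
    apply S.comm_closure
    intro a ha b hb
    rcases ha with rfl | ha
    · rcases hb with rfl | hb
      · rfl
      · exact (hcen b hb a).symm
    · exact hcen a ha b

/-- the number of maximal subgroups that are abelian modulo `⟨w⁴⟩` is odd. -/
theorem odd_card_PP : Odd (Nat.card {M : Subgroup X // M.index = 2 ∧ S.PP M}) := by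
  haveI : Fact (Nat.Prime 2) := ⟨Nat.prime_two⟩
  have hP : IsPGroup 2 X := IsPGroup.of_card S.card
  by_cases hex : ∃ M₂ : Subgroup X, M₂.index = 2 ∧ S.PP M₂ ∧ M₂ ≠ S.KK
  · obtain ⟨M₂, h2, hP2, hne⟩ := hex
    have hJne : S.KK ⊓ M₂ ≠ ⊤ := by
      intro h
      have : S.KK = ⊤ := top_le_iff.mp (h ▸ inf_le_left)
      have hi := S.KK_index
      rw [this, index_top] at hi
      omega
    have h3 := card_index_p_ge_modEq_one hP (S.KK ⊓ M₂) hJne
    have h4 : Nat.card {M : Subgroup X // M.index = 2 ∧ S.PP M} =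
        Nat.card {M : Subgroup X // M.index = 2 ∧ S.KK ⊓ M₂ ≤ M} :=
      Nat.card_congr (Equiv.subtypeEquivRight fun M => by
        constructor
        · rintro ⟨hM, hPM⟩
          exact ⟨hM, (S.PP_iff_of_two S.KK M₂ S.KK_index h2 hne.symm S.PP_KK hP2 M hM).mp hPM⟩
        · rintro ⟨hM, hle⟩
          exact ⟨hM, (S.PP_iff_of_two S.KK M₂ S.KK_index h2 hne.symm S.PP_KK hP2 M hM).mpr hle⟩)
    rw [h4]
    exact Nat.odd_iff.mpr h3
  · push Not at hex
    haveI : Nonempty {M : Subgroup X // M.index = 2 ∧ S.PP M} := ⟨⟨S.KK, S.KK_index, S.PP_KK⟩⟩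
    haveI : Subsingleton {M : Subgroup X // M.index = 2 ∧ S.PP M} :=
      ⟨fun M₁ M₂ => Subtype.ext ((hex M₁.1 M₁.2.1 M₁.2.2).trans (hex M₂.1 M₂.2.1 M₂.2.2).symm)⟩
    rw [Nat.card_unique]
    exact odd_one

/-- the number of maximal subgroups of maximal class is even. -/
theorem even_card_MC2 : Even (Nat.card {M : Subgroup X // M.index = 2 ∧ MC2 M}) := by
  haveI : Fact (Nat.Prime 2) := ⟨Nat.prime_two⟩
  have hP : IsPGroup 2 X := IsPGroup.of_card S.card
  have hnc : ¬ IsCyclic X := by
    intro hc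
    apply S.not_PP_top
    haveI := S.normalN
    intro a _ b _
    rw [← map_mul, ← map_mul, (IsCyclic.commGroup (α := X)).mul_comm a b]
  have hT := card_index_p_modEq hP hnc
  have hsplit := card_subtype_split (fun M : Subgroup X => M.index = 2) (fun M => MC2 M)
  have h2 : Nat.card {M : Subgroup X // M.index = 2 ∧ ¬ MC2 M} =
      Nat.card {M : Subgroup X // M.index = 2 ∧ S.PP M} :=
    Nat.card_congr (Equiv.subtypeEquivRight fun M => by
      constructor
      · rintro ⟨hM, hn⟩
        refine ⟨hM, ?_⟩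
        by_contra hcon
        exact hn ((S.MC2_iff_not_PP M hM).mpr hcon)
      · rintro ⟨hM, hPM⟩
        exact ⟨hM, fun hmc => (S.MC2_iff_not_PP M hM).mp hmc hPM⟩)
  rw [h2] at hsplit
  have hodd := S.odd_card_PP
  have hTodd : Odd (Nat.card {M : Subgroup X // M.index = 2}) := by
    rw [Nat.odd_iff]
    have h4 := hT
    unfold Nat.ModEq at h4
    norm_num at h4
    omega
  rw [hsplit] at hTodd
  by_contra hne
  rw [Nat.not_even_iff_odd] at hne
  have := hne.add_odd hodd
  rw [← Nat.not_odd_iff_even] at this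
  exact this hTodd

end RData

end Cfsg.Agent.Helper20
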