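import Mathlib
import Cfsg.Agent.Helper20.KulI

set_option autoImplicit false
set_option linter.style.haveILetI false
set_option linter.unusedSectionVars false

/-!
# The enumeration recursion modulo `p^2`, two-class form (helper20)
-/

namespace Cfsg.Agent.Helper20

open Subgroup

universe u

/-- If the maximal subgroups of a noncyclic `p`-group fall into two classes, with `≡ 1` resp.
`≡ 1 + p` subgroups of order `p^a`, then the number of subgroups of order `p^a` of the whole
group is determined modulo `p^2` by the size of the first class. -/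
theorem rec_two_class {p : ℕ} [hp : Fact p.Prime] {P : Type u} [Group P] [Finite P] (n : ℕ)
    (hn : Nat.card P = p ^ n) (hnc : ¬ IsCyclic P) (a : ℕ) (han : a + 2 ≤ n)
    (R : Subgroup P → Prop)
    (h1 : ∀ M : Subgroup P, M.index = p → R M →
      Nat.card {K' : Subgroup M // Nat.card K' = p ^ a} ≡ 1 [MOD p ^ 2])
    (h2 : ∀ M : Subgroup P, M.index = p → ¬ R M →
      Nat.card {K' : Subgroup M // Nat.card K' = p ^ a} ≡ 1 + p [MOD p ^ 2]) :
    Nat.card {H : Subgroup P // Nat.card H = p ^ a} + p +
        p * Nat.card {M : Subgroup P // M.index = p ∧ R M} ≡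
      (1 + p) * Nat.card {M : Subgroup P // M.index = p} [MOD p ^ 2] := by
  have hP : IsPGroup p P := IsPGroup.of_card hn
  have hI1 := card_index_p_modEq hP hnc
  classical
  haveI : Fintype (Subgroup P) := Fintype.ofFinite _
  set Ks : Finset (Subgroup P) := Finset.univ.filter (fun K => Nat.card K = p ^ a) with hKs
  set Ms : Finset (Subgroup P) := Finset.univ.filter (fun M => M.index = p) with hMs
  have hMs' : ∀ M : Subgroup P, M ∈ Ms ↔ M.index = p := fun M => by simp [hMs]
  have hKne : ∀ K ∈ Ks, K ≠ ⊤ := by
    intro K hK ht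
    have h1 : Nat.card K = p ^ a := (Finset.mem_filter.mp hK).2
    rw [ht, Subgroup.card_top, hn] at h1
    have := Nat.pow_right_injective hp.out.two_le h1
    omega
  have hE2 := enum_pairs hP Ks Ms hKne hMs'
  have hcK : Nat.card {H : Subgroup P // Nat.card H = p ^ a} = Ks.card := by
    rw [Nat.card_eq_fintype_card, Fintype.card_subtype]
  have hcM : Nat.card {M : Subgroup P // M.index = p} = Ms.card := by
    rw [Nat.card_eq_fintype_card, Fintype.card_subtype]
  have hcount : ∀ D : Subgroup P, (Ks.filter (· ≤ D)).card =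
      Nat.card {K' : Subgroup D // Nat.card K' = p ^ a} := by
    intro D
    rw [← card_order_le_eq D (p ^ a), Nat.card_eq_fintype_card, Fintype.card_subtype]
    congr 1
    ext K
    simp [hKs]
  -- (i) the pairs sum
  have hpairs : ∑ q ∈ Ms.offDiag, (Ks.filter (· ≤ q.1 ⊓ q.2)).card ≡ p [MOD p ^ 2] := by
    have h1 := sum_pairs_modEq hP Ms hMs' (fun D => (Ks.filter (· ≤ D)).card) (by
      intro q hq
      have hq' := Finset.mem_offDiag.mp hq
      have hidx := index_inf_of_index_p hP ((hMs' q.1).mp hq'.1) ((hMs' q.2).mp hq'.2.1)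
        hq'.2.2
      rw [hcount]
      apply card_subgroups_prime_pow_modEq_one p a hp.out
      have e1 := (q.1 ⊓ q.2).card_mul_index
      rw [hidx, hn] at e1
      have hpow2 : p ^ n = p ^ (n - 2) * (p * p) := by
        rw [← pow_two, ← pow_add]; congr 1; omega
      rw [hpow2] at e1
      have hpp : 0 < p * p := Nat.mul_pos hp.out.pos hp.out.pos
      rw [Nat.eq_of_mul_eq_mul_right hpp e1]
      exact pow_dvd_pow p (by omega))
    refine h1.trans ?_
    rw [Finset.offDiag_card]
    apply arith_h hp.out.one_lt
    rw [← hcM]; exact hI1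
  -- (ii) the sum over maximal subgroups
  have hterm : ∀ M ∈ Ms, (Ks.filter (· ≤ M)).card ≡ (if R M then 1 else 1 + p)
      [MOD p ^ 2] := by
    intro M hM
    have hMi := (hMs' M).mp hM
    rw [hcount]
    by_cases hc : R M
    · rw [if_pos hc]; exact h1 M hMi hc
    · rw [if_neg hc]; exact h2 M hMi hc
  have hsum1 := sum_modEq_of_forall Ms _ _ (p ^ 2) hterm
  have hcC : Nat.card {M : Subgroup P // M.index = p ∧ R M} =
      (Ms.filter (fun M : Subgroup P => R M)).card := by
    rw [Nat.card_eq_fintype_card, Fintype.card_subtype]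
    congr 1
    ext M
    simp [hMs]
  have hsum2 : ∑ M ∈ Ms, (if R M then 1 else 1 + p) +
      (Ms.filter (fun M : Subgroup P => R M)).card * p = Ms.card * (1 + p) := by
    have h1 : (Ms.filter (fun M : Subgroup P => R M)).card * p =
        ∑ M ∈ Ms, (if R M then p else 0) := by
      rw [← Finset.sum_filter, Finset.sum_const, smul_eq_mul]
    rw [h1, ← Finset.sum_add_distrib]
    have h2 : ∀ M ∈ Ms, ((if R M then 1 else 1 + p) + (if R M then p else 0)) =
        1 + p := by
      intro M _
      by_cases hc : R M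
      · rw [if_pos hc, if_pos hc]
      · rw [if_neg hc, if_neg hc, add_zero]
    rw [Finset.sum_congr rfl h2, Finset.sum_const, smul_eq_mul]
  rw [hcK, hcC, hcM]
  have hfinal : Ks.card + p ≡ ∑ M ∈ Ms, (if R M then 1 else 1 + p) [MOD p ^ 2] :=
    ((Nat.ModEq.add_left _ hpairs.symm).trans hE2).trans hsum1
  have := Nat.ModEq.add_right ((Ms.filter (fun M : Subgroup P => R M)).card * p) hfinal
  rw [hsum2] at this
  rw [mul_comm p, mul_comm (1 + p)]
  exact this

end Cfsg.Agent.Helper20
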