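import Mathlib
import Cfsg.Agent.Helper20.Kul2I
import Cfsg.Agent.Helper20.Kul2J

set_option autoImplicit false
set_option linter.style.haveILetI false
set_option linter.unusedSectionVars false

/-!
# 2-groups: the number of maximal subgroups of maximal class is even; the count of subgroups
modulo 4 (helper20)
-/

namespace Cfsg.Agent.Helper20

open Subgroup
open scoped commutatorElement

universe u

variable {X : Type u} [Group X] [Finite X]

theorem card_of_index_two (k : ℕ) (hk : 1 ≤ k) (hX : Nat.card X = 2 ^ k) (M : Subgroup X)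
    (hM : M.index = 2) : Nat.card M = 2 ^ (k - 1) := by
  have h1 := M.card_mul_index
  rw [hX, hM] at h1
  have h2 : 2 ^ k = 2 ^ (k - 1) * 2 := by rw [← pow_succ]; congr 1; omega
  rw [h2] at h1
  exact Nat.eq_of_mul_eq_mul_right (by norm_num) h1

/-- the data `RData` exist when a group not of maximal class has a maximal subgroup of maximal
class. -/
theorem exists_RData (k : ℕ) (hk : 4 ≤ k) (hX : Nat.card X = 2 ^ k) (h : RR2 X)
    (M₀ : Subgroup X) (hM₀ : M₀.index = 2) (hMC : MC2 M₀) : ∃ w g₀ : X, RData X k w g₀ := by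
  haveI : Fact (Nat.Prime 2) := ⟨Nat.prime_two⟩
  have hP : IsPGroup 2 X := IsPGroup.of_card hX
  have hM₀c : Nat.card M₀ = 2 ^ (k - 1) := card_of_index_two k (by omega) hX M₀ hM₀
  have hc := Cfsg.Agent.Helper9.maxClass_of_index_commutator_aux (k - 1) (by omega) M₀ hM₀c hMC.2
  obtain ⟨C, hC, hCi⟩ :=
    Cfsg.Agent.Helper9.exists_isCyclic_index_two_of_maxClass_aux (k - 1) (by omega) M₀ hM₀c hc
  obtain ⟨w', S', -⟩ := exists_cycMax (k - 1) (by omega) hM₀c hMC.1 C hC hCi
  have hne : zpowers w' ≠ ⊤ := by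
    intro h
    have := S'.index
    rw [h, index_top] at this
    omega
  obtain ⟨g₀', -, hg₀'⟩ := SetLike.exists_of_lt (lt_top_iff_ne_top.mpr hne)
  have h1 := (index_commutator_eq_four_iff (k - 1) (by omega) hM₀c hMC.1 w' S'.ord g₀' hg₀').mp
    hMC.2
  have h2 := conj_mul_inv_mem_sq (k - 1) (by omega) w' S'.ord S'.normal g₀'
  rw [coe_mem_zpowers_iff] at h1 h2
  have h1' : (g₀' : X) * w' * (g₀' : X)⁻¹ * (w' : X)⁻¹ ∉ zpowers ((w' : X) ^ 4) := by
    simpa using h1
  have h2' : (g₀' : X) * w' * (g₀' : X)⁻¹ * (w' : X)⁻¹ ∈ zpowers ((w' : X) ^ 2) := by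
    simpa using h2
  have hord : orderOf (w' : X) = 2 ^ (k - 2) := by
    rw [Subgroup.orderOf_coe, S'.ord]; congr 1
  refine ⟨(w' : X), (g₀' : X), ⟨hk, hX, hord, ?_, h1'⟩⟩
  set w : X := (w' : X) with hw
  set g₀ : X := (g₀' : X) with hg₀
  have ho2 : orderOf (w ^ 2) = 2 ^ (k - 4 + 1) := by
    rw [orderOf_pow' w (by norm_num), hord]
    have h2 : 2 ^ (k - 2) = 2 ^ (k - 3) * 2 := by rw [← pow_succ]; congr 1; omega
    rw [h2, Nat.gcd_mul_left_left, Nat.mul_div_cancel _ (by norm_num)]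
    congr 1; omega
  have h42 : w ^ 4 = (w ^ 2) ^ 2 := by rw [← pow_mul]
  rw [h42] at h1'
  have heq := zpowers_eq_of_not_mem_sq (k - 4) ho2 h2' h1'
  have hv : g₀ * w * g₀⁻¹ * w⁻¹ ∈ commutator X := by
    have : g₀ * w * g₀⁻¹ * w⁻¹ = ⁅g₀, w⁆ := rfl
    rw [this]
    exact Subgroup.commutator_mem_commutator (mem_top g₀) (mem_top w)
  have hle : zpowers (w ^ 2) ≤ commutator X := by
    rw [← heq, zpowers_le]; exact hv
  have hi2 : (zpowers (w ^ 2)).index = 8 := by
    have e1 := (zpowers (w ^ 2)).card_mul_index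
    rw [Nat.card_zpowers, ho2, hX] at e1
    have h3 : 2 ^ k = 2 ^ (k - 4 + 1) * 8 := by
      have h8 : (8 : ℕ) = 2 ^ 3 := by norm_num
      rw [h8, ← pow_add]; congr 1; omega
    rw [h3] at e1
    exact Nat.eq_of_mul_eq_mul_left (by positivity) e1
  have hd := index_dvd_of_le hle
  rw [hi2] at hd
  obtain ⟨t, ht⟩ := four_dvd_index_commutator hP h.1
  have hi8 : (commutator X).index = 8 := by
    have hne4 := h.2
    rw [ht] at hd hne4 ⊢
    have h5 : t ∣ 2 := by
      have : 4 * t ∣ 4 * 2 := hd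
      exact Nat.dvd_of_mul_dvd_mul_left (by norm_num) this
    have h6 : t ≤ 2 := Nat.le_of_dvd (by norm_num) h5
    have h7 : t ≠ 0 := by rintro rfl; simp at h5
    have h8 : t ≠ 1 := by rintro rfl; exact hne4 rfl
    have : t = 2 := by omega
    rw [this]
  symm
  apply Subgroup.eq_of_le_of_card_ge hle
  have e1 := (commutator X).card_mul_index
  have e2 := (zpowers (w ^ 2)).card_mul_index
  rw [hi8] at e1
  rw [hi2, ← e1] at e2
  exact (Nat.eq_of_mul_eq_mul_right (by norm_num) e2).ge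

/-- the number of maximal subgroups of maximal class of a noncyclic 2-group of order at least 16
is even. -/
theorem even_card_MC2_max (k : ℕ) (hk : 4 ≤ k) (hX : Nat.card X = 2 ^ k) (hnc : ¬ IsCyclic X) :
    Even (Nat.card {M : Subgroup X // M.index = 2 ∧ MC2 M}) := by
  haveI : Fact (Nat.Prime 2) := ⟨Nat.prime_two⟩
  have hP : IsPGroup 2 X := IsPGroup.of_card hX
  by_cases h4 : (commutator X).index = 4
  · have hMC : MC2 X := ⟨hnc, h4⟩
    have hT := card_index_p_modEq hP hnc
    have hTodd : Odd (Nat.card {M : Subgroup X // M.index = 2}) := by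
      rw [Nat.odd_iff]
      have h4 := hT
      unfold Nat.ModEq at h4
      norm_num at h4
      omega
    have hsplit := card_subtype_split (fun M : Subgroup X => M.index = 2) (fun M => IsCyclic M)
    have hc := odd_card_cyclic_max_of_MC2 k (by omega) hX hMC
    have h2 : Nat.card {M : Subgroup X // M.index = 2 ∧ ¬ IsCyclic M} =
        Nat.card {M : Subgroup X // M.index = 2 ∧ MC2 M} :=
      Nat.card_congr (Equiv.subtypeEquivRight fun M => by
        constructor
        · rintro ⟨hM, hn⟩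
          exact ⟨hM, MC2_of_max_of_MC2 k hk hX hMC M hM hn⟩
        · rintro ⟨hM, hmc⟩
          exact ⟨hM, hmc.1⟩)
    rw [h2] at hsplit
    rw [hsplit] at hTodd
    by_contra hne
    rw [Nat.not_even_iff_odd] at hne
    have := hc.add_odd hne
    rw [← Nat.not_odd_iff_even] at this
    exact this hTodd
  · by_cases hex : ∃ M₀ : Subgroup X, M₀.index = 2 ∧ MC2 M₀
    · obtain ⟨M₀, hM₀, hMC⟩ := hex
      obtain ⟨w, g₀, S⟩ := exists_RData k hk hX ⟨hnc, h4⟩ M₀ hM₀ hMC
      exact S.even_card_MC2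
    · haveI : IsEmpty {M : Subgroup X // M.index = 2 ∧ MC2 M} := ⟨fun M => hex ⟨M.1, M.2⟩⟩
      rw [Nat.card_of_isEmpty]
      exact Even.zero

end Cfsg.Agent.Helper20
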