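import Mathlib
import Cfsg.Agent.Helper20.Kul2K

set_option autoImplicit false
set_option linter.style.haveILetI false
set_option linter.unusedSectionVars false

/-!
# 2-groups: the number of subgroups of given order modulo 4 (helper20)
-/

namespace Cfsg.Agent.Helper20

open Subgroup

universe u

theorem card_index_two_eq {Y : Type u} [Group Y] [Finite Y] (j a : ℕ) (hY : Nat.card Y = 2 ^ j)
    (haj : a + 1 = j) :
    Nat.card {K : Subgroup Y // Nat.card K = 2 ^ a} = Nat.card {K : Subgroup Y // K.index = 2} :=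
  Nat.card_congr (Equiv.subtypeEquivRight fun K => by
    have h1 := K.card_mul_index
    rw [hY] at h1
    have h2 : 2 ^ j = 2 ^ a * 2 := by rw [← pow_succ, haj]
    rw [h2] at h1
    constructor
    · intro h
      rw [h] at h1
      exact Nat.eq_of_mul_eq_mul_left (by positivity) h1
    · intro h
      rw [h] at h1
      exact Nat.eq_of_mul_eq_mul_right (by norm_num) h1)

theorem card_index_two_mod_four {Y : Type u} [Group Y] [Finite Y] (j : ℕ) (hY : Nat.card Y = 2 ^ j)
    (hnc : ¬ IsCyclic Y) : Nat.card {K : Subgroup Y // K.index = 2} ≡ 3 [MOD 4] := by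
  haveI : Fact (Nat.Prime 2) := ⟨Nat.prime_two⟩
  have hP : IsPGroup 2 Y := IsPGroup.of_card hY
  exact card_index_p_modEq hP hnc

/-- the main induction. -/
theorem two_main : ∀ (N : ℕ) (X : Type u) [Group X] [Finite X], Nat.card X = N →
    ∀ k : ℕ, Nat.card X = 2 ^ k →
    (MC2 X → ∀ a, 1 ≤ a → a + 2 ≤ k →
      Nat.card {H : Subgroup X // Nat.card H = 2 ^ a} ≡ 1 [MOD 4]) ∧
    (RR2 X → ∀ a, 1 ≤ a → a + 1 ≤ k →
      Nat.card {H : Subgroup X // Nat.card H = 2 ^ a} ≡ 3 [MOD 4]) := by
  intro N
  induction N using Nat.strong_induction_on with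
  | _ N ih =>
    intro X _ _ hN k hk
    haveI : Fact (Nat.Prime 2) := ⟨Nat.prime_two⟩
    -- the key congruence
    have hkey : ¬ IsCyclic X → ∀ a, 1 ≤ a → a + 2 ≤ k →
        (Nat.card {H : Subgroup X // Nat.card H = 2 ^ a} + 2 +
          2 * Nat.card {M : Subgroup X // M.index = 2 ∧ IsCyclic M}) % 4 = 1 := by
      intro hnc a ha1 hak
      have hMcard : ∀ M : Subgroup X, M.index = 2 → Nat.card M = 2 ^ (k - 1) := fun M hM =>
        card_of_index_two k (by omega) hk M hM
      have hlt : ∀ M : Subgroup X, M.index = 2 → Nat.card M < N := by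
        intro M hM
        rw [hMcard M hM, ← hN, hk]
        exact Nat.pow_lt_pow_right (by norm_num) (by omega)
      have hrec := rec_two_class (p := 2) k hk hnc a hak
        (fun M => IsCyclic M ∨ (MC2 M ∧ a + 3 ≤ k))
        (by
          intro M hM hR
          rcases hR with hc | ⟨hmc, ha3⟩
          · haveI := hc
            rw [card_subgroups_cyclic 2 a (by rw [hMcard M hM]; exact pow_dvd_pow 2 (by omega))]
          · exact (ih _ (hlt M hM) M rfl (k - 1) (hMcard M hM)).1 hmc a ha1 (by omega))
        (by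
          intro M hM hR
          push Not at hR
          obtain ⟨hnc', hR2⟩ := hR
          by_cases hmc : (commutator M).index = 4
          · have ha3 : k < a + 3 := hR2 ⟨hnc', hmc⟩
            rw [card_index_two_eq (k - 1) a (hMcard M hM) (by omega)]
            exact card_index_two_mod_four (k - 1) (hMcard M hM) hnc'
          · exact (ih _ (hlt M hM) M rfl (k - 1) (hMcard M hM)).2 ⟨hnc', hmc⟩ a ha1 (by omega))
      -- the size of the first class
      have hsplit := card_subtype_split
        (fun M : Subgroup X => M.index = 2 ∧ (IsCyclic M ∨ (MC2 M ∧ a + 3 ≤ k)))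
        (fun M => IsCyclic M)
      have e1 : Nat.card {M : Subgroup X //
          (M.index = 2 ∧ (IsCyclic M ∨ (MC2 M ∧ a + 3 ≤ k))) ∧ IsCyclic M} =
          Nat.card {M : Subgroup X // M.index = 2 ∧ IsCyclic M} :=
        Nat.card_congr (Equiv.subtypeEquivRight fun M => by tauto)
      have e2 : Nat.card {M : Subgroup X //
          (M.index = 2 ∧ (IsCyclic M ∨ (MC2 M ∧ a + 3 ≤ k))) ∧ ¬ IsCyclic M} =
          Nat.card {M : Subgroup X // M.index = 2 ∧ (MC2 M ∧ a + 3 ≤ k)} :=
        Nat.card_congr (Equiv.subtypeEquivRight fun M => by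
          constructor
          · rintro ⟨⟨hM, hR⟩, hn⟩
            rcases hR with hc | hR
            · exact absurd hc hn
            · exact ⟨hM, hR⟩
          · rintro ⟨hM, hR⟩
            exact ⟨⟨hM, Or.inr hR⟩, hR.1.1⟩)
      rw [e1, e2] at hsplit
      have hm' : Even (Nat.card {M : Subgroup X // M.index = 2 ∧ (MC2 M ∧ a + 3 ≤ k)}) := by
        by_cases ha3 : a + 3 ≤ k
        · have e3 : Nat.card {M : Subgroup X // M.index = 2 ∧ (MC2 M ∧ a + 3 ≤ k)} =
              Nat.card {M : Subgroup X // M.index = 2 ∧ MC2 M} :=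
            Nat.card_congr (Equiv.subtypeEquivRight fun M => by tauto)
          rw [e3]
          exact even_card_MC2_max k (by omega) hk hnc
        · haveI : IsEmpty {M : Subgroup X // M.index = 2 ∧ (MC2 M ∧ a + 3 ≤ k)} :=
            ⟨fun M => ha3 M.2.2.2⟩
          rw [Nat.card_of_isEmpty]
          exact Even.zero
      have hT := card_index_two_mod_four k hk hnc
      rw [hsplit] at hrec
      obtain ⟨m'', hm''⟩ := hm'
      rw [hm''] at hrec
      unfold Nat.ModEq at hrec hT
      norm_num at hrec hT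
      omega
    refine ⟨?_, ?_⟩
    · intro hMC a ha1 hak
      have h1 := hkey hMC.1 a ha1 hak
      obtain ⟨c', hc'⟩ := odd_card_cyclic_max_of_MC2 k (by omega) hk hMC
      rw [hc'] at h1
      unfold Nat.ModEq
      omega
    · intro hRR a ha1 hak
      by_cases hak2 : a + 2 ≤ k
      · have h1 := hkey hRR.1 a ha1 hak2
        obtain ⟨c', hc'⟩ := even_card_cyclic_max_of_RR2 k (by omega) hk hRR
        rw [hc'] at h1
        unfold Nat.ModEq
        omega
      · rw [card_index_two_eq k a hk (by omega)]
        exact card_index_two_mod_four k hk hRR.1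

/-- **Kulakoff–Hall for `p = 2`**: a 2-group of order `2^k`, `k ≥ 3`, which is neither cyclic nor of
maximal class has `≡ 3 mod 4` subgroups of each order `2^a`, `1 ≤ a < k`. -/
theorem kulakoff_two {X : Type u} [Group X] [Finite X] (k : ℕ) (hk : Nat.card X = 2 ^ k)
    (hnc : ¬ IsCyclic X) (h4 : (commutator X).index ≠ 4) (a : ℕ) (ha1 : 1 ≤ a) (hak : a + 1 ≤ k) :
    Nat.card {H : Subgroup X // Nat.card H = 2 ^ a} ≡ 3 [MOD 4] :=
  (two_main (Nat.card X) X rfl k hk).2 ⟨hnc, h4⟩ a ha1 hak

end Cfsg.Agent.Helper20
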