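import Mathlib
import Cfsg.Agent.Helper20.KulE
import Cfsg.Agent.Helper20.EqOrdA

set_option autoImplicit false

/-!
# The conjugation action on pairs and the divisibility of `|TT|` (helper20)
-/

namespace Cfsg.Agent.Helper20

open Subgroup
open scoped Pointwise

variable {G : Type*} [Group G]

/-- `G` acts on `TT G a m` by conjugation. -/
instance TT.instMulAction (a m : ℕ) : MulAction G (TT G a m) where
  smul g t := ⟨(g * t.1.1 * g⁻¹, MulAut.conj g • t.1.2), by
    refine ⟨?_, ?_, ?_, ?_⟩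
    · show orderOf (g * t.1.1 * g⁻¹) = m
      rw [← MulAut.conj_apply, MulEquiv.orderOf_eq]; exact t.2.1
    · show MulAut.conj g • t.1.2 ≤ centralizer {g * t.1.1 * g⁻¹}
      intro w hw
      obtain ⟨c, hc, rfl⟩ := (Subgroup.mem_smul_pointwise_iff_exists _ _ _).mp hw
      have h1 := t.2.2.1 hc
      rw [mem_centralizer_singleton_iff] at h1 ⊢
      rw [MulAut.smul_def, MulAut.conj_apply]
      calc g * c * g⁻¹ * (g * t.1.1 * g⁻¹) = g * (c * t.1.1) * g⁻¹ := by group
        _ = g * (t.1.1 * c) * g⁻¹ := by rw [h1]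
        _ = g * t.1.1 * g⁻¹ * (g * c * g⁻¹) := by group
    · show IsCyclic (MulAut.conj g • t.1.2 : Subgroup G)
      haveI : IsCyclic t.1.2 := t.2.2.2.1
      have e := Subgroup.equivSMul (MulAut.conj g) t.1.2
      exact isCyclic_of_surjective e.toMonoidHom e.surjective
    · show Nat.card (MulAut.conj g • t.1.2 : Subgroup G) = a
      rw [card_conj_smul]; exact t.2.2.2.2⟩
  one_smul t := by
    apply Subtype.ext
    show ((1 : G) * t.1.1 * (1 : G)⁻¹, MulAut.conj (1 : G) • t.1.2) = t.1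
    rw [map_one, one_smul, one_mul, inv_one, mul_one]
  mul_smul g h t := by
    apply Subtype.ext
    show ((g * h) * t.1.1 * (g * h)⁻¹, MulAut.conj (g * h) • t.1.2) =
      (g * (h * t.1.1 * h⁻¹) * g⁻¹, MulAut.conj g • (MulAut.conj h • t.1.2))
    rw [map_mul, mul_smul]
    refine Prod.ext ?_ rfl
    show (g * h) * t.1.1 * (g * h)⁻¹ = g * (h * t.1.1 * h⁻¹) * g⁻¹
    group

theorem TT.smul_fst (a m : ℕ) (g : G) (t : TT G a m) : (g • t).1.1 = g * t.1.1 * g⁻¹ := rfl

theorem TT.smul_snd (a m : ℕ) (g : G) (t : TT G a m) : (g • t).1.2 = MulAut.conj g • t.1.2 := rfl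

variable {p : ℕ} [hp : Fact p.Prime]

/-- the "good" pairs: `C ≤ P` and `y` centralizes `P`. -/
def T0 (P : Sylow p G) (a m : ℕ) (t : TT G a m) : Prop :=
  t.1.2 ≤ (P : Subgroup G) ∧ ∀ u ∈ (P : Subgroup G), u * t.1.1 * u⁻¹ = t.1.1

theorem T0_of_smul (P : Sylow p G) (a m : ℕ) (u : G) (hu : u ∈ (P : Subgroup G)) (t : TT G a m)
    (h : T0 P a m (u • t)) : T0 P a m t := by
  obtain ⟨h1, h2⟩ := h
  rw [TT.smul_snd] at h1
  refine ⟨?_, ?_⟩
  · intro c hc
    have h3 : MulAut.conj u • c ∈ MulAut.conj u • t.1.2 := Subgroup.smul_mem_pointwise_smul _ _ _ hc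
    have h4 := h1 h3
    rw [MulAut.smul_def, MulAut.conj_apply] at h4
    have h5 : u⁻¹ * (u * c * u⁻¹) * u ∈ (P : Subgroup G) :=
      mul_mem (mul_mem (inv_mem hu) h4) hu
    have h6 : u⁻¹ * (u * c * u⁻¹) * u = c := by group
    rwa [h6] at h5
  · intro v hv
    have h3 := h2 (u * v * u⁻¹) (mul_mem (mul_mem hu hv) (inv_mem hu))
    rw [TT.smul_fst] at h3
    have h4 : u * v * u⁻¹ * (u * t.1.1 * u⁻¹) * (u * v * u⁻¹)⁻¹ = u * (v * t.1.1 * v⁻¹) * u⁻¹ := by
      group
    rw [h4] at h3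
    have h5 := mul_left_cancel (mul_right_cancel h3)
    exact h5

/-- the complement of the good pairs as a sub-action of `P`. -/
def T0compl (P : Sylow p G) (a m : ℕ) : SubMulAction (P : Subgroup G) (TT G a m) where
  carrier := {t | ¬ T0 P a m t}
  smul_mem' := by
    intro u t ht hcon
    apply ht
    exact T0_of_smul P a m (u : G) u.2 t hcon

theorem T0_of_fixed [Finite G] (P : Sylow p G) (s m : ℕ) (t : TT G (p ^ s) m)
    (hfix : ∀ u ∈ (P : Subgroup G), u • t = t) : T0 P (p ^ s) m t := by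
  refine ⟨?_, ?_⟩
  · have hC : IsPGroup p t.1.2 := IsPGroup.of_card t.2.2.2.2
    have hnorm : (P : Subgroup G) ≤ normalizer (t.1.2 : Set G) := by
      intro u hu
      rw [mem_normalizer_iff_conj_smul_eq]
      have := congrArg (fun t : TT G (p ^ s) m => t.1.2) (hfix u hu)
      simpa only [TT.smul_snd] using this
    have hsup : IsPGroup p (↥((P : Subgroup G) ⊔ t.1.2)) :=
      IsPGroup.to_sup_of_normal_right' P.isPGroup' hC hnorm
    have := P.is_maximal' hsup le_sup_left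
    rw [← this]
    exact le_sup_right
  · intro u hu
    have := congrArg (fun t : TT G (p ^ s) m => t.1.1) (hfix u hu)
    simpa only [TT.smul_fst] using this

theorem dvd_card_T0compl [Finite G] (P : Sylow p G) (s m : ℕ) :
    p ∣ Nat.card {t : TT G (p ^ s) m // ¬ T0 P (p ^ s) m t} := by
  have h1 := IsPGroup.card_modEq_card_fixedPoints (p := p) (G := (P : Subgroup G)) P.isPGroup'
    (T0compl P (p ^ s) m)
  haveI : IsEmpty (MulAction.fixedPoints (P : Subgroup G) (T0compl P (p ^ s) m)) := by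
    refine ⟨fun t => ?_⟩
    obtain ⟨⟨t, ht⟩, hfix⟩ := t
    apply ht
    apply T0_of_fixed P s m t
    intro u hu
    have := hfix ⟨u, hu⟩
    exact congrArg Subtype.val this
  have h0 : Nat.card (MulAction.fixedPoints (P : Subgroup G) (T0compl P (p ^ s) m)) = 0 :=
    Nat.card_of_isEmpty
  rw [h0] at h1
  have h2 : Nat.card (T0compl P (p ^ s) m) =
      Nat.card {t : TT G (p ^ s) m // ¬ T0 P (p ^ s) m t} := rfl
  rw [← h2]
  exact (Nat.modEq_zero_iff_dvd).mp h1

/-- the good pairs are a product. -/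
def T0Equiv (P : Sylow p G) (a m : ℕ) :
    {t : TT G a m // T0 P a m t} ≃
      {y : G // orderOf y = m ∧ ∀ u ∈ (P : Subgroup G), u * y * u⁻¹ = y} ×
      {K : Subgroup G // (IsCyclic K ∧ Nat.card K = a) ∧ K ≤ (P : Subgroup G)} where
  toFun t := (⟨t.1.1.1, t.1.2.1, t.2.2⟩, ⟨t.1.1.2, ⟨t.1.2.2.2.1, t.1.2.2.2.2⟩, t.2.1⟩)
  invFun q := ⟨⟨(q.1.1, q.2.1), q.1.2.1, by
      intro c hc
      rw [mem_centralizer_singleton_iff]
      have h1 := q.1.2.2 c (q.2.2.2 hc)
      calc c * q.1.1 = (c * q.1.1 * c⁻¹) * c := by group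
        _ = q.1.1 * c := by rw [h1], q.2.2.1.1, q.2.2.1.2⟩, q.2.2.2, q.1.2.2⟩
  left_inv t := rfl
  right_inv q := rfl

theorem dvd_card_TT [Finite G] (hodd : p ≠ 2) (P : Sylow p G)
    (hnc : ¬ IsCyclic ↥(P : Subgroup G)) (s m : ℕ) (hs : 2 ≤ s) :
    p ∣ Nat.card (TT G (p ^ s) m) := by
  classical
  have e := Equiv.sumCompl (fun t : TT G (p ^ s) m => T0 P (p ^ s) m t)
  rw [← Nat.card_congr e, Nat.card_sum]
  refine dvd_add ?_ (dvd_card_T0compl P s m)
  rw [Nat.card_congr (T0Equiv P (p ^ s) m), Nat.card_prod]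
  refine dvd_mul_of_dvd_right ?_ _
  rw [card_cyclic_le_eq]
  exact miller hodd s hs P.isPGroup' hnc

end Cfsg.Agent.Helper20
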