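import Mathlib
import Cfsg.Agent.Helper20.FrobA
import Cfsg.Agent.Helper20.EqOrdC

set_option autoImplicit false

/-!
# A `p`-subgroup acting by conjugation on a stable family of subgroups (helper20)
-/

namespace Cfsg.Agent.Helper20

open Subgroup
open scoped Pointwise

variable {G : Type*} [Group G]

/-- the conjugation action of `Q` on a `Q`-stable family of subgroups. -/
def famAction (Q : Subgroup G) (F : Subgroup G → Prop)
    (hst : ∀ u ∈ Q, ∀ H, F H → F (MulAut.conj u • H)) : MulAction Q {H : Subgroup G // F H} where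
  smul u H := ⟨MulAut.conj (u : G) • H.1, hst u u.2 H.1 H.2⟩
  one_smul H := Subtype.ext (by
    show MulAut.conj ((1 : Q) : G) • H.1 = H.1
    rw [Subgroup.coe_one, map_one, one_smul])
  mul_smul u v H := Subtype.ext (by
    show MulAut.conj ((u * v : Q) : G) • H.1 = MulAut.conj (u : G) • (MulAut.conj (v : G) • H.1)
    rw [Subgroup.coe_mul, map_mul, mul_smul])

variable {p : ℕ} [hp : Fact p.Prime]

/-- fixed points: counting modulo `p`. -/
theorem card_family_modEq_normalized [Finite G] (Q : Subgroup G) (hQ : IsPGroup p Q)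
    (F : Subgroup G → Prop) (hst : ∀ u ∈ Q, ∀ H, F H → F (MulAut.conj u • H)) :
    Nat.card {H : Subgroup G // F H} ≡
      Nat.card {H : Subgroup G // F H ∧ Q ≤ normalizer (H : Set G)} [MOD p] := by
  letI := famAction Q F hst
  have h1 := hQ.card_modEq_card_fixedPoints {H : Subgroup G // F H}
  refine h1.trans ?_
  suffices h : Nat.card (MulAction.fixedPoints Q {H : Subgroup G // F H}) =
      Nat.card {H : Subgroup G // F H ∧ Q ≤ normalizer (H : Set G)} by rw [h]
  refine Nat.card_congr
    { toFun := fun H => ⟨H.1.1, H.1.2, fun u hu => ?_⟩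
      invFun := fun H => ⟨⟨H.1, H.2.1⟩, fun u => ?_⟩
      left_inv := fun H => rfl
      right_inv := fun H => rfl }
  · rw [mem_normalizer_iff_conj_smul_eq]
    have := H.2 ⟨u, hu⟩
    exact congrArg Subtype.val this
  · apply Subtype.ext
    show MulAut.conj (u : G) • H.1 = H.1
    exact conj_smul_eq_of_mem_normalizer (H.2.2 u.2)

/-- orbits of size `≥ p^2` do not count modulo `p^2`. -/
theorem card_family_modEq_sq [Finite G] (Q : Subgroup G) (k : ℕ) (hQ : Nat.card Q = p ^ (k + 1))
    (F : Subgroup G → Prop) (hst : ∀ u ∈ Q, ∀ H, F H → F (MulAut.conj u • H)) :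
    Nat.card {H : Subgroup G // F H} ≡
      Nat.card {H : Subgroup G // F H ∧
        p ^ k ∣ Nat.card (normalizer (H : Set G) ⊓ Q : Subgroup G)} [MOD p ^ 2] := by
  classical
  letI := famAction Q F hst
  haveI : Fintype {H : Subgroup G // F H} := Fintype.ofFinite _
  have hQp : IsPGroup p Q := IsPGroup.of_card hQ
  -- orbit size times normalizer order
  have horb : ∀ H : {H : Subgroup G // F H}, Nat.card (MulAction.orbit Q H) *
      Nat.card (normalizer (H.1 : Set G) ⊓ Q : Subgroup G) = p ^ (k + 1) := by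
    intro H
    rw [Nat.card_coe_set_eq, ← MulAction.index_stabilizer, ← hQ,
      ← (MulAction.stabilizer Q H).card_mul_index, mul_comm]
    congr 1
    have hst' : MulAction.stabilizer Q H = (normalizer (H.1 : Set G) ⊓ Q).subgroupOf Q := by
      ext u
      rw [MulAction.mem_stabilizer_iff, mem_subgroupOf, mem_inf, mem_normalizer_iff_conj_smul_eq]
      constructor
      · intro h
        exact ⟨congrArg Subtype.val h, u.2⟩
      · intro h
        exact Subtype.ext h.1
    rw [hst']
    exact (Nat.card_congr (subgroupOfEquivOfLe (inf_le_right :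
      normalizer (H.1 : Set G) ⊓ Q ≤ Q)).toEquiv).symm
  have hiff : ∀ H : {H : Subgroup G // F H}, ¬ p ^ 2 ∣ Nat.card (MulAction.orbit Q H) ↔
      p ^ k ∣ Nat.card (normalizer (H.1 : Set G) ⊓ Q : Subgroup G) := by
    intro H
    have h1 := horb H
    have hd : Nat.card (MulAction.orbit Q H) ∣ p ^ (k + 1) := Dvd.intro _ h1
    obtain ⟨i, hi, hic⟩ := (Nat.dvd_prime_pow hp.out).mp hd
    rw [hic] at h1 ⊢
    have h2 : p ^ (k + 1) = p ^ i * p ^ (k + 1 - i) := by rw [← pow_add]; congr 1; omega
    rw [h2] at h1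
    have h3 := Nat.eq_of_mul_eq_mul_left (pow_pos hp.out.pos i) h1
    rw [h3, Nat.pow_dvd_pow_iff_le_right hp.out.one_lt, Nat.pow_dvd_pow_iff_le_right hp.out.one_lt]
    omega
  -- the big orbits
  have hdvd := dvd_sum_of_forall_dvd_orbit (G := Q) (X := {H : Subgroup G // F H})
    (fun H => if p ^ 2 ∣ Nat.card (MulAction.orbit Q H) then 1 else 0)
    (fun u H => by simp only [MulAction.orbit_smul]) (p ^ 2) (fun H => by
      by_cases h : p ^ 2 ∣ Nat.card (MulAction.orbit Q H)
      · rw [if_pos h, mul_one]; exact h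
      · rw [if_neg h, mul_zero]; exact dvd_zero _)
  rw [← Finset.sum_filter, Finset.sum_const, smul_eq_mul, mul_one] at hdvd
  have hsplit : Nat.card {H : Subgroup G // F H} =
      (Finset.univ.filter (fun H : {H : Subgroup G // F H} =>
        p ^ 2 ∣ Nat.card (MulAction.orbit Q H))).card +
      Nat.card {H : Subgroup G // F H ∧
        p ^ k ∣ Nat.card (normalizer (H : Set G) ⊓ Q : Subgroup G)} := by
    have e := Equiv.sumCompl (fun H : {H : Subgroup G // F H} =>
      p ^ 2 ∣ Nat.card (MulAction.orbit Q H))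
    rw [← Nat.card_congr e, Nat.card_sum]
    congr 1
    · rw [Nat.card_eq_fintype_card, Fintype.card_subtype]
    · refine Nat.card_congr
        { toFun := fun H => ⟨H.1.1, H.1.2, (hiff H.1).mp H.2⟩
          invFun := fun H => ⟨⟨H.1, H.2.1⟩, (hiff ⟨H.1, H.2.1⟩).mpr H.2.2⟩
          left_inv := fun H => rfl
          right_inv := fun H => rfl }
  rw [hsplit]
  have : (Finset.univ.filter (fun H : {H : Subgroup G // F H} =>
        p ^ 2 ∣ Nat.card (MulAction.orbit Q H))).card +
      Nat.card {H : Subgroup G // F H ∧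
        p ^ k ∣ Nat.card (normalizer (H : Set G) ⊓ Q : Subgroup G)} ≡ 0 +
      Nat.card {H : Subgroup G // F H ∧
        p ^ k ∣ Nat.card (normalizer (H : Set G) ⊓ Q : Subgroup G)} [MOD p ^ 2] :=
    Nat.ModEq.add_right _ ((Nat.modEq_zero_iff_dvd).mpr hdvd)
  rwa [zero_add] at this

end Cfsg.Agent.Helper20
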