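import Mathlib
import Cfsg.Agent.Helper20.KulJ
import Cfsg.Agent.Helper20.KulI
import Cfsg.Agent.Helper20.EqOrdA

set_option autoImplicit false

/-!
# Reduction of the subgroup count modulo `p^2` to a Sylow subgroup (helper20)
-/

namespace Cfsg.Agent.Helper20

open Subgroup
open scoped Pointwise

variable {G : Type*} [Group G] {p : ℕ} [hp : Fact p.Prime]

/-- a `p`-subgroup normalized by a Sylow `p`-subgroup lies in it. -/
theorem le_sylow_of_le_normalizer (P : Sylow p G) {H : Subgroup G} (hH : IsPGroup p H)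
    (hn : (P : Subgroup G) ≤ normalizer (H : Set G)) : H ≤ P := by
  have hsup : IsPGroup p (↥((P : Subgroup G) ⊔ H)) :=
    IsPGroup.to_sup_of_normal_right' P.isPGroup' hH hn
  have := P.is_maximal' hsup le_sup_left
  rw [← this]
  exact le_sup_right

theorem card_sylow_eq [Finite G] (P Q : Sylow p G) :
    Nat.card (Q : Subgroup G) = Nat.card (P : Subgroup G) := by
  rw [Sylow.card_eq_multiplicity, Sylow.card_eq_multiplicity]

variable [Finite G]

omit [Finite G] hp in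
theorem card_mul_relIndex_of_le' {B A : Subgroup G} (h : B ≤ A) :
    Nat.card B * B.relIndex A = Nat.card A := by
  have := relIndex_mul_relIndex (⊥ : Subgroup G) B A bot_le h
  rwa [relIndex_bot_left, relIndex_bot_left] at this

theorem card_normalizer_inf (P : Sylow p G) (k : ℕ) (hP : Nat.card (P : Subgroup G) = p ^ (k + 1))
    {H : Subgroup G} (hH : IsPGroup p H) (hHP : ¬ H ≤ P)
    (hdvd : p ^ k ∣ Nat.card (normalizer (H : Set G) ⊓ P : Subgroup G)) :
    Nat.card (normalizer (H : Set G) ⊓ P : Subgroup G) = p ^ k := by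
  have hd : Nat.card (normalizer (H : Set G) ⊓ P : Subgroup G) ∣ p ^ (k + 1) :=
    hP ▸ Subgroup.card_dvd_of_le inf_le_right
  obtain ⟨j, hj, hjc⟩ := (Nat.dvd_prime_pow hp.out).mp hd
  rw [hjc] at hdvd ⊢
  have hkj : k ≤ j := (Nat.pow_dvd_pow_iff_le_right hp.out.one_lt).mp hdvd
  have hne : j ≠ k + 1 := by
    intro hj1
    apply hHP
    apply le_sylow_of_le_normalizer P hH
    have : normalizer (H : Set G) ⊓ P = P :=
      Subgroup.eq_of_le_of_card_ge inf_le_right (by rw [hP, hjc, hj1])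
    rw [← this]
    exact inf_le_left
  have : j = k := by omega
  rw [this]

theorem sylow_eq_sup (P : Sylow p G) (k : ℕ) (hP : Nat.card (P : Subgroup G) = p ^ (k + 1))
    {H : Subgroup G} (hHP : ¬ H ≤ P)
    (hN : Nat.card (normalizer (H : Set G) ⊓ P : Subgroup G) = p ^ k) (Q : Sylow p G)
    (hNQ : normalizer (H : Set G) ⊓ P ≤ Q) (hHQ : H ≤ Q) :
    (Q : Subgroup G) = (normalizer (H : Set G) ⊓ P) ⊔ H := by
  set N := normalizer (H : Set G) ⊓ (P : Subgroup G) with hNdef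
  have hle : N ⊔ H ≤ Q := sup_le hNQ hHQ
  have hQc : Nat.card (Q : Subgroup G) = p ^ (k + 1) := by rw [card_sylow_eq P Q, hP]
  have hd : Nat.card (N ⊔ H : Subgroup G) ∣ p ^ (k + 1) := hQc ▸ Subgroup.card_dvd_of_le hle
  obtain ⟨i, hi, hic⟩ := (Nat.dvd_prime_pow hp.out).mp hd
  have hd2 : p ^ k ∣ p ^ i := by
    rw [← hN, ← hic]; exact Subgroup.card_dvd_of_le le_sup_left
  have hki : k ≤ i := (Nat.pow_dvd_pow_iff_le_right hp.out.one_lt).mp hd2
  have hne : i ≠ k := by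
    intro hik
    apply hHP
    have : N = N ⊔ H := Subgroup.eq_of_le_of_card_ge le_sup_left (by rw [hic, hik, hN])
    have h2 : H ≤ N := by rw [this]; exact le_sup_right
    exact h2.trans inf_le_right
  have hi1 : i = k + 1 := by omega
  exact (Subgroup.eq_of_le_of_card_ge hle (by rw [hQc, hic, hi1])).symm

/-- the family `X`. -/
def Xfam (P : Sylow p G) (a k : ℕ) (H : Subgroup G) : Prop :=
  (Nat.card H = p ^ a ∧ ¬ H ≤ P) ∧ p ^ k ∣ Nat.card (normalizer (H : Set G) ⊓ P : Subgroup G)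

/-- the family `W(Q)`. -/
def Wfam (P : Sylow p G) (a k : ℕ) (Q : Sylow p G) (H : Subgroup G) : Prop :=
  Nat.card ((P : Subgroup G) ⊓ Q : Subgroup G) = p ^ k ∧ Nat.card H = p ^ a ∧ H ≤ Q ∧
    (Q : Subgroup G) ≤ normalizer (H : Set G) ∧ ¬ H ≤ P

theorem Xfam_of_Wfam (P : Sylow p G) (a k : ℕ) (Q : Sylow p G) (H : Subgroup G)
    (h : Wfam P a k Q H) : Xfam P a k H := by
  obtain ⟨h1, h2, h3, h4, h5⟩ := h
  refine ⟨⟨h2, h5⟩, ?_⟩
  rw [← h1]
  apply Subgroup.card_dvd_of_le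
  exact le_inf (inf_le_right.trans h4) inf_le_left

theorem exists_Wfam (P : Sylow p G) (a k : ℕ) (hP : Nat.card (P : Subgroup G) = p ^ (k + 1))
    (H : Subgroup G) (h : Xfam P a k H) : ∃ Q : Sylow p G, Wfam P a k Q H := by
  obtain ⟨⟨h1, h2⟩, h3⟩ := h
  have hH : IsPGroup p H := IsPGroup.of_card h1
  have hN := card_normalizer_inf P k hP hH h2 h3
  set N := normalizer (H : Set G) ⊓ (P : Subgroup G) with hNdef
  have hNp : IsPGroup p N := IsPGroup.of_card hN
  have hsup : IsPGroup p (↥(N ⊔ H)) := IsPGroup.to_sup_of_normal_right' hNp hH inf_le_left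
  obtain ⟨Q, hQ⟩ := hsup.exists_le_sylow
  have hNQ : N ≤ Q := le_sup_left.trans hQ
  have hHQ : H ≤ Q := le_sup_right.trans hQ
  have hQeq := sylow_eq_sup P k hP h2 hN Q hNQ hHQ
  refine ⟨Q, ?_, h1, hHQ, ?_, h2⟩
  · have hd : Nat.card ((P : Subgroup G) ⊓ Q : Subgroup G) ∣ p ^ (k + 1) :=
      hP ▸ Subgroup.card_dvd_of_le inf_le_left
    obtain ⟨j, hj, hjc⟩ := (Nat.dvd_prime_pow hp.out).mp hd
    have hd2 : p ^ k ∣ p ^ j := by
      rw [← hN, ← hjc]; exact Subgroup.card_dvd_of_le (le_inf inf_le_right hNQ)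
    have hkj : k ≤ j := (Nat.pow_dvd_pow_iff_le_right hp.out.one_lt).mp hd2
    have hne : j ≠ k + 1 := by
      intro hj1
      apply h2
      have : (P : Subgroup G) ⊓ Q = P :=
        Subgroup.eq_of_le_of_card_ge inf_le_left (by rw [hP, hjc, hj1])
      have hPQ : (P : Subgroup G) ≤ Q := by rw [← this]; exact inf_le_right
      have hPQ' : (P : Subgroup G) = Q :=
        Subgroup.eq_of_le_of_card_ge hPQ (by rw [card_sylow_eq P Q])
      rw [hPQ']; exact hHQ
    have : j = k := by omega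
    rw [hjc, this]
  · rw [hQeq]
    exact sup_le inf_le_left le_normalizer

theorem Wfam_unique (P : Sylow p G) (a k : ℕ) (hP : Nat.card (P : Subgroup G) = p ^ (k + 1))
    (H : Subgroup G) (Q Q' : Sylow p G) (h : Wfam P a k Q H) (h' : Wfam P a k Q' H) : Q = Q' := by
  have hX := Xfam_of_Wfam P a k Q H h
  obtain ⟨⟨h1, h2⟩, h3⟩ := hX
  have hH : IsPGroup p H := IsPGroup.of_card h1
  have hN := card_normalizer_inf P k hP hH h2 h3
  have key : ∀ Q₁ : Sylow p G, Wfam P a k Q₁ H →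
      (Q₁ : Subgroup G) = (normalizer (H : Set G) ⊓ P) ⊔ H := by
    intro Q₁ hW
    obtain ⟨w1, w2, w3, w4, w5⟩ := hW
    have hle : (P : Subgroup G) ⊓ Q₁ ≤ normalizer (H : Set G) ⊓ P :=
      le_inf (inf_le_right.trans w4) inf_le_left
    have heq : (P : Subgroup G) ⊓ Q₁ = normalizer (H : Set G) ⊓ P :=
      Subgroup.eq_of_le_of_card_ge hle (by rw [hN, w1])
    have hNQ : normalizer (H : Set G) ⊓ P ≤ Q₁ := by rw [← heq]; exact inf_le_right
    exact sylow_eq_sup P k hP h2 hN Q₁ hNQ w3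
  apply Sylow.ext
  rw [key Q h, key Q' h']

/-- `X` is the disjoint union of the `W(Q)`. -/
theorem card_Xfam_eq_sum (P : Sylow p G) (a k : ℕ) (hP : Nat.card (P : Subgroup G) = p ^ (k + 1))
    [Fintype (Sylow p G)] :
    Nat.card {H : Subgroup G // Xfam P a k H} =
      ∑ Q : Sylow p G, Nat.card {H : Subgroup G // Wfam P a k Q H} := by
  rw [← Nat.card_sigma]
  symm
  refine Nat.card_congr (Equiv.ofBijective
    (fun x : (Σ Q : Sylow p G, {H : Subgroup G // Wfam P a k Q H}) =>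
      (⟨x.2.1, Xfam_of_Wfam P a k x.1 x.2.1 x.2.2⟩ : {H : Subgroup G // Xfam P a k H})) ⟨?_, ?_⟩)
  · rintro ⟨Q, H, hW⟩ ⟨Q', H', hW'⟩ h
    have hHH : H = H' := congrArg Subtype.val h
    subst hHH
    have hQQ := Wfam_unique P a k hP H Q Q' hW hW'
    subst hQQ
    rfl
  · rintro ⟨H, hX⟩
    obtain ⟨Q, hQ⟩ := exists_Wfam P a k hP H hX
    exact ⟨⟨Q, H, hQ⟩, rfl⟩

end Cfsg.Agent.Helper20
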