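import Mathlib
import Cfsg.Agent.Helper20.KulK

set_option autoImplicit false

/-!
# Reduction of the subgroup count modulo `p^2` to a Sylow subgroup, part 2 (helper20)
-/

namespace Cfsg.Agent.Helper20

open Subgroup
open scoped Pointwise

variable {G : Type*} [Group G] [Finite G] {p : ℕ} [hp : Fact p.Prime]

omit [Finite G] hp in
theorem Wfam_smul (P : Sylow p G) (a k : ℕ) (u : G) (hu : u ∈ (P : Subgroup G)) (Q : Sylow p G)
    (H : Subgroup G) (h : Wfam P a k Q H) : Wfam P a k (u • Q) (MulAut.conj u • H) := by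
  obtain ⟨h1, h2, h3, h4, h5⟩ := h
  have hPu : MulAut.conj u • (P : Subgroup G) = P :=
    conj_smul_eq_of_mem_normalizer (le_normalizer hu)
  refine ⟨?_, ?_, ?_, ?_, ?_⟩
  · rw [Sylow.coe_subgroup_smul]
    nth_rewrite 1 [← hPu]
    rw [← Subgroup.smul_inf, card_conj_smul, h1]
  · rw [card_conj_smul, h2]
  · rw [Sylow.coe_subgroup_smul]
    exact pointwise_smul_le_pointwise_smul_iff.mpr h3
  · rw [Sylow.coe_subgroup_smul]
    exact conj_smul_le_normalizer u h4
  · intro hle
    apply h5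
    rw [← hPu] at hle
    exact pointwise_smul_le_pointwise_smul_iff.mp hle

theorem card_Wfam_smul (P : Sylow p G) (a k : ℕ) (u : (P : Subgroup G)) (Q : Sylow p G) :
    Nat.card {H : Subgroup G // Wfam P a k (u • Q) H} =
      Nat.card {H : Subgroup G // Wfam P a k Q H} := by
  have key : ∀ (v : (P : Subgroup G)) (Q₁ : Sylow p G),
      Nat.card {H : Subgroup G // Wfam P a k Q₁ H} ≤
        Nat.card {H : Subgroup G // Wfam P a k (v • Q₁) H} := by
    intro v Q₁
    refine Nat.card_le_card_of_injective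
      (fun H => ⟨MulAut.conj (v : G) • H.1, Wfam_smul P a k (v : G) v.2 Q₁ H.1 H.2⟩) ?_
    intro H₁ H₂ h
    have h1 : MulAut.conj (v : G) • H₁.1 = MulAut.conj (v : G) • H₂.1 := congrArg Subtype.val h
    exact Subtype.ext (MulAction.injective (MulAut.conj (v : G)) h1)
  apply le_antisymm
  · have := key u⁻¹ (u • Q)
    rwa [inv_smul_smul] at this
  · exact key u Q

theorem dvd_card_orbit_sylow (P : Sylow p G) (k : ℕ) (hP : Nat.card (P : Subgroup G) = p ^ (k + 1))
    (Q : Sylow p G) (hc : Nat.card ((P : Subgroup G) ⊓ Q : Subgroup G) = p ^ k) :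
    p ∣ Nat.card (MulAction.orbit (P : Subgroup G) Q) := by
  obtain ⟨n, hn⟩ := IsPGroup.card_orbit (p := p) (G := (P : Subgroup G)) P.isPGroup' Q
  rcases Nat.eq_zero_or_pos n with h0 | h0
  · exfalso
    rw [h0, pow_zero] at hn
    have hsub := (Nat.card_eq_one_iff_unique.mp hn).1
    have hfix : ∀ u : (P : Subgroup G), u • Q = Q := by
      intro u
      have := hsub.elim (⟨u • Q, MulAction.mem_orbit Q u⟩ : MulAction.orbit (P : Subgroup G) Q)
        ⟨Q, MulAction.mem_orbit_self Q⟩
      exact congrArg Subtype.val this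
    have hPN : (P : Subgroup G) ≤ normalizer ((Q : Subgroup G) : Set G) := by
      intro u hu
      have := hfix ⟨u, hu⟩
      rw [Subgroup.smul_def] at this
      exact Sylow.smul_eq_iff_mem_normalizer.mp this
    have h1 := IsPGroup.inf_normalizer_sylow P.isPGroup' Q
    have h2 : (P : Subgroup G) ⊓ normalizer ((Q : Subgroup G) : Set G) = P := inf_eq_left.mpr hPN
    have h3 : (P : Subgroup G) ⊓ Q = P := h1.symm.trans h2
    rw [h3, hP] at hc
    have := Nat.pow_right_injective hp.out.two_le hc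
    omega
  · rw [hn]
    exact dvd_pow_self p (by omega)

theorem dvd_card_Wfam (P : Sylow p G) (a k : ℕ) (hak : a ≤ k)
    (hP : Nat.card (P : Subgroup G) = p ^ (k + 1))
    (Q : Sylow p G) (hc : Nat.card ((P : Subgroup G) ⊓ Q : Subgroup G) = p ^ k) :
    p ∣ Nat.card {H : Subgroup G // Wfam P a k Q H} := by
  classical
  set M : Subgroup G := (P : Subgroup G) ⊓ Q with hM
  have hQc : Nat.card (Q : Subgroup G) = p ^ (k + 1) := by rw [card_sylow_eq P Q, hP]
  -- M is normal in Q
  have hQM : (Q : Subgroup G) ≤ normalizer (M : Set G) := by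
    have hri : (M.subgroupOf Q).index = p := by
      have h1 := card_mul_relIndex_of_le' (inf_le_right : M ≤ Q)
      rw [hc, hQc, pow_succ] at h1
      exact Nat.eq_of_mul_eq_mul_left (pow_pos hp.out.pos k) h1
    haveI := normal_of_index_p (p := p) Q.isPGroup' hri
    exact (normal_subgroupOf_iff_le_normalizer (inf_le_right : M ≤ Q)).mp inferInstance
  let F₁ : Subgroup G → Prop := fun H => Nat.card H = p ^ a ∧ H ≤ Q ∧ ¬ H ≤ P
  have hst : ∀ u ∈ (Q : Subgroup G), ∀ H, F₁ H → F₁ (MulAut.conj u • H) := by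
    intro u hu H ⟨h1, h2, h3⟩
    have hQu : MulAut.conj u • (Q : Subgroup G) = Q :=
      conj_smul_eq_of_mem_normalizer (le_normalizer hu)
    have hMu : MulAut.conj u • M = M := conj_smul_eq_of_mem_normalizer (hQM hu)
    refine ⟨by rw [card_conj_smul, h1], ?_, ?_⟩
    · rw [← hQu]
      exact pointwise_smul_le_pointwise_smul_iff.mpr h2
    · intro hle
      apply h3
      have h4 : MulAut.conj u • H ≤ MulAut.conj u • (Q : Subgroup G) :=
        pointwise_smul_le_pointwise_smul_iff.mpr h2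
      rw [hQu] at h4
      have h5 : MulAut.conj u • H ≤ M := le_inf hle h4
      rw [← hMu] at h5
      exact (pointwise_smul_le_pointwise_smul_iff.mp h5).trans inf_le_left
  have hFP := card_family_modEq_normalized (p := p) (Q : Subgroup G) Q.isPGroup' F₁ hst
  have e1 : Nat.card {H : Subgroup G // Wfam P a k Q H} =
      Nat.card {H : Subgroup G // F₁ H ∧ (Q : Subgroup G) ≤ normalizer (H : Set G)} :=
    Nat.card_congr (Equiv.subtypeEquivRight fun H => by
      constructor
      · rintro ⟨_, h2, h3, h4, h5⟩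
        exact ⟨⟨h2, h3, h5⟩, h4⟩
      · rintro ⟨⟨h2, h3, h5⟩, h4⟩
        exact ⟨hc, h2, h3, h4, h5⟩)
  rw [e1]
  -- count F₁
  have hQ1 : Nat.card {H : Subgroup G // Nat.card H = p ^ a ∧ H ≤ (Q : Subgroup G)} ≡ 1 [MOD p] := by
    rw [card_order_le_eq]
    exact card_subgroups_prime_pow_modEq_one p a hp.out
      (by rw [hQc]; exact pow_dvd_pow p (by omega))
  have hM1 : Nat.card {H : Subgroup G // Nat.card H = p ^ a ∧ H ≤ M} ≡ 1 [MOD p] := by
    rw [card_order_le_eq]
    exact card_subgroups_prime_pow_modEq_one p a hp.out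
      (by rw [hc]; exact pow_dvd_pow p hak)
  have hsplit : Nat.card {H : Subgroup G // Nat.card H = p ^ a ∧ H ≤ (Q : Subgroup G)} =
      Nat.card {H : Subgroup G // Nat.card H = p ^ a ∧ H ≤ M} +
        Nat.card {H : Subgroup G // F₁ H} := by
    have e := Equiv.sumCompl
      (fun H : {H : Subgroup G // Nat.card H = p ^ a ∧ H ≤ (Q : Subgroup G)} => H.1 ≤ P)
    rw [← Nat.card_congr e, Nat.card_sum]
    congr 1
    · refine Nat.card_congr
        { toFun := fun H => ⟨H.1.1, H.1.2.1, le_inf H.2 H.1.2.2⟩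
          invFun := fun H => ⟨⟨H.1, H.2.1, H.2.2.trans inf_le_right⟩, H.2.2.trans inf_le_left⟩
          left_inv := fun H => rfl
          right_inv := fun H => rfl }
    · refine Nat.card_congr
        { toFun := fun H => ⟨H.1.1, H.1.2.1, H.1.2.2, H.2⟩
          invFun := fun H => ⟨⟨H.1, H.2.1, H.2.2.1⟩, H.2.2.2⟩
          left_inv := fun H => rfl
          right_inv := fun H => rfl }
  rw [hsplit] at hQ1
  have h0 : Nat.card {H : Subgroup G // F₁ H} ≡ 0 [MOD p] := by
    have : Nat.card {H : Subgroup G // Nat.card H = p ^ a ∧ H ≤ M} +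
        Nat.card {H : Subgroup G // F₁ H} ≡
        Nat.card {H : Subgroup G // Nat.card H = p ^ a ∧ H ≤ M} + 0 [MOD p] := by
      rw [add_zero]; exact hQ1.trans hM1.symm
    exact Nat.ModEq.add_left_cancel' _ this
  exact (Nat.modEq_zero_iff_dvd).mp (hFP.symm.trans h0)

theorem sq_dvd_card_Xfam (P : Sylow p G) (a k : ℕ) (hak : a ≤ k)
    (hP : Nat.card (P : Subgroup G) = p ^ (k + 1)) :
    p ^ 2 ∣ Nat.card {H : Subgroup G // Xfam P a k H} := by
  classical
  haveI : Fintype (Sylow p G) := Fintype.ofFinite _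
  rw [card_Xfam_eq_sum P a k hP]
  apply dvd_sum_of_forall_dvd_orbit (G := (P : Subgroup G)) (X := Sylow p G)
    (fun Q => Nat.card {H : Subgroup G // Wfam P a k Q H})
    (fun u Q => card_Wfam_smul P a k u Q) (p ^ 2)
  intro Q
  by_cases hc : Nat.card ((P : Subgroup G) ⊓ Q : Subgroup G) = p ^ k
  · rw [pow_two]
    exact Nat.mul_dvd_mul (dvd_card_orbit_sylow P k hP Q hc) (dvd_card_Wfam P a k hak hP Q hc)
  · haveI : IsEmpty {H : Subgroup G // Wfam P a k Q H} := ⟨fun H => hc H.2.1⟩
    have h0 : Nat.card {H : Subgroup G // Wfam P a k Q H} = 0 := Nat.card_of_isEmpty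
    rw [h0, mul_zero]
    exact dvd_zero _

/-- **reduction to a Sylow subgroup**. -/
theorem card_subgroups_modEq_sylow (P : Sylow p G) (a k : ℕ) (hak : a ≤ k)
    (hP : Nat.card (P : Subgroup G) = p ^ (k + 1)) :
    Nat.card {H : Subgroup G // Nat.card H = p ^ a} ≡
      Nat.card {H : Subgroup (P : Subgroup G) // Nat.card H = p ^ a} [MOD p ^ 2] := by
  classical
  rw [← card_order_le_eq]
  have e := Equiv.sumCompl (fun H : {H : Subgroup G // Nat.card H = p ^ a} => H.1 ≤ P)
  rw [← Nat.card_congr e, Nat.card_sum]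
  have e1 : Nat.card {H : {H : Subgroup G // Nat.card H = p ^ a} // H.1 ≤ P} =
      Nat.card {H : Subgroup G // Nat.card H = p ^ a ∧ H ≤ (P : Subgroup G)} :=
    Nat.card_congr
      { toFun := fun H => ⟨H.1.1, H.1.2, H.2⟩
        invFun := fun H => ⟨⟨H.1, H.2.1⟩, H.2.2⟩
        left_inv := fun H => rfl
        right_inv := fun H => rfl }
  have e2 : Nat.card {H : {H : Subgroup G // Nat.card H = p ^ a} // ¬ H.1 ≤ P} =
      Nat.card {H : Subgroup G // Nat.card H = p ^ a ∧ ¬ H ≤ (P : Subgroup G)} :=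
    Nat.card_congr
      { toFun := fun H => ⟨H.1.1, H.1.2, H.2⟩
        invFun := fun H => ⟨⟨H.1, H.2.1⟩, H.2.2⟩
        left_inv := fun H => rfl
        right_inv := fun H => rfl }
  rw [e1, e2]
  have hOR := card_family_modEq_sq (p := p) (P : Subgroup G) k hP
    (fun H => Nat.card H = p ^ a ∧ ¬ H ≤ (P : Subgroup G)) (by
      intro u hu H ⟨h1, h2⟩
      have hPu : MulAut.conj u • (P : Subgroup G) = P :=
        conj_smul_eq_of_mem_normalizer (le_normalizer hu)
      refine ⟨by rw [card_conj_smul, h1], ?_⟩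
      intro hle
      apply h2
      rw [← hPu] at hle
      exact pointwise_smul_le_pointwise_smul_iff.mp hle)
  have hX := sq_dvd_card_Xfam P a k hak hP
  have h0 : Nat.card {H : Subgroup G // Nat.card H = p ^ a ∧ ¬ H ≤ (P : Subgroup G)} ≡ 0
      [MOD p ^ 2] := hOR.trans ((Nat.modEq_zero_iff_dvd).mpr hX)
  have := Nat.ModEq.add_left
    (Nat.card {H : Subgroup G // Nat.card H = p ^ a ∧ H ≤ (P : Subgroup G)}) h0
  rwa [add_zero] at this

end Cfsg.Agent.Helper20
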