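import Mathlib
import Cfsg.Agent.Helper27.LChDefs

/-!
S0406 pieces Q1/Q2 (driver helper27): parity of the coordinates of a lattice vector and the
sublattice `{v ≡ 0 mod 4, Σ v ≡ 0 mod 8}`.
-/

set_option autoImplicit false

namespace Cfsg.Agent.Helper20.LCh

open Cfsg Matrix
open Cfsg.Agent.Helper27.LCh

variable {L : AddSubgroup (Fin 24 → ℤ)}

theorem parity (hL : Lat L) {v : Fin 24 → ℤ} (hv : v ∈ L) (i j : Fin 24) : (2 : ℤ) ∣ v i - v j := by
  by_cases hij : i = j
  · rw [hij, sub_self]; exact dvd_zero _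
  · have h := hL.int8 v hv _ (hL.e4p i j hij)
    rw [dotProduct_add, dotProduct_single, dotProduct_single] at h
    obtain ⟨k, hk⟩ := h
    exact ⟨k - v j, by linarith⟩

theorem mem_of_four_dvd (hL : Lat L) (v : Fin 24 → ℤ) (h4 : ∀ i, (4 : ℤ) ∣ v i)
    (h8 : (8 : ℤ) ∣ ∑ i, v i) : v ∈ L := by
  choose a ha using h4
  obtain ⟨s, hs⟩ := h8
  have hu : ∀ i : Fin 24, a i • (Pi.single i 4 - Pi.single 0 4 : Fin 24 → ℤ) ∈ L := by
    intro i
    by_cases hi : i = 0
    · subst hi
      rw [sub_self, smul_zero]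
      exact L.zero_mem
    · exact L.zsmul_mem (hL.e4m i 0 hi) _
  have hsum : ∑ i, a i • (Pi.single i 4 - Pi.single 0 4 : Fin 24 → ℤ) ∈ L :=
    L.sum_mem (fun i _ => hu i)
  have h0 : s • (Pi.single 0 8 : Fin 24 → ℤ) ∈ L := L.zsmul_mem (hL.e8 0) _
  have hsa : ∑ i, a i = 2 * s := by
    have h1 : ∑ i, v i = 4 * ∑ i, a i := by
      rw [Finset.mul_sum]
      exact Finset.sum_congr rfl (fun i _ => ha i)
    rw [h1] at hs
    linarith
  have hv : v = ∑ i, a i • (Pi.single i 4 - Pi.single 0 4 : Fin 24 → ℤ) + s • Pi.single 0 8 := by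
    funext k
    simp only [Pi.add_apply, Finset.sum_apply, Pi.smul_apply, Pi.sub_apply, smul_eq_mul,
      Pi.single_apply]
    by_cases hk : k = 0
    · subst hk
      simp only [if_true]
      simp only [mul_sub, Finset.sum_sub_distrib, mul_ite, mul_zero,
        Finset.sum_ite_eq, Finset.mem_univ, if_true, ← Finset.sum_mul]
      rw [hsa, ha 0]
      ring
    · simp only [hk, if_false, sub_zero, mul_zero, add_zero]
      simp only [mul_ite, mul_zero, Finset.sum_ite_eq, Finset.mem_univ, if_true]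
      rw [ha k]
      ring
  rw [hv]
  exact L.add_mem hsum h0

end Cfsg.Agent.Helper20.LCh
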