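import Mathlib

set_option autoImplicit false

/-!
# Marggraf's theorem, part A: Jordan sets (ambient formulation)

`IsJordan G J` : the pointwise stabilizer of the complement of `J` is transitive on `J`.
`FixOn g τ`   : `g` fixes `τ` pointwise.
`TransAt`, `BlockAt`, `PrimAt` : transitivity / blocks / primitivity of the pointwise
stabilizer of `τ` acting on the complement of `τ`, stated inside the ambient set.
-/

namespace Cfsg.Agent.Helper20.Marg

open scoped Pointwise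

variable {G Ω : Type*} [Group G] [MulAction G Ω]

/-- `g` fixes every point of `τ`. -/
def FixOn (g : G) (τ : Set Ω) : Prop := ∀ z ∈ τ, g • z = z

theorem FixOn.one (τ : Set Ω) : FixOn (1 : G) τ := fun z _ => one_smul G z

theorem FixOn.mul {g h : G} {τ : Set Ω} (hg : FixOn g τ) (hh : FixOn h τ) : FixOn (g * h) τ := by
  intro z hz
  rw [mul_smul, hh z hz, hg z hz]

theorem FixOn.inv {g : G} {τ : Set Ω} (hg : FixOn g τ) : FixOn g⁻¹ τ := by
  intro z hz
  rw [inv_smul_eq_iff, hg z hz]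

theorem FixOn.mono {g : G} {τ σ : Set Ω} (hg : FixOn g τ) (h : σ ⊆ τ) : FixOn g σ :=
  fun z hz => hg z (h hz)

theorem FixOn.conj {g h : G} {τ : Set Ω} (hh : FixOn h τ) : FixOn (g * h * g⁻¹) (g • τ) := by
  intro z hz
  obtain ⟨w, hw, rfl⟩ := hz
  rw [mul_smul, mul_smul, inv_smul_smul, hh w hw]

/-- an element fixing `τ` pointwise preserves the complement -/
theorem FixOn.smul_notMem {g : G} {τ : Set Ω} (hg : FixOn g τ) {x : Ω} (hx : x ∉ τ) :
    g • x ∉ τ := by
  intro h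
  have := hg.inv (g • x) h
  rw [inv_smul_smul] at this
  rw [this] at hx
  exact hx h

theorem FixOn.smul_compl {g : G} {τ : Set Ω} (hg : FixOn g τ) : g • τᶜ = τᶜ := by
  ext x
  constructor
  · rintro ⟨y, hy, rfl⟩
    exact hg.smul_notMem hy
  · intro hx
    refine ⟨g⁻¹ • x, hg.inv.smul_notMem hx, ?_⟩
    simp

/-- Jordan set: the pointwise stabilizer of the complement is transitive on the set. -/
def IsJordan (G : Type*) {Ω : Type*} [Group G] [MulAction G Ω] (J : Set Ω) : Prop :=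
  ∀ x ∈ J, ∀ y ∈ J, ∃ h : G, FixOn h Jᶜ ∧ h • x = y

theorem FixOn.smul_mem_of_compl {g : G} {J : Set Ω} (hg : FixOn g Jᶜ) {x : Ω} (hx : x ∈ J) :
    g • x ∈ J := by
  by_contra h
  exact (hg.smul_notMem (τ := Jᶜ) (x := x) (fun h' => h' hx)) h

theorem FixOn.smul_set_of_compl {g : G} {J : Set Ω} (hg : FixOn g Jᶜ) : g • J = J := by
  have := hg.smul_compl
  rwa [compl_compl] at this

theorem IsJordan.smul {J : Set Ω} (hJ : IsJordan G J) (g : G) : IsJordan G (g • J) := by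
  rintro x ⟨x₀, hx₀, rfl⟩ y ⟨y₀, hy₀, rfl⟩
  obtain ⟨h, hh, hxy⟩ := hJ x₀ hx₀ y₀ hy₀
  refine ⟨g * h * g⁻¹, ?_, ?_⟩
  · have := hh.conj (g := g)
    rwa [Set.smul_set_compl] at this
  · simp only [mul_smul, inv_smul_smul, hxy]

theorem IsJordan.union {J₁ J₂ : Set Ω} (h₁ : IsJordan G J₁) (h₂ : IsJordan G J₂)
    (hne : (J₁ ∩ J₂).Nonempty) : IsJordan G (J₁ ∪ J₂) := by
  obtain ⟨c, hc₁, hc₂⟩ := hne
  have hsub₁ : (J₁ ∪ J₂)ᶜ ⊆ J₁ᶜ := Set.compl_subset_compl.mpr Set.subset_union_left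
  have hsub₂ : (J₁ ∪ J₂)ᶜ ⊆ J₂ᶜ := Set.compl_subset_compl.mpr Set.subset_union_right
  -- every point can be moved to `c`
  have key : ∀ x ∈ J₁ ∪ J₂, ∃ h : G, FixOn h (J₁ ∪ J₂)ᶜ ∧ h • x = c := by
    rintro x (hx | hx)
    · obtain ⟨h, hh, hxc⟩ := h₁ x hx c hc₁
      exact ⟨h, hh.mono hsub₁, hxc⟩
    · obtain ⟨h, hh, hxc⟩ := h₂ x hx c hc₂
      exact ⟨h, hh.mono hsub₂, hxc⟩
  intro x hx y hy
  obtain ⟨h, hh, hxc⟩ := key x hx
  obtain ⟨k, hk, hyc⟩ := key y hy
  refine ⟨k⁻¹ * h, hk.inv.mul hh, ?_⟩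
  rw [mul_smul, hxc, inv_smul_eq_iff, hyc]

/-- transitivity of the pointwise stabilizer of `τ` on the complement of `τ` -/
def TransAt (G : Type*) {Ω : Type*} [Group G] [MulAction G Ω] (τ : Set Ω) : Prop :=
  ∀ x, x ∉ τ → ∀ y, y ∉ τ → ∃ g : G, FixOn g τ ∧ g • x = y

/-- `B` is a block for the pointwise stabilizer of `τ` -/
def BlockAt (G : Type*) {Ω : Type*} [Group G] [MulAction G Ω] (τ B : Set Ω) : Prop :=
  ∀ g : G, FixOn g τ → g • B = B ∨ Disjoint (g • B) B

/-- primitivity of the pointwise stabilizer of `τ` on the complement of `τ` -/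
def PrimAt (G : Type*) {Ω : Type*} [Group G] [MulAction G Ω] (τ : Set Ω) : Prop :=
  TransAt G τ ∧ ∀ B : Set Ω, B ⊆ τᶜ → BlockAt G τ B → B.Subsingleton ∨ B = τᶜ

/-- A Jordan set avoiding `τ`: its group fixes `τ`. -/
theorem FixOn.of_jordan {h : G} {J τ : Set Ω} (hh : FixOn h Jᶜ) (hJτ : J ⊆ τᶜ) : FixOn h τ :=
  hh.mono (fun _ hz hzJ => hJτ hzJ hz)

/-- translate of a block by an element fixing `τ` is a block -/
theorem BlockAt.smul {τ B : Set Ω} (hB : BlockAt G τ B) {k : G} (hk : FixOn k τ) :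
    BlockAt G τ (k • B) := by
  intro g hg
  have := hB (k⁻¹ * g * k) ((hk.inv.mul hg).mul hk)
  rcases this with h | h
  · left
    have e : g • k • B = k • ((k⁻¹ * g * k) • B) := by
      simp only [smul_smul]
      congr 1
      group
    rw [e, h]
  · right
    have h2 : Disjoint (k • ((k⁻¹ * g * k) • B)) (k • B) := by
      rwa [Set.disjoint_smul_set]
    have e : k • ((k⁻¹ * g * k) • B) = g • k • B := by
      simp only [smul_smul]
      congr 1
      group
    rwa [e] at h2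

/-- two translates of a block (by elements fixing `τ`) are equal or disjoint -/
theorem BlockAt.eq_or_disjoint {τ B : Set Ω} (hB : BlockAt G τ B) {k k' : G}
    (hk : FixOn k τ) (hk' : FixOn k' τ) : k • B = k' • B ∨ Disjoint (k • B) (k' • B) := by
  rcases hB (k'⁻¹ * k) (hk'.inv.mul hk) with h | h
  · left
    have : k' • ((k'⁻¹ * k) • B) = k' • B := by rw [h]
    rw [← this, smul_smul, mul_inv_cancel_left]
  · right
    have h2 : Disjoint (k' • ((k'⁻¹ * k) • B)) (k' • B) := by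
      rwa [Set.disjoint_smul_set]
    rwa [smul_smul, mul_inv_cancel_left] at h2

end Cfsg.Agent.Helper20.Marg
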