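import Mathlib
import Cfsg.Agent.Helper20.MargA

set_option autoImplicit false

/-!
# Marggraf's theorem, part B: Jordan's theorem in ambient form
-/

namespace Cfsg.Agent.Helper20.Marg

open scoped Pointwise

variable {G Ω : Type*} [Group G] [MulAction G Ω]

theorem ncard_smul_set' [Finite Ω] (g : G) (s : Set Ω) : (g • s).ncard = s.ncard := by
  rw [← Set.image_smul]
  exact Set.ncard_image_of_injective _ (MulAction.injective g)

/-- a nontrivial proper subset of the complement of `τ` which is not a block -/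
theorem exists_not_block {τ : Set Ω} (hP : PrimAt G τ) {A : Set Ω} (hA : A ⊆ τᶜ)
    (hnt : A.Nontrivial) (hne : A ≠ τᶜ) :
    ∃ g : G, FixOn g τ ∧ g • A ≠ A ∧ ¬ Disjoint (g • A) A := by
  by_contra hcon
  push Not at hcon
  have hblock : BlockAt G τ A := by
    intro g hg
    by_cases h : g • A = A
    · exact Or.inl h
    · exact Or.inr (hcon g hg h)
  rcases hP.2 A hA hblock with h | h
  · exact Set.not_subsingleton_iff.mpr hnt h
  · exact hne h

theorem jordan_grow [Finite Ω] {τ : Set Ω} (hP : PrimAt G τ) {J : Set Ω} (hJ : IsJordan G J)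
    (hJτ : J ⊆ τᶜ) (hnt : J.Nontrivial) (h2 : 2 ≤ (τᶜ \ J).ncard) :
    ∃ J' : Set Ω, IsJordan G J' ∧ J' ⊆ τᶜ ∧ J ⊂ J' ∧ J' ≠ τᶜ := by
  classical
  have hfin : ∀ s : Set Ω, s.Finite := fun s => Set.toFinite s
  have hJne : J ≠ τᶜ := by
    intro h
    rw [h, Set.sdiff_self, Set.ncard_empty] at h2
    omega
  -- find a suitable `g`
  have key : ∃ g : G, FixOn g τ ∧ g • J ≠ J ∧ (J ∩ g • J).Nonempty ∧ J ∪ g • J ≠ τᶜ := by
    by_cases hcase : (τᶜ : Set Ω).ncard < 2 * J.ncard
    · -- big Jordan set: use the complement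
      set A : Set Ω := τᶜ \ J with hAdef
      have hAsub : A ⊆ τᶜ := Set.sdiff_subset
      have hAnt : A.Nontrivial := by
        rw [← Set.one_lt_ncard_iff_nontrivial]
        omega
      have hAne : A ≠ τᶜ := by
        intro h
        obtain ⟨x, hx⟩ := hnt.nonempty
        have : x ∈ A := by rw [h]; exact hJτ hx
        exact this.2 hx
      obtain ⟨g, hg, hgA, hgd⟩ := exists_not_block hP hAsub hAnt hAne
      have hgA' : g • A = τᶜ \ g • J := by
        rw [hAdef, Set.smul_set_sdiff, hg.smul_compl]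
      have hgJsub : g • J ⊆ τᶜ := by
        rw [← hg.smul_compl]
        exact Set.smul_set_mono hJτ
      refine ⟨g, hg, ?_, ?_, ?_⟩
      · intro h
        apply hgA
        rw [hgA', h]
      · by_contra hd
        rw [Set.not_nonempty_iff_eq_empty, ← Set.disjoint_iff_inter_eq_empty] at hd
        have h1 : (J ∪ g • J).ncard = J.ncard + (g • J).ncard :=
          Set.ncard_union_eq hd (hfin _) (hfin _)
        have h2' : (J ∪ g • J).ncard ≤ (τᶜ : Set Ω).ncard :=
          Set.ncard_le_ncard (Set.union_subset hJτ hgJsub) (hfin _)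
        rw [ncard_smul_set'] at h1
        omega
      · rw [Set.not_disjoint_iff] at hgd
        obtain ⟨p, hp1, hp2⟩ := hgd
        intro h
        have hp : p ∈ J ∪ g • J := by rw [h]; exact hp2.1
        rcases hp with hp | hp
        · exact hp2.2 hp
        · rw [hgA'] at hp1
          exact hp1.2 hp
    · -- small Jordan set
      push Not at hcase
      obtain ⟨g, hg, hgJ, hgd⟩ := exists_not_block hP hJτ hnt hJne
      have hgJsub : g • J ⊆ τᶜ := by
        rw [← hg.smul_compl]
        exact Set.smul_set_mono hJτ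
      rw [Set.not_disjoint_iff] at hgd
      obtain ⟨p, hp1, hp2⟩ := hgd
      refine ⟨g, hg, hgJ, ⟨p, hp2, hp1⟩, ?_⟩
      intro h
      have h1 : (J ∪ g • J).ncard + (J ∩ g • J).ncard = J.ncard + (g • J).ncard :=
        Set.ncard_union_add_ncard_inter J (g • J) (hfin _) (hfin _)
      have h3 : 0 < (J ∩ g • J).ncard := by
        rw [Set.ncard_pos (hfin _)]
        exact ⟨p, hp2, hp1⟩
      rw [ncard_smul_set', h] at h1
      omega
  obtain ⟨g, hg, hgJ, hint, hun⟩ := key
  have hgJsub : g • J ⊆ τᶜ := by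
    rw [← hg.smul_compl]
    exact Set.smul_set_mono hJτ
  refine ⟨J ∪ g • J, hJ.union (hJ.smul g) hint, Set.union_subset hJτ hgJsub, ?_, hun⟩
  rw [Set.ssubset_iff_subset_ne]
  refine ⟨Set.subset_union_left, ?_⟩
  intro h
  apply hgJ
  have hsub : g • J ⊆ J := by
    intro x hx
    rw [h]; exact Set.mem_union_right _ hx
  exact Set.eq_of_subset_of_ncard_le hsub (by rw [ncard_smul_set']) (hfin _)

theorem exists_jordan_compl_singleton [Finite Ω] {τ : Set Ω} (hP : PrimAt G τ) :
    ∀ (k : ℕ) (J : Set Ω), IsJordan G J → J ⊆ τᶜ → J.Nontrivial → (τᶜ \ J).ncard = k → 1 ≤ k →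
      ∃ (J' : Set Ω) (δ : Ω), IsJordan G J' ∧ δ ∉ τ ∧ J' = τᶜ \ {δ} := by
  classical
  have hfin : ∀ s : Set Ω, s.Finite := fun s => Set.toFinite s
  intro k
  induction k using Nat.strong_induction_on with
  | _ k ih =>
    intro J hJ hJτ hnt hk hk1
    rcases Nat.lt_or_ge k 2 with hlt | hge
    · have hk' : (τᶜ \ J).ncard = 1 := by omega
      rw [Set.ncard_eq_one] at hk'
      obtain ⟨δ, hδ⟩ := hk'
      have hδmem : δ ∈ τᶜ \ J := by rw [hδ]; exact Set.mem_singleton δ
      refine ⟨J, δ, hJ, hδmem.1, ?_⟩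
      ext x
      constructor
      · intro hx
        refine ⟨hJτ hx, ?_⟩
        intro hxδ
        rw [Set.mem_singleton_iff] at hxδ
        rw [hxδ] at hx
        exact hδmem.2 hx
      · rintro ⟨hx1, hx2⟩
        by_contra hxJ
        have : x ∈ τᶜ \ J := ⟨hx1, hxJ⟩
        rw [hδ] at this
        exact hx2 this
    · obtain ⟨J', hJ', hJ'τ, hss, hne⟩ := jordan_grow hP hJ hJτ hnt (by omega)
      have hlt : (τᶜ \ J').ncard < k := by
        rw [← hk]
        apply Set.ncard_lt_ncard _ (hfin _)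
        rw [Set.ssubset_iff_subset_ne]
        refine ⟨Set.sdiff_subset_sdiff_right hss.subset, ?_⟩
        intro h
        obtain ⟨x, hx1, hx2⟩ := Set.exists_of_ssubset hss
        have : x ∈ τᶜ \ J := ⟨hJ'τ hx1, hx2⟩
        rw [← h] at this
        exact this.2 hx1
      have hpos : 1 ≤ (τᶜ \ J').ncard := by
        rw [Nat.one_le_iff_ne_zero, Ne, Set.ncard_eq_zero (hfin _)]
        intro h
        apply hne
        rw [Set.sdiff_eq_empty] at h
        exact Set.Subset.antisymm hJ'τ h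
      exact ih _ hlt J' hJ' hJ'τ (hnt.mono hss.subset) rfl hpos

/-- Jordan's theorem (ambient): primitive + proper nontrivial Jordan set gives transitivity
of one-point-more stabilizers. -/
theorem transAt_insert [Finite Ω] {τ : Set Ω} (hP : PrimAt G τ) {J : Set Ω} (hJ : IsJordan G J)
    (hJτ : J ⊆ τᶜ) (hnt : J.Nontrivial) (hne : J ≠ τᶜ) {δ : Ω} (hδ : δ ∉ τ) :
    TransAt G (insert δ τ) := by
  classical
  have hfin : ∀ s : Set Ω, s.Finite := fun s => Set.toFinite s
  have hpos : 1 ≤ (τᶜ \ J).ncard := by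
    rw [Nat.one_le_iff_ne_zero, Ne, Set.ncard_eq_zero (hfin _)]
    intro h
    apply hne
    rw [Set.sdiff_eq_empty] at h
    exact Set.Subset.antisymm hJτ h
  obtain ⟨J', δ', hJ', hδ', hJ'eq⟩ :=
    exists_jordan_compl_singleton hP _ J hJ hJτ hnt rfl hpos
  have hcompl : J'ᶜ = insert δ' τ := by
    rw [hJ'eq]
    ext x
    simp only [Set.mem_compl_iff, Set.mem_sdiff, Set.mem_singleton_iff, not_and, not_not,
      Set.mem_insert_iff]
    constructor
    · intro h
      by_cases hx : x ∈ τ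
      · exact Or.inr hx
      · exact Or.inl (h hx)
    · rintro (h | h) hx
      · exact h
      · exact absurd h hx
  obtain ⟨k, hk, hkδ⟩ := hP.1 δ' hδ' δ hδ
  intro x hx y hy
  have hx' : k⁻¹ • x ∈ J' := by
    rw [hJ'eq]
    refine ⟨hk.inv.smul_notMem (fun h => hx (Set.mem_insert_of_mem _ h)), ?_⟩
    intro h
    rw [Set.mem_singleton_iff, inv_smul_eq_iff, hkδ] at h
    exact hx (h ▸ Set.mem_insert _ _)
  have hy' : k⁻¹ • y ∈ J' := by
    rw [hJ'eq]
    refine ⟨hk.inv.smul_notMem (fun h => hy (Set.mem_insert_of_mem _ h)), ?_⟩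
    intro h
    rw [Set.mem_singleton_iff, inv_smul_eq_iff, hkδ] at h
    exact hy (h ▸ Set.mem_insert _ _)
  obtain ⟨h, hh, hxy⟩ := hJ' _ hx' _ hy'
  rw [hcompl] at hh
  refine ⟨k * h * k⁻¹, ?_, ?_⟩
  · intro z hz
    rcases hz with rfl | hz
    · rw [mul_smul, mul_smul, ← hkδ, inv_smul_smul, hh δ' (Set.mem_insert _ _)]
    · have h1 := hk.inv z hz
      rw [mul_smul, mul_smul, h1, hh z (Set.mem_insert_of_mem _ hz), hk z hz]
  · rw [mul_smul, mul_smul, hxy, smul_inv_smul]

end Cfsg.Agent.Helper20.Marg
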