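import Mathlib
import Cfsg.Agent.Helper20.MargB

set_option autoImplicit false

/-!
# Marggraf's theorem, part B2: no Jordan set inside a block of a point stabilizer
-/

namespace Cfsg.Agent.Helper20.Marg

open scoped Pointwise

variable {G Ω : Type*} [Group G] [MulAction G Ω]

theorem smul_set_nontrivial {s : Set Ω} (hs : s.Nontrivial) (g : G) : (g • s).Nontrivial := by
  obtain ⟨a, ha, b, hb, hab⟩ := hs
  exact ⟨g • a, Set.smul_mem_smul_set ha, g • b, Set.smul_mem_smul_set hb,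
    fun h => hab (MulAction.injective g h)⟩

/-- A Jordan set through a point of a block, avoiding the fixed set, and not larger than the
block, lies inside the block. -/
theorem jordan_subset_block [Finite Ω] {σ B J : Set Ω} (hB : BlockAt G σ B)
    (hJ : IsJordan G J) (hJσ : J ⊆ σᶜ) {p : Ω} (hpJ : p ∈ J) (hpB : p ∈ B)
    (hcard : J.ncard ≤ B.ncard) : J ⊆ B := by
  classical
  by_cases hsub : B ⊆ J
  · have : B = J := Set.eq_of_subset_of_ncard_le hsub hcard (Set.toFinite _)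
    rw [this]
  · rw [Set.not_subset] at hsub
    obtain ⟨q, hqB, hqJ⟩ := hsub
    intro x hx
    obtain ⟨h, hh, hpx⟩ := hJ p hpJ x hx
    have hhσ : FixOn h σ := hh.of_jordan hJσ
    rcases hB h hhσ with h1 | h1
    · rw [← h1, ← hpx]
      exact Set.smul_mem_smul_set hpB
    · exfalso
      have hq : h • q = q := hh q hqJ
      have : q ∈ h • B := by
        rw [← hq]; exact Set.smul_mem_smul_set hqB
      exact Set.disjoint_left.mp h1 this hqB

theorem no_jordan_in_block_aux [Finite Ω] {τ : Set Ω} (hP : PrimAt G τ) {δ : Ω} (hδ : δ ∉ τ)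
    (hT : TransAt G (insert δ τ)) {B₀ : Set Ω} (hB₀sub : B₀ ⊆ (insert δ τ)ᶜ)
    (hB₀ : BlockAt G (insert δ τ) B₀)
    (hsize : 2 * B₀.ncard ≤ ((insert δ τ)ᶜ : Set Ω).ncard) :
    ∀ (k : ℕ) (J : Set Ω), IsJordan G J → J.Nontrivial → J ⊆ B₀ →
      B₀.ncard - J.ncard = k → False := by
  classical
  have hfin : ∀ s : Set Ω, s.Finite := fun s => Set.toFinite s
  have hτ'sub : ((insert δ τ)ᶜ : Set Ω) ⊆ τᶜ :=
    Set.compl_subset_compl.mpr (Set.subset_insert _ _)
  have hcardτ : ((insert δ τ)ᶜ : Set Ω).ncard + 1 = (τᶜ : Set Ω).ncard := by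
    have : (τᶜ : Set Ω) = insert δ ((insert δ τ)ᶜ) := by
      ext x
      simp only [Set.mem_compl_iff, Set.mem_insert_iff, not_or]
      constructor
      · intro hx
        by_cases hxd : x = δ
        · exact Or.inl hxd
        · exact Or.inr ⟨hxd, hx⟩
      · rintro (rfl | ⟨_, h⟩)
        · exact hδ
        · exact h
    rw [this, Set.ncard_insert_of_notMem (by simp) (hfin _)]
  intro k
  induction k using Nat.strong_induction_on with
  | _ k ih =>
    intro J hJ hnt hJB hk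
    have hJτ' : J ⊆ (insert δ τ)ᶜ := hJB.trans hB₀sub
    have hJτ : J ⊆ τᶜ := hJτ'.trans hτ'sub
    have hJne : J ≠ τᶜ := by
      intro h
      have : δ ∈ J := by rw [h]; exact hδ
      exact hJτ' this (Set.mem_insert _ _)
    obtain ⟨g, hg, hgJ, hgd⟩ := exists_not_block hP hJτ hnt hJne
    rw [Set.not_disjoint_iff] at hgd
    obtain ⟨p, hp1, hp2⟩ := hgd
    have hJB' : J.ncard ≤ B₀.ncard := Set.ncard_le_ncard hJB (hfin _)
    have hgJsub : g • J ⊆ τᶜ := by
      rw [← hg.smul_compl]; exact Set.smul_set_mono hJτ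
    -- a point outside `J ∪ g • J`
    have hex : ∃ ε, ε ∈ (τᶜ : Set Ω) ∧ ε ∉ J ∪ g • J := by
      apply Set.exists_mem_notMem_of_ncard_lt_ncard _ (hfin _)
      have h1 : (J ∪ g • J).ncard + (J ∩ g • J).ncard = J.ncard + (g • J).ncard :=
        Set.ncard_union_add_ncard_inter J (g • J) (hfin _) (hfin _)
      have h3 : 0 < (J ∩ g • J).ncard := by
        rw [Set.ncard_pos (hfin _)]
        exact ⟨p, hp2, hp1⟩
      rw [ncard_smul_set'] at h1
      omega
    obtain ⟨ε, hε, hεJ⟩ := hex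
    obtain ⟨y, hy, hyδ⟩ := hP.1 δ hδ ε hε
    -- transport by `y⁻¹`
    have hyinv : FixOn y⁻¹ τ := hy.inv
    have hsubτ' : ∀ S : Set Ω, S ⊆ τᶜ → ε ∉ S → y⁻¹ • S ⊆ (insert δ τ)ᶜ := by
      intro S hS hεS x hx
      obtain ⟨s, hs, rfl⟩ := hx
      intro hmem
      rcases hmem with h | h
      · rw [inv_smul_eq_iff, hyδ] at h
        exact hεS (h ▸ hs)
      · have h' : y⁻¹ • s ∈ τ := h
        have := hy (y⁻¹ • s) h'
        rw [smul_inv_smul] at this
        rw [← this] at h'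
        exact hS hs h'
    set J₁ : Set Ω := y⁻¹ • J with hJ₁
    set J₂ : Set Ω := y⁻¹ • (g • J) with hJ₂
    have hJ₁τ' : J₁ ⊆ (insert δ τ)ᶜ :=
      hsubτ' J hJτ (fun h => hεJ (Set.mem_union_left _ h))
    have hJ₂τ' : J₂ ⊆ (insert δ τ)ᶜ :=
      hsubτ' (g • J) hgJsub (fun h => hεJ (Set.mem_union_right _ h))
    have hJ₁J : IsJordan G J₁ := hJ.smul _
    have hJ₂J : IsJordan G J₂ := (hJ.smul g).smul _
    have hc₁ : J₁.ncard = J.ncard := ncard_smul_set' _ _
    have hc₂ : J₂.ncard = J.ncard := by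
      rw [hJ₂, ncard_smul_set', ncard_smul_set']
    have hp₁ : y⁻¹ • p ∈ J₁ := Set.smul_mem_smul_set hp2
    have hp₂ : y⁻¹ • p ∈ J₂ := Set.smul_mem_smul_set hp1
    -- the block through `y⁻¹ • p`
    obtain ⟨b₀, hb₀⟩ : B₀.Nonempty := hnt.nonempty.mono hJB
    obtain ⟨k', hk', hkb⟩ := hT b₀ (hB₀sub hb₀) (y⁻¹ • p) (hJ₁τ' hp₁)
    have hB₁ : BlockAt G (insert δ τ) (k' • B₀) := hB₀.smul hk'
    have hpB₁ : y⁻¹ • p ∈ k' • B₀ := by
      rw [← hkb]; exact Set.smul_mem_smul_set hb₀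
    have hcB₁ : (k' • B₀).ncard = B₀.ncard := ncard_smul_set' _ _
    have hs₁ : J₁ ⊆ k' • B₀ :=
      jordan_subset_block hB₁ hJ₁J hJ₁τ' hp₁ hpB₁ (by rw [hcB₁, hc₁]; exact hJB')
    have hs₂ : J₂ ⊆ k' • B₀ :=
      jordan_subset_block hB₁ hJ₂J hJ₂τ' hp₂ hpB₁ (by rw [hcB₁, hc₂]; exact hJB')
    -- the union, pulled back into `B₀`
    have hUJ : IsJordan G (J₁ ∪ J₂) := hJ₁J.union hJ₂J ⟨_, hp₁, hp₂⟩
    have hne12 : J₂ ≠ J₁ := by
      intro h
      apply hgJ
      have : y • J₂ = y • J₁ := by rw [h]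
      rwa [hJ₂, hJ₁, smul_inv_smul, smul_inv_smul] at this
    have hlt : J.ncard < (J₁ ∪ J₂).ncard := by
      rw [← hc₁]
      apply Set.ncard_lt_ncard _ (hfin _)
      rw [Set.ssubset_iff_subset_ne]
      refine ⟨Set.subset_union_left, ?_⟩
      intro h
      apply hne12
      have hsub : J₂ ⊆ J₁ := by
        intro x hx
        rw [h]; exact Set.mem_union_right _ hx
      exact Set.eq_of_subset_of_ncard_le hsub (by rw [hc₁, hc₂]) (hfin _)
    set J' : Set Ω := k'⁻¹ • (J₁ ∪ J₂) with hJ'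
    have hJ'B : J' ⊆ B₀ := by
      have : J₁ ∪ J₂ ⊆ k' • B₀ := Set.union_subset hs₁ hs₂
      have h2 : k'⁻¹ • (J₁ ∪ J₂) ⊆ k'⁻¹ • (k' • B₀) := Set.smul_set_mono this
      rwa [inv_smul_smul] at h2
    have hJ'J : IsJordan G J' := hUJ.smul _
    have hJ'c : J'.ncard = (J₁ ∪ J₂).ncard := ncard_smul_set' _ _
    have hJ'nt : J'.Nontrivial :=
      smul_set_nontrivial ((smul_set_nontrivial hnt y⁻¹).mono Set.subset_union_left) _
    have hJ'le : J'.ncard ≤ B₀.ncard := Set.ncard_le_ncard hJ'B (hfin _)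
    exact ih (B₀.ncard - J'.ncard) (by omega) J' hJ'J hJ'nt hJ'B rfl

/-- **Lemma A**: no nontrivial Jordan set lies inside a (small) block of a point stabilizer. -/
theorem no_jordan_in_block [Finite Ω] {τ : Set Ω} (hP : PrimAt G τ) {δ : Ω} (hδ : δ ∉ τ)
    (hT : TransAt G (insert δ τ)) {B₀ : Set Ω} (hB₀sub : B₀ ⊆ (insert δ τ)ᶜ)
    (hB₀ : BlockAt G (insert δ τ) B₀)
    (hsize : 2 * B₀.ncard ≤ ((insert δ τ)ᶜ : Set Ω).ncard)
    {J : Set Ω} (hJ : IsJordan G J) (hnt : J.Nontrivial) (hJB : J ⊆ B₀) : False :=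
  no_jordan_in_block_aux hP hδ hT hB₀sub hB₀ hsize _ J hJ hnt hJB rfl

end Cfsg.Agent.Helper20.Marg
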