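import Mathlib

set_option autoImplicit false

/-!
# Marggraf's theorem, part C: the counting lemma (pure combinatorics)
-/

namespace Cfsg.Agent.Helper20.Marg

open Finset

/-- strict decrease of binomial coefficients to the right of the middle -/
theorem choose_succ_lt_of_half_le {N k : ℕ} (hk : k ≤ N) (h : N < 2 * k + 1) :
    N.choose (k + 1) < N.choose k := by
  have hpos : 0 < N.choose k := Nat.choose_pos hk
  have e := Nat.choose_succ_right_eq N k
  -- choose N (k+1) * (k+1) = choose N k * (N - k)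
  by_contra hcon
  push Not at hcon
  have h1 : N.choose k * (N - k) < N.choose k * (k + 1) :=
    Nat.mul_lt_mul_of_pos_left (by omega) hpos
  have h2 : N.choose k * (k + 1) ≤ N.choose (k + 1) * (k + 1) :=
    Nat.mul_le_mul_right _ hcon
  omega

theorem choose_anti_of_half_le {N k : ℕ} (h : N < 2 * k + 1) :
    ∀ j : ℕ, N.choose (k + j + 1) ≤ N.choose (k + 1) := by
  intro j
  induction j with
  | zero => simp
  | succ j ih =>
    rcases Nat.lt_or_ge N (k + j + 1) with hlt | hge
    · have : N.choose (k + (j + 1) + 1) = 0 := Nat.choose_eq_zero_of_lt (by omega)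
      omega
    · have := choose_succ_lt_of_half_le (N := N) (k := k + j + 1) hge (by omega)
      have e : k + (j + 1) + 1 = k + j + 1 + 1 := by ring
      rw [e]
      omega

/-- `C(N, y) < C(N, x)` when `x < y` and `y` is beyond the mirror image of `x`. -/
theorem choose_lt_of_lt_of_lt_add {N x y : ℕ} (hx : x ≤ N) (hxy : x < y) (hN : N < x + y) :
    N.choose y < N.choose x := by
  -- let `u = max x (N - x)`
  rcases Nat.lt_or_ge N (2 * x + 1) with h | h
  · -- `x` itself is to the right of the middle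
    obtain ⟨j, rfl⟩ : ∃ j, y = x + j + 1 := ⟨y - x - 1, by omega⟩
    have h1 := choose_anti_of_half_le (N := N) (k := x) h j
    have h2 := choose_succ_lt_of_half_le hx h
    omega
  · -- use symmetry
    have hsymm : N.choose x = N.choose (N - x) := (Nat.choose_symm hx).symm
    rw [hsymm]
    obtain ⟨j, rfl⟩ : ∃ j, y = (N - x) + j + 1 := ⟨y - (N - x) - 1, by omega⟩
    have h1 := choose_anti_of_half_le (N := N) (k := N - x) (by omega) j
    have h2 := choose_succ_lt_of_half_le (N := N) (k := N - x) (by omega) (by omega)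
    omega

variable {Ω : Type*} [Fintype Ω] [DecidableEq Ω]

/-- number of members of the family meeting `T` exactly in `T₀` -/
def cnt (F : Finset (Finset Ω)) (T T₀ : Finset Ω) : ℕ :=
  (F.filter (fun S => S ∩ T = T₀)).card

omit [Fintype Ω] in
/-- splitting on membership of a new point -/
theorem cnt_insert_add (F : Finset (Finset Ω)) {T T₀ : Finset Ω} {x : Ω} (hx : x ∉ T)
    (hT₀ : T₀ ⊆ T) :
    cnt F T T₀ = cnt F (insert x T) T₀ + cnt F (insert x T) (insert x T₀) := by
  unfold cnt
  have hx₀ : x ∉ T₀ := fun h => hx (hT₀ h)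
  rw [← Finset.card_union_of_disjoint]
  · congr 1
    ext S
    simp only [Finset.mem_filter, Finset.mem_union]
    constructor
    · rintro ⟨hS, hST⟩
      by_cases hxS : x ∈ S
      · right
        refine ⟨hS, ?_⟩
        rw [Finset.inter_insert_of_mem hxS, hST]
      · left
        refine ⟨hS, ?_⟩
        rw [Finset.inter_insert_of_notMem hxS, hST]
    · rintro (⟨hS, hST⟩ | ⟨hS, hST⟩)
      · refine ⟨hS, ?_⟩
        have hxS : x ∉ S := by
          intro hxS
          have : x ∈ S ∩ insert x T := Finset.mem_inter.mpr ⟨hxS, Finset.mem_insert_self _ _⟩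
          rw [hST] at this
          exact hx₀ this
        rwa [Finset.inter_insert_of_notMem hxS] at hST
      · refine ⟨hS, ?_⟩
        have hxS : x ∈ S := by
          have : x ∈ S ∩ insert x T := by rw [hST]; exact Finset.mem_insert_self _ _
          exact (Finset.mem_inter.mp this).1
        rw [Finset.inter_insert_of_mem hxS] at hST
        have hxST : x ∉ S ∩ T := fun h => hx (Finset.mem_inter.mp h).2
        have := congrArg (fun A => A.erase x) hST
        simpa [Finset.erase_insert hxST, Finset.erase_insert hx₀] using this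
  · rw [Finset.disjoint_left]
    intro S h1 h2
    simp only [Finset.mem_filter] at h1 h2
    have : T₀ = insert x T₀ := h1.2.symm.trans h2.2
    exact hx₀ (this ▸ Finset.mem_insert_self _ _)

/-- double counting pairs `(S, y)` with `y ∈ S \ T` -/
theorem sum_cnt_insert (F : Finset (Finset Ω)) {m : ℕ} (hF : ∀ S ∈ F, S.card = m)
    {T T₀ : Finset Ω} (hT₀ : T₀ ⊆ T) :
    ∑ y ∈ Tᶜ, cnt F (insert y T) (insert y T₀) = (m - T₀.card) * cnt F T T₀ := by
  unfold cnt
  -- both sides count pairs (S, y)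
  have h1 : ∀ y ∈ Tᶜ, (F.filter (fun S => S ∩ insert y T = insert y T₀)).card
      = ((F.filter (fun S => S ∩ T = T₀)).filter (fun S => y ∈ S)).card := by
    intro y hy
    have hyT : y ∉ T := Finset.mem_compl.mp hy
    have hyT₀ : y ∉ T₀ := fun h => hyT (hT₀ h)
    congr 1
    ext S
    simp only [Finset.mem_filter]
    constructor
    · rintro ⟨hS, hST⟩
      have hyS : y ∈ S := by
        have : y ∈ S ∩ insert y T := by rw [hST]; exact Finset.mem_insert_self _ _
        exact (Finset.mem_inter.mp this).1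
      refine ⟨⟨hS, ?_⟩, hyS⟩
      rw [Finset.inter_insert_of_mem hyS] at hST
      have hyST : y ∉ S ∩ T := fun h => hyT (Finset.mem_inter.mp h).2
      have := congrArg (fun A => A.erase y) hST
      simpa [Finset.erase_insert hyST, Finset.erase_insert hyT₀] using this
    · rintro ⟨⟨hS, hST⟩, hyS⟩
      refine ⟨hS, ?_⟩
      rw [Finset.inter_insert_of_mem hyS, hST]
  rw [Finset.sum_congr rfl h1]
  -- swap the order of counting
  have h2 : ∑ y ∈ Tᶜ, ((F.filter (fun S => S ∩ T = T₀)).filter (fun S => y ∈ S)).card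
      = ∑ S ∈ F.filter (fun S => S ∩ T = T₀), (Tᶜ.filter (fun y => y ∈ S)).card := by
    simp only [Finset.card_filter]
    rw [Finset.sum_comm]
  rw [h2]
  have h3 : ∀ S ∈ F.filter (fun S => S ∩ T = T₀),
      (Tᶜ.filter (fun y => y ∈ S)).card = m - T₀.card := by
    intro S hS
    rw [Finset.mem_filter] at hS
    have e : Tᶜ.filter (fun y => y ∈ S) = S \ T := by
      ext y
      simp only [Finset.mem_filter, Finset.mem_compl, Finset.mem_sdiff]
      tauto
    rw [e, Finset.card_sdiff, Finset.inter_comm, hF S hS.1, hS.2]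
  rw [Finset.sum_congr rfl h3, Finset.sum_const, smul_eq_mul, mul_comm]

end Cfsg.Agent.Helper20.Marg

namespace Cfsg.Agent.Helper20.Marg

open Finset

variable {Ω : Type*} [Fintype Ω] [DecidableEq Ω]

/-- regularity of the pattern counts at level `w` -/
def Reg (F : Finset (Finset Ω)) (w : ℕ) : Prop :=
  ∀ T T' T₀ T₀' : Finset Ω, T.card = w → T'.card = w → T₀ ⊆ T → T₀' ⊆ T' →
    T₀.card = T₀'.card → cnt F T T₀ = cnt F T' T₀'

omit [Fintype Ω] in
theorem Reg.exists_fun {F : Finset (Finset Ω)} {w : ℕ} (hreg : Reg F w) (Tstar : Finset Ω)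
    (hT : Tstar.card = w) :
    ∃ h : ℕ → ℕ, ∀ T T₀ : Finset Ω, T.card = w → T₀ ⊆ T → cnt F T T₀ = h T₀.card := by
  classical
  have hex : ∀ l : ℕ, l ≤ w → ∃ t : Finset Ω, t ⊆ Tstar ∧ t.card = l := by
    intro l hl
    exact Finset.exists_subset_card_eq (by rw [hT]; exact hl)
  refine ⟨fun l => if hl : l ≤ w then cnt F Tstar (Classical.choose (hex l hl)) else 0, ?_⟩
  intro T T₀ hTw hT₀
  have hl : T₀.card ≤ w := by rw [← hTw]; exact Finset.card_le_card hT₀
  simp only [hl, dif_pos]
  have hspec := Classical.choose_spec (hex T₀.card hl)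
  exact hreg T Tstar T₀ _ hTw hT hT₀ hspec.1 hspec.2.symm

/-- the alternating recursion -/
def Eseq (h : ℕ → ℕ) (e0 : ℤ) : ℕ → ℤ
  | 0 => e0
  | (i + 1) => (h i : ℤ) - Eseq h e0 i

omit [Fintype Ω] in
theorem cnt_eq_Eseq (F : Finset (Finset Ω)) {w : ℕ} (h : ℕ → ℕ)
    (hh : ∀ T T₀ : Finset Ω, T.card = w → T₀ ⊆ T → cnt F T T₀ = h T₀.card)
    (Z : Finset Ω) (hZ : Z.card = w + 1) :
    ∀ T₀ : Finset Ω, T₀ ⊆ Z → (cnt F Z T₀ : ℤ) = Eseq h (cnt F Z ∅ : ℤ) T₀.card := by
  intro T₀
  induction T₀ using Finset.induction_on with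
  | empty => intro _; simp [Eseq]
  | insert z T₀' hz ih =>
    intro hsub
    have hzZ : z ∈ Z := hsub (Finset.mem_insert_self _ _)
    have hT₀'Z : T₀' ⊆ Z := (Finset.subset_insert _ _).trans hsub
    have hT₀'e : T₀' ⊆ Z.erase z := by
      intro x hx
      rw [Finset.mem_erase]
      exact ⟨fun hxz => hz (hxz ▸ hx), hT₀'Z hx⟩
    have hcard : (Z.erase z).card = w := by
      rw [Finset.card_erase_of_mem hzZ, hZ]; rfl
    have h1 := cnt_insert_add F (T := Z.erase z) (T₀ := T₀') (x := z)
      (Finset.notMem_erase _ _) hT₀'e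
    rw [Finset.insert_erase hzZ, hh _ _ hcard hT₀'e] at h1
    rw [Finset.card_insert_of_notMem hz, Eseq, ← ih hT₀'Z]
    omega

theorem counting_contradiction (F : Finset (Finset Ω)) {m w : ℕ}
    (hF : ∀ S ∈ F, S.card = m) (hreg : Reg F w) (hw2 : 2 ≤ w) (hwm : w + 1 ≤ m)
    (h2m : 2 * m < Fintype.card Ω) (Z : Finset Ω) (hZ : Z.card = w + 1) (β : Ω) (hβ : β ∈ Z)
    (h0 : cnt F Z {β} = 0)
    (hpos : ∃ (T : Finset Ω) (x : Ω), T.card = w ∧ x ∈ T ∧ 0 < cnt F T {x}) : False := by
  classical
  set n := Fintype.card Ω with hn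
  -- the function `h`
  have hTstar : (Z.erase β).card = w := by
    rw [Finset.card_erase_of_mem hβ, hZ]; rfl
  obtain ⟨h, hh⟩ := hreg.exists_fun (Z.erase β) hTstar
  obtain ⟨d, hd⟩ : ∃ d, n = d + w + m := ⟨n - w - m, by omega⟩
  -- the recursion for `h`
  have hrec : ∀ l : ℕ, l + 1 ≤ w → (d + l + 1) * h (l + 1) = (m - l) * h l := by
    intro l hl
    obtain ⟨T₁, hT₁sub, hT₁c⟩ : ∃ t : Finset Ω, t ⊆ Z.erase β ∧ t.card = w - 1 :=
      Finset.exists_subset_card_eq (by rw [hTstar]; omega)
    obtain ⟨T₀, hT₀sub, hT₀c⟩ : ∃ t : Finset Ω, t ⊆ T₁ ∧ t.card = l :=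
      Finset.exists_subset_card_eq (by rw [hT₁c]; omega)
    have hsum := sum_cnt_insert F hF hT₀sub
    have hterm : ∀ y ∈ T₁ᶜ, cnt F (insert y T₁) (insert y T₀) = h (l + 1) := by
      intro y hy
      have hyT₁ : y ∉ T₁ := Finset.mem_compl.mp hy
      have hyT₀ : y ∉ T₀ := fun hc => hyT₁ (hT₀sub hc)
      rw [hh (insert y T₁) (insert y T₀) (by rw [Finset.card_insert_of_notMem hyT₁, hT₁c]; omega)
        (Finset.insert_subset_insert _ hT₀sub), Finset.card_insert_of_notMem hyT₀, hT₀c]
    rw [Finset.sum_congr rfl hterm, Finset.sum_const, smul_eq_mul, Finset.card_compl, hT₁c,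
      hT₀c] at hsum
    -- pick a point outside `T₁`
    have hne : (T₁ᶜ).Nonempty := by
      rw [← Finset.card_pos, Finset.card_compl, hT₁c]; omega
    obtain ⟨x, hx⟩ := hne
    have hxT₁ : x ∉ T₁ := Finset.mem_compl.mp hx
    have hxT₀ : x ∉ T₀ := fun hc => hxT₁ (hT₀sub hc)
    have hsplit := cnt_insert_add F hxT₁ hT₀sub
    rw [hh (insert x T₁) T₀ (by rw [Finset.card_insert_of_notMem hxT₁, hT₁c]; omega)
        (hT₀sub.trans (Finset.subset_insert _ _)),
      hh (insert x T₁) (insert x T₀) (by rw [Finset.card_insert_of_notMem hxT₁, hT₁c]; omega)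
        (Finset.insert_subset_insert _ hT₀sub),
      Finset.card_insert_of_notMem hxT₀, hT₀c] at hsplit
    rw [hsplit] at hsum
    have e1 : Fintype.card Ω - (w - 1) = (d + l + 1) + (m - l) := by omega
    rw [e1] at hsum
    have : ((d + l + 1) + (m - l)) * h (l + 1) = (m - l) * (h l + h (l + 1)) := hsum
    nlinarith [this]
  -- the binomial sequence
  set b : ℕ → ℕ := fun l => (d + m).choose (d + l) with hb
  have hbrec : ∀ l : ℕ, (d + l + 1) * b (l + 1) = (m - l) * b l := by
    intro l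
    have := Nat.choose_succ_right_eq (d + m) (d + l)
    simp only [hb]
    have e : d + m - (d + l) = m - l := by omega
    rw [e] at this
    have e2 : d + (l + 1) = d + l + 1 := by ring
    rw [e2]
    linarith [this]
  have hbpos : ∀ l : ℕ, l ≤ m → 0 < b l := fun l hl => Nat.choose_pos (by omega)
  have hcross : ∀ l : ℕ, l + 1 ≤ w → h (l + 1) * b l = h l * b (l + 1) := by
    intro l hl
    have h1 := hrec l hl
    have h2 := hbrec l
    have h3 : (d + l + 1) * (h (l + 1) * b l) = (d + l + 1) * (h l * b (l + 1)) := by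
      calc (d + l + 1) * (h (l + 1) * b l) = ((d + l + 1) * h (l + 1)) * b l := by ring
        _ = ((m - l) * h l) * b l := by rw [h1]
        _ = h l * ((m - l) * b l) := by ring
        _ = h l * ((d + l + 1) * b (l + 1)) := by rw [h2]
        _ = (d + l + 1) * (h l * b (l + 1)) := by ring
    exact Nat.eq_of_mul_eq_mul_left (by omega) h3
  have hprop : ∀ l : ℕ, 1 ≤ l → l ≤ w → h l * b 1 = h 1 * b l := by
    intro l hl1
    induction l, hl1 using Nat.le_induction with
    | base => intro _; rfl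
    | succ l hl1 ih =>
      intro hlw
      have ih' := ih (by omega)
      have hc := hcross l hlw
      have hbl : 0 < b l := hbpos l (by omega)
      have : b l * (h (l + 1) * b 1) = b l * (h 1 * b (l + 1)) := by
        calc b l * (h (l + 1) * b 1) = (h (l + 1) * b l) * b 1 := by ring
          _ = (h l * b (l + 1)) * b 1 := by rw [hc]
          _ = (h l * b 1) * b (l + 1) := by ring
          _ = (h 1 * b l) * b (l + 1) := by rw [ih']
          _ = b l * (h 1 * b (l + 1)) := by ring
      exact Nat.eq_of_mul_eq_mul_left hbl this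
  -- the pattern counts on `Z`
  have hE := cnt_eq_Eseq F h hh Z hZ
  set E := Eseq h (cnt F Z ∅ : ℤ) with hEdef
  have hE1 : E 1 = 0 := by
    have := hE {β} (Finset.singleton_subset_iff.mpr hβ)
    rw [Finset.card_singleton, h0] at this
    simpa using this.symm
  -- the shifted binomials
  set a : ℕ → ℤ := fun j => (((d + m - 1).choose (d + j) : ℕ) : ℤ) with ha
  have hpascal : ∀ j : ℕ, (b (j + 1) : ℤ) = a j + a (j + 1) := by
    intro j
    simp only [hb, ha]
    have e1 : d + m = (d + m - 1) + 1 := by omega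
    have e2 : d + (j + 1) = (d + j) + 1 := by ring
    rw [e2]
    conv_lhs => rw [e1]
    rw [Nat.choose_succ_succ']
    push_cast
    ring
  have hclosed : ∀ j : ℕ, j ≤ w →
      E (j + 1) * (b 1 : ℤ) = (h 1 : ℤ) * (a j - (-1) ^ j * a 0) := by
    intro j
    induction j with
    | zero => intro _; rw [hE1]; ring
    | succ j ih =>
      intro hj
      have ih' := ih (by omega)
      have hp := hprop (j + 1) (by omega) hj
      have hp' : (h (j + 1) : ℤ) * (b 1 : ℤ) = (h 1 : ℤ) * (b (j + 1) : ℤ) := by exact_mod_cast hp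
      have hstep : E (j + 1 + 1) = (h (j + 1) : ℤ) - E (j + 1) := by
        simp only [hEdef, Eseq]
      rw [hstep, sub_mul, hp', ih', hpascal j, pow_succ]
      ring
  -- the contradiction
  obtain ⟨j₀, hj₀even, hj₀2, hj₀w, hj₀w'⟩ : ∃ j₀ : ℕ, Even j₀ ∧ 2 ≤ j₀ ∧ j₀ ≤ w ∧ w ≤ j₀ + 1 := by
    rcases Nat.even_or_odd w with he | ho
    · exact ⟨w, he, hw2, le_rfl, by omega⟩
    · obtain ⟨k, hk⟩ := ho
      refine ⟨w - 1, ?_, by omega, by omega, by omega⟩
      rw [hk]; simp
  have hcl := hclosed j₀ hj₀w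
  rw [hj₀even.neg_one_pow, one_mul] at hcl
  obtain ⟨T₀, hT₀sub, hT₀c⟩ : ∃ t : Finset Ω, t ⊆ Z ∧ t.card = j₀ + 1 :=
    Finset.exists_subset_card_eq (by rw [hZ]; omega)
  have hEnn : 0 ≤ E (j₀ + 1) := by
    rw [← hT₀c, ← hE T₀ hT₀sub]
    exact Int.natCast_nonneg _
  have hh1 : 0 < h 1 := by
    obtain ⟨T, x, hTw, hxT, hc⟩ := hpos
    have := hh T {x} hTw (Finset.singleton_subset_iff.mpr hxT)
    rw [Finset.card_singleton] at this
    omega
  have hb1 : 0 < b 1 := hbpos 1 (by omega)
  have hlt : (d + m - 1).choose (d + j₀) < (d + m - 1).choose d := by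
    apply choose_lt_of_lt_of_lt_add <;> omega
  have hlt' : a j₀ < a 0 := by
    simp only [ha, add_zero]
    exact_mod_cast hlt
  have h1 : 0 ≤ E (j₀ + 1) * (b 1 : ℤ) := mul_nonneg hEnn (by exact_mod_cast hb1.le)
  have h2 : (h 1 : ℤ) * (a j₀ - a 0) < 0 :=
    mul_neg_of_pos_of_neg (by exact_mod_cast hh1) (by linarith)
  linarith

end Cfsg.Agent.Helper20.Marg
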