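import Mathlib
import Cfsg.Agent.Helper20.MargB2
import Cfsg.Agent.Helper20.MargC

set_option autoImplicit false

/-!
# Marggraf's theorem, part D: multiple transitivity and regularity of the translates
-/

namespace Cfsg.Agent.Helper20.Marg

open scoped Pointwise

variable {G Ω : Type*} [Group G] [MulAction G Ω]

/-- the pointwise stabilizer of every set with fewer than `k` points is transitive on the rest -/
def TransLvl (G : Type*) {Ω : Type*} [Group G] [MulAction G Ω] (k : ℕ) : Prop :=
  ∀ τ : Set Ω, τ.ncard < k → TransAt G τ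

theorem TransLvl.mono {k l : ℕ} (h : TransLvl G (Ω := Ω) k) (hl : l ≤ k) : TransLvl G (Ω := Ω) l :=
  fun τ hτ => h τ (by omega)

section Finset

variable [DecidableEq Ω]

theorem fixOn_smul_finset {g : G} {T : Finset Ω} (hg : FixOn g (T : Set Ω)) : g • T = T := by
  ext x
  rw [Finset.mem_smul_finset]
  constructor
  · rintro ⟨y, hy, rfl⟩
    rw [hg y (Finset.mem_coe.mpr hy)]
    exact hy
  · intro hx
    exact ⟨x, hx, hg x (Finset.mem_coe.mpr hx)⟩

/-- `k`-fold transitivity moves pairs `(T, T₀)` of finsets onto each other -/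
theorem exists_smul_pair [Finite Ω] :
    ∀ (k : ℕ) (T T' T₀ T₀' : Finset Ω), T.card = k → T'.card = k → TransLvl G (Ω := Ω) k →
      T₀ ⊆ T → T₀' ⊆ T' → T₀.card = T₀'.card → ∃ g : G, g • T = T' ∧ g • T₀ = T₀' := by
  intro k
  induction k with
  | zero =>
    intro T T' T₀ T₀' hT hT' _ hsub hsub' _
    rw [Finset.card_eq_zero] at hT hT'
    subst hT hT'
    rw [Finset.subset_empty] at hsub hsub'
    subst hsub hsub'
    exact ⟨1, by simp, by simp⟩
  | succ k ih =>
    intro T T' T₀ T₀' hT hT' htr hsub hsub' hc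
    -- choose compatible points
    obtain ⟨x, x', hx, hx', hxx'⟩ : ∃ x x', x ∈ T ∧ x' ∈ T' ∧ (x ∈ T₀ ↔ x' ∈ T₀') := by
      by_cases hne : T₀.Nonempty
      · have hne' : T₀'.Nonempty := by
          rw [← Finset.card_pos] at hne ⊢; omega
        obtain ⟨x, hx⟩ := hne
        obtain ⟨x', hx'⟩ := hne'
        exact ⟨x, x', hsub hx, hsub' hx', by simp [hx, hx']⟩
      · rw [Finset.not_nonempty_iff_eq_empty] at hne
        have hne' : T₀' = ∅ := by
          rw [← Finset.card_eq_zero, ← hc, hne, Finset.card_empty]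
        have hTne : T.Nonempty := by rw [← Finset.card_pos]; omega
        have hT'ne : T'.Nonempty := by rw [← Finset.card_pos]; omega
        obtain ⟨x, hx⟩ := hTne
        obtain ⟨x', hx'⟩ := hT'ne
        exact ⟨x, x', hx, hx', by simp [hne, hne']⟩
    have hc' : (T₀.erase x).card = (T₀'.erase x').card := by
      by_cases h : x ∈ T₀
      · rw [Finset.card_erase_of_mem h, Finset.card_erase_of_mem (hxx'.mp h), hc]
      · rw [Finset.erase_eq_of_notMem h, Finset.erase_eq_of_notMem (fun h' => h (hxx'.mpr h')), hc]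
    obtain ⟨g₁, hg₁T, hg₁T₀⟩ := ih (T.erase x) (T'.erase x') (T₀.erase x) (T₀'.erase x')
      (by rw [Finset.card_erase_of_mem hx, hT]; rfl)
      (by rw [Finset.card_erase_of_mem hx', hT']; rfl)
      (htr.mono (Nat.le_succ k))
      (Finset.erase_subset_erase _ hsub) (Finset.erase_subset_erase _ hsub') hc'
    have hg₁x : g₁ • x ∉ ((T'.erase x' : Finset Ω) : Set Ω) := by
      rw [Finset.mem_coe, ← hg₁T, Finset.smul_mem_smul_finset_iff]
      exact Finset.notMem_erase _ _
    have hx'n : x' ∉ ((T'.erase x' : Finset Ω) : Set Ω) := by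
      rw [Finset.mem_coe]; exact Finset.notMem_erase _ _
    have hcard : ((T'.erase x' : Finset Ω) : Set Ω).ncard < k + 1 := by
      rw [Set.ncard_coe_finset, Finset.card_erase_of_mem hx', hT']; simp
    obtain ⟨g₂, hg₂, hg₂x⟩ := htr _ hcard _ hg₁x _ hx'n
    have hg₂T : g₂ • (T'.erase x') = T'.erase x' := fixOn_smul_finset hg₂
    have hg₂T₀ : g₂ • (T₀'.erase x') = T₀'.erase x' :=
      fixOn_smul_finset (hg₂.mono (by
        intro z hz
        rw [Finset.mem_coe] at hz ⊢
        exact Finset.erase_subset_erase _ hsub' hz))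
    refine ⟨g₂ * g₁, ?_, ?_⟩
    · rw [← Finset.insert_erase hx, Finset.smul_finset_insert, mul_smul, mul_smul, hg₂x, hg₁T,
        hg₂T, Finset.insert_erase hx']
    · by_cases h : x ∈ T₀
      · rw [← Finset.insert_erase h, Finset.smul_finset_insert, mul_smul, mul_smul, hg₂x, hg₁T₀,
          hg₂T₀, Finset.insert_erase (hxx'.mp h)]
      · have h' : x' ∉ T₀' := fun h' => h (hxx'.mpr h')
        rw [Finset.erase_eq_of_notMem h, Finset.erase_eq_of_notMem h'] at hg₁T₀
        rw [Finset.erase_eq_of_notMem h'] at hg₂T₀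
        rw [mul_smul, hg₁T₀, hg₂T₀]

variable [Fintype Ω]

/-- the family of translates of `Γ`, as a finset of finsets -/
noncomputable def translates (G : Type*) {Ω : Type*} [Group G] [MulAction G Ω] [Fintype Ω]
    (Γ : Set Ω) : Finset (Finset Ω) := by
  classical
  exact Finset.univ.filter (fun S : Finset Ω => ∃ g : G, (S : Set Ω) = g • Γ)

omit [DecidableEq Ω] in
theorem mem_translates {Γ : Set Ω} {S : Finset Ω} :
    S ∈ translates G Γ ↔ ∃ g : G, (S : Set Ω) = g • Γ := by
  classical
  simp [translates]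

theorem smul_mem_translates {Γ : Set Ω} {S : Finset Ω} (hS : S ∈ translates G Γ) (g : G) :
    g • S ∈ translates G Γ := by
  rw [mem_translates] at hS ⊢
  obtain ⟨k, hk⟩ := hS
  refine ⟨g * k, ?_⟩
  rw [Finset.coe_smul_finset, hk, mul_smul]

theorem card_of_mem_translates {Γ : Set Ω} {S : Finset Ω} (hS : S ∈ translates G Γ) :
    S.card = Γ.ncard := by
  rw [mem_translates] at hS
  obtain ⟨k, hk⟩ := hS
  rw [← Set.ncard_coe_finset, hk, ncard_smul_set']

theorem cnt_translates_smul (Γ : Set Ω) (g : G) (T T₀ : Finset Ω) :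
    cnt (translates G Γ) (g • T) (g • T₀) = cnt (translates G Γ) T T₀ := by
  unfold cnt
  symm
  apply Finset.card_bij (fun S _ => g • S)
  · intro S hS
    rw [Finset.mem_filter] at hS ⊢
    refine ⟨smul_mem_translates hS.1 g, ?_⟩
    rw [← Finset.smul_finset_inter, hS.2]
  · intro S₁ _ S₂ _ h
    exact (MulAction.injective g) h
  · intro S hS
    rw [Finset.mem_filter] at hS
    refine ⟨g⁻¹ • S, ?_, by rw [smul_inv_smul]⟩
    rw [Finset.mem_filter]
    refine ⟨smul_mem_translates hS.1 g⁻¹, ?_⟩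
    have : g⁻¹ • (S ∩ g • T) = g⁻¹ • (g • T₀) := by rw [hS.2]
    rwa [Finset.smul_finset_inter, inv_smul_smul, inv_smul_smul] at this

theorem reg_translates (Γ : Set Ω) {w : ℕ} (htr : TransLvl G (Ω := Ω) w) :
    Reg (translates G Γ) w := by
  intro T T' T₀ T₀' hT hT' hsub hsub' hc
  obtain ⟨g, hgT, hgT₀⟩ := exists_smul_pair (G := G) w T T' T₀ T₀' hT hT' htr hsub hsub' hc
  rw [← hgT, ← hgT₀, cnt_translates_smul]

end Finset

end Cfsg.Agent.Helper20.Marg
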