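import Mathlib
import Cfsg.Agent.Helper20.MargD

set_option autoImplicit false

/-!
# Marggraf's theorem, part E: the level induction
-/

namespace Cfsg.Agent.Helper20.Marg

open scoped Pointwise

variable {G Ω : Type*} [Group G] [MulAction G Ω]

/-- A Jordan set through a point of a block, avoiding the fixed set, and missing some point of
the block, lies inside the block. -/
theorem jordan_subset_block' {σ B J : Set Ω} (hB : BlockAt G σ B)
    (hJ : IsJordan G J) (hJσ : J ⊆ σᶜ) {p q : Ω} (hpJ : p ∈ J) (hpB : p ∈ B)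
    (hqB : q ∈ B) (hqJ : q ∉ J) : J ⊆ B := by
  intro x hx
  obtain ⟨h, hh, hpx⟩ := hJ p hpJ x hx
  have hhσ : FixOn h σ := hh.of_jordan hJσ
  rcases hB h hhσ with h1 | h1
  · rw [← h1, ← hpx]
    exact Set.smul_mem_smul_set hpB
  · exfalso
    have hq : h • q = q := hh q hqJ
    have : q ∈ h • B := by
      rw [← hq]; exact Set.smul_mem_smul_set hqB
    exact Set.disjoint_left.mp h1 this hqB

theorem primAt_empty_of_isPreprimitive (hG : MulAction.IsPreprimitive G Ω) :
    PrimAt G (∅ : Set Ω) := by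
  constructor
  · intro x _ y _
    obtain ⟨g, hg⟩ := MulAction.exists_smul_eq G x y
    exact ⟨g, fun z hz => absurd hz (Set.notMem_empty z), hg⟩
  · intro B _ hB
    have hblock : MulAction.IsBlock G B := by
      rw [MulAction.isBlock_iff_smul_eq_or_disjoint]
      intro g
      exact hB g (fun z hz => absurd hz (Set.notMem_empty z))
    have := hG.isTrivialBlock_of_isBlock hblock
    rcases this with h | h
    · exact Or.inl h
    · right; rw [h, Set.compl_empty]

section Fin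

variable [Fintype Ω] [DecidableEq Ω]

theorem exists_translate_disjoint {Γ : Set Ω} {s : ℕ} (htr : TransLvl G (Ω := Ω) s)
    (σ : Set Ω) (hσ : σ.ncard = s) (hs : s + Γ.ncard ≤ Fintype.card Ω) :
    ∃ g : G, Disjoint (g • Γ) σ := by
  classical
  have hfinσ : σ.Finite := Set.toFinite σ
  have hfinΔ : (Γᶜ : Set Ω).Finite := Set.toFinite _
  have hΔcard : hfinΔ.toFinset.card = Fintype.card Ω - Γ.ncard := by
    rw [← Set.ncard_eq_toFinset_card _ hfinΔ, Set.ncard_compl, Nat.card_eq_fintype_card]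
  obtain ⟨T', hT'sub, hT'c⟩ : ∃ t : Finset Ω, t ⊆ hfinΔ.toFinset ∧ t.card = s :=
    Finset.exists_subset_card_eq (by rw [hΔcard]; omega)
  have hTc : hfinσ.toFinset.card = s := by
    rw [← Set.ncard_eq_toFinset_card _ hfinσ, hσ]
  obtain ⟨g, hg, _⟩ := exists_smul_pair (G := G) s hfinσ.toFinset T' ∅ ∅ hTc hT'c htr
    (Finset.empty_subset _) (Finset.empty_subset _) rfl
  refine ⟨g⁻¹, ?_⟩
  rw [Set.disjoint_left]
  rintro x ⟨y, hy, rfl⟩ hxσ
  have h1 : g • (g⁻¹ • y) ∈ g • hfinσ.toFinset :=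
    Finset.smul_mem_smul_finset ((Set.Finite.mem_toFinset hfinσ).mpr hxσ)
  rw [smul_inv_smul, hg] at h1
  have h2 := hT'sub h1
  rw [Set.Finite.mem_toFinset] at h2
  exact h2 hy

/-- from primitivity up to level `j` to transitivity at level `j + 2` (Jordan) -/
theorem transLvl_of_prim {Γ : Set Ω} (hΓ : IsJordan G Γ) (hΓ2 : 2 ≤ Γ.ncard) {j : ℕ}
    (hjn : j + Γ.ncard < Fintype.card Ω)
    (hQ : ∀ τ : Set Ω, τ.ncard ≤ j → PrimAt G τ) : TransLvl G (Ω := Ω) (j + 2) := by
  classical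
  have hfin : ∀ s : Set Ω, s.Finite := fun s => Set.toFinite s
  intro σ hσ
  rcases Nat.lt_or_ge σ.ncard (j + 1) with h | h
  · exact (hQ σ (by omega)).1
  · have hσc : σ.ncard = j + 1 := by omega
    have hne : σ.Nonempty := by
      rw [← Set.ncard_pos (hfin _)]; omega
    obtain ⟨δ, hδ⟩ := hne
    set τ : Set Ω := σ \ {δ} with hτ
    have hτc : τ.ncard = j := by
      rw [hτ, Set.ncard_sdiff_singleton_of_mem hδ, hσc]; rfl
    have hδτ : δ ∉ τ := fun h => h.2 rfl
    have hins : insert δ τ = σ := by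
      rw [hτ, Set.insert_sdiff_singleton, Set.insert_eq_of_mem hδ]
    have htrj : TransLvl G (Ω := Ω) j := fun ρ hρ => (hQ ρ (by omega)).1
    obtain ⟨g, hg⟩ := exists_translate_disjoint (Γ := Γ) htrj τ hτc (by omega)
    have hJτ : g • Γ ⊆ τᶜ := fun x hx hxτ => Set.disjoint_left.mp hg hx hxτ
    have hJc : (g • Γ).ncard = Γ.ncard := ncard_smul_set' _ _
    have hnt : (g • Γ).Nontrivial := by
      rw [← Set.one_lt_ncard_iff_nontrivial, hJc]; omega
    have hJne : g • Γ ≠ τᶜ := by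
      intro h
      have : (τᶜ : Set Ω).ncard = Γ.ncard := by rw [← h, hJc]
      rw [Set.ncard_compl, Nat.card_eq_fintype_card, hτc] at this
      omega
    have := transAt_insert (hQ τ (by omega)) (hΓ.smul g) hJτ hnt hJne hδτ
    rwa [hins] at this

theorem level_step {Γ : Set Ω} (hΓ : IsJordan G Γ)
    (h2m : 2 * Γ.ncard < Fintype.card Ω) {j : ℕ} (hj : j + 3 ≤ Γ.ncard)
    (hQ : ∀ τ : Set Ω, τ.ncard ≤ j → PrimAt G τ) :
    ∀ τ : Set Ω, τ.ncard ≤ j + 1 → PrimAt G τ := by
  classical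
  have hfin : ∀ s : Set Ω, s.Finite := fun s => Set.toFinite s
  have htr2 : TransLvl G (Ω := Ω) (j + 2) := transLvl_of_prim hΓ (by omega) (by omega) hQ
  intro τ' hτ'
  rcases Nat.lt_or_ge τ'.ncard (j + 1) with h | h
  · exact hQ τ' (by omega)
  have hτ'c : τ'.ncard = j + 1 := by omega
  have hne : τ'.Nonempty := by
    rw [← Set.ncard_pos (hfin _)]; omega
  obtain ⟨δ, hδ⟩ := hne
  set τ : Set Ω := τ' \ {δ} with hτ
  have hτc : τ.ncard = j := by
    rw [hτ, Set.ncard_sdiff_singleton_of_mem hδ, hτ'c]; rfl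
  have hδτ : δ ∉ τ := fun h => h.2 rfl
  have hins : insert δ τ = τ' := by
    rw [hτ, Set.insert_sdiff_singleton, Set.insert_eq_of_mem hδ]
  have hT : TransAt G τ' := htr2 τ' (by omega)
  refine ⟨hT, ?_⟩
  intro B₀ hB₀sub hB₀
  by_contra hcon
  push Not at hcon
  obtain ⟨hns, hneq⟩ := hcon
  obtain ⟨β, hβ, β', hβ', hββ'⟩ := hns
  -- size of the block
  have hsize : 2 * B₀.ncard ≤ (τ'ᶜ : Set Ω).ncard := by
    have : ∃ q, q ∈ (τ'ᶜ : Set Ω) ∧ q ∉ B₀ := by
      by_contra hcon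
      push Not at hcon
      exact hneq (Set.Subset.antisymm hB₀sub hcon)
    obtain ⟨q, hq, hqB⟩ := this
    obtain ⟨k, hk, hkq⟩ := hT β (hB₀sub hβ) q hq
    have hkB : k • B₀ ≠ B₀ := by
      intro h
      apply hqB
      rw [← h, ← hkq]
      exact Set.smul_mem_smul_set hβ
    have hdisj : Disjoint (k • B₀) B₀ := (hB₀ k hk).resolve_left hkB
    have hksub : k • B₀ ⊆ τ'ᶜ := by
      rw [← hk.smul_compl]; exact Set.smul_set_mono hB₀sub
    have h1 : (k • B₀ ∪ B₀).ncard = (k • B₀).ncard + B₀.ncard :=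
      Set.ncard_union_eq hdisj (hfin _) (hfin _)
    have h2 : (k • B₀ ∪ B₀).ncard ≤ (τ'ᶜ : Set Ω).ncard :=
      Set.ncard_le_ncard (Set.union_subset hksub hB₀sub) (hfin _)
    rw [ncard_smul_set'] at h1
    omega
  -- the finset `Z`
  have hfinτ' : τ'.Finite := hfin τ'
  set Tτ : Finset Ω := hfinτ'.toFinset with hTτ
  have hTτc : Tτ.card = j + 1 := by
    rw [hTτ, ← Set.ncard_eq_toFinset_card _ hfinτ', hτ'c]
  have hβτ' : β ∉ Tτ := by
    rw [hTτ, Set.Finite.mem_toFinset]; exact hB₀sub hβ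
  have hβ'τ' : β' ∉ Tτ := by
    rw [hTτ, Set.Finite.mem_toFinset]; exact hB₀sub hβ'
  set Z : Finset Ω := insert β (insert β' Tτ) with hZ
  have hZc : Z.card = (j + 2) + 1 := by
    rw [hZ, Finset.card_insert_of_notMem, Finset.card_insert_of_notMem hβ'τ', hTτc]
    rw [Finset.mem_insert]
    push Not
    exact ⟨hββ', hβτ'⟩
  have hm : ∀ S ∈ translates G Γ, S.card = Γ.ncard := fun S hS => card_of_mem_translates hS
  -- no translate meets `Z` exactly in `β`
  have h0 : cnt (translates G Γ) Z {β} = 0 := by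
    unfold cnt
    rw [Finset.card_eq_zero, Finset.filter_eq_empty_iff]
    intro S hS hSZ
    have hβS : β ∈ S := by
      have : β ∈ S ∩ Z := by rw [hSZ]; exact Finset.mem_singleton_self β
      exact (Finset.mem_inter.mp this).1
    have hnot : ∀ z ∈ Z, z ≠ β → z ∉ S := by
      intro z hzZ hzβ hzS
      have : z ∈ S ∩ Z := Finset.mem_inter.mpr ⟨hzS, hzZ⟩
      rw [hSZ, Finset.mem_singleton] at this
      exact hzβ this
    have hβ'S : β' ∉ S := hnot β' (by simp [hZ]) (Ne.symm hββ')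
    have hSτ' : (S : Set Ω) ⊆ τ'ᶜ := by
      intro z hzS hzτ'
      have hzT : z ∈ Tτ := by rw [hTτ, Set.Finite.mem_toFinset]; exact hzτ'
      have hzβ : z ≠ β := fun h => hβτ' (h ▸ hzT)
      exact hnot z (by simp [hZ, hzT]) hzβ (Finset.mem_coe.mp hzS)
    obtain ⟨g, hg⟩ := mem_translates.mp hS
    have hSJ : IsJordan G (S : Set Ω) := by rw [hg]; exact hΓ.smul g
    have hSB : (S : Set Ω) ⊆ B₀ :=
      jordan_subset_block' hB₀ hSJ hSτ' (Finset.mem_coe.mpr hβS) hβ hβ'
        (fun h => hβ'S (Finset.mem_coe.mp h))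
    have hSnt : (S : Set Ω).Nontrivial := by
      rw [← Set.one_lt_ncard_iff_nontrivial, Set.ncard_coe_finset, hm S hS]; omega
    rw [← hins] at hT hB₀sub hB₀ hsize
    exact no_jordan_in_block (hQ τ (by omega)) hδτ hT hB₀sub hB₀ hsize hSJ hSnt hSB
  -- positivity
  have hpos : ∃ (T : Finset Ω) (x : Ω), T.card = j + 2 ∧ x ∈ T ∧
      0 < cnt (translates G Γ) T {x} := by
    have hΓne : Γ.Nonempty := by
      rw [← Set.ncard_pos (hfin _)]; omega
    obtain ⟨γ, hγ⟩ := hΓne
    have hfinΔ : (Γᶜ : Set Ω).Finite := hfin _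
    have hΔcard : hfinΔ.toFinset.card = Fintype.card Ω - Γ.ncard := by
      rw [← Set.ncard_eq_toFinset_card _ hfinΔ, Set.ncard_compl, Nat.card_eq_fintype_card]
    obtain ⟨D₀, hD₀sub, hD₀c⟩ : ∃ t : Finset Ω, t ⊆ hfinΔ.toFinset ∧ t.card = j + 1 :=
      Finset.exists_subset_card_eq (by rw [hΔcard]; omega)
    have hD₀Γ : ∀ z ∈ D₀, z ∉ Γ := by
      intro z hz
      have := hD₀sub hz
      rwa [Set.Finite.mem_toFinset] at this
    have hγD₀ : γ ∉ D₀ := fun h => hD₀Γ γ h hγ
    refine ⟨insert γ D₀, γ, ?_, Finset.mem_insert_self _ _, ?_⟩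
    · rw [Finset.card_insert_of_notMem hγD₀, hD₀c]
    · unfold cnt
      rw [Finset.card_pos]
      refine ⟨(hfin Γ).toFinset, ?_⟩
      rw [Finset.mem_filter]
      refine ⟨mem_translates.mpr ⟨1, by simp⟩, ?_⟩
      ext z
      simp only [Finset.mem_inter, Set.Finite.mem_toFinset, Finset.mem_insert,
        Finset.mem_singleton]
      constructor
      · rintro ⟨hzΓ, rfl | hzD⟩
        · rfl
        · exact absurd hzΓ (hD₀Γ z hzD)
      · rintro rfl
        exact ⟨hγ, Or.inl rfl⟩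
  exact counting_contradiction (translates G Γ) hm (reg_translates Γ htr2) (by omega) (by omega)
    h2m Z hZc β (by simp [hZ]) h0 hpos

end Fin

end Cfsg.Agent.Helper20.Marg
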