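import Mathlib
import Cfsg.Agent.Helper20.MargE

set_option autoImplicit false

/-!
# Marggraf's theorem, part F: the primitive case
-/

namespace Cfsg.Agent.Helper20.Marg

open scoped Pointwise

variable {G Ω : Type*} [Group G] [MulAction G Ω]

section Fin

variable [Fintype Ω] [DecidableEq Ω]

theorem prim_levels {Γ : Set Ω} (hΓ : IsJordan G Γ)
    (h2m : 2 * Γ.ncard < Fintype.card Ω) (hP0 : PrimAt G (∅ : Set Ω)) :
    ∀ j : ℕ, j + 2 ≤ Γ.ncard → ∀ τ : Set Ω, τ.ncard ≤ j → PrimAt G τ := by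
  intro j
  induction j with
  | zero =>
    intro _ τ hτ
    have : τ = ∅ := by
      rw [← Set.ncard_eq_zero (Set.toFinite τ)]; omega
    rw [this]; exact hP0
  | succ j ih =>
    intro hj
    exact level_step hΓ h2m (by omega) (ih (by omega))

theorem transLvl_card {Γ : Set Ω} (hΓ : IsJordan G Γ) (hΓ2 : 2 ≤ Γ.ncard)
    (h2m : 2 * Γ.ncard < Fintype.card Ω) (hP0 : PrimAt G (∅ : Set Ω)) :
    TransLvl G (Ω := Ω) Γ.ncard := by
  have h := transLvl_of_prim hΓ hΓ2 (j := Γ.ncard - 2) (by omega)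
    (prim_levels hΓ h2m hP0 (Γ.ncard - 2) (by omega))
  have e : Γ.ncard - 2 + 2 = Γ.ncard := by omega
  rwa [e] at h

theorem exists_isThreeCycle {Γ : Set Ω} (hΓ : IsJordan G Γ) (hΓ2 : 2 ≤ Γ.ncard)
    (hmn : Γ.ncard < Fintype.card Ω) (htr : TransLvl G (Ω := Ω) Γ.ncard) :
    ∃ c : G, (MulAction.toPerm c : Equiv.Perm Ω).IsThreeCycle := by
  classical
  have hfin : ∀ s : Set Ω, s.Finite := fun s => Set.toFinite s
  have hnt : Γ.Nontrivial := by
    rw [← Set.one_lt_ncard_iff_nontrivial]; omega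
  obtain ⟨x, hx, y', hy', hxy'⟩ := hnt
  obtain ⟨h, hh, hhx⟩ := hΓ x hx y' hy'
  set S : Set Ω := {ω | h • ω ≠ ω} with hS
  have hSΓ : S ⊆ Γ := by
    intro ω hω
    by_contra hωΓ
    exact hω (hh ω hωΓ)
  have hxS : x ∈ S := by
    show h • x ≠ x
    rw [hhx]; exact fun e => hxy' e.symm
  have hS1 : ∀ ω, ω ∈ S → h • ω ∈ S := by
    intro ω hω hcon
    exact hω (MulAction.injective h hcon)
  have hS2 : ∀ ω, ω ∈ S → h⁻¹ • ω ∈ S := by
    intro ω hω
    show h • (h⁻¹ • ω) ≠ h⁻¹ • ω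
    rw [smul_inv_smul]
    intro e
    apply hω
    nth_rewrite 1 [e]
    rw [smul_inv_smul]
  have hS3 : ∀ ω, ω ∉ S → h • ω = ω := by
    intro ω hω
    by_contra hcon
    exact hω hcon
  have hS4 : ∀ ω, ω ∉ S → h⁻¹ • ω = ω := by
    intro ω hω
    rw [inv_smul_eq_iff, hS3 ω hω]
  -- a point outside `Γ`
  have hex : ∃ z, z ∉ Γ := by
    by_contra hcon
    push Not at hcon
    have : Γ = Set.univ := Set.eq_univ_of_forall hcon
    rw [this, Set.ncard_univ, Nat.card_eq_fintype_card] at hmn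
    omega
  obtain ⟨z, hzΓ⟩ := hex
  have hzS : z ∉ S := fun hz => hzΓ (hSΓ hz)
  set τ : Set Ω := S \ {x} with hτ
  have hτc : τ.ncard < Γ.ncard := by
    have h1 : τ.ncard < S.ncard := by
      apply Set.ncard_lt_ncard _ (hfin _)
      rw [Set.ssubset_iff_subset_ne]
      refine ⟨Set.sdiff_subset, ?_⟩
      intro e
      have : x ∈ τ := by rw [e]; exact hxS
      exact this.2 rfl
    have h2 : S.ncard ≤ Γ.ncard := Set.ncard_le_ncard hSΓ (hfin _)
    omega
  have hxτ : x ∉ τ := fun hx' => hx'.2 rfl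
  have hzτ : z ∉ τ := fun hz => hzS hz.1
  obtain ⟨g, hg, hgx⟩ := htr τ hτc x hxτ z hzτ
  have hg1 : ∀ ω, ω ∈ S → ω ≠ x → g • ω = ω := fun ω hω hne => hg ω ⟨hω, hne⟩
  have hg2 : ∀ ω, ω ∈ S → ω ≠ x → g⁻¹ • ω = ω := by
    intro ω hω hne
    rw [inv_smul_eq_iff, hg1 ω hω hne]
  have hgz : g⁻¹ • z = x := by rw [inv_smul_eq_iff, hgx]
  have hxz : x ≠ z := fun e => hzS (e ▸ hxS)
  set xm : Ω := h⁻¹ • x with hxm
  have hxmS : xm ∈ S := hS2 x hxS
  have hxmx : xm ≠ x := by
    intro e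
    apply hxS
    rw [hxm, inv_smul_eq_iff] at e
    exact e.symm
  have hxmz : xm ≠ z := fun e => hzS (e ▸ hxmS)
  have hhxm : h • xm = x := by rw [hxm, smul_inv_smul]
  -- points moved by `g⁻¹` into `S`
  have hginv : ∀ ω, ω ∉ S → ω ≠ z → g⁻¹ • ω ∉ S := by
    intro ω hω hωz hv
    by_cases hvx : g⁻¹ • ω = x
    · apply hωz
      rw [inv_smul_eq_iff, hgx] at hvx
      exact hvx
    · have := hg1 _ hv hvx
      rw [smul_inv_smul] at this
      rw [← this] at hv
      exact hω hv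
  refine ⟨h⁻¹ * (g * h * g⁻¹), ?_⟩
  have key : (MulAction.toPerm (h⁻¹ * (g * h * g⁻¹)) : Equiv.Perm Ω)
      = Equiv.swap xm x * Equiv.swap xm z := by
    ext ω
    simp only [MulAction.toPerm_apply, Equiv.Perm.coe_mul, Function.comp_apply, mul_smul]
    by_cases h1 : ω = xm
    · subst h1
      rw [Equiv.swap_apply_left, Equiv.swap_apply_of_ne_of_ne (Ne.symm hxmz) (Ne.symm hxz),
        hg2 _ hxmS hxmx, hhxm, hgx, hS4 z hzS]
    by_cases h2 : ω = z
    · subst h2
      rw [Equiv.swap_apply_right, Equiv.swap_apply_left, hgz, hhx,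
        hg1 y' (hhx ▸ hS1 x hxS) (Ne.symm hxy'), ← hhx, inv_smul_smul]
    by_cases h3 : ω = x
    · subst h3
      rw [Equiv.swap_apply_of_ne_of_ne (Ne.symm hxmx) hxz, Equiv.swap_apply_right]
      have hu : g⁻¹ • ω ∉ S := by
        intro hv
        by_cases hvx : g⁻¹ • ω = ω
        · rw [inv_smul_eq_iff, hgx] at hvx
          exact hxz hvx
        · have := hg1 _ hv hvx
          rw [smul_inv_smul] at this
          exact hvx this.symm
      rw [hS3 _ hu, smul_inv_smul]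
    rw [Equiv.swap_apply_of_ne_of_ne h1 h2, Equiv.swap_apply_of_ne_of_ne h1 h3]
    by_cases hωS : ω ∈ S
    · have hhω : h • ω ≠ x := by
        intro e
        apply h1
        rw [hxm, ← e, inv_smul_smul]
      rw [hg2 ω hωS h3, hg1 _ (hS1 ω hωS) hhω, inv_smul_smul]
    · rw [hS3 _ (hginv ω hωS h2), smul_inv_smul, hS4 ω hωS]
  rw [key]
  exact Equiv.Perm.isThreeCycle_swap_mul_swap_same hxmx hxmz hxz

/-- **Marggraf, primitive case**: a primitive action with a Jordan set of size `> 1` and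
`< n/2` induces all even permutations. -/
theorem alternatingGroup_le_range_of_isPreprimitive (hG : MulAction.IsPreprimitive G Ω)
    {Γ : Set Ω} (hΓ : IsJordan G Γ) (h1 : 1 < Γ.ncard) (h2 : 2 * Γ.ncard < Fintype.card Ω) :
    alternatingGroup Ω ≤ (MulAction.toPermHom G Ω).range := by
  classical
  have hP0 := primAt_empty_of_isPreprimitive hG
  have htr := transLvl_card hΓ h1 h2 hP0
  obtain ⟨c, hc⟩ := exists_isThreeCycle hΓ h1 (by omega) htr
  have hprim : MulAction.IsPreprimitive (MulAction.toPermHom G Ω).range Ω := by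
    let φ : G → (MulAction.toPermHom G Ω).range :=
      fun g => ⟨MulAction.toPermHom G Ω g, ⟨g, rfl⟩⟩
    let f : Ω →ₑ[φ] Ω := { toFun := id, map_smul' := fun _ _ => rfl }
    exact MulAction.IsPreprimitive.of_surjective (f := f) Function.surjective_id
  exact Equiv.Perm.alternatingGroup_le_of_isPreprimitive_of_isThreeCycle_mem hprim hc ⟨c, rfl⟩

end Fin

end Cfsg.Agent.Helper20.Marg
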