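import Mathlib
import Cfsg.Agent.Helper20.MargF

set_option autoImplicit false

/-!
# Marggraf's theorem, part G: equivariant quotients and Jordan sets
-/

namespace Cfsg.Agent.Helper20.Marg

open scoped Pointwise

variable {G Ω Q : Type*} [Group G] [MulAction G Ω] [MulAction G Q]

section Quot

variable (π : Ω → Q) (hπ : ∀ (g : G) (ω : Ω), π (g • ω) = g • π ω)

include hπ

theorem fiber_smul (g : G) (t : Q) : π ⁻¹' {g • t} = g • (π ⁻¹' {t}) := by
  ext ω
  simp only [Set.mem_preimage, Set.mem_singleton_iff]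
  constructor
  · intro h
    refine ⟨g⁻¹ • ω, ?_, by simp⟩
    simp only [Set.mem_preimage, Set.mem_singleton_iff]
    rw [hπ, h, inv_smul_smul]
  · rintro ⟨ω', hω', rfl⟩
    simp only [Set.mem_preimage, Set.mem_singleton_iff] at hω'
    rw [hπ, hω']

theorem fiber_ncard_eq [Finite Ω] [MulAction.IsPretransitive G Q] (t t' : Q) :
    (π ⁻¹' {t}).ncard = (π ⁻¹' {t'}).ncard := by
  obtain ⟨g, rfl⟩ := MulAction.exists_smul_eq G t t'
  rw [fiber_smul π hπ, ncard_smul_set']

omit hπ in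
theorem preimage_ncard [Fintype Ω] [Fintype Q] [DecidableEq Ω] [DecidableEq Q] (b : ℕ)
    (hb : ∀ t : Q, (π ⁻¹' {t}).ncard = b) (S : Set Q) :
    (π ⁻¹' S).ncard = b * S.ncard := by
  classical
  have hfinS : S.Finite := Set.toFinite S
  have h1 : (π ⁻¹' S).ncard = (Finset.univ.filter (fun ω => π ω ∈ S)).card := by
    rw [← Set.ncard_coe_finset]
    congr 1
    ext ω
    simp
  rw [h1, Finset.card_eq_sum_card_fiberwise (f := π) (t := hfinS.toFinset)
    (fun ω hω => by
      simp only [Finset.coe_filter, Finset.mem_univ, true_and] at hω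
      simp only [Set.Finite.coe_toFinset]
      exact hω)]
  have h2 : ∀ t ∈ hfinS.toFinset,
      ((Finset.univ.filter (fun ω => π ω ∈ S)).filter (fun ω => π ω = t)).card = b := by
    intro t ht
    rw [Set.Finite.mem_toFinset] at ht
    rw [← hb t, ← Set.ncard_coe_finset]
    congr 1
    ext ω
    simp only [Finset.coe_filter, Finset.mem_filter, Finset.mem_univ, true_and,
      Set.mem_ofPred_eq, Set.mem_preimage, Set.mem_singleton_iff]
    constructor
    · rintro ⟨_, h⟩; exact h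
    · intro h; exact ⟨h ▸ ht, h⟩
  rw [Finset.sum_congr rfl h2, Finset.sum_const, smul_eq_mul,
    ← Set.ncard_eq_toFinset_card S hfinS, mul_comm]

/-- a quasiprimitive group acts faithfully on a nontrivial equivariant quotient -/
theorem faithful_on_quotient
    (hqp : ∀ N : Subgroup G, N.Normal → N ≠ ⊥ → MulAction.IsPretransitive ↥N Ω)
    {ω₁ ω₂ : Ω} (hne : π ω₁ ≠ π ω₂) (x : G) (hx : ∀ t : Q, x • t = t) : x = 1 := by
  set N : Subgroup G := (MulAction.toPermHom G Q).ker with hN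
  have hxN : x ∈ N := by
    rw [hN, MonoidHom.mem_ker]
    ext t
    simp [hx t]
  by_contra hx1
  have hNne : N ≠ ⊥ := by
    intro h
    rw [h, Subgroup.mem_bot] at hxN
    exact hx1 hxN
  have htr := hqp N inferInstance hNne
  obtain ⟨⟨y, hy⟩, hyω⟩ := MulAction.exists_smul_eq (↥N) ω₁ ω₂
  have hyω' : y • ω₁ = ω₂ := hyω
  apply hne
  rw [← hyω', hπ]
  rw [hN, MonoidHom.mem_ker] at hy
  have : (MulAction.toPermHom G Q y) (π ω₁) = π ω₁ := by rw [hy]; rfl
  exact this.symm

/-- trichotomy: a fiber meeting a Jordan set but not contained in it contains it -/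
theorem jordan_subset_fiber {Γ : Set Ω} (hΓ : IsJordan G Γ) {p q : Ω} (hp : p ∈ Γ)
    (hq : q ∉ Γ) (hpq : π p = π q) : ∀ x ∈ Γ, π x = π p := by
  intro x hx
  obtain ⟨h, hh, hpx⟩ := hΓ p hp x hx
  have hq' : h • q = q := hh q hq
  have : h • π q = π q := by rw [← hπ, hq']
  rw [← hpx, hπ, hpq, this]

/-- if a fiber contains the Jordan set then all Jordan elements act trivially on the quotient -/
theorem jordan_trivial_of_subset_fiber (hsurj : Function.Surjective π) {Γ : Set Ω}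
    {t₀ : Q} (hsub : ∀ x ∈ Γ, π x = t₀) {h : G} (hh : FixOn h Γᶜ) (t : Q) : h • t = t := by
  obtain ⟨ω, rfl⟩ := hsurj t
  by_cases hω : ω ∈ Γ
  · rw [← hπ, hsub ω hω, hsub _ (hh.smul_mem_of_compl hω)]
  · rw [← hπ, hh ω hω]

/-- the image of a saturated Jordan set is a Jordan set -/
theorem isJordan_image (hsurj : Function.Surjective π) {Γ : Set Ω} (hΓ : IsJordan G Γ) :
    IsJordan G (π '' Γ) := by
  rintro _ ⟨x, hx, rfl⟩ _ ⟨y, hy, rfl⟩
  obtain ⟨h, hh, hxy⟩ := hΓ x hx y hy
  refine ⟨h, ?_, by rw [← hπ, hxy]⟩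
  intro t ht
  obtain ⟨ω, rfl⟩ := hsurj t
  have hω : ω ∉ Γ := fun hω => ht ⟨ω, hω, rfl⟩
  rw [← hπ, hh ω hω]

end Quot

end Cfsg.Agent.Helper20.Marg
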