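import Mathlib
import Cfsg.Agent.Helper20.MargG

set_option autoImplicit false

/-!
# Marggraf's theorem, part H: point stabilizers in groups inducing the alternating group
-/

namespace Cfsg.Agent.Helper20.Marg

open scoped Pointwise

/-- If `G` acts faithfully on `Q` inducing all even permutations, `t'` is a point and `P` is a
subgroup normalized by the stabilizer of `t'`, fixing `t'` and containing a nontrivial even
element, then `P` contains every even element fixing `t'`. -/
theorem mem_of_even_of_fix {G Q : Type*} [Group G] [MulAction G Q] [Fintype Q] [DecidableEq Q]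
    (hfaith : ∀ x : G, (∀ t : Q, x • t = t) → x = 1)
    (hAlt : alternatingGroup Q ≤ (MulAction.toPermHom G Q).range)
    (t' : Q) (hcard : 6 ≤ Fintype.card Q)
    (P : Subgroup G) (hPfix : ∀ q ∈ P, q • t' = t')
    (hPnorm : ∀ s : G, s • t' = t' → ∀ q ∈ P, s * q * s⁻¹ ∈ P)
    (hPne : ∃ q ∈ P, q ≠ 1 ∧ Equiv.Perm.sign (MulAction.toPerm q : Equiv.Perm Q) = 1)
    (a : G) (ha : Equiv.Perm.sign (MulAction.toPerm a : Equiv.Perm Q) = 1) (hat : a • t' = t') :
    a ∈ P := by
  classical
  -- restriction of elements fixing `t'`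
  have hx₁ : ∀ x : G, x • t' = t' →
      ∀ t : Q, (MulAction.toPerm x : Equiv.Perm Q) t ≠ t' ↔ t ≠ t' := by
    intro x hx t
    rw [MulAction.toPerm_apply, not_iff_not]
    constructor
    · intro h
      have : x • t = x • t' := by rw [h, hx]
      exact MulAction.injective x this
    · rintro rfl; exact hx
  have hx₂ : ∀ x : G, x • t' = t' →
      ∀ t : Q, (MulAction.toPerm x : Equiv.Perm Q) t ≠ t → t ≠ t' := by
    intro x hx t ht htt
    apply ht
    rw [htt, MulAction.toPerm_apply, hx]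
  -- the subgroup of the alternating group of the complement
  let N' : Subgroup (alternatingGroup {t : Q // t ≠ t'}) :=
    { carrier := {σ | ∃ q ∈ P, (MulAction.toPerm q : Equiv.Perm Q)
          = Equiv.Perm.ofSubtype (σ : Equiv.Perm {t : Q // t ≠ t'})}
      one_mem' := ⟨1, P.one_mem, by
        ext t
        simp⟩
      mul_mem' := by
        rintro σ₁ σ₂ ⟨q₁, hq₁, h₁⟩ ⟨q₂, hq₂, h₂⟩
        refine ⟨q₁ * q₂, P.mul_mem hq₁ hq₂, ?_⟩
        have : (MulAction.toPerm (q₁ * q₂) : Equiv.Perm Q)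
            = MulAction.toPerm q₁ * MulAction.toPerm q₂ :=
          map_mul (MulAction.toPermHom G Q) q₁ q₂
        rw [this, h₁, h₂, Subgroup.coe_mul, map_mul]
      inv_mem' := by
        rintro σ ⟨q, hq, h⟩
        refine ⟨q⁻¹, P.inv_mem hq, ?_⟩
        have : (MulAction.toPerm q⁻¹ : Equiv.Perm Q) = (MulAction.toPerm q)⁻¹ :=
          map_inv (MulAction.toPermHom G Q) q
        rw [this, h, Subgroup.coe_inv, map_inv] }
  have hN'mem : ∀ σ : alternatingGroup {t : Q // t ≠ t'}, σ ∈ N' ↔
      ∃ q ∈ P, (MulAction.toPerm q : Equiv.Perm Q)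
          = Equiv.Perm.ofSubtype (σ : Equiv.Perm {t : Q // t ≠ t'}) := fun σ => Iff.rfl
  have hN'normal : N'.Normal := by
    refine ⟨fun n hn g => ?_⟩
    obtain ⟨q, hq, hqn⟩ := (hN'mem n).mp hn
    have hgalt : Equiv.Perm.ofSubtype (g : Equiv.Perm {t : Q // t ≠ t'}) ∈ alternatingGroup Q := by
      rw [Equiv.Perm.mem_alternatingGroup, Equiv.Perm.sign_ofSubtype]
      exact Equiv.Perm.mem_alternatingGroup.mp g.2
    obtain ⟨s, hs⟩ := hAlt hgalt
    have hs' : (MulAction.toPerm s : Equiv.Perm Q)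
        = Equiv.Perm.ofSubtype (g : Equiv.Perm {t : Q // t ≠ t'}) := hs
    have hst : s • t' = t' := by
      have : (MulAction.toPerm s : Equiv.Perm Q) t' = t' := by
        rw [hs']
        exact Equiv.Perm.ofSubtype_apply_of_not_mem _ (by simp)
      exact this
    rw [hN'mem]
    refine ⟨s * q * s⁻¹, hPnorm s hst q hq, ?_⟩
    have e : (MulAction.toPerm (s * q * s⁻¹) : Equiv.Perm Q)
        = MulAction.toPerm s * MulAction.toPerm q * (MulAction.toPerm s)⁻¹ := by
      have h1 : (MulAction.toPermHom G Q) (s * q * s⁻¹) = (MulAction.toPermHom G Q) s *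
          (MulAction.toPermHom G Q) q * ((MulAction.toPermHom G Q) s)⁻¹ := by
        rw [map_mul, map_mul, map_inv]
      exact h1
    rw [e, hs', hqn, Subgroup.coe_mul, Subgroup.coe_mul, Subgroup.coe_inv, map_mul, map_mul,
      map_inv]
  have hN'ne : N' ≠ ⊥ := by
    obtain ⟨q, hq, hq1, hqs⟩ := hPne
    have hqt := hPfix q hq
    set σq : Equiv.Perm {t : Q // t ≠ t'} :=
      Equiv.Perm.subtypePerm (MulAction.toPerm q) (hx₁ q hqt) with hσq
    have hσalt : σq ∈ alternatingGroup {t : Q // t ≠ t'} := by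
      rw [Equiv.Perm.mem_alternatingGroup, hσq,
        Equiv.Perm.sign_subtypePerm _ (hx₁ q hqt) (hx₂ q hqt), hqs]
    have hof : Equiv.Perm.ofSubtype σq = MulAction.toPerm q :=
      Equiv.Perm.ofSubtype_subtypePerm (hx₁ q hqt) (hx₂ q hqt)
    intro hbot
    have hmem : (⟨σq, hσalt⟩ : alternatingGroup {t : Q // t ≠ t'}) ∈ N' := by
      rw [hN'mem]; exact ⟨q, hq, hof.symm⟩
    rw [hbot, Subgroup.mem_bot] at hmem
    have hσ1 : σq = 1 := congrArg Subtype.val hmem
    apply hq1
    apply hfaith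
    intro t
    have : (MulAction.toPerm q : Equiv.Perm Q) t = t := by
      rw [← hof, hσ1, map_one]; rfl
    exact this
  have hcard' : 5 ≤ Nat.card {t : Q // t ≠ t'} := by
    rw [Nat.card_eq_fintype_card]
    have := Set.card_ne_eq t'
    have e : Fintype.card {t : Q // t ≠ t'} = Fintype.card Q - 1 := by
      rw [← this]
      exact Fintype.card_congr (Equiv.refl _)
    omega
  have hsimple := alternatingGroup.isSimpleGroup hcard'
  have hN'top : N' = ⊤ := (hsimple.eq_bot_or_eq_top_of_normal N' hN'normal).resolve_left hN'ne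
  -- apply to `a`
  set σa : Equiv.Perm {t : Q // t ≠ t'} :=
    Equiv.Perm.subtypePerm (MulAction.toPerm a) (hx₁ a hat) with hσa
  have hσaalt : σa ∈ alternatingGroup {t : Q // t ≠ t'} := by
    rw [Equiv.Perm.mem_alternatingGroup, hσa,
      Equiv.Perm.sign_subtypePerm _ (hx₁ a hat) (hx₂ a hat), ha]
  have hofa : Equiv.Perm.ofSubtype σa = MulAction.toPerm a :=
    Equiv.Perm.ofSubtype_subtypePerm (hx₁ a hat) (hx₂ a hat)
  have hmem : (⟨σa, hσaalt⟩ : alternatingGroup {t : Q // t ≠ t'}) ∈ N' := by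
    rw [hN'top]; exact Subgroup.mem_top _
  obtain ⟨q, hq, hqa⟩ := (hN'mem _).mp hmem
  have hqa' : (MulAction.toPerm q : Equiv.Perm Q) = MulAction.toPerm a := by
    rw [hqa]; exact hofa
  have : q⁻¹ * a = 1 := by
    apply hfaith
    intro t
    rw [mul_smul, inv_smul_eq_iff]
    have := congrArg (fun f : Equiv.Perm Q => f t) hqa'
    simpa using this.symm
  have hqa'' : a = q := by
    rw [inv_mul_eq_one] at this
    exact this.symm
  rw [hqa'']
  exact hq

end Cfsg.Agent.Helper20.Marg
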