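import Mathlib
import Cfsg.Agent.Helper20.MargH

set_option autoImplicit false

/-!
# Marggraf's theorem, part I: quasiprimitive groups with a small Jordan set are primitive
-/

namespace Cfsg.Agent.Helper20.Marg

open scoped Pointwise

theorem fixOn_image {G Ω Q : Type*} [Group G] [MulAction G Ω] [MulAction G Q]
    (π : Ω → Q) (hπ : ∀ (g : G) (ω : Ω), π (g • ω) = g • π ω) (hsurj : Function.Surjective π)
    {Γ : Set Ω} {h : G} (hh : FixOn h Γᶜ) : FixOn h (π '' Γ)ᶜ := by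
  intro t ht
  obtain ⟨ω, rfl⟩ := hsurj t
  have hω : ω ∉ Γ := fun hω => ht ⟨ω, hω, rfl⟩
  rw [← hπ, hh ω hω]

theorem quotient_contradiction {G Ω Q : Type*} [Group G] [MulAction G Ω] [MulAction G Q]
    [Fintype Ω] [DecidableEq Ω] [Fintype Q] [DecidableEq Q]
    (hqp : ∀ N : Subgroup G, N.Normal → N ≠ ⊥ → MulAction.IsPretransitive ↥N Ω)
    (π : Ω → Q) (hπ : ∀ (g : G) (ω : Ω), π (g • ω) = g • π ω) (hsurj : Function.Surjective π)
    (hprimQ : MulAction.IsPreprimitive G Q)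
    (hfib : ∃ ω ω' : Ω, ω ≠ ω' ∧ π ω = π ω')
    (hQnt : ∃ ω₁ ω₂ : Ω, π ω₁ ≠ π ω₂)
    {Γ : Set Ω} (hΓ : IsJordan G Γ) (h1 : 1 < Γ.ncard) (h2 : 2 * Γ.ncard < Fintype.card Ω) :
    False := by
  classical
  have hfin : ∀ s : Set Ω, s.Finite := fun s => Set.toFinite s
  have hfinQ : ∀ s : Set Q, s.Finite := fun s => Set.toFinite s
  obtain ⟨ω₁, ω₂, hne12⟩ := hQnt
  have hfaith := faithful_on_quotient π hπ hqp hne12
  -- a nontrivial Jordan element
  have hnt : Γ.Nontrivial := by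
    rw [← Set.one_lt_ncard_iff_nontrivial]; exact h1
  obtain ⟨x, hx, y', hy', hxy'⟩ := hnt
  obtain ⟨h₀, hh₀, hh₀x⟩ := hΓ x hx y' hy'
  have hh₀1 : h₀ ≠ 1 := by
    intro e
    rw [e, one_smul] at hh₀x
    exact hxy' hh₀x
  -- no fiber contains `Γ`
  have hnofib : ¬ ∃ t₀ : Q, ∀ x ∈ Γ, π x = t₀ := by
    rintro ⟨t₀, ht₀⟩
    exact hh₀1 (hfaith h₀ (jordan_trivial_of_subset_fiber π hπ hsurj ht₀ hh₀))
  -- `Γ` is saturated
  have hsat : ∀ p ∈ Γ, ∀ q : Ω, π q = π p → q ∈ Γ := by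
    intro p hp q hpq
    by_contra hq
    exact hnofib ⟨π p, jordan_subset_fiber π hπ hΓ hp hq hpq.symm⟩
  set S₀ : Set Q := π '' Γ with hS₀
  have hS₀J : IsJordan G S₀ := isJordan_image π hπ hsurj hΓ
  have hpre : π ⁻¹' S₀ = Γ := by
    ext ω
    constructor
    · rintro ⟨p, hp, hpω⟩
      exact hsat p hp ω hpω.symm
    · intro hω
      exact ⟨ω, hω, rfl⟩
  -- fibre size
  have : MulAction.IsPretransitive G Q := hprimQ.toIsPretransitive
  set b : ℕ := (π ⁻¹' {π ω₁}).ncard with hb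
  have hbt : ∀ t : Q, (π ⁻¹' {t}).ncard = b := fun t => fiber_ncard_eq π hπ t (π ω₁)
  have hb2 : 2 ≤ b := by
    obtain ⟨ω, ω', hωω', hπω⟩ := hfib
    rw [← hbt (π ω)]
    have : 1 < (π ⁻¹' {π ω}).ncard := by
      rw [Set.one_lt_ncard_iff (hfin _)]
      exact ⟨ω, ω', rfl, hπω.symm, hωω'⟩
    omega
  have hΓcard : Γ.ncard = b * S₀.ncard := by
    rw [← hpre]; exact preimage_ncard π b hbt S₀
  have hΩcard : Fintype.card Ω = b * Fintype.card Q := by
    have := preimage_ncard π b hbt Set.univ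
    rwa [Set.preimage_univ, Set.ncard_univ, Set.ncard_univ, Nat.card_eq_fintype_card,
      Nat.card_eq_fintype_card] at this
  have hS₀1 : 1 < S₀.ncard := by
    by_contra hcon
    push Not at hcon
    have hS₀ne : S₀.Nonempty := ⟨π x, x, hx, rfl⟩
    have : S₀.ncard = 1 := by
      have := (Set.ncard_pos (hfinQ S₀)).mpr hS₀ne
      omega
    rw [Set.ncard_eq_one] at this
    obtain ⟨t₀, ht₀⟩ := this
    apply hnofib
    refine ⟨t₀, fun x hx => ?_⟩
    have : π x ∈ S₀ := ⟨x, hx, rfl⟩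
    rw [ht₀] at this
    exact this
  have hS₀2 : 2 * S₀.ncard < Fintype.card Q := by
    rw [hΓcard, hΩcard] at h2
    have : b * (2 * S₀.ncard) < b * Fintype.card Q := by
      calc b * (2 * S₀.ncard) = 2 * (b * S₀.ncard) := by ring
        _ < b * Fintype.card Q := h2
    exact Nat.lt_of_mul_lt_mul_left this
  have hAlt := alternatingGroup_le_range_of_isPreprimitive hprimQ hS₀J hS₀1 hS₀2
  -- three distinct points of `Γ` and two Jordan elements
  have hΓ3 : 2 < Γ.ncard := by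
    rw [hΓcard]
    calc 2 < 2 * 2 := by norm_num
      _ ≤ b * S₀.ncard := Nat.mul_le_mul hb2 (by omega)
  rw [Set.two_lt_ncard_iff (hfin _)] at hΓ3
  obtain ⟨a, b', c, ha, hb', hc, hab, hac, hbc⟩ := hΓ3
  obtain ⟨h₁, hh₁, hh₁a⟩ := hΓ a ha b' hb'
  obtain ⟨h₂, hh₂, hh₂a⟩ := hΓ a ha c hc
  have hh₁1 : h₁ ≠ 1 := by
    intro e; rw [e, one_smul] at hh₁a; exact hab hh₁a
  have hh₂1 : h₂ ≠ 1 := by
    intro e; rw [e, one_smul] at hh₂a; exact hac hh₂a
  have hh12 : h₁ ≠ h₂ := by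
    intro e; rw [e, hh₂a] at hh₁a; exact hbc hh₁a.symm
  -- `S₀` has at least three points
  have hS₀3 : 3 ≤ S₀.ncard := by
    by_contra hcon
    have h2' : S₀.ncard = 2 := by omega
    rw [Set.ncard_eq_two] at h2'
    obtain ⟨s₁, s₂, hs12, hS₀eq⟩ := h2'
    have hs₁ : s₁ ∈ S₀ := by rw [hS₀eq]; simp
    have hs₂ : s₂ ∈ S₀ := by rw [hS₀eq]; simp
    have key : ∀ h : G, FixOn h Γᶜ → h ≠ 1 → h • s₁ = s₂ ∧ h • s₂ = s₁ := by
      intro h hh hh1
      have hfixS : FixOn h S₀ᶜ := fixOn_image π hπ hsurj hh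
      have m₁ : h • s₁ ∈ S₀ := hfixS.smul_mem_of_compl hs₁
      have m₂ : h • s₂ ∈ S₀ := hfixS.smul_mem_of_compl hs₂
      rw [hS₀eq] at m₁ m₂
      simp only [Set.mem_insert_iff, Set.mem_singleton_iff] at m₁ m₂
      have hinj : h • s₁ ≠ h • s₂ := fun e => hs12 (MulAction.injective h e)
      rcases m₁ with m₁ | m₁
      · exfalso
        apply hh1
        apply hfaith
        intro t
        by_cases ht : t ∈ S₀
        · rw [hS₀eq] at ht
          simp only [Set.mem_insert_iff, Set.mem_singleton_iff] at ht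
          rcases ht with rfl | rfl
          · exact m₁
          · rcases m₂ with m₂ | m₂
            · exact absurd (m₁.trans m₂.symm) hinj
            · exact m₂
        · exact hfixS t ht
      · refine ⟨m₁, ?_⟩
        rcases m₂ with m₂ | m₂
        · exact m₂
        · exact absurd (m₁.trans m₂.symm) hinj
    obtain ⟨k₁, k₁'⟩ := key h₁ hh₁ hh₁1
    obtain ⟨k₂, k₂'⟩ := key h₂ hh₂ hh₂1
    apply hh12
    have : h₁⁻¹ * h₂ = 1 := by
      apply hfaith
      intro t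
      rw [mul_smul, inv_smul_eq_iff]
      by_cases ht : t ∈ S₀
      · rw [hS₀eq] at ht
        simp only [Set.mem_insert_iff, Set.mem_singleton_iff] at ht
        rcases ht with rfl | rfl
        · rw [k₁, k₂]
        · rw [k₁', k₂']
      · rw [fixOn_image π hπ hsurj hh₁ t ht, fixOn_image π hπ hsurj hh₂ t ht]
    rw [inv_mul_eq_one] at this
    exact this
  have hQ6 : 6 ≤ Fintype.card Q := by omega
  -- a fibre outside `Γ`
  have hex : ∃ ω', ω' ∉ Γ := by
    by_contra hcon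
    push Not at hcon
    have : Γ = Set.univ := Set.eq_univ_of_forall hcon
    rw [this, Set.ncard_univ, Nat.card_eq_fintype_card] at h2
    omega
  obtain ⟨ω', hω'⟩ := hex
  set t' : Q := π ω' with ht'
  have hF'Γ : ∀ ω, π ω = t' → ω ∉ Γ := by
    intro ω hω hωΓ
    exact hω' (hsat ω hωΓ ω' hω.symm)
  have hF'2 : 1 < (π ⁻¹' {t'}).ncard := by rw [hbt]; omega
  rw [Set.one_lt_ncard_iff (hfin _)] at hF'2
  obtain ⟨z, z', hz, hz', hzz'⟩ := hF'2
  simp only [Set.mem_preimage, Set.mem_singleton_iff] at hz hz'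
  -- the pointwise stabilizer of the fibre
  set P : Subgroup G := fixingSubgroup G (π ⁻¹' {t'}) with hP
  have hPmem : ∀ q : G, q ∈ P ↔ ∀ ω, π ω = t' → q • ω = ω := by
    intro q
    rw [hP, mem_fixingSubgroup_iff]
    simp only [Set.mem_preimage, Set.mem_singleton_iff]
  have hPfix : ∀ q ∈ P, q • t' = t' := by
    intro q hq
    rw [← hz, ← hπ, (hPmem q).mp hq z hz]
  have hPnorm : ∀ s : G, s • t' = t' → ∀ q ∈ P, s * q * s⁻¹ ∈ P := by
    intro s hs q hq
    rw [hPmem]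
    intro ω hω
    have : π (s⁻¹ • ω) = t' := by
      rw [hπ, hω, inv_smul_eq_iff, hs]
    rw [mul_smul, mul_smul, (hPmem q).mp hq _ this, smul_inv_smul]
  have hJP : ∀ h : G, FixOn h Γᶜ → h ∈ P := by
    intro h hh
    rw [hPmem]
    intro ω hω
    exact hh ω (hF'Γ ω hω)
  have hPne : ∃ q ∈ P, q ≠ 1 ∧ Equiv.Perm.sign (MulAction.toPerm q : Equiv.Perm Q) = 1 := by
    rcases Int.units_eq_one_or (Equiv.Perm.sign (MulAction.toPerm h₁ : Equiv.Perm Q)) with e₁ | e₁
    · exact ⟨h₁, hJP h₁ hh₁, hh₁1, e₁⟩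
    rcases Int.units_eq_one_or (Equiv.Perm.sign (MulAction.toPerm h₂ : Equiv.Perm Q)) with e₂ | e₂
    · exact ⟨h₂, hJP h₂ hh₂, hh₂1, e₂⟩
    refine ⟨h₁ * h₂⁻¹, P.mul_mem (hJP h₁ hh₁) (P.inv_mem (hJP h₂ hh₂)), ?_, ?_⟩
    · intro e
      rw [mul_inv_eq_one] at e
      exact hh12 e
    · have : (MulAction.toPerm (h₁ * h₂⁻¹) : Equiv.Perm Q)
          = MulAction.toPerm h₁ * (MulAction.toPerm h₂)⁻¹ := by
        have h1 : (MulAction.toPermHom G Q) (h₁ * h₂⁻¹) = (MulAction.toPermHom G Q) h₁ *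
            ((MulAction.toPermHom G Q) h₂)⁻¹ := by
          rw [map_mul, map_inv]
        exact h1
      rw [this, map_mul, map_inv, e₁, e₂]
      decide
  -- the even part of `G`
  set A : Subgroup G := (alternatingGroup Q).comap (MulAction.toPermHom G Q) with hA
  have hAnormal : A.Normal := Subgroup.Normal.comap inferInstance _
  have hAmem : ∀ g : G, g ∈ A ↔ Equiv.Perm.sign (MulAction.toPerm g : Equiv.Perm Q) = 1 := by
    intro g
    rw [hA, Subgroup.mem_comap, Equiv.Perm.mem_alternatingGroup]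
    rfl
  have hAne : A ≠ ⊥ := by
    obtain ⟨q, _, hq1, hqs⟩ := hPne
    intro e
    have : q ∈ A := (hAmem q).mpr hqs
    rw [e, Subgroup.mem_bot] at this
    exact hq1 this
  have hAtr := hqp A hAnormal hAne
  obtain ⟨⟨g, hg⟩, hgz⟩ := MulAction.exists_smul_eq (↥A) z z'
  have hgz' : g • z = z' := hgz
  have hgt : g • t' = t' := by
    rw [← hz, ← hπ, hgz', hz', hz]
  have hgP : g ∈ P :=
    mem_of_even_of_fix hfaith hAlt t' hQ6 P hPfix hPnorm hPne g ((hAmem g).mp hg) hgt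
  have := (hPmem g).mp hgP z hz
  rw [hgz'] at this
  exact hzz' this.symm

end Cfsg.Agent.Helper20.Marg
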