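import Mathlib
import Cfsg.Agent.Helper20.MargI

set_option autoImplicit false

/-!
# Marggraf's theorem, part II: a quasiprimitive group with a small Jordan set is primitive
-/

namespace Cfsg.Agent.Helper20.Marg

open scoped Pointwise

theorem isPreprimitive_of_quasiprimitive {G Ω : Type*} [Group G] [Finite G] [MulAction G Ω]
    [Fintype Ω] [DecidableEq Ω]
    (hqp : ∀ N : Subgroup G, N.Normal → N ≠ ⊥ → MulAction.IsPretransitive ↥N Ω)
    {Γ : Set Ω} (hΓ : IsJordan G Γ) (h1 : 1 < Γ.ncard) (h2 : 2 * Γ.ncard < Fintype.card Ω) :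
    MulAction.IsPreprimitive G Ω := by
  classical
  -- a nontrivial Jordan element
  have hnt : Γ.Nontrivial := by
    rw [← Set.one_lt_ncard_iff_nontrivial]; exact h1
  obtain ⟨x, hx, y', hy', hxy'⟩ := hnt
  obtain ⟨h₀, hh₀, hh₀x⟩ := hΓ x hx y' hy'
  have hh₀1 : h₀ ≠ 1 := by
    intro e
    rw [e, one_smul] at hh₀x
    exact hxy' hh₀x
  have htop : (⊤ : Subgroup G) ≠ ⊥ := by
    intro e
    have hm : h₀ ∈ (⊥ : Subgroup G) := e ▸ Subgroup.mem_top h₀
    exact hh₀1 (Subgroup.mem_bot.mp hm)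
  have htrans : MulAction.IsPretransitive G Ω := by
    have := hqp ⊤ inferInstance htop
    constructor
    intro a b
    obtain ⟨⟨g, _⟩, hg⟩ := MulAction.exists_smul_eq (↥(⊤ : Subgroup G)) a b
    exact ⟨g, hg⟩
  have hntΩ : Nontrivial Ω := ⟨⟨x, y', hxy'⟩⟩
  by_contra hnp
  have hcoat : ¬ IsCoatom (MulAction.stabilizer G x) := fun hc =>
    hnp ((MulAction.isCoatom_stabilizer_iff_preprimitive G x).mp hc)
  have hstab_top : MulAction.stabilizer G x ≠ ⊤ := by
    intro e
    have hm : h₀ ∈ MulAction.stabilizer G x := e ▸ Subgroup.mem_top h₀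
    exact hxy' (hm.symm.trans hh₀x)
  obtain ⟨K, hK, hle⟩ := (eq_top_or_exists_le_coatom (MulAction.stabilizer G x)).resolve_left
    hstab_top
  have hKne : MulAction.stabilizer G x ≠ K := fun e => hcoat (e ▸ hK)
  have hlt : MulAction.stabilizer G x < K := lt_of_le_of_ne hle hKne
  obtain ⟨k, hkK, hkS⟩ := SetLike.exists_of_lt hlt
  have hKtop : K ≠ ⊤ := hK.1
  obtain ⟨g₁, hg₁⟩ : ∃ g₁ : G, g₁ ∉ K := by
    by_contra hcon
    push Not at hcon
    exact hKtop (eq_top_iff.mpr fun g _ => hcon g)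
  -- the quotient
  have hfinQ : Fintype (G ⧸ K) := Fintype.ofFinite _
  have hntQ : Nontrivial (G ⧸ K) := by
    refine ⟨⟨((1 : G) : G ⧸ K), (g₁ : G ⧸ K), ?_⟩⟩
    intro e
    rw [QuotientGroup.eq] at e
    simp only [inv_one, one_mul] at e
    exact hg₁ e
  have hprimQ : MulAction.IsPreprimitive G (G ⧸ K) := by
    rw [← MulAction.isCoatom_stabilizer_iff_preprimitive G ((1 : G) : G ⧸ K),
      MulAction.stabilizer_quotient]
    exact hK
  -- the map
  have hex : ∀ ω : Ω, ∃ g : G, g • x = ω := fun ω => MulAction.exists_smul_eq G x ω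
  set π : Ω → G ⧸ K := fun ω => ((Classical.choose (hex ω) : G) : G ⧸ K) with hπdef
  have hπg : ∀ g : G, π (g • x) = (g : G ⧸ K) := by
    intro g
    have hc := Classical.choose_spec (hex (g • x))
    show ((Classical.choose (hex (g • x)) : G) : G ⧸ K) = (g : G ⧸ K)
    generalize Classical.choose (hex (g • x)) = c at hc
    rw [QuotientGroup.eq]
    apply hle
    rw [MulAction.mem_stabilizer_iff, mul_smul, ← hc, inv_smul_smul]
  have hπ : ∀ (g : G) (ω : Ω), π (g • ω) = g • π ω := by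
    intro g ω
    obtain ⟨a, rfl⟩ := hex ω
    rw [← mul_smul, hπg, hπg, MulAction.Quotient.smul_mk, smul_eq_mul]
  have hsurj : Function.Surjective π := by
    intro q
    induction q using QuotientGroup.induction_on with
    | H g => exact ⟨g • x, hπg g⟩
  have hfib : ∃ ω ω' : Ω, ω ≠ ω' ∧ π ω = π ω' := by
    refine ⟨k • x, x, ?_, ?_⟩
    · intro e
      exact hkS e
    · have h1x : π x = ((1 : G) : G ⧸ K) := by
        have := hπg 1
        rwa [one_smul] at this
      rw [hπg, h1x, QuotientGroup.eq]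
      simpa using K.inv_mem hkK
  have hQnt : ∃ ω₁ ω₂ : Ω, π ω₁ ≠ π ω₂ := by
    refine ⟨x, g₁ • x, ?_⟩
    have h1x : π x = ((1 : G) : G ⧸ K) := by
      have := hπg 1
      rwa [one_smul] at this
    rw [hπg, h1x]
    intro e
    rw [QuotientGroup.eq] at e
    simp only [inv_one, one_mul] at e
    exact hg₁ e
  exact quotient_contradiction hqp π hπ hsurj hprimQ hfib hQnt hΓ h1 h2

end Cfsg.Agent.Helper20.Marg
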