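import Mathlib
import Cfsg.Agent.Helper4.McLDefs
import Cfsg.Agent.Helper20.McLDDPART
import Cfsg.Agent.Helper16.McLCLAIMA

set_option autoImplicit false

/-! S5075 pieces CLAIMB2 (`claimB_right`) and PAIRING (`pairing`). -/

namespace Cfsg.Agent.S5075P

variable {p : ℕ} [Fact p.Prime] {V : Type*} [AddCommGroup V] [Module (ZMod p) V]
variable {G : Subgroup (V ≃ₗ[ZMod p] V)}

/-- if `χ - χ ∘ π ∈ CC` then `χ` kills `UU` -/
theorem claimB2_kills {π : V →ₗ[ZMod p] V} {χ : Module.Dual (ZMod p) V}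
    (hc : χ - χ ∘ₗ π ∈ CC G π) {x : V} (hx : x ∈ UU G π) : χ x = 0 := by
  have h1 := hx.2 _ hc
  rw [LinearMap.sub_apply, LinearMap.comp_apply, hx.1, map_zero, sub_zero] at h1
  exact h1

theorem claimB_right [Finite V] {π : V →ₗ[ZMod p] V} (h : SLfull G π)
    (h3 : 3 ≤ Module.finrank (ZMod p) ↥(LinearMap.range π)) {u : V}
    {χ : Module.Dual (ZMod p) V} (hu : InI0 G u χ) :
    ∀ x ∈ UU G π, tv u χ x ∈ UU G π := by
  intro x hx
  rw [tv_apply hu.1.1]
  by_cases hπu : π u = 0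
  · by_cases hex : ∃ ξ₀ ∈ CC G π, ξ₀ u ≠ 0
    · obtain ⟨ξ₀, hξ₀, hξ₀u⟩ := hex
      have hcc : χ - χ ∘ₗ π ∈ CC G π := by
        apply cc_of_partial h h3 (μ₀ := χ ∘ₗ π)
        · rw [LinearMap.sub_comp, LinearMap.comp_assoc, h.idem, sub_self]
        · rw [LinearMap.comp_assoc, h.idem]
        · intro m hπm hm
          rw [LinearMap.comp_apply, hπm] at hm
          have h1 : InI G m ξ₀ := hξ₀.2 m hπm
          have h2 : InI G m χ := h1.lemma1 hu.1 hm hξ₀u
          have h4 : InI G m (χ ∘ₗ π) := by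
            apply h.full m _ hπm
            · rw [LinearMap.comp_assoc, h.idem]
            · rw [LinearMap.comp_apply, hπm, hm]
          exact h2.sub_right h4
      rw [claimB2_kills hcc hx, zero_smul, add_zero]
      exact hx
    · push Not at hex
      have huU : u ∈ UU G π := ⟨hπu, hex⟩
      exact Submodule.add_mem _ hx (Submodule.smul_mem _ _ huU)
  · have hcc : χ - χ ∘ₗ π ∈ CC G π := claimA_right h h3 hu.1 hπu
    rw [claimB2_kills hcc hx, zero_smul, add_zero]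
    exact hx

theorem pairing [Finite V] {π : V →ₗ[ZMod p] V} (h : SLfull G π)
    (h3 : 3 ≤ Module.finrank (ZMod p) ↥(LinearMap.range π))
    (hopp : ∀ v φ, InI0 G v φ → ∃ w ψ, InI G w ψ ∧ φ w ≠ 0 ∧ ψ v ≠ 0) :
    (∀ d ∈ DD G π, (∀ ξ ∈ CC G π, ξ d = 0) → d = 0) ∧
    (∀ ξ ∈ CC G π, (∀ d ∈ DD G π, ξ d = 0) → ξ = 0) := by
  obtain ⟨m, hm0, hπm, -⟩ := ddpart_exists_ker h.idem (by omega) (0 : Module.Dual (ZMod p) V)
  constructor
  · intro d hd hall
    by_contra hd0
    obtain ⟨l, hl⟩ := Module.Projective.exists_dual_ne_zero (ZMod p) hm0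
    set μ : Module.Dual (ZMod p) V := l ∘ₗ π with hμ
    have hμπ : μ ∘ₗ π = μ := by rw [hμ, LinearMap.comp_assoc, h.idem]
    have hμ0 : μ ≠ 0 := by
      intro h0
      apply hl
      have := LinearMap.congr_fun h0 m
      rwa [hμ, LinearMap.comp_apply, hπm] at this
    obtain ⟨w, ψ, hw, hμw, hψd⟩ := hopp d μ ⟨hd.2 μ hμπ, hd0, hμ0⟩
    have hπw : π w ≠ 0 := by
      intro h0
      apply hμw
      rw [← hμπ, LinearMap.comp_apply, h0, map_zero]
    have hcc : ψ - ψ ∘ₗ π ∈ CC G π := claimA_right h h3 hw hπw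
    have := hall _ hcc
    rw [LinearMap.sub_apply, LinearMap.comp_apply, hd.1, map_zero, sub_zero] at this
    exact hψd this
  · intro ξ hξ hall
    by_contra hξ0
    obtain ⟨w, ψ, hw, hξw, hψm⟩ := hopp m ξ ⟨hξ.2 m hπm, hm0, hξ0⟩
    have hψπ : ψ ∘ₗ π ≠ 0 := by
      intro h0
      apply hψm
      have := LinearMap.congr_fun h0 m
      rwa [LinearMap.comp_apply, hπm] at this
    have hdd : w - π w ∈ DD G π := claimA_left h h3 hw hψπ
    have := hall _ hdd
    rw [map_sub, ← LinearMap.comp_apply, hξ.1, LinearMap.zero_apply, sub_zero] at this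
    exact hξw this

end Cfsg.Agent.S5075P
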