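import Mathlib
import Cfsg.Agent.Helper4.MinIdxDefs
import Cfsg.Agent.Helper4.MinIdxCommon
import Cfsg.Agent.Helper4.MinIdxLin
import Cfsg.Agent.Helper5.MinIdxCOUNT2

/-!
# S2140, piece UNIQ: `count_unique` instantiated at `Qc v` and the index-`p` subgroup
`{TS v φ : τ (φ ⬝ᵥ x) = 0}`
-/

set_option autoImplicit false
set_option linter.unusedSectionVars false
set_option linter.unusedVariables false

namespace Cfsg.Agent.S2140P

open Matrix Cfsg.Agent.Helper12.TVG Cfsg.Agent.Helper12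

namespace UNIQ

variable {n : ℕ} {F : Type*} [Field F]

/-- `Qc v` is commutative -/
theorem Qc_comm (v : Fin n → F) (a b : Qc v) : a * b = b * a := by
  obtain ⟨a, φ, h, rfl⟩ := a
  obtain ⟨b, ψ, h', rfl⟩ := b
  apply Subtype.ext
  show TS v φ h * TS v ψ h' = TS v ψ h' * TS v φ h
  have h1 : (φ + ψ) ⬝ᵥ v = 0 := by rw [add_dotProduct, h, h', add_zero]
  have h2 : (ψ + φ) ⬝ᵥ v = 0 := by rw [add_dotProduct, h, h', add_zero]
  rw [TS_mul_TS_cov v φ ψ h h' h1, TS_mul_TS_cov v ψ φ h' h h2]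
  apply Subtype.ext
  show TM v (φ + ψ) = TM v (ψ + φ)
  rw [add_comm]

/-- the covector of an element of `Qc v`, read off with a covector `ψ₀` with `ψ₀ ⬝ᵥ v = 1` -/
def covOf (ψ₀ : Fin n → F) (g : SLn n F) : Fin n → F :=
  ψ₀ ᵥ* (g : Matrix (Fin n) (Fin n) F) - ψ₀

theorem covOf_TS (v ψ₀ : Fin n → F) (h0 : ψ₀ ⬝ᵥ v = 1) (φ : Fin n → F) (h : φ ⬝ᵥ v = 0) :
    covOf ψ₀ (TS v φ h) = φ := by
  unfold covOf
  rw [vecMul_TS, h0, one_smul, add_sub_cancel_left]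

theorem TS_injective (v : Fin n → F) (hv : v ≠ 0) (φ φ' : Fin n → F) (h : φ ⬝ᵥ v = 0)
    (h' : φ' ⬝ᵥ v = 0) (heq : TS v φ h = TS v φ' h') : φ = φ' := by
  obtain ⟨ψ₀, h0⟩ := exists_cov_one v hv
  rw [← covOf_TS v ψ₀ h0 φ h, ← covOf_TS v ψ₀ h0 φ' h', heq]

/-- the bijection `annV v ≃ Qc v` -/
theorem card_Qc [Fintype F] (v : Fin n → F) (hv : v ≠ 0) :
    Nat.card (Qc v) = (Fintype.card F) ^ (n - 1) := by
  rw [← card_annV v hv]
  symm
  apply Nat.card_congr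
  refine Equiv.ofBijective (fun φ : annV v => (⟨TS v φ.1 φ.2, TS_mem_Qc v φ.1 φ.2⟩ : Qc v)) ⟨?_, ?_⟩
  · intro φ φ' heq
    apply Subtype.ext
    exact TS_injective v hv φ.1 φ'.1 φ.2 φ'.2 (congrArg Subtype.val heq)
  · rintro ⟨g, φ, h, rfl⟩
    exact ⟨⟨φ, h⟩, rfl⟩

end UNIQ

section

variable {n : ℕ} {F : Type*} [Field F] [Fintype F]
variable {Ω : Type*} [MulAction (SLn n F) Ω] [Finite Ω]

theorem uniq_Qc (hn : 2 ≤ n) (v : Fin n → F) (hv : v ≠ 0) (f : ℕ)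
    (hf : TransvFix (n := n) (F := F) Ω f) (hd : Nat.card Ω = f + (Fintype.card F) ^ (n - 1))
    (p : ℕ) [Fact p.Prime] [CharP F p] (τ : F →+ ZMod p) (hτ : τ ≠ 0)
    (x : Fin n → F) (hx : ¬ ∃ c : F, x = c • v) :
    ∃ ω₀ : Ω, (∀ φ ∈ fixCov v ω₀, τ (φ ⬝ᵥ x) = 0) ∧
      ∀ ω : Ω, (∀ φ ∈ fixCov v ω, τ (φ ⬝ᵥ x) = 0) →
        ∃ (φ : Fin n → F) (h : φ ⬝ᵥ v = 0), TS v φ h • ω₀ = ω := by
  classical
  have hp : p.Prime := Fact.out
  obtain ⟨ψ₀, h0⟩ := exists_cov_one v hv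
  let instC : CommGroup (Qc v) :=
    { (inferInstance : Group (Qc v)) with mul_comm := UNIQ.Qc_comm v }
  have : Finite (Qc v) := by
    apply Nat.finite_of_card_ne_zero
    rw [UNIQ.card_Qc v hv]
    exact pow_ne_zero _ Fintype.card_ne_zero
  -- the homomorphism `g ↦ τ (φ_g ⬝ᵥ x)`
  have hcov : ∀ g : Qc v, ∃ (φ : Fin n → F) (h : φ ⬝ᵥ v = 0), (g : SLn n F) = TS v φ h :=
    fun g => g.2
  let Φ : Qc v →* Multiplicative (ZMod p) :=
    { toFun := fun g => Multiplicative.ofAdd (τ (UNIQ.covOf ψ₀ (g : SLn n F) ⬝ᵥ x))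
      map_one' := by
        have : UNIQ.covOf ψ₀ ((1 : Qc v) : SLn n F) = 0 := by
          unfold UNIQ.covOf
          simp
        rw [this, zero_dotProduct, map_zero]
        rfl
      map_mul' := by
        intro a b
        obtain ⟨φ, h, ha⟩ := hcov a
        obtain ⟨ψ, h', hb⟩ := hcov b
        have h'' : (φ + ψ) ⬝ᵥ v = 0 := by rw [add_dotProduct, h, h', add_zero]
        have hab : ((a * b : Qc v) : SLn n F) = TS v (φ + ψ) h'' := by
          rw [Subgroup.coe_mul, ha, hb, TS_mul_TS_cov v φ ψ h h' h'']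
        rw [hab, ha, hb, UNIQ.covOf_TS v ψ₀ h0, UNIQ.covOf_TS v ψ₀ h0, UNIQ.covOf_TS v ψ₀ h0,
          add_dotProduct, map_add]
        rfl }
  have hΦ : ∀ (φ : Fin n → F) (h : φ ⬝ᵥ v = 0),
      Φ ⟨TS v φ h, TS_mem_Qc v φ h⟩ = Multiplicative.ofAdd (τ (φ ⬝ᵥ x)) := by
    intro φ h
    show Multiplicative.ofAdd (τ (UNIQ.covOf ψ₀ (TS v φ h) ⬝ᵥ x)) = _
    rw [UNIQ.covOf_TS v ψ₀ h0]
  -- the kernel has index `p`
  have hidx : Φ.ker.index = p := by
    rw [Subgroup.index_ker]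
    -- the range is everything
    obtain ⟨φ₁, h1, h1x⟩ := exists_cov_sep v x hx
    obtain ⟨c, hc⟩ : ∃ c : F, τ c ≠ 0 := by
      by_contra hcon
      push Not at hcon
      exact hτ (AddMonoidHom.ext hcon)
    have hφ0 : (c • φ₁) ⬝ᵥ v = 0 := by rw [smul_dotProduct, h1, smul_zero]
    have hne : Φ ⟨TS v (c • φ₁) hφ0, TS_mem_Qc v _ hφ0⟩ ≠ 1 := by
      rw [hΦ, smul_dotProduct, h1x, smul_eq_mul, mul_one]
      intro h
      exact hc (Multiplicative.ofAdd.injective h)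
    have hcardM : Nat.card (Multiplicative (ZMod p)) = p := by
      rw [Nat.card_eq_fintype_card, Fintype.card_multiplicative, ZMod.card]
    have hdvd : Nat.card Φ.range ∣ p := by
      have := Subgroup.card_subgroup_dvd_card Φ.range
      rwa [hcardM] at this
    rcases (Nat.dvd_prime hp).mp hdvd with h | h
    · exfalso
      rw [Subgroup.card_eq_one] at h
      apply hne
      have hmem : Φ ⟨TS v (c • φ₁) hφ0, TS_mem_Qc v _ hφ0⟩ ∈ Φ.range := ⟨_, rfl⟩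
      rw [h, Subgroup.mem_bot] at hmem
      exact hmem
    · exact h
  -- fixed points of non-identity elements
  have hfix : ∀ y : Qc v, y ≠ 1 → Nat.card (MulAction.fixedBy Ω y) = f := by
    intro y hy
    obtain ⟨φ, h, hyφ⟩ := hcov y
    have hφ : φ ≠ 0 := by
      rintro rfl
      apply hy
      apply Subtype.ext
      rw [hyφ, TS_zero_cov]
      rfl
    have := hf v φ h hv hφ
    have hset : MulAction.fixedBy Ω y = MulAction.fixedBy Ω (TS v φ h) := by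
      ext ω
      simp only [MulAction.mem_fixedBy]
      rw [← hyφ]
      rfl
    rw [hset]
    exact this
  have hd' : Nat.card Ω = f + Nat.card (Qc v) := by rw [UNIQ.card_Qc v hv]; exact hd
  obtain ⟨ω₀, hω₀, hall⟩ := count_unique (Q := Qc v) (X := Ω) f hfix hd' Φ.ker p hp hidx
  -- translation
  have htrans : ∀ ω : Ω, MulAction.stabilizer (Qc v) ω ≤ Φ.ker ↔
      ∀ φ ∈ fixCov v ω, τ (φ ⬝ᵥ x) = 0 := by
    intro ω
    constructor
    · intro hle φ hφ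
      obtain ⟨h, hfixω⟩ := hφ
      have hmem : (⟨TS v φ h, TS_mem_Qc v φ h⟩ : Qc v) ∈ MulAction.stabilizer (Qc v) ω := by
        rw [MulAction.mem_stabilizer_iff]
        exact hfixω
      have := hle hmem
      rw [MonoidHom.mem_ker, hΦ] at this
      exact Multiplicative.ofAdd.injective this
    · intro hall g hg
      obtain ⟨φ, h, hgφ⟩ := hcov g
      rw [MulAction.mem_stabilizer_iff] at hg
      have hφ : φ ∈ fixCov v ω := by
        refine ⟨h, ?_⟩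
        rw [← hgφ]
        exact hg
      have hg' : g = ⟨TS v φ h, TS_mem_Qc v φ h⟩ := Subtype.ext hgφ
      rw [MonoidHom.mem_ker, hg', hΦ, hall φ hφ]
      rfl
  refine ⟨ω₀, (htrans ω₀).mp hω₀, ?_⟩
  intro ω hω
  obtain ⟨g, hg⟩ := hall ω ((htrans ω).mpr hω)
  obtain ⟨φ, h, hgφ⟩ := hcov g
  refine ⟨φ, h, ?_⟩
  rw [← hgφ]
  exact hg

end

end Cfsg.Agent.S2140P
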