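import Mathlib

set_option autoImplicit false

namespace Cfsg.Agent.Helper20

/-- The closure of a conjugation-invariant set is normal. -/
lemma closure_normal_of_forall_conj_mem_set {G : Type*} [Group G] (s : Set G)
    (hs : ∀ g x : G, x ∈ s → g * x * g⁻¹ ∈ s) : (Subgroup.closure s).Normal := by
  constructor
  intro n hn g
  induction hn using Subgroup.closure_induction with
  | mem x hx => exact Subgroup.subset_closure (hs g x hx)
  | one => simp
  | mul a b _ _ iha ihb =>
    have : g * (a * b) * g⁻¹ = (g * a * g⁻¹) * (g * b * g⁻¹) := by group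
    rw [this]; exact mul_mem iha ihb
  | inv a _ iha =>
    have : g * a⁻¹ * g⁻¹ = (g * a * g⁻¹)⁻¹ := by group
    rw [this]; exact inv_mem iha

/-- An involution on a finite type of odd cardinality has a fixed point. -/
lemma exists_fixed_of_involutive_of_odd {α : Type*} [Finite α] (f : α → α)
    (hf : Function.Involutive f) (hodd : Odd (Nat.card α)) : ∃ a, f a = a := by
  classical
  haveI := Fintype.ofFinite α
  let F : Function.End α := f
  have h2 : F ^ 2 ^ 1 = 1 := by
    rw [pow_one, pow_two]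
    funext a
    exact hf a
  have h := Equiv.Perm.card_fixedPoints_modEq (p := 2) (n := 1) (f := F) h2
  rw [Nat.card_eq_fintype_card] at hodd
  by_contra hne
  push Not at hne
  have hempty : Fintype.card (Function.fixedPoints f) = 0 := by
    rw [Fintype.card_eq_zero_iff]
    exact ⟨fun ⟨a, ha⟩ => hne a ha⟩
  rw [hempty] at h
  have : Fintype.card α % 2 = 0 := h
  rw [Nat.odd_iff] at hodd
  omega

/-- In a group of odd order, only the identity is conjugate to its inverse. -/
lemma eq_one_of_conj_inv_of_odd {Q : Type*} [Group Q] [Finite Q] (hodd : Odd (Nat.card Q))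
    (g h : Q) (hgh : h * g * h⁻¹ = g⁻¹) : g = 1 := by
  have h2 : h ^ 2 * g * (h ^ 2)⁻¹ = g := by
    calc h ^ 2 * g * (h ^ 2)⁻¹ = h * (h * g * h⁻¹) * h⁻¹ := by rw [pow_two]; group
      _ = h * g⁻¹ * h⁻¹ := by rw [hgh]
      _ = (h * g * h⁻¹)⁻¹ := by group
      _ = g := by rw [hgh, inv_inv]
  have hoh : Odd (orderOf h) := Odd.of_dvd_nat hodd (orderOf_dvd_natCard h)
  obtain ⟨m, hm⟩ := exists_pow_eq_self_of_coprime (n := 2) (x := h) hoh.coprime_two_left
  have hc : Commute (h ^ 2) g := by
    rw [commute_iff_eq]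
    calc h ^ 2 * g = (h ^ 2 * g * (h ^ 2)⁻¹) * h ^ 2 := by simp
      _ = g * h ^ 2 := by rw [h2]
  have hc' : Commute h g := by
    rw [← hm]; exact hc.pow_left m
  have hgg : g = g⁻¹ := by
    rw [← hgh, hc'.eq]; group
  have hg2 : g ^ 2 = 1 := by
    rw [pow_two]; nth_rw 2 [hgg]; exact mul_inv_cancel g
  have hog : Odd (orderOf g) := Odd.of_dvd_nat hodd (orderOf_dvd_natCard g)
  have hd : orderOf g ∣ 2 := orderOf_dvd_of_pow_eq_one hg2
  rw [← orderOf_eq_one_iff]
  rcases (Nat.dvd_prime Nat.prime_two).1 hd with h1 | h1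
  · exact h1
  · rw [h1] at hog; exact absurd hog (by decide)

end Cfsg.Agent.Helper20
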