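import Mathlib
import Cfsg.Prelude.Def_GeometricClasses
import Cfsg.Agent.Helper28.OrthSim3
import Cfsg.Agent.Helper8.OS6Defs
import Cfsg.Agent.Helper18.OS6SPUNIVC
import Cfsg.Agent.Helper23.OS6SPLINE

set_option autoImplicit false

/-! S5798 (sl6 table), os6 chapter SPREAD, piece SPALL: `Psi ⊇ e^⊥`. -/

namespace Cfsg.Agent.OS6P

open Matrix Module Cfsg.Agent.Helper28.Sg Cfsg.Agent.Helper28.Spin Cfsg.Agent.Helper28.SLMax
  Cfsg.Agent.Helper28.SimMax Cfsg.Agent.Helper28.OSim

variable {F : Type*} [Field F] {n : ℕ} {Q : QuadraticForm F (Fin n → F)}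

namespace SPALL

/-- case (i): `u ⊥ e, z` with `Q u ≠ - Q z`. -/
theorem stepi (h2 : (2 : F) ≠ 0) {M : Subgroup (Matrix.GeneralLinearGroup (Fin n) F)}
    (hHM : Cfsg.Geo.quadSimilarityGroup (⇑Q) ⊓ SL n F ≤ M) {e z : Fin n → F}
    (he : Q e ≠ 0) (hz : Q z ≠ 0) (hez : B Q e z = 0) (hzΨ : z ∈ Psi Q M e)
    {u : Fin n → F} (heu : B Q e u = 0) (hzu : B Q z u = 0) (hu : Q u ≠ - Q z) :
    u ∈ Psi Q M e := by
  have hy : Q (z + u) ≠ 0 := by
    rw [Q_add, hzu, add_zero]
    intro h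
    apply hu
    linear_combination h
  have hey : B Q e (z + u) = 0 := by
    show QuadraticMap.polar ⇑Q e (z + u) = 0
    rw [QuadraticMap.polar_add_right]
    show B Q e z + B Q e u = 0
    rw [hez, heu, add_zero]
  have hzy : B Q (z + u) z ≠ 0 := by
    have h1 : B Q (z + u) z = B Q z z + B Q u z := by
      show QuadraticMap.polar ⇑Q (z + u) z = _
      rw [QuadraticMap.polar_add_left]
    rw [h1, B_self, B_comm Q u z, hzu, add_zero]
    exact mul_ne_zero h2 hz
  have hyΨ : z + u ∈ Psi Q M e := SPLINE.step hHM he hzΨ hy hey hzy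
  have := SPLINE.sub hyΨ hzΨ
  rwa [add_sub_cancel_left] at this

/-- `u ⊥ e, z` is in `Psi`. -/
theorem perp2 [Finite F] (h2 : (2 : F) ≠ 0) (hQ : (QuadraticMap.polarBilin Q).Nondegenerate)
    (hn : 5 ≤ n) {M : Subgroup (Matrix.GeneralLinearGroup (Fin n) F)}
    (hHM : Cfsg.Geo.quadSimilarityGroup (⇑Q) ⊓ SL n F ≤ M) {e z : Fin n → F}
    (he : Q e ≠ 0) (hz : Q z ≠ 0) (hez : B Q e z = 0) (hzΨ : z ∈ Psi Q M e)
    {u : Fin n → F} (heu : B Q e u = 0) (hzu : B Q z u = 0) : u ∈ Psi Q M e := by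
  by_cases hu : Q u = - Q z
  · have hu0 : Q u ≠ 0 := by
      rw [hu]
      exact neg_ne_zero.mpr hz
    obtain ⟨v, hev, hzv, huv, hQv⟩ := SPUNIVC.three h2 hQ hn he hz hu0 hez heu hzu (Q z)
    have hvΨ : v ∈ Psi Q M e := by
      apply stepi h2 hHM he hz hez hzΨ hev hzv
      rw [hQv]
      intro h
      have h3 : (2 : F) * Q z = 0 := by linear_combination h
      exact mul_ne_zero h2 hz h3
    have huvΨ : u - v ∈ Psi Q M e := by
      have h1 : B Q e (u - v) = 0 := by
        show QuadraticMap.polar ⇑Q e (u - v) = 0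
        rw [QuadraticMap.polar_sub_right]
        show B Q e u - B Q e v = 0
        rw [heu, hev, sub_zero]
      have h2' : B Q z (u - v) = 0 := by
        show QuadraticMap.polar ⇑Q z (u - v) = 0
        rw [QuadraticMap.polar_sub_right]
        show B Q z u - B Q z v = 0
        rw [hzu, hzv, sub_zero]
      apply stepi h2 hHM he hz hez hzΨ h1 h2'
      have h3 : Q (u - v) = Q u + Q v - B Q u v := by
        have h4 := Q_add Q (u - v) v
        rw [sub_add_cancel] at h4
        have h5 : B Q (u - v) v = B Q u v - B Q v v := by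
          show QuadraticMap.polar ⇑Q (u - v) v = _
          rw [QuadraticMap.polar_sub_left]
        rw [h5, B_self] at h4
        linear_combination -h4
      rw [h3, huv, hu, hQv]
      intro h
      apply hz
      linear_combination h
    have := SPLINE.add huvΨ hvΨ
    rwa [sub_add_cancel] at this
  · exact stepi h2 hHM he hz hez hzΨ heu hzu hu

end SPALL

theorem SPALL.main [Finite F] (h2 : (2 : F) ≠ 0) (hQ : (QuadraticMap.polarBilin Q).Nondegenerate)
    (hn : 5 ≤ n) {M : Subgroup (Matrix.GeneralLinearGroup (Fin n) F)}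
    (hHM : Cfsg.Geo.quadSimilarityGroup (⇑Q) ⊓ SL n F ≤ M) {e z : Fin n → F}
    (he : Q e ≠ 0) (hz : Q z ≠ 0) (hez : B Q e z = 0) (hzΨ : z ∈ Psi Q M e) :
    ∀ c : Fin n → F, B Q e c = 0 → c ∈ Psi Q M e := by
  intro c hec
  set α : F := B Q z c / (2 * Q z) with hα
  have h2z : (2 : F) * Q z ≠ 0 := mul_ne_zero h2 hz
  have heu : B Q e (c - α • z) = 0 := by
    show QuadraticMap.polar ⇑Q e (c - α • z) = 0
    rw [QuadraticMap.polar_sub_right, QuadraticMap.polar_smul_right]
    show B Q e c - α • B Q e z = 0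
    rw [hec, hez, smul_zero, sub_zero]
  have hzu : B Q z (c - α • z) = 0 := by
    show QuadraticMap.polar ⇑Q z (c - α • z) = 0
    rw [QuadraticMap.polar_sub_right, QuadraticMap.polar_smul_right]
    show B Q z c - α • B Q z z = 0
    rw [B_self, hα, smul_eq_mul, div_mul_cancel₀ _ h2z, sub_self]
  have huΨ := SPALL.perp2 h2 hQ hn hHM he hz hez hzΨ heu hzu
  have := SPLINE.add (SPLINE.smul α hzΨ) huΨ
  rwa [add_sub_cancel] at this

end Cfsg.Agent.OS6P
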