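import Mathlib
import Cfsg.Prelude.Def_Characters
import Cfsg.Prelude.Def_Perm
import Cfsg.Agent.Helper20.PermCharB
import Cfsg.Agent.Helper20.PermCharI
import Cfsg.Agent.Helper24.Expansion
import Cfsg.Agent.Helper24.Rep
import Cfsg.Agent.Helper24.CharBasic

/-!
# The commutant of a representation: dimension and the multiplicity-free case
-/

set_option autoImplicit false

namespace Cfsg.Agent.Helper20.PermChar

open Cfsg Cfsg.Agent.Helper24 Module

universe u v

section Commutant

variable {G : Type u} [Group G] [Fintype G]
variable {V : Type v} [AddCommGroup V] [Module ℂ V]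

/-- Membership in the invariants of `linHom σ σ` means commuting with the action. -/
theorem mem_commutant_iff (σ : Representation ℂ G V) (S : Module.End ℂ V) :
    S ∈ (σ.linHom σ).invariants ↔ ∀ g : G, σ g * S = S * σ g := by
  rw [Representation.mem_invariants]
  constructor
  · intro h g
    have h1 := h g
    rw [Representation.linHom_apply] at h1
    have h2 : σ g⁻¹ * σ g = 1 := by rw [← map_mul, inv_mul_cancel, map_one]
    calc σ g * S = (σ g ∘ₗ S ∘ₗ σ g⁻¹) * σ g := by
          rw [Module.End.mul_eq_comp, Module.End.mul_eq_comp, LinearMap.comp_assoc,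
            LinearMap.comp_assoc, ← Module.End.mul_eq_comp (σ g⁻¹), h2, Module.End.one_eq_id,
            LinearMap.comp_id]
      _ = S * σ g := by rw [h1]
  · intro h g
    rw [Representation.linHom_apply]
    have h2 : σ g * σ g⁻¹ = 1 := by rw [← map_mul, mul_inv_cancel, map_one]
    calc σ g ∘ₗ S ∘ₗ σ g⁻¹ = (σ g * S) * σ g⁻¹ := by
          rw [Module.End.mul_eq_comp, Module.End.mul_eq_comp, LinearMap.comp_assoc]
      _ = S := by rw [h g, mul_assoc, h2, mul_one]

variable [FiniteDimensional ℂ V]

/-- The dimension of the commutant is `⟨χ_σ, χ_σ⟩`. -/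
theorem finrank_commutant (σ : Representation ℂ G V) :
    (finrank ℂ (σ.linHom σ).invariants : ℂ) = classInner σ.character σ.character := by
  haveI : Invertible (Nat.card G : ℂ) :=
    invertibleOfNonzero (by exact_mod_cast (Nat.card_pos (α := G)).ne')
  rw [← Representation.card_inv_mul_sum_char_eq_finrank]
  unfold classInner
  congr 1
  refine Finset.sum_congr rfl ?_
  intro g _
  rw [Representation.char_linHom, char_inv, mul_comm]

/-- `centIdem` lies in the commutant. -/
theorem centIdem_mem_commutant (σ : Representation ℂ G V) (χ : IrrCharacter G) :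
    centIdem σ (χ : G → ℂ) ∈ (σ.linHom σ).invariants :=
  (mem_commutant_iff σ _).2 (fun g => centIdem_comm σ χ g)

/-- `centIdem` is nonzero when the multiplicity is nonzero. -/
theorem centIdem_ne_zero (σ : Representation ℂ G V) (χ : IrrCharacter G)
    (h : classInner σ.character (χ : G → ℂ) ≠ 0) : centIdem σ (χ : G → ℂ) ≠ 0 := by
  intro h0
  have := trace_centIdem σ χ
  rw [h0, map_zero] at this
  exact mul_ne_zero (irr_one_ne_zero χ) h this.symm

/-- The central idempotents with nonzero multiplicity are linearly independent. -/
theorem linearIndependent_centIdem (σ : Representation ℂ G V) :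
    LinearIndependent ℂ
      (fun χ : {χ : IrrCharacter G // classInner σ.character (χ : G → ℂ) ≠ 0} =>
        centIdem σ ((χ : IrrCharacter G) : G → ℂ)) := by
  classical
  rw [linearIndependent_iff']
  intro s c hc j hj
  have h1 := congrArg (fun X => centIdem σ ((j : IrrCharacter G) : G → ℂ) * X) hc
  simp only [Finset.mul_sum, mul_smul_comm, mul_zero] at h1
  simp_rw [centIdem_mul] at h1
  rw [Finset.sum_eq_single j] at h1
  · rw [if_pos rfl] at h1
    rcases smul_eq_zero.mp h1 with h2 | h2
    · exact h2
    · exact absurd h2 (centIdem_ne_zero σ j j.2)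
  · intro i _ hij
    have : ¬ ((j : IrrCharacter G) = (i : IrrCharacter G)) := fun h => hij (Subtype.ext h.symm)
    rw [if_neg this, smul_zero]
  · intro h; exact absurd hj h

/-- `⟨χ_σ, χ_σ⟩` as the sum of the squares of the multiplicities. -/
theorem classInner_character_self (σ : Representation ℂ G V) [Fintype (IrrCharacter G)] :
    classInner σ.character σ.character =
      ∑ χ : IrrCharacter G, classInner σ.character (χ : G → ℂ) *
        (starRingEnd ℂ) (classInner σ.character (χ : G → ℂ)) := by
  have h := IsCharacter.eq_sum_classInner (isCharacter_character σ)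
  have h2 := classInner_sum_sum (fun χ : IrrCharacter G => classInner σ.character (χ : G → ℂ))
    (fun χ : IrrCharacter G => classInner σ.character (χ : G → ℂ))
  have h3 : (∑ ψ : IrrCharacter G, classInner σ.character (ψ : G → ℂ) • (ψ : G → ℂ)) =
      σ.character := by
    rw [← h]
  rw [h3] at h2
  convert h2

/-- In the multiplicity-free case the commutant is spanned by the central idempotents. -/
theorem commutant_eq_span_of_multFree (σ : Representation ℂ G V)
    (h : ∀ χ : IrrCharacter G, classInner σ.character (χ : G → ℂ) = 0 ∨
      classInner σ.character (χ : G → ℂ) = 1) :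
    (σ.linHom σ).invariants = Submodule.span ℂ (Set.range
      (fun χ : {χ : IrrCharacter G // classInner σ.character (χ : G → ℂ) ≠ 0} =>
        centIdem σ ((χ : IrrCharacter G) : G → ℂ))) := by
  classical
  haveI : Fintype (IrrCharacter G) := Fintype.ofFinite _
  symm
  apply Submodule.eq_of_le_of_finrank_eq
  · rw [Submodule.span_le]
    rintro _ ⟨χ, rfl⟩
    exact centIdem_mem_commutant σ χ
  · rw [finrank_span_eq_card (linearIndependent_centIdem σ)]
    have h1 := finrank_commutant σ
    rw [classInner_character_self] at h1
    have h2 : ∀ χ : IrrCharacter G, classInner σ.character (χ : G → ℂ) *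
        (starRingEnd ℂ) (classInner σ.character (χ : G → ℂ)) =
        if classInner σ.character (χ : G → ℂ) ≠ 0 then 1 else 0 := by
      intro χ
      rcases h χ with h0 | h0
      · rw [h0]; simp
      · rw [h0]; simp
    simp_rw [h2] at h1
    rw [Finset.sum_boole] at h1
    have h3 : finrank ℂ (σ.linHom σ).invariants =
        (Finset.univ.filter
          (fun χ : IrrCharacter G => classInner σ.character (χ : G → ℂ) ≠ 0)).card := by
      exact_mod_cast h1
    rw [h3, Fintype.card_subtype]

/-- In the multiplicity-free case the commutant is commutative. -/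
theorem commutant_comm_of_multFree (σ : Representation ℂ G V)
    (h : ∀ χ : IrrCharacter G, classInner σ.character (χ : G → ℂ) = 0 ∨
      classInner σ.character (χ : G → ℂ) = 1)
    (S T : Module.End ℂ V) (hS : S ∈ (σ.linHom σ).invariants)
    (hT : T ∈ (σ.linHom σ).invariants) : S * T = T * S := by
  classical
  rw [commutant_eq_span_of_multFree σ h] at hS hT
  have key : ∀ (χ : IrrCharacter G) (X : Module.End ℂ V),
      X ∈ Submodule.span ℂ (Set.range
      (fun χ : {χ : IrrCharacter G // classInner σ.character (χ : G → ℂ) ≠ 0} =>
        centIdem σ ((χ : IrrCharacter G) : G → ℂ))) →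
      centIdem σ (χ : G → ℂ) * X = X * centIdem σ (χ : G → ℂ) := by
    intro χ X hX
    induction hX using Submodule.span_induction with
    | mem x hx =>
      obtain ⟨ψ, rfl⟩ := hx
      simp only
      rw [centIdem_mul, centIdem_mul]
      by_cases hχψ : χ = (ψ : IrrCharacter G)
      · rw [if_pos hχψ, if_pos hχψ.symm, hχψ]
      · rw [if_neg hχψ, if_neg (fun h' => hχψ h'.symm)]
    | zero => simp
    | add x y _ _ hx hy => rw [mul_add, add_mul, hx, hy]
    | smul c x _ hx => rw [mul_smul_comm, smul_mul_assoc, hx]
  induction hS using Submodule.span_induction with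
  | mem x hx =>
    obtain ⟨χ, rfl⟩ := hx
    exact key χ T hT
  | zero => simp
  | add x y _ _ hx hy => rw [mul_add, add_mul, hx, hy]
  | smul c x _ hx => rw [mul_smul_comm, smul_mul_assoc, hx]

end Commutant

end Cfsg.Agent.Helper20.PermChar
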