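import Mathlib
import Cfsg.Prelude.Def_Characters
import Cfsg.Agent.Helper20.PermCharJ

/-!
# A commutative commutant forces multiplicity-freeness
-/

set_option autoImplicit false

namespace Cfsg.Agent.Helper20.PermChar

open Cfsg Cfsg.Agent.Helper24 Module

universe u v w

section LeftInv

variable {G : Type u} [Group G] [Fintype G]
variable {V : Type v} [AddCommGroup V] [Module ℂ V]
variable {W : Type w} [AddCommGroup W] [Module ℂ W]

/-- An injective intertwining map has an equivariant left inverse (Maschke). -/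
theorem exists_equivariant_leftInverse (ρ : Representation ℂ G W) (σ : Representation ℂ G V)
    (φ : W →ₗ[ℂ] V) (hφ : ∀ g : G, φ ∘ₗ ρ g = σ g ∘ₗ φ) (hinj : Function.Injective φ) :
    ∃ ψ : V →ₗ[ℂ] W, (∀ g : G, ψ ∘ₗ σ g = ρ g ∘ₗ ψ) ∧ ψ ∘ₗ φ = LinearMap.id := by
  have hG : (Fintype.card G : ℂ) ≠ 0 := by exact_mod_cast Fintype.card_ne_zero
  obtain ⟨ψ₀, hψ₀⟩ := LinearMap.exists_leftInverse_of_injective φ (LinearMap.ker_eq_bot.mpr hinj)
  refine ⟨(Fintype.card G : ℂ)⁻¹ • ∑ g : G, ρ g ∘ₗ ψ₀ ∘ₗ σ g⁻¹, ?_, ?_⟩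
  · intro h
    ext v
    simp only [LinearMap.comp_apply, LinearMap.smul_apply, LinearMap.sum_apply, map_smul, map_sum]
    congr 1
    rw [← Equiv.sum_comp (Equiv.mulLeft h)
      (fun g : G => (ρ g) (ψ₀ ((σ g⁻¹) ((σ h) v))))]
    refine Finset.sum_congr rfl ?_
    intro k _
    rw [Equiv.coe_mulLeft]
    simp only [map_mul, Module.End.mul_apply, mul_inv_rev]
    rw [← Module.End.mul_apply (σ h⁻¹) (σ h), ← map_mul, inv_mul_cancel, map_one,
      Module.End.one_apply]
  · ext v
    simp only [LinearMap.comp_apply, LinearMap.smul_apply, LinearMap.sum_apply,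
      LinearMap.id_apply]
    have h1 : ∀ g : G, (ρ g) (ψ₀ ((σ g⁻¹) (φ v))) = v := by
      intro g
      have h2 : (σ g⁻¹) (φ v) = φ (ρ g⁻¹ v) := by
        have := congrArg (fun f => f v) (hφ g⁻¹)
        simpa using this.symm
      have h3 : ψ₀ (φ (ρ g⁻¹ v)) = ρ g⁻¹ v := by
        have := congrArg (fun f => f (ρ g⁻¹ v)) hψ₀
        simpa using this
      rw [h2, h3, ← Module.End.mul_apply, ← map_mul, mul_inv_cancel, map_one,
        Module.End.one_apply]
    simp_rw [h1]
    rw [Finset.sum_const, Finset.card_univ, ← Nat.cast_smul_eq_nsmul ℂ, smul_smul,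
      inv_mul_cancel₀ hG, one_smul]

end LeftInv

section Main

variable {G : Type u} [Group G] [Fintype G]
variable {V : Type v} [AddCommGroup V] [Module ℂ V]
variable {W : Type w} [AddCommGroup W] [Module ℂ W] [FiniteDimensional ℂ W]

/-- Schur's lemma: an endomorphism of an irreducible complex representation commuting with
the action is a scalar. -/
theorem schur_scalar (ρ : Representation ℂ G W) [ρ.IsIrreducible] (f : Module.End ℂ W)
    (hf : ∀ g : G, f ∘ₗ ρ g = ρ g ∘ₗ f) : ∃ c : ℂ, f = c • (LinearMap.id : W →ₗ[ℂ] W) := by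
  let T : Representation.IntertwiningMap ρ ρ :=
    { toLinearMap := f
      isIntertwining' := hf }
  obtain ⟨c, hc⟩ :=
    (Representation.IsIrreducible.algebraMap_intertwiningMap_bijective_of_isAlgClosed (ρ := ρ)).2 T
  refine ⟨c, ?_⟩
  have := congrArg Representation.IntertwiningMap.toLinearMap hc
  rw [Representation.IntertwiningMap.algebraMap_apply] at this
  exact this.symm

/-- If the commutant of `σ` is commutative, an irreducible `ρ` has at most a one-dimensional
space of intertwining maps into `σ`. -/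
theorem finrank_intertwining_le_one (ρ : Representation ℂ G W) [ρ.IsIrreducible]
    (σ : Representation ℂ G V)
    (hcomm : ∀ S T : Module.End ℂ V, S ∈ (σ.linHom σ).invariants →
      T ∈ (σ.linHom σ).invariants → S * T = T * S) :
    finrank ℂ (Representation.IntertwiningMap ρ σ) ≤ 1 := by
  by_cases hex : ∃ φ₁ : Representation.IntertwiningMap ρ σ, φ₁ ≠ 0
  · obtain ⟨φ₁, h1⟩ := hex
    have hinj : Function.Injective φ₁ :=
      (Representation.IsIrreducible.injective_or_eq_zero φ₁).resolve_right h1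
    obtain ⟨ψ, hψ, hψφ⟩ := exists_equivariant_leftInverse ρ σ φ₁.toLinearMap
      φ₁.isIntertwining' hinj
    apply finrank_le_one φ₁
    intro φ₂
    have hcomm2 : ∀ g : G, (ψ ∘ₗ φ₂.toLinearMap) ∘ₗ ρ g = ρ g ∘ₗ (ψ ∘ₗ φ₂.toLinearMap) := by
      intro g
      rw [LinearMap.comp_assoc, φ₂.isIntertwining' g, ← LinearMap.comp_assoc, hψ g,
        LinearMap.comp_assoc]
    obtain ⟨c, hc⟩ := schur_scalar ρ (ψ ∘ₗ φ₂.toLinearMap) hcomm2
    refine ⟨c, ?_⟩
    -- the difference
    set L : W →ₗ[ℂ] V := φ₂.toLinearMap - c • φ₁.toLinearMap with hL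
    have hLint : ∀ g : G, L ∘ₗ ρ g = σ g ∘ₗ L := by
      intro g
      rw [hL, LinearMap.sub_comp, LinearMap.comp_sub, LinearMap.smul_comp, LinearMap.comp_smul,
        φ₂.isIntertwining' g, φ₁.isIntertwining' g]
    have hψL : ψ ∘ₗ L = 0 := by
      rw [hL, LinearMap.comp_sub, LinearMap.comp_smul, hc, hψφ, sub_self]
    have hS : (φ₁.toLinearMap ∘ₗ ψ : Module.End ℂ V) ∈ (σ.linHom σ).invariants := by
      rw [mem_commutant_iff]
      intro g
      rw [Module.End.mul_eq_comp, Module.End.mul_eq_comp, ← LinearMap.comp_assoc,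
        ← φ₁.isIntertwining' g, LinearMap.comp_assoc, ← hψ g, LinearMap.comp_assoc]
    have hT : (L ∘ₗ ψ : Module.End ℂ V) ∈ (σ.linHom σ).invariants := by
      rw [mem_commutant_iff]
      intro g
      rw [Module.End.mul_eq_comp, Module.End.mul_eq_comp, ← LinearMap.comp_assoc,
        ← hLint g, LinearMap.comp_assoc, ← hψ g, LinearMap.comp_assoc]
    have h2 := hcomm _ _ hS hT
    rw [Module.End.mul_eq_comp, Module.End.mul_eq_comp] at h2
    have h3 : (φ₁.toLinearMap ∘ₗ ψ) ∘ₗ (L ∘ₗ ψ) = 0 := by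
      rw [LinearMap.comp_assoc, ← LinearMap.comp_assoc ψ L ψ, hψL, LinearMap.zero_comp,
        LinearMap.comp_zero]
    have h4 : (L ∘ₗ ψ) ∘ₗ (φ₁.toLinearMap ∘ₗ ψ) = L ∘ₗ ψ := by
      rw [LinearMap.comp_assoc, ← LinearMap.comp_assoc ψ φ₁.toLinearMap ψ, hψφ,
        LinearMap.id_comp]
    rw [h3, h4] at h2
    have h5 : L = 0 := by
      have : L = (L ∘ₗ ψ) ∘ₗ φ₁.toLinearMap := by
        rw [LinearMap.comp_assoc, hψφ, LinearMap.comp_id]
      rw [this, ← h2, LinearMap.zero_comp]
    apply Representation.IntertwiningMap.toLinearMap_injective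
    change (c • φ₁).toLinearMap = φ₂.toLinearMap
    rw [Representation.IntertwiningMap.toLinearMap_smul]
    rw [hL, sub_eq_zero] at h5
    exact h5.symm
  · push Not at hex
    apply finrank_le_one (0 : Representation.IntertwiningMap ρ σ)
    intro w
    exact ⟨0, by rw [hex w, smul_zero]⟩

end Main

section MultFree

variable {G : Type u} [Group G] [Fintype G]
variable {V : Type v} [AddCommGroup V] [Module ℂ V] [FiniteDimensional ℂ V]

/-- A commutative commutant forces every irreducible multiplicity to be `0` or `1`. -/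
theorem multFree_of_commutant_comm (σ : Representation ℂ G V)
    (hcomm : ∀ S T : Module.End ℂ V, S ∈ (σ.linHom σ).invariants →
      T ∈ (σ.linHom σ).invariants → S * T = T * S)
    (χ : G → ℂ) (hχ : IsIrrCharacter G χ) :
    classInner σ.character χ = 0 ∨ classInner σ.character χ = 1 := by
  obtain ⟨d, ρ, hirr, rfl⟩ := hχ
  haveI := hirr
  haveI : Invertible (Nat.card G : ℂ) :=
    invertibleOfNonzero (by exact_mod_cast (Nat.card_pos (α := G)).ne')
  have h1 := Representation.card_inv_mul_sum_char_mul_char_eq_finrank ρ σ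
  have h2 : classInner σ.character ρ.character =
      (finrank ℂ (Representation.IntertwiningMap ρ σ) : ℂ) := by
    rw [← h1]
    unfold classInner
    congr 1
    refine Finset.sum_congr rfl ?_
    intro g _
    rw [char_inv]
  have h3 := finrank_intertwining_le_one ρ σ hcomm
  rw [h2]
  interval_cases (finrank ℂ (Representation.IntertwiningMap ρ σ))
  · left; simp
  · right; simp

end MultFree

end Cfsg.Agent.Helper20.PermChar
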