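import Mathlib
import Cfsg.Prelude.Def_Characters
import Cfsg.Prelude.Def_Perm
import Cfsg.Agent.Helper20.PermCharK

/-!
# The permutation representation: matrices, character, commutant
-/

set_option autoImplicit false

namespace Cfsg.Agent.Helper20.PermChar

open Cfsg Cfsg.Agent.Helper24 Module

section PermRep

variable {G : Type*} [Group G] {Ω : Type*} [Fintype Ω] [MulAction G Ω]

theorem permRep_apply (g : G) (f : Ω → ℂ) (x : Ω) :
    (Cfsg.permRep ℂ G Ω g) f x = f (g⁻¹ • x) := rfl

theorem toMatrix'_permRep [DecidableEq Ω] (g : G) :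
    LinearMap.toMatrix' (Cfsg.permRep ℂ G Ω g) = (permMat g : Matrix Ω Ω ℂ) := by
  ext x y
  rw [LinearMap.toMatrix'_apply, permMat_apply, permRep_apply, Pi.single_apply]
  by_cases h : x = g • y
  · rw [if_pos h, if_pos (by rw [h, inv_smul_smul])]
  · rw [if_neg h, if_neg]
    intro h'
    apply h
    rw [← h', smul_inv_smul]

theorem character_permRep (g : G) :
    (Cfsg.permRep ℂ G Ω).character g = (Nat.card (MulAction.fixedBy Ω g) : ℂ) := by
  classical
  unfold Representation.character
  rw [LinearMap.trace_eq_matrix_trace ℂ (Pi.basisFun ℂ Ω), LinearMap.toMatrix_eq_toMatrix',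
    toMatrix'_permRep, trace_permMat]

theorem character_permRep' :
    (Cfsg.permRep ℂ G Ω).character = fun g : G => (Nat.card (MulAction.fixedBy Ω g) : ℂ) := by
  funext g
  exact character_permRep g

end PermRep

end Cfsg.Agent.Helper20.PermChar
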