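import Mathlib
import Cfsg.Prelude.Def_Characters
import Cfsg.Prelude.Def_Perm
import Cfsg.Agent.Helper20.PermCharL

/-!
# Matrices of the commutant of the permutation representation; symmetry
-/

set_option autoImplicit false

namespace Cfsg.Agent.Helper20.PermChar

open Cfsg Cfsg.Agent.Helper24 Module Matrix

universe u w

section Mat

variable {G : Type u} [Group G] [Fintype G]
variable {Ω : Type w} [Fintype Ω] [DecidableEq Ω] [MulAction G Ω]

omit [Fintype G] in
theorem permMat_transpose (g : G) : (permMat g : Matrix Ω Ω ℂ)ᵀ = permMat g⁻¹ := by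
  ext x y
  rw [Matrix.transpose_apply, permMat_apply, permMat_apply]
  by_cases h : y = g • x
  · rw [if_pos h, if_pos (by rw [h, inv_smul_smul])]
  · rw [if_neg h, if_neg]
    intro h'
    apply h
    rw [h', smul_inv_smul]

/-- Membership in the commutant in terms of matrices. -/
theorem mem_commutant_iff_mat (S : Module.End ℂ (Ω → ℂ)) :
    S ∈ ((Cfsg.permRep ℂ G Ω).linHom (Cfsg.permRep ℂ G Ω)).invariants ↔
      ∀ g : G, (permMat g : Matrix Ω Ω ℂ) * LinearMap.toMatrix' S =
        LinearMap.toMatrix' S * permMat g := by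
  rw [mem_commutant_iff]
  constructor
  · intro h g
    have := congrArg LinearMap.toMatrix' (h g)
    rw [Module.End.mul_eq_comp, Module.End.mul_eq_comp, LinearMap.toMatrix'_comp,
      LinearMap.toMatrix'_comp, toMatrix'_permRep] at this
    exact this
  · intro h g
    apply LinearMap.toMatrix'.injective
    rw [Module.End.mul_eq_comp, Module.End.mul_eq_comp, LinearMap.toMatrix'_comp,
      LinearMap.toMatrix'_comp, toMatrix'_permRep]
    exact h g

omit [Fintype G] in
/-- Matrices in the commutant are constant on the orbits on pairs. -/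
theorem commutant_mat_invariant (M : Matrix Ω Ω ℂ)
    (h : ∀ g : G, (permMat g : Matrix Ω Ω ℂ) * M = M * permMat g) (g : G) (x y : Ω) :
    M (g • x) (g • y) = M x y := by
  have h1 := congrFun (congrFun (h g) (g • x)) y
  rw [permMat_mul_apply, mul_permMat_apply, inv_smul_smul] at h1
  exact h1.symm

/-- An invariant matrix gives an element of the commutant. -/
theorem toLin'_mem_commutant (M : Matrix Ω Ω ℂ)
    (hM : ∀ (g : G) (x y : Ω), M (g • x) (g • y) = M x y) :
    Matrix.toLin' M ∈ ((Cfsg.permRep ℂ G Ω).linHom (Cfsg.permRep ℂ G Ω)).invariants := by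
  rw [mem_commutant_iff_mat]
  intro g
  rw [LinearMap.toMatrix'_toLin']
  exact (mul_permMat_comm M hM g).symm

/-- The matrix of a central idempotent. -/
theorem toMatrix'_centIdem (χ : G → ℂ) :
    LinearMap.toMatrix' (centIdem (Cfsg.permRep ℂ G Ω) χ) =
      (χ 1 / (Fintype.card G : ℂ)) • ∑ g : G, χ g⁻¹ • (permMat g : Matrix Ω Ω ℂ) := by
  unfold centIdem
  rw [map_smul, map_sum]
  congr 1
  refine Finset.sum_congr rfl ?_
  intro g _
  rw [map_smul, toMatrix'_permRep]

/-- The transpose of a central idempotent is the central idempotent of the conjugate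
character. -/
theorem toMatrix'_centIdem_transpose (χ : IrrCharacter G) :
    (LinearMap.toMatrix' (centIdem (Cfsg.permRep ℂ G Ω) (χ : G → ℂ)))ᵀ =
      LinearMap.toMatrix' (centIdem (Cfsg.permRep ℂ G Ω) (irrStar χ : G → ℂ)) := by
  rw [toMatrix'_centIdem, toMatrix'_centIdem, Matrix.transpose_smul, Matrix.transpose_sum]
  have h1 : (irrStar χ : G → ℂ) 1 = (χ : G → ℂ) 1 := by
    rw [irrStar_apply, ← irr_inv, inv_one]
  rw [h1]
  congr 1
  rw [← Equiv.sum_comp (Equiv.inv G)]
  refine Finset.sum_congr rfl ?_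
  intro g _
  rw [Matrix.transpose_smul, permMat_transpose, Equiv.inv_apply, inv_inv, irrStar_apply,
    ← irr_inv, inv_inv]

/-- Generous transitivity makes every commutant matrix symmetric. -/
theorem commutant_mat_symm_of_generous (hgen : ∀ a b : Ω, ∃ g : G, g • a = b ∧ g • b = a)
    (S : Module.End ℂ (Ω → ℂ))
    (hS : S ∈ ((Cfsg.permRep ℂ G Ω).linHom (Cfsg.permRep ℂ G Ω)).invariants) :
    (LinearMap.toMatrix' S)ᵀ = LinearMap.toMatrix' S := by
  rw [mem_commutant_iff_mat] at hS
  ext x y
  rw [Matrix.transpose_apply]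
  obtain ⟨g, hg1, hg2⟩ := hgen y x
  have := commutant_mat_invariant (LinearMap.toMatrix' S) hS g y x
  rw [hg1, hg2] at this
  exact this.symm

/-- The commutant is closed under products. -/
theorem mul_mem_commutant (S T : Module.End ℂ (Ω → ℂ))
    (hS : S ∈ ((Cfsg.permRep ℂ G Ω).linHom (Cfsg.permRep ℂ G Ω)).invariants)
    (hT : T ∈ ((Cfsg.permRep ℂ G Ω).linHom (Cfsg.permRep ℂ G Ω)).invariants) :
    S * T ∈ ((Cfsg.permRep ℂ G Ω).linHom (Cfsg.permRep ℂ G Ω)).invariants := by
  rw [mem_commutant_iff] at hS hT ⊢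
  intro g
  rw [← mul_assoc, hS g, mul_assoc, hT g, mul_assoc]

/-- Generous transitivity makes the commutant commutative. -/
theorem commutant_comm_of_generous (hgen : ∀ a b : Ω, ∃ g : G, g • a = b ∧ g • b = a)
    (S T : Module.End ℂ (Ω → ℂ))
    (hS : S ∈ ((Cfsg.permRep ℂ G Ω).linHom (Cfsg.permRep ℂ G Ω)).invariants)
    (hT : T ∈ ((Cfsg.permRep ℂ G Ω).linHom (Cfsg.permRep ℂ G Ω)).invariants) :
    S * T = T * S := by
  apply LinearMap.toMatrix'.injective
  have h1 := commutant_mat_symm_of_generous hgen S hS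
  have h2 := commutant_mat_symm_of_generous hgen T hT
  have h3 := commutant_mat_symm_of_generous hgen (S * T) (mul_mem_commutant S T hS hT)
  rw [LinearMap.toMatrix'_mul] at h3 ⊢
  rw [LinearMap.toMatrix'_mul]
  rw [Matrix.transpose_mul, h1, h2] at h3
  exact h3.symm

/-- Generous transitivity: multiplicity-free with real constituents. -/
theorem real_multFree_of_generous (hgen : ∀ a b : Ω, ∃ g : G, g • a = b ∧ g • b = a)
    (χ : G → ℂ) (hχ : IsIrrCharacter G χ)
    (hne : classInner (Cfsg.permRep ℂ G Ω).character χ ≠ 0) :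
    classInner (Cfsg.permRep ℂ G Ω).character χ = 1 ∧
      ∀ g : G, (starRingEnd ℂ) (χ g) = χ g := by
  classical
  constructor
  · rcases multFree_of_commutant_comm (Cfsg.permRep ℂ G Ω)
      (commutant_comm_of_generous hgen) χ hχ with h | h
    · exact absurd h hne
    · exact h
  · set ψ : IrrCharacter G := ⟨χ, hχ⟩ with hψ
    have hE := commutant_mat_symm_of_generous hgen _
      (centIdem_mem_commutant (Cfsg.permRep ℂ G Ω) ψ)
    rw [toMatrix'_centIdem_transpose] at hE
    have hE' : centIdem (Cfsg.permRep ℂ G Ω) (irrStar ψ : G → ℂ) =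
        centIdem (Cfsg.permRep ℂ G Ω) (ψ : G → ℂ) := LinearMap.toMatrix'.injective hE
    have hstar : irrStar ψ = ψ := by
      by_contra hcon
      have h1 := centIdem_mul (Cfsg.permRep ℂ G Ω) (irrStar ψ) ψ
      rw [if_neg hcon, hE'] at h1
      have h2 := centIdem_mul (Cfsg.permRep ℂ G Ω) ψ ψ
      rw [if_pos rfl, h1] at h2
      exact centIdem_ne_zero (Cfsg.permRep ℂ G Ω) ψ hne h2.symm
    intro g
    have := congrArg (fun θ : IrrCharacter G => (θ : G → ℂ) g) hstar
    simpa using this

/-- Multiplicity-free with real constituents implies generous transitivity. -/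
theorem generous_of_real_multFree
    (h : ∀ χ : G → ℂ, IsIrrCharacter G χ →
      classInner (Cfsg.permRep ℂ G Ω).character χ ≠ 0 →
      classInner (Cfsg.permRep ℂ G Ω).character χ = 1 ∧
        ∀ g : G, (starRingEnd ℂ) (χ g) = χ g) (a b : Ω) :
    ∃ g : G, g • a = b ∧ g • b = a := by
  classical
  have hmf : ∀ χ : IrrCharacter G,
      classInner (Cfsg.permRep ℂ G Ω).character (χ : G → ℂ) = 0 ∨
      classInner (Cfsg.permRep ℂ G Ω).character (χ : G → ℂ) = 1 := by
    intro χ
    by_cases h0 : classInner (Cfsg.permRep ℂ G Ω).character (χ : G → ℂ) = 0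
    · exact Or.inl h0
    · exact Or.inr (h χ.1 χ.2 h0).1
  have hsymm : ∀ S : Module.End ℂ (Ω → ℂ),
      S ∈ ((Cfsg.permRep ℂ G Ω).linHom (Cfsg.permRep ℂ G Ω)).invariants →
      (LinearMap.toMatrix' S)ᵀ = LinearMap.toMatrix' S := by
    intro S hS
    rw [commutant_eq_span_of_multFree (Cfsg.permRep ℂ G Ω) hmf] at hS
    induction hS using Submodule.span_induction with
    | mem x hx =>
      obtain ⟨χ, rfl⟩ := hx
      simp only
      rw [toMatrix'_centIdem_transpose]
      have : irrStar (χ : IrrCharacter G) = (χ : IrrCharacter G) := by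
        apply Subtype.ext
        funext g
        rw [irrStar_apply]
        exact (h _ (χ : IrrCharacter G).2 χ.2).2 g
      rw [this]
    | zero => simp
    | add x y _ _ hx hy => rw [map_add, Matrix.transpose_add, hx, hy]
    | smul c x _ hx => rw [map_smul, Matrix.transpose_smul, hx]
  let M : Matrix Ω Ω ℂ := Matrix.of fun x y => if ∃ g : G, g • a = x ∧ g • b = y then 1 else 0
  have hM : ∀ (g : G) (x y : Ω), M (g • x) (g • y) = M x y := by
    intro g x y
    simp only [M, Matrix.of_apply]
    have : (∃ g' : G, g' • a = g • x ∧ g' • b = g • y) ↔ (∃ g' : G, g' • a = x ∧ g' • b = y) := by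
      constructor
      · rintro ⟨g', h1, h2⟩
        refine ⟨g⁻¹ * g', ?_, ?_⟩
        · rw [mul_smul, h1, inv_smul_smul]
        · rw [mul_smul, h2, inv_smul_smul]
      · rintro ⟨g', h1, h2⟩
        refine ⟨g * g', ?_, ?_⟩
        · rw [mul_smul, h1]
        · rw [mul_smul, h2]
    rw [if_congr this rfl rfl]
  have h1 := hsymm _ (toLin'_mem_commutant (G := G) M hM)
  rw [LinearMap.toMatrix'_toLin'] at h1
  have h2 : M a b = 1 := by
    simp only [M, Matrix.of_apply]
    rw [if_pos ⟨1, one_smul _ _, one_smul _ _⟩]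
  have h3 : M b a = 1 := by
    have := congrFun (congrFun h1 a) b
    rw [Matrix.transpose_apply] at this
    rw [this, h2]
  simp only [M, Matrix.of_apply] at h3
  by_contra hcon
  rw [if_neg hcon] at h3
  exact zero_ne_one h3

end Mat

end Cfsg.Agent.Helper20.PermChar
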