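import Mathlib
import Cfsg.Prelude.Def_Characters
import Cfsg.Agent.Helper20.PermCharJ

/-!
# Eigenvalue coefficients of commutant elements in the multiplicity-free case
-/

set_option autoImplicit false

namespace Cfsg.Agent.Helper20.PermChar

open Cfsg Cfsg.Agent.Helper24 Module

universe u v

section EigCoeff

variable {G : Type u} [Group G] [Fintype G]
variable {V : Type v} [AddCommGroup V] [Module ℂ V] [FiniteDimensional ℂ V]

/-- The scalar by which a commutant element acts on the `χ`-isotypic component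
(in the multiplicity-free case). -/
noncomputable def eigCoeff (σ : Representation ℂ G V) (S : Module.End ℂ V) (χ : G → ℂ) : ℂ :=
  LinearMap.trace ℂ V (S * centIdem σ χ) / χ 1

theorem eigCoeff_add (σ : Representation ℂ G V) (S T : Module.End ℂ V) (χ : G → ℂ) :
    eigCoeff σ (S + T) χ = eigCoeff σ S χ + eigCoeff σ T χ := by
  unfold eigCoeff
  rw [add_mul, map_add, add_div]

theorem eigCoeff_smul (σ : Representation ℂ G V) (c : ℂ) (S : Module.End ℂ V) (χ : G → ℂ) :
    eigCoeff σ (c • S) χ = c * eigCoeff σ S χ := by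
  unfold eigCoeff
  rw [smul_mul_assoc, map_smul, smul_eq_mul, mul_div_assoc]

theorem centIdem_eq_zero (σ : Representation ℂ G V) (ψ : IrrCharacter G)
    (h : classInner σ.character (ψ : G → ℂ) = 0) : centIdem σ (ψ : G → ℂ) = 0 := by
  classical
  have hid : IsIdempotentElem (centIdem σ (ψ : G → ℂ)) := by
    have := centIdem_mul σ ψ ψ
    rw [if_pos rfl] at this
    exact this
  apply (LinearMap.IsIdempotentElem.trace_eq_zero_iff hid).1
  rw [trace_centIdem, h, mul_zero]

/-- The trace as the sum of the eigenvalue coefficients weighted by the degrees. -/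
theorem trace_eq_sum_eigCoeff (σ : Representation ℂ G V) [Fintype (IrrCharacter G)]
    (S : Module.End ℂ V) :
    LinearMap.trace ℂ V S = ∑ ψ : IrrCharacter G, (ψ : G → ℂ) 1 * eigCoeff σ S (ψ : G → ℂ) := by
  have h1 : S = S * ∑ ψ : IrrCharacter G, centIdem σ (ψ : G → ℂ) := by
    rw [sum_centIdem, mul_one]
  conv_lhs => rw [h1]
  rw [Finset.mul_sum, map_sum]
  refine Finset.sum_congr rfl ?_
  intro ψ _
  unfold eigCoeff
  rw [mul_div_cancel₀ _ (irr_one_ne_zero ψ)]

/-- Spectral decomposition: a commutant element acts on each isotypic component by a scalar. -/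
theorem mul_centIdem_eq (σ : Representation ℂ G V)
    (hmf : ∀ χ : IrrCharacter G, classInner σ.character (χ : G → ℂ) = 0 ∨
      classInner σ.character (χ : G → ℂ) = 1)
    (S : Module.End ℂ V) (hS : S ∈ (σ.linHom σ).invariants) (ψ : IrrCharacter G) :
    S * centIdem σ (ψ : G → ℂ) = eigCoeff σ S (ψ : G → ℂ) • centIdem σ (ψ : G → ℂ) := by
  classical
  rcases hmf ψ with h0 | h1
  · rw [centIdem_eq_zero σ ψ h0, mul_zero, smul_zero]
  · have hex : ∃ c : ℂ, S * centIdem σ (ψ : G → ℂ) = c • centIdem σ (ψ : G → ℂ) := by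
      rw [commutant_eq_span_of_multFree σ hmf] at hS
      induction hS using Submodule.span_induction with
      | mem x hx =>
        obtain ⟨χ, rfl⟩ := hx
        simp only
        rw [centIdem_mul]
        by_cases hχψ : (χ : IrrCharacter G) = ψ
        · exact ⟨1, by rw [if_pos hχψ, one_smul]⟩
        · exact ⟨0, by rw [if_neg hχψ, zero_smul]⟩
      | zero => exact ⟨0, by rw [zero_mul, zero_smul]⟩
      | add x y _ _ hx hy =>
        obtain ⟨c, hc⟩ := hx
        obtain ⟨d, hd⟩ := hy
        exact ⟨c + d, by rw [add_mul, hc, hd, add_smul]⟩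
      | smul c x _ hx =>
        obtain ⟨d, hd⟩ := hx
        exact ⟨c * d, by rw [smul_mul_assoc, hd, smul_smul]⟩
    obtain ⟨c, hc⟩ := hex
    have : eigCoeff σ S (ψ : G → ℂ) = c := by
      unfold eigCoeff
      rw [hc, map_smul, trace_centIdem, h1, mul_one, smul_eq_mul,
        mul_div_cancel_right₀ _ (irr_one_ne_zero ψ)]
    rw [this, hc]

/-- The eigenvalue coefficients are multiplicative on the commutant. -/
theorem eigCoeff_mul (σ : Representation ℂ G V)
    (hmf : ∀ χ : IrrCharacter G, classInner σ.character (χ : G → ℂ) = 0 ∨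
      classInner σ.character (χ : G → ℂ) = 1)
    (S T : Module.End ℂ V) (hS : S ∈ (σ.linHom σ).invariants)
    (hT : T ∈ (σ.linHom σ).invariants) (ψ : IrrCharacter G) :
    eigCoeff σ (S * T) (ψ : G → ℂ) = eigCoeff σ S (ψ : G → ℂ) * eigCoeff σ T (ψ : G → ℂ) := by
  have h1 := mul_centIdem_eq σ hmf T hT ψ
  have h3 : eigCoeff σ (S * T) (ψ : G → ℂ) =
      LinearMap.trace ℂ V (S * (T * centIdem σ (ψ : G → ℂ))) / (ψ : G → ℂ) 1 := by
    unfold eigCoeff
    rw [mul_assoc]
  rw [h3, h1, mul_smul_comm, map_smul, smul_eq_mul, mul_div_assoc, mul_comm]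
  rfl

/-- The eigenvalue coefficient of the identity. -/
theorem eigCoeff_one (σ : Representation ℂ G V) (ψ : IrrCharacter G)
    (h1 : classInner σ.character (ψ : G → ℂ) = 1) : eigCoeff σ 1 (ψ : G → ℂ) = 1 := by
  unfold eigCoeff
  rw [one_mul, trace_centIdem, h1, mul_one, div_self (irr_one_ne_zero ψ)]

theorem eigCoeff_eq_zero (σ : Representation ℂ G V) (S : Module.End ℂ V) (ψ : IrrCharacter G)
    (h0 : classInner σ.character (ψ : G → ℂ) = 0) : eigCoeff σ S (ψ : G → ℂ) = 0 := by
  unfold eigCoeff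
  rw [centIdem_eq_zero σ ψ h0, mul_zero, map_zero, zero_div]

end EigCoeff

end Cfsg.Agent.Helper20.PermChar
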