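import Mathlib
import Cfsg.Prelude.Def_Characters
import Cfsg.Prelude.Def_Perm
import Cfsg.Agent.Helper20.PermCharD
import Cfsg.Agent.Helper20.PermCharM
import Cfsg.Agent.Helper20.PermCharN

/-!
# Eigenvalue coefficients of invariant matrices for the permutation representation
-/

set_option autoImplicit false

namespace Cfsg.Agent.Helper20.PermChar

open Cfsg Cfsg.Agent.Helper24 Module Matrix

universe u w

section MatCoeff

variable {G : Type u} [Group G] [Fintype G]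
variable {Ω : Type w} [Fintype Ω] [DecidableEq Ω] [MulAction G Ω]

/-- The eigenvalue coefficient of a matrix acting on `Ω → ℂ`. -/
noncomputable def eigM (M : Matrix Ω Ω ℂ) (χ : G → ℂ) : ℂ :=
  eigCoeff (Cfsg.permRep ℂ G Ω) (Matrix.toLin' M) χ

theorem eigM_add (M N : Matrix Ω Ω ℂ) (χ : G → ℂ) :
    eigM (M + N) χ = eigM M χ + eigM N χ := by
  unfold eigM
  rw [map_add, eigCoeff_add]

theorem eigM_smul (c : ℂ) (M : Matrix Ω Ω ℂ) (χ : G → ℂ) :
    eigM (c • M) χ = c * eigM M χ := by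
  unfold eigM
  rw [map_smul, eigCoeff_smul]

theorem eigM_eq (M : Matrix Ω Ω ℂ) (χ : G → ℂ) (hχ : χ 1 ≠ 0) :
    eigM M χ = (Fintype.card G : ℂ)⁻¹ * ∑ g : G, (∑ x : Ω, M x (g • x)) * χ g⁻¹ := by
  unfold eigM eigCoeff
  rw [LinearMap.trace_eq_matrix_trace ℂ (Pi.basisFun ℂ Ω), LinearMap.toMatrix_eq_toMatrix',
    LinearMap.toMatrix'_mul, LinearMap.toMatrix'_toLin', toMatrix'_centIdem, Matrix.mul_smul,
    Matrix.trace_smul, Matrix.mul_sum, Matrix.trace_sum, smul_eq_mul]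
  have h1 : ∀ g : G, (M * χ g⁻¹ • (permMat g : Matrix Ω Ω ℂ)).trace =
      (∑ x : Ω, M x (g • x)) * χ g⁻¹ := by
    intro g
    rw [Matrix.mul_smul, Matrix.trace_smul, trace_mul_permMat, smul_eq_mul, mul_comm]
  simp_rw [h1]
  field_simp

theorem eigM_orbMat (a b : Ω) (χ : G → ℂ) (hχ : χ 1 ≠ 0) :
    eigM (orbMat (G := G) a b) χ = orbCoeff a b χ := by
  rw [eigM_eq _ _ hχ]
  rfl

/-- The all-ones matrix has eigenvalue coefficient zero at a non-trivial irreducible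
character. -/
theorem eigM_allOnes (ψ : IrrCharacter G) (hψ : ψ ≠ trivIrr G) :
    eigM (Matrix.of fun _ _ : Ω => (1 : ℂ)) (ψ : G → ℂ) = 0 := by
  classical
  rw [eigM_eq _ _ (irr_one_ne_zero ψ)]
  simp only [Matrix.of_apply, Finset.sum_const, Finset.card_univ, nsmul_eq_mul, mul_one]
  have h1 := classInner_irr (trivIrr G) ψ
  rw [if_neg (fun h => hψ h.symm)] at h1
  unfold classInner at h1
  rw [Nat.card_eq_fintype_card] at h1
  have h2 : ∑ g : G, (trivIrr G : G → ℂ) g * (starRingEnd ℂ) ((ψ : G → ℂ) g) =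
      ∑ g : G, (ψ : G → ℂ) g⁻¹ := by
    refine Finset.sum_congr rfl ?_
    intro g _
    rw [irr_inv]
    change (1 : ℂ) * _ = _
    rw [one_mul]
  rw [h2] at h1
  rw [← Finset.mul_sum, ← mul_assoc, mul_comm _ (Fintype.card Ω : ℂ), mul_assoc, h1, mul_zero]

theorem trace_eq_sum_eigM [Fintype (IrrCharacter G)] (M : Matrix Ω Ω ℂ) :
    M.trace = ∑ ψ : IrrCharacter G, (ψ : G → ℂ) 1 * eigM M (ψ : G → ℂ) := by
  have := trace_eq_sum_eigCoeff (Cfsg.permRep ℂ G Ω) (Matrix.toLin' M)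
  rw [Matrix.trace_toLin'_eq] at this
  exact this

theorem eigM_mul
    (hmf : ∀ χ : IrrCharacter G,
      classInner (fun g : G => (Nat.card (MulAction.fixedBy Ω g) : ℂ)) (χ : G → ℂ) = 0 ∨
      classInner (fun g : G => (Nat.card (MulAction.fixedBy Ω g) : ℂ)) (χ : G → ℂ) = 1)
    (M N : Matrix Ω Ω ℂ)
    (hM : ∀ (g : G) (x y : Ω), M (g • x) (g • y) = M x y)
    (hN : ∀ (g : G) (x y : Ω), N (g • x) (g • y) = N x y) (ψ : IrrCharacter G) :
    eigM (M * N) (ψ : G → ℂ) = eigM M (ψ : G → ℂ) * eigM N (ψ : G → ℂ) := by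
  unfold eigM
  rw [Matrix.toLin'_mul, ← Module.End.mul_eq_comp]
  rw [← character_permRep' (G := G) (Ω := Ω)] at hmf
  exact eigCoeff_mul (Cfsg.permRep ℂ G Ω) hmf _ _ (toLin'_mem_commutant M hM)
    (toLin'_mem_commutant N hN) ψ

theorem eigM_one (ψ : IrrCharacter G)
    (h1 : classInner (fun g : G => (Nat.card (MulAction.fixedBy Ω g) : ℂ)) (ψ : G → ℂ) = 1) :
    eigM (1 : Matrix Ω Ω ℂ) (ψ : G → ℂ) = 1 := by
  unfold eigM
  rw [Matrix.toLin'_one, ← Module.End.one_eq_id]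
  rw [← character_permRep' (G := G) (Ω := Ω)] at h1
  exact eigCoeff_one (Cfsg.permRep ℂ G Ω) ψ h1

theorem eigM_eq_zero (M : Matrix Ω Ω ℂ) (ψ : IrrCharacter G)
    (h0 : classInner (fun g : G => (Nat.card (MulAction.fixedBy Ω g) : ℂ)) (ψ : G → ℂ) = 0) :
    eigM M (ψ : G → ℂ) = 0 := by
  unfold eigM
  rw [← character_permRep' (G := G) (Ω := Ω)] at h0
  exact eigCoeff_eq_zero (Cfsg.permRep ℂ G Ω) _ ψ h0

end MatCoeff

end Cfsg.Agent.Helper20.PermChar
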