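import Mathlib
import Cfsg.Prelude.Def_Characters
import Cfsg.Prelude.Def_Perm
import Cfsg.Agent.Helper20.PermCharG
import Cfsg.Agent.Helper20.PermCharO

/-!
# Rank three: the structure of invariant matrices
-/

set_option autoImplicit false

namespace Cfsg.Agent.Helper20.PermChar

open Cfsg Cfsg.Agent.Helper24 Module Matrix MulAction
open scoped Pointwise

universe u w

section RankThree

variable {G : Type u} [Group G] {Ω : Type w} [MulAction G Ω]

/-- Rank three: representatives of the two non-trivial suborbits. -/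
theorem exists_reps_of_rank_three [Finite Ω] (a₀ : Ω)
    (hrank : Nat.card (orbitRel.Quotient (stabilizer G a₀) Ω) = 3) :
    ∃ b₁ b₂ : Ω, b₁ ≠ a₀ ∧ b₂ ≠ a₀ ∧ b₂ ∉ orbit (stabilizer G a₀) b₁ ∧
      ∀ y : Ω, y = a₀ ∨ y ∈ orbit (stabilizer G a₀) b₁ ∨ y ∈ orbit (stabilizer G a₀) b₂ := by
  classical
  set H := stabilizer G a₀ with hH
  haveI : Fintype (orbitRel.Quotient H Ω) := Fintype.ofFinite _
  set q₀ : orbitRel.Quotient H Ω := Quotient.mk'' a₀ with hq₀
  have hc : (Finset.univ.erase q₀).card = 2 := by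
    rw [Finset.card_erase_of_mem (Finset.mem_univ _), Finset.card_univ, ← Nat.card_eq_fintype_card,
      hrank]
  obtain ⟨x, y, hxy, hs⟩ := Finset.card_eq_two.mp hc
  have hx : x ≠ q₀ := by
    have : x ∈ Finset.univ.erase q₀ := by rw [hs]; simp
    exact (Finset.mem_erase.mp this).1
  have hy : y ≠ q₀ := by
    have : y ∈ Finset.univ.erase q₀ := by rw [hs]; simp
    exact (Finset.mem_erase.mp this).1
  have hall : ∀ q : orbitRel.Quotient H Ω, q = q₀ ∨ q = x ∨ q = y := by
    intro q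
    by_cases hq : q = q₀
    · exact Or.inl hq
    · right
      have : q ∈ Finset.univ.erase q₀ := Finset.mem_erase.mpr ⟨hq, Finset.mem_univ _⟩
      rw [hs] at this
      simpa using this
  have hmk : ∀ z w : Ω, (Quotient.mk'' z : orbitRel.Quotient H Ω) = Quotient.mk'' w ↔
      z ∈ orbit H w := by
    intro z w
    rw [Quotient.eq'']
    rfl
  have hxo : (Quotient.mk'' x.out : orbitRel.Quotient H Ω) = x := Quotient.out_eq' x
  have hyo : (Quotient.mk'' y.out : orbitRel.Quotient H Ω) = y := Quotient.out_eq' y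
  refine ⟨x.out, y.out, ?_, ?_, ?_, ?_⟩
  · intro h
    apply hx
    rw [← hxo, h]
  · intro h
    apply hy
    rw [← hyo, h]
  · intro h
    apply hxy
    rw [← hxo, ← hyo]
    exact ((hmk _ _).2 h).symm
  · intro z
    rcases hall (Quotient.mk'' z) with h | h | h
    · left
      obtain ⟨⟨k, hk⟩, hk2⟩ := (hmk z a₀).1 h
      rw [← hk2]
      exact hk
    · right; left
      rw [← hxo] at h
      exact (hmk _ _).1 h
    · right; right
      rw [← hyo] at h
      exact (hmk _ _).1 h

end RankThree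

section Decomp

variable {G : Type u} [Group G] {Ω : Type w} [Fintype Ω] [DecidableEq Ω] [MulAction G Ω]

theorem inv_mat_ext [IsPretransitive G Ω] (a₀ : Ω) (M R : Matrix Ω Ω ℂ)
    (hM : ∀ (g : G) (x y : Ω), M (g • x) (g • y) = M x y)
    (hR : ∀ (g : G) (x y : Ω), R (g • x) (g • y) = R x y)
    (h : ∀ y : Ω, M a₀ y = R a₀ y) : M = R := by
  ext x y
  obtain ⟨g, hg⟩ := exists_smul_eq G a₀ x
  have h1 := hM g a₀ (g⁻¹ • y)
  rw [smul_inv_smul, hg] at h1
  have h2 := hR g a₀ (g⁻¹ • y)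
  rw [smul_inv_smul, hg] at h2
  rw [h1, h2, h]

omit [Fintype Ω] [DecidableEq Ω] in
theorem inv_mat_row (a₀ b y : Ω) (M : Matrix Ω Ω ℂ)
    (hM : ∀ (g : G) (x y : Ω), M (g • x) (g • y) = M x y)
    (hy : y ∈ orbit (stabilizer G a₀) b) : M a₀ y = M a₀ b := by
  obtain ⟨⟨h, hh⟩, rfl⟩ := hy
  have := hM h a₀ b
  rw [mem_stabilizer_iff] at hh
  rw [hh] at this
  exact this

omit [Fintype Ω] in
theorem one_mat_inv (g : G) (x y : Ω) :
    (1 : Matrix Ω Ω ℂ) (g • x) (g • y) = (1 : Matrix Ω Ω ℂ) x y := by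
  simp [Matrix.one_apply]

omit [Fintype Ω] [DecidableEq Ω] in
theorem mul_mat_inv [Fintype Ω] (M N : Matrix Ω Ω ℂ)
    (hM : ∀ (g : G) (x y : Ω), M (g • x) (g • y) = M x y)
    (hN : ∀ (g : G) (x y : Ω), N (g • x) (g • y) = N x y) (g : G) (x y : Ω) :
    (M * N) (g • x) (g • y) = (M * N) x y := by
  rw [Matrix.mul_apply, Matrix.mul_apply]
  rw [← Equiv.sum_comp (MulAction.toPerm g) (fun z => M (g • x) z * N z (g • y))]
  refine Finset.sum_congr rfl ?_
  intro z _
  rw [MulAction.toPerm_apply, hM, hN]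

/-- Rank three: every invariant matrix is a combination of `1` and the two orbital matrices. -/
theorem inv_decomp [IsPretransitive G Ω] (a₀ b₁ b₂ : Ω) (hb₁ : b₁ ≠ a₀) (hb₂ : b₂ ≠ a₀)
    (hb : b₂ ∉ orbit (stabilizer G a₀) b₁)
    (hall : ∀ y : Ω, y = a₀ ∨ y ∈ orbit (stabilizer G a₀) b₁ ∨ y ∈ orbit (stabilizer G a₀) b₂)
    (M : Matrix Ω Ω ℂ) (hM : ∀ (g : G) (x y : Ω), M (g • x) (g • y) = M x y) :
    M = M a₀ a₀ • (1 : Matrix Ω Ω ℂ) + M a₀ b₁ • orbMat (G := G) a₀ b₁ +
      M a₀ b₂ • orbMat (G := G) a₀ b₂ := by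
  classical
  have hne : ∀ b y : Ω, b ≠ a₀ → y ∈ orbit (stabilizer G a₀) b → y ≠ a₀ := by
    rintro b y hb ⟨⟨h, hh⟩, rfl⟩ h2
    apply hb
    rw [mem_stabilizer_iff] at hh
    have : h • b = h • a₀ := by rw [hh]; exact h2
    exact MulAction.injective h this
  apply inv_mat_ext (G := G) a₀
  · exact hM
  · intro g x y
    simp only [Matrix.add_apply, Matrix.smul_apply, one_mat_inv, orbMat_smul]
  · intro y
    simp only [Matrix.add_apply, Matrix.smul_apply, smul_eq_mul, orbMat_base]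
    rcases hall y with h | h | h
    · rw [h, Matrix.one_apply_eq, if_neg, if_neg]
      · ring
      · intro h'; exact hne b₂ a₀ hb₂ h' rfl
      · intro h'; exact hne b₁ a₀ hb₁ h' rfl
    · have h1 : y ≠ a₀ := hne b₁ y hb₁ h
      have h2 : y ∉ orbit (stabilizer G a₀) b₂ := by
        intro h'
        apply hb
        have e1 := MulAction.orbit_eq_iff.mpr h
        have e2 := MulAction.orbit_eq_iff.mpr h'
        rw [← e1, e2]
        exact MulAction.mem_orbit_self b₂
      rw [Matrix.one_apply_ne (Ne.symm h1), if_pos h, if_neg h2, inv_mat_row a₀ b₁ y M hM h]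
      ring
    · have h1 : y ≠ a₀ := hne b₂ y hb₂ h
      have h2 : y ∉ orbit (stabilizer G a₀) b₁ := by
        intro h'
        apply hb
        have e1 := MulAction.orbit_eq_iff.mpr h
        have e2 := MulAction.orbit_eq_iff.mpr h'
        rw [← e2, e1]
        exact MulAction.mem_orbit_self b₂
      rw [Matrix.one_apply_ne (Ne.symm h1), if_neg h2, if_pos h, inv_mat_row a₀ b₂ y M hM h]
      ring

end Decomp

section Prim

variable {G : Type u} [Group G] {Ω : Type w} [Finite Ω] [MulAction G Ω]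

/-- In a primitive generously transitive group of degree at least three, no non-trivial
suborbit has length one. -/
theorem card_orbit_ne_one_of_preprimitive [IsPreprimitive G Ω]
    (hgen : ∀ a b : Ω, ∃ g : G, g • a = b ∧ g • b = a) (hcard : 2 < Nat.card Ω)
    (a₀ b : Ω) (hb : b ≠ a₀) : Nat.card (orbit (stabilizer G a₀) b) ≠ 1 := by
  classical
  intro h1
  haveI : Nontrivial Ω := ⟨⟨b, a₀, hb⟩⟩
  have hfix : ∀ h : G, h • a₀ = a₀ → h • b = b := by
    intro h hh
    have hsub : Subsingleton (orbit (stabilizer G a₀) b) :=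
      (Nat.card_eq_one_iff_unique.mp h1).1
    have e := hsub.elim ⟨(⟨h, hh⟩ : stabilizer G a₀) • b, ⟨⟨h, hh⟩, rfl⟩⟩
      ⟨b, MulAction.mem_orbit_self b⟩
    exact congrArg Subtype.val e
  have hco := IsPreprimitive.isCoatom_stabilizer_of_isPreprimitive (G := G) a₀
  obtain ⟨s, hs1, hs2⟩ := hgen a₀ b
  set K : Subgroup G := stabilizer G ({a₀, b} : Set Ω) with hK
  have hHK : stabilizer G a₀ ≤ K := by
    intro h hh
    rw [mem_stabilizer_iff] at hh
    rw [hK, mem_stabilizer_iff, Set.smul_set_insert, Set.smul_set_singleton, hh, hfix h hh]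
  have hsK : s ∈ K := by
    rw [hK, mem_stabilizer_iff, Set.smul_set_insert, Set.smul_set_singleton, hs1, hs2,
      Set.pair_comm]
  have hsH : s ∉ stabilizer G a₀ := by
    rw [mem_stabilizer_iff, hs1]
    exact hb
  have hlt : stabilizer G a₀ < K := lt_of_le_of_ne hHK (fun h => hsH (h ▸ hsK))
  have htop : K = ⊤ := hco.2 K hlt
  have hall : ∀ x : Ω, x = a₀ ∨ x = b := by
    intro x
    obtain ⟨g, hg⟩ := exists_smul_eq G a₀ x
    have hgK : g ∈ K := by rw [htop]; exact Subgroup.mem_top g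
    rw [hK, mem_stabilizer_iff] at hgK
    have : g • a₀ ∈ g • ({a₀, b} : Set Ω) := Set.smul_mem_smul_set (by simp)
    rw [hgK, hg] at this
    simpa using this
  haveI : Fintype Ω := Fintype.ofFinite Ω
  have : Nat.card Ω ≤ 2 := by
    rw [Nat.card_eq_fintype_card]
    calc Fintype.card Ω = (Finset.univ : Finset Ω).card := rfl
      _ ≤ ({a₀, b} : Finset Ω).card := by
          apply Finset.card_le_card
          intro x _
          rcases hall x with h | h <;> simp [h]
      _ ≤ 2 := Finset.card_le_two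
  omega

end Prim

end Cfsg.Agent.Helper20.PermChar
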