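import Mathlib

/-!
# The arithmetic of Wielandt-type rank three groups
-/

set_option autoImplicit false

namespace Cfsg.Agent.Helper20.PermChar

/-- The arithmetic heart of the rank three groups of Wielandt type. -/
theorem wielandt_numeric (m k l : ℕ) (r s : ℤ) (hm : 2 ≤ m) (hk : 2 ≤ k) (hl : 2 ≤ l)
    (hkl : 1 + k + l = 2 * m)
    (h1 : (k : ℤ) + ((m : ℤ) - 1) * r + (m : ℤ) * s = 0)
    (h2 : (k : ℤ) ^ 2 + ((m : ℤ) - 1) * r ^ 2 + (m : ℤ) * s ^ 2 = 2 * (m : ℤ) * (k : ℤ)) :
    ∃ a : ℕ, 0 < a ∧ m = 2 * a ^ 2 + 2 * a + 1 ∧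
      ((k = a * (2 * a + 1) ∧ l = (a + 1) * (2 * a + 1)) ∨
       (k = (a + 1) * (2 * a + 1) ∧ l = a * (2 * a + 1))) := by
  set u : ℤ := r + s with hu
  set t : ℤ := -s with ht
  have hm' : (2 : ℤ) ≤ (m : ℤ) := by exact_mod_cast hm
  have hk' : (2 : ℤ) ≤ (k : ℤ) := by exact_mod_cast hk
  have hl' : (2 : ℤ) ≤ (l : ℤ) := by exact_mod_cast hl
  have hkl' : (1 : ℤ) + k + l = 2 * m := by exact_mod_cast hkl
  have key0 : (m : ℤ) * (2 * t * (t - 1) + ((m : ℤ) - 1) * u * (u + 2)) = 0 := by
    rw [hu, ht]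
    linear_combination h2 - ((k : ℤ) - (((m : ℤ) - 1) * r + (m : ℤ) * s) - 2 * (m : ℤ)) * h1
  have key : 2 * t * (t - 1) + ((m : ℤ) - 1) * u * (u + 2) = 0 := by
    rcases mul_eq_zero.mp key0 with h | h
    · omega
    · exact h
  have hkt : (k : ℤ) = t - ((m : ℤ) - 1) * u := by
    rw [hu, ht]
    linear_combination h1
  have htt : 0 ≤ t * (t - 1) := by
    rcases le_or_gt t 0 with h | h
    · nlinarith
    · nlinarith
  have hu3 : u = 0 ∨ u = -1 ∨ u = -2 := by
    by_contra hcon
    push Not at hcon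
    obtain ⟨c1, c2, c3⟩ := hcon
    have : 0 < u * (u + 2) := by
      rcases lt_or_gt_of_ne c1 with h | h
      · have : u ≤ -3 := by omega
        nlinarith
      · nlinarith
    nlinarith
  rcases hu3 with h0 | h0 | h0
  · -- u = 0
    rw [h0] at key hkt
    have : t * (t - 1) = 0 := by linarith
    rcases mul_eq_zero.mp this with h | h
    · rw [h] at hkt; linarith
    · have : t = 1 := by linarith
      rw [this] at hkt; linarith
  · -- u = -1
    rw [h0] at key hkt
    have hM : (m : ℤ) - 1 = 2 * t * (t - 1) := by linarith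
    rcases le_or_gt t 0 with h | h
    · -- t ≤ 0, a = -t
      obtain ⟨a, ha⟩ := Int.eq_ofNat_of_zero_le (show 0 ≤ -t by linarith)
      have hta : t = -(a : ℤ) := by linarith
      refine ⟨a, ?_, ?_, Or.inl ⟨?_, ?_⟩⟩
      · rcases Nat.eq_zero_or_pos a with h' | h'
        · rw [h'] at hta
          rw [hta] at hM
          simp at hM
          omega
        · exact h'
      · have : (m : ℤ) = 2 * (a : ℤ) ^ 2 + 2 * a + 1 := by rw [hta] at hM; linarith
        exact_mod_cast this
      · have : (k : ℤ) = (a : ℤ) * (2 * a + 1) := by rw [hkt, hM, hta]; ring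
        exact_mod_cast this
      · have : (l : ℤ) = ((a : ℤ) + 1) * (2 * a + 1) := by
          have hmm : (m : ℤ) = 2 * (a : ℤ) ^ 2 + 2 * a + 1 := by rw [hta] at hM; linarith
          have hkk : (k : ℤ) = (a : ℤ) * (2 * a + 1) := by rw [hkt, hM, hta]; ring
          linarith
        exact_mod_cast this
    · -- t ≥ 1, a = t - 1
      obtain ⟨a, ha⟩ := Int.eq_ofNat_of_zero_le (show 0 ≤ t - 1 by linarith)
      have hta : t = (a : ℤ) + 1 := by linarith
      have hmm : (m : ℤ) = 2 * (a : ℤ) ^ 2 + 2 * a + 1 := by rw [hta] at hM; linarith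
      have hkk : (k : ℤ) = ((a : ℤ) + 1) * (2 * a + 1) := by rw [hkt, hM, hta]; ring
      refine ⟨a, ?_, ?_, Or.inr ⟨?_, ?_⟩⟩
      · rcases Nat.eq_zero_or_pos a with h' | h'
        · rw [h'] at hmm
          simp at hmm
          omega
        · exact h'
      · exact_mod_cast hmm
      · exact_mod_cast hkk
      · have : (l : ℤ) = (a : ℤ) * (2 * a + 1) := by linarith
        exact_mod_cast this
  · -- u = -2
    rw [h0] at key hkt
    have : t * (t - 1) = 0 := by linarith
    rcases mul_eq_zero.mp this with h | h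
    · rw [h] at hkt; linarith
    · have : t = 1 := by linarith
      rw [this] at hkt; linarith

end Cfsg.Agent.Helper20.PermChar
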