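import Mathlib
import Cfsg.Prelude.Def_Characters
import Cfsg.Prelude.Def_Perm
import Cfsg.Agent.Helper20.PermCharP
import Cfsg.Agent.Helper20.PermCharQ

/-!
# Rank three groups of Wielandt type: the character-theoretic setup
-/

set_option autoImplicit false

namespace Cfsg.Agent.Helper20.PermChar

open Cfsg Cfsg.Agent.Helper24 Module Matrix MulAction

universe u w

section Setup

variable {G : Type u} [Group G] [Fintype G] {Ω : Type w} [Fintype Ω] [MulAction G Ω]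

/-- The basic consequences of `π = 1 + χ₁ + χ₂` with degrees `m - 1` and `m`. -/
theorem wielandt_setup [IsPretransitive G Ω] (a₀ : Ω) {m : ℕ} (χ₁ χ₂ : G → ℂ)
    (h₁ : IsIrrCharacter G χ₁) (h₂ : IsIrrCharacter G χ₂)
    (hπ : (fun g : G => (Nat.card (fixedBy Ω g) : ℂ)) = fun g => 1 + χ₁ g + χ₂ g)
    (hd₁ : χ₁ 1 = (m : ℂ) - 1) (hd₂ : χ₂ 1 = m) :
    2 ≤ m ∧ trivIrr G ≠ ⟨χ₁, h₁⟩ ∧ trivIrr G ≠ ⟨χ₂, h₂⟩ ∧
      (⟨χ₁, h₁⟩ : IrrCharacter G) ≠ ⟨χ₂, h₂⟩ ∧
      ∀ ψ : IrrCharacter G, classInner (fun g : G => (Nat.card (fixedBy Ω g) : ℂ)) (ψ : G → ℂ) =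
        (if trivIrr G = ψ then 1 else 0) + (if (⟨χ₁, h₁⟩ : IrrCharacter G) = ψ then 1 else 0) +
          (if (⟨χ₂, h₂⟩ : IrrCharacter G) = ψ then 1 else 0) := by
  classical
  haveI : Fintype (IrrCharacter G) := Fintype.ofFinite _
  set ψ₁ : IrrCharacter G := ⟨χ₁, h₁⟩ with hψ₁
  set ψ₂ : IrrCharacter G := ⟨χ₂, h₂⟩ with hψ₂
  have hmult : ∀ ψ : IrrCharacter G,
      classInner (fun g : G => (Nat.card (fixedBy Ω g) : ℂ)) (ψ : G → ℂ) =
        (if trivIrr G = ψ then 1 else 0) + (if ψ₁ = ψ then 1 else 0) +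
          (if ψ₂ = ψ then 1 else 0) := by
    intro ψ
    have : (fun g : G => (Nat.card (fixedBy Ω g) : ℂ)) =
        (trivIrr G : G → ℂ) + (ψ₁ : G → ℂ) + (ψ₂ : G → ℂ) := by
      rw [hπ]
      funext g
      simp [hψ₁, hψ₂]
    rw [this, classInner_add_left, classInner_add_left, classInner_irr, classInner_irr,
      classInner_irr]
  have hm2 : 2 ≤ m := by
    have h1 := irrDeg_spec ψ₁
    have h2 := irrDeg_pos ψ₁
    have h3 : (irrDeg ψ₁ : ℂ) = (m : ℂ) - 1 := by rw [← h1]; exact hd₁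
    have h4 : ((irrDeg ψ₁ + 1 : ℕ) : ℂ) = (m : ℂ) := by push_cast; rw [h3]; ring
    have h5 : irrDeg ψ₁ + 1 = m := by exact_mod_cast h4
    omega
  have h12 : ψ₁ ≠ ψ₂ := by
    intro h
    have := congrArg (fun θ : IrrCharacter G => (θ : G → ℂ) 1) h
    simp only [hψ₁, hψ₂] at this
    rw [hd₁, hd₂] at this
    have : (m : ℂ) - 1 - m = 0 := by rw [this]; ring
    norm_num at this
  have h02 : trivIrr G ≠ ψ₂ := by
    intro h
    have := congrArg (fun θ : IrrCharacter G => (θ : G → ℂ) 1) h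
    simp only [hψ₂, trivIrr_apply] at this
    rw [hd₂] at this
    have : m = 1 := by exact_mod_cast this.symm
    omega
  have h01 : trivIrr G ≠ ψ₁ := by
    intro h
    obtain ⟨n, hn1, hn2, -, -⟩ := exists_decomp (G := G) (Ω := Ω) a₀
    have e1 := hmult (trivIrr G)
    rw [hn1, hn2, if_pos rfl, if_pos h.symm, if_neg (fun h' => h02 h'.symm)] at e1
    norm_num at e1
  exact ⟨hm2, h01, h02, h12, hmult⟩

/-- With three distinct constituents, the permutation character is multiplicity-free. -/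
theorem multFree_of_three (ψ₀ ψ₁ ψ₂ : IrrCharacter G) (π : G → ℂ)
    (h01 : ψ₀ ≠ ψ₁) (h02 : ψ₀ ≠ ψ₂) (h12 : ψ₁ ≠ ψ₂)
    (hmult : ∀ ψ : IrrCharacter G, classInner π (ψ : G → ℂ) =
        (if ψ₀ = ψ then 1 else 0) + (if ψ₁ = ψ then 1 else 0) + (if ψ₂ = ψ then 1 else 0))
    (ψ : IrrCharacter G) :
    (classInner π (ψ : G → ℂ) = 0 ∧ ψ ≠ ψ₀ ∧ ψ ≠ ψ₁ ∧ ψ ≠ ψ₂) ∨
    (classInner π (ψ : G → ℂ) = 1 ∧ (ψ = ψ₀ ∨ ψ = ψ₁ ∨ ψ = ψ₂)) := by
  classical
  rw [hmult ψ]
  by_cases e0 : ψ₀ = ψ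
  · right
    rw [if_pos e0, if_neg (fun h => h01 (e0.trans h.symm)), if_neg (fun h => h02 (e0.trans h.symm))]
    exact ⟨by norm_num, Or.inl e0.symm⟩
  · by_cases e1 : ψ₁ = ψ
    · right
      rw [if_neg e0, if_pos e1, if_neg (fun h => h12 (e1.trans h.symm))]
      exact ⟨by norm_num, Or.inr (Or.inl e1.symm)⟩
    · by_cases e2 : ψ₂ = ψ
      · right
        rw [if_neg e0, if_neg e1, if_pos e2]
        exact ⟨by norm_num, Or.inr (Or.inr e2.symm)⟩
      · left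
        rw [if_neg e0, if_neg e1, if_neg e2]
        exact ⟨by norm_num, fun h => e0 h.symm, fun h => e1 h.symm, fun h => e2 h.symm⟩

/-- The constituents are real, hence the group is generously transitive. -/
theorem wielandt_generous [IsPretransitive G Ω] (a₀ : Ω) {m : ℕ} (χ₁ χ₂ : G → ℂ)
    (h₁ : IsIrrCharacter G χ₁) (h₂ : IsIrrCharacter G χ₂)
    (hπ : (fun g : G => (Nat.card (fixedBy Ω g) : ℂ)) = fun g => 1 + χ₁ g + χ₂ g)
    (hd₁ : χ₁ 1 = (m : ℂ) - 1) (hd₂ : χ₂ 1 = m) (a b : Ω) :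
    ∃ g : G, g • a = b ∧ g • b = a := by
  classical
  obtain ⟨hm2, h01, h02, h12, hmult⟩ := wielandt_setup a₀ χ₁ χ₂ h₁ h₂ hπ hd₁ hd₂
  set π : G → ℂ := fun g : G => (Nat.card (fixedBy Ω g) : ℂ) with hπdef
  set ψ₁ : IrrCharacter G := ⟨χ₁, h₁⟩ with hψ₁
  set ψ₂ : IrrCharacter G := ⟨χ₂, h₂⟩ with hψ₂
  have hthree := multFree_of_three (trivIrr G) ψ₁ ψ₂ π h01 h02 h12 hmult
  -- conjugation preserves the multiplicities
  have hstar : ∀ ψ : IrrCharacter G,
      classInner π (irrStar ψ : G → ℂ) = classInner π (ψ : G → ℂ) := by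
    intro ψ
    have h := classInner_star_star π (ψ : G → ℂ)
    have e1 : (fun g => (starRingEnd ℂ) (π g)) = π := by
      funext g
      simp [hπdef]
    rw [e1] at h
    have e2 : (fun g => (starRingEnd ℂ) ((ψ : G → ℂ) g)) = (irrStar ψ : G → ℂ) := rfl
    rw [e2] at h
    rw [h]
    rcases hthree ψ with ⟨h0, -⟩ | ⟨h1, -⟩
    · rw [h0, map_zero]
    · rw [h1, map_one]
  have hdeg : ∀ ψ : IrrCharacter G, (irrStar ψ : G → ℂ) 1 = (ψ : G → ℂ) 1 := by
    intro ψ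
    rw [irrStar_apply, ← irr_inv, inv_one]
  have hstar0 : irrStar (trivIrr G) = trivIrr G := by
    apply Subtype.ext
    funext g
    simp
  have hreal : ∀ ψ : IrrCharacter G, classInner π (ψ : G → ℂ) ≠ 0 → irrStar ψ = ψ := by
    intro ψ hne
    have hψ : ψ = trivIrr G ∨ ψ = ψ₁ ∨ ψ = ψ₂ := by
      rcases hthree ψ with ⟨h0, -⟩ | ⟨-, h⟩
      · exact absurd h0 hne
      · exact h
    have hs : irrStar ψ = trivIrr G ∨ irrStar ψ = ψ₁ ∨ irrStar ψ = ψ₂ := by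
      rcases hthree (irrStar ψ) with ⟨h0, -⟩ | ⟨-, h⟩
      · rw [hstar] at h0
        exact absurd h0 hne
      · exact h
    have hne0 : ∀ θ : IrrCharacter G, θ ≠ trivIrr G → irrStar θ ≠ trivIrr G := by
      intro θ hθ h
      apply hθ
      rw [← irrStar_irrStar θ, h, hstar0]
    have hd12 : (ψ₁ : G → ℂ) 1 ≠ (ψ₂ : G → ℂ) 1 := by
      simp only [hψ₁, hψ₂]
      rw [hd₁, hd₂]
      intro h
      have : (m : ℂ) - 1 - m = 0 := by rw [h]; ring
      norm_num at this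
    rcases hψ with rfl | rfl | rfl
    · exact hstar0
    · rcases hs with h | h | h
      · exact absurd h (hne0 ψ₁ (Ne.symm h01))
      · exact h
      · exfalso
        apply hd12
        rw [← hdeg ψ₁, h]
    · rcases hs with h | h | h
      · exact absurd h (hne0 ψ₂ (Ne.symm h02))
      · exfalso
        apply hd12
        rw [← hdeg ψ₂, h]
      · exact h
  refine generous_of_real_multFree (G := G) (Ω := Ω) ?_ a b
  rw [character_permRep']
  intro χ hχ hne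
  have hψ := hreal ⟨χ, hχ⟩ hne
  constructor
  · rcases hthree ⟨χ, hχ⟩ with ⟨h0, -⟩ | ⟨h1, -⟩
    · exact absurd h0 hne
    · exact h1
  · intro g
    have := congrArg (fun θ : IrrCharacter G => (θ : G → ℂ) g) hψ
    simpa using this

end Setup

end Cfsg.Agent.Helper20.PermChar
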