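import Mathlib
import Cfsg.Prelude.Def_Characters
import Cfsg.Prelude.Def_Perm
import Cfsg.Agent.Helper20.PermCharR

/-!
# Rank three groups: the matrix identities
-/

set_option autoImplicit false

namespace Cfsg.Agent.Helper20.PermChar

open Cfsg Cfsg.Agent.Helper24 Module Matrix MulAction

universe u w

section Mats

variable {G : Type u} [Group G] {Ω : Type w} [MulAction G Ω]

/-- Generous transitivity makes the orbital matrices symmetric. -/
theorem orbMat_symm (hgen : ∀ a b : Ω, ∃ g : G, g • a = b ∧ g • b = a) (a b x y : Ω) :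
    orbMat (G := G) a b x y = orbMat (G := G) a b y x := by
  classical
  obtain ⟨s, hs1, hs2⟩ := hgen a b
  simp only [orbMat, Matrix.of_apply]
  have : (∃ g : G, g • a = x ∧ g • b = y) ↔ (∃ g : G, g • a = y ∧ g • b = x) := by
    constructor
    · rintro ⟨g, h1, h2⟩
      exact ⟨g * s, by rw [mul_smul, hs1, h2], by rw [mul_smul, hs2, h1]⟩
    · rintro ⟨g, h1, h2⟩
      exact ⟨g * s, by rw [mul_smul, hs1, h2], by rw [mul_smul, hs2, h1]⟩
  simp only [this]

/-- The entries of an orbital matrix are idempotent. -/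
theorem orbMat_mul_self (a b x y : Ω) :
    orbMat (G := G) a b x y * orbMat (G := G) a b x y = orbMat (G := G) a b x y := by
  classical
  simp only [orbMat, Matrix.of_apply]
  split_ifs <;> simp

variable [Fintype Ω]

/-- The entries of the square of an orbital matrix are integers. -/
theorem orbMat_sq_int (a b x y : Ω) :
    ∃ z : ℤ, (orbMat (G := G) a b * orbMat (G := G) a b) x y = (z : ℂ) := by
  classical
  refine ⟨(orbMatZ (G := G) a b * orbMatZ (G := G) a b) x y, ?_⟩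
  rw [← orbMatZ_map, Matrix.mul_apply, Matrix.mul_apply]
  push_cast
  rfl

/-- The diagonal entries of the square of a symmetric orbital matrix. -/
theorem orbMat_sq_diag [IsPretransitive G Ω] [Fintype G]
    (hgen : ∀ a b : Ω, ∃ g : G, g • a = b ∧ g • b = a) (a b x : Ω) :
    (orbMat (G := G) a b * orbMat (G := G) a b) x x =
      (Nat.card (orbit (stabilizer G a) b) : ℂ) := by
  rw [Matrix.mul_apply, ← sum_orbMat_row a b x]
  refine Finset.sum_congr rfl ?_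
  intro y _
  rw [orbMat_symm hgen a b y x, orbMat_mul_self]

end Mats

section Rank3

variable {G : Type u} [Group G] [Fintype G] {Ω : Type w} [Fintype Ω] [DecidableEq Ω]
  [MulAction G Ω] [IsPretransitive G Ω]

/-- Rank three: the all-ones matrix is `1 + A + B`. -/
theorem allOnes_eq (a₀ b₁ b₂ : Ω) (hb₁ : b₁ ≠ a₀) (hb₂ : b₂ ≠ a₀)
    (hb : b₂ ∉ orbit (stabilizer G a₀) b₁)
    (hall : ∀ y : Ω, y = a₀ ∨ y ∈ orbit (stabilizer G a₀) b₁ ∨ y ∈ orbit (stabilizer G a₀) b₂) :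
    (Matrix.of fun _ _ : Ω => (1 : ℂ)) =
      (1 : Matrix Ω Ω ℂ) + orbMat (G := G) a₀ b₁ + orbMat (G := G) a₀ b₂ := by
  have := inv_decomp (G := G) a₀ b₁ b₂ hb₁ hb₂ hb hall (Matrix.of fun _ _ : Ω => (1 : ℂ))
    (fun _ _ _ => rfl)
  simp only [Matrix.of_apply, one_smul] at this
  exact this

/-- Rank three: the degree is `1 + k + l`. -/
theorem card_eq_one_add (a₀ b₁ b₂ : Ω) (hb₁ : b₁ ≠ a₀) (hb₂ : b₂ ≠ a₀)
    (hb : b₂ ∉ orbit (stabilizer G a₀) b₁)
    (hall : ∀ y : Ω, y = a₀ ∨ y ∈ orbit (stabilizer G a₀) b₁ ∨ y ∈ orbit (stabilizer G a₀) b₂) :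
    Fintype.card Ω = 1 + Nat.card (orbit (stabilizer G a₀) b₁) +
      Nat.card (orbit (stabilizer G a₀) b₂) := by
  have h := allOnes_eq (G := G) a₀ b₁ b₂ hb₁ hb₂ hb hall
  have h2 : ∑ y : Ω, (Matrix.of fun _ _ : Ω => (1 : ℂ)) a₀ y =
      ∑ y : Ω, ((1 : Matrix Ω Ω ℂ) + orbMat (G := G) a₀ b₁ + orbMat (G := G) a₀ b₂) a₀ y := by
    rw [← h]
  simp only [Matrix.of_apply, Matrix.add_apply, Finset.sum_add_distrib, sum_orbMat_row,
    Finset.sum_const, Finset.card_univ, nsmul_eq_mul, mul_one] at h2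
  rw [Finset.sum_eq_single a₀ (fun y _ hy => Matrix.one_apply_ne (Ne.symm hy))
    (fun h => absurd (Finset.mem_univ _) h), Matrix.one_apply_eq] at h2
  exact_mod_cast h2

/-- Rank three: the square of the orbital matrix `A` is `k + λ A + μ B` with integers
`λ, μ`. -/
theorem orbMat_sq_decomp (hgen : ∀ a b : Ω, ∃ g : G, g • a = b ∧ g • b = a)
    (a₀ b₁ b₂ : Ω) (hb₁ : b₁ ≠ a₀) (hb₂ : b₂ ≠ a₀)
    (hb : b₂ ∉ orbit (stabilizer G a₀) b₁)
    (hall : ∀ y : Ω, y = a₀ ∨ y ∈ orbit (stabilizer G a₀) b₁ ∨ y ∈ orbit (stabilizer G a₀) b₂) :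
    ∃ lam mu : ℤ, orbMat (G := G) a₀ b₁ * orbMat (G := G) a₀ b₁ =
      (Nat.card (orbit (stabilizer G a₀) b₁) : ℂ) • (1 : Matrix Ω Ω ℂ) +
        (lam : ℂ) • orbMat (G := G) a₀ b₁ + (mu : ℂ) • orbMat (G := G) a₀ b₂ := by
  obtain ⟨lam, hlam⟩ := orbMat_sq_int (G := G) a₀ b₁ a₀ b₁
  obtain ⟨mu, hmu⟩ := orbMat_sq_int (G := G) a₀ b₁ a₀ b₂
  refine ⟨lam, mu, ?_⟩
  have := inv_decomp (G := G) a₀ b₁ b₂ hb₁ hb₂ hb hall
    (orbMat (G := G) a₀ b₁ * orbMat (G := G) a₀ b₁)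
    (mul_mat_inv _ _ (fun g x y => orbMat_smul a₀ b₁ g x y)
      (fun g x y => orbMat_smul a₀ b₁ g x y))
  rw [orbMat_sq_diag hgen, hlam, hmu] at this
  exact this

end Rank3

section Relations

variable {G : Type u} [Group G] [Fintype G] {Ω : Type w} [Fintype Ω] [DecidableEq Ω]
  [MulAction G Ω] [IsPretransitive G Ω]

/-- The two eigenvalue relations, with integer eigenvalues. -/
theorem wielandt_relations (hgen : ∀ a b : Ω, ∃ g : G, g • a = b ∧ g • b = a)
    (a₀ b₁ b₂ : Ω) (hb₁ : b₁ ≠ a₀) (hb₂ : b₂ ≠ a₀)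
    (hb : b₂ ∉ orbit (stabilizer G a₀) b₁)
    (hall : ∀ y : Ω, y = a₀ ∨ y ∈ orbit (stabilizer G a₀) b₁ ∨ y ∈ orbit (stabilizer G a₀) b₂)
    (ψ₁ ψ₂ : IrrCharacter G) (h01 : trivIrr G ≠ ψ₁) (h02 : trivIrr G ≠ ψ₂) (h12 : ψ₁ ≠ ψ₂)
    (hmult : ∀ ψ : IrrCharacter G,
      classInner (fun g : G => (Nat.card (fixedBy Ω g) : ℂ)) (ψ : G → ℂ) =
        (if trivIrr G = ψ then 1 else 0) + (if ψ₁ = ψ then 1 else 0) +
          (if ψ₂ = ψ then 1 else 0))
    {m : ℕ} (hm2 : 2 ≤ m) (hd₁ : (ψ₁ : G → ℂ) 1 = (m : ℂ) - 1) (hd₂ : (ψ₂ : G → ℂ) 1 = m)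
    (hcard : Fintype.card Ω = 2 * m) :
    ∃ r s : ℤ,
      (Nat.card (orbit (stabilizer G a₀) b₁) : ℤ) + ((m : ℤ) - 1) * r + (m : ℤ) * s = 0 ∧
      (Nat.card (orbit (stabilizer G a₀) b₁) : ℤ) ^ 2 + ((m : ℤ) - 1) * r ^ 2 + (m : ℤ) * s ^ 2 =
        2 * (m : ℤ) * (Nat.card (orbit (stabilizer G a₀) b₁) : ℤ) := by
  classical
  haveI : Fintype (IrrCharacter G) := Fintype.ofFinite _
  set π : G → ℂ := fun g : G => (Nat.card (fixedBy Ω g) : ℂ) with hπdef
  set A : Matrix Ω Ω ℂ := orbMat (G := G) a₀ b₁ with hA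
  set B : Matrix Ω Ω ℂ := orbMat (G := G) a₀ b₂ with hB
  set k : ℕ := Nat.card (orbit (stabilizer G a₀) b₁) with hk
  have hAinv : ∀ (g : G) (x y : Ω), A (g • x) (g • y) = A x y :=
    fun g x y => orbMat_smul a₀ b₁ g x y
  have hthree := multFree_of_three (trivIrr G) ψ₁ ψ₂ π h01 h02 h12 hmult
  have hmf : ∀ χ : IrrCharacter G, classInner π (χ : G → ℂ) = 0 ∨
      classInner π (χ : G → ℂ) = 1 :=
    fun χ => (hthree χ).elim (fun h => Or.inl h.1) (fun h => Or.inr h.1)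
  have hc : ∀ ψ : IrrCharacter G, (ψ = trivIrr G ∨ ψ = ψ₁ ∨ ψ = ψ₂) →
      classInner π (ψ : G → ℂ) = 1 := by
    intro ψ hψ
    rcases hthree ψ with ⟨-, n0, n1, n2⟩ | ⟨h, -⟩
    · rcases hψ with h | h | h
      · exact absurd h n0
      · exact absurd h n1
      · exact absurd h n2
    · exact h
  have hc1 := hc ψ₁ (Or.inr (Or.inl rfl))
  have hc2 := hc ψ₂ (Or.inr (Or.inr rfl))
  -- sums over the three constituents
  have hsum3 : ∀ f : IrrCharacter G → ℂ,
      (∀ ψ : IrrCharacter G, classInner π (ψ : G → ℂ) = 0 → f ψ = 0) →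
      ∑ ψ : IrrCharacter G, f ψ = f (trivIrr G) + f ψ₁ + f ψ₂ := by
    intro f hf
    have hsub : ∑ ψ ∈ ({trivIrr G, ψ₁, ψ₂} : Finset (IrrCharacter G)), f ψ =
        ∑ ψ : IrrCharacter G, f ψ := by
      apply Finset.sum_subset (Finset.subset_univ _)
      intro ψ _ hψ
      apply hf
      rcases hthree ψ with ⟨h, -⟩ | ⟨-, h⟩
      · exact h
      · exfalso
        apply hψ
        rcases h with h | h | h <;> simp [h]
    rw [← hsub, Finset.sum_insert, Finset.sum_insert, Finset.sum_singleton]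
    · ring
    · simpa using h12
    · simp only [Finset.mem_insert, Finset.mem_singleton, not_or]
      exact ⟨h01, h02⟩
  set r : ℂ := eigM A (ψ₁ : G → ℂ) with hr
  set s : ℂ := eigM A (ψ₂ : G → ℂ) with hs
  have e0 : eigM A (trivIrr G : G → ℂ) = (k : ℂ) := by
    rw [hA, eigM_orbMat a₀ b₁ _ (irr_one_ne_zero _)]
    exact orbCoeff_one a₀ b₁
  have ht1 : (trivIrr G : G → ℂ) 1 = 1 := rfl
  -- first relation
  have R1 : (k : ℂ) + ((m : ℂ) - 1) * r + (m : ℂ) * s = 0 := by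
    have h := trace_eq_sum_eigM (G := G) A
    have htr : A.trace = 0 := by
      simp only [Matrix.trace, Matrix.diag]
      apply Finset.sum_eq_zero
      intro x _
      exact orbMat_diag a₀ b₁ hb₁ x
    rw [htr, hsum3 _ (fun ψ hψ => by rw [eigM_eq_zero A ψ hψ, mul_zero]), e0, ht1, hd₁, hd₂] at h
    rw [← hr, ← hs] at h
    linear_combination -h
  -- second relation
  have R2 : (k : ℂ) ^ 2 + ((m : ℂ) - 1) * r ^ 2 + (m : ℂ) * s ^ 2 = 2 * (m : ℂ) * (k : ℂ) := by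
    have h := trace_eq_sum_eigM (G := G) (A * A)
    have htr : (A * A).trace = 2 * (m : ℂ) * (k : ℂ) := by
      simp only [Matrix.trace, Matrix.diag]
      simp_rw [hA, orbMat_sq_diag hgen]
      rw [Finset.sum_const, Finset.card_univ, hcard, nsmul_eq_mul]
      push_cast
      ring
    rw [htr, hsum3 _ (fun ψ hψ => by rw [eigM_eq_zero (A * A) ψ hψ, mul_zero]),
      eigM_mul hmf A A hAinv hAinv, eigM_mul hmf A A hAinv hAinv, eigM_mul hmf A A hAinv hAinv,
      e0, ht1, hd₁, hd₂] at h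
    rw [← hr, ← hs] at h
    linear_combination -h
  -- the quadratic relation
  obtain ⟨lam, mu, hsq⟩ := orbMat_sq_decomp hgen a₀ b₁ b₂ hb₁ hb₂ hb hall
  have hJ := allOnes_eq (G := G) a₀ b₁ b₂ hb₁ hb₂ hb hall
  rw [← hA, ← hB] at hsq hJ
  have hquad : ∀ ψ : IrrCharacter G, ψ ≠ trivIrr G → classInner π (ψ : G → ℂ) = 1 →
      eigM A (ψ : G → ℂ) ^ 2 = (k : ℂ) + (lam : ℂ) * eigM A (ψ : G → ℂ) +
        (mu : ℂ) * (-1 - eigM A (ψ : G → ℂ)) := by
    intro ψ hψ hψ1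
    have hJ' := congrArg (fun M => eigM M (ψ : G → ℂ)) hJ
    rw [eigM_allOnes ψ hψ, eigM_add, eigM_add, eigM_one ψ hψ1] at hJ'
    have hsq' := congrArg (fun M => eigM M (ψ : G → ℂ)) hsq
    rw [eigM_mul hmf A A hAinv hAinv, eigM_add, eigM_add, eigM_smul, eigM_smul, eigM_smul,
      eigM_one ψ hψ1] at hsq'
    have : eigM B (ψ : G → ℂ) = -1 - eigM A (ψ : G → ℂ) := by linear_combination -hJ'
    rw [this] at hsq'
    rw [pow_two, hsq']
    ring
  have q1 := hquad ψ₁ (Ne.symm h01) hc1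
  have q2 := hquad ψ₂ (Ne.symm h02) hc2
  rw [← hr] at q1
  rw [← hs] at q2
  -- integrality
  have ir : IsIntegral ℤ r := by
    rw [hr, hA, eigM_orbMat a₀ b₁ _ (irr_one_ne_zero _)]
    exact isIntegral_orbCoeff_irr a₀ b₁ _ ψ₁.2
  have hm' : (m : ℂ) ≠ 0 := by
    have : m ≠ 0 := by omega
    exact_mod_cast this
  -- integer values
  have hint : ∃ zr zs : ℤ, r = (zr : ℂ) ∧ s = (zs : ℂ) := by
    by_cases hrs : r = s
    · have h2m : (2 * (m : ℂ) - 1) ≠ 0 := by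
        have : (2 * m - 1 : ℕ) ≠ 0 := by omega
        have h3 : ((2 * m - 1 : ℕ) : ℂ) = 2 * (m : ℂ) - 1 := by
          rw [Nat.cast_sub (by omega)]
          push_cast
          ring
        rw [← h3]
        exact_mod_cast this
      have hr2 : r = ((-(k : ℚ) / (2 * (m : ℚ) - 1) : ℚ) : ℂ) := by
        push_cast
        rw [eq_div_iff h2m]
        rw [← hrs] at R1
        linear_combination R1
      rw [hr2] at ir
      obtain ⟨z, hz⟩ := exists_int_of_isIntegral_ratCast ir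
      refine ⟨z, z, ?_, ?_⟩
      · rw [hr2, hz]; push_cast; rfl
      · rw [← hrs, hr2, hz]; push_cast; rfl
    · have hsum : r + s = (lam : ℂ) - (mu : ℂ) := by
        have : (r - s) * (r + s - ((lam : ℂ) - (mu : ℂ))) = 0 := by
          linear_combination q1 - q2
        rcases mul_eq_zero.mp this with h | h
        · exact absurd (sub_eq_zero.mp h) hrs
        · linear_combination h
      have hr3 : r = (k : ℂ) + (m : ℂ) * ((lam : ℂ) - (mu : ℂ)) := by
        rw [← hsum]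
        linear_combination -R1
      refine ⟨(k : ℤ) + (m : ℤ) * (lam - mu), (lam - mu) - ((k : ℤ) + (m : ℤ) * (lam - mu)), ?_, ?_⟩
      · rw [hr3]; push_cast; ring
      · have : s = (lam : ℂ) - (mu : ℂ) - r := by linear_combination hsum
        rw [this, hr3]; push_cast; ring
  obtain ⟨zr, zs, hzr, hzs⟩ := hint
  refine ⟨zr, zs, ?_, ?_⟩
  · rw [hzr, hzs] at R1
    exact_mod_cast R1
  · rw [hzr, hzs] at R2
    exact_mod_cast R2

end Relations

end Cfsg.Agent.Helper20.PermChar
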