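import Mathlib

set_option autoImplicit false

namespace Cfsg.Agent.Helper20

/-- Split a nonzero natural number into its `π`-part and `π'`-part. -/
lemma exists_pi_decomp (π : Set ℕ) (o : ℕ) (ho : o ≠ 0) :
    ∃ a b : ℕ, o = a * b ∧ a.Coprime b ∧ (∀ r : ℕ, r.Prime → r ∣ a → r ∈ π) ∧
      (∀ r : ℕ, r.Prime → r ∣ b → r ∉ π) := by
  have key : ∃ a b : ℕ, o = a * b ∧ (∀ r : ℕ, r.Prime → r ∣ a → r ∈ π) ∧
      (∀ r : ℕ, r.Prime → r ∣ b → r ∉ π) := by
    induction o using Nat.recOnMul with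
    | zero => exact absurd rfl ho
    | one =>
      refine ⟨1, 1, rfl, ?_, ?_⟩ <;>
      · intro r hr h1
        exact absurd (Nat.dvd_one.1 h1) hr.ne_one
    | prime p hp =>
      by_cases hpπ : p ∈ π
      · refine ⟨p, 1, (mul_one p).symm, ?_, ?_⟩
        · intro r hr h1
          rw [(Nat.prime_dvd_prime_iff_eq hr hp).1 h1]; exact hpπ
        · intro r hr h1
          exact absurd (Nat.dvd_one.1 h1) hr.ne_one
      · refine ⟨1, p, (one_mul p).symm, ?_, ?_⟩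
        · intro r hr h1
          exact absurd (Nat.dvd_one.1 h1) hr.ne_one
        · intro r hr h1
          rw [(Nat.prime_dvd_prime_iff_eq hr hp).1 h1]; exact hpπ
    | mul o₁ o₂ ih₁ ih₂ =>
      obtain ⟨a₁, b₁, e₁, ha₁, hb₁⟩ := ih₁ (left_ne_zero_of_mul ho)
      obtain ⟨a₂, b₂, e₂, ha₂, hb₂⟩ := ih₂ (right_ne_zero_of_mul ho)
      refine ⟨a₁ * a₂, b₁ * b₂, by rw [e₁, e₂]; ring, ?_, ?_⟩
      · intro r hr h1
        rcases (Nat.Prime.dvd_mul hr).1 h1 with h | h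
        · exact ha₁ r hr h
        · exact ha₂ r hr h
      · intro r hr h1
        rcases (Nat.Prime.dvd_mul hr).1 h1 with h | h
        · exact hb₁ r hr h
        · exact hb₂ r hr h
  obtain ⟨a, b, e, ha, hb⟩ := key
  exact ⟨a, b, e, Nat.coprime_of_dvd (fun r hr h1 h2 => hb r hr h2 (ha r hr h1)), ha, hb⟩

/-- A `π`-element of `G ⧸ N` lifts to a `π`-element of `G` (finite `G`). -/
lemma exists_pi_lift {G : Type*} [Group G] [Finite G] (π : Set ℕ) (N : Subgroup G) [N.Normal]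
    (y' : G ⧸ N) (hy' : ∀ r : ℕ, r.Prime → r ∣ orderOf y' → r ∈ π) :
    ∃ y : G, (y : G ⧸ N) = y' ∧ ∀ r : ℕ, r.Prime → r ∣ orderOf y → r ∈ π := by
  obtain ⟨y₀, rfl⟩ := QuotientGroup.mk_surjective y'
  obtain ⟨a, b, e, hcop, ha, hb⟩ := exists_pi_decomp π (orderOf y₀) (orderOf_pos y₀).ne'
  obtain ⟨u, v, huv⟩ := (Nat.isCoprime_iff_coprime.2 hcop)
  have hdvd : orderOf (y₀ : G ⧸ N) ∣ a := by
    have h1 : orderOf (y₀ : G ⧸ N) ∣ a * b := by
      rw [← e]; exact orderOf_map_dvd (QuotientGroup.mk' N) y₀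
    have h2 : (orderOf (y₀ : G ⧸ N)).Coprime b :=
      Nat.coprime_of_dvd (fun r hr h1 h2 => hb r hr h2 (hy' r hr h1))
    exact h2.dvd_of_dvd_mul_right h1
  refine ⟨y₀ ^ (v * b), ?_, ?_⟩
  · have h1 : (y₀ : G ⧸ N) ^ (u * a) = 1 := by
      rw [mul_comm, zpow_mul, zpow_natCast, orderOf_dvd_iff_pow_eq_one.1 hdvd, one_zpow]
    calc ((y₀ ^ (v * b) : G) : G ⧸ N) = (y₀ : G ⧸ N) ^ (v * b) := by simp
      _ = (y₀ : G ⧸ N) ^ (u * a) * (y₀ : G ⧸ N) ^ (v * b) := by rw [h1, one_mul]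
      _ = (y₀ : G ⧸ N) ^ (u * a + v * b) := (zpow_add _ _ _).symm
      _ = (y₀ : G ⧸ N) := by rw [huv, zpow_one]
  · have h1 : (y₀ ^ (v * b)) ^ a = 1 := by
      rw [← zpow_natCast, ← zpow_mul]
      have : v * b * a = (orderOf y₀ : ℤ) * v := by rw [e]; push_cast; ring
      rw [this, zpow_mul, zpow_natCast, pow_orderOf_eq_one, one_zpow]
    intro r hr hdvd'
    exact ha r hr (hdvd'.trans (orderOf_dvd_of_pow_eq_one h1))

end Cfsg.Agent.Helper20
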