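import Mathlib
import Cfsg.Agent.Helper20.Sylow
import Cfsg.Agent.Helper20.PiPart

set_option autoImplicit false

namespace Cfsg.Agent.Helper20

universe u

/-- `g` is a `π`-element -/
def IsPiElt {G : Type*} [Group G] (π : Set ℕ) (g : G) : Prop :=
  ∀ q : ℕ, q.Prime → q ∣ orderOf g → q ∈ π

/-- the condition on conjugacy classes used in S4106 -/
def IsPiClass {G : Type*} [Group G] (π : Set ℕ) (C : ConjClasses G) : Prop :=
  ∀ q : ℕ, q.Prime → (∃ g : G, ConjClasses.mk g = C ∧ q ∣ orderOf g) → q ∈ π

lemma orderOf_eq_of_isConj {G : Type*} [Group G] {a b : G} (h : IsConj a b) :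
    orderOf a = orderOf b := by
  obtain ⟨c, hc⟩ := isConj_iff.1 h
  have hs : SemiconjBy c a b := by
    unfold SemiconjBy; rw [← hc]; group
  exact SemiconjBy.orderOf_eq c hs

lemma isPiClass_mk_iff {G : Type*} [Group G] (π : Set ℕ) (g₀ : G) :
    IsPiClass π (ConjClasses.mk g₀) ↔ IsPiElt π g₀ := by
  constructor
  · intro h q hq hd
    exact h q hq ⟨g₀, rfl, hd⟩
  · rintro h q hq ⟨g, hg, hd⟩
    rw [ConjClasses.mk_eq_mk_iff_isConj] at hg
    rw [orderOf_eq_of_isConj hg] at hd
    exact h q hq hd

/-- the map `(x, class of y in C_G(x)) ↦ class of x * y` -/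
noncomputable def mulClass {G : Type*} [Group G] (x : G) :
    ConjClasses (Subgroup.centralizer ({x} : Set G)) → ConjClasses G :=
  Quotient.lift (fun y : Subgroup.centralizer ({x} : Set G) => ConjClasses.mk (x * (y : G))) (by
    intro a b hab
    have hab' : IsConj a b := hab
    obtain ⟨c, hc⟩ := isConj_iff.1 hab'
    rw [ConjClasses.mk_eq_mk_iff_isConj, isConj_iff]
    refine ⟨(c : G), ?_⟩
    have hcx : x * (c : G) = (c : G) * x := by
      have := c.2
      rw [Subgroup.mem_centralizer_iff] at this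
      exact this x rfl
    have hc' : (c : G) * (a : G) * (c : G)⁻¹ = (b : G) := by
      have := congrArg Subtype.val hc
      simpa using this
    calc (c : G) * (x * (a : G)) * (c : G)⁻¹ = ((c : G) * x) * (a : G) * (c : G)⁻¹ := by group
      _ = (x * (c : G)) * (a : G) * (c : G)⁻¹ := by rw [hcx]
      _ = x * ((c : G) * (a : G) * (c : G)⁻¹) := by group
      _ = x * (b : G) := by rw [hc'])

lemma mulClass_mk {G : Type*} [Group G] (x : G) (y : Subgroup.centralizer ({x} : Set G)) :
    mulClass x (ConjClasses.mk y) = ConjClasses.mk (x * (y : G)) := rfl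

end Cfsg.Agent.Helper20
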