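import Mathlib
import Cfsg.Agent.Helper20.PiClassesA

set_option autoImplicit false

namespace Cfsg.Agent.Helper20

open scoped Pointwise

lemma mem_conj_smul'' {G : Type*} [Group G] (g x : G) (H : Subgroup G) :
    x ∈ MulAut.conj g • H ↔ g⁻¹ * x * g ∈ H := by
  rw [Subgroup.mem_smul_pointwise_iff_exists]
  constructor
  · rintro ⟨s, hs, rfl⟩
    simpa [MulAut.smul_def, mul_assoc] using hs
  · intro h
    exact ⟨_, h, by simp [MulAut.smul_def, mul_assoc]⟩

lemma exists_decomp_class {G : Type*} [Group G] [Finite G] (π : Set ℕ) (p : ℕ) [Fact p.Prime]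
    (P : Sylow p G) (C : ConjClasses G) (hC : IsPiClass π C) :
    ∃ (x : (P : Subgroup G)) (D : ConjClasses (Subgroup.centralizer ({(x : G)} : Set G))),
      IsPiClass (π \ {p}) D ∧ mulClass (x : G) D = C := by
  obtain ⟨g, rfl⟩ := ConjClasses.mk_surjective C
  rw [isPiClass_mk_iff] at hC
  obtain ⟨a, m, s, t, hcop, hord, hdecomp⟩ := exists_pow_decomp p g
  obtain ⟨u, hu⟩ : ∃ u, u = (g ^ m) ^ t := ⟨_, rfl⟩
  obtain ⟨w, hw⟩ : ∃ w, w = (g ^ (p ^ a)) ^ s := ⟨_, rfl⟩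
  have hg : g = w * u := by rw [hw, hu]; exact hdecomp
  have hcomm : Commute u w := by
    rw [hu, hw]
    exact (((Commute.refl g).pow_pow m (p ^ a)).zpow_zpow t s)
  -- u is a p-element
  have hup : u ^ (p ^ a) = 1 := by
    rw [hu, ← zpow_natCast, ← zpow_mul, mul_comm, zpow_mul, zpow_natCast, ← hord,
      pow_orderOf_eq_one, one_zpow]
  have hpg : IsPGroup p (Subgroup.zpowers u) := by
    rw [IsPGroup.iff_card, Nat.card_zpowers]
    obtain ⟨b, _, hb⟩ := (Nat.dvd_prime_pow Fact.out).1 (orderOf_dvd_of_pow_eq_one hup)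
    exact ⟨b, hb⟩
  obtain ⟨Q, hQ⟩ := hpg.exists_le_sylow
  obtain ⟨h, rfl⟩ := MulAction.exists_smul_eq G P Q
  have hxP : h⁻¹ * u * h ∈ (P : Subgroup G) := by
    have := hQ (Subgroup.mem_zpowers u)
    rwa [Sylow.smul_def, Sylow.pointwise_smul_def, mem_conj_smul''] at this
  have hyC : h⁻¹ * w * h ∈ Subgroup.centralizer ({h⁻¹ * u * h} : Set G) := by
    rw [Subgroup.mem_centralizer_iff]
    intro z hz
    rw [Set.mem_singleton_iff] at hz
    subst hz
    calc h⁻¹ * u * h * (h⁻¹ * w * h) = h⁻¹ * (u * w) * h := by group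
      _ = h⁻¹ * (w * u) * h := by rw [hcomm.eq]
      _ = h⁻¹ * w * h * (h⁻¹ * u * h) := by group
  refine ⟨⟨h⁻¹ * u * h, hxP⟩, ConjClasses.mk ⟨h⁻¹ * w * h, hyC⟩, ?_, ?_⟩
  · rw [isPiClass_mk_iff]
    intro q hq hd
    rw [Subgroup.orderOf_mk] at hd
    have hconj : orderOf (h⁻¹ * w * h) = orderOf w := by
      apply (orderOf_eq_of_isConj _).symm
      rw [isConj_iff]; exact ⟨h⁻¹, by group⟩
    rw [hconj] at hd
    have hd1 : q ∣ orderOf (g ^ (p ^ a)) := by
      apply hd.trans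
      apply orderOf_dvd_of_mem_zpowers
      rw [hw]; exact Subgroup.zpow_mem _ (Subgroup.mem_zpowers _) s
    have hd2 : q ∣ orderOf g := hd1.trans (orderOf_pow_dvd _)
    refine ⟨hC q hq hd2, ?_⟩
    rw [Set.mem_singleton_iff]
    rintro rfl
    have := Nat.Coprime.eq_one_of_dvd hcop.symm hd1
    exact hq.one_lt.ne' this
  · rw [mulClass_mk, ConjClasses.mk_eq_mk_iff_isConj, isConj_iff]
    refine ⟨h, ?_⟩
    show h * (h⁻¹ * u * h * (h⁻¹ * w * h)) * h⁻¹ = g
    rw [hg, ← hcomm.eq]; group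

end Cfsg.Agent.Helper20
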