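import Mathlib
import Cfsg.Agent.Helper20.PiClassesB

set_option autoImplicit false

namespace Cfsg.Agent.Helper20

universe u

/-- number of primes of `π` dividing `N` -/
noncomputable def piCount (π : Set ℕ) (N : ℕ) : ℕ := Set.ncard {q : ℕ | q.Prime ∧ q ∣ N ∧ q ∈ π}

lemma piCount_finite (π : Set ℕ) (N : ℕ) (hN : N ≠ 0) : {q : ℕ | q.Prime ∧ q ∣ N ∧ q ∈ π}.Finite := by
  apply Set.Finite.subset (N.primeFactors.finite_toSet)
  intro q hq
  exact Nat.mem_primeFactors.2 ⟨hq.1, hq.2.1, hN⟩

lemma piCount_eq_zero_iff (π : Set ℕ) (N : ℕ) (hN : N ≠ 0) :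
    piCount π N = 0 ↔ ∀ p ∈ π, p.Prime → ¬ p ∣ N := by
  unfold piCount
  rw [Set.ncard_eq_zero (piCount_finite π N hN), Set.eq_empty_iff_forall_notMem]
  constructor
  · intro h p hp hpp hd
    exact h p ⟨hpp, hd, hp⟩
  · intro h q hq
    exact h q hq.2.2 hq.1 hq.2.1

lemma piCount_lt (π : Set ℕ) (N N' p : ℕ) (hN : N ≠ 0) (hN' : N' ∣ N) (hp : p.Prime) (hpπ : p ∈ π)
    (hpN : p ∣ N) : piCount (π \ {p}) N' < piCount π N := by
  unfold piCount
  apply Set.ncard_lt_ncard _ (piCount_finite π N hN)
  rw [Set.ssubset_iff_of_subset]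
  · refine ⟨p, ⟨hp, hpN, hpπ⟩, ?_⟩
    intro h
    exact h.2.2.2 rfl
  · intro q hq
    exact ⟨hq.1, hq.2.1.trans hN', hq.2.2.1⟩

lemma card_piClasses_le_one {G : Type u} [Group G] [Finite G] (π : Set ℕ)
    (h : ∀ p ∈ π, p.Prime → ¬ p ∣ Nat.card G) :
    Nat.card {C : ConjClasses G // IsPiClass π C} ≤ 1 := by
  rw [Finite.card_le_one_iff_subsingleton]
  have key : ∀ C : ConjClasses G, IsPiClass π C → C = ConjClasses.mk 1 := by
    intro C hC
    obtain ⟨g, rfl⟩ := ConjClasses.mk_surjective C
    rw [isPiClass_mk_iff] at hC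
    have : orderOf g = 1 := by
      by_contra hne
      obtain ⟨q, hq, hqd⟩ := Nat.exists_prime_and_dvd hne
      exact h q (hC q hq hqd) hq (hqd.trans (orderOf_dvd_natCard g))
    rw [orderOf_eq_one_iff] at this
    rw [this]
  constructor
  intro C D
  apply Subtype.ext
  rw [key C.1 C.2, key D.1 D.2]

theorem card_piClasses_le (n : ℕ) : ∀ (G : Type u) [Group G] [Finite G] (π : Set ℕ),
    (∀ q ∈ π, q.Prime) → piCount π (Nat.card G) ≤ n →
    ∀ m : ℕ, m ∣ Nat.card G → (∀ q : ℕ, q.Prime → q ∣ m → q ∈ π) →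
    (∀ q ∈ π, ¬ q ∣ Nat.card G / m) →
    Nat.card {C : ConjClasses G // IsPiClass π C} ≤ m := by
  classical
  induction n with
  | zero =>
    intro G _ _ π hπ hcount m hm _ _
    have hmpos : 1 ≤ m := Nat.pos_of_dvd_of_pos hm Nat.card_pos
    refine (card_piClasses_le_one π ?_).trans hmpos
    exact (piCount_eq_zero_iff π _ Nat.card_pos.ne').1 (Nat.le_zero.1 hcount)
  | succ n ih =>
    intro G _ _ π hπ hcount m hm hmπ hm'
    have hmpos : 1 ≤ m := Nat.pos_of_dvd_of_pos hm Nat.card_pos
    by_cases hex : ∃ p ∈ π, p ∣ Nat.card G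
    swap
    · refine (card_piClasses_le_one π ?_).trans hmpos
      intro p hp _ hd
      exact hex ⟨p, hp, hd⟩
    obtain ⟨p, hpπ, hpd⟩ := hex
    have hpp : p.Prime := hπ p hpπ
    haveI := Fact.mk hpp
    obtain ⟨P⟩ : Nonempty (Sylow p G) := inferInstance
    -- |P| divides m
    obtain ⟨v, hv⟩ := IsPGroup.iff_card.1 P.2
    have hPm : Nat.card (P : Subgroup G) ∣ m := by
      have h1 : Nat.card (P : Subgroup G) ∣ m * (Nat.card G / m) := by
        rw [Nat.mul_div_cancel' hm]; exact Subgroup.card_subgroup_dvd_card _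
      have h2 : (Nat.card (P : Subgroup G)).Coprime (Nat.card G / m) := by
        rw [hv]
        exact Nat.Coprime.pow_left _ ((Nat.Prime.coprime_iff_not_dvd hpp).2 (hm' p hpπ))
      exact h2.dvd_of_dvd_mul_right h1
    -- data for each x ∈ P
    have hdata : ∀ x : (P : Subgroup G), ∃ a : ℕ,
        Nat.card {D : ConjClasses (Subgroup.centralizer ({(x : G)} : Set G)) //
          IsPiClass (π \ {p}) D} ≤ a ∧ a * Nat.card (P : Subgroup G) ≤ m := by
      intro x
      obtain ⟨a, b, hab, hcop, ha, hb⟩ := exists_pi_decomp (π \ {p})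
        (Nat.card (Subgroup.centralizer ({(x : G)} : Set G))) Nat.card_pos.ne'
      refine ⟨a, ?_, ?_⟩
      · apply ih (Subgroup.centralizer ({(x : G)} : Set G)) (π \ {p})
        · intro q hq; exact hπ q hq.1
        · -- the count drops
          have := piCount_lt π (Nat.card G) (Nat.card (Subgroup.centralizer ({(x : G)} : Set G))) p
            Nat.card_pos.ne' (Subgroup.card_subgroup_dvd_card _) hpp hpπ hpd
          omega
        · exact Dvd.intro _ hab.symm
        · exact ha
        · intro q hq hd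
          have : Nat.card (Subgroup.centralizer ({(x : G)} : Set G)) / a = b := by
            rw [hab]
            have ha0 : 0 < a := by
              rcases Nat.eq_zero_or_pos a with rfl | h
              · rw [zero_mul] at hab; exact absurd hab Nat.card_pos.ne'
              · exact h
            exact Nat.mul_div_cancel_left _ ha0
          rw [this] at hd
          exact hb q (hπ q hq.1) hd hq
      · -- a * |P| ∣ m
        have ha1 : a ∣ Nat.card G :=
          (Dvd.intro _ hab.symm).trans (Subgroup.card_subgroup_dvd_card _)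
        have ha2 : a ∣ m := by
          have h1 : a ∣ m * (Nat.card G / m) := by rwa [Nat.mul_div_cancel' hm]
          have h2 : a.Coprime (Nat.card G / m) := by
            apply Nat.coprime_of_dvd
            intro q hq hqa hqd
            exact hm' q (ha q hq hqa).1 hqd
          exact h2.dvd_of_dvd_mul_right h1
        have ha3 : a.Coprime (Nat.card (P : Subgroup G)) := by
          rw [hv]
          apply Nat.Coprime.pow_right
          apply Nat.coprime_of_dvd
          intro q hq hqa hqp
          have : q = p := (Nat.prime_dvd_prime_iff_eq hq hpp).1 hqp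
          exact (ha q hq hqa).2 (by rw [this]; rfl)
        exact Nat.le_of_dvd (by omega) (Nat.Coprime.mul_dvd_of_dvd_of_dvd ha3 ha2 hPm)
    choose a ha1 ha2 using hdata
    -- the injection
    have hinj : ∀ C : {C : ConjClasses G // IsPiClass π C},
        ∃ z : (Σ x : (P : Subgroup G),
          {D : ConjClasses (Subgroup.centralizer ({(x : G)} : Set G)) // IsPiClass (π \ {p}) D}),
          mulClass (z.1 : G) z.2.1 = C.1 := by
      intro C
      obtain ⟨x, D, hD, hxD⟩ := exists_decomp_class π p P C.1 C.2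
      exact ⟨⟨x, ⟨D, hD⟩⟩, hxD⟩
    choose f hf using hinj
    have hfinj : Function.Injective f := by
      intro C₁ C₂ h
      apply Subtype.ext
      rw [← hf C₁, ← hf C₂, h]
    have h1 := Nat.card_le_card_of_injective f hfinj
    haveI := Fintype.ofFinite (P : Subgroup G)
    rw [Nat.card_sigma] at h1
    have h2 : ∑ x : (P : Subgroup G), Nat.card {D : ConjClasses
        (Subgroup.centralizer ({(x : G)} : Set G)) // IsPiClass (π \ {p}) D} ≤
        ∑ x : (P : Subgroup G), a x := Finset.sum_le_sum (fun x _ => ha1 x)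
    have h3 : (∑ x : (P : Subgroup G), a x) * Nat.card (P : Subgroup G) ≤
        m * Nat.card (P : Subgroup G) := by
      rw [Finset.sum_mul]
      calc ∑ x : (P : Subgroup G), a x * Nat.card (P : Subgroup G)
          ≤ ∑ _x : (P : Subgroup G), m := Finset.sum_le_sum (fun x _ => ha2 x)
        _ = m * Nat.card (P : Subgroup G) := by
          rw [Finset.sum_const, Finset.card_univ, smul_eq_mul, Nat.card_eq_fintype_card, mul_comm]
    have h4 : ∑ x : (P : Subgroup G), a x ≤ m :=
      Nat.le_of_mul_le_mul_right h3 Nat.card_pos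
    exact h1.trans (h2.trans h4)

end Cfsg.Agent.Helper20
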