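import Mathlib

set_option autoImplicit false

namespace Cfsg.Agent.Helper20

/-- A normal subgroup `N` has a supplement all of whose prime divisors divide the index of `N`. -/
theorem exists_pi_supplement {Q : Type*} [Group Q] [Finite Q] (N : Subgroup Q) [N.Normal] :
    ∃ X : Subgroup Q, X ⊔ N = ⊤ ∧ ∀ r : ℕ, r.Prime → r ∣ Nat.card X → r ∣ N.index := by
  obtain ⟨X, hX, hmin⟩ := Set.exists_min_image {X : Subgroup Q | X ⊔ N = ⊤}
    (fun X => Nat.card X) (Set.toFinite _) ⟨⊤, top_sup_eq _⟩
  have hX' : X ⊔ N = ⊤ := hX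
  refine ⟨X, hX', ?_⟩
  intro r hr hrX
  by_contra hrN
  haveI : Fact r.Prime := ⟨hr⟩
  -- D' = N ∩ X inside X
  set D' : Subgroup X := N.subgroupOf X with hD'
  haveI : D'.Normal := inferInstance
  have hidx : D'.index = N.index := by
    show N.relIndex X = N.index
    rw [← Subgroup.relIndex_sup_right (H := X) (K := N), hX', Subgroup.relIndex_top_right]
  have hrD : r ∣ Nat.card D' := by
    have h1 := Subgroup.index_mul_card D'
    rw [hidx] at h1
    have h2 : r ∣ N.index * Nat.card D' := by rw [h1]; exact hrX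
    exact (Nat.Coprime.dvd_of_dvd_mul_left ((Nat.Prime.coprime_iff_not_dvd hr).2 hrN) h2)
  obtain ⟨R⟩ : Nonempty (Sylow r D') := inferInstance
  set R' : Subgroup X := (R : Subgroup D').map D'.subtype with hR'
  have hfrat : Subgroup.normalizer (R' : Set X) ⊔ D' = ⊤ := Sylow.normalizer_sup_eq_top R
  -- key: images of subgroups of X generating X with D' still supplement N
  have key : ∀ Y' : Subgroup X, Y' ⊔ D' = ⊤ → Y'.map X.subtype ⊔ N = ⊤ := by
    intro Y' hY'
    have h1 : (Y' ⊔ D').map X.subtype = X := by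
      rw [hY', ← MonoidHom.range_eq_map, Subgroup.range_subtype]
    rw [Subgroup.map_sup, hD', Subgroup.subgroupOf_map_subtype] at h1
    rw [eq_top_iff, ← hX', sup_le_iff]
    refine ⟨?_, le_sup_right⟩
    have h2 : Y'.map X.subtype ⊔ N ⊓ X ≤ Y'.map X.subtype ⊔ N :=
      sup_le le_sup_left (inf_le_left.trans le_sup_right)
    exact (le_of_eq h1.symm).trans h2
  have hcardmap : ∀ Y' : Subgroup X, Nat.card (Y'.map X.subtype) = Nat.card Y' := fun Y' =>
    Subgroup.card_map_of_injective X.subtype_injective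
  -- R' is normal in X
  have hnorm : Subgroup.normalizer (R' : Set X) = ⊤ := by
    have h1 := hmin _ (key _ hfrat)
    rw [hcardmap] at h1
    have h2 : Nat.card (⊤ : Subgroup X) = Nat.card X := Subgroup.card_top
    exact Subgroup.eq_top_of_card_eq _ (le_antisymm (Subgroup.card_le_card_group _) h1)
  haveI hR'n : R'.Normal := Subgroup.normalizer_eq_top_iff.1 hnorm
  -- R' is a normal Hall subgroup
  have hR'card : Nat.card R' = Nat.card (R : Subgroup D') :=
    Subgroup.card_map_of_injective D'.subtype_injective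
  have hR'idx : R'.index = (R : Subgroup D').index * D'.index := Subgroup.index_map_subtype _
  have hcop : (Nat.card R').Coprime R'.index := by
    rw [hR'card, hR'idx]
    obtain ⟨k, hk⟩ := IsPGroup.iff_card.1 R.2
    rw [hk]
    apply Nat.Coprime.pow_left
    apply Nat.Coprime.mul_right
    · exact (Nat.Prime.coprime_iff_not_dvd hr).2 R.not_dvd_index
    · rw [hidx]; exact (Nat.Prime.coprime_iff_not_dvd hr).2 hrN
  obtain ⟨K', hK'⟩ := Subgroup.exists_right_complement'_of_coprime hcop
  -- K' still supplements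
  have hK'sup : K' ⊔ D' = ⊤ := by
    rw [eq_top_iff, ← hK'.sup_eq_top, sup_le_iff]
    refine ⟨?_, le_sup_left⟩
    have : R' ≤ D' := by
      rw [hR']
      exact Subgroup.map_subtype_le _
    exact this.trans le_sup_right
  have h1 := hmin _ (key _ hK'sup)
  rw [hcardmap] at h1
  have h2 := hK'.card_mul_card
  have h3 : Nat.card R' = 1 := by
    have hpos : 0 < Nat.card K' := Nat.card_pos
    have : Nat.card R' * Nat.card K' ≤ 1 * Nat.card K' := by rw [h2, one_mul]; exact h1
    have := Nat.le_of_mul_le_mul_right this hpos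
    have hpos' : 0 < Nat.card R' := Nat.card_pos
    omega
  have h4 : (R : Subgroup D') ≠ ⊥ := R.ne_bot_of_dvd_card hrD
  apply h4
  rw [hR'card] at h3
  exact Subgroup.card_eq_one.1 h3

end Cfsg.Agent.Helper20
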