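import Mathlib
import Cfsg.Agent.Helper29.S3fWt

/-!
# S4306 tool lemma (L1)

An abelian group `B` normalised by `x` of prime order, both acting on an invariant subspace `U`
without nonzero `x`-fixed vectors: `[x, B]` acts trivially on `U`.
-/

set_option autoImplicit false

namespace Cfsg.Agent.Helper20.PqL1

open Cfsg.Agent.Helper29.S3f

variable {Γ : Type*} [Group Γ] {K : Type*} [Field K] {M : Type*} [AddCommGroup M] [Module K M]

/-- conjugation by `x` as an endomorphism of `B` -/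
def conjEnd (B : Subgroup Γ) (x : Γ) (hxB : ∀ b ∈ B, x * b * x⁻¹ ∈ B) : ↥B →* ↥B where
  toFun b := ⟨x * b * x⁻¹, hxB b b.2⟩
  map_one' := by
    apply Subtype.ext
    simp
  map_mul' a b := by
    apply Subtype.ext
    simp only [Subgroup.coe_mul]
    group

theorem coe_conjEnd (B : Subgroup Γ) (x : Γ) (hxB : ∀ b ∈ B, x * b * x⁻¹ ∈ B) (b : ↥B) :
    ((conjEnd B x hxB b : ↥B) : Γ) = x * b * x⁻¹ := rfl

theorem coe_conjEnd_iterate (B : Subgroup Γ) (x : Γ) (hxB : ∀ b ∈ B, x * b * x⁻¹ ∈ B) (n : ℕ)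
    (b : ↥B) : (((conjEnd B x hxB)^[n] b : ↥B) : Γ) = x ^ n * b * (x ^ n)⁻¹ := by
  induction n with
  | zero => simp
  | succ n ih =>
    rw [Function.iterate_succ_apply', coe_conjEnd, ih, pow_succ']
    group

/-- the twist of a character by `x` -/
def tw (B : Subgroup Γ) (x : Γ) (hxB : ∀ b ∈ B, x * b * x⁻¹ ∈ B) (ψ : ↥B →* Kˣ) : ↥B →* Kˣ :=
  ψ.comp (conjEnd B x hxB)

theorem tw_iterate_apply (B : Subgroup Γ) (x : Γ) (hxB : ∀ b ∈ B, x * b * x⁻¹ ∈ B) (n : ℕ) :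
    ∀ (ψ : ↥B →* Kˣ) (b : ↥B),
      ((tw (K := K) B x hxB)^[n] ψ) b = ψ ((conjEnd B x hxB)^[n] b) := by
  induction n with
  | zero => intro ψ b; rfl
  | succ n ih =>
    intro ψ b
    rw [Function.iterate_succ_apply, ih, Function.iterate_succ_apply']
    rfl

theorem tw_iterate_of_pow_eq_one (B : Subgroup Γ) (x : Γ) (hxB : ∀ b ∈ B, x * b * x⁻¹ ∈ B)
    (p : ℕ) (hxp : x ^ p = 1) (χ : ↥B →* Kˣ) : (tw (K := K) B x hxB)^[p] χ = χ := by
  ext b
  rw [tw_iterate_apply]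
  congr 2
  apply Subtype.ext
  rw [coe_conjEnd_iterate, hxp]
  simp

variable (ρ : Representation K Γ M)

theorem inv_mem_wtSpace_tw (B : Subgroup Γ) (x : Γ) (hxB : ∀ b ∈ B, x * b * x⁻¹ ∈ B)
    {ψ : ↥B →* Kˣ} {m : M} (hm : m ∈ wtSpace ρ B ψ) :
    ρ x⁻¹ m ∈ wtSpace ρ B (tw B x hxB ψ) := by
  intro b
  have h1 : ρ (b : Γ) (ρ x⁻¹ m) = ρ x⁻¹ (ρ ((conjEnd B x hxB b : ↥B) : Γ) m) := by
    rw [coe_conjEnd, ← Module.End.mul_apply, ← Module.End.mul_apply, ← map_mul, ← map_mul]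
    congr 2
    group
  rw [h1, hm (conjEnd B x hxB b), map_smul]
  rfl

theorem iterate_mem_wtSpace (B : Subgroup Γ) (x : Γ) (hxB : ∀ b ∈ B, x * b * x⁻¹ ∈ B)
    {χ : ↥B →* Kˣ} {m : M} (hm : m ∈ wtSpace ρ B χ) (n : ℕ) :
    (⇑(ρ x⁻¹))^[n] m ∈ wtSpace ρ B ((tw B x hxB)^[n] χ) := by
  induction n with
  | zero => exact hm
  | succ n ih =>
    rw [Function.iterate_succ_apply', Function.iterate_succ_apply']
    exact inv_mem_wtSpace_tw ρ B x hxB ih

theorem iterate_rho_eq (x : Γ) (n : ℕ) (m : M) : (⇑(ρ x))^[n] m = ρ (x ^ n) m := by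
  induction n with
  | zero => simp
  | succ n ih =>
    rw [Function.iterate_succ_apply', ih, pow_succ', map_mul, Module.End.mul_apply]

/-- (1) a weight occurring in `U` is stable under `x`. -/
theorem tw_eq_of_weight [FiniteDimensional K M] (B : Subgroup Γ)
    (hBab : ∀ a ∈ B, ∀ b ∈ B, a * b = b * a)
    (x : Γ) (hxB : ∀ b ∈ B, x * b * x⁻¹ ∈ B) (p : ℕ) (hp : p.Prime) (hxp : x ^ p = 1)
    (U : Submodule K M) (hUx : ∀ m ∈ U, ρ x m ∈ U)
    (hfix : ∀ m ∈ U, ρ x m = m → m = 0)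
    {χ : ↥B →* Kˣ} {m : M} (hmU : m ∈ U) (hm0 : m ≠ 0) (hm : m ∈ wtSpace ρ B χ) :
    tw B x hxB χ = χ := by
  classical
  -- `x⁻¹` preserves `U`
  have hxinv : x⁻¹ = x ^ (p - 1) := by
    apply inv_eq_of_mul_eq_one_right
    rw [← pow_succ', Nat.sub_add_cancel hp.one_lt.le, hxp]
  have hUpow : ∀ n : ℕ, ∀ u ∈ U, ρ (x ^ n) u ∈ U := by
    intro n
    induction n with
    | zero => intro u hu; simpa using hu
    | succ n ih =>
      intro u hu
      rw [pow_succ', map_mul, Module.End.mul_apply]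
      exact hUx _ (ih u hu)
  have hUxinv : ∀ u ∈ U, ρ x⁻¹ u ∈ U := by
    intro u hu
    rw [hxinv]
    exact hUpow _ u hu
  set f := tw (K := K) B x hxB with hf
  set v : ℕ → M := fun n => (⇑(ρ x⁻¹))^[n] m with hv
  have hvU : ∀ n, v n ∈ U := by
    intro n
    induction n with
    | zero => exact hmU
    | succ n ih =>
      show (⇑(ρ x⁻¹))^[n + 1] m ∈ U
      rw [Function.iterate_succ_apply']
      exact hUxinv _ ih
  have hvw : ∀ n, v n ∈ wtSpace ρ B (f^[n] χ) := fun n => iterate_mem_wtSpace ρ B x hxB hm n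
  have hv0 : ∀ n, v n ≠ 0 := by
    intro n h
    apply hm0
    have h1 : v n = ρ (x⁻¹ ^ n) m := iterate_rho_eq ρ x⁻¹ n m
    rw [h1] at h
    have := rho_inv_rho ρ (x⁻¹ ^ n) m
    rw [h, map_zero] at this
    exact this.symm
  have hvp : v p = m := by
    have h1 : v p = ρ (x⁻¹ ^ p) m := iterate_rho_eq ρ x⁻¹ p m
    rw [h1, inv_pow, hxp, inv_one, map_one, Module.End.one_apply]
  -- the orbit sum is fixed
  set s : M := ∑ i ∈ Finset.range p, v i with hs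
  have hsU : s ∈ U := Submodule.sum_mem _ (fun i _ => hvU i)
  have hstep : ∀ n, ρ x⁻¹ (v n) = v (n + 1) := by
    intro n
    show ρ x⁻¹ ((⇑(ρ x⁻¹))^[n] m) = (⇑(ρ x⁻¹))^[n + 1] m
    rw [Function.iterate_succ_apply']
  have hsfix' : ρ x⁻¹ s = s := by
    rw [hs, map_sum]
    have h1 : ∑ i ∈ Finset.range p, ρ x⁻¹ (v i) = ∑ i ∈ Finset.range p, v (i + 1) :=
      Finset.sum_congr rfl (fun i _ => hstep i)
    rw [h1]
    have h2 := Finset.sum_range_succ v p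
    have h3 := Finset.sum_range_succ' v p
    rw [h2] at h3
    have hv0' : v 0 = m := rfl
    rw [hvp, hv0'] at h3
    exact (add_right_cancel h3).symm
  have hsfix : ρ x s = s := by
    have := congrArg (ρ x) hsfix'
    rw [rho_rho_inv] at this
    exact this.symm
  have hs0 : s = 0 := hfix s hsU hsfix
  -- periodicity
  have hper : Function.IsPeriodicPt f p χ := tw_iterate_of_pow_eq_one B x hxB p hxp χ
  have hdvd : Function.minimalPeriod f χ ∣ p := hper.minimalPeriod_dvd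
  rcases (Nat.dvd_prime hp).mp hdvd with h1 | h1
  · exact Function.minimalPeriod_eq_one_iff_isFixedPt.mp h1
  · exfalso
    have hinj : Function.Injective (fun i : Fin p => f^[(i : ℕ)] χ) := by
      intro i j hij
      apply Fin.ext
      have hinjOn := Function.iterate_injOn_Iio_minimalPeriod (f := f) (x := χ)
      rw [h1] at hinjOn
      exact hinjOn (Set.mem_Iio.mpr i.2) (Set.mem_Iio.mpr j.2) hij
    have hind := (wtSpace_iSupIndep ρ B hBab).comp hinj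
    have hli : LinearIndependent K (fun i : Fin p => v (i : ℕ)) :=
      hind.linearIndependent (fun i : Fin p => wtSpace ρ B (f^[(i : ℕ)] χ))
        (fun i => hvw i) (fun i => hv0 i)
    have hsum : ∑ i : Fin p, (1 : K) • v (i : ℕ) = 0 := by
      simp only [one_smul]
      rw [Finset.sum_range (f := v)] at hs
      rw [← hs]
      exact hs0
    have := Fintype.linearIndependent_iff.mp hli (fun _ => (1 : K)) hsum ⟨0, hp.pos⟩
    exact one_ne_zero this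

/-- (2) a weight vector in `U` is fixed by `[x, b]`. -/
theorem comm_fixes_weight [FiniteDimensional K M] (B : Subgroup Γ)
    (hBab : ∀ a ∈ B, ∀ b ∈ B, a * b = b * a)
    (x : Γ) (hxB : ∀ b ∈ B, x * b * x⁻¹ ∈ B) (p : ℕ) (hp : p.Prime) (hxp : x ^ p = 1)
    (U : Submodule K M) (hUx : ∀ m ∈ U, ρ x m ∈ U)
    (hfix : ∀ m ∈ U, ρ x m = m → m = 0)
    {χ : ↥B →* Kˣ} {m : M} (hmU : m ∈ U) (hm0 : m ≠ 0) (hm : m ∈ wtSpace ρ B χ)
    (b : Γ) (hb : b ∈ B) : ρ (x * b * x⁻¹ * b⁻¹) m = m := by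
  have htw := tw_eq_of_weight ρ B hBab x hxB p hp hxp U hUx hfix hmU hm0 hm
  have h1 : ρ (x * b * x⁻¹ * b⁻¹) m = ρ (x * b * x⁻¹) (ρ b⁻¹ m) := by
    rw [map_mul, Module.End.mul_apply]
  have h2 : ρ b⁻¹ m = ((χ ⟨b⁻¹, B.inv_mem hb⟩ : Kˣ) : K) • m := hm ⟨b⁻¹, B.inv_mem hb⟩
  have h3 : ρ (x * b * x⁻¹) m = ((χ (conjEnd B x hxB ⟨b, hb⟩) : Kˣ) : K) • m :=
    hm (conjEnd B x hxB ⟨b, hb⟩)
  have h4 : χ (conjEnd B x hxB ⟨b, hb⟩) = χ ⟨b, hb⟩ := by
    have := DFunLike.congr_fun htw ⟨b, hb⟩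
    exact this
  rw [h1, h2, map_smul, h3, h4, smul_smul, ← Units.val_mul, ← map_mul]
  have h5 : (⟨b⁻¹, B.inv_mem hb⟩ : ↥B) * ⟨b, hb⟩ = 1 := by
    apply Subtype.ext
    simp
  rw [h5, map_one, Units.val_one, one_smul]

/-- Maschke for a subgroup acting through a representation of the ambient group. -/
theorem exists_inv_compl (B : Subgroup Γ) [Finite B] (hBK : (Nat.card B : K) ≠ 0)
    (N : Submodule K M) (hN : ∀ b ∈ B, ∀ m ∈ N, ρ b m ∈ N) :
    ∃ T : Submodule K M, IsCompl N T ∧ ∀ b ∈ B, ∀ m ∈ T, ρ b m ∈ T := by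
  have : NeZero (Nat.card B : K) := ⟨hBK⟩
  let ρ' : Representation K ↥B M := ρ.comp B.subtype
  let W : Subrepresentation ρ' := ⟨N, fun g v hv => hN g g.2 v hv⟩
  obtain ⟨W', hc⟩ := exists_isCompl W
  refine ⟨W'.toSubmodule, ⟨?_, ?_⟩, fun g hg x hx => W'.apply_mem_toSubmodule ⟨g, hg⟩ hx⟩
  · rw [disjoint_iff]
    exact congrArg Subrepresentation.toSubmodule hc.inf_eq_bot
  · rw [codisjoint_iff]
    exact congrArg Subrepresentation.toSubmodule hc.sup_eq_top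

/-- **(L1)** an abelian group `B` normalised by `x` of prime order, acting on an invariant subspace
`U` without nonzero `x`-fixed vectors: `[B, x]` acts trivially on `U`. -/
theorem L1 {Γ : Type*} [Group Γ] {K : Type*} [Field K] [IsAlgClosed K] {M : Type*}
    [AddCommGroup M] [Module K M] [FiniteDimensional K M]
    (ρ : Representation K Γ M) (B : Subgroup Γ) [Finite B]
    (hBab : ∀ a ∈ B, ∀ b ∈ B, a * b = b * a) (hBK : (Nat.card B : K) ≠ 0)
    (x : Γ) (hxB : ∀ b ∈ B, x * b * x⁻¹ ∈ B) (p : ℕ) (hp : p.Prime) (hxp : x ^ p = 1)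
    (U : Submodule K M) (hUB : ∀ b ∈ B, ∀ m ∈ U, ρ b m ∈ U) (hUx : ∀ m ∈ U, ρ x m ∈ U)
    (hfix : ∀ m ∈ U, ρ x m = m → m = 0) :
    ∀ b ∈ B, ∀ m ∈ U, ρ (x * b * x⁻¹ * b⁻¹) m = m := by
  classical
  have hcB : ∀ b ∈ B, x * b * x⁻¹ * b⁻¹ ∈ B := fun b hb => B.mul_mem (hxB b hb) (B.inv_mem hb)
  -- the subspace of `U` fixed by all `[x, b]`
  let U' : Submodule K M :=
    { carrier := {m | m ∈ U ∧ ∀ b ∈ B, ρ (x * b * x⁻¹ * b⁻¹) m = m}
      add_mem' := by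
        rintro a c ⟨ha, ha'⟩ ⟨hc, hc'⟩
        refine ⟨U.add_mem ha hc, fun b hb => ?_⟩
        rw [map_add, ha' b hb, hc' b hb]
      zero_mem' := ⟨U.zero_mem, fun b _ => map_zero _⟩
      smul_mem' := by
        rintro c a ⟨ha, ha'⟩
        refine ⟨U.smul_mem c ha, fun b hb => ?_⟩
        rw [map_smul, ha' b hb] }
  have hU'U : U' ≤ U := fun m hm => hm.1
  have hU'inv : ∀ b ∈ B, ∀ m ∈ U', ρ b m ∈ U' := by
    rintro b hb m ⟨hmU, hm'⟩
    refine ⟨hUB b hb m hmU, fun c hc => ?_⟩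
    have hcomm : ρ (x * c * x⁻¹ * c⁻¹) (ρ b m) = ρ b (ρ (x * c * x⁻¹ * c⁻¹) m) := by
      rw [← Module.End.mul_apply, ← Module.End.mul_apply, ← map_mul, ← map_mul,
        hBab _ (hcB c hc) b hb]
    rw [hcomm, hm' c hc]
  obtain ⟨T, hT, hTinv⟩ := exists_inv_compl ρ B hBK U' hU'inv
  -- `T ⊓ U = ⊥`
  have hW : T ⊓ U = ⊥ := by
    by_contra hne
    have hinv : ∀ b ∈ B, ∀ w ∈ T ⊓ U, ρ b w ∈ T ⊓ U := fun b hb w hw =>
      ⟨hTinv b hb w hw.1, hUB b hb w hw.2⟩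
    obtain ⟨χ, m, hmW, hm0, hm⟩ := exists_weight ρ B hBab (T ⊓ U) hne hinv
    have hmU' : m ∈ U' :=
      ⟨hmW.2, fun b hb => comm_fixes_weight ρ B hBab x hxB p hp hxp U hUx hfix hmW.2 hm0 hm b hb⟩
    have : m ∈ U' ⊓ T := ⟨hmU', hmW.1⟩
    rw [hT.inf_eq_bot, Submodule.mem_bot] at this
    exact hm0 this
  intro b hb m hmU
  have hmtop : m ∈ U' ⊔ T := by rw [hT.sup_eq_top]; exact Submodule.mem_top
  obtain ⟨u, hu, t, ht, rfl⟩ := Submodule.mem_sup.mp hmtop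
  have htU : t ∈ U := by
    have : t = (u + t) - u := by abel
    rw [this]
    exact U.sub_mem hmU (hU'U hu)
  have ht0 : t = 0 := by
    have : t ∈ T ⊓ U := ⟨ht, htU⟩
    rw [hW, Submodule.mem_bot] at this
    exact this
  rw [ht0, add_zero]
  exact hu.2 b hb

end Cfsg.Agent.Helper20.PqL1
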