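import Mathlib
import Cfsg.Agent.Helper29.PsfDefs

set_option autoImplicit false

/-! S5876 piece CENT: an element with a large fixed space centralises every subgroup it
normalises all of whose nontrivial elements fix at most half of the space. -/

namespace Cfsg.Agent.Helper20.PsfCENT

open Matrix Module Cfsg.Agent.S5876P

variable {n : ℕ} {F : Type*} [Field F]

/-- the image of the fixed space of `g` under `x` is fixed by `x g x⁻¹` -/
theorem map_fix_le (g x : GLn n F) :
    (fix g).map (lin x) ≤ fix (x * g * x⁻¹) := by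
  rintro w ⟨v, hv, rfl⟩
  have hv' : lin g v = v := mem_fix.mp hv
  rw [mem_fix, lin_mul_apply, lin_mul_apply, lin_inv_lin, hv']

/-- conjugation does not decrease the dimension of the fixed space -/
theorem d_le_d_conj (g x : GLn n F) : d g ≤ d (x * g * x⁻¹) := by
  have h1 : finrank F ((fix g).map (lin x)) = finrank F (fix g) := by
    have := LinearEquiv.finrank_map_eq (linEquiv x) (fix g)
    rwa [coe_linEquiv] at this
  have h2 : finrank F ((fix g).map (lin x)) ≤ finrank F (fix (x * g * x⁻¹)) :=
    Submodule.finrank_mono (map_fix_le g x)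
  unfold d
  omega

/-- the dimension formula bound: `d a + d b ≤ n + dim (fix a ⊓ fix b)` -/
theorem d_add_d_le (a b : GLn n F) :
    d a + d b ≤ n + finrank F ((fix a ⊓ fix b : Submodule F (Fin n → F))) := by
  have h := Submodule.finrank_sup_add_finrank_inf_eq (fix a) (fix b)
  have h2 : finrank F ((fix a ⊔ fix b : Submodule F (Fin n → F))) ≤ n := by
    have := Submodule.finrank_le (fix a ⊔ fix b)
    rwa [Module.finrank_fin_fun] at this
  unfold d
  omega

end Cfsg.Agent.Helper20.PsfCENT

namespace Cfsg.Agent.S5876P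

open Matrix Module Cfsg.Agent.Helper20.PsfCENT

variable {n : ℕ} {F : Type*} [Field F]

/-- CENT: an element with a large fixed space centralises every subgroup it normalises all of
whose nontrivial elements fix at most half of the space. -/
theorem commute_of_large_fix (X : Subgroup (GLn n F)) (hX : ∀ x ∈ X, x ≠ 1 → 2 * d x ≤ n)
    (g : GLn n F) (hgX : ∀ x ∈ X, g * x * g⁻¹ ∈ X) (hg : 3 * n < 4 * d g)
    (x : GLn n F) (hx : x ∈ X) : x * g = g * x := by
  set c : GLn n F := x * (g * x⁻¹ * g⁻¹) with hc
  have hcX : c ∈ X := X.mul_mem hx (hgX _ (X.inv_mem hx))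
  have hc' : c = (x * g * x⁻¹) * g⁻¹ := by rw [hc]; group
  by_cases hc1 : c = 1
  · -- `x g x⁻¹ g⁻¹ = 1`
    have h1 : (x * g * x⁻¹) * g⁻¹ = 1 := by rw [← hc', hc1]
    have h2 : x * g * x⁻¹ = g := by
      have := mul_eq_one_iff_eq_inv.mp h1
      rwa [inv_inv] at this
    calc x * g = x * g * x⁻¹ * x := by group
      _ = g * x := by rw [h2]
  · exfalso
    have hdc : 2 * d c ≤ n := hX c hcX hc1
    -- the common fixed space of `g` and `x g x⁻¹` is fixed by `c`
    have hle : (fix g ⊓ fix (x * g * x⁻¹) : Submodule F (Fin n → F)) ≤ fix c := by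
      intro v hv
      obtain ⟨hv1, hv2⟩ := hv
      have h1 : lin g v = v := mem_fix.mp hv1
      have h2 : lin (x * g * x⁻¹) v = v := mem_fix.mp hv2
      have h3 : lin g⁻¹ v = v := by
        have := lin_inv_lin g v
        rwa [h1] at this
      rw [mem_fix, hc', lin_mul_apply, h3, h2]
    have h4 := d_add_d_le g (x * g * x⁻¹)
    have h5 : finrank F ((fix g ⊓ fix (x * g * x⁻¹) : Submodule F (Fin n → F))) ≤ d c :=
      Submodule.finrank_mono hle
    have h6 := d_le_d_conj g x
    omega

end Cfsg.Agent.S5876P
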