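import Mathlib
import Cfsg.Agent.Helper29.PsfDefs

set_option autoImplicit false

/-! S5876 piece GRP: in a solvable group, a normal subgroup containing every normal subgroup of
class at most two contains its own centraliser. -/

namespace Cfsg.Agent.Helper20.PsfGRP

variable {H : Type*} [Group H]

/-- the derived series of a subgroup `C`, as subgroups of the ambient group -/
def cser (C : Subgroup H) : ℕ → Subgroup H
  | 0 => C
  | (i + 1) => ⁅cser C i, cser C i⁆

theorem cser_normal (C : Subgroup H) [hC : C.Normal] : ∀ i, (cser C i).Normal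
  | 0 => hC
  | (i + 1) => by
    have := cser_normal C i
    show (⁅cser C i, cser C i⁆).Normal
    infer_instance

theorem cser_le_derived (C : Subgroup H) : ∀ i, cser C i ≤ derivedSeries H i
  | 0 => le_top
  | (i + 1) => by
    show ⁅cser C i, cser C i⁆ ≤ ⁅derivedSeries H i, derivedSeries H i⁆
    exact Subgroup.commutator_mono (cser_le_derived C i) (cser_le_derived C i)

theorem cser_succ_le (C : Subgroup H) [hC : C.Normal] (i : ℕ) : cser C (i + 1) ≤ cser C i := by
  have := cser_normal C i
  show ⁅cser C i, cser C i⁆ ≤ cser C i
  exact Subgroup.commutator_le_left _ _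

theorem cser_le (C : Subgroup H) [hC : C.Normal] : ∀ i, cser C i ≤ C
  | 0 => le_rfl
  | (i + 1) => (cser_succ_le C i).trans (cser_le C i)

end Cfsg.Agent.Helper20.PsfGRP

namespace Cfsg.Agent.S5876P

open Cfsg.Agent.Helper20.PsfGRP

/-- GRP: in a solvable group, a normal subgroup containing every normal subgroup of class at
most two contains its own centraliser. -/
theorem centralizer_le_of_solvable {H : Type*} [Group H] [Group.IsSolvable H] (D : Subgroup H)
    [D.Normal] (hD : ∀ Y : Subgroup H, Y.Normal → ClassTwo Y → Y ≤ D) :
    Subgroup.centralizer (D : Set H) ≤ D := by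
  classical
  set C : Subgroup H := Subgroup.centralizer (D : Set H) with hCdef
  have hCn : C.Normal := Subgroup.normal_centralizer
  have hex : ∃ i, cser C i ≤ D := by
    obtain ⟨k, hk⟩ := (inferInstance : Group.IsSolvable H).solvable
    refine ⟨k, ?_⟩
    have := cser_le_derived C k
    rw [hk] at this
    exact this.trans bot_le
  have hmin : ∀ {m : ℕ}, m < Nat.find hex → ¬ cser C m ≤ D := fun {m} hm => Nat.find_min hex hm
  have hspec := Nat.find_spec hex
  rcases Nat.eq_zero_or_eq_succ_pred (Nat.find hex) with h0 | hs
  · rw [h0] at hspec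
    exact hspec
  · exfalso
    set j := (Nat.find hex).pred with hj
    have hlt : j < Nat.find hex := by rw [hs]; exact Nat.lt_succ_self _
    have hnot : ¬ cser C j ≤ D := hmin hlt
    rw [hs] at hspec
    have hYC : cser C j ≤ C := cser_le C j
    have hYn : (cser C j).Normal := cser_normal C j
    apply hnot
    apply hD _ hYn
    intro a ha b hb c hc
    have hab : a * b * a⁻¹ * b⁻¹ ∈ D := by
      apply hspec
      show a * b * a⁻¹ * b⁻¹ ∈ ⁅cser C j, cser C j⁆
      have := Subgroup.commutator_mem_commutator ha hb
      rwa [commutatorElement_def] at this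
    have hcC : c ∈ Subgroup.centralizer (D : Set H) := hYC hc
    rw [Subgroup.mem_centralizer_iff] at hcC
    exact hcC _ hab

end Cfsg.Agent.S5876P
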