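import Mathlib
import Cfsg.Agent.Helper25.QPDefs2
import Cfsg.Agent.Helper25.QPAct
import Cfsg.Agent.Helper25.UnipAlg
import Cfsg.Agent.Helper4.QPROOT
import Cfsg.Agent.Helper15.QPFIXC
import Cfsg.Agent.Helper18.QP2RS
import Cfsg.Agent.Helper20.QP68COMMF
import Cfsg.Agent.Helper3.QP68GEOM

set_option autoImplicit false
set_option linter.unusedVariables false
set_option linter.unusedSectionVars false

/-! Board `s5068pieces`, piece NZ: all commutators `[e, f]` of nonidentity elements of two root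
subgroups forming a unipotent, noncommuting pair lie in one class `E_{[σ,τ]}`. -/

noncomputable section

universe u v

namespace Cfsg.Agent.QP68

open Cfsg Cfsg.Agent.Helper25.QP Cfsg.Agent.Helper25.QuadPair Cfsg.Agent.QPP Cfsg.Agent.Helper25.Unip

variable {k : Type u} [Field k] {M : Type v} [AddCommGroup M] [Module k M]

local notation "GLkM" => LinearMap.GeneralLinearGroup k M

/-- one pair: the commutator is a member of `𝒬_d(G)` with the expected range and kernel -/
theorem NZ_aux_pair [FiniteDimensional k M] {G : Subgroup GLkM} {σ : GLkM}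
    (hσ : σ ∈ minimalQuadraticElements G) {e f : GLkM}
    (hx : Qd G (commutatorRank σ) ((e : Module.End k M) - 1))
    (hy : Qd G (commutatorRank σ) ((f : Module.End k M) - 1))
    (h1 : ((e : Module.End k M) - 1) * ((f : Module.End k M) - 1) * ((e : Module.End k M) - 1) = 0)
    (h2 : ((f : Module.End k M) - 1) * ((e : Module.End k M) - 1) * ((f : Module.End k M) - 1) = 0)
    (hne : ((e : Module.End k M) - 1) * ((f : Module.End k M) - 1)
      ≠ ((f : Module.End k M) - 1) * ((e : Module.End k M) - 1)) :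
    e * f * e⁻¹ * f⁻¹ ∈ minimalQuadraticElements G ∧
    LinearMap.range (((e * f * e⁻¹ * f⁻¹ : GLkM) : Module.End k M) - 1)
      = (LinearMap.range ((e : Module.End k M) - 1) ⊓ LinearMap.ker ((f : Module.End k M) - 1)) ⊔
        (LinearMap.range ((f : Module.End k M) - 1) ⊓ LinearMap.ker ((e : Module.End k M) - 1)) ∧
    LinearMap.ker (((e * f * e⁻¹ * f⁻¹ : GLkM) : Module.End k M) - 1)
      = (LinearMap.range ((e : Module.End k M) - 1) ⊔ LinearMap.ker ((f : Module.End k M) - 1)) ⊓
        (LinearMap.range ((f : Module.End k M) - 1) ⊔ LinearMap.ker ((e : Module.End k M) - 1)) ∧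
    Disjoint (LinearMap.range ((e : Module.End k M) - 1) ⊓ LinearMap.ker ((f : Module.End k M) - 1))
      (LinearMap.range ((f : Module.End k M) - 1) ⊓ LinearMap.ker ((e : Module.End k M) - 1)) ∧
    Module.finrank k
        ↥(LinearMap.range ((e : Module.End k M) - 1) ⊓ LinearMap.ker ((f : Module.End k M) - 1))
      + Module.finrank k
        ↥(LinearMap.range ((f : Module.End k M) - 1) ⊓ LinearMap.ker ((e : Module.End k M) - 1))
      = commutatorRank σ := by
  obtain ⟨hmin, -⟩ := TRANS_Qd hσ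
  have hc := COMMF hx.1.1 hy.1.1 h1 h2
  have hq := QFam_comm hx.1 hy.1 h1 h2
  have hr := (star_rank hmin hx.1 hy.1 hx.2 hy.2 h1 h2 hne).1
  have hG := GEOM hx.1.1 hy.1.1 h1 h2 hx.2 hy.2 hr
  refine ⟨?_, ?_, ?_, hG.2.2.1, hG.2.2.2.1⟩
  · have h0 : ((e : Module.End k M) - 1) * ((f : Module.End k M) - 1)
        - ((f : Module.End k M) - 1) * ((e : Module.End k M) - 1) ≠ 0 := sub_ne_zero.mpr hne
    have hmem := QFam.mem_quadraticElements hq h0
    have heq : unipUnit _ hq.1 = e * f * e⁻¹ * f⁻¹ := by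
      apply Units.ext
      rw [val_unipUnit, ← hc]
      abel
    rw [heq] at hmem
    refine ⟨hmem, fun ρ hρ => ?_⟩
    have hrk : commutatorRank (e * f * e⁻¹ * f⁻¹) = commutatorRank σ := by
      have : commutatorRank (e * f * e⁻¹ * f⁻¹)
          = Module.finrank k
            (LinearMap.range (((e * f * e⁻¹ * f⁻¹ : GLkM) : Module.End k M) - 1)) := rfl
      rw [this, hc]
      exact hr
    rw [hrk]
    exact hσ.2 ρ hρ
  · rw [hc]; exact hG.2.2.2.2.1
  · rw [hc]; exact hG.2.2.2.2.2

theorem NZ [FiniteDimensional k M] (hk2 : ringChar k ≠ 2) {G : Subgroup GLkM} {σ τ : GLkM}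
    (hσ : σ ∈ minimalQuadraticElements G) (hτ : τ ∈ minimalQuadraticElements G)
    (hU : AllUnip (sameActionSubgroup G σ) (sameActionSubgroup G τ))
    (hne : ((σ : Module.End k M) - 1) * ((τ : Module.End k M) - 1)
      ≠ ((τ : Module.End k M) - 1) * ((σ : Module.End k M) - 1)) :
    σ * τ * σ⁻¹ * τ⁻¹ ∈ minimalQuadraticElements G ∧
    (∀ e ∈ sameActionSubgroup G σ, e ≠ 1 → ∀ f ∈ sameActionSubgroup G τ, f ≠ 1 →
      e * f * e⁻¹ * f⁻¹ ∈ sameActionClass G (σ * τ * σ⁻¹ * τ⁻¹)) ∧
    LinearMap.range (((σ * τ * σ⁻¹ * τ⁻¹ : GLkM) : Module.End k M) - 1)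
      = (LinearMap.range ((σ : Module.End k M) - 1) ⊓ LinearMap.ker ((τ : Module.End k M) - 1)) ⊔
        (LinearMap.range ((τ : Module.End k M) - 1) ⊓ LinearMap.ker ((σ : Module.End k M) - 1)) ∧
    LinearMap.ker (((σ * τ * σ⁻¹ * τ⁻¹ : GLkM) : Module.End k M) - 1)
      = (LinearMap.range ((σ : Module.End k M) - 1) ⊔ LinearMap.ker ((τ : Module.End k M) - 1)) ⊓
        (LinearMap.range ((τ : Module.End k M) - 1) ⊔ LinearMap.ker ((σ : Module.End k M) - 1)) := by
  have h2' : (2 : k) ≠ 0 := Ring.two_ne_zero hk2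
  obtain ⟨hmin, ha⟩ := TRANS_Qd hσ
  have hb : Qd G (commutatorRank σ) ((τ : Module.End k M) - 1) := by
    rw [TRANS_rank hσ hτ]; exact (TRANS_Qd hτ).2
  have hstar : ∀ e ∈ sameActionSubgroup G σ, e ≠ 1 → ∀ f ∈ sameActionSubgroup G τ, f ≠ 1 →
      ((e : Module.End k M) - 1) * ((f : Module.End k M) - 1) * ((e : Module.End k M) - 1) = 0 ∧
      ((f : Module.End k M) - 1) * ((e : Module.End k M) - 1) * ((f : Module.End k M) - 1) = 0 := by
    intro e he he1 f hf hf1
    obtain ⟨n, hn⟩ := hU e he f hf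
    have hx := (ROOT_Qd hσ he he1).1
    have hy := (ROOT_Qd hτ hf hf1).1
    rw [← TRANS_rank hσ hτ] at hy
    exact star h2' hmin n hx.1 hy.1 hx.2 hy.2 hn
  have hσE := ROOT_self hσ
  have hτF := ROOT_self hτ
  obtain ⟨h1, h2⟩ := hstar σ hσE.1 hσE.2 τ hτF.1 hτF.2
  have main := NZ_aux_pair hσ ha hb h1 h2 hne
  refine ⟨main.1, ?_, main.2.1, main.2.2.1⟩
  intro e he he1 f hf hf1
  obtain ⟨hx, hkx, hrx⟩ := ROOT_Qd hσ he he1
  obtain ⟨hy, hky, hry⟩ := ROOT_Qd hτ hf hf1
  rw [← TRANS_rank hσ hτ] at hy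
  obtain ⟨g1, g2⟩ := hstar e he he1 f hf hf1
  have hne' : ((e : Module.End k M) - 1) * ((f : Module.End k M) - 1)
      ≠ ((f : Module.End k M) - 1) * ((e : Module.End k M) - 1) := by
    intro heq
    have hxy0 : ((e : Module.End k M) - 1) * ((f : Module.End k M) - 1) = 0 := by
      apply LinearMap.ext
      intro m
      have hm1 : (((e : Module.End k M) - 1) * ((f : Module.End k M) - 1)) m
          ∈ LinearMap.range ((σ : Module.End k M) - 1) ⊓ LinearMap.ker ((τ : Module.End k M) - 1) := by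
        refine ⟨?_, ?_⟩
        · rw [← hrx]; exact ⟨((f : Module.End k M) - 1) m, rfl⟩
        · rw [← hky]
          show ((f : Module.End k M) - 1)
            ((((e : Module.End k M) - 1) * ((f : Module.End k M) - 1)) m) = 0
          have := LinearMap.congr_fun g2 m
          simpa using this
      have hm2 : (((e : Module.End k M) - 1) * ((f : Module.End k M) - 1)) m
          ∈ LinearMap.range ((τ : Module.End k M) - 1) ⊓ LinearMap.ker ((σ : Module.End k M) - 1) := by
        rw [heq]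
        refine ⟨?_, ?_⟩
        · rw [← hry]; exact ⟨((e : Module.End k M) - 1) m, rfl⟩
        · rw [← hkx]
          show ((e : Module.End k M) - 1)
            ((((f : Module.End k M) - 1) * ((e : Module.End k M) - 1)) m) = 0
          have := LinearMap.congr_fun g1 m
          simpa using this
      have := main.2.2.2.1.le_bot ⟨hm1, hm2⟩
      simpa using this
    have hyx0 : ((f : Module.End k M) - 1) * ((e : Module.End k M) - 1) = 0 := by
      rw [← heq]; exact hxy0
    have r1 := GEOM_rank ((e : Module.End k M) - 1) ((f : Module.End k M) - 1)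
    have r2 := GEOM_rank ((f : Module.End k M) - 1) ((e : Module.End k M) - 1)
    have z : Module.finrank k (LinearMap.range (0 : Module.End k M)) = 0 := by
      rw [LinearMap.range_zero]; exact finrank_bot k M
    rw [hxy0, z, zero_add, hry, hkx, hb.2] at r1
    rw [hyx0, z, zero_add, hrx, hky, ha.2] at r2
    have s := main.2.2.2.2
    have d0 : commutatorRank σ = 0 := by omega
    have hra := ha.2
    rw [d0] at hra
    have hr0 : LinearMap.range ((σ : Module.End k M) - 1) = ⊥ := Submodule.finrank_eq_zero.mp hra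
    have ha0 : (σ : Module.End k M) - 1 = 0 := LinearMap.range_eq_bot.mp hr0
    exact hσ.1.2.1.2 ha0
  have pr := NZ_aux_pair hσ hx hy g1 g2 hne'
  refine ⟨pr.1, ?_, ?_⟩
  · show LinearMap.ker (((e * f * e⁻¹ * f⁻¹ : GLkM) : Module.End k M) - 1)
      = LinearMap.ker (((σ * τ * σ⁻¹ * τ⁻¹ : GLkM) : Module.End k M) - 1)
    rw [pr.2.2.1, main.2.2.1, hkx, hrx, hky, hry]
  · show LinearMap.range (((e * f * e⁻¹ * f⁻¹ : GLkM) : Module.End k M) - 1)
      = LinearMap.range (((σ * τ * σ⁻¹ * τ⁻¹ : GLkM) : Module.End k M) - 1)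
    rw [pr.2.1, main.2.1, hkx, hrx, hky, hry]

end Cfsg.Agent.QP68

end
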