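import Mathlib
import Cfsg.Agent.Helper20.QuatQuotB

set_option autoImplicit false

namespace Cfsg.Agent.Helper20

section core
open QuaternionGroup

variable {S : Type*} [Group S] {m : ℕ} [NeZero m] (φ : S →* QuaternionGroup m)

/-- If the centre of `S` has exponent two and index-two subgroups `C i` with trivial intersection
such that squares landing in `C i` come only from central elements, and `S ⧸ C i₀` is generalized
quaternion, then lifts of the standard generators satisfy the quaternion relations exactly. -/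
lemma quat_rel_of_coatoms {ι : Type*} (C : ι → Subgroup ↥(Subgroup.center S))
    (hidx : ∀ i, (C i).index = 2) (hint : ⨅ i, C i = ⊥)
    (hel : ∀ a : ↥(Subgroup.center S), a ^ 2 = 1)
    (hF3 : ∀ i (g : S), g ^ 2 ∈ (C i).map (Subgroup.center S).subtype → g ∈ Subgroup.center S)
    (i₀ : ι) (hker : φ.ker = (C i₀).map (Subgroup.center S).subtype)
    (hφ : Function.Surjective φ) (h : ℕ) (hm : m = 2 * h) (hh : 1 ≤ h)
    (x y : S) (hx : φ x = a 1) (hy : φ y = xa 0) :
    x ^ (2 * m) = 1 ∧ y * y = x ^ m ∧ y * x * y⁻¹ = x⁻¹ := by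
  have hkerZ : φ.ker ≤ Subgroup.center S := by rw [hker]; exact map_center_subtype_le _
  have hm2 : 2 ≤ m := by omega
  have hcen : ∀ g ∈ Subgroup.center S, ∀ q : QuaternionGroup m, φ g * q = q * φ g := by
    intro g hg q
    obtain ⟨s, rfl⟩ := hφ q
    rw [← map_mul, ← map_mul, Subgroup.mem_center_iff.1 hg s]
  have hd : y * x * y⁻¹ * x ∈ φ.ker := by
    rw [MonoidHom.mem_ker, map_mul, map_mul, map_mul, map_inv, hx, hy, quaternion_inv_rel]
  have hc : (x ^ m)⁻¹ * (y * y) ∈ φ.ker := by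
    rw [MonoidHom.mem_ker, map_mul, map_inv, map_pow, map_mul, hx, hy, a_one_pow, xa_mul_xa]
    simp
  have hz2ker : (x ^ m) ^ 2 ∈ φ.ker := by
    rw [MonoidHom.mem_ker, ← pow_mul, map_pow, hx, show m * 2 = 2 * m from mul_comm _ _,
      a_one_pow_n]
  have hzZ : x ^ m ∈ Subgroup.center S := hF3 i₀ _ (hker ▸ hz2ker)
  set zZ : ↥(Subgroup.center S) := ⟨x ^ m, hzZ⟩ with hzZdef
  set cZ : ↥(Subgroup.center S) := ⟨(x ^ m)⁻¹ * (y * y), hkerZ hc⟩ with hcZdef
  set dZ : ↥(Subgroup.center S) := ⟨y * x * y⁻¹ * x, hkerZ hd⟩ with hdZdef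
  have hX : x ^ (2 * m) = 1 := by
    have h1 := hel zZ
    have h2 : (x ^ m) ^ 2 = 1 := by
      have := congrArg Subtype.val h1
      simpa using this
    rw [mul_comm, pow_mul]; exact h2
  have hyy : y * y = ((zZ * cZ : ↥(Subgroup.center S)) : S) := by
    show y * y = x ^ m * ((x ^ m)⁻¹ * (y * y))
    group
  have hyyZ : y * y ∈ Subgroup.center S := by rw [hyy]; exact (zZ * cZ).2
  have hcomm : x * (y * y) = (y * y) * x := Subgroup.mem_center_iff.1 hyyZ x
  have hyx : (y * x) ^ 2 = ((dZ * (zZ * cZ) : ↥(Subgroup.center S)) : S) := by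
    show (y * x) ^ 2 = (y * x * y⁻¹ * x) * (x ^ m * ((x ^ m)⁻¹ * (y * y)))
    calc (y * x) ^ 2 = y * x * y⁻¹ * ((y * y) * x) := by rw [sq]; group
      _ = y * x * y⁻¹ * (x * (y * y)) := by rw [hcomm]
      _ = (y * x * y⁻¹ * x) * (x ^ m * ((x ^ m)⁻¹ * (y * y))) := by group
  have key : ∀ i, cZ ∈ C i ∧ dZ ∈ C i := by
    intro i
    have h1 : zZ ∉ C i := by
      intro hmem
      have hxh : x ^ h ∈ Subgroup.center S := by
        apply hF3 i (x ^ h)
        have : (x ^ h) ^ 2 = x ^ m := by rw [← pow_mul, hm, mul_comm]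
        rw [this]
        exact ⟨zZ, hmem, rfl⟩
      have := hcen _ hxh (xa 0)
      rw [map_pow, hx, a_one_pow] at this
      exact quat_a_half_not_comm h hm this
    have h2 : zZ * cZ ∉ C i := by
      intro hmem
      have hyZ : y ∈ Subgroup.center S := by
        apply hF3 i y
        rw [sq, hyy]
        exact ⟨zZ * cZ, hmem, rfl⟩
      have := hcen _ hyZ (a 1)
      rw [hy] at this
      exact quat_xa_not_comm hm2 0 this
    have h3 : dZ * (zZ * cZ) ∉ C i := by
      intro hmem
      have hyxZ : y * x ∈ Subgroup.center S := by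
        apply hF3 i (y * x)
        rw [hyx]
        exact ⟨dZ * (zZ * cZ), hmem, rfl⟩
      have := hcen _ hyxZ (a 1)
      rw [map_mul, hx, hy, xa_mul_a] at this
      exact quat_xa_not_comm hm2 _ this
    constructor
    · have : zZ * (zZ * cZ) ∈ C i :=
        (Subgroup.mul_mem_iff_of_index_two (hidx i)).2 (iff_of_false h1 h2)
      rwa [← mul_assoc, ← sq, hel, one_mul] at this
    · have : (zZ * cZ) * (dZ * (zZ * cZ)) ∈ C i :=
        (Subgroup.mul_mem_iff_of_index_two (hidx i)).2 (iff_of_false h2 h3)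
      rwa [mul_comm' (zZ * cZ) _, mul_assoc, ← sq, hel, mul_one] at this
  have hc1 : cZ = 1 := by
    have : cZ ∈ ⨅ i, C i := Subgroup.mem_iInf.2 fun i => (key i).1
    rw [hint] at this
    exact Subgroup.mem_bot.1 this
  have hd1 : dZ = 1 := by
    have : dZ ∈ ⨅ i, C i := Subgroup.mem_iInf.2 fun i => (key i).2
    rw [hint] at this
    exact Subgroup.mem_bot.1 this
  refine ⟨hX, ?_, ?_⟩
  · have : (x ^ m)⁻¹ * (y * y) = 1 := congrArg Subtype.val hc1
    exact (inv_mul_eq_one.1 this).symm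
  · have : y * x * y⁻¹ * x = 1 := congrArg Subtype.val hd1
    exact mul_eq_one_iff_eq_inv.1 this

end core

end Cfsg.Agent.Helper20
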