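import Mathlib

/-!
Piece PAR of helper4's S2279 project: parameter lemmas over finite fields (Mathlib only).
-/

set_option autoImplicit false

open Polynomial

namespace Cfsg.Agent.Helper20.RU2

variable {F : Type*} [Field F]

theorem exists_sq_gen (F : Type*) [Field F] [Fintype F] (h2 : ringChar F ≠ 2) :
    ∃ δ : F, δ ≠ 0 ∧ Subring.closure {δ ^ 2} = ⊤ := by
  classical
  obtain ⟨g, hg⟩ := IsCyclic.exists_generator (α := Fˣ)
  refine ⟨(g : F), g.ne_zero, ?_⟩
  -- every square lies in the closure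
  have hsq : ∀ a : F, a ^ 2 ∈ Subring.closure ({(g : F) ^ 2} : Set F) := by
    intro a
    by_cases ha : a = 0
    · rw [ha]; simp
    · have hmem : Units.mk0 a ha ∈ Submonoid.powers g := by
        rw [mem_powers_iff_mem_zpowers]; exact hg _
      obtain ⟨k, hk⟩ := hmem
      have hak : a = (g : F) ^ k := by
        have := congrArg (fun u : Fˣ => (u : F)) hk
        simp only [Units.val_pow_eq_pow_val, Units.val_mk0] at this
        exact this.symm
      rw [hak, ← pow_mul, mul_comm, pow_mul]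
      exact pow_mem (Subring.subset_closure (Set.mem_singleton _)) k
  rw [eq_top_iff]
  intro x _
  have hodd := FiniteField.odd_card_of_char_ne_two h2
  obtain ⟨a, b, hab⟩ := FiniteField.exists_root_sum_quadratic (R := F)
    (f := (X ^ 2 : F[X])) (g := (X ^ 2 - C x : F[X])) (degree_X_pow 2)
    (degree_X_pow_sub_C (by decide) _) hodd
  have hx : x = a ^ 2 + b ^ 2 := by
    simp only [eval_C, eval_X, eval_pow, eval_sub] at hab
    linear_combination (-1 : F) * hab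
  rw [hx]
  exact add_mem (hsq a) (hsq b)

theorem dvd_char_two [CharP F 2] : (X ^ 2 - C (2 + (1 : F)) * X + 1 : F[X]) ∣ X ^ 3 - 1 := by
  have h2 : (2 : F) = 0 := CharTwo.two_eq_zero
  have h2' : (2 : F[X]) = 0 := by
    rw [← map_ofNat (C : F →+* F[X]) 2, h2, map_zero]
  refine ⟨X + 1, ?_⟩
  rw [h2, zero_add, map_one]
  linear_combination (-1 : F[X]) * h2'

theorem dvd_odd : (X ^ 2 - C (2 + (-2 : F)) * X + 1 : F[X]) ∣ X ^ 4 - 1 := by
  refine ⟨X ^ 2 - 1, ?_⟩
  rw [show (2 + (-2) : F) = 0 by ring, map_zero]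
  ring

theorem dvd_five : (X ^ 2 - C (2 + (-1 : F)) * X + 1 : F[X]) ∣ X ^ 6 - 1 := by
  refine ⟨(X ^ 3 - 1) * (X + 1), ?_⟩
  rw [show (2 + (-1) : F) = 1 by ring, map_one]
  ring

theorem dvd_split [Fintype F] (ν : F) (hν : ν ≠ 0) (hν4 : ν ^ 4 ≠ 1) :
    (X ^ 2 - C (2 + (ν - ν⁻¹) ^ 2) * X + 1 : F[X]) ∣ X ^ (Fintype.card F - 1) - 1 := by
  have hfac : (X ^ 2 - C (2 + (ν - ν⁻¹) ^ 2) * X + 1 : F[X])
      = (X - C (ν ^ 2)) * (X - C ((ν⁻¹) ^ 2)) := by
    have h1 : (2 + (ν - ν⁻¹) ^ 2 : F) = ν ^ 2 + (ν⁻¹) ^ 2 := by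
      have : ν * ν⁻¹ = 1 := mul_inv_cancel₀ hν
      linear_combination (-2 : F) * this
    have h3 : (C (ν ^ 2) * C ((ν⁻¹) ^ 2) : F[X]) = 1 := by
      rw [← map_mul, ← mul_pow, mul_inv_cancel₀ hν, one_pow, map_one]
    rw [h1, map_add]
    linear_combination (-1 : F[X]) * h3
  rw [hfac]
  have hroot : ∀ a : F, a ≠ 0 → (X - C a : F[X]) ∣ X ^ (Fintype.card F - 1) - 1 := by
    intro a ha
    rw [dvd_iff_isRoot, IsRoot.def]
    simp only [eval_sub, eval_pow, eval_X, eval_one]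
    rw [FiniteField.pow_card_sub_one_eq_one a ha, sub_self]
  have hne : ν ^ 2 - (ν⁻¹) ^ 2 ≠ 0 := by
    intro h
    apply hν4
    have h5 : ν ^ 2 = (ν⁻¹) ^ 2 := sub_eq_zero.1 h
    have : ν ^ 4 = ν ^ 2 * ν ^ 2 := by ring
    rw [this]
    nth_rewrite 2 [h5]
    rw [← mul_pow, mul_inv_cancel₀ hν, one_pow]
  exact IsCoprime.mul_dvd (isCoprime_X_sub_C_of_isUnit_sub (isUnit_iff_ne_zero.2 hne))
    (hroot _ (pow_ne_zero 2 hν)) (hroot _ (pow_ne_zero 2 (inv_ne_zero hν)))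

theorem exists_nu [Fintype F] (h7 : 7 ≤ Fintype.card F) : ∃ ν : F, ν ≠ 0 ∧ ν ^ 4 ≠ 1 := by
  classical
  obtain ⟨g, hg⟩ := IsCyclic.exists_generator (α := Fˣ)
  refine ⟨(g : F), g.ne_zero, ?_⟩
  intro h4
  have h4' : g ^ 4 = 1 := by
    apply Units.ext
    rw [Units.val_pow_eq_pow_val, Units.val_one]
    exact h4
  have hord : orderOf g = Fintype.card Fˣ := by
    rw [← Nat.card_eq_fintype_card]
    exact orderOf_eq_card_of_forall_mem_zpowers hg
  have hdvd : orderOf g ∣ 4 := orderOf_dvd_of_pow_eq_one h4'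
  rw [hord, Fintype.card_units] at hdvd
  have := Nat.le_of_dvd (by norm_num) hdvd
  omega

theorem int_cast_of_prime [Fintype F] (hp : (Fintype.card F).Prime) (x : F) :
    ∃ k : ℤ, x = (k : F) := by
  have : Fact (Fintype.card F).Prime := ⟨hp⟩
  have h1 : (1 : F) ≠ 0 := one_ne_zero
  have hcard : Nat.card F = Fintype.card F := Nat.card_eq_fintype_card
  have hmem : x ∈ AddSubgroup.zmultiples (1 : F) := mem_zmultiples_of_prime_card hcard h1
  obtain ⟨k, hk⟩ := AddSubgroup.mem_zmultiples_iff.1 hmem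
  refine ⟨k, ?_⟩
  rw [← hk, zsmul_one]

theorem closure_eq_top_of_prime [Fintype F] (hp : (Fintype.card F).Prime) (x : F) :
    Subring.closure {x} = ⊤ := by
  rw [eq_top_iff]
  intro y _
  obtain ⟨k, rfl⟩ := int_cast_of_prime hp y
  exact intCast_mem _ k

end Cfsg.Agent.Helper20.RU2
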