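import Mathlib
import Cfsg.Agent.Helper27.S0429Defs
import Cfsg.Prelude.Def_Sporadic_a

/-! Board `s0429pieces`, row COLDEG, core (K33 enters as a hypothesis): every point of `Pt a x` is collinear with exactly 6 points. -/

set_option autoImplicit false

namespace Cfsg.Agent.S0429P

open Finset

variable {V : Type*} [Fintype V] [DecidableEq V] {G : SimpleGraph V} [DecidableRel G.Adj]

/-- points are far from `a` -/
theorem COLDEG_aux_far (h : G.IsSRGWith 77 16 0 4) {a x u : V} (hax : G.Adj a x) (hu : u ∈ Pt G a x) :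
    Far G a u :=
  ⟨(mem_Pt.mp hu).1, nadj_of_common h hax.symm (mem_Pt.mp hu).2⟩

/-- for distinct points `u, u'` the number `kap a u u'` is `m3 a u u'`. -/
theorem COLDEG_aux_kap (h : G.IsSRGWith 77 16 0 4) {a x u u' : V} (hu : u ∈ Pt G a x) (hu' : u' ∈ Pt G a x) :
    kap G a u u' = m3 G a u u' := by
  unfold kap
  rw [if_neg (nadj_of_common h (mem_Pt.mp hu).2 (mem_Pt.mp hu').2), zero_add]

theorem COLDEG_aux_mem3 {a u u' y : V} :
    y ∈ G.neighborFinset a ∩ G.neighborFinset u ∩ G.neighborFinset u' ↔ G.Adj a y ∧ G.Adj u y ∧ G.Adj u' y := by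
  simp [and_assoc, Finset.mem_inter]

/-- two common neighbours force `m3 = 2` (given `m3 ≤ 2`). -/
theorem COLDEG_aux_two_le {a u u' x y : V} (hxy : x ≠ y)
    (hx : G.Adj a x ∧ G.Adj u x ∧ G.Adj u' x) (hy : G.Adj a y ∧ G.Adj u y ∧ G.Adj u' y) :
    2 ≤ m3 G a u u' := by
  unfold m3
  have hsub : ({x, y} : Finset V) ⊆ G.neighborFinset a ∩ G.neighborFinset u ∩ G.neighborFinset u' := by
    intro t ht
    rw [Finset.mem_insert, Finset.mem_singleton] at ht
    rcases ht with rfl | rfl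
    · exact COLDEG_aux_mem3.mpr hx
    · exact COLDEG_aux_mem3.mpr hy
  have := Finset.card_le_card hsub
  rwa [Finset.card_pair hxy] at this

/-- COLDEG with K33 as a hypothesis. -/
theorem COLDEG_aux_core (h : G.IsSRGWith 77 16 0 4)
    (hK33 : ∀ {a b c : V}, a ≠ b → a ≠ c → b ≠ c → ¬ G.Adj a b → ¬ G.Adj a c → ¬ G.Adj b c → m3 G a b c ≤ 2)
    {a x u : V} (hax : G.Adj a x) (hu : u ∈ Pt G a x) :
    ((Pt G a x).filter (fun u' => col G a u u')).card = 6 := by
  have hfu := COLDEG_aux_far h hax hu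
  have hxu : G.Adj x u := (mem_Pt.mp hu).2
  set F := (Pt G a x).filter (fun u' => col G a u u') with hF
  set Y := (cn G a u).erase x with hY
  have hxcn : x ∈ cn G a u := mem_cn.mpr ⟨hax, hxu.symm⟩
  have hYcard : Y.card = 3 := by
    rw [hY, Finset.card_erase_of_mem hxcn, card_cn h hfu.1.symm hfu.2]
  have hdc := Finset.sum_card_bipartiteAbove_eq_sum_card_bipartiteBelow (s := F) (t := Y)
    (r := fun u' y => G.Adj y u')
  -- each `u' ∈ F` has exactly one neighbour in `Y`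
  have h1 : ∀ u' ∈ F, (Y.bipartiteAbove (fun u' y => G.Adj y u') u').card = 1 := by
    intro u' hu'F
    rw [hF, Finset.mem_filter] at hu'F
    obtain ⟨hu'P, hne, hk⟩ := hu'F
    rw [COLDEG_aux_kap h hu hu'P] at hk
    have hset : Y.bipartiteAbove (fun u' y => G.Adj y u') u'
        = (G.neighborFinset a ∩ G.neighborFinset u ∩ G.neighborFinset u').erase x := by
      ext y
      simp only [Finset.bipartiteAbove, Finset.mem_filter, hY, Finset.mem_erase, mem_cn, COLDEG_aux_mem3]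
      constructor
      · rintro ⟨⟨hyx, hay, huy⟩, hyu'⟩
        exact ⟨hyx, hay, huy, hyu'.symm⟩
      · rintro ⟨hyx, hay, huy, hu'y⟩
        exact ⟨⟨hyx, hay, huy⟩, hu'y.symm⟩
    rw [hset, Finset.card_erase_of_mem (COLDEG_aux_mem3.mpr ⟨hax, hxu.symm, ((mem_Pt.mp hu'P).2).symm⟩)]
    unfold m3 at hk
    rw [hk]
  -- each `y ∈ Y` has exactly two neighbours in `F`
  have h2 : ∀ y ∈ Y, (F.bipartiteBelow (fun u' y => G.Adj y u') y).card = 2 := by
    intro y hyY
    rw [hY, Finset.mem_erase, mem_cn] at hyY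
    obtain ⟨hyx, hay, huy⟩ := hyY
    have hnxy : ¬ G.Adj x y := nadj_of_common h hax hay
    have hset : F.bipartiteBelow (fun u' y => G.Adj y u') y = ((cn G x y).erase a).erase u := by
      ext u'
      simp only [Finset.bipartiteBelow, Finset.mem_filter, hF, Finset.mem_erase, mem_cn, mem_Pt]
      constructor
      · rintro ⟨⟨⟨hu'a, hxu'⟩, hcol⟩, hyu'⟩
        exact ⟨fun e => hcol.1 e.symm, hu'a, hxu', hyu'⟩
      · rintro ⟨hu'u, hu'a, hxu', hyu'⟩
        have hu'P : u' ∈ Pt G a x := mem_Pt.mpr ⟨hu'a, hxu'⟩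
        have hfu' := COLDEG_aux_far h hax hu'P
        refine ⟨⟨⟨hu'a, hxu'⟩, fun e => hu'u e.symm, ?_⟩, hyu'⟩
        rw [COLDEG_aux_kap h hu hu'P]
        have hge : 2 ≤ m3 G a u u' :=
          COLDEG_aux_two_le (Ne.symm hyx) ⟨hax, hxu.symm, hxu'.symm⟩ ⟨hay, huy, hyu'.symm⟩
        have hle : m3 G a u u' ≤ 2 :=
          hK33 hfu.1.symm hfu'.1.symm (fun e => hu'u e.symm) hfu.2 hfu'.2 (nadj_of_common h hxu hxu')
        omega
    rw [hset]
    have ha_mem : a ∈ cn G x y := mem_cn.mpr ⟨hax.symm, hay.symm⟩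
    have hu_mem : u ∈ (cn G x y).erase a := Finset.mem_erase.mpr ⟨hfu.1, mem_cn.mpr ⟨hxu, huy.symm⟩⟩
    rw [Finset.card_erase_of_mem hu_mem, Finset.card_erase_of_mem ha_mem, card_cn h (Ne.symm hyx) hnxy]
  rw [Finset.sum_congr rfl h1, Finset.sum_congr rfl h2] at hdc
  simp only [Finset.sum_const, smul_eq_mul, mul_one, hYcard] at hdc
  omega

end Cfsg.Agent.S0429P
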