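import Mathlib
import Cfsg.Agent.Helper27.S0429Defs
import Cfsg.Agent.Helper27.S0429K33
import Cfsg.Agent.Helper20.S0429COLDEGCore

/-! Board `s0429pieces`, row COLDEG (wrapper of `COLDEG_aux_core` with the landed K33). -/

set_option autoImplicit false

namespace Cfsg.Agent.S0429P

open Finset

variable {V : Type*} [Fintype V] [DecidableEq V] {G : SimpleGraph V} [DecidableRel G.Adj]

/-- COLDEG (M): every point is collinear with exactly 6 points. -/
theorem COLDEG (h : G.IsSRGWith 77 16 0 4) {a x u : V} (hax : G.Adj a x) (hu : u ∈ Pt G a x) :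
    ((Pt G a x).filter (fun u' => col G a u u')).card = 6 :=
  COLDEG_aux_core h (K33 h) hax hu

end Cfsg.Agent.S0429P
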