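import Mathlib
import Cfsg.Agent.Helper27.S0429Defs
import Cfsg.Agent.Helper20.S0429COLDEGCore
import Cfsg.Prelude.Def_Sporadic_a

/-! Board `s0429pieces`, row COLLINE, core (K33 and SYN1 enter as hypotheses): the line through two collinear points of `Pt a x`
and the quadrangle axiom. -/

set_option autoImplicit false

namespace Cfsg.Agent.S0429P

open Finset

variable {V : Type*} [Fintype V] [DecidableEq V] {G : SimpleGraph V} [DecidableRel G.Adj]

/-- distinct points lie in different classes -/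
theorem COLLINE_aux_notMem_cls (h : G.IsSRGWith 77 16 0 4) {a x u u' : V} (hax : G.Adj a x) (hu : u ∈ Pt G a x)
    (hu' : u' ∈ Pt G a x) (hne : u ≠ u') : u' ∉ cls G a u := by
  intro hmem
  rcases mem_cls.mp hmem with e | hm
  · exact hne e.symm
  · have hk := hm.2.2.2
    rw [COLDEG_aux_kap h hu hu'] at hk
    unfold m3 at hk
    have hx : x ∈ G.neighborFinset a ∩ G.neighborFinset u ∩ G.neighborFinset u' :=
      COLDEG_aux_mem3.mpr ⟨hax, ((mem_Pt.mp hu).2).symm, ((mem_Pt.mp hu').2).symm⟩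
    rw [Finset.card_eq_zero] at hk
    rw [hk] at hx
    exact absurd hx (Finset.notMem_empty x)

/-- two points with a second common neighbour `y` of `a` are collinear -/
theorem COLLINE_aux_col (h : G.IsSRGWith 77 16 0 4)
    (hK33 : ∀ {a b c : V}, a ≠ b → a ≠ c → b ≠ c → ¬ G.Adj a b → ¬ G.Adj a c → ¬ G.Adj b c → m3 G a b c ≤ 2)
    {a x y u u' : V} (hax : G.Adj a x) (hu : u ∈ Pt G a x) (hu' : u' ∈ Pt G a x) (hne : u ≠ u')
    (hxy : x ≠ y) (hay : G.Adj a y) (huy : G.Adj u y) (hu'y : G.Adj u' y) : col G a u u' := by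
  refine ⟨hne, ?_⟩
  rw [COLDEG_aux_kap h hu hu']
  have hfu := COLDEG_aux_far h hax hu
  have hfu' := COLDEG_aux_far h hax hu'
  have hge : 2 ≤ m3 G a u u' :=
    COLDEG_aux_two_le hxy ⟨hax, ((mem_Pt.mp hu).2).symm, ((mem_Pt.mp hu').2).symm⟩ ⟨hay, huy, hu'y⟩
  have hle : m3 G a u u' ≤ 2 :=
    hK33 hfu.1.symm hfu'.1.symm hne hfu.2 hfu'.2 (nadj_of_common h (mem_Pt.mp hu).2 (mem_Pt.mp hu').2)
  omega

/-- COLLINE with K33 and SYN1 as hypotheses. -/
theorem COLLINE_aux_core (h : G.IsSRGWith 77 16 0 4)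
    (hK33 : ∀ {a b c : V}, a ≠ b → a ≠ c → b ≠ c → ¬ G.Adj a b → ¬ G.Adj a c → ¬ G.Adj b c → m3 G a b c ≤ 2)
    (hSYN1 : ∀ {a b1 b2 b3 : V}, Far G a b1 → Far G a b2 → Far G a b3 →
      b2 ∉ cls G a b1 → b3 ∉ cls G a b1 → b3 ∉ cls G a b2 →
      kap G a b1 b2 = 2 → kap G a b1 b3 = 2 → kap G a b2 b3 = 2 →
      ∀ {z : V}, Far G a z → z ∉ cls G a b1 → z ∉ cls G a b2 → z ∉ cls G a b3 →
      (kap G a z b1 = 2 ∧ kap G a z b2 = 1 ∧ kap G a z b3 = 1) ∨
      (kap G a z b1 = 1 ∧ kap G a z b2 = 2 ∧ kap G a z b3 = 1) ∨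
      (kap G a z b1 = 1 ∧ kap G a z b2 = 1 ∧ kap G a z b3 = 2))
    {a x : V} (hax : G.Adj a x) :
    ∀ p ∈ Pt G a x, ∀ q ∈ Pt G a x, col G a p q → ∃ r ∈ Pt G a x, col G a p r ∧ col G a q r ∧
      ∀ s ∈ Pt G a x, s ≠ p → s ≠ q → s ≠ r →
        ((col G a s p ∧ ¬ col G a s q ∧ ¬ col G a s r) ∨ (¬ col G a s p ∧ col G a s q ∧ ¬ col G a s r) ∨
          (¬ col G a s p ∧ ¬ col G a s q ∧ col G a s r)) := by
  intro p hp q hq hcol
  obtain ⟨hpq, hk⟩ := hcol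
  have hfp := COLDEG_aux_far h hax hp
  have hfq := COLDEG_aux_far h hax hq
  have hxp : G.Adj x p := (mem_Pt.mp hp).2
  have hxq : G.Adj x q := (mem_Pt.mp hq).2
  -- the second common neighbour `y`
  have hk' := hk
  rw [COLDEG_aux_kap h hp hq] at hk'
  unfold m3 at hk'
  have hxT : x ∈ G.neighborFinset a ∩ G.neighborFinset p ∩ G.neighborFinset q :=
    COLDEG_aux_mem3.mpr ⟨hax, hxp.symm, hxq.symm⟩
  have hcardE : ((G.neighborFinset a ∩ G.neighborFinset p ∩ G.neighborFinset q).erase x).card = 1 := by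
    rw [Finset.card_erase_of_mem hxT, hk']
  obtain ⟨y, hyE⟩ := Finset.card_pos.mp (by rw [hcardE]; exact Nat.one_pos)
  rw [Finset.mem_erase, COLDEG_aux_mem3] at hyE
  obtain ⟨hyx, hay, hpy, hqy⟩ := hyE
  have hnxy : ¬ G.Adj x y := nadj_of_common h hax hay
  -- the fourth common neighbour `r` of `x, y`
  have ha_mem : a ∈ cn G x y := mem_cn.mpr ⟨hax.symm, hay.symm⟩
  have hp_mem : p ∈ (cn G x y).erase a := Finset.mem_erase.mpr ⟨hfp.1, mem_cn.mpr ⟨hxp, hpy.symm⟩⟩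
  have hq_mem : q ∈ ((cn G x y).erase a).erase p :=
    Finset.mem_erase.mpr ⟨hpq.symm, Finset.mem_erase.mpr ⟨hfq.1, mem_cn.mpr ⟨hxq, hqy.symm⟩⟩⟩
  have hcardR : ((((cn G x y).erase a).erase p).erase q).card = 1 := by
    rw [Finset.card_erase_of_mem hq_mem, Finset.card_erase_of_mem hp_mem, Finset.card_erase_of_mem ha_mem,
      card_cn h (Ne.symm hyx) hnxy]
  obtain ⟨r, hrE⟩ := Finset.card_pos.mp (by rw [hcardR]; exact Nat.one_pos)
  simp only [Finset.mem_erase, mem_cn] at hrE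
  obtain ⟨hrq, hrp, hra, hxr, hyr⟩ := hrE
  have hr : r ∈ Pt G a x := mem_Pt.mpr ⟨hra, hxr⟩
  have hfr := COLDEG_aux_far h hax hr
  have hcpr : col G a p r := COLLINE_aux_col h hK33 hax hp hr (Ne.symm hrp) (Ne.symm hyx) hay hpy hyr.symm
  have hcqr : col G a q r := COLLINE_aux_col h hK33 hax hq hr (Ne.symm hrq) (Ne.symm hyx) hay hqy hyr.symm
  refine ⟨r, hr, hcpr, hcqr, ?_⟩
  intro s hs hsp hsq hsr
  have hfs := COLDEG_aux_far h hax hs
  have key := hSYN1 hfp hfq hfr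
    (COLLINE_aux_notMem_cls h hax hp hq hpq)
    (COLLINE_aux_notMem_cls h hax hp hr (Ne.symm hrp))
    (COLLINE_aux_notMem_cls h hax hq hr (Ne.symm hrq))
    hk hcpr.2 hcqr.2 hfs
    (COLLINE_aux_notMem_cls h hax hp hs (Ne.symm hsp))
    (COLLINE_aux_notMem_cls h hax hq hs (Ne.symm hsq))
    (COLLINE_aux_notMem_cls h hax hr hs (Ne.symm hsr))
  rcases key with ⟨k1, k2, k3⟩ | ⟨k1, k2, k3⟩ | ⟨k1, k2, k3⟩
  · exact Or.inl ⟨⟨hsp, k1⟩, fun hc => by have := hc.2; omega, fun hc => by have := hc.2; omega⟩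
  · exact Or.inr (Or.inl ⟨fun hc => by have := hc.2; omega, ⟨hsq, k2⟩, fun hc => by have := hc.2; omega⟩)
  · exact Or.inr (Or.inr ⟨fun hc => by have := hc.2; omega, fun hc => by have := hc.2; omega, ⟨hsr, k3⟩⟩)

end Cfsg.Agent.S0429P
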