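import Mathlib
import Cfsg.Agent.Helper27.S0429Defs
import Cfsg.Agent.Helper27.S0429K33
import Cfsg.Agent.Helper10.S0429SYN1
import Cfsg.Agent.Helper20.S0429COLLINECore

/-! Board `s0429pieces`, row COLLINE (wrapper of `COLLINE_aux_core` with the landed K33 and SYN1). -/

set_option autoImplicit false

namespace Cfsg.Agent.S0429P

open Finset

variable {V : Type*} [Fintype V] [DecidableEq V] {G : SimpleGraph V} [DecidableRel G.Adj]

/-- COLLINE (M/L): the line through two collinear points, and the quadrangle axiom. -/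
theorem COLLINE (h : G.IsSRGWith 77 16 0 4) {a x : V} (hax : G.Adj a x) :
    ∀ p ∈ Pt G a x, ∀ q ∈ Pt G a x, col G a p q → ∃ r ∈ Pt G a x, col G a p r ∧ col G a q r ∧
      ∀ s ∈ Pt G a x, s ≠ p → s ≠ q → s ≠ r →
        ((col G a s p ∧ ¬ col G a s q ∧ ¬ col G a s r) ∨ (¬ col G a s p ∧ col G a s q ∧ ¬ col G a s r) ∨
          (¬ col G a s p ∧ ¬ col G a s q ∧ col G a s r)) :=
  COLLINE_aux_core h (K33 h)
    (fun h1 h2 h3 h12 h13 h23 k12 k13 k23 _ hz hz1 hz2 hz3 =>
      SYN1 h h1 h2 h3 h12 h13 h23 k12 k13 k23 hz hz1 hz2 hz3) hax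

end Cfsg.Agent.S0429P
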