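import Mathlib
import Cfsg.Agent.Helper5.S0518Defs
import Cfsg.Agent.Helper17.Basic

set_option autoImplicit false
set_option linter.unusedSectionVars false
set_option linter.unusedVariables false
set_option linter.style.haveILetI false

/-! Piece PAIR1 of the board `s0518pieces`: the structure of `T = Q₁Q₂` seen from its two `E₈`-subgroups. -/

universe u

namespace Cfsg.Agent.S0518P

open Cfsg Subgroup

variable {G : Type u} [Group G]

/-- two involutions with involutory product commute -/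
theorem PAIR1_aux_comm {a b : G} (ha : a * a = 1) (hb : b * b = 1) (hab : (a * b) * (a * b) = 1) :
    a * b = b * a := by
  have ha' : a⁻¹ = a := inv_eq_of_mul_eq_one_right ha
  have hb' : b⁻¹ = b := inv_eq_of_mul_eq_one_right hb
  calc a * b = (a * b)⁻¹ := (inv_eq_of_mul_eq_one_right hab).symm
    _ = b⁻¹ * a⁻¹ := mul_inv_rev a b
    _ = b * a := by rw [ha', hb']

/-- elements of an elementary abelian 2-group commute -/
theorem PAIR1_aux_comm' {Q : Subgroup G} (hQ : ∀ q ∈ Q, q * q = 1) {a b : G} (ha : a ∈ Q) (hb : b ∈ Q) :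
    a * b = b * a :=
  PAIR1_aux_comm (hQ a ha) (hQ b hb) (hQ _ (Q.mul_mem ha hb))

/-- a subgroup strictly between `A` and `B` with `|B| = 2|A|` does not exist -/
theorem PAIR1_aux_index_two [Finite G] {A D B : Subgroup G} (hAD : A ≤ D) (hDB : D ≤ B)
    (hcard : Nat.card ↥B = 2 * Nat.card ↥A) (hne : ∃ x ∈ D, x ∉ A) : D = B := by
  obtain ⟨k, hk⟩ := Subgroup.card_dvd_of_le hAD
  obtain ⟨m, hm⟩ := Subgroup.card_dvd_of_le hDB
  have hApos : 0 < Nat.card ↥A := Nat.card_pos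
  have hkm : k * m = 2 := by
    have h1 : Nat.card ↥A * (k * m) = Nat.card ↥A * 2 := by
      rw [← mul_assoc, ← hk, ← hm, hcard, mul_comm]
    exact Nat.eq_of_mul_eq_mul_left hApos h1
  have hk2 : k ∣ 2 := ⟨m, hkm.symm⟩
  have hk12 : k = 1 ∨ k = 2 := (Nat.dvd_prime Nat.prime_two).mp hk2
  rcases hk12 with rfl | rfl
  · exfalso
    obtain ⟨x, hxD, hxA⟩ := hne
    have : A = D := Subgroup.eq_of_le_of_card_ge hAD (by rw [hk, mul_one])
    rw [this] at hxA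
    exact hxA hxD
  · have hm1 : m = 1 := by omega
    exact Subgroup.eq_of_le_of_card_ge hDB (by rw [hm, hm1, mul_one])

theorem PAIR1 [Finite G] {C : Cfg G} (h : TBase C) (h0 : TD0 C) : TD1 C := by
  have b₁ := h.b₁
  have b₂ := h.b₂
  have hTQ₁ : C.T ≤ normalizer (C.Q₁ : Set G) := b₁.T_le.trans b₁.Q_normal
  have hTQ₂ : C.T ≤ normalizer (C.Q₂ : Set G) := b₂.T_le.trans b₂.Q_normal
  have hsup_le : C.Q₁ ⊔ C.Q₂ ≤ C.T := sup_le b₁.Q_le b₂.Q_le
  -- `Q₁Q₂ = T`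
  have hsup : C.Q₁ ⊔ C.Q₂ = C.T := by
    apply PAIR1_aux_index_two (A := C.Q₁) le_sup_left hsup_le (by rw [b₁.card_T, b₁.card_Q])
    by_contra hcon
    push Not at hcon
    have h1 : C.Q₂ ≤ C.Q₁ := fun x hx => hcon x (Subgroup.mem_sup_right hx)
    have h2 := Subgroup.eq_of_le_of_card_ge h1 (by rw [b₁.card_Q, b₂.card_Q])
    exact h0.Q_ne h2.symm
  -- `|Q₁ ∩ Q₂| = 4`
  have hcard : Nat.card ↥(C.Q₁ ⊓ C.Q₂) = 4 := by
    have h1 := Cfsg.Agent.Helper17.card_sup_mul_card_inf C.Q₁ C.Q₂ (b₂.Q_le.trans hTQ₁)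
    rw [hsup, b₁.card_T, b₁.card_Q, b₂.card_Q] at h1
    omega
  -- `Q₁ ∩ Q₂` is central in `T`
  have hcentral : ∀ x ∈ C.Q₁ ⊓ C.Q₂, ∀ t ∈ C.T, t * x = x * t := by
    intro x hx t ht
    have h1 : C.Q₁ ⊔ C.Q₂ ≤ centralizer {x} := by
      apply sup_le
      · intro q hq
        rw [Subgroup.mem_centralizer_iff]
        intro y hy
        rw [Set.mem_singleton_iff] at hy
        rw [hy]
        exact PAIR1_aux_comm' b₁.Q_sq hx.1 hq
      · intro q hq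
        rw [Subgroup.mem_centralizer_iff]
        intro y hy
        rw [Set.mem_singleton_iff] at hy
        rw [hy]
        exact PAIR1_aux_comm' b₂.Q_sq hx.2 hq
    rw [hsup] at h1
    have h2 := h1 ht
    rw [Subgroup.mem_centralizer_iff] at h2
    exact (h2 x rfl).symm
  -- `C_G(T) ≤ Q₁ ∩ Q₂`
  have hcentT : ∀ x : G, (∀ t ∈ C.T, t * x = x * t) → x ∈ C.Q₁ ⊓ C.Q₂ := by
    intro x hx
    have hc₁T : C.c₁ ∈ C.T := b₁.Q_le b₁.c_mem
    have hc₂T : C.c₂ ∈ C.T := b₂.Q_le b₂.c_mem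
    have hxP₁ : x ∈ C.P₁ := h0.cent_c₁ x (hx _ hc₁T).symm
    have hxP₂ : x ∈ C.P₂ := h0.cent_c₂ x (hx _ hc₂T).symm
    exact ⟨b₁.Q_cent x hxP₁ (fun q hq => hx q (b₁.Q_le hq)),
      b₂.Q_cent x hxP₂ (fun q hq => hx q (b₂.Q_le hq))⟩
  -- the involutions of `T`
  have hinvol : ∀ x ∈ C.T, x * x = 1 → x ∈ C.Q₁ ∨ x ∈ C.Q₂ := by
    intro x hxT hxx
    have hx' : x ∈ ((C.Q₁ ⊔ C.Q₂ : Subgroup G) : Set G) := by
      rw [hsup]; exact hxT
    rw [Subgroup.coe_mul_of_left_le_normalizer_right C.Q₁ C.Q₂ (b₁.Q_le.trans hTQ₂)] at hx'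
    obtain ⟨q₁, hq₁, q₂, hq₂, rfl⟩ := hx'
    have hq₁' : q₁ ∈ C.Q₁ := hq₁
    have hq₂' : q₂ ∈ C.Q₂ := hq₂
    by_cases hq : q₁ ∈ C.Q₂
    · right
      exact C.Q₂.mul_mem hq hq₂'
    · left
      have hcomm : q₁ * q₂ = q₂ * q₁ := PAIR1_aux_comm (b₁.Q_sq _ hq₁') (b₂.Q_sq _ hq₂') hxx
      have hmemc : ∀ w : G, q₂ * w = w * q₂ → w ∈ centralizer ({q₂} : Set G) := by
        intro w hw
        rw [Subgroup.mem_centralizer_iff]
        intro y hy
        rw [Set.mem_singleton_iff] at hy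
        rw [hy]
        exact hw
      have hD : C.Q₁ ⊓ centralizer ({q₂} : Set G) = C.Q₁ := by
        apply PAIR1_aux_index_two (A := C.Q₁ ⊓ C.Q₂) ?_ inf_le_left (by rw [b₁.card_Q, hcard])
        · exact ⟨q₁, Subgroup.mem_inf.mpr ⟨hq₁', hmemc q₁ hcomm.symm⟩, fun hc => hq hc.2⟩
        · intro w hw
          exact Subgroup.mem_inf.mpr ⟨hw.1, hmemc w (PAIR1_aux_comm' b₂.Q_sq hq₂' hw.2)⟩
      have hq₂Q₁ : q₂ ∈ C.Q₁ := by
        apply b₁.Q_cent q₂ (b₁.T_le (b₂.Q_le hq₂'))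
        intro q hq'
        have h1 : q ∈ C.Q₁ ⊓ centralizer ({q₂} : Set G) := by rw [hD]; exact hq'
        have h2 := (Subgroup.mem_inf.mp h1).2
        rw [Subgroup.mem_centralizer_iff] at h2
        exact (h2 q₂ rfl).symm
      exact C.Q₁.mul_mem hq₁' hq₂Q₁
  refine ⟨hsup, hcard, hcentral, hcentT, ?_, ?_, hinvol, ?_⟩
  · exact hcentT _ (fun t ht => b₁.c_central t (b₁.T_le ht))
  · exact hcentT _ (fun t ht => b₂.c_central t (b₂.T_le ht))
  · intro B hBT hBcard hBsq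
    have hB : B ≤ C.Q₁ ∨ B ≤ C.Q₂ := by
      by_contra hcon
      push Not at hcon
      obtain ⟨hB₁, hB₂⟩ := hcon
      obtain ⟨x₁, hx₁B, hx₁⟩ := SetLike.not_le_iff_exists.mp hB₁
      obtain ⟨x₂, hx₂B, hx₂⟩ := SetLike.not_le_iff_exists.mp hB₂
      have hx₁Q₂ : x₁ ∈ C.Q₂ := (hinvol x₁ (hBT hx₁B) (hBsq _ hx₁B)).resolve_left hx₁
      have hx₂Q₁ : x₂ ∈ C.Q₁ := (hinvol x₂ (hBT hx₂B) (hBsq _ hx₂B)).resolve_right hx₂
      have h12 : x₁ * x₂ ∈ B := B.mul_mem hx₁B hx₂B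
      rcases hinvol _ (hBT h12) (hBsq _ h12) with h3 | h3
      · apply hx₁
        have : x₁ = (x₁ * x₂) * x₂⁻¹ := by group
        rw [this]
        exact C.Q₁.mul_mem h3 (C.Q₁.inv_mem hx₂Q₁)
      · apply hx₂
        have : x₂ = x₁⁻¹ * (x₁ * x₂) := by group
        rw [this]
        exact C.Q₂.mul_mem (C.Q₂.inv_mem hx₁Q₂) h3
    rcases hB with hB | hB
    · left
      exact Subgroup.eq_of_le_of_card_ge hB (by rw [b₁.card_Q, hBcard])
    · right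
      exact Subgroup.eq_of_le_of_card_ge hB (by rw [b₂.card_Q, hBcard])

end Cfsg.Agent.S0518P
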