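import Mathlib
import Cfsg.Agent.Helper5.S0518Defs
import Cfsg.Agent.Helper17.Basic
import Cfsg.Agent.Helper20.S0518PAIR1

set_option autoImplicit false
set_option linter.unusedSectionVars false
set_option linter.unusedVariables false
set_option linter.style.haveILetI false

/-! Piece PAIR2 of the board `s0518pieces`: the element `z` with `⟨z⟩ = V₁ ∩ V₂` and the dihedral group `T₀ = V₁V₂`. -/

universe u

namespace Cfsg.Agent.S0518P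

open Cfsg Subgroup

variable {G : Type u} [Group G]

/-- two elements outside a subgroup of index two have their product inside -/
theorem PAIR2_aux_idx2 [Finite G] {A B : Subgroup G} (hAB : A ≤ B) (hcard : Nat.card ↥B = 2 * Nat.card ↥A)
    {x y : G} (hx : x ∈ B) (hy : y ∈ B) (hxA : x ∉ A) (hyA : y ∉ A) : x * y ∈ A := by
  have hidx : (A.subgroupOf B).index = 2 := by
    have h1 := Subgroup.card_mul_index (A.subgroupOf B)
    rw [Cfsg.Agent.Helper17.card_subgroupOf_of_le hAB, hcard] at h1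
    have hApos : 0 < Nat.card ↥A := Nat.card_pos
    have h2 : Nat.card ↥A * (A.subgroupOf B).index = Nat.card ↥A * 2 := by rw [h1, mul_comm]
    exact Nat.eq_of_mul_eq_mul_left hApos h2
  have h3 := (Subgroup.mul_mem_iff_of_index_two hidx (a := (⟨x, hx⟩ : ↥B)) (b := (⟨y, hy⟩ : ↥B))).mpr
    (iff_of_false (fun hc => hxA (Subgroup.mem_subgroupOf.mp hc)) (fun hc => hyA (Subgroup.mem_subgroupOf.mp hc)))
  exact Subgroup.mem_subgroupOf.mp h3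

/-- a group of order 4 containing two distinct nontrivial elements `a`, `b` with `a² = 1` is `{1, a, b, ab}` -/
theorem PAIR2_aux_four [Finite G] {Z : Subgroup G} (hZ : Nat.card ↥Z = 4) {a b : G} (ha : a ∈ Z) (hb : b ∈ Z)
    (haa : a * a = 1) (ha1 : a ≠ 1) (hb1 : b ≠ 1) (hab : a ≠ b) :
    ∀ x ∈ Z, x = 1 ∨ x = a ∨ x = b ∨ x = a * b := by
  classical
  intro x hx
  by_contra hcon
  push Not at hcon
  obtain ⟨hx1, hxa, hxb, hxab⟩ := hcon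
  have hab1 : a * b ≠ 1 := by
    intro hc
    apply hab
    have h1 : a⁻¹ = b := inv_eq_of_mul_eq_one_right hc
    have h2 : a⁻¹ = a := inv_eq_of_mul_eq_one_right haa
    rw [← h1, h2]
  have haba : a * b ≠ a := by
    intro hc
    apply hb1
    exact mul_left_cancel (a := a) (by rw [hc, mul_one])
  have habb : a * b ≠ b := by
    intro hc
    apply ha1
    exact mul_right_cancel (b := b) (by rw [hc, one_mul])
  have hsub : (({1, a, b, a * b, x} : Finset G) : Set G) ⊆ (Z : Set G) := by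
    intro y hy
    simp only [Finset.coe_insert, Finset.coe_singleton, Set.mem_insert_iff, Set.mem_singleton_iff] at hy
    rcases hy with rfl | rfl | rfl | rfl | rfl
    · exact Z.one_mem
    · exact ha
    · exact hb
    · exact Z.mul_mem ha hb
    · exact hx
  have hcard : ({1, a, b, a * b, x} : Finset G).card = 5 := by
    rw [Finset.card_insert_of_notMem, Finset.card_insert_of_notMem, Finset.card_insert_of_notMem,
      Finset.card_insert_of_notMem, Finset.card_singleton]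
    · simp only [Finset.mem_singleton]
      exact fun hc => hxab hc.symm
    · simp only [Finset.mem_insert, Finset.mem_singleton, not_or]
      exact ⟨fun hc => habb hc.symm, fun hc => hxb hc.symm⟩
    · simp only [Finset.mem_insert, Finset.mem_singleton, not_or]
      exact ⟨hab, fun hc => haba hc.symm, fun hc => hxa hc.symm⟩
    · simp only [Finset.mem_insert, Finset.mem_singleton, not_or]
      exact ⟨fun hc => ha1 hc.symm, fun hc => hb1 hc.symm, fun hc => hab1 hc.symm, fun hc => hx1 hc.symm⟩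
  have h5 := Set.ncard_le_ncard hsub (Set.toFinite _)
  rw [Set.ncard_coe_finset, hcard] at h5
  have h6 : (Z : Set G).ncard = Nat.card ↥Z := (Nat.card_coe_set_eq (Z : Set G)).symm
  rw [h6, hZ] at h5
  omega

theorem PAIR2 [Finite G] {C : Cfg G} (h : TBase C) (h0 : TD0 C) (h1 : TD1 C) : ∃ z : G, TD2 C z := by
  classical
  have b₁ := h.b₁
  have b₂ := h.b₂
  have hV₁Q : C.V₁ ≤ C.Q₁ := by rw [b₁.V_eq]; exact inf_le_left
  have hV₂Q : C.V₂ ≤ C.Q₂ := by rw [b₂.V_eq]; exact inf_le_left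
  have hV₁K : C.V₁ ≤ C.K₁ := by rw [b₁.V_eq]; exact inf_le_right
  have hV₂K : C.V₂ ≤ C.K₂ := by rw [b₂.V_eq]; exact inf_le_right
  have hV₁T : C.V₁ ≤ C.T := hV₁Q.trans b₁.Q_le
  have hV₂T : C.V₂ ≤ C.T := hV₂Q.trans b₂.Q_le
  have hTV₁ : C.T ≤ normalizer (C.V₁ : Set G) := b₁.T_le.trans b₁.V_normal
  have hTV₂ : C.T ≤ normalizer (C.V₂ : Set G) := b₂.T_le.trans b₂.V_normal
  have hc₁V₁ : C.c₁ ∉ C.V₁ := fun hc => b₁.c_not_mem (hV₁K hc)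
  have hc₂V₂ : C.c₂ ∉ C.V₂ := fun hc => b₂.c_not_mem (hV₂K hc)
  have hsq₁ : ∀ v ∈ C.V₁, v * v = 1 := fun v hv => b₁.Q_sq v (hV₁Q hv)
  have hsq₂ : ∀ v ∈ C.V₂, v * v = 1 := fun v hv => b₂.Q_sq v (hV₂Q hv)
  have hinv₁ : ∀ v ∈ C.V₁, v⁻¹ = v := fun v hv => inv_eq_of_mul_eq_one_right (hsq₁ v hv)
  have hinv₂ : ∀ v ∈ C.V₂, v⁻¹ = v := fun v hv => inv_eq_of_mul_eq_one_right (hsq₂ v hv)
  have hc₁T : ∀ t ∈ C.T, t * C.c₁ = C.c₁ * t := fun t ht => b₁.c_central t (b₁.T_le ht)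
  have hc₂T : ∀ t ∈ C.T, t * C.c₂ = C.c₂ * t := fun t ht => b₂.c_central t (b₂.T_le ht)
  -- commutators of `V₁` and `V₂` lie in `V₁ ∩ V₂`
  have hcommem : ∀ v₁ ∈ C.V₁, ∀ v₂ ∈ C.V₂, v₁ * v₂ * v₁⁻¹ * v₂⁻¹ ∈ C.V₁ ⊓ C.V₂ := by
    intro v₁ hv₁ v₂ hv₂
    refine Subgroup.mem_inf.mpr ⟨?_, ?_⟩
    · have h2 : v₂ * v₁⁻¹ * v₂⁻¹ ∈ C.V₁ :=
        (Subgroup.mem_normalizer_iff.mp (hTV₁ (hV₂T hv₂)) v₁⁻¹).mp (C.V₁.inv_mem hv₁)
      have h3 := C.V₁.mul_mem hv₁ h2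
      have h4 : v₁ * v₂ * v₁⁻¹ * v₂⁻¹ = v₁ * (v₂ * v₁⁻¹ * v₂⁻¹) := by group
      rw [h4]; exact h3
    · have h2 : v₁ * v₂ * v₁⁻¹ ∈ C.V₂ :=
        (Subgroup.mem_normalizer_iff.mp (hTV₂ (hV₁T hv₁)) v₂).mp hv₂
      exact C.V₂.mul_mem h2 (C.V₂.inv_mem hv₂)
  -- an element of `T` centralising `V₁` lies in `Q₁`
  have hcentQ₁ : ∀ x ∈ C.T, (∀ v ∈ C.V₁, v * x = x * v) → x ∈ C.Q₁ := by
    intro x hxT hx
    apply b₁.Q_cent x (b₁.T_le hxT)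
    intro q hq
    rcases b₁.Q_cover q hq with hqV | hqV
    · exact hx q hqV
    · have h3 := hx _ hqV
      have h4 := hc₁T x hxT
      apply mul_left_cancel (a := C.c₁)
      calc C.c₁ * (q * x) = (C.c₁ * q) * x := by rw [mul_assoc]
        _ = x * (C.c₁ * q) := h3
        _ = (x * C.c₁) * q := by rw [mul_assoc]
        _ = (C.c₁ * x) * q := by rw [h4]
        _ = C.c₁ * (x * q) := by rw [mul_assoc]
  -- `V₁ ∩ V₂ ≠ 1`
  have hinf_ne : C.V₁ ⊓ C.V₂ ≠ ⊥ := by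
    intro hbot
    have hcomm : ∀ v₁ ∈ C.V₁, ∀ v₂ ∈ C.V₂, v₁ * v₂ = v₂ * v₁ := by
      intro v₁ hv₁ v₂ hv₂
      have hmem := hcommem v₁ hv₁ v₂ hv₂
      rw [hbot, Subgroup.mem_bot] at hmem
      calc v₁ * v₂ = (v₁ * v₂ * v₁⁻¹ * v₂⁻¹) * (v₂ * v₁) := by group
        _ = v₂ * v₁ := by rw [hmem, one_mul]
    have hV₂Q₁ : C.V₂ ≤ C.Q₁ := by
      intro v₂ hv₂
      exact hcentQ₁ v₂ (hV₂T hv₂) (fun v hv => hcomm v hv v₂ hv₂)
    have hV₂Z : C.V₂ = C.Q₁ ⊓ C.Q₂ :=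
      Subgroup.eq_of_le_of_card_ge (le_inf hV₂Q₁ hV₂Q) (by rw [h1.card_inf_Q, b₂.card_V])
    apply hc₂V₂
    rw [hV₂Z]
    exact h1.c₂_mem
  obtain ⟨z, hz, hz1⟩ : ∃ z ∈ C.V₁ ⊓ C.V₂, z ≠ 1 := by
    by_contra hcon
    push Not at hcon
    exact hinf_ne ((Subgroup.eq_bot_iff_forall _).mpr hcon)
  have hzV₁ : z ∈ C.V₁ := (Subgroup.mem_inf.mp hz).1
  have hzV₂ : z ∈ C.V₂ := (Subgroup.mem_inf.mp hz).2
  have hzz : z * z = 1 := hsq₁ z hzV₁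
  have hzZ : z ∈ C.Q₁ ⊓ C.Q₂ := Subgroup.mem_inf.mpr ⟨hV₁Q hzV₁, hV₂Q hzV₂⟩
  have hzT : ∀ t ∈ C.T, t * z = z * t := h1.central z hzZ
  -- `|V₁ ∩ V₂| = 2`
  have hcard_inf : Nat.card ↥(C.V₁ ⊓ C.V₂) = 2 := by
    have hdvd : Nat.card ↥(C.V₁ ⊓ C.V₂) ∣ 4 := by
      have := Subgroup.card_dvd_of_le (inf_le_left : C.V₁ ⊓ C.V₂ ≤ C.V₁)
      rwa [b₁.card_V] at this
    have hle : Nat.card ↥(C.V₁ ⊓ C.V₂) ≤ 4 := Nat.le_of_dvd (by norm_num) hdvd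
    have hpos : 0 < Nat.card ↥(C.V₁ ⊓ C.V₂) := Nat.card_pos
    have hne1 : Nat.card ↥(C.V₁ ⊓ C.V₂) ≠ 1 := by
      intro hc
      exact hinf_ne (Subgroup.card_eq_one.mp hc)
    have hne4 : Nat.card ↥(C.V₁ ⊓ C.V₂) ≠ 4 := by
      intro hc
      have e₁ : C.V₁ ⊓ C.V₂ = C.V₁ := Subgroup.eq_of_le_of_card_ge inf_le_left (by rw [hc, b₁.card_V])
      have e₂ : C.V₁ ⊓ C.V₂ = C.V₂ := Subgroup.eq_of_le_of_card_ge inf_le_right (by rw [hc, b₂.card_V])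
      exact h0.V_ne (e₁.symm.trans e₂)
    have hne3 : Nat.card ↥(C.V₁ ⊓ C.V₂) ≠ 3 := by
      intro hc
      rw [hc] at hdvd
      norm_num at hdvd
    omega
  have hinfV : ∀ x ∈ C.V₁, x ∈ C.V₂ → x = 1 ∨ x = z := by
    intro x hx₁ hx₂
    by_cases hx1 : x = 1
    · left; exact hx1
    · right
      have h2 : x * z ∈ (⊥ : Subgroup G) := by
        apply PAIR2_aux_idx2 (A := ⊥) (B := C.V₁ ⊓ C.V₂) bot_le
          (by rw [hcard_inf, Subgroup.card_bot]) (Subgroup.mem_inf.mpr ⟨hx₁, hx₂⟩) hz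
        · rw [Subgroup.mem_bot]; exact hx1
        · rw [Subgroup.mem_bot]; exact hz1
      rw [Subgroup.mem_bot] at h2
      have h3 : x⁻¹ = z := inv_eq_of_mul_eq_one_right h2
      rw [← h3, hinv₁ x hx₁]
  -- the elements of `Z = Q₁ ∩ Q₂`
  have hZelts := PAIR2_aux_four h1.card_inf_Q h1.c₁_mem h1.c₂_mem b₁.c_sq b₁.c_ne b₂.c_ne h0.c_ne
  have hzcc : z = C.c₁ * C.c₂ := by
    rcases hZelts z hzZ with hc | hc | hc | hc
    · exact absurd hc hz1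
    · exfalso; apply hc₁V₁; rw [← hc]; exact hzV₁
    · exfalso; apply hc₂V₂; rw [← hc]; exact hzV₂
    · exact hc
  have hc₂eq : C.c₂ = C.c₁ * z := by
    rw [hzcc, ← mul_assoc, b₁.c_sq, one_mul]
  have hc₁eq : C.c₁ = C.c₂ * z := by
    rw [hc₂eq, mul_assoc, hzz, mul_one]
  have hinfQ : ∀ x ∈ C.Q₁ ⊓ C.Q₂, x = 1 ∨ x = z ∨ x = C.c₁ ∨ x = C.c₂ := by
    intro x hx
    rcases hZelts x hx with hc | hc | hc | hc
    · left; exact hc
    · right; right; left; exact hc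
    · right; right; right; exact hc
    · right; left; rw [hzcc]; exact hc
  have hc₁V₂ : C.c₁ ∉ C.V₂ := by
    intro hc
    apply hc₂V₂
    rw [hc₂eq]
    exact C.V₂.mul_mem hc hzV₂
  -- elements of `V₂` inside `Q₁`
  have hV₂Q₁ : ∀ v ∈ C.V₂, v ∈ C.Q₁ → v = 1 ∨ v = z := by
    intro v hv hvQ
    rcases hinfQ v (Subgroup.mem_inf.mpr ⟨hvQ, hV₂Q hv⟩) with hc | hc | hc | hc
    · left; exact hc
    · right; exact hc
    · exfalso; apply hc₁V₂; rw [← hc]; exact hv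
    · exfalso; apply hc₂V₂; rw [← hc]; exact hv
  -- `T₀ = V₁V₂`
  have hT₀mem : ∀ x ∈ C.T₀, ∃ v₁ ∈ C.V₁, ∃ v₂ ∈ C.V₂, v₁ * v₂ = x := by
    intro x hx
    have hx' : x ∈ ((C.V₁ ⊔ C.V₂ : Subgroup G) : Set G) := hx
    rw [Subgroup.coe_mul_of_left_le_normalizer_right C.V₁ C.V₂ (hV₁T.trans hTV₂)] at hx'
    obtain ⟨v₁, hv₁, v₂, hv₂, hv⟩ := hx'
    exact ⟨v₁, hv₁, v₂, hv₂, hv⟩
  have hV₁T₀ : C.V₁ ≤ C.T₀ := le_sup_left
  have hV₂T₀ : C.V₂ ≤ C.T₀ := le_sup_right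
  have hT₀T : C.T₀ ≤ C.T := sup_le hV₁T hV₂T
  have hcardT₀ : Nat.card ↥C.T₀ = 8 := by
    have h2 := Cfsg.Agent.Helper17.card_sup_mul_card_inf C.V₁ C.V₂ (hV₂T.trans hTV₁)
    rw [hcard_inf, b₁.card_V, b₂.card_V] at h2
    show Nat.card ↥(C.V₁ ⊔ C.V₂) = 8
    omega
  -- `c₁ ∉ T₀`
  have hc₁T₀ : C.c₁ ∉ C.T₀ := by
    intro hc
    obtain ⟨v₁, hv₁, v₂, hv₂, hv⟩ := hT₀mem _ hc
    have hv₂Q₁ : v₂ ∈ C.Q₁ := by
      have : v₂ = v₁⁻¹ * C.c₁ := by rw [← hv]; group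
      rw [this]
      exact C.Q₁.mul_mem (C.Q₁.inv_mem (hV₁Q hv₁)) b₁.c_mem
    apply hc₁V₁
    rw [← hv]
    rcases hV₂Q₁ v₂ hv₂ hv₂Q₁ with hc' | hc'
    · rw [hc', mul_one]; exact hv₁
    · rw [hc']; exact C.V₁.mul_mem hv₁ hzV₁
  have hc₂T₀ : C.c₂ ∉ C.T₀ := by
    intro hc
    apply hc₁T₀
    rw [hc₁eq]
    exact C.T₀.mul_mem hc (hV₁T₀ hzV₁)
  -- the key computation
  have key : ∀ v₁ ∈ C.V₁, v₁ ∉ C.V₂ → ∀ v₂ ∈ C.V₂, v₂ ∉ C.V₁ → (v₁ * v₂) * (v₁ * v₂) = z := by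
    intro v₁ hv₁ hv₁' v₂ hv₂ hv₂'
    have hw := hcommem v₁ hv₁ v₂ hv₂
    have hw' := hinfV _ (Subgroup.mem_inf.mp hw).1 (Subgroup.mem_inf.mp hw).2
    have hwe : (v₁ * v₂) * (v₁ * v₂) = v₁ * v₂ * v₁⁻¹ * v₂⁻¹ := by
      rw [hinv₁ v₁ hv₁, hinv₂ v₂ hv₂, mul_assoc, mul_assoc, mul_assoc]
    rw [hwe]
    rcases hw' with hw1 | hwz
    · exfalso
      have hcomm : v₁ * v₂ = v₂ * v₁ := by
        calc v₁ * v₂ = (v₁ * v₂ * v₁⁻¹ * v₂⁻¹) * (v₂ * v₁) := by group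
          _ = v₂ * v₁ := by rw [hw1, one_mul]
      have hmemc : ∀ w : G, v₂ * w = w * v₂ → w ∈ centralizer ({v₂} : Set G) := by
        intro w hw
        rw [Subgroup.mem_centralizer_iff]
        intro y hy
        rw [Set.mem_singleton_iff] at hy
        rw [hy]
        exact hw
      have hD : C.V₁ ⊓ centralizer ({v₂} : Set G) = C.V₁ := by
        apply PAIR1_aux_index_two (A := C.V₁ ⊓ C.V₂) ?_ inf_le_left (by rw [b₁.card_V, hcard_inf])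
        · exact ⟨v₁, Subgroup.mem_inf.mpr ⟨hv₁, hmemc v₁ hcomm.symm⟩, fun hc => hv₁' (Subgroup.mem_inf.mp hc).2⟩
        · intro w hw
          exact Subgroup.mem_inf.mpr ⟨(Subgroup.mem_inf.mp hw).1,
            hmemc w (PAIR1_aux_comm' b₂.Q_sq (hV₂Q hv₂) (hV₂Q (Subgroup.mem_inf.mp hw).2))⟩
      have hv₂Q₁ : v₂ ∈ C.Q₁ := by
        apply hcentQ₁ v₂ (hV₂T hv₂)
        intro v hv
        have h2 : v ∈ C.V₁ ⊓ centralizer ({v₂} : Set G) := by rw [hD]; exact hv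
        have h3 := (Subgroup.mem_inf.mp h2).2
        rw [Subgroup.mem_centralizer_iff] at h3
        exact (h3 v₂ rfl).symm
      rcases hV₂Q₁ v₂ hv₂ hv₂Q₁ with hc | hc
      · apply hv₂'; rw [hc]; exact C.V₁.one_mem
      · apply hv₂'; rw [hc]; exact hzV₁
    · exact hwz
  -- `Q₂ = V₂ ∪ c₁V₂`
  have hcover₂ : ∀ q ∈ C.Q₂, q ∈ C.V₂ ∨ C.c₁ * q ∈ C.V₂ := by
    intro q hq
    rcases b₂.Q_cover q hq with hqV | hqV
    · left; exact hqV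
    · right
      have h2 := C.V₂.mul_mem hzV₂ hqV
      have h3 : z * (C.c₂ * q) = C.c₁ * q := by
        have hzc : z * C.c₁ = C.c₁ * z := hc₁T z (hV₁T hzV₁)
        calc z * (C.c₂ * q) = z * (C.c₁ * z * q) := by rw [hc₂eq]
          _ = (z * C.c₁) * z * q := by simp only [mul_assoc]
          _ = (C.c₁ * z) * z * q := by rw [hzc]
          _ = C.c₁ * (z * z) * q := by simp only [mul_assoc]
          _ = C.c₁ * q := by rw [hzz, mul_one]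
      rw [h3] at h2
      exact h2
  -- `T = T₀ ∪ c₁T₀`
  have hTcover : ∀ t ∈ C.T, t ∈ C.T₀ ∨ C.c₁ * t ∈ C.T₀ := by
    intro t ht
    have ht' : t ∈ ((C.Q₁ ⊔ C.Q₂ : Subgroup G) : Set G) := by
      rw [h1.sup_Q]; exact ht
    rw [Subgroup.coe_mul_of_left_le_normalizer_right C.Q₁ C.Q₂
      (b₁.Q_le.trans (b₂.T_le.trans b₂.Q_normal))] at ht'
    obtain ⟨q₁, hq₁, q₂, hq₂, rfl⟩ := ht'
    have hq₁' : q₁ ∈ C.Q₁ := hq₁
    have hq₂' : q₂ ∈ C.Q₂ := hq₂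
    have hcq₁ : q₁ * C.c₁ = C.c₁ * q₁ := hc₁T q₁ (b₁.Q_le hq₁')
    rcases b₁.Q_cover q₁ hq₁' with hA | hA <;> rcases hcover₂ q₂ hq₂' with hB | hB
    · left
      exact Subgroup.mul_mem_sup hA hB
    · right
      have h2 : C.c₁ * (q₁ * q₂) = q₁ * (C.c₁ * q₂) := by
        rw [← mul_assoc, ← hcq₁, mul_assoc]
      show C.c₁ * (q₁ * q₂) ∈ C.T₀
      rw [h2]
      exact Subgroup.mul_mem_sup hA hB
    · right
      show C.c₁ * (q₁ * q₂) ∈ C.T₀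
      rw [← mul_assoc]
      exact Subgroup.mul_mem_sup hA hB
    · left
      have h2 : q₁ * q₂ = (C.c₁ * q₁) * (C.c₁ * q₂) := by
        rw [mul_assoc, ← mul_assoc q₁ C.c₁ q₂, hcq₁, mul_assoc, ← mul_assoc, b₁.c_sq, one_mul]
      show q₁ * q₂ ∈ C.T₀
      rw [h2]
      exact Subgroup.mul_mem_sup hA hB
  -- the elements of `T₀`
  have hT₀elts : ∀ x ∈ C.T₀, x ∈ C.V₁ ∨ x ∈ C.V₂ ∨ x * x = z := by
    intro x hx
    obtain ⟨v₁, hv₁, v₂, hv₂, rfl⟩ := hT₀mem x hx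
    by_cases hA : v₁ ∈ C.V₂
    · right; left; exact C.V₂.mul_mem hA hv₂
    · by_cases hB : v₂ ∈ C.V₁
      · left; exact C.V₁.mul_mem hv₁ hB
      · right; right; exact key v₁ hv₁ hA v₂ hv₂ hB
  -- existence of `r`
  have hrex : ∃ r ∈ C.T₀, r * r = z := by
    have hn₁ : ¬ C.V₁ ≤ C.V₂ := by
      intro hle
      exact h0.V_ne (Subgroup.eq_of_le_of_card_ge hle (by rw [b₁.card_V, b₂.card_V]))
    have hn₂ : ¬ C.V₂ ≤ C.V₁ := by
      intro hle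
      exact h0.V_ne (Subgroup.eq_of_le_of_card_ge hle (by rw [b₁.card_V, b₂.card_V])).symm
    obtain ⟨v₁, hv₁, hv₁'⟩ := SetLike.not_le_iff_exists.mp hn₁
    obtain ⟨v₂, hv₂, hv₂'⟩ := SetLike.not_le_iff_exists.mp hn₂
    exact ⟨v₁ * v₂, Subgroup.mul_mem_sup hv₁ hv₂, key v₁ hv₁ hv₁' v₂ hv₂ hv₂'⟩
  -- uniqueness of `r` up to inversion
  have hruniq : ∀ x ∈ C.T₀, ∀ y ∈ C.T₀, x * x = z → y * y = z → y = x ∨ y = x⁻¹ := by
    intro x hx y hy hxx hyy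
    obtain ⟨v₁, hv₁, v₂, hv₂, rfl⟩ := hT₀mem x hx
    obtain ⟨w₁, hw₁, w₂, hw₂, rfl⟩ := hT₀mem y hy
    have hnot : ∀ a ∈ C.V₁, ∀ b ∈ C.V₂, (a * b) * (a * b) = z → a ∉ C.V₂ ∧ b ∉ C.V₁ := by
      intro a ha b hb hab
      constructor
      · intro hc
        apply hz1
        rw [← hab]
        exact hsq₂ _ (C.V₂.mul_mem hc hb)
      · intro hc
        apply hz1
        rw [← hab]
        exact hsq₁ _ (C.V₁.mul_mem ha hc)
    obtain ⟨hv₁', hv₂'⟩ := hnot v₁ hv₁ v₂ hv₂ hxx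
    obtain ⟨hw₁', hw₂'⟩ := hnot w₁ hw₁ w₂ hw₂ hyy
    have hxinv : (v₁ * v₂)⁻¹ = (v₁ * v₂) * z := by
      apply inv_eq_of_mul_eq_one_right
      rw [← mul_assoc, hxx, hzz]
    have h₁ : v₁ * w₁ ∈ C.V₁ ⊓ C.V₂ :=
      PAIR2_aux_idx2 (A := C.V₁ ⊓ C.V₂) (B := C.V₁) inf_le_left (by rw [b₁.card_V, hcard_inf]) hv₁ hw₁
        (fun hc => hv₁' (Subgroup.mem_inf.mp hc).2) (fun hc => hw₁' (Subgroup.mem_inf.mp hc).2)
    have h₂ : v₂ * w₂ ∈ C.V₁ ⊓ C.V₂ := by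
      have := PAIR2_aux_idx2 (A := C.V₂ ⊓ C.V₁) (B := C.V₂) inf_le_left
        (by rw [b₂.card_V, inf_comm, hcard_inf]) hv₂ hw₂
        (fun hc => hv₂' (Subgroup.mem_inf.mp hc).2) (fun hc => hw₂' (Subgroup.mem_inf.mp hc).2)
      rw [inf_comm]; exact this
    have hw₁e : w₁ = v₁ ∨ w₁ = v₁ * z := by
      rcases hinfV _ (Subgroup.mem_inf.mp h₁).1 (Subgroup.mem_inf.mp h₁).2 with hc | hc
      · left
        have := inv_eq_of_mul_eq_one_right hc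
        rw [← this, hinv₁ v₁ hv₁]
      · right
        have : w₁ = v₁⁻¹ * (v₁ * w₁) := by group
        rw [this, hc, hinv₁ v₁ hv₁]
    have hw₂e : w₂ = v₂ ∨ w₂ = v₂ * z := by
      rcases hinfV _ (Subgroup.mem_inf.mp h₂).1 (Subgroup.mem_inf.mp h₂).2 with hc | hc
      · left
        have := inv_eq_of_mul_eq_one_right hc
        rw [← this, hinv₂ v₂ hv₂]
      · right
        have : w₂ = v₂⁻¹ * (v₂ * w₂) := by group
        rw [this, hc, hinv₂ v₂ hv₂]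
    have hzv₂ : z * v₂ = v₂ * z := (hzT v₂ (hV₂T hv₂)).symm
    rcases hw₁e with rfl | rfl <;> rcases hw₂e with rfl | rfl
    · left; rfl
    · right
      rw [hxinv, mul_assoc]
    · right
      rw [hxinv, mul_assoc, hzv₂, mul_assoc]
    · left
      rw [mul_assoc, ← mul_assoc z v₂ z, hzv₂, mul_assoc v₂ z z, hzz, mul_one]
  -- fusion
  have hfuse : ∀ x ∈ C.T₀, x * x = 1 → x ≠ 1 → ∃ g : G, g * z * g⁻¹ = x := by
    intro x hx hxx hx1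
    rcases hT₀elts x hx with hc | hc | hc
    · obtain ⟨k, -, hk⟩ := b₁.K_trans z hzV₁ x hc hz1 hx1
      exact ⟨k, hk⟩
    · obtain ⟨k, -, hk⟩ := b₂.K_trans z hzV₂ x hc hz1 hx1
      exact ⟨k, hk⟩
    · exfalso
      apply hz1
      rw [← hc, hxx]
  exact ⟨z, ⟨hz1, hzV₁, hzV₂, hinfV, hzT, hc₂eq, hinfQ, hcardT₀, hT₀T, hc₁T₀, hc₂T₀, hTcover, hT₀elts,
    hrex, hruniq, hfuse⟩⟩

end Cfsg.Agent.S0518P
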