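import Mathlib
import Cfsg.Agent.Helper27.S0745Defs

/-! Board `s0745pieces`, row CARDHCONST: in a `t`-transitive group the pointwise stabilisers of `t`-sets all have the
same order. -/

set_option autoImplicit false
set_option linter.unusedSectionVars false

namespace Cfsg.Agent.S0745P

open Equiv

variable {α : Type*} [Fintype α] [DecidableEq α]

/-- an enumeration of a finset of cardinality `t` -/
theorem CARDHCONST_aux_enum (t : ℕ) (s : Finset α) (hs : s.card = t) :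
    ∃ x : Fin t ↪ α, (∀ i, x i ∈ s) ∧ ∀ w ∈ s, ∃ i, x i = w := by
  let e : Fin t ≃ {x // x ∈ s} := (Finset.equivFinOfCardEq hs).symm
  refine ⟨e.toEmbedding.trans (Function.Embedding.subtype _), fun i => (e i).2, fun w hw => ?_⟩
  refine ⟨e.symm ⟨w, hw⟩, ?_⟩
  simp

/-- conjugation maps the pointwise stabiliser of `s` into that of `g s` -/
theorem CARDHCONST_aux_conj (G : Subgroup (Perm α)) (s s' : Finset α) (g : Perm α) (hg : g ∈ G)
    (hgs : ∀ z ∈ s', ∃ w ∈ s, g w = z) (h : Perm α) (hh : h ∈ PS G s) : g * h * g⁻¹ ∈ PS G s' := by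
  refine ⟨G.mul_mem (G.mul_mem hg hh.1) (G.inv_mem hg), fun z hz => ?_⟩
  obtain ⟨w, hw, rfl⟩ := hgs z hz
  simp [Perm.mul_apply, hh.2 w hw]

/-- CARDHCONST -/
theorem cardH_const (G : Subgroup (Perm α)) (t : ℕ)
    (htr : ∀ x y : Fin t ↪ α, ∃ g ∈ G, ∀ i, g (x i) = y i)
    (s s' : Finset α) (hs : s.card = t) (hs' : s'.card = t) :
    Nat.card (PS G s) = Nat.card (PS G s') := by
  obtain ⟨x, hx, hx'⟩ := CARDHCONST_aux_enum t s hs
  obtain ⟨y, hy, hy'⟩ := CARDHCONST_aux_enum t s' hs'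
  obtain ⟨g, hg, hgxy⟩ := htr x y
  have h1 : ∀ z ∈ s', ∃ w ∈ s, g w = z := by
    intro z hz
    obtain ⟨i, rfl⟩ := hy' z hz
    exact ⟨x i, hx i, hgxy i⟩
  have h2 : ∀ w ∈ s, ∃ z ∈ s', g⁻¹ z = w := by
    intro w hw
    obtain ⟨i, rfl⟩ := hx' w hw
    refine ⟨y i, hy i, ?_⟩
    rw [← hgxy i]; simp
  apply Nat.card_congr
  refine
    { toFun := fun h => ⟨g * h.1 * g⁻¹, CARDHCONST_aux_conj G s s' g hg h1 h.1 h.2⟩
      invFun := fun h => ⟨g⁻¹ * h.1 * g, ?_⟩
      left_inv := fun h => ?_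
      right_inv := fun h => ?_ }
  · have := CARDHCONST_aux_conj G s' s g⁻¹ (G.inv_mem hg) h2 h.1 h.2
    simpa using this
  · apply Subtype.ext
    show g⁻¹ * (g * h.1 * g⁻¹) * g = h.1
    group
  · apply Subtype.ext
    show g * (g⁻¹ * h.1 * g) * g⁻¹ = h.1
    group

end Cfsg.Agent.S0745P
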