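import Mathlib
import Cfsg.Agent.Helper27.S0745Defs

/-! Board `s0745pieces`, row SEMIORB: the pointwise stabiliser of a `t`-set acts semiregularly on the complement, so its
order divides `n - t`. -/

set_option autoImplicit false
set_option linter.unusedSectionVars false

namespace Cfsg.Agent.S0745P

open Equiv

variable {α : Type*} [Fintype α] [DecidableEq α]

/-- elements of the pointwise stabiliser of `Γ` preserve the complement of `Γ` -/
theorem SEMIORB_aux_compl (G : Subgroup (Perm α)) (Γ : Finset α) (h : Perm α) (hh : h ∈ PS G Γ) (x : α)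
    (hx : x ∉ Γ) : h x ∉ Γ := by
  intro hhx
  apply hx
  have := hh.2 _ hhx
  rw [← h.injective this]
  exact hhx

/-- the action of the pointwise stabiliser of `Γ` on the complement of `Γ` -/
@[reducible] def SEMIORB_aux_act (G : Subgroup (Perm α)) (Γ : Finset α) : MulAction ↥(PS G Γ) {x : α // x ∉ Γ} where
  smul h x := ⟨(h : Perm α) x, SEMIORB_aux_compl G Γ h h.2 x x.2⟩
  one_smul x := by
    apply Subtype.ext
    rfl
  mul_smul g h x := by
    apply Subtype.ext
    rfl

/-- a group acting freely on a finite type has order dividing its cardinality -/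
theorem SEMIORB_aux_free {H : Type*} [Group H] [Finite H] {β : Type*} [Finite β] [MulAction H β]
    (hfree : ∀ (h : H) (x : β), h • x = x → h = 1) : Nat.card H ∣ Nat.card β := by
  classical
  letI : Fintype (Quotient (MulAction.orbitRel H β)) := Fintype.ofFinite _
  have e := MulAction.selfEquivSigmaOrbitsQuotientStabilizer H β
  rw [Nat.card_congr e, Nat.card_sigma]
  apply Finset.dvd_sum
  intro ω _
  have hstab : MulAction.stabilizer H (Quotient.out ω) = ⊥ := by
    rw [eq_bot_iff]
    intro h hh
    rw [MulAction.mem_stabilizer_iff] at hh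
    rw [Subgroup.mem_bot]
    exact hfree h _ hh
  rw [hstab]
  have := Subgroup.card_eq_card_quotient_mul_card_subgroup (⊥ : Subgroup H)
  rw [Subgroup.card_bot, mul_one] at this
  rw [this]

/-- SEMIORB -/
theorem semi_orb (G : Subgroup (Perm α)) (t : ℕ)
    (hsr : ∀ g ∈ G, ∀ s : Finset α, s.card = t + 1 → (∀ x ∈ s, g x = x) → g = 1)
    (Γ : Finset α) (hΓ : Γ.card = t) : Nat.card (PS G Γ) ∣ Fintype.card α - t := by
  letI := SEMIORB_aux_act G Γ
  have hfree : ∀ (h : ↥(PS G Γ)) (x : {x : α // x ∉ Γ}), h • x = x → h = 1 := by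
    intro h x hx
    apply Subtype.ext
    have hx' : (h : Perm α) (x : α) = x := congrArg Subtype.val hx
    apply hsr h.1 h.2.1 (insert (x : α) Γ)
    · rw [Finset.card_insert_of_notMem x.2, hΓ]
    · intro y hy
      rcases Finset.mem_insert.mp hy with rfl | hy
      · exact hx'
      · exact h.2.2 y hy
  have hd := SEMIORB_aux_free hfree
  have hc : Nat.card {x : α // x ∉ Γ} = Fintype.card α - t := by
    rw [Nat.card_eq_fintype_card, Fintype.card_subtype_compl, Fintype.card_coe, hΓ]
  rw [hc] at hd
  exact hd

end Cfsg.Agent.S0745P
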