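import Mathlib
import Cfsg.Agent.Helper18.S0747Defs
import Cfsg.Agent.Helper16.H4Main

/-! # S0747 board, row B_ODD: M. Hall's theorem (generic form) applied to the pointwise stabilizer of `k - 4` points. -/

set_option autoImplicit false

namespace Cfsg.Agent.S0747P

open MulAction SubMulAction



/-- The stabilizer of an embedding is the fixing subgroup of its range. -/
theorem B_ODD_aux_stab_eq {H Ω : Type*} [Group H] [MulAction H Ω] {m : ℕ} (x : Fin m ↪ Ω) :
    stabilizer H x = fixingSubgroup H (Set.range x) := by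
  ext g
  rw [mem_stabilizer_iff, mem_fixingSubgroup_iff]
  constructor
  · rintro h y ⟨i, rfl⟩
    have := DFunLike.congr_fun h i
    simpa using this
  · intro h
    ext i
    simpa using h (x i) ⟨i, rfl⟩

/-- The iterated fixing subgroup has the same order as the fixing subgroup of the bigger set. -/
theorem B_ODD_aux_card_iter {G α : Type*} [Group G] [MulAction G α] (S T : Set α) (hST : S ⊆ T) :
    Nat.card (fixingSubgroup (fixingSubgroup G S)
      (Subtype.val ⁻¹' T : Set (ofFixingSubgroup G S))) = Nat.card (fixingSubgroup G T) := by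
  symm
  refine Nat.card_congr (Equiv.ofBijective
    (fun m : fixingSubgroup G T =>
      (⟨⟨m.1, fun y => (mem_fixingSubgroup_iff G).mp m.2 y.1 (hST y.2)⟩, ?_⟩ :
        fixingSubgroup (fixingSubgroup G S) (Subtype.val ⁻¹' T : Set (ofFixingSubgroup G S))))
    ⟨?_, ?_⟩)
  · rintro ⟨⟨y, hy⟩, hy'⟩
    apply Subtype.ext
    exact (mem_fixingSubgroup_iff G).mp m.2 y hy'
  · intro m1 m2 h
    apply Subtype.ext
    have := congrArg (fun z => (z.1.1 : G)) h
    exact this
  · rintro ⟨⟨g, hg⟩, hg'⟩
    refine ⟨⟨g, ?_⟩, rfl⟩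
    rw [mem_fixingSubgroup_iff]
    intro y hy
    by_cases hyS : y ∈ S
    · exact (mem_fixingSubgroup_iff G).mp hg y hyS
    · have := (mem_fixingSubgroup_iff _).mp hg' ⟨y, hyS⟩ hy
      exact congrArg Subtype.val this

/-- Faithfulness of the fixing subgroup on the complement. -/
theorem B_ODD_aux_faithful {G α : Type*} [Group G] [MulAction G α] [FaithfulSMul G α] (S : Set α) :
    FaithfulSMul (fixingSubgroup G S) (ofFixingSubgroup G S) := ⟨by
  intro h1 h2 hh
  apply Subtype.ext
  apply FaithfulSMul.eq_of_smul_eq_smul (α := α)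
  intro a
  by_cases ha : a ∈ S
  · rw [(mem_fixingSubgroup_iff G).mp h1.2 a ha, (mem_fixingSubgroup_iff G).mp h2.2 a ha]
  · have := hh ⟨a, ha⟩
    exact congrArg Subtype.val this⟩

/-- Generic form: the cases of M. Hall's theorem for a `k`-transitive group with odd `k`-point stabilizer. -/
theorem B_ODD_aux_generic {G α : Type*} [Group G] [Finite G] [Finite α] [MulAction G α]
    [FaithfulSMul G α] [DecidableEq α] {k : ℕ} (hk : 4 ≤ k) (hG : IsMultiplyPretransitive G α k)
    (S T : Finset α) (hST : S ⊆ T) (hS : S.card = k - 4) (hT : T.card = k)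
    (hodd : Odd (Nat.card (fixingSubgroup G (T : Set α)))) :
    Nat.card α = k ∨ Nat.card α = k + 1 ∨ Nat.card α = k + 2 ∨
      (Nat.card α = k + 3 ∧ Nat.card (fixingSubgroup G (T : Set α)) = 3) ∨
      (Nat.card α = k + 7 ∧ Nat.card (fixingSubgroup G (T : Set α)) = 1) := by
  have : IsMultiplyPretransitive G α k := hG
  have : Finite ((S : Set α)) := S.finite_toSet.to_subtype
  have hSn : (S : Set α).ncard = k - 4 := by rw [Set.ncard_coe_finset, hS]
  have htr : IsMultiplyPretransitive (fixingSubgroup G (S : Set α))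
      (ofFixingSubgroup G (S : Set α)) 4 :=
    ofFixingSubgroup.isMultiplyPretransitive (m := 4) (n := k) G (S : Set α) (by rw [hSn]; omega)
  have := B_ODD_aux_faithful (G := G) (S : Set α)
  have hc4 : (T \ S).card = 4 := by
    rw [Finset.card_sdiff_of_subset hST, hT, hS]; omega
  let e : ↥(T \ S) ≃ Fin 4 := Finset.equivFinOfCardEq hc4
  let x : Fin 4 ↪ ofFixingSubgroup G (S : Set α) :=
    ⟨fun i => ⟨(e.symm i : α), fun h => (Finset.mem_sdiff.mp (e.symm i).2).2 (Finset.mem_coe.mp h)⟩,
      fun i j hij => by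
        have h1 : ((e.symm i : ↥(T \ S)) : α) = (e.symm j : ↥(T \ S)) :=
          congrArg (fun z : ofFixingSubgroup G (S : Set α) => (z : α)) hij
        exact e.symm.injective (Subtype.ext h1)⟩
  have hrange : Set.range x = (Subtype.val ⁻¹' (T : Set α) : Set (ofFixingSubgroup G (S : Set α))) := by
    ext ω
    constructor
    · rintro ⟨i, rfl⟩
      exact Finset.mem_coe.mpr (Finset.mem_sdiff.mp (e.symm i).2).1
    · intro hω
      have hω' : (ω : α) ∈ T \ S :=
        Finset.mem_sdiff.mpr ⟨Finset.mem_coe.mp hω, fun h => ω.2 (Finset.mem_coe.mpr h)⟩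
      refine ⟨e ⟨ω, hω'⟩, ?_⟩
      apply Subtype.ext
      change ((e.symm (e ⟨(ω : α), hω'⟩) : ↥(T \ S)) : α) = ω
      rw [Equiv.symm_apply_apply]
  have hstab : Nat.card (stabilizer (fixingSubgroup G (S : Set α)) x) =
      Nat.card (fixingSubgroup G (T : Set α)) := by
    rw [B_ODD_aux_stab_eq, hrange]
    exact B_ODD_aux_card_iter (S : Set α) (T : Set α) (by exact_mod_cast hST)
  have hΩ : Nat.card (ofFixingSubgroup G (S : Set α)) + (k - 4) = Nat.card α := by
    have h1 : Nat.card (ofFixingSubgroup G (S : Set α)) = (S : Set α)ᶜ.ncard := Nat.card_coe_set_eq _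
    have h2 := Set.ncard_add_ncard_compl (S : Set α)
    omega
  have hord := Cfsg.Agent.Helper16.H4.card_eq_descFactorial htr x
  have key := Cfsg.Agent.Helper16.H4.hall_generic htr x (by rw [hstab]; exact hodd)
  rw [hstab] at hord
  rcases key with h | h | ⟨h, hc⟩ | ⟨h, hc⟩ | ⟨h, hc⟩
  · left; omega
  · right; left; omega
  · right; right; left; omega
  · right; right; right; left
    refine ⟨by omega, ?_⟩
    rw [h, hc] at hord
    have e1 : Nat.descFactorial 7 4 = 840 := by decide
    rw [e1] at hord
    omega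
  · right; right; right; right
    refine ⟨by omega, ?_⟩
    rw [h, hc] at hord
    have e1 : Nat.descFactorial 11 4 = 7920 := by decide
    rw [e1] at hord
    omega

/-- B_ODD: M. Hall's theorem applied to the pointwise stabilizer of `k - 4` points. -/
theorem B_ODD {α : Type*} [Fintype α] [DecidableEq α] (G : Subgroup (Equiv.Perm α)) {k : ℕ} (hk : 4 ≤ k)
    (hkn : k < Fintype.card α) (hG : IsMultiplyPretransitive ↥G α k)
    (T : Finset α) (hT : T.card = k) (hodd : Odd (Nat.card (fixingSubgroup ↥G (T : Set α)))) :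
    Fintype.card α = k + 1 ∨ Fintype.card α = k + 2 ∨
      (Fintype.card α = k + 3 ∧ Nat.card ↥G * 2 = (Fintype.card α).factorial) ∨
      (Fintype.card α = k + 7 ∧ ∀ x : Fin k ↪ α, stabilizer ↥G x = ⊥) := by
  obtain ⟨S, hST, hS⟩ := Finset.exists_subset_card_eq (show k - 4 ≤ T.card by omega)
  have key := B_ODD_aux_generic hk hG S T hST hS hT hodd
  have hTn : (T : Set α).ncard = k := by rw [Set.ncard_coe_finset, hT]
  have hidx := hG.index_of_fixingSubgroup_mul hTn
  have hmul := Subgroup.index_mul_card (fixingSubgroup ↥G (T : Set α))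
  rw [Nat.card_eq_fintype_card] at key hidx
  rcases key with h | h | h | ⟨h, hc⟩ | ⟨h, hc⟩
  · omega
  · left; exact h
  · right; left; exact h
  · right; right; left
    refine ⟨h, ?_⟩
    rw [hc] at hmul
    have h3 : Fintype.card α - k = 3 := by omega
    rw [h3] at hidx
    have e3 : Nat.factorial 3 = 6 := by decide
    rw [e3] at hidx
    rw [← hidx, ← hmul]
    ring
  · right; right; right
    refine ⟨h, fun x => ?_⟩
    have hst := B_ODD_aux_stab_eq (H := ↥G) x
    have hxn : (Set.range x).ncard = k := by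
      rw [Set.ncard_range_of_injective x.injective, Nat.card_eq_fintype_card, Fintype.card_fin]
    have hidx' := hG.index_of_fixingSubgroup_mul hxn
    rw [Nat.card_eq_fintype_card] at hidx'
    have hmul' := Subgroup.index_mul_card (fixingSubgroup ↥G (Set.range x))
    have hpos : 0 < (Fintype.card α - k).factorial := Nat.factorial_pos _
    have hieq : (fixingSubgroup ↥G (Set.range x)).index = (fixingSubgroup ↥G (T : Set α)).index :=
      Nat.eq_of_mul_eq_mul_right hpos (hidx'.trans hidx.symm)
    rw [hc, mul_one] at hmul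
    rw [hieq, hmul] at hmul'
    have hGpos : 0 < Nat.card ↥G := Nat.card_pos
    have h1 : Nat.card (fixingSubgroup ↥G (Set.range x)) = 1 := by
      have := Nat.eq_of_mul_eq_mul_left hGpos (hmul'.trans (mul_one _).symm)
      exact this
    exact hst.trans (Subgroup.card_eq_one.mp h1)

end Cfsg.Agent.S0747P
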