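import Mathlib
import Cfsg.Agent.Helper26.S1237Defs

/-! S1237 board, piece PHI: basic facts on `Phi M` (the subgroup generated by the squares of `M`). -/

set_option autoImplicit false
set_option linter.style.haveILetI false

namespace Cfsg.Agent.S1237P

/-- PHI: `Phi M ≤ M`. -/
theorem PHI_le {T : Type*} [Group T] (M : Subgroup T) : Phi M ≤ M := by
  unfold Phi
  rw [Subgroup.closure_le]
  rintro y ⟨x, hx, rfl⟩
  exact mul_mem hx hx

/-- PHI: squares lie in `Phi M`. -/
theorem PHI_sq {T : Type*} [Group T] (M : Subgroup T) {x : T} (hx : x ∈ M) : x * x ∈ Phi M :=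
  Subgroup.subset_closure ⟨x, hx, rfl⟩

/-- PHI: invariance under automorphisms leaving `M` invariant. -/
theorem PHI_map {T : Type*} [Group T] (M : Subgroup T) (α : MulAut T) (hα : ∀ x ∈ M, α x ∈ M)
    {y : T} (hy : y ∈ Phi M) : α y ∈ Phi M := by
  unfold Phi at hy
  induction hy using Subgroup.closure_induction with
  | mem y hy =>
    obtain ⟨x, hx, rfl⟩ := hy
    rw [map_mul]
    exact PHI_sq M (hα x hx)
  | one => rw [map_one]; exact one_mem _
  | mul a b _ _ iha ihb => rw [map_mul]; exact mul_mem iha ihb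
  | inv a _ iha => rw [map_inv]; exact inv_mem iha

/-- PHI: `Phi M` is normalized by `M`. -/
theorem PHI_conj {T : Type*} [Group T] (M : Subgroup T) {g y : T} (hg : g ∈ M) (hy : y ∈ Phi M) :
    g * y * g⁻¹ ∈ Phi M := by
  unfold Phi at hy
  induction hy using Subgroup.closure_induction with
  | mem y hy =>
    obtain ⟨x, hx, rfl⟩ := hy
    have h1 : g * (x * x) * g⁻¹ = (g * x * g⁻¹) * (g * x * g⁻¹) := by group
    rw [h1]
    exact PHI_sq M (mul_mem (mul_mem hg hx) (inv_mem hg))
  | one =>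
    have h1 : g * 1 * g⁻¹ = 1 := by group
    rw [h1]; exact one_mem _
  | mul a b _ _ iha ihb =>
    have h1 : g * (a * b) * g⁻¹ = (g * a * g⁻¹) * (g * b * g⁻¹) := by group
    rw [h1]; exact mul_mem iha ihb
  | inv a _ iha =>
    have h1 : g * a⁻¹ * g⁻¹ = (g * a * g⁻¹)⁻¹ := by group
    rw [h1]; exact inv_mem iha

/-- PHI: `Phi M < M` for a non-trivial 2-group `M` (a subgroup of index 2 contains all squares). -/
theorem PHI_lt {T : Type*} [Group T] [Finite T] (hT : IsPGroup 2 T) (M : Subgroup T) (hM : M ≠ ⊥) :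
    Phi M < M := by
  classical
  haveI : Fact (Nat.Prime 2) := ⟨Nat.prime_two⟩
  have hMp : IsPGroup 2 M := hT.to_subgroup M
  obtain ⟨n, hn⟩ := IsPGroup.iff_card.mp hMp
  have hn1 : n ≠ 0 := by
    rintro rfl
    rw [pow_zero] at hn
    exact hM (Subgroup.card_eq_one.mp hn)
  obtain ⟨K, hK⟩ := Sylow.exists_subgroup_card_pow_prime (G := M) 2 (n := n - 1)
    (by rw [hn]; exact pow_dvd_pow 2 (Nat.sub_le n 1))
  have hidx : K.index = 2 := by
    have h1 := K.card_mul_index
    rw [hK, hn] at h1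
    have h2 : 2 ^ n = 2 ^ (n - 1) * 2 := by
      rw [← pow_succ]; congr 1; omega
    rw [h2] at h1
    exact Nat.eq_of_mul_eq_mul_left (by positivity) h1
  have hle : Phi M ≤ K.map M.subtype := by
    unfold Phi
    rw [Subgroup.closure_le]
    rintro y ⟨x, hx, rfl⟩
    have h3 := Subgroup.mul_self_mem_of_index_two hidx (⟨x, hx⟩ : M)
    exact ⟨⟨x, hx⟩ * ⟨x, hx⟩, h3, rfl⟩
  have hlt : K.map M.subtype < M := by
    refine lt_of_le_of_ne (Subgroup.map_subtype_le K) ?_
    intro heq
    have hKtop : K = ⊤ := by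
      rw [eq_top_iff]
      intro x _
      have hx : (x : T) ∈ K.map M.subtype := by rw [heq]; exact x.2
      obtain ⟨k, hk, hkx⟩ := hx
      have : k = x := Subtype.ext hkx
      rw [← this]; exact hk
    rw [hKtop, Subgroup.index_top] at hidx
    omega
  exact lt_of_le_of_lt hle hlt

end Cfsg.Agent.S1237P
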