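import Mathlib
import Cfsg.Agent.Helper26.S1237Defs
import Cfsg.Agent.Helper9.S1237CTXF
import Cfsg.Agent.Helper20.S1237PHI

/-! S1237 board, piece VLE: in the minimal situation `V ≤ Phi M`. -/

set_option autoImplicit false

namespace Cfsg.Agent.S1237P

/-- VLE: in the minimal situation `V ≤ Phi M`. -/
theorem VLE {T : Type*} [Group T] [Finite T] (hT : IsPGroup 2 T) {V : Subgroup T} {ψ : MulAut T}
    (c : Ctx V ψ) (τ : MulAut T) (hτV : ∀ v ∈ V, τ v = v) (M : Subgroup T) (d : MinData ψ τ M) :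
    V ≤ Phi M := by
  have hne : Phi M ≠ ⊥ := by
    intro hbot
    obtain ⟨x, hx, hmove⟩ := d.moves
    apply hmove
    apply hτV
    rw [c.mem]
    have h1 : x * x ∈ Phi M := PHI_sq M hx
    rw [hbot, Subgroup.mem_bot] at h1
    exact h1
  exact CTXF_le hT c (Phi M) hne (fun n hn => PHI_map M ψ d.inv hn)

end Cfsg.Agent.S1237P
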