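import Cfsg.Agent.Helper22.S1572Defs
import Cfsg.Agent.Helper22.GolayComb
import Cfsg.Agent.Helper22.Steiner

/-! # S1572 piece CNTYB (driver helper22; helper20): at most `2464 = 77 * 32` minimal vectors of shape
`(±2^8, 0^16)` have inner product `-16` with `v0`: such a vector is `-2` at `pt 0`, `pt 1`, its octad is
one of the `77` octads through these two points, and the set of the further `-2` positions is one of
the `32` even subsets of the remaining six points of the octad. -/

set_option autoImplicit false

namespace Cfsg.Agent.S1572P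

open Cfsg Cfsg.Agent.Helper27 Cfsg.Agent.Helper22.Co0Mono Cfsg.Agent.Helper22.CrossStab
  Cfsg.Agent.Helper22.Co0Center Cfsg.Agent.Helper22.MinTrans Cfsg.Agent.Helper22.Co0Order
  Cfsg.Agent.Helper22.Census Cfsg.Agent.Helper22.GolayComb Cfsg.Agent.Helper22.Design
open scoped Pointwise

namespace CNTYB

/-- a set of `6` elements has `32` subsets of even size -/
theorem card_even_powerset {α : Type*} [DecidableEq α] (R : Finset α) (hR : R.card = 6) :
    ((R.powerset).filter (fun S => Even S.card)).card = 32 := by
  have hne : R.Nonempty := by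
    rw [← Finset.card_pos, hR]
    norm_num
  have h1 := Finset.sum_powerset_neg_one_pow_card_of_nonempty hne
  have h2 := Finset.sum_filter_add_sum_filter_not R.powerset (fun S => Even S.card)
    (fun S => (-1 : ℤ) ^ S.card)
  have h3 : ∑ S ∈ R.powerset.filter (fun S => Even S.card), (-1 : ℤ) ^ S.card =
      ((R.powerset.filter (fun S => Even S.card)).card : ℤ) := by
    rw [Finset.sum_congr rfl (fun S hS => Even.neg_one_pow (Finset.mem_filter.mp hS).2),
      Finset.sum_const, nsmul_eq_mul, mul_one]
  have h4 : ∑ S ∈ R.powerset.filter (fun S => ¬ Even S.card), (-1 : ℤ) ^ S.card =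
      -((R.powerset.filter (fun S => ¬ Even S.card)).card : ℤ) := by
    rw [Finset.sum_congr rfl
      (fun S hS => Odd.neg_one_pow (Nat.not_even_iff_odd.mp (Finset.mem_filter.mp hS).2)),
      Finset.sum_const, nsmul_eq_mul, mul_neg, mul_one]
  have h5 := Finset.card_filter_add_card_filter_not (s := R.powerset) (fun S => Even S.card)
  rw [Finset.card_powerset, hR] at h5
  rw [h3, h4, h1] at h2
  omega

/-- the octads through `pt 0`, `pt 1` -/
def A2 : Set (Finset GolayPt) := {O | O ∈ octads ∧ pt 0 ∈ O ∧ pt 1 ∈ O}

theorem ncard_A2 : A2.ncard = 77 := by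
  classical
  have hA : A2 = ↑(octThrough {pt 0, pt 1}) := by
    ext O
    rw [Finset.mem_coe, mem_octThrough, Finset.insert_subset_iff, Finset.singleton_subset_iff]
    rfl
  rw [hA, Set.ncard_coe_finset]
  exact lam2_5824 Cfsg.Agent.Helper22.GolayComb.card_golayPt octads_steiner {pt 0, pt 1} (Finset.card_pair (by decide))

/-- the remaining six points of an octad through `pt 0`, `pt 1` -/
def rest (O : Finset GolayPt) : Finset GolayPt := (O.erase (pt 0)).erase (pt 1)

theorem card_rest {O : Finset GolayPt} (hO : O ∈ A2) : (rest O).card = 6 := by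
  obtain ⟨hO8, h0, h1⟩ := hO
  unfold rest
  rw [Finset.card_erase_of_mem, Finset.card_erase_of_mem h0, hO8.2]
  rw [Finset.mem_erase]
  exact ⟨by decide, h1⟩

/-- the even subsets of the remaining six points -/
def FS (O : Finset GolayPt) : Set (Finset GolayPt) := {S | S ⊆ rest O ∧ Even S.card}

theorem ncard_FS {O : Finset GolayPt} (hO : O ∈ A2) : (FS O).ncard = 32 := by
  classical
  have h : FS O = ↑(((rest O).powerset).filter (fun S => Even S.card)) := by
    ext S
    rw [Finset.mem_coe, Finset.mem_filter, Finset.mem_powerset]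
    rfl
  rw [h, Set.ncard_coe_finset, card_even_powerset _ (card_rest hO)]

/-- the parameter set -/
def PS : Set (Finset GolayPt × Finset GolayPt) := {p | p.1 ∈ A2 ∧ p.2 ∈ FS p.1}

theorem ncard_PS : PS.ncard = 2464 := by
  have h := ncard_fibered A2 (Set.toFinite _) FS 32 (fun O hO => ncard_FS hO)
    (fun _ _ => Set.toFinite _)
  rw [ncard_A2] at h
  exact h

/-- the vector with parameters `(O, S)` -/
def yB (q : Finset GolayPt × Finset GolayPt) : GolayPt → ℤ :=
  fun p => if p ∈ q.1 then (if p = pt 0 ∨ p = pt 1 ∨ p ∈ q.2 then -2 else 2) else 0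

theorem pt10 : pt 1 ≠ pt 0 := by decide

/-- every member of `YB` is of the form `yB (O, S)` -/
theorem exists_param {w : GolayPt → ℤ} (hw : w ∈ leechLattice) (hS : ShapeB w)
    (hd : dotInt (v0 : GolayPt → ℤ) w = -16) : ∃ q ∈ PS, yB q = w := by
  classical
  rw [dot_v0] at hd
  obtain ⟨O, hO, hin, hout⟩ := hS
  -- `pt 0`, `pt 1` are in the octad, with entries `-2`
  have h0 : pt 0 ∈ O := by
    by_contra h
    have e := hout _ h
    by_cases h1 : pt 1 ∈ O
    · have := hin _ h1
      omega
    · have := hout _ h1
      omega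
  have h1 : pt 1 ∈ O := by
    by_contra h
    have e := hout _ h
    have := hin _ h0
    omega
  have e0 : w (pt 0) = -2 := by
    have a := hin _ h0
    have b := hin _ h1
    omega
  have e1 : w (pt 1) = -2 := by
    have a := hin _ h0
    have b := hin _ h1
    omega
  -- the set of the `-2` positions
  set T : Finset GolayPt := O.filter (fun p => w p = -2) with hT
  have hTO : T ⊆ O := Finset.filter_subset _ _
  have hval : ∀ p, w p = (if p ∈ O then (2 : ℤ) else 0) - 4 * (if p ∈ T then (1 : ℤ) else 0) := by
    intro p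
    by_cases hp : p ∈ O
    · rw [if_pos hp]
      rcases hin p hp with h | h
      · have hpT : p ∉ T := by
          rw [hT, Finset.mem_filter]
          rintro ⟨_, h'⟩
          omega
        rw [if_neg hpT, h]
        norm_num
      · have hpT : p ∈ T := by
          rw [hT, Finset.mem_filter]
          exact ⟨hp, h⟩
        rw [if_pos hpT, h]
        norm_num
    · have hpT : p ∉ T := fun h => hp (hTO h)
      rw [if_neg hp, if_neg hpT, hout p hp]
      norm_num
  -- the coordinate sum
  have hsum : ∑ p, w p = 16 - 4 * (T.card : ℤ) := by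
    rw [Finset.sum_congr rfl (fun p _ => hval p), Finset.sum_sub_distrib, ← Finset.mul_sum,
      Finset.sum_ite_mem, Finset.sum_ite_mem, Finset.univ_inter, Finset.univ_inter,
      Finset.sum_const, Finset.sum_const, hO.2]
    norm_num
  -- the parity from the lattice condition
  have hTeven : Even T.card := by
    obtain ⟨m, t, hx, hs, _⟩ := (mem_leechLattice_iff w).mp hw
    have hm : m % 2 = 0 := by
      have := hx (pt 0)
      omega
    rw [hsum] at hs
    have h8 := Int.emod_emod_of_dvd (16 - 4 * (T.card : ℤ)) (by norm_num : (8 : ℤ) ∣ 8)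
    have hs' : (16 - 4 * (T.card : ℤ)) % 8 = (4 * m) % 8 := hs
    rw [Nat.even_iff]
    omega
  -- the parameters
  have h0T : pt 0 ∈ T := by
    rw [hT, Finset.mem_filter]
    exact ⟨h0, e0⟩
  have h1T : pt 1 ∈ T := by
    rw [hT, Finset.mem_filter]
    exact ⟨h1, e1⟩
  have hcard : ((T.erase (pt 0)).erase (pt 1)).card + 2 = T.card := by
    rw [Finset.card_erase_of_mem, Finset.card_erase_of_mem h0T]
    · have : 2 ≤ T.card := by
        have := Finset.card_le_card (Finset.insert_subset_iff.mpr
          ⟨h0T, Finset.singleton_subset_iff.mpr h1T⟩)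
        rwa [Finset.card_pair (by decide)] at this
      omega
    · rw [Finset.mem_erase]
      exact ⟨pt10, h1T⟩
  refine ⟨(O, (T.erase (pt 0)).erase (pt 1)), ⟨⟨hO, h0, h1⟩, ?_, ?_⟩, ?_⟩
  · intro p hp
    rw [Finset.mem_erase, Finset.mem_erase] at hp
    unfold rest
    rw [Finset.mem_erase, Finset.mem_erase]
    exact ⟨hp.1, hp.2.1, hTO hp.2.2⟩
  · show Even ((T.erase (pt 0)).erase (pt 1)).card
    rw [Nat.even_iff] at hTeven ⊢
    omega
  · funext p
    unfold yB
    simp only
    by_cases hp : p ∈ O
    · rw [if_pos hp]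
      by_cases hpT : p ∈ T
      · have hw2 : w p = -2 := (Finset.mem_filter.mp hpT).2
        have : p = pt 0 ∨ p = pt 1 ∨ p ∈ (T.erase (pt 0)).erase (pt 1) := by
          by_cases a : p = pt 0
          · exact Or.inl a
          · by_cases b : p = pt 1
            · exact Or.inr (Or.inl b)
            · right; right
              rw [Finset.mem_erase, Finset.mem_erase]
              exact ⟨b, a, hpT⟩
        rw [if_pos this, hw2]
      · have hw2 : w p = 2 := by
          rcases hin p hp with h | h
          · exact h
          · exact absurd (Finset.mem_filter.mpr ⟨hp, h⟩) hpT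
        have : ¬ (p = pt 0 ∨ p = pt 1 ∨ p ∈ (T.erase (pt 0)).erase (pt 1)) := by
          rintro (a | a | a)
          · exact hpT (a ▸ h0T)
          · exact hpT (a ▸ h1T)
          · rw [Finset.mem_erase, Finset.mem_erase] at a
            exact hpT a.2.2
        rw [if_neg this, hw2]
    · rw [if_neg hp, hout p hp]

end CNTYB

open CNTYB

/-- CNTYB -/
theorem ncard_YB_le : YB.ncard ≤ 2464 := by
  rw [← ncard_PS, ← Set.ncard_image_of_injective YB Subtype.val_injective]
  have hfin : PS.Finite := Set.toFinite _
  calc (Subtype.val '' YB).ncard ≤ (yB '' PS).ncard := by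
        apply Set.ncard_le_ncard _ (hfin.image _)
        rintro _ ⟨w, hw, rfl⟩
        obtain ⟨q, hq, e⟩ := exists_param w.2 hw.1 hw.2
        exact ⟨q, hq, e⟩
    _ ≤ PS.ncard := Set.ncard_image_le hfin

end Cfsg.Agent.S1572P
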