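import Cfsg.Agent.Helper22.S1572Defs
import Cfsg.Agent.Helper22.Flag
import Cfsg.Agent.Helper27.M12Hexads

/-! # S1572 piece CNTYC (driver helper22; helper20): at most `2048` minimal vectors of shape
`(∓3, ±1^23)` have inner product `-16` with `v0`: such a vector is determined by the codeword
`{p | w p ≡ 3 mod 4}`, which contains exactly one of `pt 0`, `pt 1`. -/

set_option autoImplicit false

namespace Cfsg.Agent.S1572P

open Cfsg Cfsg.Agent.Helper27 Cfsg.Agent.Helper22.Co0Mono Cfsg.Agent.Helper22.CrossStab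
  Cfsg.Agent.Helper22.Co0Center Cfsg.Agent.Helper22.MinTrans Cfsg.Agent.Helper22.Co0Order
  Cfsg.Agent.Helper22.Census
open scoped Pointwise

namespace CNTYC

/-- exactly one of the bits `0`, `1` is set -/
def xorP (n : ℕ) : Bool := xor (n.testBit 0) (n.testBit 1)

theorem cnt : countBelow (fun k => xorP (cw k)) 4096 = 2048 := by decide +kernel

/-- the codewords containing exactly one of `pt 0`, `pt 1` -/
def C2 : Set (Finset GolayPt) :=
  {c | c ∈ supports (golayCode : Set (GolayPt → ZMod 2)) ∧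
    ((pt 0 ∈ c ∧ pt 1 ∉ c) ∨ (pt 0 ∉ c ∧ pt 1 ∈ c))}

theorem xorP_iff (n : ℕ) :
    xorP n = true ↔ ((pt 0 ∈ maskSet n ∧ pt 1 ∉ maskSet n) ∨ (pt 0 ∉ maskSet n ∧ pt 1 ∈ maskSet n)) := by
  rw [Cfsg.Agent.Helper22.Flag.pt_mem_maskSet (by norm_num), Cfsg.Agent.Helper22.Flag.pt_mem_maskSet (by norm_num)]
  unfold xorP
  cases n.testBit 0 <;> cases n.testBit 1 <;> simp

theorem ncard_C2 : C2.ncard = 2048 := by
  rw [← cnt, ← ncard_codeword_masks xorP]
  congr 1
  ext c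
  constructor
  · rintro ⟨hc, hx⟩
    obtain ⟨k, hk, rfl⟩ := (mem_supports_iff c).mp hc
    exact ⟨k, hk, (xorP_iff _).mpr hx, rfl⟩
  · rintro ⟨k, hk, hP, rfl⟩
    exact ⟨maskSet_cw_mem_supports k hk, (xorP_iff _).mp hP⟩

/-- the set of positions with entry `≡ 3 mod 4` -/
def cOf (w : GolayPt → ℤ) : Finset GolayPt := Finset.univ.filter (fun p => w p % 4 = 3)

theorem mem_cOf (w : GolayPt → ℤ) (p : GolayPt) : p ∈ cOf w ↔ w p % 4 = 3 := by
  unfold cOf
  rw [Finset.mem_filter]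
  exact ⟨fun h => h.2, fun h => ⟨Finset.mem_univ _, h⟩⟩

theorem pt10 : pt 1 ≠ pt 0 := by decide

theorem facts {w : GolayPt → ℤ} (hS : ShapeC w) (hd : dotInt (v0 : GolayPt → ℤ) w = -16) :
    ((w (pt 0) = -3 ∧ w (pt 1) = -1) ∨ (w (pt 0) = -1 ∧ w (pt 1) = -3)) ∧
      ∀ p, p ≠ pt 0 → p ≠ pt 1 → (w p = 1 ∨ w p = -1) := by
  rw [dot_v0] at hd
  obtain ⟨i, hi, ho, _⟩ := hS
  by_cases h0 : i = pt 0
  · subst h0
    have h1 := ho (pt 1) pt10
    refine ⟨by omega, fun p hp0 _ => ho p hp0⟩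
  · by_cases h1 : i = pt 1
    · subst h1
      have h0' := ho (pt 0) (Ne.symm h0)
      refine ⟨by omega, fun p _ hp1 => ho p hp1⟩
    · exfalso
      have a0 := ho (pt 0) (Ne.symm h0)
      have a1 := ho (pt 1) (Ne.symm h1)
      omega

theorem val_eq {w : GolayPt → ℤ} (hS : ShapeC w) (hd : dotInt (v0 : GolayPt → ℤ) w = -16)
    (p : GolayPt) :
    w p = if p ∈ cOf w then -1 else if p = pt 0 ∨ p = pt 1 then -3 else 1 := by
  obtain ⟨h01, hrest⟩ := facts hS hd
  by_cases hp0 : p = pt 0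
  · subst hp0
    by_cases hc : pt 0 ∈ cOf w
    · rw [if_pos hc]
      rw [mem_cOf] at hc
      omega
    · rw [if_neg hc, if_pos (Or.inl rfl)]
      rw [mem_cOf] at hc
      omega
  · by_cases hp1 : p = pt 1
    · subst hp1
      by_cases hc : pt 1 ∈ cOf w
      · rw [if_pos hc]
        rw [mem_cOf] at hc
        omega
      · rw [if_neg hc, if_pos (Or.inr rfl)]
        rw [mem_cOf] at hc
        omega
    · have hr := hrest p hp0 hp1
      by_cases hc : p ∈ cOf w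
      · rw [if_pos hc]
        rw [mem_cOf] at hc
        omega
      · rw [if_neg hc, if_neg (by tauto)]
        rw [mem_cOf] at hc
        omega

theorem cOf_mem_C2 {w : GolayPt → ℤ} (hS : ShapeC w) (hd : dotInt (v0 : GolayPt → ℤ) w = -16) :
    cOf w ∈ C2 := by
  obtain ⟨h01, _⟩ := facts hS hd
  obtain ⟨i, _, _, c, hc, hcp⟩ := hS
  have e : cOf w = c := by
    ext p
    rw [mem_cOf, hcp]
  refine ⟨by rw [e]; exact hc, ?_⟩
  rw [mem_cOf, mem_cOf]
  omega

end CNTYC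

open CNTYC

/-- CNTYC -/
theorem ncard_YC_le : YC.ncard ≤ 2048 := by
  rw [← ncard_C2]
  apply Set.ncard_le_ncard_of_injOn (fun w : ↥leechLattice => cOf (w : GolayPt → ℤ))
  · intro w hw
    exact cOf_mem_C2 hw.1 hw.2
  · intro w hw w' hw' h
    apply Subtype.ext
    funext p
    rw [val_eq hw.1 hw.2 p, val_eq hw'.1 hw'.2 p]
    have h' : cOf (w : GolayPt → ℤ) = cOf (w' : GolayPt → ℤ) := h
    rw [h']

end Cfsg.Agent.S1572P
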