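import Mathlib
import Cfsg.Agent.Helper22.S1615Defs
import Cfsg.Agent.Helper14.PCore

set_option autoImplicit false

namespace Cfsg.Agent.S1615P

namespace O3CARD

theorem pigeon {G : Type*} {T : Set G} (hT : T.ncard = 3) {x y y1 y2 : G} (hx : x ∈ T) (hy : y ∈ T)
    (hy1 : y1 ∈ T) (hy2 : y2 ∈ T) :
    x = y ∨ x = y1 ∨ x = y2 ∨ y = y1 ∨ y = y2 ∨ y1 = y2 := by
  obtain ⟨u, v, w, -, -, -, rfl⟩ := Set.ncard_eq_three.mp hT
  simp only [Set.mem_insert_iff, Set.mem_singleton_iff] at hx hy hy1 hy2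
  rcases hx with hx | hx | hx <;> rcases hy with hy | hy | hy <;>
    rcases hy1 with hy1 | hy1 | hy1 <;> rcases hy2 with hy2 | hy2 | hy2 <;>
    simp [hx, hy, hy1, hy2]

variable {G : Type*} [Group G]

theorem commute_of_sq {r y : G} {n : ℕ} (hn : Odd n) (hr : r ^ n = 1) (h : Commute (r ^ 2) y) :
    Commute r y := by
  obtain ⟨m, rfl⟩ := hn
  have h1 : r = (r ^ 2) ^ (m + 1) := by
    rw [← pow_mul]
    have : 2 * (m + 1) = (2 * m + 1) + 1 := by ring
    rw [this, pow_succ, hr, one_mul]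
  rw [h1]
  exact h.pow_left _

theorem conj_mem_Dd {D : Set G} (hconj : ∀ g : G, ∀ x ∈ D, g * x * g⁻¹ ∈ D) {b r : G}
    (hrb : Commute r b) {z : G} (hz : z ∈ {y : G | y ∈ D ∧ y ≠ b ∧ Commute b y}) :
    r * z * r⁻¹ ∈ {y : G | y ∈ D ∧ y ≠ b ∧ Commute b y} := by
  obtain ⟨hz, hzb, hbz⟩ := hz
  have hb : b = r * b * r⁻¹ := by rw [hrb.eq, mul_inv_cancel_right]
  refine ⟨hconj r z hz, ?_, ?_⟩
  · intro hh
    apply hzb
    rw [hb] at hh
    exact mul_left_cancel (mul_right_cancel hh)
  · rw [hb]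
    exact (Commute.conj_iff r).mpr hbz

theorem fix_all {D : Set G} (hconj : ∀ g : G, ∀ x ∈ D, g * x * g⁻¹ ∈ D) {b : G}
    (hT : {y : G | y ∈ D ∧ y ≠ b ∧ Commute b y}.ncard = 3) {r : G} {n : ℕ} (hn : Odd n)
    (hr : r ^ n = 1) (hrb : Commute r b) {x : G} (hx : x ∈ D) (hxb : x ≠ b) (hbx : Commute b x)
    (hrx : Commute r x) {y : G} (hy : y ∈ D) (hyb : y ≠ b) (hby : Commute b y) : Commute r y := by
  have hyT : y ∈ {y : G | y ∈ D ∧ y ≠ b ∧ Commute b y} := ⟨hy, hyb, hby⟩
  have hxT : x ∈ {y : G | y ∈ D ∧ y ≠ b ∧ Commute b y} := ⟨hx, hxb, hbx⟩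
  have hy1 := conj_mem_Dd hconj hrb hyT
  have hy2 := conj_mem_Dd hconj hrb hy1
  by_cases hxy : x = y
  · rw [← hxy]; exact hrx
  have hne : ∀ z, x ≠ z → x ≠ r * z * r⁻¹ := by
    intro z hz hh
    apply hz
    have h1 : r * x * r⁻¹ = r * z * r⁻¹ := by
      rw [hrx.eq, mul_inv_cancel_right]; exact hh
    exact mul_left_cancel (mul_right_cancel h1)
  rcases pigeon hT hxT hyT hy1 hy2 with h | h | h | h | h | h
  · exact absurd h hxy
  · exact absurd h (hne y hxy)
  · exact absurd h (hne _ (hne y hxy))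
  · show r * y = y * r
    calc r * y = (r * y * r⁻¹) * r := by group
      _ = y * r := by rw [← h]
  · apply commute_of_sq hn hr
    show r ^ 2 * y = y * r ^ 2
    calc r ^ 2 * y = (r * (r * y * r⁻¹) * r⁻¹) * r ^ 2 := by
          simp [pow_two, mul_assoc]
      _ = y * r ^ 2 := by rw [← h]
  · have h' : y = r * y * r⁻¹ := mul_left_cancel (mul_right_cancel h)
    show r * y = y * r
    calc r * y = (r * y * r⁻¹) * r := by group
      _ = y * r := by rw [← h']

theorem prod_cases {e f : G} (he : e * e = 1) (hf : f * f = 1) (h3 : (e * f) ^ 3 = 1) {x y : G}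
    (hx : x = e ∨ x = f ∨ x = e * f * e) (hy : y = e ∨ y = f ∨ y = e * f * e) (hxy : x ≠ y) :
    x * y = e * f ∨ x * y = (e * f)⁻¹ := by
  have einv : e⁻¹ = e := inv_eq_of_mul_eq_one_right he
  have finv : f⁻¹ = f := inv_eq_of_mul_eq_one_right hf
  have hinv : (e * f)⁻¹ = f * e := by rw [mul_inv_rev, einv, finv]
  have h3' : (e * f) * (e * f) * (e * f) = 1 := by rw [← h3]; simp [pow_succ]
  have hsq : (e * f) * (e * f) = (e * f)⁻¹ := eq_inv_of_mul_eq_one_left h3'
  have hsq' : (f * e) * (f * e) = e * f := by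
    rw [← hinv, ← mul_inv_rev, hsq, inv_inv]
  rcases hx with hx | hx | hx <;> rcases hy with hy | hy | hy
  · exact absurd (hx.trans hy.symm) hxy
  · left; rw [hx, hy]
  · right; rw [hx, hy, hinv, ← mul_assoc, ← mul_assoc, he, one_mul]
  · right; rw [hx, hy]; exact hinv.symm
  · exact absurd (hx.trans hy.symm) hxy
  · left
    rw [hx, hy]
    calc f * (e * f * e) = (f * e) * (f * e) := by group
      _ = e * f := hsq'
  · left; rw [hx, hy, mul_assoc, he, mul_one]
  · right
    rw [hx, hy]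
    calc e * f * e * f = (e * f) * (e * f) := by group
      _ = (e * f)⁻¹ := hsq
  · exact absurd (hx.trans hy.symm) hxy

theorem Dd_struct {D : Set G} (hD : Cfsg.IsThreeTranspositionGroup D) (h0 : L0 D) {d : G}
    (hd : d ∈ D) (hk : {y : G | y ∈ D ∧ y ≠ d ∧ Commute d y}.ncard = 3) :
    ∃ e f, e ∈ D ∧ f ∈ D ∧ e ≠ d ∧ f ≠ d ∧ Commute d e ∧ Commute d f ∧ e * e = 1 ∧ f * f = 1 ∧
      (e * f) ^ 3 = 1 ∧ ¬ Commute e f ∧
      ∀ y, y ∈ {y : G | y ∈ D ∧ y ≠ d ∧ Commute d y} ↔ (y = e ∨ y = f ∨ y = e * f * e) := by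
  obtain ⟨⟨hord, h23⟩, hconj, hgen⟩ := hD
  obtain ⟨e, f, h, hef, heh, hfh, hS⟩ := Set.ncard_eq_three.mp hk
  have hmem : ∀ y, y ∈ {y : G | y ∈ D ∧ y ≠ d ∧ Commute d y} ↔ y = e ∨ y = f ∨ y = h := by
    intro y; rw [hS]; simp
  obtain ⟨heD, hed, hce⟩ := (hmem e).mpr (Or.inl rfl)
  obtain ⟨hfD, hfd, hcf⟩ := (hmem f).mpr (Or.inr (Or.inl rfl))
  have hsq : ∀ x ∈ D, x * x = 1 := by
    intro x hx
    have := hord x hx
    rw [← pow_two, ← this]; exact pow_orderOf_eq_one x
  have he2 := hsq e heD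
  have hf2 := hsq f hfD
  have einv : e⁻¹ = e := inv_eq_of_mul_eq_one_right he2
  have finv : f⁻¹ = f := inv_eq_of_mul_eq_one_right hf2
  have hnc : ¬ Commute e f := by
    intro hc
    exact hef (h0 d hd e heD f hfD hed hfd hce hcf hc)
  have hcube : (e * f) ^ 3 = 1 := by
    rcases h23 e heD f hfD with h2 | h3
    · exfalso
      apply hnc
      have h2' : e * f * (e * f) = 1 := by rw [← pow_two]; exact h2
      have : e * f = (e * f)⁻¹ := (inv_eq_of_mul_eq_one_right h2').symm
      show e * f = f * e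
      rw [this, mul_inv_rev, einv, finv]
    · exact h3
  have hefe : e * f * e ∈ {y : G | y ∈ D ∧ y ≠ d ∧ Commute d y} := by
    refine ⟨?_, ?_, ?_⟩
    · have := hconj e f hfD
      rwa [einv] at this
    · intro hh
      apply hfd
      have h1 : f = e * (e * f * e) * e := by
        rw [show e * (e * f * e) * e = (e * e) * f * (e * e) by group, he2, one_mul, mul_one]
      rw [h1, hh, ← hce.eq, mul_assoc, he2, mul_one]
    · exact (hce.mul_right hcf).mul_right hce
  have hefe' : e * f * e = h := by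
    rcases (hmem _).mp hefe with h1 | h1 | h1
    · exfalso
      apply hef
      have h2 : e * f = 1 := by
        have : e * f * e = 1 * e := by rw [one_mul]; exact h1
        exact mul_right_cancel this
      have : f = e⁻¹ := (inv_eq_of_mul_eq_one_right h2).symm
      rw [this, einv]
    · exfalso
      apply hnc
      show e * f = f * e
      have : e * f = f * e⁻¹ := by rw [eq_mul_inv_iff_mul_eq]; exact h1
      rw [this, einv]
    · exact h1
  refine ⟨e, f, heD, hfD, hed, hfd, hce, hcf, he2, hf2, hcube, hnc, ?_⟩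
  intro y
  rw [hefe']
  exact hmem y

end O3CARD

open O3CARD in
/-- O3CARD. -/
theorem card_pCore_three {G : Type*} [Group G] [Finite G] {D : Set G}
    (hD : Cfsg.IsThreeTranspositionGroup D) (hZ : Subgroup.center G = ⊥) (h0 : L0 D)
    (hk : ∀ d ∈ D, {y : G | y ∈ D ∧ y ≠ d ∧ Commute d y}.ncard = 3)
    (hmu : ∀ d ∈ D, ∀ a ∈ D, ¬ Commute d a → ∃ e, e ∈ D ∧ Commute d e ∧ Commute a e)
    {d : G} (hd : d ∈ D) :
    Nat.card (Cfsg.pCore 3 ↥(Subgroup.centralizer ({d} : Set G))) = 3 := by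
  obtain ⟨e, f, heD, hfD, hed, hfd, hce, hcf, he2, hf2, hcube, hnc, hmem⟩ :=
    Dd_struct hD h0 hd (hk d hd)
  obtain ⟨⟨hord, h23⟩, hconj, hgen⟩ := hD
  have hCcomm : ∀ c : ↥(Subgroup.centralizer ({d} : Set G)), Commute (c : G) d := by
    intro c
    have := c.2
    rw [Subgroup.mem_centralizer_iff] at this
    exact (this d rfl).symm
  have hρC : e * f ∈ Subgroup.centralizer ({d} : Set G) := by
    rw [Subgroup.mem_centralizer_iff]
    intro x hx
    rw [Set.mem_singleton_iff] at hx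
    subst hx
    exact (hce.mul_right hcf).eq
  have hfact : Fact (Nat.Prime 3) := ⟨by norm_num⟩
  -- Step A
  have h3dvd : 3 ∣ Nat.card ↥(Cfsg.pCore 3 ↥(Subgroup.centralizer ({d} : Set G))) := by
    let ρ' : ↥(Subgroup.centralizer ({d} : Set G)) := ⟨e * f, hρC⟩
    have hρ3 : ρ' ^ 3 = 1 := Subtype.ext (by simpa [ρ'] using hcube)
    have hρ1 : ρ' ≠ 1 := by
      intro hh
      have h1 : e * f = 1 := congrArg Subtype.val hh
      apply hnc
      have : f = e⁻¹ := (inv_eq_of_mul_eq_one_right h1).symm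
      rw [this]
      exact (Commute.refl e).inv_right
    have hord3 : orderOf ρ' = 3 := orderOf_eq_prime hρ3 hρ1
    have hZn : (Subgroup.zpowers ρ').Normal := by
      constructor
      intro n hn c
      have hcc : c * ρ' * c⁻¹ = ρ' ∨ c * ρ' * c⁻¹ = ρ'⁻¹ := by
        have hx := conj_mem_Dd hconj (hCcomm c) ((hmem e).mpr (Or.inl rfl))
        have hy := conj_mem_Dd hconj (hCcomm c) ((hmem f).mpr (Or.inr (Or.inl rfl)))
        have hxy : (c : G) * e * (c : G)⁻¹ ≠ (c : G) * f * (c : G)⁻¹ := by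
          intro hh
          have : e = f := mul_left_cancel (mul_right_cancel hh)
          apply hnc
          rw [this]
        have hprod : ((c : G) * e * (c : G)⁻¹) * ((c : G) * f * (c : G)⁻¹)
            = (c : G) * (e * f) * (c : G)⁻¹ := by group
        rcases prod_cases he2 hf2 hcube ((hmem _).mp hx) ((hmem _).mp hy) hxy with h1 | h1
        · left
          apply Subtype.ext
          show (c : G) * (e * f) * (c : G)⁻¹ = e * f
          rw [← hprod, h1]
        · right
          apply Subtype.ext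
          show (c : G) * (e * f) * (c : G)⁻¹ = (e * f)⁻¹
          rw [← hprod, h1]
      obtain ⟨k, rfl⟩ := Subgroup.mem_zpowers_iff.mp hn
      have hconjk : c * ρ' ^ k * c⁻¹ = (c * ρ' * c⁻¹) ^ k := (conj_zpow).symm
      rw [hconjk]
      rcases hcc with h1 | h1 <;> rw [h1]
      · exact Subgroup.zpow_mem _ (Subgroup.mem_zpowers _) _
      · exact Subgroup.zpow_mem _ (Subgroup.inv_mem _ (Subgroup.mem_zpowers _)) _
    have hZp : IsPGroup 3 ↥(Subgroup.zpowers ρ') := by
      apply IsPGroup.of_card (n := 1)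
      rw [Nat.card_zpowers, hord3, pow_one]
    have hZQ : Subgroup.zpowers ρ' ≤ Cfsg.pCore 3 ↥(Subgroup.centralizer ({d} : Set G)) :=
      Cfsg.Agent.Helper14.le_pCore 3 hZn hZp
    have := Subgroup.card_dvd_of_le hZQ
    rwa [Nat.card_zpowers, hord3] at this
  -- Step B
  have hinj : ∀ r : G, Commute r d → (∃ j : ℕ, r ^ 3 ^ j = 1) → Commute r e → r = 1 := by
    intro r hrd ⟨j, hj⟩ hre
    have hodd : Odd (3 ^ j) := Odd.pow (by decide)
    have hall : ∀ a ∈ D, Commute r a := by
      intro a ha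
      by_cases hda : Commute d a
      · by_cases had : a = d
        · rw [had]; exact hrd
        · exact fix_all hconj (hk d hd) hodd hj hrd heD hed hce hre ha had hda
      · obtain ⟨e', he'D, hde', hae'⟩ := hmu d hd a ha hda
        have he'd : e' ≠ d := by
          rintro rfl
          exact hda hae'.symm
        have hre' : Commute r e' :=
          fix_all hconj (hk d hd) hodd hj hrd heD hed hce hre he'D he'd hde'
        have hae'ne : a ≠ e' := by
          rintro rfl
          exact hda hde'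
        exact fix_all hconj (hk e' he'D) hodd hj hre' hd (Ne.symm he'd) hde'.symm hrd ha hae'ne
          hae'.symm
    have hcen : r ∈ Subgroup.center G := by
      have hle : Subgroup.closure D ≤ Subgroup.centralizer {r} := by
        rw [Subgroup.closure_le]
        intro a ha
        rw [SetLike.mem_coe, Subgroup.mem_centralizer_iff]
        intro x hx
        rw [Set.mem_singleton_iff] at hx
        subst hx
        exact (hall a ha).eq
      rw [hgen] at hle
      rw [Subgroup.mem_center_iff]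
      intro g
      have := hle (Subgroup.mem_top g)
      rw [Subgroup.mem_centralizer_iff] at this
      exact (this r rfl).symm
    rw [hZ] at hcen
    exact Subgroup.mem_bot.mp hcen
  have hQp := Cfsg.Agent.Helper14.pCore_isPGroup (G := ↥(Subgroup.centralizer ({d} : Set G))) 3
  let φ : ↥(Cfsg.pCore 3 ↥(Subgroup.centralizer ({d} : Set G))) →
      ↥{y : G | y ∈ D ∧ y ≠ d ∧ Commute d y} := fun q =>
    ⟨((q : ↥(Subgroup.centralizer ({d} : Set G))) : G) * e *
      ((q : ↥(Subgroup.centralizer ({d} : Set G))) : G)⁻¹,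
      conj_mem_Dd hconj (hCcomm q) ((hmem e).mpr (Or.inl rfl))⟩
  have hφ : Function.Injective φ := by
    intro q q' hqq
    have h1 : ((q : ↥(Subgroup.centralizer ({d} : Set G))) : G) * e *
        ((q : ↥(Subgroup.centralizer ({d} : Set G))) : G)⁻¹
        = ((q' : ↥(Subgroup.centralizer ({d} : Set G))) : G) * e *
        ((q' : ↥(Subgroup.centralizer ({d} : Set G))) : G)⁻¹ := congrArg Subtype.val hqq
    have hr1 : (((q'⁻¹ * q : ↥(Cfsg.pCore 3 ↥(Subgroup.centralizer ({d} : Set G)))) :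
        ↥(Subgroup.centralizer ({d} : Set G))) : G) = 1 := by
      apply hinj
      · exact hCcomm _
      · obtain ⟨j, hj⟩ := hQp (q'⁻¹ * q)
        refine ⟨j, ?_⟩
        have := congrArg (fun z : ↥(Cfsg.pCore 3 ↥(Subgroup.centralizer ({d} : Set G))) =>
          ((z : ↥(Subgroup.centralizer ({d} : Set G))) : G)) hj
        simpa using this
      · show _ * e = e * _
        simp only [Subgroup.coe_mul, Subgroup.coe_inv]
        generalize ((q : ↥(Subgroup.centralizer ({d} : Set G))) : G) = a at h1 ⊢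
        generalize ((q' : ↥(Subgroup.centralizer ({d} : Set G))) : G) = b at h1 ⊢
        have h2 : a * e = b * e * b⁻¹ * a := by rw [← h1]; group
        calc b⁻¹ * a * e = b⁻¹ * (a * e) := by group
          _ = b⁻¹ * (b * e * b⁻¹ * a) := by rw [h2]
          _ = e * (b⁻¹ * a) := by group
    have h2 : q'⁻¹ * q = 1 := by
      apply Subtype.ext
      apply Subtype.ext
      exact hr1
    exact (inv_mul_eq_one.mp h2).symm
  have hle : Nat.card ↥(Cfsg.pCore 3 ↥(Subgroup.centralizer ({d} : Set G))) ≤ 3 := by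
    have := Nat.card_le_card_of_injective φ hφ
    rwa [Nat.card_coe_set_eq, hk d hd] at this
  have hpos : 0 < Nat.card ↥(Cfsg.pCore 3 ↥(Subgroup.centralizer ({d} : Set G))) := Nat.card_pos
  exact le_antisymm hle (Nat.le_of_dvd hpos h3dvd)

end Cfsg.Agent.S1615P
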