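import Mathlib
import Cfsg.Agent.Helper22.S1615Defs
import Cfsg.Agent.Helper3.S3Lift

set_option autoImplicit false

namespace Cfsg.Agent.S1615P

/-- S3ISO: `|D_d| = 3` and `L0` give `⟨D_d⟩ ≅ S₃`. -/
theorem closure_Dd_equiv {G : Type*} [Group G] [Finite G] {D : Set G}
    (hD : Cfsg.IsThreeTranspositionGroup D) (h0 : L0 D) {d : G} (hd : d ∈ D)
    (hk : {y : G | y ∈ D ∧ y ≠ d ∧ Commute d y}.ncard = 3) :
    Nonempty (↥(Subgroup.closure {y : G | y ∈ D ∧ y ≠ d ∧ Commute d y}) ≃* Equiv.Perm (Fin 3)) := by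
  obtain ⟨⟨hord, h23⟩, hconj, hgen⟩ := hD
  obtain ⟨e, f, h, hef, heh, hfh, hS⟩ := Set.ncard_eq_three.mp hk
  have hmem : ∀ y, y ∈ {y : G | y ∈ D ∧ y ≠ d ∧ Commute d y} ↔ y = e ∨ y = f ∨ y = h := by
    intro y; rw [hS]; simp
  obtain ⟨heD, hed, hce⟩ := (hmem e).mpr (Or.inl rfl)
  obtain ⟨hfD, hfd, hcf⟩ := (hmem f).mpr (Or.inr (Or.inl rfl))
  have hsq : ∀ x ∈ D, x * x = 1 := by
    intro x hx
    have := hord x hx
    rw [← pow_two, ← this]; exact pow_orderOf_eq_one x
  have he2 := hsq e heD
  have hf2 := hsq f hfD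
  have einv : e⁻¹ = e := inv_eq_of_mul_eq_one_right he2
  have finv : f⁻¹ = f := inv_eq_of_mul_eq_one_right hf2
  have hnc : ¬ Commute e f := by
    intro hc
    exact hef (h0 d hd e heD f hfD hed hfd hce hcf hc)
  have hcube : (e * f) ^ 3 = 1 := by
    rcases h23 e heD f hfD with h2 | h3
    · exfalso
      apply hnc
      have h2' : e * f * (e * f) = 1 := by rw [← pow_two]; exact h2
      have : e * f = (e * f)⁻¹ := (inv_eq_of_mul_eq_one_right h2').symm
      show e * f = f * e
      rw [this, mul_inv_rev, einv, finv]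
    · exact h3
  have hefe : e * f * e ∈ {y : G | y ∈ D ∧ y ≠ d ∧ Commute d y} := by
    refine ⟨?_, ?_, ?_⟩
    · have := hconj e f hfD
      rwa [einv] at this
    · intro hh
      apply hfd
      have h1 : f = e * (e * f * e) * e := by
        rw [show e * (e * f * e) * e = (e * e) * f * (e * e) by group, he2, one_mul, mul_one]
      rw [h1, hh, ← hce.eq, mul_assoc, he2, mul_one]
    · exact (hce.mul_right hcf).mul_right hce
  have hefe' : e * f * e = h := by
    rcases (hmem _).mp hefe with h1 | h1 | h1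
    · exfalso
      apply hef
      have h2 : e * f = 1 := by
        have : e * f * e = 1 * e := by rw [one_mul]; exact h1
        exact mul_right_cancel this
      have : f = e⁻¹ := (inv_eq_of_mul_eq_one_right h2).symm
      rw [this, einv]
    · exfalso
      apply hnc
      show e * f = f * e
      have : e * f = f * e⁻¹ := by rw [eq_mul_inv_iff_mul_eq]; exact h1
      rw [this, einv]
    · exact h1
  have hcl : Subgroup.closure {y : G | y ∈ D ∧ y ≠ d ∧ Commute d y}
      = Subgroup.closure ({e, f} : Set G) := by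
    apply le_antisymm
    · rw [Subgroup.closure_le]
      intro y hy
      have he' : e ∈ Subgroup.closure ({e, f} : Set G) := Subgroup.subset_closure (by simp)
      have hf' : f ∈ Subgroup.closure ({e, f} : Set G) := Subgroup.subset_closure (by simp)
      rcases (hmem y).mp hy with h1 | h1 | h1
      · rw [h1]; exact he'
      · rw [h1]; exact hf'
      · rw [h1, ← hefe']
        exact Subgroup.mul_mem _ (Subgroup.mul_mem _ he' hf') he'
    · apply Subgroup.closure_mono
      intro y hy
      rcases hy with h1 | h1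
      · exact (hmem y).mpr (Or.inl h1)
      · exact (hmem y).mpr (Or.inr (Or.inl h1))
  obtain ⟨φ⟩ := Cfsg.Agent.Helper3.closure_pair_equiv_perm e f he2 hf2 hcube hnc
  exact ⟨(MulEquiv.subgroupCongr hcl).trans φ⟩

end Cfsg.Agent.S1615P
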