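import Mathlib
import Cfsg.Agent.Helper29.S2221Defs
import Cfsg.Agent.Helper23.S2221ZC
import Cfsg.Agent.Helper23.S2221CENTERW
import Cfsg.Agent.Helper23.S2221ODDT
import Cfsg.Agent.Helper6.S2221CENTEREWR

set_option autoImplicit false

/-! S2221 project (driver helper29), piece CENTERE: the centre of `W k ∩ A_{2^k}`, `k ≥ 3`, has
order at most two. -/

namespace Cfsg.Agent.S2221P

open Equiv

namespace CENTERE

/-- `zc (j + 2)` is even -/
theorem sign_zc (j : ℕ) : Perm.sign (zc (j + 2)) = 1 := by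
  show Perm.sign (pr (zc (j + 1)) (zc (j + 1)) : Perm (Om (j + 1) ⊕ Om (j + 1))) = 1
  rw [ODDT.sign_pr]
  exact Int.units_mul_self _

theorem step (j : ℕ) (c : ↥(sW (j + 3)).ker)
    (hc : ∀ g : ↥(sW (j + 3)).ker, c * g = g * c) :
    c = 1 ∨ ((c : ↥(W (j + 3))) : Perm (Om (j + 3))) = zc (j + 3) := by
  have hz' : ∀ d ∈ W (j + 2), (∀ e ∈ W (j + 2), d * e = e * d) → d = 1 ∨ d = zc (j + 2) :=
    fun d hd h => center_W (j + 2) (by omega) hd h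
  have hodd : ∃ t ∈ W (j + 2), Perm.sign t = -1 :=
    ⟨tc (j + 2), tc_mem (j + 2), sign_tc (j + 2) (by omega)⟩
  have heven : ∃ d ∈ W (j + 2), d ≠ 1 ∧ Perm.sign d = 1 :=
    ⟨zc (j + 2), zc_mem (j + 2), zc_ne_one (j + 2) (by omega), sign_zc j⟩
  have hσ : ((c : ↥(W (j + 3))) : Perm (Om (j + 3))) ∈ W (j + 3) := (c : ↥(W (j + 3))).2
  have hs : Perm.sign ((c : ↥(W (j + 3))) : Perm (Om (j + 3))) = 1 := MonoidHom.mem_ker.mp c.2
  have hc' : ∀ ρ ∈ W (j + 3), Perm.sign ρ = 1 →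
      ((c : ↥(W (j + 3))) : Perm (Om (j + 3))) * ρ = ρ * ((c : ↥(W (j + 3))) : Perm (Om (j + 3))) := by
    intro ρ hρ hρs
    have hk : (⟨ρ, hρ⟩ : ↥(W (j + 3))) ∈ (sW (j + 3)).ker := MonoidHom.mem_ker.mpr hρs
    exact congrArg (fun x : ↥(sW (j + 3)).ker => ((x : ↥(W (j + 3))) : Perm (Om (j + 3))))
      (hc ⟨⟨ρ, hρ⟩, hk⟩)
  rcases center_even_wr (α := Om (j + 2)) (B := W (j + 2)) hz' hodd heven hσ hs hc' with h | h
  · left
    apply Subtype.ext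
    apply Subtype.ext
    exact h
  · right
    exact h

end CENTERE

/-- W7b CENTERE (M; deps CENTEREWR, CENTERW, ODDT, ZC): the centre of `W k ∩ A_{2^k}`, `k ≥ 3`. -/
theorem center_E (k : ℕ) (hk : 3 ≤ k) (c : ↥(sW k).ker)
    (hc : ∀ g : ↥(sW k).ker, c * g = g * c) :
    c = 1 ∨ ((c : ↥(W k)) : Perm (Om k)) = zc k := by
  obtain ⟨j, rfl⟩ : ∃ j, k = j + 3 := ⟨k - 3, by omega⟩
  exact CENTERE.step j c hc

end Cfsg.Agent.S2221P
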