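import Mathlib
import Cfsg.Agent.Helper29.S2221Defs

set_option autoImplicit false

/-! S2221 project (driver helper29), piece E2DEC: `W 2 ∩ A_4` is a four-group, hence decomposable. -/

namespace Cfsg.Agent.S2221P

open Equiv

namespace E2DEC

theorem mem_zpowers_of_sq {H : Type*} [Group H] {z x : H} (hz : z * z = 1)
    (hx : x ∈ Subgroup.zpowers z) : x = 1 ∨ x = z := by
  obtain ⟨k, rfl⟩ := Subgroup.mem_zpowers_iff.mp hx
  have hk : k = k % 2 + 2 * (k / 2) := (Int.emod_add_mul_ediv k 2).symm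
  have h2 : z ^ (2 : ℤ) = 1 := by
    rw [zpow_two, hz]
  rw [hk, zpow_add, zpow_mul, h2, one_zpow, mul_one]
  rcases Int.emod_two_eq_zero_or_one k with h | h
  · left; rw [h, zpow_zero]
  · right; rw [h, zpow_one]

/-- a group with four elements `1, z, t, z * t`, where `z`, `t` are distinct commuting involutions,
is decomposable -/
theorem decomp_of_four {H : Type*} [Group H] (z t : H) (hz : z * z = 1) (ht : t * t = 1)
    (hzt : z * t = t * z) (hz1 : z ≠ 1) (ht1 : t ≠ 1) (hne : z ≠ t)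
    (hall : ∀ x : H, x = 1 ∨ x = z ∨ x = t ∨ x = z * t) : Decomp H := by
  refine ⟨Subgroup.zpowers z, Subgroup.zpowers t, ?_, ?_, ?_, ?_, ?_⟩
  · intro h
    have : z ∈ (⊥ : Subgroup H) := h ▸ Subgroup.mem_zpowers z
    exact hz1 (Subgroup.mem_bot.mp this)
  · intro h
    have : t ∈ (⊥ : Subgroup H) := h ▸ Subgroup.mem_zpowers t
    exact ht1 (Subgroup.mem_bot.mp this)
  · intro a ha b hb
    rcases mem_zpowers_of_sq hz ha with rfl | rfl <;> rcases mem_zpowers_of_sq ht hb with rfl | rfl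
    · rfl
    · rw [one_mul, mul_one]
    · rw [one_mul, mul_one]
    · exact hzt
  · rw [eq_bot_iff]
    rintro x ⟨hxa, hxb⟩
    rw [Subgroup.mem_bot]
    rcases mem_zpowers_of_sq hz hxa with rfl | rfl
    · rfl
    · rcases mem_zpowers_of_sq ht hxb with h | h
      · exact h
      · exact absurd h hne
  · rw [eq_top_iff]
    intro x _
    have hzA : z ∈ Subgroup.zpowers z ⊔ Subgroup.zpowers t :=
      (le_sup_left : Subgroup.zpowers z ≤ _) (Subgroup.mem_zpowers z)
    have htB : t ∈ Subgroup.zpowers z ⊔ Subgroup.zpowers t :=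
      (le_sup_right : Subgroup.zpowers t ≤ _) (Subgroup.mem_zpowers t)
    rcases hall x with rfl | rfl | rfl | rfl
    · exact Subgroup.one_mem _
    · exact hzA
    · exact htB
    · exact Subgroup.mul_mem _ hzA htB

section gen

variable {α : Type*} [Fintype α] [DecidableEq α]

theorem sign_pr (a b : Perm α) : Perm.sign (pr a b) = Perm.sign a * Perm.sign b :=
  Perm.sign_sumCongr a b

/-- the even elements of `wr B` when `B = {1, t}` with `t` odd and `tau` even -/
theorem even_cases_wr (B : Subgroup (Perm α)) (t : Perm α) (hB : ∀ a ∈ B, a = 1 ∨ a = t)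
    (hst : Perm.sign t = -1) (hτ : Perm.sign (tau : Perm (α ⊕ α)) = 1) {σ : Perm (α ⊕ α)}
    (hσ : σ ∈ wr B) (hs : Perm.sign σ = 1) :
    σ = 1 ∨ σ = pr t t ∨ σ = tau ∨ σ = pr t t * tau := by
  obtain ⟨a, ha, b, hb, h | h⟩ := hσ
  · rcases hB a ha with rfl | rfl <;> rcases hB b hb with rfl | rfl
    · left; rw [h, pr_one]
    · exfalso
      rw [h, sign_pr, hst] at hs
      simp at hs
    · exfalso
      rw [h, sign_pr, hst] at hs
      simp at hs
    · right; left; exact h
  · rcases hB a ha with rfl | rfl <;> rcases hB b hb with rfl | rfl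
    · right; right; left; rw [h, pr_one, one_mul]
    · exfalso
      rw [h, map_mul, sign_pr, hst, hτ] at hs
      simp at hs
    · exfalso
      rw [h, map_mul, sign_pr, hst, hτ] at hs
      simp at hs
    · right; right; right; exact h

theorem decomp_gen [Nonempty α] (B : Subgroup (Perm α)) (t : Perm α)
    (hB : ∀ a ∈ B, a = 1 ∨ a = t) (ht : t ∈ B) (hst : Perm.sign t = -1)
    (hτ : Perm.sign (tau : Perm (α ⊕ α)) = 1) (htt : t * t = 1) (ht1 : t ≠ 1) :
    Decomp ↥((Perm.sign.comp (wr B).subtype).ker) := by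
  have hzmem : pr t t ∈ wr B := pr_mem_wr ht ht
  have hzs : (Perm.sign.comp (wr B).subtype) ⟨pr t t, hzmem⟩ = 1 := by
    show Perm.sign (pr t t) = 1
    rw [sign_pr, hst]
    simp
  have hts : (Perm.sign.comp (wr B).subtype) ⟨tau, tau_mem_wr B⟩ = 1 := hτ
  refine decomp_of_four
    (⟨⟨pr t t, hzmem⟩, MonoidHom.mem_ker.mpr hzs⟩ : ↥((Perm.sign.comp (wr B).subtype).ker))
    ⟨⟨tau, tau_mem_wr B⟩, MonoidHom.mem_ker.mpr hts⟩ ?_ ?_ ?_ ?_ ?_ ?_ ?_
  · apply Subtype.ext
    apply Subtype.ext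
    show pr t t * pr t t = 1
    rw [pr_mul, htt, pr_one]
  · apply Subtype.ext
    apply Subtype.ext
    show (tau : Perm (α ⊕ α)) * tau = 1
    exact tau_mul_tau
  · apply Subtype.ext
    apply Subtype.ext
    show pr t t * tau = tau * pr t t
    exact (tau_mul_pr _ _).symm
  · intro h
    have h1 : pr t t = (1 : Perm (α ⊕ α)) :=
      congrArg (fun x : ↥((Perm.sign.comp (wr B).subtype).ker) =>
        ((x : ↥(wr B)) : Perm (α ⊕ α))) h
    rw [← pr_one] at h1
    exact ht1 (pr_injective h1).1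
  · intro h
    have h1 : (tau : Perm (α ⊕ α)) = 1 :=
      congrArg (fun x : ↥((Perm.sign.comp (wr B).subtype).ker) =>
        ((x : ↥(wr B)) : Perm (α ⊕ α))) h
    apply pr_ne_pr_mul_tau (1 : Perm α) 1 1 1
    rw [pr_one, one_mul, h1]
  · intro h
    have h1 : pr t t = (tau : Perm (α ⊕ α)) :=
      congrArg (fun x : ↥((Perm.sign.comp (wr B).subtype).ker) =>
        ((x : ↥(wr B)) : Perm (α ⊕ α))) h
    apply pr_ne_pr_mul_tau t t 1 1
    rw [pr_one, one_mul, h1]
  · rintro ⟨⟨σ, hσ⟩, hk⟩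
    have hs : Perm.sign σ = 1 := MonoidHom.mem_ker.mp hk
    rcases even_cases_wr B t hB hst hτ hσ hs with h | h | h | h
    · left
      apply Subtype.ext; apply Subtype.ext; exact h
    · right; left
      apply Subtype.ext; apply Subtype.ext; exact h
    · right; right; left
      apply Subtype.ext; apply Subtype.ext; exact h
    · right; right; right
      apply Subtype.ext; apply Subtype.ext; exact h

end gen

/-- the swap of the two points of `Om 1` -/
def t1 : Perm (Om 1) := (tau : Perm (Om 0 ⊕ Om 0))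

/-- the elements of `W 1` -/
theorem mem_W1 {a : Perm (Om 1)} (ha : a ∈ W 1) : a = 1 ∨ a = t1 := by
  obtain ⟨c, hc, d, hd, h | h⟩ := ha
  · left
    have hc1 : c = 1 := Subgroup.mem_bot.mp hc
    have hd1 : d = 1 := Subgroup.mem_bot.mp hd
    rw [h, hc1, hd1, pr_one]
    rfl
  · right
    have hc1 : c = 1 := Subgroup.mem_bot.mp hc
    have hd1 : d = 1 := Subgroup.mem_bot.mp hd
    rw [h, hc1, hd1, pr_one, one_mul]
    rfl

theorem sign_t1 : Perm.sign t1 = -1 := by decide

theorem sign_tau2 : Perm.sign (tau : Perm (Om 1 ⊕ Om 1)) = 1 := by decide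

theorem t1_mem : t1 ∈ W 1 := tau_mem_wr _

theorem t1_mul_self : t1 * t1 = 1 := tau_mul_tau

theorem t1_ne_one : t1 ≠ 1 := by decide

end E2DEC

/-- W8 E2DEC (M): `W 2 ∩ A_4` is a four-group. -/
theorem decomp_E2 : Decomp ↥(sW 2).ker :=
  E2DEC.decomp_gen (α := Om 1) (W 1) E2DEC.t1 (fun _ ha => E2DEC.mem_W1 ha) E2DEC.t1_mem
    E2DEC.sign_t1 E2DEC.sign_tau2 E2DEC.t1_mul_self E2DEC.t1_ne_one

end Cfsg.Agent.S2221P
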