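import Mathlib
import Cfsg.Agent.Helper29.S2221Defs
import Cfsg.Agent.Helper23.S2221ZC
import Cfsg.Agent.Helper23.S2221CENTERW
import Cfsg.Agent.Helper23.S2221COMMZ
import Cfsg.Agent.Helper23.S2221ODDT
import Cfsg.Agent.Helper6.S2221CLAIMCWR

set_option autoImplicit false

/-! S2221 project (driver helper29), piece GOODW: the iterated wreath products `W k`, `k ≥ 2`, are
good factors. -/

namespace Cfsg.Agent.S2221P

open Equiv

namespace GOODW

section gen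

variable {α : Type*}

/-- `wr B` is not abelian when `B ≠ 1` -/
theorem nonab_wr {B : Subgroup (Perm α)} {z' : Perm α} (hz'B : z' ∈ B) (hz'1 : z' ≠ 1) :
    ∃ x y : ↥(wr B), x * y ≠ y * x := by
  refine ⟨⟨pr z' 1, pr_mem_wr hz'B B.one_mem⟩, ⟨tau, tau_mem_wr B⟩, ?_⟩
  intro h
  have h1 : pr z' 1 * tau = tau * pr z' 1 := congrArg (fun x : ↥(wr B) => (x : Perm (α ⊕ α))) h
  rw [tau_mul_pr] at h1
  have h2 : pr z' 1 = pr 1 z' := mul_right_cancel h1
  exact hz'1 (pr_injective h2).1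

/-- Claim C for `wr B`, on the level of the subtype -/
theorem claimC_sub [Nonempty α] {B : Subgroup (Perm α)} {z' : Perm α}
    (hz'B : z' ∈ B) (hz'1 : z' ≠ 1) (hz'c : ∀ d ∈ B, z' * d = d * z')
    (hz' : ∀ c ∈ B, (∀ d ∈ B, c * d = d * c) → c = 1 ∨ c = z')
    (X Y : Subgroup ↥(wr B)) (hXY : ∀ x ∈ X, ∀ y ∈ Y, x * y = y * x) (hsup : X ⊔ Y = ⊤) :
    X ≤ Subgroup.center ↥(wr B) ∨ Y ≤ Subgroup.center ↥(wr B) := by
  have hB : B ≠ ⊥ := by
    intro h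
    rw [h] at hz'B
    exact hz'1 (Subgroup.mem_bot.mp hz'B)
  have hXY' : ∀ x ∈ X.map (wr B).subtype, ∀ y ∈ Y.map (wr B).subtype, x * y = y * x := by
    rintro _ ⟨x, hx, rfl⟩ _ ⟨y, hy, rfl⟩
    exact congrArg (fun x : ↥(wr B) => (x : Perm (α ⊕ α))) (hXY x hx y hy)
  have hsup' : X.map (wr B).subtype ⊔ Y.map (wr B).subtype = wr B := by
    rw [← Subgroup.map_sup, hsup, ← MonoidHom.range_eq_map, Subgroup.range_subtype]
  have key : ∀ Z : Subgroup ↥(wr B),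
      (∀ x ∈ Z.map (wr B).subtype, ∀ ρ ∈ wr B, x * ρ = ρ * x) → Z ≤ Subgroup.center ↥(wr B) := by
    intro Z hZ x hx
    rw [Subgroup.mem_center_iff]
    intro g
    apply Subtype.ext
    exact (hZ (x : Perm (α ⊕ α)) ⟨x, hx, rfl⟩ g g.2).symm
  rcases claimC_wr hB hz'B hz'c hz' (X.map (wr B).subtype) (Y.map (wr B).subtype) hXY' hsup' with
    h | h
  · exact Or.inl (key X h)
  · exact Or.inr (key Y h)

end gen

/-- the step `W (j + 2) = wr (W (j + 1))` -/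
theorem good_step (j : ℕ) : GoodFactor ↥(W (j + 2)) (sW (j + 2)) := by
  have hzB : zc (j + 1) ∈ W (j + 1) := zc_mem (j + 1)
  have hz1 : zc (j + 1) ≠ 1 := zc_ne_one (j + 1) (by omega)
  have hzc : ∀ d ∈ W (j + 1), zc (j + 1) * d = d * zc (j + 1) := zc_central (j + 1)
  have hz' : ∀ c ∈ W (j + 1), (∀ d ∈ W (j + 1), c * d = d * c) → c = 1 ∨ c = zc (j + 1) :=
    fun c hc h => center_W (j + 1) (by omega) hc h
  refine ⟨?_, ?_, ?_, ?_⟩
  · exact nonab_wr (B := W (j + 1)) hzB hz1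
  · refine ⟨⟨zc (j + 2), zc_mem (j + 2)⟩, zc_mem_commutator (j + 2) (by omega), ?_⟩
    intro c hc
    have h1 : ∀ ρ ∈ W (j + 2), (c : Perm (Om (j + 2))) * ρ = ρ * c := by
      intro ρ hρ
      exact congrArg (fun x : ↥(W (j + 2)) => (x : Perm (Om (j + 2)))) (hc ⟨ρ, hρ⟩)
    rcases center_W (j + 2) (by omega) c.2 h1 with h | h
    · left
      exact Subtype.ext h
    · right
      exact Subtype.ext h
  · exact ⟨⟨tc (j + 2), tc_mem (j + 2)⟩, sign_tc (j + 2) (by omega)⟩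
  · exact claimC_sub (B := W (j + 1)) hzB hz1 hzc hz'

end GOODW

/-- W6 GOODW (M; deps CENTERW, COMMZ, ODDT, CLAIMCWR, ZC). -/
theorem goodFactor_W (k : ℕ) (hk : 2 ≤ k) : GoodFactor ↥(W k) (sW k) := by
  obtain ⟨j, rfl⟩ : ∃ j, k = j + 2 := ⟨k - 2, by omega⟩
  exact GOODW.good_step j

end Cfsg.Agent.S2221P
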