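import Cfsg.Agent.Helper21.S2287DEFS
import Cfsg.Agent.Helper2.Transvec
import Cfsg.Agent.Helper22.S2287MAT3
import Cfsg.Agent.Helper25.S2287ROOTS
import Cfsg.Agent.Helper19.S2287TORUS
import Cfsg.Agent.Helper19.S2287WEYL3
import Cfsg.Agent.Helper8.S2287BOREL

/-! S2287 piece CORE3 (driver helper21; helper20): `Φ : P → SL₃(F)` is bijective, from the `BNB` form. -/

namespace Cfsg.Agent.Helper21.S2287

open Multiplicative Cfsg.Agent.Helper21.S2286

namespace CORE3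

variable {F : Type*} [Field F]

theorem xm01_val (a : F) :
    (xm 0 1 a : Matrix.SpecialLinearGroup (Fin 3) F).val = !![1, a, 0; 0, 1, 0; 0, 0, 1] := by
  ext i j
  fin_cases i <;> fin_cases j <;>
    simp [xm, Matrix.SpecialLinearGroup.transvection, Matrix.transvection, Matrix.single]

theorem xm12_val (a : F) :
    (xm 1 2 a : Matrix.SpecialLinearGroup (Fin 3) F).val = !![1, 0, 0; 0, 1, a; 0, 0, 1] := by
  ext i j
  fin_cases i <;> fin_cases j <;>
    simp [xm, Matrix.SpecialLinearGroup.transvection, Matrix.transvection, Matrix.single]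

theorem xm02_val (a : F) :
    (xm 0 2 a : Matrix.SpecialLinearGroup (Fin 3) F).val = !![1, 0, a; 0, 1, 0; 0, 0, 1] := by
  ext i j
  fin_cases i <;> fin_cases j <;>
    simp [xm, Matrix.SpecialLinearGroup.transvection, Matrix.transvection, Matrix.single]

/-- the matrix of an element of the Borel set -/
theorem borel_val (a b d : F) (s : Fˣ) (i j : ℤ) :
    (xm 0 1 a * xm 1 2 b * xm 0 2 d * dm s i j : Matrix.SpecialLinearGroup (Fin 3) F).val =
      !![((s ^ i : Fˣ) : F), a * ((s ^ (-i - j) : Fˣ) : F), (d + a * b) * ((s ^ j : Fˣ) : F);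
         0, ((s ^ (-i - j) : Fˣ) : F), b * ((s ^ j : Fˣ) : F);
         0, 0, ((s ^ j : Fˣ) : F)] := by
  simp only [Matrix.SpecialLinearGroup.coe_mul, xm01_val, xm12_val, xm02_val]
  ext r c
  fin_cases r <;> fin_cases c <;>
    simp [dm, Matrix.mul_apply, Fin.sum_univ_three]

theorem cm_inv_eq : (cm : Matrix.SpecialLinearGroup (Fin 3) F)⁻¹ = cm * cm := by
  apply inv_eq_of_mul_eq_one_right
  rw [← mul_assoc]
  exact cm_cube

theorem tor_mat (x y : Fˣ) :
    (hm x * (cm * hm y * cm⁻¹) : Matrix.SpecialLinearGroup (Fin 3) F).val =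
      !![(x : F), 0, 0; 0, ((x⁻¹ * y : Fˣ) : F), 0; 0, 0, ((y⁻¹ : Fˣ) : F)] := by
  rw [cm_inv_eq]
  simp only [Matrix.SpecialLinearGroup.coe_mul]
  ext r c
  fin_cases r <;> fin_cases c <;>
    simp [hm, cm, Matrix.mul_apply, Fin.sum_univ_three]

variable {P : Type*} [Group P] (D : A2Data F P)

theorem Phi_tor (Φ : P →* Matrix.SpecialLinearGroup (Fin 3) F)
    (hΦh : Φ D.h = hm D.ω) (hΦc : Φ D.c = cm) (i j : ℤ) : Φ (D.tor i j) = dm D.ω i j := by
  unfold A2Data.tor A2Data.s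
  rw [map_mul, map_zpow, map_zpow, map_inv, map_mul, map_mul, map_inv, hΦh, hΦc, hm_zpow,
    inv_zpow', conj_zpow, hm_zpow]
  apply Subtype.ext
  rw [tor_mat]
  unfold dm
  ext r c
  fin_cases r <;> fin_cases c <;> simp [zpow_sub, zpow_neg]

theorem cm_pow_xm (r k l : Fin 3) (a : F) :
    (cm : Matrix.SpecialLinearGroup (Fin 3) F) ^ (r : ℕ) * xm k l a * (cm ^ (r : ℕ))⁻¹ =
      xm (k + r) (l + r) a := by
  fin_cases r
  · simp
  · have h1 : (cm : Matrix.SpecialLinearGroup (Fin 3) F) ^ ((1 : Fin 3) : ℕ) = cm := by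
      rw [show ((1 : Fin 3) : ℕ) = 1 from rfl, pow_one]
    show (cm : Matrix.SpecialLinearGroup (Fin 3) F) ^ ((1 : Fin 3) : ℕ) * xm k l a *
      (cm ^ ((1 : Fin 3) : ℕ))⁻¹ = xm (k + 1) (l + 1) a
    rw [h1, cm_xm]
  · have h1 : (cm : Matrix.SpecialLinearGroup (Fin 3) F) ^ ((2 : Fin 3) : ℕ) = cm * cm := by
      rw [show ((2 : Fin 3) : ℕ) = 2 from rfl, pow_two]
    show (cm : Matrix.SpecialLinearGroup (Fin 3) F) ^ ((2 : Fin 3) : ℕ) * xm k l a *
      (cm ^ ((2 : Fin 3) : ℕ))⁻¹ = xm (k + 2) (l + 2) a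
    rw [h1]
    have h2 : (cm : Matrix.SpecialLinearGroup (Fin 3) F) * cm * xm k l a * (cm * cm)⁻¹ =
        cm * (cm * xm k l a * cm⁻¹) * cm⁻¹ := by group
    rw [h2, cm_xm, cm_xm]
    have hk : ∀ k : Fin 3, k + 1 + 1 = k + 2 := by decide
    rw [hk k, hk l]

theorem Phi_xr (Φ : P →* Matrix.SpecialLinearGroup (Fin 3) F)
    (hΦφ : ∀ a : F, Φ (D.φ (ofAdd a)) = xm 0 1 a) (hΦt : Φ D.t = tm) (hΦc : Φ D.c = cm)
    (k l : Fin 3) (a : F) : Φ (D.xr k l a) = xm k l a := by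
  unfold A2Data.xr
  split_ifs with h1 h2
  · rw [map_mul, map_mul, map_inv, map_pow, hΦφ, hΦc, cm_pow_xm, zero_add, h1, add_comm]
  · rw [map_mul, map_mul, map_mul, map_mul, map_inv, map_inv, map_pow, hΦφ, hΦc, hΦt, tm_xm01,
      cm_pow_xm, zero_add, h2, add_comm]
  · have hkl : k = l := by
      revert k l
      decide
    subst hkl
    unfold xm
    rw [dif_neg (by simp)]
    exact map_one Φ

/-- strictly lower triangular entries vanish -/
def UT (A : Matrix (Fin 3) (Fin 3) F) : Prop := A 1 0 = 0 ∧ A 2 0 = 0 ∧ A 2 1 = 0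

theorem UT_mul {A B : Matrix (Fin 3) (Fin 3) F} (hA : UT A) (hB : UT B) : UT (A * B) := by
  obtain ⟨a1, a2, a3⟩ := hA
  obtain ⟨b1, b2, b3⟩ := hB
  refine ⟨?_, ?_, ?_⟩ <;> simp [Matrix.mul_apply, Fin.sum_univ_three, a1, a2, a3, b1, b2, b3]

theorem UT_borel (Φ : P →* Matrix.SpecialLinearGroup (Fin 3) F)
    (hΦφ : ∀ a : F, Φ (D.φ (ofAdd a)) = xm 0 1 a) (hΦh : Φ D.h = hm D.ω) (hΦt : Φ D.t = tm)
    (hΦc : Φ D.c = cm) {g : P} (hg : g ∈ D.borelSet) : UT (Φ g).val := by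
  obtain ⟨a, b, d, i, j, rfl⟩ := hg
  rw [map_mul, map_mul, map_mul, Phi_xr D Φ hΦφ hΦt hΦc, Phi_xr D Φ hΦφ hΦt hΦc,
    Phi_xr D Φ hΦφ hΦt hΦc, Phi_tor D Φ hΦh hΦc, borel_val]
  refine ⟨?_, ?_, ?_⟩ <;> simp

theorem tor_pow (i j : ℤ) (k : ℕ) : ∃ i' j' : ℤ, (D.tor i j) ^ k = D.tor i' j' := by
  induction k with
  | zero => exact ⟨0, 0, by rw [pow_zero, D.tor_zero]⟩
  | succ k ih =>
    obtain ⟨i', j', h⟩ := ih
    exact ⟨i' + i, j' + j, by rw [pow_succ, h, D.tor_mul]⟩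

end CORE3

/-! ## piece CORE3 -/
open CORE3 in
theorem core3 {F : Type*} [Field F] {P : Type*} [Group P] (D : A2Data F P) (hC : D.Comm)
    (hform : ∀ g : P, ∃ b ∈ D.borelSet, ∃ n ∈ D.normSet, ∃ b' ∈ D.borelSet, g = b * n * b')
    (hker : ∀ i j : ℤ, D.ω ^ i = 1 → D.ω ^ j = 1 → D.tor i j = 1)
    (Φ : P →* Matrix.SpecialLinearGroup (Fin 3) F)
    (hΦφ : ∀ a : F, Φ (D.φ (ofAdd a)) = xm 0 1 a)
    (hΦh : Φ D.h = hm D.ω) (hΦt : Φ D.t = tm) (hΦc : Φ D.c = cm) : Function.Bijective Φ := by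
  constructor
  · -- injective
    rw [injective_iff_map_eq_one]
    intro g hg
    obtain ⟨M, hM⟩ : ∃ M : ℤ, D.ω ^ M = -1 := Subgroup.mem_zpowers_iff.mp (D.hω (-1))
    obtain ⟨b, hb, n, hn, b', hb', rfl⟩ := hform g
    obtain ⟨i, j, m, e, rfl⟩ := hn
    -- reduce the exponents
    have hc3 : D.c ^ 3 = 1 := by
      rw [pow_succ, pow_succ, pow_one]
      exact D.c3
    have hcm : D.c ^ m = D.c ^ (m % 3) := pow_eq_pow_mod m hc3
    obtain ⟨i₂, j₂, hte⟩ : ∃ i₂ j₂ : ℤ, D.t ^ e = D.t ^ (e % 2) * D.tor i₂ j₂ := by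
      obtain ⟨i₂, j₂, h⟩ := tor_pow D (-M) 0 (e / 2)
      refine ⟨i₂, j₂, ?_⟩
      rw [← h, ← D.t_sq M hM, ← pow_two, ← pow_mul, ← pow_add, Nat.mod_add_div]
    have hm3 : m % 3 < 3 := Nat.mod_lt _ (by norm_num)
    have he2 : e % 2 < 2 := Nat.mod_lt _ (by norm_num)
    have hb1 : b * D.tor i j ∈ D.borelSet := D.borel_mul hC hb (D.tor_mem_borel i j)
    have hb2 : D.tor i₂ j₂ * b' ∈ D.borelSet := D.borel_mul hC (D.tor_mem_borel i₂ j₂) hb'
    have hg' : b * (D.tor i j * D.c ^ m * D.t ^ e) * b' =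
        (b * D.tor i j) * (D.c ^ (m % 3) * D.t ^ (e % 2)) * (D.tor i₂ j₂ * b') := by
      rw [hcm, hte]
      group
    rw [hg'] at hg ⊢
    generalize b * D.tor i j = b₁ at *
    generalize D.tor i₂ j₂ * b' = b₂ at *
    generalize m % 3 = m' at *
    generalize e % 2 = e' at *
    -- `Φ ν` is upper triangular
    have hν : Φ (D.c ^ m' * D.t ^ e') = Φ b₁⁻¹ * Φ b₂⁻¹ := by
      have h1 : D.c ^ m' * D.t ^ e' = b₁⁻¹ * (b₁ * (D.c ^ m' * D.t ^ e') * b₂) * b₂⁻¹ := by group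
      rw [h1, map_mul, map_mul, hg, mul_one]
    have hUT : UT (Φ (D.c ^ m' * D.t ^ e')).val := by
      rw [hν, Matrix.SpecialLinearGroup.coe_mul]
      exact UT_mul (UT_borel D Φ hΦφ hΦh hΦt hΦc (D.borel_inv hC hb1))
        (UT_borel D Φ hΦφ hΦh hΦt hΦc (D.borel_inv hC hb2))
    rw [map_mul, map_pow, map_pow, hΦc, hΦt] at hUT
    have hν1 : D.c ^ m' * D.t ^ e' = 1 := by
      obtain ⟨u1, u2, u3⟩ := hUT
      interval_cases m' <;> interval_cases e' <;>
        simp only [pow_zero, pow_one, one_mul, mul_one, pow_two,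
          Matrix.SpecialLinearGroup.coe_mul] at u1 u2 u3 ⊢
      · exfalso
        simp [tm] at u1
      · exfalso
        simp [cm] at u1
      · exfalso
        simp [cm, tm, Matrix.mul_apply, Fin.sum_univ_three] at u2
      · exfalso
        simp [cm, Matrix.mul_apply, Fin.sum_univ_three] at u2
      · exfalso
        simp [cm, tm, Matrix.mul_apply, Fin.sum_univ_three] at u3
    rw [hν1, mul_one] at hg ⊢
    -- now `g` lies in the Borel set
    obtain ⟨a, b, d, i, j, hbb⟩ := D.borel_mul hC hb1 hb2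
    rw [hbb] at hg ⊢
    rw [map_mul, map_mul, map_mul, Phi_xr D Φ hΦφ hΦt hΦc, Phi_xr D Φ hΦφ hΦt hΦc,
      Phi_xr D Φ hΦφ hΦt hΦc, Phi_tor D Φ hΦh hΦc] at hg
    have hval := congrArg Subtype.val hg
    rw [borel_val] at hval
    have e00 := congrFun (congrFun hval 0) 0
    have e22 := congrFun (congrFun hval 2) 2
    have e01 := congrFun (congrFun hval 0) 1
    have e12 := congrFun (congrFun hval 1) 2
    have e02 := congrFun (congrFun hval 0) 2
    simp at e00 e22 e01 e12 e02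
    have hω0 : ∀ k : ℤ, (D.ω : F) ^ k ≠ 0 := fun k => zpow_ne_zero k (Units.ne_zero D.ω)
    have ha : a = 0 := e01.resolve_right (hω0 _)
    have hb0 : b = 0 := e12.resolve_right (hω0 _)
    have hd : d = 0 := by
      rcases e02 with h | h
      · rw [ha, zero_mul, add_zero] at h
        exact h
      · exact absurd h (hω0 _)
    have e00' : D.ω ^ i = 1 := Units.ext (by rw [Units.val_zpow_eq_zpow_val, Units.val_one]; exact e00)
    have e22' : D.ω ^ j = 1 := Units.ext (by rw [Units.val_zpow_eq_zpow_val, Units.val_one]; exact e22)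
    rw [ha, hb0, hd, D.xr_zero, D.xr_zero, D.xr_zero, one_mul, one_mul, one_mul]
    exact hker i j e00' e22'
  · -- surjective
    intro A
    have : A ∈ Φ.range := by
      refine Cfsg.Agent.Helper2.SL_transvection_induction (fun A => A ∈ Φ.range) ?_ ?_ A
      · intro i j h c
        refine ⟨D.xr i j c, ?_⟩
        rw [Phi_xr D Φ hΦφ hΦt hΦc]
        unfold xm
        rw [dif_pos h]
      · intro A B hA hB
        exact mul_mem hA hB
    exact this

end Cfsg.Agent.Helper21.S2287
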