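import Cfsg.Agent.Helper21.S2287DEFS
import Cfsg.Agent.Helper18.S2286FIELD2

/-! S2287 piece HACT (driver helper21; helper20): `h φ(a) h⁻¹ = φ(ω² a)` from the relator
`h u h⁻¹ = s² u s⁻²`. -/

namespace Cfsg.Agent.Helper21.S2287

open Multiplicative Cfsg.Agent.Helper21.S2286

/-! ## piece HACT -/
theorem h_act (p : ℕ) [Fact p.Prime] {F : Type*} [Field F] [Finite F] [CharP F p] (w : F)
    (hadj : letI := ZMod.algebra F p; Algebra.adjoin (ZMod p) {w} = ⊤)
    {P : Type*} [Group P] (φ : Multiplicative F →* P) (h s u : P)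
    (hφev : ∀ (c : ℕ → ℕ) (n : ℕ), φ (ofAdd (ev w c n)) = prodA s u c n)
    (hφ1 : φ (ofAdd 1) = u)
    (hsφ : ∀ a : F, s * φ (ofAdd a) * s⁻¹ = φ (ofAdd (w * a)))
    (hhs : Commute h s) (hu : h * u * h⁻¹ = cj s u 2) (a : F) :
    h * φ (ofAdd a) * h⁻¹ = φ (ofAdd (w ^ 2 * a)) := by
  obtain ⟨c, n, rfl⟩ := ev_span p w hadj a
  have hs1 : h * s * h⁻¹ = s := by
    rw [hhs.eq, mul_assoc, mul_inv_cancel, mul_one]
  have e1 : h * prodA s u c n * h⁻¹ = prodA s (cj s u 2) c n := by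
    have := map_prodA (MulAut.conj h).toMonoidHom s u c n
    simp only [MulEquiv.coe_toMonoidHom, MulAut.conj_apply] at this
    rw [this, hu, hs1]
  have e2 : φ (ofAdd (w ^ 2 * ev w c n)) = prodA s (cj s u 2) c n := by
    have h2 : w ^ 2 * ev w c n = w * (w * ev w c n) := by ring
    rw [h2, ← hsφ, ← hsφ, hφev]
    have := map_prodA (MulAut.conj (s ^ (2 : ℤ))).toMonoidHom s u c n
    simp only [MulEquiv.coe_toMonoidHom, MulAut.conj_apply] at this
    have hs2 : s ^ (2 : ℤ) * s * (s ^ (2 : ℤ))⁻¹ = s := by group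
    rw [hs2] at this
    have hcj : s ^ (2 : ℤ) * u * (s ^ (2 : ℤ))⁻¹ = cj s u 2 := rfl
    rw [hcj] at this
    rw [← this, zpow_two]
    simp only [mul_inv_rev, mul_assoc]
  rw [hφev, e1, e2]

end Cfsg.Agent.Helper21.S2287
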