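import Mathlib
import Cfsg.Agent.Helper14.S2481.Defs

set_option autoImplicit false
set_option linter.unusedVariables false

/-! # S2481 pieces AUB2, AUB3 (driver helper14; helper20): the bounds `AU 2 r n ≤ 8.5 * 2^n` and
`AU q r n ≤ 3 q^n` (`q ≥ 3`) for the number of self dual tuples.

Induction on `r` in `ℚ`: `AU q r n ≤ c_r q^n` with `c_1 = 1 + 1/q` and `c_{r+1} = c_r * g q r`,
`g q r = (q^(r+1) + 1)/(q^(r+1) - q)` (geometric series), and the invariant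
`c_r ≤ K (1 - c / q^r)` is preserved as soon as `q + 1 ≤ c (q - 1)`. -/

namespace Cfsg.Agent.S2481P

namespace AUB

theorem AU_zero (q n : ℕ) : AU q 0 n = if n = 0 then 1 else 0 := by
  rw [AU]

theorem AU_succ (q r n : ℕ) : AU q (r + 1) n =
    ∑ a ∈ Finset.range (n / (r + 1) + 1), NU q a * AU q r (n - (r + 1) * a) := by
  rw [AU]

theorem NU_zero (q : ℕ) : NU q 0 = 1 := by simp [NU]

theorem NU_succ (q a : ℕ) : NU q (a + 1) = q ^ (a + 1) + q ^ a := by simp [NU]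

theorem AU_zero_le (q n : ℕ) : AU q 0 n ≤ 1 := by
  rw [AU_zero]
  split_ifs <;> omega

theorem AU_one (q n : ℕ) : AU q 1 n = NU q n := by
  have h := AU_succ q 0 n
  rw [zero_add] at h
  rw [h, Finset.sum_eq_single n]
  · rw [one_mul, Nat.sub_self, AU_zero, if_pos rfl, mul_one]
  · intro a ha hne
    rw [Finset.mem_range, Nat.div_one] at ha
    have : n - 1 * a ≠ 0 := by omega
    rw [AU_zero, if_neg this, mul_zero]
  · intro h
    exfalso
    apply h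
    rw [Finset.mem_range, Nat.div_one]
    omega

/-- the multiplier of the step `r → r + 1` -/
noncomputable def g (q r : ℕ) : ℚ := ((q : ℚ) ^ (r + 1) + 1) / ((q : ℚ) ^ (r + 1) - q)

theorem den_pos (q r : ℕ) (hq : 2 ≤ q) (hr : 1 ≤ r) : (0 : ℚ) < (q : ℚ) ^ (r + 1) - q := by
  have hq1 : (2 : ℚ) ≤ q := by exact_mod_cast hq
  have h1 : (q : ℚ) ^ 1 ≤ (q : ℚ) ^ r := pow_le_pow_right₀ (by linarith) hr
  have h2 : (q : ℚ) ^ (r + 1) = (q : ℚ) ^ r * q := pow_succ _ _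
  rw [h2]
  rw [pow_one] at h1
  nlinarith

theorem g_nonneg (q r : ℕ) (hq : 2 ≤ q) (hr : 1 ≤ r) : 0 ≤ g q r := by
  unfold g
  apply div_nonneg
  · positivity
  · exact (den_pos q r hq hr).le

/-- one term of the recursion -/
theorem term_le (q r n a : ℕ) (hq : 2 ≤ q) (C : ℚ) (hC : 0 ≤ C)
    (h : ∀ m, (AU q r m : ℚ) ≤ C * (q : ℚ) ^ m) (ha : (r + 1) * (a + 1) ≤ n) :
    ((NU q (a + 1) * AU q r (n - (r + 1) * (a + 1)) : ℕ) : ℚ) ≤
      C * (q : ℚ) ^ n * ((1 + 1 / (q : ℚ)) * (1 / (q : ℚ) ^ r) ^ (a + 1)) := by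
  obtain ⟨e, rfl⟩ : ∃ e, n = e + (r + 1) * (a + 1) := ⟨n - (r + 1) * (a + 1), by omega⟩
  rw [Nat.add_sub_cancel, NU_succ]
  push_cast
  have hq0 : (q : ℚ) ≠ 0 := by
    have : (2 : ℚ) ≤ q := by exact_mod_cast hq
    linarith
  calc ((q : ℚ) ^ (a + 1) + (q : ℚ) ^ a) * (AU q r e : ℚ)
      ≤ ((q : ℚ) ^ (a + 1) + (q : ℚ) ^ a) * (C * (q : ℚ) ^ e) :=
        mul_le_mul_of_nonneg_left (h e) (by positivity)
    _ = C * (q : ℚ) ^ (e + (r + 1) * (a + 1)) * ((1 + 1 / (q : ℚ)) * (1 / (q : ℚ) ^ r) ^ (a + 1)) := by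
        rw [one_div_pow, ← pow_mul]
        field_simp
        ring

/-- the geometric series -/
theorem geom_le (x : ℚ) (hx0 : 0 ≤ x) (hx1 : x < 1) (M : ℕ) :
    ∑ a ∈ Finset.range M, x ^ a ≤ 1 / (1 - x) := by
  have h := geom_sum_mul_neg x M
  have hpos : 0 < 1 - x := by linarith
  rw [le_div_iff₀ hpos, h]
  have : 0 ≤ x ^ M := pow_nonneg hx0 M
  linarith

/-- the step of the induction -/
theorem step (q r : ℕ) (hq : 2 ≤ q) (hr : 1 ≤ r) (C : ℚ) (hC : 0 ≤ C)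
    (h : ∀ m, (AU q r m : ℚ) ≤ C * (q : ℚ) ^ m) (n : ℕ) :
    (AU q (r + 1) n : ℚ) ≤ C * g q r * (q : ℚ) ^ n := by
  have hq1 : (2 : ℚ) ≤ q := by exact_mod_cast hq
  have hq0 : (q : ℚ) ≠ 0 := by linarith
  have hqr : (2 : ℚ) ≤ (q : ℚ) ^ r := by
    have h1 : (q : ℚ) ^ 1 ≤ (q : ℚ) ^ r := pow_le_pow_right₀ (by linarith) hr
    rw [pow_one] at h1
    linarith
  set x : ℚ := 1 / (q : ℚ) ^ r with hx
  have hx0 : 0 ≤ x := by rw [hx]; positivity
  have hx1 : x < 1 := by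
    rw [hx, div_lt_one (by linarith)]
    linarith
  set M := n / (r + 1) with hM
  rw [AU_succ, Finset.sum_range_succ']
  push_cast
  -- the term `a = 0`
  have h0 : ((NU q 0 : ℕ) : ℚ) * (AU q r (n - (r + 1) * 0) : ℚ) ≤ C * (q : ℚ) ^ n := by
    rw [NU_zero, Nat.mul_zero, Nat.sub_zero, Nat.cast_one, one_mul]
    exact h n
  -- the other terms
  have h1 : ∑ a ∈ Finset.range M, ((NU q (a + 1) : ℕ) : ℚ) * (AU q r (n - (r + 1) * (a + 1)) : ℚ) ≤
      ∑ a ∈ Finset.range M, C * (q : ℚ) ^ n * ((1 + 1 / (q : ℚ)) * x ^ (a + 1)) := by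
    apply Finset.sum_le_sum
    intro a ha
    rw [Finset.mem_range] at ha
    have ha' : (r + 1) * (a + 1) ≤ n := by
      have : a + 1 ≤ n / (r + 1) := ha
      have := (Nat.le_div_iff_mul_le (Nat.succ_pos r)).mp this
      rw [mul_comm]
      exact this
    have := term_le q r n a hq C hC h ha'
    push_cast at this
    exact this
  have h2 : ∑ a ∈ Finset.range M, C * (q : ℚ) ^ n * ((1 + 1 / (q : ℚ)) * x ^ (a + 1)) =
      C * (q : ℚ) ^ n * (1 + 1 / (q : ℚ)) * x * ∑ a ∈ Finset.range M, x ^ a := by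
    rw [Finset.mul_sum]
    apply Finset.sum_congr rfl
    intro a _
    rw [pow_succ]
    ring
  have h3 := geom_le x hx0 hx1 M
  have hcoef : 0 ≤ C * (q : ℚ) ^ n * (1 + 1 / (q : ℚ)) * x := by positivity
  have h4 : C * (q : ℚ) ^ n * (1 + 1 / (q : ℚ)) * x * ∑ a ∈ Finset.range M, x ^ a ≤
      C * (q : ℚ) ^ n * (1 + 1 / (q : ℚ)) * x * (1 / (1 - x)) :=
    mul_le_mul_of_nonneg_left h3 hcoef
  have hg : C * (q : ℚ) ^ n * (1 + 1 / (q : ℚ)) * x * (1 / (1 - x)) + C * (q : ℚ) ^ n =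
      C * g q r * (q : ℚ) ^ n := by
    unfold g
    have hd1 : (q : ℚ) ^ r - 1 ≠ 0 := by linarith
    have hd2 : (q : ℚ) ^ (r + 1) - q ≠ 0 := (den_pos q r hq hr).ne'
    have hd3 : 1 - x ≠ 0 := by linarith
    have hd4 : (q : ℚ) ^ r ≠ 0 := by positivity
    rw [hx] at hd3 ⊢
    have e1 : (1 : ℚ) - 1 / (q : ℚ) ^ r = ((q : ℚ) ^ r - 1) / (q : ℚ) ^ r := by
      field_simp
    have e2 : (q : ℚ) ^ (r + 1) - q = q * ((q : ℚ) ^ r - 1) := by
      rw [pow_succ]; ring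
    rw [e1, e2]
    field_simp
    ring
  linarith

/-- the invariant is preserved -/
theorem inv_step (q r : ℕ) (hq : 2 ≤ q) (hr : 1 ≤ r) (c K C : ℚ) (hK : 0 ≤ K)
    (hc : (q : ℚ) + 1 ≤ c * ((q : ℚ) - 1)) (hC : C ≤ K * (1 - c / (q : ℚ) ^ r)) :
    C * g q r ≤ K * (1 - c / (q : ℚ) ^ (r + 1)) := by
  have hq1 : (2 : ℚ) ≤ q := by exact_mod_cast hq
  have hX : (2 : ℚ) ≤ (q : ℚ) ^ r := by
    have h1 : (q : ℚ) ^ 1 ≤ (q : ℚ) ^ r := pow_le_pow_right₀ (by linarith) hr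
    rw [pow_one] at h1
    linarith
  have hc0 : 0 ≤ c := by
    by_contra hneg
    push Not at hneg
    nlinarith
  have h1 : C * g q r ≤ K * (1 - c / (q : ℚ) ^ r) * g q r :=
    mul_le_mul_of_nonneg_right hC (g_nonneg q r hq hr)
  refine h1.trans ?_
  rw [mul_assoc]
  apply mul_le_mul_of_nonneg_left _ hK
  unfold g
  set X : ℚ := (q : ℚ) ^ r with hXdef
  have e2 : (q : ℚ) ^ (r + 1) = X * q := pow_succ _ _
  rw [e2]
  have hXpos : 0 < X := by linarith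
  have hqpos : (0 : ℚ) < q := by linarith
  have hden : 0 < X * q - q := by nlinarith
  have key : (X - c) * (X * q + 1) ≤ (X * q - c) * (X - 1) := by nlinarith
  have e3 : (1 - c / X) * ((X * q + 1) / (X * q - q)) = ((X - c) * (X * q + 1)) / (X * q * (X - 1)) := by
    have : X * q - q = q * (X - 1) := by ring
    rw [this]
    have hX1 : X - 1 ≠ 0 := by linarith
    field_simp
  have e4 : 1 - c / (X * q) = ((X * q - c) * (X - 1)) / (X * q * (X - 1)) := by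
    have hX1 : X - 1 ≠ 0 := by linarith
    field_simp
  rw [e3, e4]
  apply div_le_div_of_nonneg_right key
  have : 0 < X - 1 := by linarith
  positivity

/-- the first step: `AU q 1 n ≤ (1 + 1/q) q^n` -/
theorem base_one (q : ℕ) (hq : 2 ≤ q) (n : ℕ) :
    (AU q 1 n : ℚ) ≤ (1 + 1 / (q : ℚ)) * (q : ℚ) ^ n := by
  have hq1 : (2 : ℚ) ≤ q := by exact_mod_cast hq
  have hq0 : (q : ℚ) ≠ 0 := by linarith
  rw [AU_one]
  rcases n with _ | n
  · rw [NU_zero, pow_zero, mul_one, Nat.cast_one]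
    have : (0 : ℚ) ≤ 1 / (q : ℚ) := by positivity
    linarith
  · rw [NU_succ]
    push_cast
    rw [pow_succ]
    field_simp
    rfl

/-- `q = 2`: the invariant from `r = 4` on -/
theorem two_inv (r : ℕ) (hr : 4 ≤ r) :
    ∃ C : ℚ, 0 ≤ C ∧ C ≤ (765 / 91 : ℚ) * (1 - 3 / ((2 : ℕ) : ℚ) ^ r) ∧
      ∀ n, (AU 2 r n : ℚ) ≤ C * ((2 : ℕ) : ℚ) ^ n := by
  induction r, hr using Nat.le_induction with
  | base =>
    have h1 := base_one 2 le_rfl
    have h2 := step 2 1 le_rfl le_rfl _ (by norm_num) h1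
    have h3 := step 2 2 le_rfl (by norm_num) _ (by norm_num [g]) h2
    have h4 := step 2 3 le_rfl (by norm_num) _ (by norm_num [g]) h3
    refine ⟨_, ?_, ?_, h4⟩
    · norm_num [g]
    · norm_num [g]
  | succ r hr ih =>
    obtain ⟨C, hC0, hC, h⟩ := ih
    refine ⟨C * g 2 r, mul_nonneg hC0 (g_nonneg 2 r le_rfl (by omega)), ?_,
      step 2 r le_rfl (by omega) C hC0 h⟩
    exact inv_step 2 r le_rfl (by omega) 3 _ C (by norm_num) (by norm_num) hC

theorem two_all (r n : ℕ) : (AU 2 r n : ℚ) ≤ (17 / 2 : ℚ) * ((2 : ℕ) : ℚ) ^ n := by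
  have hpow : (1 : ℚ) ≤ ((2 : ℕ) : ℚ) ^ n := one_le_pow₀ (by norm_num)
  have hpos : (0 : ℚ) < ((2 : ℕ) : ℚ) ^ n := by positivity
  rcases Nat.lt_or_ge r 4 with hr | hr
  · have h1 := base_one 2 le_rfl
    have h2 := step 2 1 le_rfl le_rfl _ (by norm_num) h1
    have h3 := step 2 2 le_rfl (by norm_num) _ (by norm_num [g]) h2
    interval_cases r
    · have : (AU 2 0 n : ℚ) ≤ 1 := by exact_mod_cast AU_zero_le 2 n
      generalize ((2 : ℕ) : ℚ) ^ n = P at *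
      linarith
    · refine (h1 n).trans ?_
      apply mul_le_mul_of_nonneg_right _ hpos.le
      norm_num
    · refine (h2 n).trans ?_
      apply mul_le_mul_of_nonneg_right _ hpos.le
      norm_num [g]
    · refine (h3 n).trans ?_
      apply mul_le_mul_of_nonneg_right _ hpos.le
      norm_num [g]
  · obtain ⟨C, hC0, hC, h⟩ := two_inv r hr
    refine (h n).trans ?_
    apply mul_le_mul_of_nonneg_right _ hpos.le
    have hx : (0 : ℚ) ≤ 3 / ((2 : ℕ) : ℚ) ^ r := by positivity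
    generalize (3 : ℚ) / ((2 : ℕ) : ℚ) ^ r = y at *
    linarith

/-- `q ≥ 3`: the constant -/
noncomputable def K3 (q : ℕ) : ℚ :=
  (((q : ℚ) + 1) * ((q : ℚ) ^ 2 + 1)) / (((q : ℚ) - 1) * ((q : ℚ) ^ 2 - 2))

theorem K3_nonneg (q : ℕ) (hq : 3 ≤ q) : 0 ≤ K3 q := by
  have hq1 : (3 : ℚ) ≤ q := by exact_mod_cast hq
  unfold K3
  apply div_nonneg
  · positivity
  · apply mul_nonneg
    · linarith
    · nlinarith

theorem K3_le (q : ℕ) (hq : 3 ≤ q) : K3 q ≤ 3 := by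
  have hq1 : (3 : ℚ) ≤ q := by exact_mod_cast hq
  unfold K3
  have hden : 0 < ((q : ℚ) - 1) * ((q : ℚ) ^ 2 - 2) := by
    apply mul_pos
    · linarith
    · nlinarith
  rw [div_le_iff₀ hden]
  nlinarith [mul_nonneg (sub_nonneg.mpr hq1) (by nlinarith : (0 : ℚ) ≤ 2 * (q : ℚ) ^ 2 + 2 * q - 1)]

theorem ge3_inv (q : ℕ) (hq : 3 ≤ q) (r : ℕ) (hr : 2 ≤ r) :
    ∃ C : ℚ, 0 ≤ C ∧ C ≤ K3 q * (1 - 2 / (q : ℚ) ^ r) ∧
      ∀ n, (AU q r n : ℚ) ≤ C * (q : ℚ) ^ n := by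
  have hq1 : (3 : ℚ) ≤ q := by exact_mod_cast hq
  induction r, hr using Nat.le_induction with
  | base =>
    have h1 := base_one q (by omega)
    have hc1 : (0 : ℚ) ≤ 1 + 1 / (q : ℚ) := by positivity
    have h2 := step q 1 (by omega) le_rfl _ hc1 h1
    refine ⟨_, mul_nonneg hc1 (g_nonneg q 1 (by omega) le_rfl), ?_, h2⟩
    apply le_of_eq
    unfold K3 g
    have hd1 : (q : ℚ) - 1 ≠ 0 := by linarith
    have hd2 : (q : ℚ) ^ 2 - 2 ≠ 0 := by nlinarith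
    have hd3 : (q : ℚ) ≠ 0 := by linarith
    have hd4 : (q : ℚ) ^ (1 + 1) - q ≠ 0 := by
      have : (q : ℚ) ^ (1 + 1) - q = q * (q - 1) := by ring
      rw [this]
      exact mul_ne_zero hd3 hd1
    have e : (q : ℚ) ^ (1 + 1) - q = q * (q - 1) := by ring
    rw [e]
    field_simp
  | succ r hr ih =>
    obtain ⟨C, hC0, hC, h⟩ := ih
    refine ⟨C * g q r, mul_nonneg hC0 (g_nonneg q r (by omega) (by omega)), ?_,
      step q r (by omega) (by omega) C hC0 h⟩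
    exact inv_step q r (by omega) (by omega) 2 _ C (K3_nonneg q hq) (by linarith) hC

theorem ge3_all (q : ℕ) (hq : 3 ≤ q) (r n : ℕ) : (AU q r n : ℚ) ≤ 3 * (q : ℚ) ^ n := by
  have hq1 : (3 : ℚ) ≤ q := by exact_mod_cast hq
  have hpow : (1 : ℚ) ≤ (q : ℚ) ^ n := one_le_pow₀ (by linarith)
  have hpos : (0 : ℚ) < (q : ℚ) ^ n := by positivity
  rcases Nat.lt_or_ge r 2 with hr | hr
  · interval_cases r
    · have : (AU q 0 n : ℚ) ≤ 1 := by exact_mod_cast AU_zero_le q n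
      nlinarith
    · refine (base_one q (by omega) n).trans ?_
      apply mul_le_mul_of_nonneg_right _ hpos.le
      have : (1 : ℚ) / q ≤ 1 := by
        rw [div_le_one (by linarith)]
        linarith
      linarith
  · obtain ⟨C, hC0, hC, h⟩ := ge3_inv q hq r hr
    refine (h n).trans ?_
    apply mul_le_mul_of_nonneg_right _ hpos.le
    have hx : (0 : ℚ) ≤ 2 / (q : ℚ) ^ r := by positivity
    have hK := K3_le q hq
    have hK0 := K3_nonneg q hq
    nlinarith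

end AUB

-- piece AUB2 (induction on `r` with a rational invariant, see the notes)
theorem AU_bound_two (r n : ℕ) : 100 * AU 2 r n ≤ 850 * 2 ^ n := by
  have h := AUB.two_all r n
  have h2 : ((100 * AU 2 r n : ℕ) : ℚ) ≤ ((850 * 2 ^ n : ℕ) : ℚ) := by
    push_cast
    push_cast at h
    linarith
  exact_mod_cast h2

-- piece AUB3
theorem AU_bound_ge3 (q : ℕ) (hq : 3 ≤ q) (r n : ℕ) : AU q r n ≤ 3 * q ^ n := by
  have h := AUB.ge3_all q hq r n
  exact_mod_cast h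

end Cfsg.Agent.S2481P
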