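import Mathlib
import Cfsg.Agent.Helper14.S2481.Defs

set_option autoImplicit false
set_option linter.unusedVariables false

/-! # S2481 piece DIVSUMU (driver helper14; helper20): the pure arithmetic inequality
`∑_{d ∣ gcd(n, q+1), d ≥ 2} (d^2-1) q^(n/d) ≤ 4 q^(n-1)` for `q ≥ 2`, `n ≥ 2`. -/

namespace Cfsg.Agent.S2481P

namespace DIVSUMU

/-- the sum over a finset contained in `t` -/
theorem sum_le_of_subset (s t : Finset ℕ) (f : ℕ → ℕ) (hs : ∀ d ∈ s, d ∈ t) :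
    ∑ d ∈ s, f d ≤ ∑ d ∈ t, f d :=
  Finset.sum_le_sum_of_subset hs

/-- the case `q = 2`: only `d = 3` -/
theorem case_two (n : ℕ) (hn : 2 ≤ n) (s : Finset ℕ) (hs : ∀ d ∈ s, 2 ≤ d ∧ d ∣ n ∧ d ∣ 2 + 1) :
    ∑ d ∈ s, (d ^ 2 - 1) * 2 ^ (n / d) ≤ 4 * 2 ^ (n - 1) := by
  have h1 : ∑ d ∈ s, (d ^ 2 - 1) * 2 ^ (n / d) ≤ ∑ d ∈ ({3} : Finset ℕ), (d ^ 2 - 1) * 2 ^ (n / d) := by
    apply sum_le_of_subset
    intro d hd
    obtain ⟨h2, -, h3⟩ := hs d hd
    rw [Finset.mem_singleton]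
    have hle : d ≤ 3 := Nat.le_of_dvd (by norm_num) h3
    interval_cases d
    · norm_num at h3
    · rfl
  rw [Finset.sum_singleton] at h1
  refine h1.trans ?_
  have e1 : ((3 : ℕ) ^ 2 - 1) * 2 ^ (n / 3) = 2 ^ (n / 3 + 3) := by
    rw [pow_add]
    norm_num
    ring
  have e2 : 4 * 2 ^ (n - 1) = 2 ^ (n - 1 + 2) := by
    rw [pow_add]
    ring
  rw [e1, e2]
  exact Nat.pow_le_pow_right (by norm_num) (by omega)

/-- small `n`, `q ≥ 3` -/
theorem case_small (q n : ℕ) (hq : 3 ≤ q) (hn : 2 ≤ n) (hn7 : n ≤ 7) (s : Finset ℕ)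
    (hs : ∀ d ∈ s, 2 ≤ d ∧ d ∣ n ∧ d ∣ q + 1) :
    ∑ d ∈ s, (d ^ 2 - 1) * q ^ (n / d) ≤ 4 * q ^ (n - 1) := by
  have h1 : ∑ d ∈ s, (d ^ 2 - 1) * q ^ (n / d) ≤
      ∑ d ∈ (Nat.divisors n).filter (fun d => 2 ≤ d), (d ^ 2 - 1) * q ^ (n / d) := by
    apply sum_le_of_subset
    intro d hd
    obtain ⟨h2, h3, -⟩ := hs d hd
    rw [Finset.mem_filter, Nat.mem_divisors]
    exact ⟨⟨h3, by omega⟩, h2⟩
  refine h1.trans ?_
  have p1 : 3 * q ≤ q ^ 2 := by nlinarith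
  have p2 : 3 * q ^ 2 ≤ q ^ 3 := by nlinarith
  have p3 : 3 * q ^ 3 ≤ q ^ 4 := by nlinarith
  have p4 : 3 * q ^ 4 ≤ q ^ 5 := by nlinarith
  have p5 : 3 * q ^ 5 ≤ q ^ 6 := by nlinarith
  interval_cases n
  · have e : (Nat.divisors 2).filter (fun d => 2 ≤ d) = {2} := by decide
    rw [e]
    simp
    omega
  · have e : (Nat.divisors 3).filter (fun d => 2 ≤ d) = {3} := by decide
    rw [e]
    simp
    omega
  · have e : (Nat.divisors 4).filter (fun d => 2 ≤ d) = {2, 4} := by decide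
    rw [e]
    simp
    omega
  · have e : (Nat.divisors 5).filter (fun d => 2 ≤ d) = {5} := by decide
    rw [e]
    simp
    omega
  · have e : (Nat.divisors 6).filter (fun d => 2 ≤ d) = {2, 3, 6} := by decide
    rw [e]
    simp
    omega
  · have e : (Nat.divisors 7).filter (fun d => 2 ≤ d) = {7} := by decide
    rw [e]
    simp
    omega

/-- the general case `n ≥ 8`, `q ≥ 3` -/
theorem case_big (q n : ℕ) (hq : 3 ≤ q) (hn : 8 ≤ n) (s : Finset ℕ)
    (hs : ∀ d ∈ s, 2 ≤ d ∧ d ∣ n ∧ d ∣ q + 1) :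
    ∑ d ∈ s, (d ^ 2 - 1) * q ^ (n / d) ≤ 4 * q ^ (n - 1) := by
  classical
  set f : ℕ → ℕ := fun d => (d ^ 2 - 1) * q ^ (n / d) with hf
  have hq1 : 1 ≤ q := by omega
  have hsplit : ∑ d ∈ s, f d = ∑ d ∈ s.filter (fun d => d = 2), f d +
      ∑ d ∈ s.filter (fun d => ¬ d = 2), f d :=
    (Finset.sum_filter_add_sum_filter_not s (fun d => d = 2) f).symm
  have h2 : ∑ d ∈ s.filter (fun d => d = 2), f d ≤ 3 * q ^ (n - 2) := by
    have h : ∑ d ∈ s.filter (fun d => d = 2), f d ≤ ∑ d ∈ ({2} : Finset ℕ), f d := by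
      apply sum_le_of_subset
      intro d hd
      rw [Finset.mem_singleton]
      exact (Finset.mem_filter.1 hd).2
    rw [Finset.sum_singleton] at h
    refine h.trans ?_
    rw [hf]
    have : ((2 : ℕ) ^ 2 - 1) = 3 := by norm_num
    simp only [this]
    exact Nat.mul_le_mul_left 3 (Nat.pow_le_pow_right hq1 (by omega))
  have h3 : ∑ d ∈ s.filter (fun d => ¬ d = 2), f d ≤ q ^ (n - 2) := by
    have hterm : ∀ d ∈ s.filter (fun d => ¬ d = 2), f d ≤ (q + 1) ^ 2 * q ^ (n / 3) := by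
      intro d hd
      rw [Finset.mem_filter] at hd
      obtain ⟨h2', -, h4⟩ := hs d hd.1
      have hd3 : 3 ≤ d := by omega
      have hdq : d ≤ q + 1 := Nat.le_of_dvd (by omega) h4
      rw [hf]
      apply Nat.mul_le_mul
      · calc d ^ 2 - 1 ≤ d ^ 2 := Nat.sub_le _ _
          _ ≤ (q + 1) ^ 2 := Nat.pow_le_pow_left hdq 2
      · apply Nat.pow_le_pow_right hq1
        exact Nat.div_le_div_left hd3 (by norm_num)
    have hcard : (s.filter (fun d => ¬ d = 2)).card ≤ q := by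
      have hsub : s.filter (fun d => ¬ d = 2) ⊆ Finset.Icc 2 (q + 1) := by
        intro d hd
        rw [Finset.mem_filter] at hd
        obtain ⟨h2', -, h4⟩ := hs d hd.1
        have hdq : d ≤ q + 1 := Nat.le_of_dvd (by omega) h4
        rw [Finset.mem_Icc]
        exact ⟨h2', hdq⟩
      calc (s.filter (fun d => ¬ d = 2)).card ≤ (Finset.Icc 2 (q + 1)).card := Finset.card_le_card hsub
        _ = q := by rw [Nat.card_Icc]; omega
    calc ∑ d ∈ s.filter (fun d => ¬ d = 2), f d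
        ≤ (s.filter (fun d => ¬ d = 2)).card • ((q + 1) ^ 2 * q ^ (n / 3)) :=
          Finset.sum_le_card_nsmul _ _ _ hterm
      _ ≤ q • ((q + 1) ^ 2 * q ^ (n / 3)) := by
          rw [smul_eq_mul, smul_eq_mul]
          exact Nat.mul_le_mul_right _ hcard
      _ ≤ q ^ 4 * q ^ (n / 3) := by
          rw [smul_eq_mul, ← mul_assoc]
          apply Nat.mul_le_mul_right
          nlinarith [Nat.pow_le_pow_left hq 2, Nat.pow_le_pow_left hq 3]
      _ = q ^ (n / 3 + 4) := by ring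
      _ ≤ q ^ (n - 2) := Nat.pow_le_pow_right hq1 (by omega)
  rw [hsplit]
  have e : q ^ (n - 1) = q * q ^ (n - 2) := by
    have : n - 1 = (n - 2) + 1 := by omega
    rw [this, pow_succ]
    ring
  rw [e]
  have hX : 0 < q ^ (n - 2) := Nat.pos_of_ne_zero (by positivity)
  generalize q ^ (n - 2) = X at *
  nlinarith

end DIVSUMU

open Classical in
-- piece DIVSUMU
theorem sum_div_bound_U (q n : ℕ) (hq : 2 ≤ q) (hn : 2 ≤ n) :
    ∑ d ∈ (Nat.gcd n (q + 1)).divisors.filter (fun d => 2 ≤ d), (d ^ 2 - 1) * q ^ (n / d) ≤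
      4 * q ^ (n - 1) := by
  have hs : ∀ d ∈ (Nat.gcd n (q + 1)).divisors.filter (fun d => 2 ≤ d),
      2 ≤ d ∧ d ∣ n ∧ d ∣ q + 1 := by
    intro d hd
    rw [Finset.mem_filter, Nat.mem_divisors] at hd
    obtain ⟨⟨hdg, _⟩, h2⟩ := hd
    exact ⟨h2, hdg.trans (Nat.gcd_dvd_left _ _), hdg.trans (Nat.gcd_dvd_right _ _)⟩
  rcases Nat.lt_or_ge q 3 with hq3 | hq3
  · have : q = 2 := by omega
    subst this
    exact DIVSUMU.case_two n hn _ hs
  · rcases Nat.lt_or_ge n 8 with hn8 | hn8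
    · exact DIVSUMU.case_small q n hq3 hn (by omega) _ hs
    · exact DIVSUMU.case_big q n hq3 hn8 _ hs

end Cfsg.Agent.S2481P
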