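import Mathlib
import Cfsg.Prelude.Def_Classical
import Cfsg.Agent.Helper13.S2511Defs
import Cfsg.Agent.Helper13.S2496ASM

/-! S2511 piece TOREVEN (helper20): an element of order `suNum q n` of `PSU_n(q)`, `n` even. -/

set_option autoImplicit false

namespace Cfsg.Agent.S2511P

open Polynomial Matrix
open Cfsg.Agent.S2263P Cfsg.Agent.S2496P

section layerT

variable {F : Type*} [Field F] [Fintype F] {p : ℕ} [Fact p.Prime] [CharP F p] {f q : ℕ}

/-- TOREVEN (S-M) -/
theorem exists_torus_even (hq : q = p ^ f) (hF : Fintype.card F = q ^ 2) {n : ℕ} (hn : 2 ≤ n)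
    (heven : Even n) : ∃ g : Cfsg.PSU n F q, orderOf g = suNum q n := by
  obtain ⟨h, hh⟩ := id heven
  have hn2 : n = 2 * h := by omega
  have hh1 : 1 ≤ h := by omega
  have hq2 : 2 ≤ q := by
    have h2 : 2 ≤ Fintype.card F := Fintype.one_lt_card
    rw [hF] at h2
    have hq0 : q ≠ 0 := by
      rintro rfl
      omega
    have hq1 : q ≠ 1 := by
      rintro rfl
      omega
    omega
  have : NeZero h := ⟨by omega⟩
  let K := FiniteField.Extension F p h
  have hK : Module.finrank F K = h := FiniteField.finrank_extension F p h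
  have : CharP K p := charP_of_injective_algebraMap (algebraMap F K).injective p
  have hw : suNum q n =
      ((q ^ (2 * h) - 1) / (q + 1)) / Nat.gcd ((q ^ (2 * h) - 1) / (q + 1)) (q + 1) := by
    unfold suNum wq
    rw [if_pos heven, hn2]
  rw [hw]
  exact Cfsg.Agent.S2496P.ASM.exists_orderOf_of_dvd (K := K) hq hF hK hn2 hh1 hq2 _ dvd_rfl

end layerT

end Cfsg.Agent.S2511P
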