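import Mathlib
import Cfsg.Prelude.Def_Classical
import Cfsg.Agent.Helper28.S2512Defs

/-! S2512 piece CAYLEYSP (driver helper28; helper20): the Cayley transform of a skew-adjoint
nilpotent map of a symplectic space is an isometry (port of Helper11/S2511CAYLEY). -/

set_option autoImplicit false

universe u

namespace Cfsg.Agent.S2512P

open Polynomial Matrix
open Cfsg.Agent.S2264P

namespace CAYLEYSP

variable {F : Type*} [Field F] {V : Type*} [AddCommGroup V] [Module F V] {B : V → V → F}

theorem add_right (hB : IsSymp B) (x y y' : V) : B x (y + y') = B x y + B x y' := by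
  rw [hB.skew (y + y') x, hB.add_left, hB.skew y x, hB.skew y' x]
  ring

theorem neg_left (hB : IsSymp B) (x y : V) : B (-x) y = - B x y := by
  have h := hB.smul_left (-1) x y
  rw [neg_one_smul, neg_one_mul] at h
  exact h

theorem neg_right (hB : IsSymp B) (x y : V) : B x (-y) = - B x y := by
  rw [hB.skew (-y) x, neg_left hB, hB.skew y x]

theorem sub_left (hB : IsSymp B) (x x' y : V) : B (x - x') y = B x y - B x' y := by
  rw [sub_eq_add_neg, hB.add_left, neg_left hB, ← sub_eq_add_neg]

theorem sub_right (hB : IsSymp B) (x y y' : V) : B x (y - y') = B x y - B x y' := by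
  rw [sub_eq_add_neg, add_right hB, neg_right hB, ← sub_eq_add_neg]

end CAYLEYSP

open CAYLEYSP in
/-- CAYLEYSP (M) -/
theorem exists_cayley_sp {F : Type*} [Field F] {V : Type*} [AddCommGroup V] [Module F V]
    {B : V → V → F} (hB : IsSymp B) (N : Module.End F V) (hN : ∀ x y, B (N x) y = - B x (N y))
    (hnil : IsNilpotent N) :
    ∃ u w : Module.End F V, (∀ x y, B (u x) (u y) = B x y) ∧ Commute w N ∧ IsUnit w ∧
      u = 1 + (2 : F) • (N * w) := by
  set a : Module.End F V := 1 + N with ha
  set b : Module.End F V := 1 - N with hb
  have hbU : IsUnit b := hnil.isUnit_one_sub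
  set w : Module.End F V := ((hbU.unit⁻¹ : (Module.End F V)ˣ) : Module.End F V) with hw
  have hbw : b * w = 1 := by
    have h0 : ((hbU.unit : (Module.End F V)ˣ) : Module.End F V) *
        ((hbU.unit⁻¹ : (Module.End F V)ˣ) : Module.End F V) = 1 := hbU.unit.mul_inv
    rw [IsUnit.unit_spec] at h0
    exact h0
  have hwb : w * b = 1 := by
    have h0 : ((hbU.unit⁻¹ : (Module.End F V)ˣ) : Module.End F V) *
        ((hbU.unit : (Module.End F V)ˣ) : Module.End F V) = 1 := hbU.unit.inv_mul
    rw [IsUnit.unit_spec] at h0
    exact h0
  -- adjointness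
  have h1 : ∀ x y, B (a x) y = B x (b y) := by
    intro x y
    rw [ha, hb, LinearMap.add_apply, LinearMap.sub_apply, Module.End.one_apply, Module.End.one_apply,
      hB.add_left, hN, sub_right hB]
    ring
  have h2 : ∀ x y, B (b x) y = B x (a y) := by
    intro x y
    rw [ha, hb, LinearMap.add_apply, LinearMap.sub_apply, Module.End.one_apply, Module.End.one_apply,
      sub_left hB, hN, add_right hB]
    ring
  -- commutation
  have hNb : Commute N b := by
    rw [hb]
    exact (Commute.one_right N).sub_right (Commute.refl N)
  have hNa : Commute N a := by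
    rw [ha]
    exact (Commute.one_right N).add_right (Commute.refl N)
  have hab : Commute a b := by
    rw [ha]
    exact (Commute.one_left b).add_left hNb
  have hwN : Commute w N := by
    have e1 : w * N = w * N * (b * w) := by rw [hbw, mul_one]
    have e2 : w * N * (b * w) = w * (N * b) * w := by noncomm_ring
    have e3 : w * (b * N) * w = (w * b) * N * w := by noncomm_ring
    show w * N = N * w
    rw [e1, e2, hNb.eq, e3, hwb, one_mul]
  refine ⟨a * w, w, ?_, hwN, ⟨hbU.unit⁻¹, rfl⟩, ?_⟩
  · intro x y
    rw [Module.End.mul_apply, Module.End.mul_apply, h1]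
    have e1 : b (a (w y)) = a y := by
      have : (b * (a * w)) y = a y := by
        have e : b * (a * w) = a * (b * w) := by
          rw [← mul_assoc, ← hab.eq, mul_assoc]
        rw [e, hbw, mul_one]
      exact this
    rw [e1, ← h2]
    have e2 : b (w x) = x := by
      have : (b * w) x = x := by rw [hbw, Module.End.one_apply]
      exact this
    rw [e2]
  · have e : a = b + (2 : F) • N := by
      rw [ha, hb, two_smul]
      abel
    rw [e, add_mul, hbw, smul_mul_assoc]

end Cfsg.Agent.S2512P
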