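import Mathlib
import Cfsg.Prelude.Def_Classical
import Cfsg.Agent.Helper28.S2512Defs
import Cfsg.Agent.Helper20.S2511NSKEW
import Cfsg.Agent.Helper20.S2512CAYLEYSP
import Cfsg.Agent.Helper23.S2511DETUNI
import Cfsg.Agent.Helper18.S2512BANTI

/-! S2512 piece UNIPBLOCK (driver helper28; helper20): a unipotent isometry of order exactly `p ^ k`
of the antidiagonal symplectic space `F^(2c)`, `p ^ (k - 1) < 2 c`. -/

set_option autoImplicit false

universe u

namespace Cfsg.Agent.S2512P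

open Polynomial Matrix
open Cfsg.Agent.S2264P

section blocks

/-- UNIPBLOCK (M-L) -/
theorem exists_unip_block {F : Type*} [Field F] [Fintype F] {p : ℕ} [Fact p.Prime] [CharP F p]
    (hp2 : p ≠ 2) (c k : ℕ) (hc : 1 ≤ c) (hk : k = 0 ∨ p ^ (k - 1) < 2 * c) :
    ∃ u : Module.End F (Fin (2 * c) → F),
      (∀ x y, Banti F (2 * c) (u x) (u y) = Banti F (2 * c) x y) ∧ ∀ j : ℕ, u ^ j = 1 ↔ p ^ k ∣ j := by
  have hp : p.Prime := Fact.out
  have hp1 : 1 < p := hp.one_lt
  have h2F : (2 : F) ≠ 0 := by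
    intro h
    have h' : ((2 : ℕ) : F) = 0 := by exact_mod_cast h
    rw [CharP.cast_eq_zero_iff F p 2] at h'
    exact hp2 ((Nat.prime_dvd_prime_iff_eq hp Nat.prime_two).mp h')
  have hB : IsSymp (Banti F (2 * c)) := isSymp_Banti c
  have hN : ∀ x y, Banti F (2 * c) (Cfsg.Agent.S2511P.Nsh F (2 * c) x) y =
      - Banti F (2 * c) x (Cfsg.Agent.S2511P.Nsh F (2 * c) y) := by
    intro x y
    exact Cfsg.Agent.S2511P.Hanti_Nsh (RingHom.id F) (2 * c) 1 x y
  have hnil : IsNilpotent (Cfsg.Agent.S2511P.Nsh F (2 * c)) :=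
    ⟨2 * c, (Cfsg.Agent.S2511P.Nsh_pow_eq_zero_iff (F := F) (2 * c) (2 * c)).2 le_rfl⟩
  obtain ⟨u₀, w, hiso, hwN, hwU, hu₀⟩ := exists_cayley_sp hB (Cfsg.Agent.S2511P.Nsh F (2 * c)) hN hnil
  -- the nilpotent part
  have hM : ∀ j : ℕ, ((2 : F) • (Cfsg.Agent.S2511P.Nsh F (2 * c) * w)) ^ j = 0 ↔ 2 * c ≤ j := by
    intro j
    rw [_root_.smul_pow, hwN.symm.mul_pow, ← Cfsg.Agent.S2511P.Nsh_pow_eq_zero_iff (F := F) (2 * c) j]
    constructor
    · intro h
      have h1 : (Cfsg.Agent.S2511P.Nsh F (2 * c)) ^ j * w ^ j = 0 := by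
        have := congrArg (fun T => ((2 : F) ^ j)⁻¹ • T) h
        simp only [smul_zero] at this
        rwa [inv_smul_smul₀ (pow_ne_zero j h2F)] at this
      exact (hwU.pow j).mul_left_eq_zero.mp h1
    · intro h
      rw [h, zero_mul, smul_zero]
  -- the order of `u₀`
  set K := Nat.clog p (2 * c) with hK
  have h2c : 1 < 2 * c := by omega
  have hKle : 2 * c ≤ p ^ K := Nat.le_pow_clog hp1 (2 * c)
  have hKpos : 0 < K := Nat.clog_pos hp1 h2c
  have hKlt : p ^ (K - 1) < 2 * c := by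
    have := Nat.pow_pred_clog_lt_self hp1 h2c
    rwa [Nat.pred_eq_sub_one] at this
  have hord : ∀ j : ℕ, u₀ ^ j = 1 ↔ p ^ K ∣ j := by
    intro j
    rw [hu₀]
    exact Cfsg.Agent.S2511P.one_add_pow_eq_one_iff (p := p) _ (2 * c) K hM (by omega) hKle
      (Or.inr hKlt) j
  have hkK : k ≤ K := by
    rcases hk with hk | hk
    · omega
    · by_contra hcon
      push Not at hcon
      have : p ^ K ≤ p ^ (k - 1) := Nat.pow_le_pow_right (by omega) (by omega)
      omega
  -- powers of isometries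
  have hpowiso : ∀ m : ℕ, ∀ x y, Banti F (2 * c) ((u₀ ^ m) x) ((u₀ ^ m) y) = Banti F (2 * c) x y := by
    intro m
    induction m with
    | zero =>
      intro x y
      simp
    | succ m ih =>
      intro x y
      rw [pow_succ, Module.End.mul_apply, Module.End.mul_apply, ih, hiso]
  refine ⟨u₀ ^ (p ^ (K - k)), hpowiso _, ?_⟩
  intro j
  rw [← pow_mul, hord]
  have hpK : p ^ K = p ^ (K - k) * p ^ k := by
    rw [← pow_add]
    congr 1
    omega
  rw [hpK]
  exact Nat.mul_dvd_mul_iff_left (Nat.pow_pos hp.pos)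

end blocks

end Cfsg.Agent.S2512P
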