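import Mathlib
import Cfsg.Agent.Helper5.S2536DefsA
import Cfsg.Agent.Helper20.S2536CYCLE
import Cfsg.Agent.Helper1.S2536SUBCONJ

set_option autoImplicit false

/-! S2536 project, stage 2 (driver helper5), piece CYCLEA: a Hall `π`-subgroup of `Alt(n)` contains
an `r`-cycle for every odd prime `r ∈ π` with `r ≤ n`. -/

namespace Cfsg.Agent.S2536P

open Equiv

universe u

section Alt

variable {α : Type u} [Fintype α] [DecidableEq α]

/-- CYCLEA (dep SUBCONJ) -/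
theorem exists_cycle_mem_ahall {π : Set ℕ} {M : Subgroup (Perm α)} (hM : AHall π M) {r : ℕ}
    (hr : r.Prime) (hr2 : r ≠ 2) (hrπ : r ∈ π) (hrn : r ≤ Fintype.card α) :
    ∃ g ∈ M, g.IsCycle ∧ g.support.card = r := by
  have hfact : Fact r.Prime := ⟨hr⟩
  obtain ⟨g₀, hg₀c, hg₀r⟩ := CYCLE.exists_cycle (α := α) hr hrn
  have hodd : Odd r := hr.odd_of_ne_two hr2
  have hsign : Perm.sign g₀ = 1 := by
    rw [hg₀c.sign, hg₀r, hodd.neg_one_pow]
    simp
  have hg₀A : g₀ ∈ alternatingGroup α := Perm.mem_alternatingGroup.mpr hsign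
  have hord : orderOf (⟨g₀, hg₀A⟩ : alternatingGroup α) = r := by
    rw [← Subgroup.orderOf_coe]
    show orderOf g₀ = r
    rw [hg₀c.orderOf, hg₀r]
  have hpg : IsPGroup r (Subgroup.zpowers (⟨g₀, hg₀A⟩ : alternatingGroup α)) := by
    apply IsPGroup.of_card (n := 1)
    rw [Nat.card_zpowers, hord, pow_one]
  have hH : Cfsg.IsPiHall π (M.subgroupOf (alternatingGroup α)) := (ahall_iff_isPiHall hM.1).mp hM
  obtain ⟨c, hc⟩ := exists_conj_le_of_isPiHall hH hr hrπ hpg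
  have hmem : (MulAut.conj c) ⟨g₀, hg₀A⟩ ∈ M.subgroupOf (alternatingGroup α) :=
    hc ⟨⟨g₀, hg₀A⟩, Subgroup.mem_zpowers _, rfl⟩
  rw [Subgroup.mem_subgroupOf, MulAut.conj_apply] at hmem
  refine ⟨(c : Perm α) * g₀ * (c : Perm α)⁻¹, ?_, hg₀c.conj, ?_⟩
  · simpa using hmem
  · rw [Equiv.Perm.card_support_conj, hg₀r]

end Alt

end Cfsg.Agent.S2536P
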