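import Mathlib
import Cfsg.Agent.Helper5.S2536Basic

set_option autoImplicit false

/-! S2536 project (driver helper5), piece E1: in prime degree `n` the point stabilizer is a Hall
subgroup for the set of all primes below `n`. -/

namespace Cfsg.Agent.S2536P

open Equiv Nat

/-- E1 -/
theorem exists_hall_prime {π : Set ℕ} {n : ℕ} (hn : n.Prime)
    (h : ∀ r : ℕ, r.Prime → r ≤ n → (r ∈ π ↔ r < n)) : Cfsg.IsEPiGroup π (Perm (Fin n)) := by
  have hpos : 0 < n := hn.pos
  let x : Fin n := ⟨0, hpos⟩
  refine ⟨MulAction.stabilizer (Perm (Fin n)) x, ?_⟩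
  have hidx : (MulAction.stabilizer (Perm (Fin n)) x).index = n := by
    rw [MulAction.index_stabilizer_of_transitive (Perm (Fin n)) x]
    simp
  have hcard : Nat.card (MulAction.stabilizer (Perm (Fin n)) x) = (n - 1)! := by
    have h1 := Subgroup.card_mul_index (MulAction.stabilizer (Perm (Fin n)) x)
    rw [hidx, card_perm_nat] at h1
    have h2 : Nat.card (Fin n) = n := by simp
    rw [h2] at h1
    have h3 : n ! = n * (n - 1)! := by
      obtain ⟨m, rfl⟩ : ∃ m, n = m + 1 := ⟨n - 1, by omega⟩
      rw [Nat.factorial_succ]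
      simp
    rw [h3, Nat.mul_comm] at h1
    exact Nat.eq_of_mul_eq_mul_left hpos h1
  refine ⟨?_, ?_⟩
  · rw [hcard]
    intro r hr hrd
    have h1 : r ≤ n - 1 := (Nat.Prime.dvd_factorial hr).mp hrd
    exact (h r hr (by omega)).mpr (by omega)
  · rw [hidx]
    intro r hr hrπ hrd
    have h1 : r = n := (Nat.prime_dvd_prime_iff_eq hr hn).mp hrd
    have h2 := (h r hr (by omega)).mp hrπ
    omega

end Cfsg.Agent.S2536P
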