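import Mathlib
import Cfsg.Agent.Helper5.S2536DefsA
import Cfsg.Agent.Helper20.S2536CYCLEA
import Cfsg.Agent.S0713

set_option autoImplicit false

/-! S2536 project, stage 2 (driver helper5), piece JORDANA: a primitive Hall `π`-subgroup of `Alt(n)`
is `Alt(n)` as soon as `π` contains an odd prime `r` with `r + 3 ≤ n`. -/

namespace Cfsg.Agent.S2536P

open Equiv

universe u

section Alt

variable {α : Type u} [Fintype α] [DecidableEq α]

/-- JORDANA (dep CYCLEA; `Cfsg.Agent.S0713.result`) -/
theorem eq_alt_of_ahall_prim_odd {π : Set ℕ} {M : Subgroup (Perm α)} (hM : AHall π M)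
    (hprim : MulAction.IsPreprimitive M α) {r : ℕ} (hr : r.Prime) (hr2 : r ≠ 2) (hrπ : r ∈ π)
    (hrn : r + 3 ≤ Fintype.card α) : M = alternatingGroup α := by
  have hr3 : 3 ≤ r := by
    have := hr.two_le
    omega
  obtain ⟨g, hgM, hgc, hgr⟩ := exists_cycle_mem_ahall hM hr hr2 hrπ (by omega)
  have hA : alternatingGroup α ≤ M :=
    Cfsg.Agent.S0713.result M hprim hr (by omega) hrn hgc hgr hgM
  exact le_antisymm hM.1 hA

end Alt

end Cfsg.Agent.S2536P
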