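import Mathlib
import Cfsg.Agent.Helper5.S2536DefsA
import Cfsg.Agent.Helper1.S2536SUBCONJ

set_option autoImplicit false

/-! S2536 project, stage 2 (driver helper5), piece V4A: a Hall `π`-subgroup of `Alt(n)` with `2 ∈ π`,
`n ≥ 4`, contains a conjugate of the Klein four-group of `Alt(4)`, hence has a Jordan set of size 4. -/

namespace Cfsg.Agent.S2536P

open Equiv

universe u

namespace V4A

/-- the cyclic group generated by an involution is a `2`-group -/
theorem isPGroup_zpowers_of_sq {G : Type*} [Group G] (s : G) (hs : s * s = 1) :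
    IsPGroup 2 (Subgroup.zpowers s) := by
  rintro ⟨g, hg⟩
  obtain ⟨k, rfl⟩ := Subgroup.mem_zpowers_iff.mp hg
  refine ⟨1, ?_⟩
  apply Subtype.ext
  show (s ^ k) ^ 2 ^ 1 = 1
  rw [pow_one, ← zpow_natCast, ← zpow_mul, mul_comm, zpow_mul, zpow_natCast, pow_two, hs, one_zpow]

/-- two commuting involutions generate a `2`-group -/
theorem isPGroup_sup_of_commute {G : Type*} [Group G] (s t : G) (hs : s * s = 1) (ht : t * t = 1)
    (hst : s * t = t * s) : IsPGroup 2 (Subgroup.zpowers s ⊔ Subgroup.zpowers t : Subgroup G) := by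
  apply IsPGroup.to_sup_of_normal_right' (isPGroup_zpowers_of_sq s hs) (isPGroup_zpowers_of_sq t ht)
  rw [Subgroup.zpowers_le]
  have hc : ∀ h ∈ Subgroup.zpowers t, s * h * s⁻¹ = h := by
    intro h hh
    obtain ⟨k, rfl⟩ := Subgroup.mem_zpowers_iff.mp hh
    have : Commute s (t ^ k) := Commute.zpow_right hst k
    rw [this.eq, mul_inv_cancel_right]
  rw [Subgroup.mem_normalizer_iff]
  intro h
  constructor
  · intro hh
    rw [hc h hh]
    exact hh
  · intro hh
    have h1 := hc _ hh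
    have h2 : s * h * s⁻¹ = h := by
      have : s⁻¹ * (s * (s * h * s⁻¹) * s⁻¹) * s = s⁻¹ * (s * h * s⁻¹) * s := by rw [h1]
      simpa [mul_assoc] using this
    rw [← h2]
    exact hh

/-- the double transposition `(0 1)(2 3)` of `Fin 4` -/
def s0 : Perm (Fin 4) := swap 0 1 * swap 2 3

/-- the double transposition `(0 2)(1 3)` of `Fin 4` -/
def t0 : Perm (Fin 4) := swap 0 2 * swap 1 3

theorem s0_mul_self : s0 * s0 = 1 := by decide

theorem t0_mul_self : t0 * t0 = 1 := by decide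

theorem s0_mul_t0 : s0 * t0 = t0 * s0 := by decide

theorem sign_s0 : Perm.sign s0 = 1 := by decide

theorem sign_t0 : Perm.sign t0 = 1 := by decide

theorem regular : ∀ i j : Fin 4, ∃ e ∈ [1, s0, t0, s0 * t0], e i = j := by decide

theorem sign_viaEmbeddingHom {α : Type u} [Fintype α] [DecidableEq α] (ι : Fin 4 ↪ α)
    (e : Perm (Fin 4)) : Perm.sign (Perm.viaEmbeddingHom ι e) = Perm.sign e := by
  classical
  rw [Perm.viaEmbeddingHom_apply]
  unfold Perm.viaEmbedding
  convert Perm.sign_extendDomain e (Equiv.ofInjective ι.1 ι.2)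

end V4A

section Alt

variable {α : Type u} [Fintype α] [DecidableEq α]

/-- V4A (dep SUBCONJ) -/
theorem exists_jordan_four {π : Set ℕ} {M : Subgroup (Perm α)} (hM : AHall π M) (h2 : 2 ∈ π)
    (h4 : 4 ≤ Fintype.card α) :
    ∃ Γ : Set α, Γ.ncard = 4 ∧ ∀ x ∈ Γ, ∀ y ∈ Γ, ∃ g ∈ M, (∀ z ∉ Γ, g z = z) ∧ g x = y := by
  obtain ⟨ι⟩ : Nonempty (Fin 4 ↪ α) :=
    Function.Embedding.nonempty_of_card_le (by simpa using h4)
  set ψ := Perm.viaEmbeddingHom ι with hψ
  have hsA : ψ V4A.s0 ∈ alternatingGroup α :=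
    Perm.mem_alternatingGroup.mpr (by rw [V4A.sign_viaEmbeddingHom, V4A.sign_s0])
  have htA : ψ V4A.t0 ∈ alternatingGroup α :=
    Perm.mem_alternatingGroup.mpr (by rw [V4A.sign_viaEmbeddingHom, V4A.sign_t0])
  set sA : alternatingGroup α := ⟨ψ V4A.s0, hsA⟩ with hsAdef
  set tA : alternatingGroup α := ⟨ψ V4A.t0, htA⟩ with htAdef
  have hss : sA * sA = 1 := by
    apply Subtype.ext
    show ψ V4A.s0 * ψ V4A.s0 = 1
    rw [← map_mul, V4A.s0_mul_self, map_one]
  have htt : tA * tA = 1 := by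
    apply Subtype.ext
    show ψ V4A.t0 * ψ V4A.t0 = 1
    rw [← map_mul, V4A.t0_mul_self, map_one]
  have hst : sA * tA = tA * sA := by
    apply Subtype.ext
    show ψ V4A.s0 * ψ V4A.t0 = ψ V4A.t0 * ψ V4A.s0
    rw [← map_mul, V4A.s0_mul_t0, map_mul]
  set Q : Subgroup (alternatingGroup α) := Subgroup.zpowers sA ⊔ Subgroup.zpowers tA with hQdef
  have hQ : IsPGroup 2 Q := V4A.isPGroup_sup_of_commute sA tA hss htt hst
  have hsQ : sA ∈ Q := (le_sup_left : Subgroup.zpowers sA ≤ Q) (Subgroup.mem_zpowers sA)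
  have htQ : tA ∈ Q := (le_sup_right : Subgroup.zpowers tA ≤ Q) (Subgroup.mem_zpowers tA)
  -- every element of the list lifts to `Q`
  have hlift : ∀ e ∈ [1, V4A.s0, V4A.t0, V4A.s0 * V4A.t0], ∃ q ∈ Q, ((q : alternatingGroup α) : Perm α) = ψ e := by
    intro e he
    simp only [List.mem_cons, List.mem_nil_iff, or_false] at he
    rcases he with rfl | rfl | rfl | rfl
    · exact ⟨1, Q.one_mem, by simp⟩
    · exact ⟨sA, hsQ, rfl⟩
    · exact ⟨tA, htQ, rfl⟩
    · exact ⟨sA * tA, Q.mul_mem hsQ htQ, by rw [map_mul]; rfl⟩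
  have hH : Cfsg.IsPiHall π (M.subgroupOf (alternatingGroup α)) := (ahall_iff_isPiHall hM.1).mp hM
  obtain ⟨c, hc⟩ := exists_conj_le_of_isPiHall hH Nat.prime_two h2 hQ
  have hconj : ∀ q ∈ Q, (c : Perm α) * (q : Perm α) * (c : Perm α)⁻¹ ∈ M := by
    intro q hq
    have hmem : (MulAut.conj c) q ∈ M.subgroupOf (alternatingGroup α) := hc ⟨q, hq, rfl⟩
    rw [Subgroup.mem_subgroupOf, MulAut.conj_apply] at hmem
    simpa using hmem
  refine ⟨(c : Perm α) '' Set.range ι, ?_, ?_⟩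
  · rw [Set.ncard_image_of_injective _ (c : Perm α).injective, ← Set.image_univ,
      Set.ncard_image_of_injective _ ι.injective, Set.ncard_univ]
    simp
  · rintro _ ⟨_, ⟨i, rfl⟩, rfl⟩ _ ⟨_, ⟨j, rfl⟩, rfl⟩
    obtain ⟨e, he, hij⟩ := V4A.regular i j
    obtain ⟨q, hq, hqe⟩ := hlift e he
    refine ⟨_, hconj q hq, ?_, ?_⟩
    · intro z hz
      have hz' : (c : Perm α)⁻¹ z ∉ Set.range ι := by
        rintro ⟨k, hk⟩
        apply hz
        refine ⟨ι k, ⟨k, rfl⟩, ?_⟩
        rw [hk]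
        simp
      rw [Perm.mul_apply, Perm.mul_apply, hqe, hψ, Perm.viaEmbeddingHom_apply,
        Perm.viaEmbedding_apply_of_notMem _ _ _ hz']
      simp
    · have hci : (c : Perm α)⁻¹ ((c : Perm α) (ι i)) = ι i := by simp
      rw [Perm.mul_apply, Perm.mul_apply, hqe, hψ, Perm.viaEmbeddingHom_apply, hci,
        Perm.viaEmbedding_apply, hij]

end Alt

end Cfsg.Agent.S2536P
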