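import Mathlib
import Cfsg.Agent.Helper5.S2536DefsA
import Cfsg.Agent.Helper20.S2536JORDANA
import Cfsg.Agent.Helper20.S2536V4A
import Cfsg.Agent.Helper9.S2536BIGA
import Cfsg.Agent.Helper23.S2536FIVEA
import Cfsg.Agent.Helper14.S2536EIGHTA
import Cfsg.Agent.Helper14.S2536SEVENA

set_option autoImplicit false

/-! S2536 project, stage 2 (driver helper5), piece PRIMA: there is no primitive Hall `π`-subgroup of
`Alt(n)` with `2 ∈ π`, at least two primes of `π` below `n` and some prime `≤ n` outside `π`. -/

namespace Cfsg.Agent.S2536P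

open Equiv Nat

universe u

section Alt

variable {α : Type u} [Fintype α] [DecidableEq α]

namespace PRIMA

/-- if `Alt(n)` itself is a Hall `π`-subgroup and `2 ∈ π` then all primes `≤ n` lie in `π` -/
theorem allLE_of_alt {π : Set ℕ} (hM : AHall π (alternatingGroup α)) (h2 : 2 ∈ π) :
    AllLE π (Fintype.card α) := by
  intro t ht htn
  rcases eq_or_ne t 2 with rfl | ht2
  · exact h2
  have ht3 := ht.two_le
  have h1 : 2 * Nat.card (alternatingGroup α) = (Fintype.card α)! := two_mul_card_alt (by omega)
  have h3 : t ∣ 2 * Nat.card (alternatingGroup α) := by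
    rw [h1]
    exact (Nat.Prime.dvd_factorial ht).mpr htn
  have hcop : Nat.Coprime t 2 := (Nat.coprime_primes ht Nat.prime_two).mpr ht2
  exact hM.2.1 t ht (hcop.dvd_of_dvd_mul_left h3)

/-- a transitive group has order divisible by the degree -/
theorem card_dvd_of_pretransitive {M : Subgroup (Perm α)} (htr : MulAction.IsPretransitive M α)
    (hn : 1 ≤ Fintype.card α) : Fintype.card α ∣ Nat.card M := by
  have hne : Nonempty α := by
    rw [← Fintype.card_pos_iff]
    omega
  obtain ⟨x⟩ := hne
  have h3 : (MulAction.stabilizer M x).index = Nat.card α :=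
    MulAction.index_stabilizer_of_transitive M x
  rw [← Nat.card_eq_fintype_card, ← h3]
  exact Subgroup.index_dvd_card _

end PRIMA

/-- PRIMA (dep JORDANA, V4A, BIGA, EIGHTA, FIVEA, SEVENA) -/
theorem ahall_prim_false {π : Set ℕ} {M : Subgroup (Perm α)} (hM : AHall π M) (h2 : 2 ∈ π)
    (hprim : MulAction.IsPreprimitive M α) (hTwo : Two π (Fintype.card α))
    (hNot : NotAll π (Fintype.card α)) : False := by
  have htr : MulAction.IsPretransitive M α := hprim.toIsPretransitive
  obtain ⟨t, ht, htn, htπ⟩ := hNot
  -- `M = Alt` is impossible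
  have hneAlt : M ≠ alternatingGroup α := by
    intro h
    rw [h] at hM
    exact htπ (PRIMA.allLE_of_alt hM h2 t ht htn)
  -- no odd prime `r ∈ π` with `r + 3 ≤ n`
  have hno3 : 3 ∈ π → 6 ≤ Fintype.card α → False := fun h3 h6 =>
    hneAlt (eq_alt_of_ahall_prim_odd hM hprim Nat.prime_three (by norm_num) h3 (by omega))
  have h3dvd : 3 ∣ Nat.card M → 3 ∈ π := fun h => hM.2.1 3 Nat.prime_three h
  rcases Nat.lt_or_ge (Fintype.card α) 5 with hn4 | hn5
  · -- `n ≤ 4`: the primes `≤ n` are `2, 3`, both in `π`
    obtain ⟨r, s, hr, hs, hrs, hrπ, hsπ, hrn, hsn⟩ := hTwo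
    have hr2 := hr.two_le
    have hs2 := hs.two_le
    have ht2 := ht.two_le
    have hr4 : r ≠ 4 := by rintro rfl; exact absurd hr (by decide)
    have hs4 : s ≠ 4 := by rintro rfl; exact absurd hs (by decide)
    have ht4 : t ≠ 4 := by rintro rfl; exact absurd ht (by decide)
    have h3π : 3 ∈ π := by
      have : r = 3 ∨ s = 3 := by omega
      rcases this with rfl | rfl
      · exact hrπ
      · exact hsπ
    have : t = 2 ∨ t = 3 := by omega
    rcases this with rfl | rfl
    · exact htπ h2
    · exact htπ h3π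
  -- `n ≥ 5`: a Jordan set of size 4
  obtain ⟨Γ, hΓ, hJ⟩ := exists_jordan_four hM h2 (by omega)
  have hndvd : Fintype.card α ∣ Nat.card M := PRIMA.card_dvd_of_pretransitive htr (by omega)
  rcases Nat.lt_or_ge (Fintype.card α) 9 with hn8 | hn9
  · have hcases : Fintype.card α = 5 ∨ Fintype.card α = 6 ∨ Fintype.card α = 7 ∨
        Fintype.card α = 8 := by omega
    rcases hcases with h5 | h6 | h7 | h8
    · -- `n = 5`: `|M| = 20`
      rw [h5] at hndvd
      have h5π : 5 ∈ π := hM.2.1 5 (by norm_num) hndvd
      have ht2 := ht.two_le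
      have ht4 : t ≠ 4 := by rintro rfl; exact absurd ht (by decide)
      have ht3 : t = 3 := by
        have : t = 2 ∨ t = 3 ∨ t = 5 := by omega
        rcases this with rfl | rfl | rfl
        · exact absurd h2 htπ
        · rfl
        · exact absurd h5π htπ
      subst ht3
      obtain ⟨hle, hpi, i, hi, hiπ⟩ := hM
      have hA : Nat.card (alternatingGroup α) = 60 := by
        have h1 : 2 * Nat.card (alternatingGroup α) = (Fintype.card α)! :=
          two_mul_card_alt (by omega)
        rw [h5] at h1
        have : (5 : ℕ)! = 120 := by decide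
        omega
      have h20 : PiNum π 20 := by
        intro p hp hpd
        have hp5 : p ≤ 20 := Nat.le_of_dvd (by norm_num) hpd
        interval_cases p <;> first | exact h2 | exact h5π | (exfalso; revert hp; decide) | (exfalso; revert hpd; decide)
      have h3' : PiPrime π 3 := by
        intro p hp hpπ hpd
        have := (Nat.prime_dvd_prime_iff_eq hp Nat.prime_three).mp hpd
        subst this
        exact htπ hpπ
      have hc : Nat.card M = 20 :=
        hall_unique hpi hiπ h20 h3' (by rw [← hi, hA])
      exact no_order_twenty_alt_five h5 hle hc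
    · -- `n = 6`
      rw [h6] at hndvd
      exact hno3 (h3dvd (Dvd.dvd.trans (by norm_num) hndvd)) (by omega)
    · -- `n = 7`
      exact hno3 (h3dvd (dvd_card_of_jordan_four_seven hprim h7 Γ hΓ hJ)) (by omega)
    · -- `n = 8`
      exact hno3 (h3dvd (dvd_card_of_jordan_four_eight hprim h8 Γ hΓ hJ)) (by omega)
  · -- `n ≥ 9`
    exact hneAlt (le_antisymm hM.1 (alt_le_of_jordan_four hprim hn9 Γ hΓ hJ))

end Alt

end Cfsg.Agent.S2536P
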