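import Mathlib
import Cfsg.Prelude.Def_Classical
import Cfsg.Agent.Helper8.MatBNDefs
import Cfsg.Agent.Helper8.S2546Defs
import Cfsg.Agent.Helper21.S2549Defs
import Cfsg.Agent.Helper17.S2546TauVal
import Cfsg.Agent.Helper17.S2546SUPP

set_option autoImplicit false
open scoped Matrix

/-! # S2549 piece SUPP (driver helper21; helper20): supports of the root elements `XM E m j`;
nontrivial root elements exist.  Auxiliary (namespace `SUPP`): entry formula of `xLast`, values of
`tauLast`/`tauM`/`swapM`, `tauM` is an involution, the exact list of possible nonzero off-diagonal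
positions (`XM_cases`) and the symmetry of the support under `(r, c) ↦ (τ c, τ r)` (`supp_sym`). -/

namespace Cfsg.Agent.S2549P

open Cfsg.Agent.MatBN

variable {F : Type*} [Field F] {a b : F} {K : Type*} [Field K]

namespace SUPP

open Cfsg.Agent.S2546P.TAU17

theorem xLast_apply (σ : K →+* K) (m : ℕ) (t : K) (r c : Fin (2 * m + 2)) :
    xLast σ m t r c = (if r = c then 1 else 0)
      - σ t * (if r.val = m - 1 ∧ c.val = m then 1 else 0)
      - t * (if r.val = m - 1 ∧ c.val = m + 1 then 1 else 0)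
      + t * (if r.val = m ∧ c.val = m + 2 then 1 else 0)
      + σ t * (if r.val = m + 1 ∧ c.val = m + 2 then 1 else 0)
      - (t * σ t) * (if r.val = m - 1 ∧ c.val = m + 2 then 1 else 0) := by
  unfold xLast
  rw [Matrix.sub_apply, Matrix.add_apply, Matrix.add_apply, Matrix.sub_apply, Matrix.sub_apply,
    Matrix.smul_apply, Matrix.smul_apply, Matrix.smul_apply, Matrix.smul_apply, Matrix.smul_apply,
    Matrix.one_apply, smul_eq_mul, smul_eq_mul, smul_eq_mul, smul_eq_mul, smul_eq_mul]
  rfl

/-- the entry formula with the positions given as natural numbers -/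
theorem xLast_apply_val (σ : K →+* K) (m : ℕ) (t : K) (r c : Fin (2 * m + 2)) (i k : ℕ)
    (hr : r.val = i) (hc : c.val = k) :
    xLast σ m t r c = (if i = k then 1 else 0)
      - σ t * (if i = m - 1 ∧ k = m then 1 else 0)
      - t * (if i = m - 1 ∧ k = m + 1 then 1 else 0)
      + t * (if i = m ∧ k = m + 2 then 1 else 0)
      + σ t * (if i = m + 1 ∧ k = m + 2 then 1 else 0)
      - (t * σ t) * (if i = m - 1 ∧ k = m + 2 then 1 else 0) := by
  have e : (if r = c then (1 : K) else 0) = if i = k then 1 else 0 := by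
    by_cases h : r = c
    · have : i = k := by rw [← hr, ← hc, h]
      rw [if_pos h, if_pos this]
    · have : ¬ i = k := fun e => h (Fin.ext (by rw [hr, hc, e]))
      rw [if_neg h, if_neg this]
  rw [xLast_apply, hr, hc, e]

theorem tauLast_val (m : ℕ) (hm : 1 ≤ m) (i : Fin (2 * m + 2)) :
    (tauLast m i).val = if i.val = m - 1 then m + 2 else if i.val = m + 2 then m - 1
      else if i.val = m then m + 1 else if i.val = m + 1 then m else i.val := by
  unfold tauLast
  rw [dif_pos hm, Equiv.Perm.mul_apply, swap_val, swap_val]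
  simp only []
  split_ifs <;> omega

/-- the action of `tauM m j` on values -/
def tmv (m j x : ℕ) : ℕ :=
  if j + 1 < m then
    (if x = j then j + 1 else if x = j + 1 then j else if x = 2 * m - j then 2 * m + 1 - j
      else if x = 2 * m + 1 - j then 2 * m - j else x)
  else if x = m - 1 then m + 2 else if x = m + 2 then m - 1
    else if x = m then m + 1 else if x = m + 1 then m else x

theorem tauM_val (m j : ℕ) (hm : 1 ≤ m) (i : Fin (2 * m + 2)) : (tauM m j i).val = tmv m j i.val := by
  unfold tauM tmv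
  have hi := i.2
  by_cases h : j + 1 < m
  · have h' : j + 1 < (2 * m + 2) / 2 := by omega
    rw [if_pos h, if_pos h, tau_val]
    unfold tv
    rw [if_pos h']
    split_ifs <;> omega
  · rw [if_neg h, if_neg h, tauLast_val m hm]

theorem tauM_eq_tau (m j : ℕ) (h : j + 1 < m) : tauM m j = Cfsg.Agent.S2546P.tau (2 * m + 2) j := by
  unfold tauM
  rw [if_pos h]

theorem tmv_tmv (m j x : ℕ) (hj : j < m) (hx : x < 2 * m + 2) : tmv m j (tmv m j x) = x := by
  unfold tmv
  by_cases h : j + 1 < m
  · simp only [if_pos h]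
    split_ifs <;> omega
  · simp only [if_neg h]
    split_ifs <;> omega

theorem tauM_tauM (m j : ℕ) (hj : j < m) (i : Fin (2 * m + 2)) : tauM m j (tauM m j i) = i := by
  apply Fin.ext
  rw [tauM_val m j (by omega), tauM_val m j (by omega), tmv_tmv m j _ hj i.2]

theorem tauM_inv (m j : ℕ) (hj : j < m) : (tauM m j)⁻¹ = tauM m j := by
  rw [inv_eq_iff_mul_eq_one]
  apply Equiv.ext
  intro i
  rw [Equiv.Perm.mul_apply, tauM_tauM m j hj, Equiv.Perm.one_apply]

theorem swapM_val (m : ℕ) (i : Fin (2 * m + 2)) :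
    (swapM m i).val = if i.val = m then m + 1 else if i.val = m + 1 then m else i.val := by
  unfold swapM
  rw [swap_val]

theorem mem_XM_lin (E : QExt F a b K) (m j : ℕ) (h : j + 1 < m)
    (M : Matrix (Fin (2 * m + 2)) (Fin (2 * m + 2)) K) :
    M ∈ XM E m j ↔ ∃ t : F, M = xLin m j (E.inc t) := by
  unfold XM
  rw [if_pos h]
  rfl

theorem mem_XM_last (E : QExt F a b K) (m j : ℕ) (h : ¬ j + 1 < m)
    (M : Matrix (Fin (2 * m + 2)) (Fin (2 * m + 2)) K) :
    M ∈ XM E m j ↔ ∃ t : K, M = xLast E.σ m t := by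
  unfold XM
  rw [if_neg h]
  rfl

theorem xLin_apply (m j : ℕ) (t : K) (r c : Fin (2 * m + 2)) :
    xLin m j t r c = (if r = c then 1 else 0) + t * (if r.val = j ∧ c.val = j + 1 then 1 else 0) -
      t * (if r.val = 2 * m - j ∧ c.val = 2 * m + 1 - j then 1 else 0) := by
  unfold xLin
  rw [Cfsg.Agent.S2546P.SUPP.xL_apply]
  rfl

/-- the possible nonzero off-diagonal positions of a root element -/
theorem XM_cases (E : QExt F a b K) (m j : ℕ) (hj : j < m)
    (M : Matrix (Fin (2 * m + 2)) (Fin (2 * m + 2)) K) (hM : M ∈ XM E m j)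
    (r c : Fin (2 * m + 2)) (hrc : r ≠ c) (hne : M r c ≠ 0) :
    (j + 1 < m ∧ ((r.val = j ∧ c.val = j + 1) ∨ (r.val = 2 * m - j ∧ c.val = 2 * m + 1 - j))) ∨
    (j + 1 = m ∧ ((r.val = m - 1 ∧ c.val = m) ∨ (r.val = m - 1 ∧ c.val = m + 1) ∨
      (r.val = m ∧ c.val = m + 2) ∨ (r.val = m + 1 ∧ c.val = m + 2) ∨
      (r.val = m - 1 ∧ c.val = m + 2))) := by
  by_cases h1 : j + 1 < m
  · left
    refine ⟨h1, ?_⟩
    obtain ⟨t, rfl⟩ := (mem_XM_lin E m j h1 M).1 hM
    by_contra hcon
    push Not at hcon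
    apply hne
    rw [xLin_apply, if_neg hrc, if_neg (fun h => hcon.1 h.1 h.2), if_neg (fun h => hcon.2 h.1 h.2)]
    ring
  · right
    refine ⟨by omega, ?_⟩
    obtain ⟨t, rfl⟩ := (mem_XM_last E m j h1 M).1 hM
    by_contra hcon
    push Not at hcon
    apply hne
    rw [xLast_apply, if_neg hrc, if_neg (fun h => hcon.1 h.1 h.2),
      if_neg (fun h => hcon.2.1 h.1 h.2), if_neg (fun h => hcon.2.2.1 h.1 h.2),
      if_neg (fun h => hcon.2.2.2.1 h.1 h.2), if_neg (fun h => hcon.2.2.2.2 h.1 h.2)]
    ring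

/-- the support of a root element is symmetric under `(r, c) ↦ (τ c, τ r)` -/
theorem supp_sym (E : QExt F a b K) (m j : ℕ) (hj : j < m)
    (M : Matrix (Fin (2 * m + 2)) (Fin (2 * m + 2)) K) (hM : M ∈ XM E m j)
    (r c : Fin (2 * m + 2)) (hrc : r ≠ c) (hne : M r c ≠ 0) :
    M (tauM m j c) (tauM m j r) ≠ 0 := by
  have hm : 1 ≤ m := by omega
  have hr := r.2
  have hc := c.2
  rcases XM_cases E m j hj M hM r c hrc hne with ⟨h1, hpos⟩ | ⟨h1, hpos⟩
  · -- linear node: the position is fixed
    have e1 : tauM m j c = r := by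
      apply Fin.ext
      rw [tauM_val m j hm]
      unfold tmv
      rw [if_pos h1]
      rcases hpos with ⟨e1, e2⟩ | ⟨e1, e2⟩
      · rw [e1, e2]; split_ifs <;> omega
      · rw [e1, e2]; split_ifs <;> omega
    have e2 : tauM m j r = c := by
      apply Fin.ext
      rw [tauM_val m j hm]
      unfold tmv
      rw [if_pos h1]
      rcases hpos with ⟨e1, e2⟩ | ⟨e1, e2⟩
      · rw [e1, e2]; split_ifs <;> omega
      · rw [e1, e2]; split_ifs <;> omega
    rw [e1, e2]
    exact hne
  · have h1' : ¬ j + 1 < m := by omega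
    obtain ⟨t, rfl⟩ := (mem_XM_last E m j h1' M).1 hM
    have ht : t ≠ 0 := by
      intro h0
      apply hne
      rw [xLast_apply, if_neg hrc, h0, map_zero]
      ring
    have hσt : E.σ t ≠ 0 := (map_ne_zero E.σ).mpr ht
    have hv : ∀ i : Fin (2 * m + 2), (tauM m j i).val = if i.val = m - 1 then m + 2
        else if i.val = m + 2 then m - 1 else if i.val = m then m + 1
        else if i.val = m + 1 then m else i.val := by
      intro i
      rw [tauM_val m j hm]
      unfold tmv
      rw [if_neg h1']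
    rcases hpos with ⟨e1, e2⟩ | ⟨e1, e2⟩ | ⟨e1, e2⟩ | ⟨e1, e2⟩ | ⟨e1, e2⟩
    · have f1 : (tauM m j c).val = m + 1 := by rw [hv, e2]; split_ifs <;> omega
      have f2 : (tauM m j r).val = m + 2 := by rw [hv, e1]; split_ifs <;> omega
      rw [xLast_apply_val E.σ m t _ _ _ _ f1 f2]
      split_ifs <;> first | omega | simpa using hσt
    · have f1 : (tauM m j c).val = m := by rw [hv, e2]; split_ifs <;> omega
      have f2 : (tauM m j r).val = m + 2 := by rw [hv, e1]; split_ifs <;> omega
      rw [xLast_apply_val E.σ m t _ _ _ _ f1 f2]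
      split_ifs <;> first | omega | simpa using ht
    · have f1 : (tauM m j c).val = m - 1 := by rw [hv, e2]; split_ifs <;> omega
      have f2 : (tauM m j r).val = m + 1 := by rw [hv, e1]; split_ifs <;> omega
      rw [xLast_apply_val E.σ m t _ _ _ _ f1 f2]
      split_ifs <;> first | omega | simpa using ht
    · have f1 : (tauM m j c).val = m - 1 := by rw [hv, e2]; split_ifs <;> omega
      have f2 : (tauM m j r).val = m := by rw [hv, e1]; split_ifs <;> omega
      rw [xLast_apply_val E.σ m t _ _ _ _ f1 f2]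
      split_ifs <;> first | omega | simpa using hσt
    · have f1 : (tauM m j c).val = m - 1 := by rw [hv, e2]; split_ifs <;> omega
      have f2 : (tauM m j r).val = m + 2 := by rw [hv, e1]; split_ifs <;> omega
      rw [xLast_apply_val E.σ m t _ _ _ _ f1 f2]
      split_ifs <;> first | omega | simp [ht]

end SUPP

open SUPP Cfsg.Agent.S2546P.TAU17

/-- SUPP -/
theorem supp_XM (E : QExt F a b K) (m j : ℕ) (hj : j < m) (M : Matrix (Fin (2 * m + 2)) (Fin (2 * m + 2)) K)
    (hM : M ∈ XM E m j) :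
    (∀ r, M r r = 1) ∧ ∀ r c, r ≠ c → M r c ≠ 0 → r < c ∧ tauM m j c < tauM m j r := by
  have hm : 1 ≤ m := by omega
  constructor
  · intro r
    have hr := r.2
    by_cases h1 : j + 1 < m
    · obtain ⟨t, rfl⟩ := (mem_XM_lin E m j h1 M).1 hM
      have e1 : ¬ (r.val = j ∧ r.val = j + 1) := by omega
      have e2 : ¬ (r.val = 2 * m - j ∧ r.val = 2 * m + 1 - j) := by omega
      rw [xLin_apply, if_pos rfl, if_neg e1, if_neg e2]
      ring
    · obtain ⟨t, rfl⟩ := (mem_XM_last E m j h1 M).1 hM
      have e1 : ¬ (r.val = m - 1 ∧ r.val = m) := by omega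
      have e2 : ¬ (r.val = m - 1 ∧ r.val = m + 1) := by omega
      have e3 : ¬ (r.val = m ∧ r.val = m + 2) := by omega
      have e4 : ¬ (r.val = m + 1 ∧ r.val = m + 2) := by omega
      have e5 : ¬ (r.val = m - 1 ∧ r.val = m + 2) := by omega
      rw [xLast_apply, if_pos rfl, if_neg e1, if_neg e2, if_neg e3, if_neg e4, if_neg e5]
      ring
  · intro r c hrc hne
    have hr := r.2
    have hc := c.2
    rw [Fin.lt_def, Fin.lt_def, tauM_val m j hm, tauM_val m j hm]
    unfold tmv
    rcases XM_cases E m j hj M hM r c hrc hne with ⟨h1, hpos⟩ | ⟨h1, hpos⟩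
    · rw [if_pos h1, if_pos h1]
      rcases hpos with ⟨e1, e2⟩ | ⟨e1, e2⟩
      · rw [e1, e2]
        constructor
        · omega
        · split_ifs <;> omega
      · rw [e1, e2]
        constructor
        · omega
        · split_ifs <;> omega
    · have h1' : ¬ j + 1 < m := by omega
      rw [if_neg h1', if_neg h1']
      rcases hpos with ⟨e1, e2⟩ | ⟨e1, e2⟩ | ⟨e1, e2⟩ | ⟨e1, e2⟩ | ⟨e1, e2⟩
      all_goals
        rw [e1, e2]
        constructor
        · omega
        · split_ifs <;> omega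

/-- nontrivial root elements exist -/
theorem XM_ne_one (E : QExt F a b K) (m j : ℕ) (hj : j < m) : ∃ M ∈ XM E m j, M ≠ 1 := by
  by_cases h1 : j + 1 < m
  · refine ⟨xLin m j (E.inc 1), (mem_XM_lin E m j h1 _).2 ⟨1, rfl⟩, ?_⟩
    intro h
    have h2 := congrFun (congrFun h (⟨j, by omega⟩ : Fin (2 * m + 2)))
      (⟨j + 1, by omega⟩ : Fin (2 * m + 2))
    have e0 : ¬ ((⟨j, by omega⟩ : Fin (2 * m + 2)) = ⟨j + 1, by omega⟩) := by
      intro h
      have := congrArg Fin.val h
      simp at this
    have e2 : ¬ ((⟨j, by omega⟩ : Fin (2 * m + 2)).val = 2 * m - j ∧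
        (⟨j + 1, by omega⟩ : Fin (2 * m + 2)).val = 2 * m + 1 - j) := by
      simp only
      omega
    rw [xLin_apply, if_neg e0, if_pos ⟨rfl, rfl⟩, if_neg e2, Matrix.one_apply_ne e0, map_one] at h2
    simp at h2
  · refine ⟨xLast E.σ m 1, (mem_XM_last E m j h1 _).2 ⟨1, rfl⟩, ?_⟩
    intro h
    have h2 := congrFun (congrFun h (⟨m - 1, by omega⟩ : Fin (2 * m + 2)))
      (⟨m + 1, by omega⟩ : Fin (2 * m + 2))
    have e0 : ¬ ((⟨m - 1, by omega⟩ : Fin (2 * m + 2)) = ⟨m + 1, by omega⟩) := by
      intro h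
      have := congrArg Fin.val h
      simp only at this
      omega
    rw [xLast_apply_val E.σ m 1 _ _ (m - 1) (m + 1) rfl rfl, Matrix.one_apply_ne e0, map_one] at h2
    split_ifs at h2 <;> first | omega | simp at h2

end Cfsg.Agent.S2549P
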