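import Mathlib
import Cfsg.Prelude.Def_Classical
import Cfsg.Agent.Helper8.MatBNDefs
import Cfsg.Agent.Helper8.S2546Defs
import Cfsg.Agent.Helper21.S2549Defs
import Cfsg.Agent.Helper23.S2546DICH
import Cfsg.Agent.Helper20.S2549SUPP

set_option autoImplicit false
open scoped Matrix

/-! # S2549 piece DICHM (driver helper21; helper20): a permutation commuting with `rev` and with the middle
transposition `swapM` is monotone or antitone on the support of the root elements `XM E m j`. -/

namespace Cfsg.Agent.S2549P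

open Cfsg.Agent.MatBN

variable {F : Type*} [Field F] {a b : F} {K : Type*} [Field K]

namespace DICHM

open SUPP

/-- the inverse of a permutation commuting with `swapM` commutes with `swapM` -/
theorem inv_swapM {m : ℕ} (π : Equiv.Perm (Fin (2 * m + 2)))
    (hπs : ∀ i, π (swapM m i) = swapM m (π i)) (i : Fin (2 * m + 2)) :
    π⁻¹ (swapM m i) = swapM m (π⁻¹ i) := by
  rw [Equiv.Perm.inv_eq_iff_eq, hπs]
  congr 1
  exact (π.apply_symm_apply i).symm

/-- a permutation commuting with `swapM` preserves the middle positions -/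
theorem mid_of_comm {m : ℕ} (φ : Equiv.Perm (Fin (2 * m + 2)))
    (hφ : ∀ i, φ (swapM m i) = swapM m (φ i)) (i : Fin (2 * m + 2))
    (hi : i.val = m ∨ i.val = m + 1) : (φ i).val = m ∨ (φ i).val = m + 1 := by
  by_contra hcon
  push Not at hcon
  have h1 : swapM m (φ i) = φ i := by
    apply Fin.ext
    rw [swapM_val, if_neg hcon.1, if_neg hcon.2]
  have h2 : swapM m i = i := φ.injective (by rw [hφ, h1])
  have h3 := congrArg Fin.val h2
  rw [swapM_val] at h3
  split_ifs at h3 <;> omega

end DICHM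

open DICHM SUPP

theorem dichM (m : ℕ) (π : Equiv.Perm (Fin (2 * m + 2))) (hπ : ∀ i, π i.rev = (π i).rev)
    (hπs : ∀ i, π (swapM m i) = swapM m (π i)) (j : ℕ) (hj : j < m) (E : QExt F a b K) :
    (∀ M ∈ XM E m j, ∀ r c, r ≠ c → M r c ≠ 0 → π⁻¹ r < π⁻¹ c) ∨
      (∀ M ∈ XM E m j, ∀ r c, r ≠ c → M r c ≠ 0 → π⁻¹ c < π⁻¹ r) := by
  by_cases h1 : j + 1 < m
  · -- linear node: the unitary dichotomy
    have hτ : tauM m j = Cfsg.Agent.S2546P.tau (2 * m + 2) j := tauM_eq_tau m j h1
    rcases Cfsg.Agent.S2546P.dich (2 * m + 2) π hπ j (by omega) with hI | hII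
    · left
      intro M hM r c hrc hne
      obtain ⟨h2, h3⟩ := (supp_XM E m j hj M hM).2 r c hrc hne
      rw [hτ] at h3
      exact hI r c h2 h3
    · right
      intro M hM r c hrc hne
      obtain ⟨h2, h3⟩ := (supp_XM E m j hj M hM).2 r c hrc hne
      rw [hτ] at h3
      exact hII r c h2 h3
  · -- last node
    have hjm : j + 1 = m := by omega
    have hψ := Cfsg.Agent.S2546P.DICH.inv_rev π hπ
    have hψs := inv_swapM π hπs
    set p1 : Fin (2 * m + 2) := ⟨m - 1, by omega⟩ with hp1
    have hx := (π⁻¹ p1).2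
    -- the image of `m - 1` is not in the middle
    have hx1 : ¬ ((π⁻¹ p1).val = m ∨ (π⁻¹ p1).val = m + 1) := by
      intro hmid
      have h2 := mid_of_comm π hπs (π⁻¹ p1) hmid
      have e0 : π (π⁻¹ p1) = p1 := π.apply_symm_apply p1
      rw [e0] at h2
      simp only [hp1] at h2
      omega
    -- the image of `m + 2 = rev (m - 1)`
    have hx2 : ∀ p4 : Fin (2 * m + 2), p4.val = m + 2 →
        (π⁻¹ p4).val = 2 * m + 1 - (π⁻¹ p1).val := by
      intro p4 h4
      have e : p4 = p1.rev := by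
        apply Fin.ext
        rw [h4, Fin.val_rev]
        simp only [hp1]
        omega
      rw [e, hψ, Fin.val_rev]
      omega
    have hx0 : ∀ p : Fin (2 * m + 2), p.val = m - 1 → π⁻¹ p = π⁻¹ p1 := by
      intro p hp
      congr 1
      exact Fin.ext hp
    have hmid : ∀ p : Fin (2 * m + 2), p.val = m ∨ p.val = m + 1 →
        (π⁻¹ p).val = m ∨ (π⁻¹ p).val = m + 1 := fun p hp => mid_of_comm π⁻¹ hψs p hp
    have hcases : ∀ M ∈ XM E m j, ∀ r c : Fin (2 * m + 2), r ≠ c → M r c ≠ 0 →
        (r.val = m - 1 ∧ c.val = m) ∨ (r.val = m - 1 ∧ c.val = m + 1) ∨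
        (r.val = m ∧ c.val = m + 2) ∨ (r.val = m + 1 ∧ c.val = m + 2) ∨
        (r.val = m - 1 ∧ c.val = m + 2) := by
      intro M hM r c hrc hne
      rcases XM_cases E m j hj M hM r c hrc hne with ⟨h2, _⟩ | ⟨_, hpos⟩
      · omega
      · exact hpos
    by_cases hlt : (π⁻¹ p1).val < m
    · left
      intro M hM r c hrc hne
      rw [Fin.lt_def]
      rcases hcases M hM r c hrc hne with ⟨e1, e2⟩ | ⟨e1, e2⟩ | ⟨e1, e2⟩ | ⟨e1, e2⟩ | ⟨e1, e2⟩
      · rw [hx0 r e1]
        have := hmid c (Or.inl e2)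
        omega
      · rw [hx0 r e1]
        have := hmid c (Or.inr e2)
        omega
      · rw [hx2 c e2]
        have := hmid r (Or.inl e1)
        omega
      · rw [hx2 c e2]
        have := hmid r (Or.inr e1)
        omega
      · rw [hx0 r e1, hx2 c e2]
        omega
    · right
      intro M hM r c hrc hne
      rw [Fin.lt_def]
      rcases hcases M hM r c hrc hne with ⟨e1, e2⟩ | ⟨e1, e2⟩ | ⟨e1, e2⟩ | ⟨e1, e2⟩ | ⟨e1, e2⟩
      · rw [hx0 r e1]
        have := hmid c (Or.inl e2)
        omega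
      · rw [hx0 r e1]
        have := hmid c (Or.inr e2)
        omega
      · rw [hx2 c e2]
        have := hmid r (Or.inl e1)
        omega
      · rw [hx2 c e2]
        have := hmid r (Or.inr e1)
        omega
      · rw [hx0 r e1, hx2 c e2]
        omega

end Cfsg.Agent.S2549P
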