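import Mathlib
import Cfsg.Prelude.Def_Classical
import Cfsg.Agent.Helper8.MatBNDefs
import Cfsg.Agent.Helper8.S2546Defs
import Cfsg.Agent.Helper21.S2549Defs
import Cfsg.Agent.Helper23.S2546MONALG
import Cfsg.Agent.Helper20.S2549SUPP

set_option autoImplicit false
open scoped Matrix

/-! # S2549 piece YLOW (driver helper21; helper20): the opposite root elements `s M s⁻¹` are lower
unitriangular.  Auxiliary (namespace `YLOW`): permutation matrices are monomial (`mon_pMat`, `mon_sM`). -/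

namespace Cfsg.Agent.S2549P

open Cfsg.Agent.MatBN

variable {F : Type*} [Field F] {a b : F} {K : Type*} [Field K]

namespace YLOW

theorem mon_pMat (n : ℕ) (π : Equiv.Perm (Fin n)) :
    Mon (Cfsg.Agent.S2546P.pMat n π : Matrix (Fin n) (Fin n) K) π := by
  intro r c
  show (if r = π c then (1 : K) else 0) ≠ 0 ↔ r = π c
  by_cases h : r = π c
  · rw [if_pos h]
    exact ⟨fun _ => h, fun _ => one_ne_zero⟩
  · rw [if_neg h]
    exact ⟨fun h0 => absurd rfl h0, fun h1 => absurd h1 h⟩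

theorem mon_sM (m j : ℕ) :
    Mon (sM m j : Matrix (Fin (2 * m + 2)) (Fin (2 * m + 2)) K) (tauM m j) :=
  mon_pMat _ _

end YLOW

open SUPP YLOW

theorem ylow_M (E : QExt F a b K) (m j : ℕ) (hj : j < m) (M : Matrix (Fin (2 * m + 2)) (Fin (2 * m + 2)) K)
    (hM : M ∈ XM E m j) (N : Matrix (Fin (2 * m + 2)) (Fin (2 * m + 2)) K) (hN : sM m j * N = 1) :
    IsLow (sM m j * M * N) := by
  have hs : Mon (sM m j : Matrix (Fin (2 * m + 2)) (Fin (2 * m + 2)) K) (tauM m j) := mon_sM m j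
  obtain ⟨hdiag, hsupp⟩ := supp_XM E m j hj M hM
  refine ⟨fun r c hrc => ?_, fun r => ?_⟩
  · by_contra h0
    have h2 := (Mon.conj_apply_ne_zero_iff (A := M) hs hN r c).mp h0
    rw [tauM_inv m j hj] at h2
    have hne : tauM m j r ≠ tauM m j c := fun e => (ne_of_lt hrc) ((tauM m j).injective e)
    obtain ⟨_, h4⟩ := hsupp _ _ hne h2
    rw [tauM_tauM m j hj, tauM_tauM m j hj] at h4
    exact absurd hrc (not_lt.mpr h4.le)
  · rw [Mon.conj_apply_diag hs hN, hdiag]

end Cfsg.Agent.S2549P
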