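import Mathlib
import Cfsg.Prelude.Def_Classical
import Cfsg.Agent.Helper8.MatBNDefs
import Cfsg.Agent.Helper8.S2546Defs
import Cfsg.Agent.Helper21.S2549Defs
import Cfsg.Agent.Helper23.S2546MONALG
import Cfsg.Agent.Helper18.S2549MONREV
import Cfsg.Agent.Helper20.S2549SUPP
import Cfsg.Agent.Helper20.S2549YLOW
import Cfsg.Agent.Helper20.S2549DICHM

set_option autoImplicit false
open scoped Matrix

/-! # S2549 piece HE (driver helper21; helper20): the dichotomy for rational monomial isometries. -/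

namespace Cfsg.Agent.S2549P

open Cfsg.Agent.MatBN SUPP YLOW

variable {F : Type*} [Field F] {a b : F} {K : Type*} [Field K]

theorem he_M (E : QExt F a b K) (m j : ℕ) (hj : j < m)
    (g ginv : Matrix (Fin (2 * m + 2)) (Fin (2 * m + 2)) K) (hgi : g * ginv = 1)
    (hP : PresQ (2 * m + 2) g) (hR : Rat E.σ m g) (π : Equiv.Perm (Fin (2 * m + 2))) (hg : Mon g π)
    (N : Matrix (Fin (2 * m + 2)) (Fin (2 * m + 2)) K) (hN : sM m j * N = 1) :
    (∀ M ∈ XM E m j, IsTri (ginv * M * g)) ∨ (∀ M ∈ XM E m j, IsTri (ginv * (sM m j * M * N) * g)) := by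
  obtain ⟨hπ, hπs⟩ := mon_rev_swap E.σ m g hP hR π hg
  have hGI : Mon ginv π⁻¹ := Mon.of_mul_eq_one hg hgi
  have hgi' : ginv * g = 1 := mul_eq_one_comm.mp hgi
  have hs : Mon (sM m j : Matrix (Fin (2 * m + 2)) (Fin (2 * m + 2)) K) (tauM m j) := mon_sM m j
  rcases dichM m π hπ hπs j hj E with hI | hII
  · left
    intro M hM r c hcr
    by_contra h0
    have h1 := (Mon.conj_apply_ne_zero_iff (A := M) hGI hgi' r c).mp h0
    rw [inv_inv] at h1
    have hne : π r ≠ π c := fun e => (ne_of_gt hcr) (π.injective e)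
    have h4 := hI M hM (π r) (π c) hne h1
    rw [MONALG.inv_apply_self', MONALG.inv_apply_self'] at h4
    exact absurd hcr (not_lt.mpr h4.le)
  · right
    intro M hM r c hcr
    by_contra h0
    have h1 := (Mon.conj_apply_ne_zero_iff (A := sM m j * M * N) hGI hgi' r c).mp h0
    rw [inv_inv] at h1
    have h2 := (Mon.conj_apply_ne_zero_iff (A := M) hs hN (π r) (π c)).mp h1
    rw [tauM_inv m j hj] at h2
    have hne : tauM m j (π r) ≠ tauM m j (π c) :=
      fun e => (ne_of_gt hcr) (π.injective ((tauM m j).injective e))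
    have h3 := supp_sym E m j hj M hM _ _ hne h2
    rw [tauM_tauM m j hj, tauM_tauM m j hj] at h3
    have hne' : π c ≠ π r := fun e => (ne_of_gt hcr) (π.injective e.symm)
    have h5 := hII M hM (π c) (π r) hne' h3
    rw [MONALG.inv_apply_self', MONALG.inv_apply_self'] at h5
    exact absurd hcr (not_lt.mpr h5.le)

end Cfsg.Agent.S2549P
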