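import Mathlib
import Cfsg.Prelude.Def_LocalEven
import Cfsg.Prelude.Def_LieTwisted
import Cfsg.Agent.Lead.S2787Defs
import Cfsg.Agent.Helper6.ReeLoc.Inst2

set_option autoImplicit false

/-! # S2787 piece DIHREE (driver lead; helper20): the `2`-subgroups of `²G₂(q)` have exponent `2`,
so `²G₂(q)` is `DihLike` (with `c = 1`). -/

namespace Cfsg.Agent.S2787P

open Cfsg Cfsg.Lie Cfsg.Agent.Helper6 Cfsg.Agent.Helper6.Ree Cfsg.Agent.Helper6.ReeLoc

/-- DIHREE (from Helper6.ReeLoc.Inst2 two_sq_ree; c = 1). -/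
theorem dihLike_ree {K : Type} [Field K] [Fintype K] (m : ℕ) (hm : 1 ≤ m)
    (hK : Fintype.card K = 3 ^ (2 * m + 1)) :
    DihLike ↥(Cfsg.Lie.twistedG2 K (3 ^ m)) := by
  obtain ⟨C⟩ := exists_reeCtx (K := K) (m := m) hK
  have hch := C.char3
  obtain ⟨Φ⟩ := nonempty_invHom (K := K) (m := m)
  intro S hS
  exact ⟨1, fun x hx _ => two_sq_ree C hK Φ S hS x hx⟩

end Cfsg.Agent.S2787P
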