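import Mathlib
import Cfsg.Prelude.Def_LocalEven
import Cfsg.Prelude.Def_LieTwisted
import Cfsg.Agent.Lead.S2787Defs
import Cfsg.Agent.Helper6.Ree.G2Simple
import Cfsg.Agent.Helper6.Ree.G2Order
import Cfsg.Agent.Helper6.Ree.G2Ctx

set_option autoImplicit false

/-! # S2787 piece OPREE (driver lead; helper20): `O_3(²G₂(q)) = 1` (simplicity + even order). -/

namespace Cfsg.Agent.S2787P

open Cfsg Cfsg.Lie Cfsg.Agent.Helper6 Cfsg.Agent.Helper6.Ree

/-- OPREE (from ReeCtx.simple + card). -/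
theorem pCore_ree {K : Type} [Field K] [Fintype K] (m : ℕ) (hm : 1 ≤ m)
    (hK : Fintype.card K = 3 ^ (2 * m + 1)) :
    Cfsg.pCore 3 ↥(Cfsg.Lie.twistedG2 K (3 ^ m)) = ⊥ := by
  obtain ⟨C⟩ := exists_reeCtx (K := K) (m := m) hK
  obtain ⟨hsimp, _⟩ := C.simple hK hm
  have hfin : Finite ↥(twistedG2 K (3 ^ m)) := Subtype.finite
  have h3 : Fact (Nat.Prime 3) := ⟨Nat.prime_three⟩
  unfold Cfsg.pCore
  rw [eq_bot_iff]
  apply sSup_le
  rintro N ⟨hN, hp⟩
  rcases hN.eq_bot_or_eq_top with h | h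
  · rw [h]
  · exfalso
    subst h
    obtain ⟨k, hk⟩ := IsPGroup.iff_card.mp hp
    rw [Subgroup.card_top, C.card_ree hK] at hk
    have hodd : Odd ((3 ^ (2 * m + 1)) ^ 3) := (Odd.pow (by decide : Odd 3)).pow
    have heven : 2 ∣ (3 ^ (2 * m + 1)) ^ 3 + 1 := even_iff_two_dvd.mp hodd.add_one
    have h2 : 2 ∣ 3 ^ k := by
      rw [← hk]
      exact Dvd.dvd.mul_left heven _
    have h23 := Nat.Prime.dvd_of_dvd_pow Nat.prime_two h2
    omega

end Cfsg.Agent.S2787P
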