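import Mathlib
import Cfsg.Prelude.Def_Amalgam

/-! Board `s2806pieces`, rows SUBSYL and PCLS. -/

set_option autoImplicit false
set_option linter.unusedSectionVars false
set_option linter.unusedVariables false

namespace Cfsg.Agent.S2806P

open Cfsg

variable {G : Type*} [Group G]

variable [Finite G] {p : ℕ} [Fact p.Prime]

/-- SUBSYL (M): a subnormal subgroup containing a Sylow `p`-subgroup contains every `p`-element. -/
theorem mem_of_subnormal_of_sylow_le {D : Subgroup G} (hD : D.IsSubnormal) (P : Sylow p G)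
    (hP : (P : Subgroup G) ≤ D) (x : G) (hx : ∃ k : ℕ, orderOf x = p ^ k) : x ∈ D := by
  induction hD with
  | top => exact Subgroup.mem_top x
  | step H K h_le hSubn hN ih =>
    have hPK : (P : Subgroup G) ≤ K := hP.trans h_le
    have hxK : x ∈ K := ih hPK
    obtain ⟨k, hk⟩ := hx
    have hxp : IsPGroup p (Subgroup.zpowers (⟨x, hxK⟩ : ↥K)) := by
      apply IsPGroup.of_card (n := k)
      rw [Nat.card_zpowers, ← hk]
      exact (Subgroup.orderOf_mk x hxK)
    obtain ⟨Q, hQ⟩ := hxp.exists_le_sylow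
    obtain ⟨g, rfl⟩ := MulAction.exists_smul_eq (↥K) (P.subtype hPK) Q
    have hxQ : (⟨x, hxK⟩ : ↥K) ∈ ((g • P.subtype hPK : Sylow p ↥K) : Subgroup ↥K) :=
      hQ (Subgroup.mem_zpowers _)
    rw [Sylow.smul_def, Sylow.pointwise_smul_def, Subgroup.mem_pointwise_smul_iff_inv_smul_mem] at hxQ
    have h1 : (MulAut.conj g)⁻¹ • (⟨x, hxK⟩ : ↥K) ∈ H.subgroupOf K := by
      have h2 : ((P.subtype hPK : Sylow p ↥K) : Subgroup ↥K) ≤ H.subgroupOf K := by
        rw [Sylow.coe_subtype]
        intro y hy
        exact Subgroup.mem_subgroupOf.mpr (hP (Subgroup.mem_subgroupOf.mp hy))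
      exact h2 hxQ
    have h3 := hN.conj_mem _ h1 g
    have e : g * ((MulAut.conj g)⁻¹ • (⟨x, hxK⟩ : ↥K)) * g⁻¹ = ⟨x, hxK⟩ := by
      rw [← map_inv, MulAut.smul_def, MulAut.conj_apply]
      group
    rw [e] at h3
    exact Subgroup.mem_subgroupOf.mp h3

/-- PCLS (M): `O^{p'}(A)` is subnormal when `A` is. -/
theorem pElementClosure_isSubnormal {A : Subgroup G} (hA : A.IsSubnormal) :
    (pElementClosure p A).IsSubnormal := by
  have hle : pElementClosure p A ≤ A := by
    unfold pElementClosure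
    rw [Subgroup.closure_le]
    intro x hx
    exact hx.1
  refine Subgroup.IsSubnormal.step _ A hle hA ?_
  rw [Subgroup.normal_subgroupOf_iff_le_normalizer hle]
  have key : ∀ a ∈ A, ∀ x ∈ pElementClosure p A, a * x * a⁻¹ ∈ pElementClosure p A := by
    intro a ha x hx
    unfold pElementClosure at hx ⊢
    induction hx using Subgroup.closure_induction with
    | mem y hy =>
      apply Subgroup.subset_closure
      refine ⟨A.mul_mem (A.mul_mem ha hy.1) (A.inv_mem ha), ?_⟩
      obtain ⟨k, hk⟩ := hy.2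
      refine ⟨k, ?_⟩
      rw [← hk]
      have := orderOf_injective (MulAut.conj a).toMonoidHom (MulAut.conj a).injective y
      simpa [MulAut.conj_apply] using this
    | one => simp
    | mul y z _ _ hy hz =>
      have e : a * (y * z) * a⁻¹ = (a * y * a⁻¹) * (a * z * a⁻¹) := by group
      rw [e]
      exact Subgroup.mul_mem _ hy hz
    | inv y _ hy =>
      have e : a * y⁻¹ * a⁻¹ = (a * y * a⁻¹)⁻¹ := by group
      rw [e]
      exact Subgroup.inv_mem _ hy
  intro b hb
  rw [Subgroup.mem_normalizer_iff]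
  intro x
  constructor
  · exact key b hb x
  · intro hx
    have h1 := key b⁻¹ (A.inv_mem hb) _ hx
    have e : b⁻¹ * (b * x * b⁻¹) * b⁻¹⁻¹ = x := by group
    rwa [e] at h1

end Cfsg.Agent.S2806P
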