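import Cfsg.Agent.S2855P.Defs

/-! S2855 piece GEN: `E` is generated by `O^p(E)` and its `p`-elements. -/

set_option autoImplicit false

namespace Cfsg.Agent.S2855P

open Cfsg
open scoped commutatorElement

section General

variable {G : Type*} [Group G] [Finite G] {p : ℕ} [Fact p.Prime]

theorem le_of_resOf_le_of_pElements (E C : Subgroup G) (hres : resOf p E ≤ C)
    (hp : ∀ t ∈ E, (∃ k : ℕ, t ^ (p ^ k) = 1) → t ∈ C) : E ≤ C := by
  intro e he
  have hpp : p.Prime := Fact.out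
  have hn0 : orderOf e ≠ 0 := (orderOf_pos e).ne'
  obtain ⟨a, m, hm, hn⟩ := Nat.exists_eq_pow_mul_and_not_dvd hn0 p hpp.ne_one
  have hcop : Nat.Coprime (p ^ a) m :=
    Nat.Coprime.pow_left a ((Nat.Prime.coprime_iff_not_dvd hpp).mpr hm)
  -- the `p'`-part
  have h1 : e ^ (p ^ a) ∈ C := by
    apply hres
    apply Subgroup.subset_closure
    refine ⟨E.pow_mem he _, ?_⟩
    have hdvd : orderOf (e ^ (p ^ a)) ∣ m := by
      apply orderOf_dvd_of_pow_eq_one
      rw [← pow_mul, ← hn, pow_orderOf_eq_one]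
    exact Nat.Coprime.coprime_dvd_left hdvd ((Nat.Prime.coprime_iff_not_dvd hpp).mpr hm).symm
  -- the `p`-part
  have h2 : e ^ m ∈ C := by
    apply hp _ (E.pow_mem he _)
    refine ⟨a, ?_⟩
    rw [← pow_mul, mul_comm, ← hn, pow_orderOf_eq_one]
  -- Bezout
  have hbez : IsCoprime ((p ^ a : ℕ) : ℤ) (m : ℤ) := Nat.isCoprime_iff_coprime.mpr hcop
  obtain ⟨x, y, hxy⟩ := hbez
  have he1 : e = (e ^ (p ^ a)) ^ x * (e ^ m) ^ y := by
    rw [← zpow_natCast e (p ^ a), ← zpow_natCast e m, ← zpow_mul, ← zpow_mul, ← zpow_add]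
    have : ((p ^ a : ℕ) : ℤ) * x + (m : ℤ) * y = 1 := by linear_combination hxy
    rw [this, zpow_one]
  rw [he1]
  exact C.mul_mem (C.zpow_mem h1 x) (C.zpow_mem h2 y)

end General

end Cfsg.Agent.S2855P
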