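import Cfsg.Agent.S2855P.Defs

/-! S2855 piece PPRIME: an abelian subgroup `A ≤ R` normalized by `R` has no elements of order `p`,
if `R` has no nontrivial normal `p`-subgroups. -/

set_option autoImplicit false

namespace Cfsg.Agent.S2855P

open Cfsg
open scoped commutatorElement

section General

variable {G : Type*} [Group G] [Finite G] {p : ℕ} [Fact p.Prime]

theorem no_pElements_of_abelian (R A : Subgroup G)
    (hN : ∀ X : Subgroup G, X ≤ R → R ≤ Subgroup.normalizer (X : Set G) → IsPGroup p ↥X → X = ⊥)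
    (hAR : A ≤ R) (hRA : R ≤ Subgroup.normalizer (A : Set G))
    (hab : ∀ a ∈ A, ∀ b ∈ A, a * b = b * a) : ∀ a ∈ A, a ^ p = 1 → a = 1 := by
  -- the subgroup of elements of `A` killed by `p`
  let X : Subgroup G :=
    { carrier := {a | a ∈ A ∧ a ^ p = 1}
      mul_mem' := by
        rintro a b ⟨ha, hap⟩ ⟨hb, hbp⟩
        refine ⟨A.mul_mem ha hb, ?_⟩
        have hc : Commute a b := hab a ha b hb
        rw [hc.mul_pow, hap, hbp, one_mul]
      one_mem' := ⟨A.one_mem, one_pow _⟩
      inv_mem' := by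
        rintro a ⟨ha, hap⟩
        exact ⟨A.inv_mem ha, by rw [inv_pow, hap, inv_one]⟩ }
  have hXmem : ∀ a, a ∈ X ↔ a ∈ A ∧ a ^ p = 1 := fun a => Iff.rfl
  have hXA : X ≤ A := fun a ha => ((hXmem a).mp ha).1
  have hXbot : X = ⊥ := by
    apply hN X (le_trans hXA hAR)
    · intro r hr
      have hrA := hRA hr
      rw [Subgroup.mem_normalizer_iff] at hrA ⊢
      intro x
      constructor
      · intro hx
        obtain ⟨hxA, hxp⟩ := (hXmem x).mp hx
        refine (hXmem _).mpr ⟨(hrA x).mp hxA, ?_⟩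
        rw [conj_pow, hxp, mul_one, mul_inv_cancel]
      · intro hx
        obtain ⟨hxA, hxp⟩ := (hXmem _).mp hx
        refine (hXmem _).mpr ⟨(hrA x).mpr hxA, ?_⟩
        rw [conj_pow] at hxp
        have h1 : x ^ p = r⁻¹ * (r * x ^ p * r⁻¹) * r := by group
        rw [h1, hxp, mul_one, inv_mul_cancel]
    · intro x
      refine ⟨1, ?_⟩
      apply Subtype.ext
      rw [pow_one, Subgroup.coe_pow, Subgroup.coe_one]
      exact ((hXmem _).mp x.2).2
  intro a ha hap
  have haX : a ∈ X := (hXmem a).mpr ⟨ha, hap⟩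
  rw [hXbot, Subgroup.mem_bot] at haX
  exact haX

end General

end Cfsg.Agent.S2855P
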