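import Mathlib
import Cfsg.Agent.Helper7.S2862Defs
import Cfsg.Agent.Helper7.S2862B1
import Cfsg.Agent.Helper22.S2862CP4
import Cfsg.Agent.Helper22.S2862CP7

/-! Board `s2862pieces`, row B7c (core): `C = F × C_L` by an order count.
The rows B2/B3/B4/B5/B7a/CP10 enter as hypotheses (their statements for the fixed `h`). -/

set_option autoImplicit false
set_option linter.unusedVariables false

namespace Cfsg.Agent.S2862P

open Cfsg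
open Cfsg.Agent.Helper14 (cj)
open Subgroup
open scoped commutatorElement

variable {G : Type*} [Group G] [Finite G] {p : ℕ} [Fact p.Prime]
variable {H Y D L L0 Vt Vb : Subgroup G}

/-- the order count behind B7c, in the lattice of subgroups between `Vb` and `Vt`. -/
theorem B7c_aux_count {Vt Vb F C F' C' : Subgroup G}
    (hcard : ∀ {Z₁ Z₂ : Subgroup G}, Vb ≤ Z₁ → Z₁ ≤ Vt → Z₂ ≤ Vt →
      Nat.card ↥(Z₁ ⊔ Z₂) * Nat.card ↥(Z₁ ⊓ Z₂) = Nat.card ↥Z₁ * Nat.card ↥Z₂)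
    (hbF : Vb ≤ F) (hFC : F ≤ C) (hCt : C ≤ Vt) (hbC' : Vb ≤ C') (hC't : C' ≤ Vt) (hF't : F' ≤ Vt)
    (hcC : Nat.card ↥C' = Nat.card ↥C) (hcF : Nat.card ↥F' = Nat.card ↥F)
    (hFC' : F ⊓ C' = Vb) (h3 : C ⊓ F' = Vb) (h4 : C ⊔ F' = Vt) :
    F ⊔ (C ⊓ C') = C ∧ F ⊓ (C ⊓ C') = Vb := by
  have hbC : Vb ≤ C := hbF.trans hFC
  have hinf : F ⊓ (C ⊓ C') = Vb := by
    apply le_antisymm
    · calc F ⊓ (C ⊓ C') ≤ F ⊓ C' := inf_le_inf_left _ inf_le_right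
        _ = Vb := hFC'
    · exact le_inf hbF (le_inf hbC hbC')
  refine ⟨?_, hinf⟩
  have hle : F ⊔ (C ⊓ C') ≤ C := sup_le hFC inf_le_left
  -- the three product formulas
  have e1 : Nat.card ↥(C ⊔ C') * Nat.card ↥(C ⊓ C') = Nat.card ↥C * Nat.card ↥C := by
    rw [hcard hbC hCt hC't, hcC]
  have e2 : Nat.card ↥Vt * Nat.card ↥Vb = Nat.card ↥C * Nat.card ↥F := by
    have := hcard hbC hCt hF't
    rw [h3, h4, hcF] at this
    exact this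
  have e3 : Nat.card ↥(F ⊔ (C ⊓ C')) * Nat.card ↥Vb = Nat.card ↥F * Nat.card ↥(C ⊓ C') := by
    have := hcard hbF (hFC.trans hCt) ((inf_le_left : C ⊓ C' ≤ C).trans hCt)
    rw [hinf] at this
    exact this
  have e4 : Nat.card ↥(C ⊔ C') ≤ Nat.card ↥Vt := Subgroup.card_le_of_le (sup_le hCt hC't)
  have hposb : 0 < Nat.card ↥Vb := Nat.card_pos
  have hpost : 0 < Nat.card ↥Vt := Nat.card_pos
  have hposCC : 0 < Nat.card ↥(C ⊔ C') := Nat.card_pos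
  have hge : Nat.card ↥C ≤ Nat.card ↥(F ⊔ (C ⊓ C')) := by
    have hpos : 0 < Nat.card ↥Vb * Nat.card ↥(C ⊔ C') := Nat.mul_pos hposb hposCC
    apply Nat.le_of_mul_le_mul_right _ hpos
    calc Nat.card ↥C * (Nat.card ↥Vb * Nat.card ↥(C ⊔ C'))
        ≤ Nat.card ↥C * (Nat.card ↥Vb * Nat.card ↥Vt) :=
          Nat.mul_le_mul_left _ (Nat.mul_le_mul_left _ e4)
      _ = Nat.card ↥C * (Nat.card ↥Vt * Nat.card ↥Vb) := by ring
      _ = Nat.card ↥C * (Nat.card ↥C * Nat.card ↥F) := by rw [e2]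
      _ = Nat.card ↥F * (Nat.card ↥C * Nat.card ↥C) := by ring
      _ = Nat.card ↥F * (Nat.card ↥(C ⊔ C') * Nat.card ↥(C ⊓ C')) := by rw [e1]
      _ = (Nat.card ↥F * Nat.card ↥(C ⊓ C')) * Nat.card ↥(C ⊔ C') := by ring
      _ = (Nat.card ↥(F ⊔ (C ⊓ C')) * Nat.card ↥Vb) * Nat.card ↥(C ⊔ C') := by rw [e3]
      _ = Nat.card ↥(F ⊔ (C ⊓ C')) * (Nat.card ↥Vb * Nat.card ↥(C ⊔ C')) := by ring
  exact Subgroup.eq_of_le_of_card_ge hle hge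

/-- B7c (core) : `C = F × C_L`; the rows B2, B3, B4, B5, B7a (for the fixed `h`) and CP10 are hypotheses. -/
theorem B7c_core (K : KHyp p H Y D L L0) (C : ChiefPair p H Vt Vb) {h : G} (hh : h ∈ L)
    (hcard : ∀ {Z₁ Z₂ : Subgroup G}, Vb ≤ Z₁ → Z₁ ≤ Vt → Z₂ ≤ Vt →
      Nat.card ↥(Z₁ ⊔ Z₂) * Nat.card ↥(Z₁ ⊓ Z₂) = Nat.card ↥Z₁ * Nat.card ↥Z₂)
    (h2 : fixP Vt Vb (cjs h Y) ⊓ fixP Vt Vb D = Vb)
    (h3 : fixP Vt Vb Y ⊓ commP Vt Vb (cjs h Y) = Vb)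
    (h4 : fixP Vt Vb Y ⊔ commP Vt Vb (cjs h Y) = Vt)
    (h5 : fixP Vt Vb D = commP Vt Vb Y)
    (h7a : fixP Vt Vb L = fixP Vt Vb Y ⊓ fixP Vt Vb (cjs h Y)) :
    commP Vt Vb Y ⊔ fixP Vt Vb L = fixP Vt Vb Y ∧ commP Vt Vb Y ⊓ fixP Vt Vb L = Vb := by
  have hYH : Y ≤ H := K.hYD.trans K.hDH
  have hhH : h ∈ H := K.hLH hh
  have hcYH : cjs h Y ≤ H := by
    rintro _ ⟨y, hy, rfl⟩
    exact H.mul_mem (H.mul_mem hhH (hYH hy)) (H.inv_mem hhH)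
  rw [h7a]
  refine B7c_aux_count (Vt := Vt) (Vb := Vb) (F' := commP Vt Vb (cjs h Y)) hcard (le_commP Y) (B1q K C)
    (fixP_le C hYH) (le_fixP C hcYH) (fixP_le C hcYH) (commP_le C hcYH) ?_ ?_ ?_ h3 h4
  · rw [fixP_cjs C hYH hhH, card_cjs]
  · rw [commP_cjs C hYH hhH, card_cjs]
  · rw [← h5, inf_comm]; exact h2

end Cfsg.Agent.S2862P
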