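import Mathlib
import Cfsg.Agent.Helper7.S2862Defs
import Cfsg.Agent.Helper17.Basic
import Cfsg.Agent.Helper17.S2862CP2core
import Cfsg.Agent.Helper20.S2862CP1

/-! Board `s2862pieces`, row CP10: the product formula between `Vb` and `Vt`. -/

set_option autoImplicit false
set_option linter.unusedVariables false

namespace Cfsg.Agent.S2862P

open Cfsg
open Cfsg.Agent.Helper14 (cj)
open Subgroup
open scoped commutatorElement

variable {G : Type*} [Group G] [Finite G] {p : ℕ} [Fact p.Prime]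
variable {H Y D L L0 Vt Vb : Subgroup G}

/-- CP10 : product formula between `Vb` and `Vt`. -/
theorem card_between (C : ChiefPair p H Vt Vb) {Z₁ Z₂ : Subgroup G} (h1b : Vb ≤ Z₁) (h1t : Z₁ ≤ Vt) (h2t : Z₂ ≤ Vt) :
    Nat.card ↥(Z₁ ⊔ Z₂) * Nat.card ↥(Z₁ ⊓ Z₂) = Nat.card ↥Z₁ * Nat.card ↥Z₂ :=
  Cfsg.Agent.Helper17.card_sup_mul_card_inf Z₁ Z₂ (h2t.trans (CP2_aux_normal (CP_abel C) h1b h1t))

end Cfsg.Agent.S2862P
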