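import Mathlib
import Cfsg.Agent.Helper20.S2862B7cCore
import Cfsg.Agent.Helper20.S2862CP10
import Cfsg.Agent.Helper7.S2862B2
import Cfsg.Agent.Helper10.S2862B4
import Cfsg.Agent.Helper19.S2862B5core
import Cfsg.Agent.Helper22.S2862B7A

/-! Board `s2862pieces`, row B7c: `C = F × C_L` (wrapper of `B7c_core`; B5 is taken from `B5_aux_core`). -/

set_option autoImplicit false
set_option linter.unusedVariables false

namespace Cfsg.Agent.S2862P

open Cfsg
open Cfsg.Agent.Helper14 (cj)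
open Subgroup
open scoped commutatorElement

variable {G : Type*} [Group G] [Finite G] {p : ℕ} [Fact p.Prime]
variable {H Y D L L0 Vt Vb : Subgroup G}

/-- B7c : `C = F × C_L`. -/
theorem B7c (K : KHyp p H Y D L L0) (C : ChiefPair p H Vt Vb) (hnc : Noncentral H Vt Vb) {h : G} (hh : h ∈ L)
    (hh0 : h ∉ L0) :
    commP Vt Vb Y ⊔ fixP Vt Vb L = fixP Vt Vb Y ∧ commP Vt Vb Y ⊓ fixP Vt Vb L = Vb := by
  have hYH : Y ≤ H := K.hYD.trans K.hDH
  have hhH : h ∈ H := K.hLH hh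
  have hcYH : cjs h Y ≤ H := by
    rintro _ ⟨y, hy, rfl⟩
    exact H.mul_mem (H.mul_mem hhH (hYH hy)) (H.inv_mem hhH)
  have h5 : fixP Vt Vb D = commP Vt Vb Y :=
    B5_aux_core K C hh (card_between C (le_fixP C hYH) (fixP_le C hYH) (commP_le C hcYH))
      (card_between C (le_fixP C hcYH) (fixP_le C hcYH) (fixP_le C K.hDH))
      (B2 K C hnc hh hh0).1 (B3 K C hnc hh hh0) (B4 K C hnc hh hh0).1
  exact B7c_core K C hh (fun h1 h2 h3 => card_between C h1 h2 h3) (B2 K C hnc hh hh0).1 (B3 K C hnc hh hh0)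
    (B4 K C hnc hh hh0).1 h5 (B7a K C hh hh0).1

end Cfsg.Agent.S2862P
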