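import Mathlib
import Cfsg.Agent.Helper7.S2862Defs
import Cfsg.Agent.Helper7.S2862B1
import Cfsg.Agent.Helper22.S2862CP4
import Cfsg.Agent.Helper22.S2862CP7

/-! Board `s2862pieces`, row B7d (core): `X = X_L × C_L` by an order count.
The rows B3/B4/B7a/B7b/B7c (for the fixed `h`) and CP10 enter as hypotheses. -/

set_option autoImplicit false
set_option linter.unusedVariables false

namespace Cfsg.Agent.S2862P

open Cfsg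
open Cfsg.Agent.Helper14 (cj)
open Subgroup
open scoped commutatorElement

variable {G : Type*} [Group G] [Finite G] {p : ℕ} [Fact p.Prime]
variable {H Y D L L0 Vt Vb : Subgroup G}

/-- the order count behind B7d, in the lattice of subgroups between `Vb` and `Vt`. -/
theorem B7d_aux_count {Vt Vb F C F' CL : Subgroup G}
    (hcard : ∀ {Z₁ Z₂ : Subgroup G}, Vb ≤ Z₁ → Z₁ ≤ Vt → Z₂ ≤ Vt →
      Nat.card ↥(Z₁ ⊔ Z₂) * Nat.card ↥(Z₁ ⊓ Z₂) = Nat.card ↥Z₁ * Nat.card ↥Z₂)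
    (hbF : Vb ≤ F) (hFt : F ≤ Vt) (hbC : Vb ≤ C) (hCt : C ≤ Vt) (hbF' : Vb ≤ F') (hF't : F' ≤ Vt)
    (hbCL : Vb ≤ CL) (hCLt : CL ≤ Vt)
    (hcF : Nat.card ↥F' = Nat.card ↥F)
    (h3 : C ⊓ F' = Vb) (h4 : C ⊔ F' = Vt) (h7b : F ⊓ F' = Vb)
    (h7c1 : F ⊔ CL = C) (h7c2 : F ⊓ CL = Vb) :
    (F ⊔ F') ⊔ CL = Vt ∧ (F ⊔ F') ⊓ CL = Vb := by
  have hsup : (F ⊔ F') ⊔ CL = Vt := by
    rw [sup_right_comm, h7c1, h4]
  refine ⟨hsup, ?_⟩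
  have hXLt : F ⊔ F' ≤ Vt := sup_le hFt hF't
  have hbXL : Vb ≤ F ⊔ F' := hbF.trans le_sup_left
  have hle : Vb ≤ (F ⊔ F') ⊓ CL := le_inf hbXL hbCL
  have ea : Nat.card ↥Vt * Nat.card ↥((F ⊔ F') ⊓ CL) = Nat.card ↥(F ⊔ F') * Nat.card ↥CL := by
    have := hcard hbXL hXLt hCLt
    rw [hsup] at this
    exact this
  have eb : Nat.card ↥(F ⊔ F') * Nat.card ↥Vb = Nat.card ↥F * Nat.card ↥F := by
    have := hcard hbF hFt hF't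
    rw [h7b, hcF] at this
    exact this
  have ec : Nat.card ↥C * Nat.card ↥Vb = Nat.card ↥F * Nat.card ↥CL := by
    have := hcard hbF hFt hCLt
    rw [h7c1, h7c2] at this
    exact this
  have ed : Nat.card ↥Vt * Nat.card ↥Vb = Nat.card ↥C * Nat.card ↥F := by
    have := hcard hbC hCt hF't
    rw [h3, h4, hcF] at this
    exact this
  have hposb : 0 < Nat.card ↥Vb := Nat.card_pos
  have hpost : 0 < Nat.card ↥Vt := Nat.card_pos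
  have hcardeq : Nat.card ↥((F ⊔ F') ⊓ CL) = Nat.card ↥Vb := by
    have hpos : 0 < Nat.card ↥Vt * (Nat.card ↥Vb * Nat.card ↥Vb) :=
      Nat.mul_pos hpost (Nat.mul_pos hposb hposb)
    apply Nat.eq_of_mul_eq_mul_left hpos
    calc Nat.card ↥Vt * (Nat.card ↥Vb * Nat.card ↥Vb) * Nat.card ↥((F ⊔ F') ⊓ CL)
        = (Nat.card ↥Vt * Nat.card ↥((F ⊔ F') ⊓ CL)) * (Nat.card ↥Vb * Nat.card ↥Vb) := by ring
      _ = (Nat.card ↥(F ⊔ F') * Nat.card ↥CL) * (Nat.card ↥Vb * Nat.card ↥Vb) := by rw [ea]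
      _ = (Nat.card ↥(F ⊔ F') * Nat.card ↥Vb) * (Nat.card ↥CL * Nat.card ↥Vb) := by ring
      _ = (Nat.card ↥F * Nat.card ↥F) * (Nat.card ↥CL * Nat.card ↥Vb) := by rw [eb]
      _ = Nat.card ↥F * (Nat.card ↥F * Nat.card ↥CL) * Nat.card ↥Vb := by ring
      _ = Nat.card ↥F * (Nat.card ↥C * Nat.card ↥Vb) * Nat.card ↥Vb := by rw [ec]
      _ = (Nat.card ↥C * Nat.card ↥F) * (Nat.card ↥Vb * Nat.card ↥Vb) := by ring
      _ = (Nat.card ↥Vt * Nat.card ↥Vb) * (Nat.card ↥Vb * Nat.card ↥Vb) := by rw [ed]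
      _ = Nat.card ↥Vt * (Nat.card ↥Vb * Nat.card ↥Vb) * Nat.card ↥Vb := by ring
  exact (Subgroup.eq_of_le_of_card_ge hle hcardeq.le).symm

/-- B7d (core) : `X = X_L × C_L`; the rows B3, B4, B7a, B7b, B7c (for the fixed `h`) and CP10 are hypotheses. -/
theorem B7d_core (K : KHyp p H Y D L L0) (C : ChiefPair p H Vt Vb) {h : G} (hh : h ∈ L)
    (hcard : ∀ {Z₁ Z₂ : Subgroup G}, Vb ≤ Z₁ → Z₁ ≤ Vt → Z₂ ≤ Vt →
      Nat.card ↥(Z₁ ⊔ Z₂) * Nat.card ↥(Z₁ ⊓ Z₂) = Nat.card ↥Z₁ * Nat.card ↥Z₂)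
    (h3 : fixP Vt Vb Y ⊓ commP Vt Vb (cjs h Y) = Vb)
    (h4 : fixP Vt Vb Y ⊔ commP Vt Vb (cjs h Y) = Vt)
    (h7a : commP Vt Vb L = commP Vt Vb Y ⊔ commP Vt Vb (cjs h Y))
    (h7b : commP Vt Vb Y ⊓ commP Vt Vb (cjs h Y) = Vb)
    (h7c : commP Vt Vb Y ⊔ fixP Vt Vb L = fixP Vt Vb Y ∧ commP Vt Vb Y ⊓ fixP Vt Vb L = Vb) :
    commP Vt Vb L ⊔ fixP Vt Vb L = Vt ∧ commP Vt Vb L ⊓ fixP Vt Vb L = Vb := by
  have hYH : Y ≤ H := K.hYD.trans K.hDH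
  have hhH : h ∈ H := K.hLH hh
  have hcYH : cjs h Y ≤ H := by
    rintro _ ⟨y, hy, rfl⟩
    exact H.mul_mem (H.mul_mem hhH (hYH hy)) (H.inv_mem hhH)
  rw [h7a]
  refine B7d_aux_count (Vt := Vt) (Vb := Vb) (C := fixP Vt Vb Y) hcard (le_commP Y) (commP_le C hYH)
    (le_fixP C hYH) (fixP_le C hYH) (le_commP _) (commP_le C hcYH) (le_fixP C K.hLH) (fixP_le C K.hLH)
    ?_ h3 h4 h7b h7c.1 h7c.2
  rw [commP_cjs C hYH hhH, card_cjs]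

end Cfsg.Agent.S2862P
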