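import Mathlib
import Cfsg.Agent.Helper20.S2862B7dCore
import Cfsg.Agent.Helper20.S2862B7c
import Cfsg.Agent.Helper22.S2862B7B

/-! Board `s2862pieces`, row B7d: `X = X_L × C_L` (wrapper of `B7d_core`). -/

set_option autoImplicit false
set_option linter.unusedVariables false

namespace Cfsg.Agent.S2862P

open Cfsg
open Cfsg.Agent.Helper14 (cj)
open Subgroup
open scoped commutatorElement

variable {G : Type*} [Group G] [Finite G] {p : ℕ} [Fact p.Prime]
variable {H Y D L L0 Vt Vb : Subgroup G}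

/-- B7d : `X = X_L × C_L`. -/
theorem B7d (K : KHyp p H Y D L L0) (C : ChiefPair p H Vt Vb) (hnc : Noncentral H Vt Vb) {h : G} (hh : h ∈ L)
    (hh0 : h ∉ L0) :
    commP Vt Vb L ⊔ fixP Vt Vb L = Vt ∧ commP Vt Vb L ⊓ fixP Vt Vb L = Vb :=
  B7d_core K C hh (fun h1 h2 h3 => card_between C h1 h2 h3) (B3 K C hnc hh hh0)
    (B4 K C hnc hh hh0).1 (B7a K C hh hh0).2 (B7b K C hnc hh hh0) (B7c K C hnc hh hh0)

end Cfsg.Agent.S2862P
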