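import Mathlib
import Cfsg.Prelude.Def_BaumannBlocks
import Cfsg.Agent.Helper20.S2981Dict2

/-!
# S2981, part (A4): transfer of `ActsAsSL2OnSection` / `ActsAsOddPermModuleOnSection` from `Hol V` back to `G`
-/

set_option autoImplicit false

namespace Cfsg.Agent.S2981P

open Cfsg Subgroup
open scoped commutatorElement

variable {G : Type*} [Group G] (V : Subgroup G) [V.Normal]

/-- `E` normalises `U` if its image normalises `hatH V U` -/
theorem le_normalizer_of_hat {E U : Subgroup G} (hU : U ≤ V)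
    (h : E.map (piH V) ≤ normalizer ((hatH V U : Subgroup (Hol V)) : Set (Hol V))) :
    E ≤ normalizer (U : Set G) := by
  have key : ∀ e ∈ E, ∀ u ∈ U, e * u * e⁻¹ ∈ U := by
    intro e he u hu
    have h1 := h ⟨e, he, rfl⟩
    rw [Subgroup.mem_normalizer_iff] at h1
    have h2 := (h1 (iotaH V ⟨u, hU hu⟩)).mp (iotaH_mem_hatH.mpr hu)
    rw [piH_conj_iotaH, iotaH_mem_hatH, coe_conjNormal] at h2
    exact h2
  intro e he
  rw [Subgroup.mem_normalizer_iff]
  intro x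
  refine ⟨key e he x, fun hx => ?_⟩
  have := key e⁻¹ (E.inv_mem he) _ hx
  have e1 : e⁻¹ * (e * x * e⁻¹) * e⁻¹⁻¹ = x := by group
  rwa [e1] at this

/-- the conjugate of `u ∈ U` by `e ∈ E`, under `hatHom` -/
theorem hatHom_conj {E U : Subgroup G} (hU : U ≤ V) (hN : E ≤ normalizer (U : Set G)) (e : ↥E) (u : ↥U)
    (wh : ↥(hatH V U)) (hwh : (wh : Hol V) = piH V e * ((hatHom V hU u : ↥(hatH V U)) : Hol V) * (piH V e)⁻¹) :
    ∃ w : ↥U, (w : G) = (e : G) * (u : G) * (e : G)⁻¹ ∧ hatHom V hU w = wh := by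
  have hw : (e : G) * (u : G) * (e : G)⁻¹ ∈ U := ((Subgroup.mem_normalizer_iff.mp (hN e.2)) u).mp u.2
  refine ⟨⟨_, hw⟩, rfl, ?_⟩
  apply Subtype.ext
  rw [hwh, coe_hatHom, coe_hatHom, piH_conj_iotaH]
  congr 1

theorem actsSL2_of_hat {F : Type*} [Field F] {R : Subgroup (Matrix.SpecialLinearGroup (Fin 2) F)}
    {E U U₀ : Subgroup G} (hU : U ≤ V) (hU₀ : U₀ ≤ V)
    (h : ActsAsSL2OnSection F R (E.map (piH V)) (hatH V U) (hatH V U₀)) : ActsAsSL2OnSection F R E U U₀ := by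
  obtain ⟨hN, hle, ρh, ψh, hρ, hψs, hψk, hact⟩ := h
  have hN' : E ≤ normalizer (U : Set G) := le_normalizer_of_hat V hU hN
  refine ⟨hN', (hatH_le_iff hU₀).mp hle, ρh.comp ((piH V).subgroupMap E), ψh.comp (hatHom V hU), ?_, ?_, ?_, ?_⟩
  · rw [MonoidHom.range_comp, MonoidHom.range_eq_top.mpr ((piH V).subgroupMap_surjective E), ← MonoidHom.range_eq_map]
    exact hρ
  · exact hψs.comp (hatHom_bijective V hU).2
  · intro u
    rw [MonoidHom.comp_apply, hψk, coe_hatHom, iotaH_mem_hatH]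
  · intro e u
    obtain ⟨wh, hwh, hψ⟩ := hact ((piH V).subgroupMap E e) (hatHom V hU u)
    obtain ⟨w, hw, hww⟩ := hatHom_conj V hU hN' e u wh hwh
    refine ⟨w, hw, ?_⟩
    rw [MonoidHom.comp_apply, MonoidHom.comp_apply, MonoidHom.comp_apply, hww]
    exact hψ

theorem actsPerm_of_hat {n : ℕ} {R : Subgroup (Equiv.Perm (Fin n))}
    {E U U₀ : Subgroup G} (hU : U ≤ V) (hU₀ : U₀ ≤ V)
    (h : ActsAsOddPermModuleOnSection n R (E.map (piH V)) (hatH V U) (hatH V U₀)) :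
    ActsAsOddPermModuleOnSection n R E U U₀ := by
  obtain ⟨hN, hle, ρh, ψh, hρ, hψe, hψs, hψk, hact⟩ := h
  have hN' : E ≤ normalizer (U : Set G) := le_normalizer_of_hat V hU hN
  refine ⟨hN', (hatH_le_iff hU₀).mp hle, ρh.comp ((piH V).subgroupMap E), ψh.comp (hatHom V hU), ?_, ?_, ?_, ?_, ?_⟩
  · rw [MonoidHom.range_comp, MonoidHom.range_eq_top.mpr ((piH V).subgroupMap_surjective E), ← MonoidHom.range_eq_map]
    exact hρ
  · intro u
    exact hψe (hatHom V hU u)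
  · intro v hv
    obtain ⟨uh, huh⟩ := hψs v hv
    obtain ⟨u, rfl⟩ := (hatHom_bijective V hU).2 uh
    exact ⟨u, huh⟩
  · intro u
    rw [MonoidHom.comp_apply, hψk, coe_hatHom, iotaH_mem_hatH]
  · intro e u
    obtain ⟨wh, hwh, hψ⟩ := hact ((piH V).subgroupMap E e) (hatHom V hU u)
    obtain ⟨w, hw, hww⟩ := hatHom_conj V hU hN' e u wh hwh
    refine ⟨w, hw, ?_⟩
    intro i
    rw [MonoidHom.comp_apply, MonoidHom.comp_apply, MonoidHom.comp_apply, hww]
    exact hψ i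

end Cfsg.Agent.S2981P
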