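import Mathlib
import Cfsg.Agent.Helper28.S3000DefsS
import Cfsg.Agent.Helper20.S2981Act

/-!
# S2981, part (A4): the transfer theorem

From a family `Eh : Fin r → Subgroup (Hol V)` with the conclusion of S3000 for `(Vhat V, Phat V, T.map (piH V))` whose join is
the image of `J(G)`, and `J(G) T C_G(V) = G`, to the conclusion of the frozen S2981 (with `V` in place of
`Ω₁ Z(O_p(G))`), for the family `E i = (Eh i).comap (piH V)`.
-/

set_option autoImplicit false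

namespace Cfsg.Agent.S2981P

open Cfsg Subgroup
open Cfsg.Agent.S3000P
open scoped commutatorElement

variable {G : Type*} [Group G] [Finite G] {p : ℕ} [Fact p.Prime]

omit [Finite G] in
theorem hatH_bot (V : Subgroup G) : hatH V ⊥ = ⊥ := by
  rw [eq_bot_iff]
  intro x hx
  obtain ⟨v, hv, rfl⟩ := mem_hatH.mp hx
  rw [Subgroup.mem_bot] at hv ⊢
  have : v = 1 := Subtype.ext hv
  rw [this, map_one]

theorem transfer (V : Subgroup G) [V.Normal] (T : Sylow p G) {r : ℕ} {Eh : Fin r → Subgroup (Hol V)}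
    (h : ConclFam p (Vhat V) (Phat V) ((T : Subgroup G).map (piH V)) r Eh)
    (hJ : (⨆ i, Eh i) = (Cfsg.thompsonSubgroup p G).map (piH V))
    (hJTC : Cfsg.thompsonSubgroup p G ⊔ (T : Subgroup G) ⊔ Subgroup.centralizer (V : Set G) = ⊤) :
    ∃ (r : ℕ) (E : Fin r → Subgroup G), (∀ i, Subgroup.centralizer (V : Set G) ≤ E i) ∧ Cfsg.thompsonSubgroup p G ⊔ (T : Subgroup G) ⊔ Subgroup.centralizer (V : Set G) = ⊤ ∧ (⨆ i, E i) = Cfsg.thompsonSubgroup p G ⊔ Subgroup.centralizer (V : Set G) ∧ (∀ i j, i ≠ j → ⁅E i, E j⁆ ≤ Subgroup.centralizer (V : Set G)) ∧ (∀ i, E i ⊓ (⨆ j ∈ {j | j ≠ i}, E j) ≤ Subgroup.centralizer (V : Set G)) ∧ (∀ i j, ∃ t ∈ (T : Subgroup G), (E i).map (MulAut.conj t).toMonoidHom = E j) ∧ (V ⊓ Subgroup.centralizer ((⨆ i, E i : Subgroup G) : Set G)) ⊔ (⨆ i, ⁅V, E i⁆) = V ∧ (∀ i j, i ≠ j → ⁅⁅V, E i⁆, E j⁆ = ⊥) ∧ ∀ i, ∃ n : ℕ, 1 ≤ n ∧ ((∃ (F : Type) (_ : Field F) (_ : Fintype F), Fintype.card F =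 p ^ n ∧ (∃ _ : ((Subgroup.centralizer (V : Set G)).subgroupOf (E i)).Normal, Nonempty (↥(E i) ⧸ (Subgroup.centralizer (V : Set G)).subgroupOf (E i) ≃* Matrix.SpecialLinearGroup (Fin 2) F)) ∧ Cfsg.ActsAsSL2OnSection F ⊤ (E i) ⁅V, E i⁆ (⁅V, E i⁆ ⊓ Subgroup.centralizer ((E i : Subgroup G) : Set G))) ∨ (p = 2 ∧ (∃ _ : ((Subgroup.centralizer (V : Set G)).subgroupOf (E i)).Normal, Nonempty (↥(E i) ⧸ (Subgroup.centralizer (V : Set G)).subgroupOf (E i) ≃* Equiv.Perm (Fin (2 ^ n + 1)))) ∧ Cfsg.ActsAsOddPermModuleOnSection (2 ^ n + 1) ⊤ (E i) ⁅V, E i⁆ (⁅V, E i⁆ ⊓ Subgroup.centralizer ((E i : Subgroup G) : Set G))))  := by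
  obtain ⟨hr, hEP, hcomm, hdir, -, hconj, hdec, hcc, hnat⟩ := h
  set E : Fin r → Subgroup G := fun i => (Eh i).comap (piH V) with hE
  have hmap : ∀ i, (E i).map (piH V) = Eh i := fun i => map_comap_piH V (hEP i)
  have hCE : ∀ i, centralizer (V : Set G) ≤ E i := fun i => centralizer_le_comap_piH V (Eh i)
  have hmapsup : (⨆ i, E i).map (piH V) = ⨆ i, Eh i := by
    rw [Subgroup.map_iSup]
    exact iSup_congr hmap
  have hVE : ∀ i, ⁅V, E i⁆ ≤ V := fun i => commutator_le_of_le V le_rfl (E i)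
  have hkerle : ∀ K : Subgroup G, K.map (piH V) = ⊥ → K ≤ centralizer (V : Set G) := by
    intro K hK
    rw [← ker_piH V]
    exact (Subgroup.map_eq_bot_iff K).mp hK
  refine ⟨r, E, hCE, hJTC, ?_, ?_, ?_, ?_, ?_, ?_, ?_⟩
  · -- ⨆ E i = J ⊔ C
    have h1 : ((⨆ i, E i).map (piH V)).comap (piH V) = (⨆ i, E i) ⊔ centralizer (V : Set G) := comap_map_piH V _
    have h2 : centralizer (V : Set G) ≤ ⨆ i, E i := (hCE ⟨0, hr⟩).trans (le_iSup E ⟨0, hr⟩)
    rw [sup_of_le_left h2, hmapsup, hJ, comap_map_piH] at h1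
    exact h1.symm
  · intro i j hij
    apply hkerle
    rw [Subgroup.map_commutator, hmap, hmap]
    exact hcomm i j hij
  · intro i
    apply hkerle
    rw [eq_bot_iff]
    refine le_trans (Subgroup.map_inf_le _ _ _) ?_
    rw [hmap, Subgroup.map_iSup]
    have : (⨆ j, (⨆ (_ : j ∈ {j | j ≠ i}), E j).map (piH V)) = ⨆ j ∈ {j | j ≠ i}, Eh j := by
      apply iSup_congr
      intro j
      rw [Subgroup.map_iSup]
      apply iSup_congr
      intro _
      exact hmap j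
    rw [this, hdir i]
  · intro i j
    obtain ⟨th, ⟨t, ht, rfl⟩, hth⟩ := hconj i j
    refine ⟨t, ht, ?_⟩
    show ((Eh i).comap (piH V)).map (MulAut.conj t).toMonoidHom = (Eh j).comap (piH V)
    rw [← comap_piH_conj, hth]
  · -- decomposition of V
    apply hatH_injective (sup_le inf_le_left (iSup_le hVE)) le_rfl
    rw [hatH_sup inf_le_left (iSup_le hVE), hatH_iSup _ hVE, ← Vhat_inf_centralizer_map, hmapsup, hatH_self]
    have : (⨆ i, hatH V ⁅V, E i⁆) = ⨆ i, ⁅Vhat V, Eh i⁆ := by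
      apply iSup_congr
      intro i
      rw [← commutator_Vhat_map, hmap]
    rw [this]
    exact hdec
  · intro i j hij
    apply hatH_injective (commutator_le_of_le V (hVE i) (E j)) bot_le
    rw [hatH_bot, ← commutator_hatH_map V (hVE i), ← commutator_Vhat_map, hmap, hmap]
    exact hcc i j hij
  · intro i
    obtain ⟨n, hn, hcase⟩ := hnat i
    refine ⟨n, hn, ?_⟩
    have hnorm : ((centralizer (V : Set G)).subgroupOf (E i)).Normal := centralizer_subgroupOf_normal V (E i)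
    have e1 : ↥(E i) ⧸ (centralizer (V : Set G)).subgroupOf (E i) ≃* ↥(Eh i) :=
      (mapEquiv V (E i)).trans (MulEquiv.subgroupCongr (hmap i))
    have hU₀ : ⁅Vhat V, Eh i⁆ ⊓ centralizer ((Eh i : Subgroup (Hol V)) : Set (Hol V)) =
        hatH V (⁅V, E i⁆ ⊓ centralizer ((E i : Subgroup G) : Set G)) := by
      rw [← hatH_inf_centralizer_map, hmap, ← commutator_Vhat_map, hmap]
    have hU : ⁅Vhat V, Eh i⁆ = hatH V ⁅V, E i⁆ := by rw [← commutator_Vhat_map, hmap]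
    rcases hcase with ⟨F, iF, iFt, hF, ⟨e⟩, hact⟩ | ⟨hp2, ⟨e⟩, hact⟩
    · left
      refine ⟨F, iF, iFt, hF, ⟨hnorm, ⟨e1.trans e⟩⟩, ?_⟩
      apply actsSL2_of_hat V (hVE i) (inf_le_left.trans (hVE i))
      rw [hmap, ← hU₀, ← hU]
      exact hact
    · right
      refine ⟨hp2, ⟨hnorm, ⟨e1.trans e⟩⟩, ?_⟩
      apply actsPerm_of_hat V (hVE i) (inf_le_left.trans (hVE i))
      rw [hmap, ← hU₀, ← hU]
      exact hact

end Cfsg.Agent.S2981P
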