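import Mathlib
import Cfsg.Agent.Helper20.S2981HypHat
import Cfsg.Agent.Helper20.S2981Transfer

/-!
# S2981: the glue

`result_of_partB`: the frozen statement of S2981 from part (B) (a family in `Hol V` with the conclusion of S3000 whose join
is the image of `J(G)`), `V = Ω₁ Z(O_p(G))`.
-/

set_option autoImplicit false

namespace Cfsg.Agent.S2981P

open Cfsg Subgroup
open Cfsg.Agent.S3000P
open scoped commutatorElement

/-- the frozen S2981 from part (B) -/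
theorem result_of_partB {G : Type*} [Group G] [Finite G] {p : ℕ} [Fact p.Prime] (hmin : Cfsg.IsPMinimal p G) (hG : Subgroup.centralizer (Cfsg.pCore p G : Set G) ≤ Cfsg.pCore p G) (T : Sylow p G) (hne : Cfsg.cStarStarOf p (T : Subgroup G) ≠ ⊤) 
    (hB : ∀ (hVn : (Cfsg.omegaOneCenter p (Cfsg.pCore p G)).Normal) (M : Subgroup G)
      (_ : Setting p T (Cfsg.omegaOneCenter p (Cfsg.pCore p G)) M),
      ∃ (r : ℕ) (Eh : Fin r → Subgroup (Hol (Cfsg.omegaOneCenter p (Cfsg.pCore p G)))),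
        ConclFam p (Vhat (Cfsg.omegaOneCenter p (Cfsg.pCore p G)))
          (@Phat G _ (Cfsg.omegaOneCenter p (Cfsg.pCore p G)) hVn)
          ((T : Subgroup G).map (@piH G _ (Cfsg.omegaOneCenter p (Cfsg.pCore p G)) hVn)) r Eh ∧
        (⨆ i, Eh i) = (Cfsg.thompsonSubgroup p G).map (@piH G _ (Cfsg.omegaOneCenter p (Cfsg.pCore p G)) hVn)) :
    ∃ (r : ℕ) (E : Fin r → Subgroup G), (∀ i, Subgroup.centralizer (Cfsg.omegaOneCenter p (Cfsg.pCore p G) : Set G) ≤ E i) ∧ Cfsg.thompsonSubgroup p G ⊔ (T : Subgroup G) ⊔ Subgroup.centralizer (Cfsg.omegaOneCenter p (Cfsg.pCore p G) : Set G) = ⊤ ∧ (⨆ i, E i) = Cfsg.thompsonSubgroup p G ⊔ Subgroup.centralizer (Cfsg.omegaOneCenter p (Cfsg.pCore p G) : Set G) ∧ (∀ i j, i ≠ j → ⁅E i, E j⁆ ≤ Subgroup.centralizer (Cfsg.omegaOneCenter p (Cfsg.pCore p G) : Set G)) ∧ (∀ i, E i ⊓ (⨆ j ∈ {j | j ≠ i}, E j) ≤ Subgroup.centralizer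 (Cfsg.omegaOneCenter p (Cfsg.pCore p G) : Set G)) ∧ (∀ i j, ∃ t ∈ (T : Subgroup G), (E i).map (MulAut.conj t).toMonoidHom = E j) ∧ (Cfsg.omegaOneCenter p (Cfsg.pCore p G) ⊓ Subgroup.centralizer ((⨆ i, E i : Subgroup G) : Set G)) ⊔ (⨆ i, ⁅Cfsg.omegaOneCenter p (Cfsg.pCore p G), E i⁆) = Cfsg.omegaOneCenter p (Cfsg.pCore p G) ∧ (∀ i j, i ≠ j → ⁅⁅Cfsg.omegaOneCenter p (Cfsg.pCore p G), E i⁆, E j⁆ = ⊥) ∧ ∀ i, ∃ n : ℕ, 1 ≤ n ∧ ((∃ (F : Type) (_ : Field F) (_ : Fintype F), Fintype.card F = p ^ n ∧ (∃ _ : ((Subgroup.centralizer (Cfsg.omegaOneCenter p (Cfsg.pCore p G) : Set G)).subgroupOf (E i)).Normal, Nonempty (↥(E i) ⧸ (Subgroup.centralizer (Cfsg.omegaOneCenter p (Cfsg.pCore p G) : Set G)).subgroupOf (E i) ≃* Matrix.SpecialLinearGroup (Fin 2) F)) ∧ Cfsg.ActsAsSL2OnSection F ⊤ (E i) ⁅Cfsg.omegaOneCenter p (Cfsg.pCore p G), E i⁆ (⁅Cfsg.omegaOneCenter p (Cfsg.pCore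 p G), E i⁆ ⊓ Subgroup.centralizer ((E i : Subgroup G) : Set G))) ∨ (p = 2 ∧ (∃ _ : ((Subgroup.centralizer (Cfsg.omegaOneCenter p (Cfsg.pCore p G) : Set G)).subgroupOf (E i)).Normal, Nonempty (↥(E i) ⧸ (Subgroup.centralizer (Cfsg.omegaOneCenter p (Cfsg.pCore p G) : Set G)).subgroupOf (E i) ≃* Equiv.Perm (Fin (2 ^ n + 1)))) ∧ Cfsg.ActsAsOddPermModuleOnSection (2 ^ n + 1) ⊤ (E i) ⁅Cfsg.omegaOneCenter p (Cfsg.pCore p G), E i⁆ (⁅Cfsg.omegaOneCenter p (Cfsg.pCore p G), E i⁆ ⊓ Subgroup.centralizer ((E i : Subgroup G) : Set G)))) := by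
  obtain ⟨M, S⟩ := setting_of_hyp hmin hG T hne
  have hVn := S.hVn
  obtain ⟨r, Eh, h, hJ⟩ := hB hVn M S
  exact transfer _ T h hJ S.JTC

end Cfsg.Agent.S2981P
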