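import Mathlib
import Cfsg.Agent.Helper20.S2981HypHat

/-!
# S2981: Thompson replacement

For `A ∈ 𝒜(G)` and `B ≤ A` with `|B||C_V(B)| = |A||C_V(A)|` the subgroup `B C_V(B)` lies in `𝒜(G)`; in `Hol V`: an exact
sub-offender of the image of `A` is the image of a member of `𝒜(G)`.
-/

set_option autoImplicit false

namespace Cfsg.Agent.S2981P

open Cfsg Subgroup
open Cfsg.Agent.Helper26

variable {G : Type*} [Group G] [Finite G] {p : ℕ}

/-- Thompson replacement inside `G` -/
theorem replacement {V A B : Subgroup G} (hV : IsElementaryAbelian p V)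
    (hA : A ∈ maxElementaryAbelianSubgroups p G) (hBA : B ≤ A)
    (hcard : Nat.card ↥B * Nat.card ↥(V ⊓ centralizer (B : Set G)) =
      Nat.card ↥A * Nat.card ↥(V ⊓ centralizer (A : Set G))) :
    B ⊔ (V ⊓ centralizer (B : Set G)) ∈ maxElementaryAbelianSubgroups p G := by
  have hAc := (isElementaryAbelian_iff.mp hA.1).1
  set C := V ⊓ Subgroup.centralizer (B : Set G) with hC
  have hBEA : IsElementaryAbelian p B := isElementaryAbelian_of_le hA.1 hBA
  have hCEA : IsElementaryAbelian p C := isElementaryAbelian_of_le hV inf_le_left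
  have hcomm : ∀ b ∈ B, ∀ c ∈ C, b * c = c * b := by
    intro b hb c hc
    exact (Subgroup.mem_centralizer_iff.mp hc.2 b hb)
  have hEA : IsElementaryAbelian p (B ⊔ C) := isElementaryAbelian_sup hBEA hCEA hcomm
  have hnorm : B ≤ Subgroup.normalizer (C : Set G) := by
    intro b hb
    rw [Subgroup.mem_normalizer_iff]
    intro c
    constructor
    · intro hc
      have : b * c * b⁻¹ = c := by rw [hcomm b hb c hc]; group
      rwa [this]
    · intro hc
      have hc' : b⁻¹ * (b * c * b⁻¹) * b = b * c * b⁻¹ := by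
        have := hcomm b hb _ hc
        calc b⁻¹ * (b * c * b⁻¹) * b = b⁻¹ * ((b * c * b⁻¹) * b) := by group
          _ = b⁻¹ * (b * (b * c * b⁻¹)) := by rw [this]
          _ = b * c * b⁻¹ := by group
      have : c = b * c * b⁻¹ := by
        rw [← hc']; group
      rwa [this]
  have h2 := card_sup_mul_card_inf hnorm
  have h3 : B ⊓ C ≤ V ⊓ Subgroup.centralizer (A : Set G) := by
    intro x hx
    refine Subgroup.mem_inf.mpr ⟨hx.2.1, ?_⟩
    rw [Subgroup.mem_centralizer_iff]
    intro a ha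
    exact hAc a ha x (hBA hx.1)
  have h4 : Nat.card ↥(B ⊓ C) ≤ Nat.card ↥(V ⊓ Subgroup.centralizer (A : Set G)) :=
    Subgroup.card_le_of_le h3
  have h5 : Nat.card ↥A ≤ Nat.card ↥(B ⊔ C) := by
    by_contra hlt
    rw [not_le] at hlt
    have hpos : 0 < Nat.card ↥(V ⊓ Subgroup.centralizer (A : Set G)) := Nat.card_pos
    have : Nat.card ↥(B ⊔ C) * Nat.card ↥(B ⊓ C) <
        Nat.card ↥A * Nat.card ↥(V ⊓ Subgroup.centralizer (A : Set G)) :=
      Nat.mul_lt_mul_of_lt_of_le hlt h4 hpos
    rw [h2, hcard] at this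
    exact lt_irrefl _ this
  exact ⟨hEA, fun B' hB' => (hA.2 B' hB').trans h5⟩

/-- an exact sub-offender of the image of `A ∈ 𝒜(G)` is the image of a member of `𝒜(G)` -/
theorem exact_suboffender (V : Subgroup G) [V.Normal] (hV : IsElementaryAbelian p V) {A : Subgroup G}
    (hA : A ∈ maxElementaryAbelianSubgroups p G) {Bh : Subgroup (Hol V)} (hBh : Bh ≤ A.map (piH V))
    (hcard : Nat.card ↥Bh * Nat.card ↥(Vhat V ⊓ centralizer ((Bh : Subgroup (Hol V)) : Set (Hol V))) =
      Nat.card ↥(A.map (piH V)) *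
        Nat.card ↥(Vhat V ⊓ centralizer ((A.map (piH V) : Subgroup (Hol V)) : Set (Hol V)))) :
    ∃ A' ∈ maxElementaryAbelianSubgroups p G, A'.map (piH V) = Bh := by
  set B : Subgroup G := A ⊓ Bh.comap (piH V) with hB
  have hBmap : B.map (piH V) = Bh := by
    apply le_antisymm
    · rintro _ ⟨b, hb, rfl⟩
      exact hb.2
    · intro x hx
      obtain ⟨a, ha, rfl⟩ := hBh hx
      exact ⟨a, ⟨ha, hx⟩, rfl⟩
  have hBC : B ⊓ centralizer (V : Set G) = A ⊓ centralizer (V : Set G) := by
    apply le_antisymm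
    · exact inf_le_inf_right _ inf_le_left
    · refine le_inf (le_inf inf_le_left ?_) inf_le_right
      exact inf_le_right.trans (centralizer_le_comap_piH V Bh)
  have c1 := card_map_piH V B
  have c2 := card_map_piH V A
  rw [hBmap, hBC] at c1
  have c3 : Nat.card ↥(Vhat V ⊓ centralizer ((Bh : Subgroup (Hol V)) : Set (Hol V))) =
      Nat.card ↥(V ⊓ centralizer (B : Set G)) := by
    rw [← hBmap, Vhat_inf_centralizer_map, card_hatH V inf_le_left]
  have c4 : Nat.card ↥(Vhat V ⊓ centralizer ((A.map (piH V) : Subgroup (Hol V)) : Set (Hol V))) =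
      Nat.card ↥(V ⊓ centralizer (A : Set G)) := by
    rw [Vhat_inf_centralizer_map, card_hatH V inf_le_left]
  rw [c3, c4] at hcard
  have hcard' : Nat.card ↥B * Nat.card ↥(V ⊓ centralizer (B : Set G)) =
      Nat.card ↥A * Nat.card ↥(V ⊓ centralizer (A : Set G)) := by
    rw [← c1, ← c2]
    calc _ = Nat.card ↥(A ⊓ centralizer (V : Set G)) *
          (Nat.card ↥Bh * Nat.card ↥(V ⊓ centralizer (B : Set G))) := by ring
      _ = Nat.card ↥(A ⊓ centralizer (V : Set G)) *
          (Nat.card ↥(A.map (piH V)) * Nat.card ↥(V ⊓ centralizer (A : Set G))) := by rw [hcard]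
      _ = _ := by ring
  refine ⟨B ⊔ (V ⊓ centralizer (B : Set G)), replacement hV hA inf_le_left hcard', ?_⟩
  rw [Subgroup.map_sup, hBmap]
  have hVC : V ≤ centralizer (V : Set G) := by
    intro x hx
    rw [mem_centralizer_iff]
    intro y hy
    exact isElementaryAbelian_commute hV hy hx
  have : (V ⊓ centralizer (B : Set G)).map (piH V) = ⊥ := by
    rw [Subgroup.map_eq_bot_iff, ker_piH]
    exact inf_le_left.trans hVC
  rw [this, sup_bot_eq]

end Cfsg.Agent.S2981P
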