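import Mathlib
import Cfsg.Agent.Helper20.S2981Glue
import Cfsg.Agent.Helper20.S2981Repl
import Cfsg.Agent.Helper25.S2981BDefs
import Cfsg.Agent.Helper6.S3000EXOFF
import Cfsg.Agent.Helper12.S3000F2
import Cfsg.Agent.Helper12.S3000OFFQ
import Cfsg.Agent.Helper26.Thompson

/-!
# S2981: the glue between part (B) (`PARTB`, helper25/helper29) and `result_of_partB`

`hB_of_partB`: from the interface theorem `PARTB` (as a hypothesis, for the group `Hol V`) the hypothesis `hB` of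
`result_of_partB`; `result_of_PARTB`: the frozen statement from `PARTB`.
-/

set_option autoImplicit false

namespace Cfsg.Agent.S2981P

open Cfsg Subgroup
open Cfsg.Agent.S2789P Cfsg.Agent.S2999P Cfsg.Agent.S3000P
open scoped commutatorElement

variable {G : Type*} [Group G] [Finite G] {p : ℕ} [Fact p.Prime] {T : Sylow p G} {V M : Subgroup G}

/-- the image of a member of `𝒜(G)` is an EXACT offender on `Vhat V`. -/
theorem glueB_aux_off [hVn : V.Normal] (hV : IsElementaryAbelian p V) {That : Sylow p ↥(Phat V)} {Mhat : Subgroup ↥(Phat V)}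
    (Hy : Hyp p (Vhat V) (Phat V) That Mhat) {A : Subgroup G} (hA : A ∈ maxElementaryAbelianSubgroups p G) :
    Off p (Vhat V) (Phat V) (A.map (piH V)) := by
  have hle : A.map (piH V) ≤ Phat V := by
    rw [Phat_eq_map_top]
    exact Subgroup.map_mono le_top
  have hel : IsElementaryAbelian p (A.map (piH V)) := Cfsg.Agent.Helper26.isElementaryAbelian_map (piH V) hA.1
  refine ⟨hle, hel, le_antisymm (F2 Hy _ hle hel) ?_⟩
  have h := (bestOffender_map hV hA).1 ⊥ bot_le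
  have e1 : Nat.card ↥(⊥ : Subgroup (Hol V)) = 1 := Subgroup.card_bot
  have e2 : Vhat V ⊓ Subgroup.centralizer (((⊥ : Subgroup (Hol V)) : Subgroup (Hol V)) : Set (Hol V)) = Vhat V := by
    rw [Subgroup.coe_bot, Subgroup.centralizer_eq_top_iff_subset.2 (by simp), inf_top_eq]
  rw [e1, e2, one_mul] at h
  exact h

omit [Finite G] [Fact p.Prime] in
/-- the image of `J(G)` is normalised by `Phat V`. -/
theorem glueB_aux_J_norm [hVn : V.Normal] {x : Hol V} (hx : x ∈ Phat V) :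
    cjs x ((thompsonSubgroup p G).map (piH V)) = (thompsonSubgroup p G).map (piH V) := by
  obtain ⟨g, rfl⟩ := hx
  unfold cjs
  rw [← map_piH_conj]
  congr 1
  have hc : (thompsonSubgroup p G).Characteristic := Cfsg.Agent.Helper26.thompsonSubgroup_characteristic p
  exact (Subgroup.characteristic_iff_map_eq.1 hc) (MulAut.conj g)

/-- the hypothesis `hB` of `result_of_partB` from the interface theorem `PARTB` of part (B). -/
theorem hB_of_partB [hVn : V.Normal] (S : Setting p T V M)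
    (hPARTB : ∀ (That : Sylow p ↥(Phat V)) (Mhat : Subgroup ↥(Phat V)), Hyp p (Vhat V) (Phat V) That Mhat →
      (∃ A : Subgroup (Hol V), A ≤ Phat V ∧ StrictOff p (Vhat V) A) →
      ∃ (r : ℕ) (E : Fin r → Subgroup (Hol V)), PartBFam p (Vhat V) (Phat V) (TT That) r E) :
    ∃ (r : ℕ) (Eh : Fin r → Subgroup (Hol V)),
      ConclFam p (Vhat V) (Phat V) ((T : Subgroup G).map (piH V)) r Eh ∧
        (⨆ i, Eh i) = (thompsonSubgroup p G).map (piH V) := by
  obtain ⟨That, Mhat, Hy, hT, hM, hoff⟩ := exists_hypHat S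
  have hoff' := EXOFF Hy hoff
  obtain ⟨r, Eh, hC, hnorm, hB2, hB3⟩ := hPARTB That Mhat Hy hoff'
  refine ⟨r, Eh, ?_, ?_⟩
  · have e : TT That = (T : Subgroup G).map (piH V) := hT
    rw [← e]
    exact hC
  · apply le_antisymm
    · -- `N ≤ Ĵ`
      obtain ⟨A, hA, hAC⟩ := S.exists_offender
      have hoffA := glueB_aux_off S.hV Hy hA
      have hne : A.map (piH V) ≠ ⊥ := by
        intro h
        apply hAC
        rw [← ker_piH (V := V)]
        exact (Subgroup.map_eq_bot_iff _).1 h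
      obtain ⟨B₀, hB₀le, hB₀⟩ := OFFQ_aux_strict_le Hy hoffA hne
      have hB₀P : B₀ ≤ Phat V := hB₀le.trans hoffA.le
      have hval : Nat.card ↥B₀ * Nat.card ↥(Vhat V ⊓ centralizer ((B₀ : Subgroup (Hol V)) : Set (Hol V))) =
          Nat.card ↥(A.map (piH V)) *
            Nat.card ↥(Vhat V ⊓ centralizer ((A.map (piH V) : Subgroup (Hol V)) : Set (Hol V))) := by
        have h1 : Nat.card ↥B₀ * Nat.card ↥(fixV (Vhat V) B₀) = Nat.card ↥(Vhat V) :=
          le_antisymm (F2 Hy _ hB₀P hB₀.hA) hB₀.hi1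
        have h2 := hoffA.val
        unfold fixV at h1 h2
        rw [h1, h2]
      obtain ⟨A', hA', hA'map⟩ := exact_suboffender V S.hV hA hB₀le hval
      have hB₀J : B₀ ≤ (thompsonSubgroup p G).map (piH V) := by
        rw [← hA'map]
        exact Subgroup.map_mono (le_sSup hA')
      refine (hB3 B₀ hB₀P hB₀).trans ?_
      apply iSup_le
      intro x
      rw [← glueB_aux_J_norm (p := p) x.2]
      exact Subgroup.map_mono hB₀J
    · -- `Ĵ ≤ N`
      rw [Subgroup.map_le_iff_le_comap]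
      apply sSup_le
      intro A' hA'
      rw [← Subgroup.map_le_iff_le_comap]
      exact hB2 _ (glueB_aux_off S.hV Hy hA')

/-- the frozen S2981 from the interface theorem `PARTB` of part (B) (as a hypothesis, for all finite groups in the universe of `G`). -/
theorem result_of_PARTB {G : Type*} [Group G] [Finite G] {p : ℕ} [Fact p.Prime] (hmin : Cfsg.IsPMinimal p G) (hG : Subgroup.centralizer (Cfsg.pCore p G : Set G) ≤ Cfsg.pCore p G) (T : Sylow p G) (hne : Cfsg.cStarStarOf p (T : Subgroup G) ≠ ⊤)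
    (hPARTB : ∀ (hVn : (Cfsg.omegaOneCenter p (Cfsg.pCore p G)).Normal)
      (That : Sylow p ↥(@Phat G _ (Cfsg.omegaOneCenter p (Cfsg.pCore p G)) hVn))
      (Mhat : Subgroup ↥(@Phat G _ (Cfsg.omegaOneCenter p (Cfsg.pCore p G)) hVn)),
      Hyp p (Vhat (Cfsg.omegaOneCenter p (Cfsg.pCore p G))) (@Phat G _ (Cfsg.omegaOneCenter p (Cfsg.pCore p G)) hVn) That Mhat →
      (∃ A : Subgroup (Hol (Cfsg.omegaOneCenter p (Cfsg.pCore p G))),
        A ≤ @Phat G _ (Cfsg.omegaOneCenter p (Cfsg.pCore p G)) hVn ∧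
          StrictOff p (Vhat (Cfsg.omegaOneCenter p (Cfsg.pCore p G))) A) →
      ∃ (r : ℕ) (E : Fin r → Subgroup (Hol (Cfsg.omegaOneCenter p (Cfsg.pCore p G)))),
        PartBFam p (Vhat (Cfsg.omegaOneCenter p (Cfsg.pCore p G)))
          (@Phat G _ (Cfsg.omegaOneCenter p (Cfsg.pCore p G)) hVn) (TT That) r E) :
    ∃ (r : ℕ) (E : Fin r → Subgroup G), (∀ i, Subgroup.centralizer (Cfsg.omegaOneCenter p (Cfsg.pCore p G) : Set G) ≤ E i) ∧ Cfsg.thompsonSubgroup p G ⊔ (T : Subgroup G) ⊔ Subgroup.centralizer (Cfsg.omegaOneCenter p (Cfsg.pCore p G) : Set G) = ⊤ ∧ (⨆ i, E i) = Cfsg.thompsonSubgroup p G ⊔ Subgroup.centralizer (Cfsg.omegaOneCenter p (Cfsg.pCore p G) : Set G) ∧ (∀ i j, i ≠ j → ⁅E i, E j⁆ ≤ Subgroup.centralizer (Cfsg.omegaOneCenter p (Cfsg.pCore p G) : Set G)) ∧ (∀ i, E i ⊓ (⨆ j ∈ {j | j ≠ i}, E j) ≤ Subgroup.centralizer (Cfsg.omegaOneCenter p (Cfsg.pCore p G) : Set G)) ∧ (∀ i j, ∃ t ∈ (T : Subgroup G), (E i).map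 (MulAut.conj t).toMonoidHom = E j) ∧ (Cfsg.omegaOneCenter p (Cfsg.pCore p G) ⊓ Subgroup.centralizer ((⨆ i, E i : Subgroup G) : Set G)) ⊔ (⨆ i, ⁅Cfsg.omegaOneCenter p (Cfsg.pCore p G), E i⁆) = Cfsg.omegaOneCenter p (Cfsg.pCore p G) ∧ (∀ i j, i ≠ j → ⁅⁅Cfsg.omegaOneCenter p (Cfsg.pCore p G), E i⁆, E j⁆ = ⊥) ∧ ∀ i, ∃ n : ℕ, 1 ≤ n ∧ ((∃ (F : Type) (_ : Field F) (_ : Fintype F), Fintype.card F = p ^ n ∧ (∃ _ : ((Subgroup.centralizer (Cfsg.omegaOneCenter p (Cfsg.pCore p G) : Set G)).subgroupOf (E i)).Normal, Nonempty (↥(E i) ⧸ (Subgroup.centralizer (Cfsg.omegaOneCenter p (Cfsg.pCore p G) : Set G)).subgroupOf (E i) ≃* Matrix.SpecialLinearGroup (Fin 2) F)) ∧ Cfsg.ActsAsSL2OnSection F ⊤ (E i) ⁅Cfsg.omegaOneCenter p (Cfsg.pCore p G), E i⁆ (⁅Cfsg.omegaOneCenter p (Cfsg.pCore p G), E i⁆ ⊓ Subgroup.centralizer ((E i : Subgroup G) : Set G))) ∨ (p = 2 ∧ (∃ _ : ((Subgroup.centralizer (Cfsg.omegaOneCenter p (Cfsg.pCore p G) : Set G)).subgroupOf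 (E i)).Normal, Nonempty (↥(E i) ⧸ (Subgroup.centralizer (Cfsg.omegaOneCenter p (Cfsg.pCore p G) : Set G)).subgroupOf (E i) ≃* Equiv.Perm (Fin (2 ^ n + 1)))) ∧ Cfsg.ActsAsOddPermModuleOnSection (2 ^ n + 1) ⊤ (E i) ⁅Cfsg.omegaOneCenter p (Cfsg.pCore p G), E i⁆ (⁅Cfsg.omegaOneCenter p (Cfsg.pCore p G), E i⁆ ⊓ Subgroup.centralizer ((E i : Subgroup G) : Set G)))) :=
  result_of_partB hmin hG T hne (fun hVn M S => @hB_of_partB G _ _ p _ T _ M hVn S (hPARTB hVn))

end Cfsg.Agent.S2981P
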