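import Mathlib
import Cfsg.Agent.Helper29.TV2Q2Defs
import Cfsg.Agent.Helper24.TV2_DE
import Cfsg.Agent.Helper24.TV2_ZB
import Cfsg.Agent.Helper10.S2981Q2TAU2
import Cfsg.Agent.Helper29.S2981Q2_PTV

/-! Board `s2981pieces`, row Q2_OFFST: the inductive step of `OFF2` (DUPLICATE of `Cfsg.Agent.Helper29.S2981Q2_OFFST`, which is the canonical one; names here are suffixed to avoid any clash). -/

set_option autoImplicit false

namespace Cfsg.Agent.TV2

variable {P : Type*} [Group P] [Finite P] {W : Type*} [AddCommGroup W] [Module (ZMod 2) W] [Finite W] [DistribMulAction P W]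

omit [Finite P] in
/-- in a subgroup of exponent 2 any two elements commute. -/
theorem OFFST20_aux_comm (B : Subgroup P) (hexp : ∀ b ∈ B, b * b = 1) {a b : P} (ha : a ∈ B) (hb : b ∈ B) :
    a * b = b * a := by
  have hai : a⁻¹ = a := inv_eq_of_mul_eq_one_left (hexp a ha)
  have hbi : b⁻¹ = b := inv_eq_of_mul_eq_one_left (hexp b hb)
  have h := eq_inv_of_mul_eq_one_left (hexp _ (B.mul_mem ha hb))
  rw [mul_inv_rev, hai, hbi] at h
  exact h

/-- Q2_OFFST: the inductive step of `OFF2`. -/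
theorem OFF2_step_h20 (C : Ctx P W) (B : Subgroup P) (hBT : B ≤ (C.T : Subgroup P)) (hexp : ∀ b ∈ B, b * b = 1) {τ : P} (hτB : τ ∈ B)
    (hτ : τ ∈ C.D) : ∃ B' : Subgroup P, B' ≤ B ∧ τ ∉ B' ∧ (∀ b ∈ B, b ∈ B' ∨ τ * b ∈ B') ∧ ∃ w ∈ fixS W B', τ • w ≠ w := by
  have hτM : τ ∈ C.M := C.hTM (hBT hτB)
  obtain ⟨y, hy, hB1, hy', hne, hcen, huniq⟩ := TAU2 C hτ hτM
  obtain ⟨z, hz⟩ := ZB_exists C
  have hτtv : Tv W τ := DE_tv C hτ
  have hytv : Tv W y := DE_tv C hy.1
  have hττ : τ * τ = 1 := hexp τ hτB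
  have hτinv : τ⁻¹ = τ := inv_eq_of_mul_eq_one_left hττ
  have hτw : τ • (z + cen W y) = z + cen W y + cen W τ := by
    rw [PTV C hz hy hτM, hcen, add_assoc]
  have hτw_ne : τ • (z + cen W y) ≠ z + cen W y := by
    rw [hτw]
    intro h
    rw [add_eq_left] at h
    exact hτtv.cen_ne_zero h
  refine ⟨B ⊓ MulAction.stabilizer P (z + cen W y), inf_le_left, ?_, ?_, z + cen W y, ?_, hτw_ne⟩
  · intro h
    exact hτw_ne (MulAction.mem_stabilizer_iff.1 (Subgroup.mem_inf.1 h).2)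
  · intro b hb
    have hbM : b ∈ C.M := C.hTM (hBT hb)
    have hbτ : b * τ = τ * b := OFFST20_aux_comm B hexp hb hτB
    have hbyD : b * y * b⁻¹ ∈ C.D1 := DE_conj_D1 C hy hbM
    have hB2 : TV2.B W τ (b * y * b⁻¹) = 1 := by
      have h := Tv.B_conj hτtv hytv b
      have e : b * τ * b⁻¹ = τ := by rw [hbτ, mul_inv_cancel_right]
      rw [e] at h
      rw [h]
      exact hB1
    rcases huniq _ hbyD hB2 with h | h
    · left
      refine Subgroup.mem_inf.2 ⟨hb, ?_⟩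
      rw [MulAction.mem_stabilizer_iff, PTV C hz hy hbM, h]
    · right
      refine Subgroup.mem_inf.2 ⟨B.mul_mem hτB hb, ?_⟩
      rw [MulAction.mem_stabilizer_iff, mul_smul, PTV C hz hy hbM, h, PTV C hz hy' hτM]
      have e : τ * (τ * y * τ⁻¹) * τ⁻¹ = y := by
        rw [hτinv]
        calc τ * (τ * y * τ) * τ = (τ * τ) * y * (τ * τ) := by group
          _ = y := by rw [hττ, one_mul, mul_one]
      rw [e]
  · intro b hb
    exact MulAction.mem_stabilizer_iff.1 (Subgroup.mem_inf.1 hb).2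

end Cfsg.Agent.TV2
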