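import Mathlib
import Cfsg.Agent.Helper29.TV2Q2Defs
import Cfsg.Agent.Helper24.TV2_DE
import Cfsg.Agent.Helper24.TV2_ZB
import Cfsg.Agent.Helper11.TV2_CB
import Cfsg.Agent.Helper19.TV2_DUAL

/-! Board `s2981pieces`, row Q2_TVDB: `B` is symmetric between `D1` and any transvection outside `M`. -/

set_option autoImplicit false

namespace Cfsg.Agent.TV2

variable {P : Type*} [Group P] [Finite P] {W : Type*} [AddCommGroup W] [Module (ZMod 2) W] [Finite W] [DistribMulAction P W]

/-- in `ZMod 2`, a product equal to `1` has left factor `1`. -/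
theorem TVDB_aux_mul_eq_one {x y : ZMod 2} (h : x * y = 1) : x = 1 := by
  rcases zmod2_cases x with rfl | rfl
  · rw [zero_mul] at h; exact absurd h zero_ne_one
  · rfl

/-- one direction, for two contexts with a common base vector `z`. -/
theorem TVDB_aux_half (C C' : Ctx P W) {z : W} (hz : C.IsBase z) (hz' : C'.IsBase z) {e d' : P}
    (he : e ∈ C.D1) (hd' : d' ∈ C'.D1) (h : B W d' e = 1) : B W e d' = 1 := by
  have he_tv : Tv W e := DE_tv C he.1
  have hd_tv : Tv W d' := DE_tv C' hd'.1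
  have hfe : fn W e z = 1 := ZB_fn C hz he
  have hfd : fn W d' z = 1 := ZB_fn C' hz' hd'
  obtain ⟨ζ', hζ'⟩ := DUAL C'
  have hx : e * d' * e⁻¹ ∈ C'.D := DE_conj C' hd'.1 e
  -- `x ∈ M` via the functional
  have hxM : e * d' * e⁻¹ ∈ C'.M := by
    rw [CB_iff C' hz' hx, Tv.fn_conj_tv hd_tv he_tv, hfd, hfe, h]
    rfl
  -- `x ∈ M` via `ζ'`
  have h1 := (hζ' _ hx).1 hxM
  rw [Tv.cen_conj_tv hd_tv he_tv, map_add, ZMod.map_smul, smul_eq_mul] at h1
  have h2 : ζ' (cen W d') = 1 := by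
    apply zmod2_ne_zero
    intro h0
    exact hd'.2 ((hζ' _ hd'.1).2 h0)
  rw [h2] at h1
  have h3 : B W e d' * ζ' (cen W e) = 1 := by
    rcases zmod2_cases (B W e d' * ζ' (cen W e)) with h0 | h0
    · rw [h0] at h1; exact absurd h1 (by decide)
    · exact h0
  exact TVDB_aux_mul_eq_one h3

/-- Q2_TVDB: `B` is symmetric between `D1` and any transvection outside `M`. -/
theorem TVD_B (C : Ctx P W) {e d' : P} (he : e ∈ C.D1) (hd' : Tv W d') (hd'M : d' ∉ C.M) : B W e d' = B W d' e := by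
  obtain ⟨z, hz⟩ := ZB_exists C
  have hz' : (C.withTv d' hd').IsBase z := Ctx.withTv_isBase C d' hd' hz
  have hd1 : d' ∈ (C.withTv d' hd').D1 := ⟨DE_a_mem (C.withTv d' hd'), hd'M⟩
  have k1 : B W d' e = 1 → B W e d' = 1 := TVDB_aux_half C (C.withTv d' hd') hz hz' he hd1
  have k2 : B W e d' = 1 → B W d' e = 1 := TVDB_aux_half (C.withTv d' hd') C hz' hz hd1 he
  rcases zmod2_cases (B W e d') with h0 | h0 <;> rcases zmod2_cases (B W d' e) with h1 | h1
  · rw [h0, h1]
  · have := k1 h1; rw [h0] at this; exact absurd this (by decide)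
  · have := k2 h0; rw [h1] at this; exact absurd this (by decide)
  · rw [h0, h1]

end Cfsg.Agent.TV2
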