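import Mathlib
import Cfsg.Agent.Helper29.TV2Q2Defs
import Cfsg.Agent.Helper24.TV2_DE
import Cfsg.Agent.Helper20.S2981Q2_TVDB

/-! Board `s2981pieces`, row Q2_TVD (core): every transvection of `P` lies in the class `D`; the row Q2_CTE is a hypothesis. -/

set_option autoImplicit false

namespace Cfsg.Agent.TV2

variable {P : Type*} [Group P] [Finite P] {W : Type*} [AddCommGroup W] [Module (ZMod 2) W] [Finite W] [DistribMulAction P W]

omit [Finite P] in
/-- an involution generates a `2`-group. -/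
theorem TVD_aux_isPGroup {d : P} (hdd : d * d = 1) : IsPGroup 2 ↥(Subgroup.zpowers d) := by
  rintro ⟨x, hx⟩
  obtain ⟨n, rfl⟩ := Subgroup.mem_zpowers_iff.1 hx
  refine ⟨1, ?_⟩
  apply Subtype.ext
  simp only [pow_one, Subgroup.coe_pow, Subgroup.coe_one]
  rw [← zpow_natCast, ← zpow_mul, mul_comm, zpow_mul, zpow_natCast, pow_two, hdd, one_zpow]

/-- an involution has a conjugate in the Sylow `2`-subgroup `T`. -/
theorem TVD_aux_conj_mem (T : Sylow 2 P) {d : P} (hdd : d * d = 1) : ∃ g : P, g * d * g⁻¹ ∈ (T : Subgroup P) := by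
  obtain ⟨Q, hQ⟩ := IsPGroup.exists_le_sylow (TVD_aux_isPGroup hdd)
  obtain ⟨g, hg⟩ := MulAction.exists_smul_eq P Q T
  refine ⟨g, ?_⟩
  rw [← hg, Sylow.coe_subgroup_smul]
  have hdQ : d ∈ (Q : Subgroup P) := hQ (Subgroup.mem_zpowers d)
  have := Subgroup.smul_mem_pointwise_smul d (MulAut.conj g) (Q : Subgroup P) hdQ
  simpa [MulAut.smul_def] using this

/-- Q2_TVD (core): every transvection of `P` lies in `D`; `hCTE` is the statement of row Q2_CTE. -/
theorem TVD_core (C : Ctx P W)
    (hCTE : ∀ t ∈ (C.T : Subgroup P), (∀ e ∈ C.E, t * e = e * t) → t = 1)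
    {d : P} (hd : Tv W d) : d ∈ C.D := by
  by_cases hex : ∃ e ∈ C.D1, ∃ d' ∈ (C.withTv d hd).D1, B W e d' = 1
  · obtain ⟨e, he, d', hd', h1⟩ := hex
    have he_tv : Tv W e := DE_tv C he.1
    have hd_tv : Tv W d' := DE_tv (C.withTv d hd) hd'.1
    have hdM : d' ∉ C.M := hd'.2
    have h2 : B W d' e = 1 := by rw [← TVD_B C he hd_tv hdM]; exact h1
    have hbr := braid_of_B_eq_one C.faith hd_tv he_tv h2 h1
    -- `d'` is conjugate to `e`
    have hd'D : d' ∈ C.D := by
      have e1 : d' = (e⁻¹ * d') * e * (e⁻¹ * d')⁻¹ := by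
        have : (e⁻¹ * d') * e * (e⁻¹ * d')⁻¹ = e⁻¹ * (d' * e * d'⁻¹) * e := by group
        rw [this, ← hbr]; group
      rw [e1]
      exact DE_conj C he.1 _
    obtain ⟨g, hg⟩ := hd'.1
    have hg' : d' = g * d * g⁻¹ := hg
    have e2 : d = g⁻¹ * d' * g⁻¹⁻¹ := by rw [hg']; group
    rw [e2]
    exact DE_conj C hd'D _
  · exfalso
    push Not at hex
    -- all pairs commute
    have hcomm : ∀ e ∈ C.D1, ∀ d' ∈ (C.withTv d hd).D1, d' * e = e * d' := by
      intro e he d' hd'
      have he_tv : Tv W e := DE_tv C he.1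
      have hd_tv : Tv W d' := DE_tv (C.withTv d hd) hd'.1
      have hdM : d' ∉ C.M := hd'.2
      have h1 : B W e d' = 0 := zmod2_ne_one (hex e he d' hd')
      have h2 : B W d' e = 0 := by rw [← TVD_B C he hd_tv hdM]; exact h1
      exact commute_of_B_eq_zero C.faith hd_tv he_tv h2 h1
    -- `C'.E` centralises `C.D1`
    have hE' : (C.withTv d hd).E ≤ Subgroup.centralizer (C.D1 : Set P) := by
      rw [← DE_closure_D1 (C.withTv d hd), Subgroup.closure_le]
      intro d' hd'
      rw [SetLike.mem_coe, Subgroup.mem_centralizer_iff]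
      intro e he
      exact (hcomm e he d' hd').symm
    have hdE' : d ∈ (C.withTv d hd).E := Subgroup.subset_closure (DE_a_mem (C.withTv d hd))
    have hdc : ∀ e ∈ C.D1, e * d = d * e := by
      intro e he
      exact (Subgroup.mem_centralizer_iff.1 (hE' hdE')) e he
    -- `d` centralises `C.E`
    have hE : C.E ≤ Subgroup.centralizer ({d} : Set P) := by
      rw [← DE_closure_D1 C, Subgroup.closure_le]
      intro e he
      rw [SetLike.mem_coe, Subgroup.mem_centralizer_iff]
      intro x hx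
      rw [Set.mem_singleton_iff] at hx
      subst hx
      exact (hdc e he).symm
    have hdE : ∀ e ∈ C.E, d * e = e * d := by
      intro e he
      exact (Subgroup.mem_centralizer_iff.1 (hE he)) d rfl
    have hdd : d * d = 1 := hd.mul_self C.faith
    obtain ⟨g, hg⟩ := TVD_aux_conj_mem C.T hdd
    have hN : C.E.Normal := DE_normal C
    have h1 : g * d * g⁻¹ = 1 := by
      apply hCTE _ hg
      intro e he
      have he' : g⁻¹ * e * g⁻¹⁻¹ ∈ C.E := hN.conj_mem e he g⁻¹
      have := hdE _ he'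
      calc g * d * g⁻¹ * e = g * (d * (g⁻¹ * e * g⁻¹⁻¹)) * g⁻¹ := by group
        _ = g * ((g⁻¹ * e * g⁻¹⁻¹) * d) * g⁻¹ := by rw [this]
        _ = e * (g * d * g⁻¹) := by group
    have h2 : d = 1 := by
      have : d = g⁻¹ * (g * d * g⁻¹) * g := by group
      rw [this, h1]; group
    exact hd.ne_one h2

end Cfsg.Agent.TV2
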