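import Mathlib
import Cfsg.Agent.Helper20.S2981Q2_TVDCore
import Cfsg.Agent.Helper14.S2981Q2CTE

/-! Board `s2981pieces`, row Q2_TVD: every transvection of `P` lies in the class `D`. -/

set_option autoImplicit false

namespace Cfsg.Agent.TV2

variable {P : Type*} [Group P] [Finite P] {W : Type*} [AddCommGroup W] [Module (ZMod 2) W] [Finite W] [DistribMulAction P W]

/-- Q2_TVD: EVERY transvection of `P` lies in the class `D`. -/
theorem TVD (C : Ctx P W) {d : P} (hd : Tv W d) : d ∈ C.D :=
  TVD_core C (fun _ ht hc => CTE C ht hc) hd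

end Cfsg.Agent.TV2
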