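import Mathlib
import Cfsg.Agent.Helper27.S3001TOP
import Cfsg.Agent.Helper26.Basic

/-! s3001pieces, row CHARX (core): an equivariant choice `c K ≤ K` with `c (E i₀)` a nontrivial `p'`-group gives a nontrivial
`T`-invariant `p'`-subgroup `⨆ i, c (E i)` of `P`.  `ODD0` enters as a hypothesis. -/

set_option autoImplicit false

namespace Cfsg.Agent.S3001P

open Cfsg.Agent.S2789P Cfsg.Agent.S2999P Cfsg.Agent.S3000P
open scoped commutatorElement

universe u

variable {G : Type u} [Group G] [Finite G] {p : ℕ} [Fact p.Prime] {V P : Subgroup G}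

/-- the join of finitely many pairwise elementwise commuting subgroups of order prime to `p` has order prime to `p` -/
theorem CHARX_aux_coprime {ι : Type*} (X : ι → Subgroup G)
    (hcomm : ∀ i j, i ≠ j → ∀ x ∈ X i, ∀ y ∈ X j, x * y = y * x)
    (hcop : ∀ i, (Nat.card ↥(X i)).Coprime p) (S : Finset ι) : (Nat.card ↥(⨆ i ∈ S, X i)).Coprime p := by
  classical
  induction S using Finset.induction_on with
  | empty => simp
  | insert j S hj ih =>
    rw [Finset.iSup_insert]
    have hle : X j ≤ Subgroup.normalizer ((⨆ i ∈ S, X i : Subgroup G) : Set G) := by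
      have h1 : (⨆ i ∈ S, X i) ≤ Subgroup.centralizer ((X j : Subgroup G) : Set G) := by
        apply iSup_le; intro i; apply iSup_le; intro hi
        intro y hy
        rw [Subgroup.mem_centralizer_iff]
        intro x hx
        have hne : j ≠ i := fun h => hj (h ▸ hi)
        exact hcomm j i hne x hx y hy
      intro x hx
      rw [Subgroup.mem_normalizer_iff]
      intro y
      constructor
      · intro hy
        have := Subgroup.mem_centralizer_iff.mp (h1 hy) x hx
        have e : x * y * x⁻¹ = y := by rw [this]; group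
        rwa [e]
      · intro hy
        have := Subgroup.mem_centralizer_iff.mp (h1 hy) x hx
        have e : x * y * x⁻¹ = y := by
          have h2 : y = x⁻¹ * (x * y * x⁻¹) * x := by group
          have h3 : x⁻¹ * (x * y * x⁻¹) * x = x * y * x⁻¹ := by
            calc x⁻¹ * (x * y * x⁻¹) * x = x⁻¹ * ((x * y * x⁻¹) * x) := by group
              _ = x⁻¹ * (x * (x * y * x⁻¹)) := by rw [this]
              _ = x * y * x⁻¹ := by group
          rw [← h3, ← h2]
        rwa [← e]
    have h2 := Cfsg.Agent.Helper26.card_sup_mul_card_inf hle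
    have h3 : Nat.card ↥(X j ⊔ ⨆ i ∈ S, X i) ∣ Nat.card ↥(X j) * Nat.card ↥(⨆ i ∈ S, X i) :=
      Dvd.intro _ h2
    exact Nat.Coprime.coprime_dvd_left h3 (Nat.Coprime.mul_left (hcop j) ih)

/-- CHARX with `ODD0` as a hypothesis -/
theorem CHARX_core {r : ℕ} {E : Fin r → Subgroup G} (T : Sylow p ↥P)
    (hODD0 : ∀ X : Subgroup G, X ≤ P → X ≠ ⊥ → (Nat.card ↥X).Coprime p → (∀ t ∈ TT T, cjs t X = X) →
      ⁅fixV V (TT T), P⁆ ≠ ⊥)
    (hC : ConclPBB p (V0 p V P) V P (TT T) r E) (hT : ∀ i, ∀ t ∈ TT T, ∃ j, cjs t (E i) = E j)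
    (c : Subgroup G → Subgroup G) (hc1 : ∀ K, c K ≤ K) (hc2 : ∀ (g : G) (K : Subgroup G), cjs g (c K) = c (cjs g K))
    (i₀ : Fin r) (hne : c (E i₀) ≠ ⊥) (hcop : (Nat.card ↥(c (E i₀))).Coprime p) : ⁅fixV V (TT T), P⁆ ≠ ⊥ := by
  obtain ⟨-, hEP, hcomm, -, -, hconj, -, -, -⟩ := hC
  apply hODD0 (⨆ i, c (E i))
  · exact iSup_le fun i => (hc1 (E i)).trans (hEP i)
  · intro h
    apply hne
    rw [eq_bot_iff, ← h]
    exact le_iSup (fun i => c (E i)) i₀
  · have h1 := CHARX_aux_coprime (p := p) (fun i => c (E i)) ?_ ?_ Finset.univ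
    · simpa using h1
    · intro i j hij x hx y hy
      have h2 : ⁅x, y⁆ ∈ ⁅E i, E j⁆ := Subgroup.commutator_mem_commutator (hc1 _ hx) (hc1 _ hy)
      rw [hcomm i j hij, Subgroup.mem_bot] at h2
      exact (commutatorElement_eq_one_iff_mul_comm.mp h2)
    · intro i
      obtain ⟨t, -, ht⟩ := hconj i₀ i
      have : c (E i) = cjs t (c (E i₀)) := by
        rw [hc2]
        congr 1
        exact ht.symm
      rw [this, cj_card]
      exact hcop
  · intro t ht
    have hle : cjs t (⨆ i, c (E i)) ≤ ⨆ i, c (E i) := by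
      unfold cjs
      rw [Subgroup.map_iSup]
      apply iSup_le
      intro i
      obtain ⟨j, hj⟩ := hT i t ht
      have : (c (E i)).map (MulAut.conj t).toMonoidHom = c (E j) := by
        have := hc2 t (E i)
        rw [hj] at this
        exact this
      rw [this]
      exact le_iSup (fun i => c (E i)) j
    -- equality by cardinality
    have hcard : Nat.card ↥(cjs t (⨆ i, c (E i))) = Nat.card ↥(⨆ i, c (E i)) := cj_card t _
    exact Subgroup.eq_of_le_of_card_ge hle (le_of_eq hcard.symm)

end Cfsg.Agent.S3001P
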