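import Mathlib
import Cfsg.Agent.Helper20.S3001CHARXCore
import Cfsg.Agent.Helper20.S3000TOOLaMat

/-! s3001pieces, row CHARODD (core): `p` odd, `E i₀ ≅ SL₂(F)`: the central involutions give the equivariant choice for CHARX. -/

set_option autoImplicit false

namespace Cfsg.Agent.S3001P

open Cfsg.Agent.S2789P Cfsg.Agent.S2999P Cfsg.Agent.S3000P
open scoped commutatorElement

universe u

variable {G : Type u} [Group G]

/-- the central elements of `K` of order dividing `2` -/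
def CHARODD_aux_c (K : Subgroup G) : Subgroup G where
  carrier := {x | x ∈ K ∧ (∀ y ∈ K, x * y = y * x) ∧ x * x = 1}
  one_mem' := ⟨K.one_mem, fun y _ => by rw [one_mul, mul_one], by rw [one_mul]⟩
  mul_mem' := by
    rintro a b ⟨ha, hac, ha2⟩ ⟨hb, hbc, hb2⟩
    refine ⟨K.mul_mem ha hb, fun y hy => ?_, ?_⟩
    · rw [mul_assoc, hbc y hy, ← mul_assoc, hac y hy, mul_assoc]
    · calc a * b * (a * b) = a * (b * a) * b := by group
        _ = a * (a * b) * b := by rw [hbc a ha]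
        _ = (a * a) * (b * b) := by group
        _ = 1 := by rw [ha2, hb2, one_mul]
  inv_mem' := by
    rintro a ⟨ha, hac, ha2⟩
    have e : a⁻¹ = a := by
      rw [inv_eq_iff_mul_eq_one]; exact ha2
    rw [e]
    exact ⟨ha, hac, ha2⟩

theorem CHARODD_aux_c_le (K : Subgroup G) : CHARODD_aux_c K ≤ K := fun _ hx => hx.1

theorem CHARODD_aux_c_conj (g : G) (K : Subgroup G) : cjs g (CHARODD_aux_c K) = CHARODD_aux_c (cjs g K) := by
  ext y
  rw [cj_mem]
  constructor
  · rintro ⟨h1, h2, h3⟩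
    refine ⟨cj_mem.mpr h1, fun z hz => ?_, ?_⟩
    · have := h2 _ (cj_mem.mp hz)
      calc y * z = g * ((g⁻¹ * y * g) * (g⁻¹ * z * g)) * g⁻¹ := by group
        _ = g * ((g⁻¹ * z * g) * (g⁻¹ * y * g)) * g⁻¹ := by rw [this]
        _ = z * y := by group
    · calc y * y = g * ((g⁻¹ * y * g) * (g⁻¹ * y * g)) * g⁻¹ := by group
        _ = 1 := by rw [h3]; group
  · rintro ⟨h1, h2, h3⟩
    refine ⟨cj_mem.mp h1, fun z hz => ?_, ?_⟩
    · have hz' : g * z * g⁻¹ ∈ cjs g K := cj_mem_conj.mpr hz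
      have := h2 _ hz'
      calc g⁻¹ * y * g * z = g⁻¹ * (y * (g * z * g⁻¹)) * g := by group
        _ = g⁻¹ * ((g * z * g⁻¹) * y) * g := by rw [this]
        _ = z * (g⁻¹ * y * g) := by group
    · calc g⁻¹ * y * g * (g⁻¹ * y * g) = g⁻¹ * (y * y) * g := by group
        _ = 1 := by rw [h3]; group

theorem CHARODD_aux_isPGroup (K : Subgroup G) : IsPGroup 2 ↥(CHARODD_aux_c K) := by
  intro x
  refine ⟨1, ?_⟩
  apply Subtype.ext
  rw [pow_one, Subgroup.coe_pow, Subgroup.coe_one, pow_two]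
  exact x.2.2.2

/-- for `2 ≠ 0` in `F` a group isomorphic to `SL₂(F)` has a nontrivial central involution -/
theorem CHARODD_aux_ne_bot {K : Subgroup G} {F : Type} [Field F] (h2 : (2 : F) ≠ 0)
    (e : ↥K ≃* Matrix.SpecialLinearGroup (Fin 2) F) : CHARODD_aux_c K ≠ ⊥ := by
  have hm : (-1 : F) ≠ 0 := neg_ne_zero.mpr one_ne_zero
  obtain ⟨d00, d01, d10, d11⟩ := TOOLa_aux_diag_entries (-1 : F) hm
  have d11' : ((TOOLa_aux_diag (-1 : F) hm : Matrix.SpecialLinearGroup (Fin 2) F) : Matrix (Fin 2) (Fin 2) F) 1 1 = -1 := by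
    rw [d11]; norm_num
  set z : ↥K := e.symm (TOOLa_aux_diag (-1 : F) hm) with hz
  have hz1 : (z : G) ≠ 1 := by
    intro h1
    have h3 : z = 1 := Subtype.ext h1
    have h4 : TOOLa_aux_diag (-1 : F) hm = 1 := by
      have := congrArg e h3
      rwa [hz, MulEquiv.apply_symm_apply, map_one] at this
    have h5 := congrArg (fun g : Matrix.SpecialLinearGroup (Fin 2) F => (g : Matrix (Fin 2) (Fin 2) F) 0 0) h4
    simp only [d00, Matrix.SpecialLinearGroup.coe_one, Matrix.one_apply_eq] at h5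
    apply h2
    have : (2 : F) = 1 - (-1) := by ring
    rw [this, h5]; ring
  have hzc : ∀ y : ↥K, z * y = y * z := by
    intro y
    apply e.injective
    rw [map_mul, map_mul, hz, MulEquiv.apply_symm_apply]
    apply TOOLa_aux_ext <;> simp only [TOOLa_aux_mul_apply, d00, d01, d10, d11'] <;> ring
  have hz2 : z * z = 1 := by
    apply e.injective
    rw [map_mul, map_one, hz, MulEquiv.apply_symm_apply]
    apply TOOLa_aux_ext <;>
      simp only [TOOLa_aux_mul_apply, d00, d01, d10, d11', Matrix.SpecialLinearGroup.coe_one, Matrix.one_apply_eq,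
        Matrix.one_apply_ne, ne_eq, zero_ne_one, one_ne_zero, not_false_eq_true] <;> ring
  intro hbot
  have hmem : (z : G) ∈ CHARODD_aux_c K := by
    refine ⟨z.2, fun y hy => ?_, ?_⟩
    · have := congrArg Subtype.val (hzc ⟨y, hy⟩)
      rwa [Subgroup.coe_mul, Subgroup.coe_mul] at this
    · have := congrArg Subtype.val hz2
      rwa [Subgroup.coe_mul, Subgroup.coe_one] at this
  rw [hbot, Subgroup.mem_bot] at hmem
  exact hz1 hmem

variable [Finite G] {p : ℕ} [Fact p.Prime] {V P : Subgroup G}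

/-- CHARODD with `ODD0` as a hypothesis -/
theorem CHARODD_core {r : ℕ} {E : Fin r → Subgroup G} (T : Sylow p ↥P)
    (hODD0 : ∀ X : Subgroup G, X ≤ P → X ≠ ⊥ → (Nat.card ↥X).Coprime p → (∀ t ∈ TT T, cjs t X = X) →
      ⁅fixV V (TT T), P⁆ ≠ ⊥)
    (hC : ConclPBB p (V0 p V P) V P (TT T) r E) (hT : ∀ i, ∀ t ∈ TT T, ∃ j, cjs t (E i) = E j)
    (hp : p ≠ 2) (i₀ : Fin r) {F : Type} [Field F] [Fintype F] {n : ℕ} (hF : Fintype.card F = p ^ n)
    (hiso : Nonempty (↥(E i₀) ≃* Matrix.SpecialLinearGroup (Fin 2) F)) : ⁅fixV V (TT T), P⁆ ≠ ⊥ := by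
  obtain ⟨e⟩ := hiso
  have hpp : p.Prime := Fact.out
  -- `2 ≠ 0` in `F`
  have hn0 : n ≠ 0 := by
    intro h0
    rw [h0, pow_zero] at hF
    have := Fintype.one_lt_card (α := F)
    omega
  have hpF : ((p : ℕ) : F) = 0 := by
    have h1 : ((Fintype.card F : ℕ) : F) = 0 := Nat.cast_card_eq_zero F
    rw [hF, Nat.cast_pow] at h1
    exact (pow_eq_zero_iff hn0).mp h1
  have h2 : (2 : F) ≠ 0 := by
    intro h2
    obtain ⟨m, hm⟩ := hpp.eq_two_or_odd'.resolve_left hp
    have h3 : ((p : ℕ) : F) = 1 := by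
      rw [hm, Nat.cast_add, Nat.cast_mul, Nat.cast_ofNat, h2]
      simp
    rw [hpF] at h3
    exact zero_ne_one h3
  refine CHARX_core T hODD0 hC hT CHARODD_aux_c CHARODD_aux_c_le CHARODD_aux_c_conj i₀
    (CHARODD_aux_ne_bot h2 e) ?_
  obtain ⟨k, hk⟩ := IsPGroup.iff_card.mp (CHARODD_aux_isPGroup (E i₀))
  rw [hk]
  apply Nat.Coprime.pow_left
  rw [Nat.coprime_comm, Nat.Prime.coprime_iff_not_dvd hpp]
  intro hd
  exact hp ((Nat.prime_dvd_prime_iff_eq hpp Nat.prime_two).mp hd)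

end Cfsg.Agent.S3001P
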