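import Mathlib
import Cfsg.Agent.Helper20.S3001CHARODDCore
import Cfsg.Agent.Helper23.S3001ODD0

/-! S3001 board `s3001pieces`, row CHARODD (wrapper of `CHARODD_core` with the landed `ODD0`). -/

set_option autoImplicit false

namespace Cfsg.Agent.S3001P

open Cfsg.Agent.S2789P Cfsg.Agent.S2999P Cfsg.Agent.S3000P
open scoped commutatorElement

universe u

variable {G : Type u} [Group G] [Finite G] {p : ℕ} [Fact p.Prime] {V P : Subgroup G}
variable {r : ℕ} {E : Fin r → Subgroup G}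

/-- CHARODD : `p` odd, a component `≅ SL₂(F)` has the central involution, so `[C_V(T), P] ≠ 1`. -/
theorem CHARODD (H : Hyp1 p V P) (T : Sylow p ↥P) (hC : ConclPBB p (V0 p V P) V P (TT T) r E) (hT : ∀ i, ∀ t ∈ TT T, ∃ j, cjs t (E i) = E j)
    (hp : p ≠ 2) (i₀ : Fin r) {F : Type} [Field F] [Fintype F] {n : ℕ} (hF : Fintype.card F = p ^ n)
    (hiso : Nonempty (↥(E i₀) ≃* Matrix.SpecialLinearGroup (Fin 2) F)) : ⁅fixV V (TT T), P⁆ ≠ ⊥ :=
  CHARODD_core T (fun X hXP hne hcop hT => ODD0 H T X hXP hne hcop hT) hC hT hp i₀ hF hiso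

end Cfsg.Agent.S3001P
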