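import Mathlib
import Cfsg.Agent.Helper20.S3001CHARXCore
import Cfsg.Agent.Helper23.S3001ODD0

/-! S3001 board `s3001pieces`, row CHARX (wrapper of `CHARX_core` with the landed `ODD0`). -/

set_option autoImplicit false

namespace Cfsg.Agent.S3001P

open Cfsg.Agent.S2789P Cfsg.Agent.S2999P Cfsg.Agent.S3000P
open scoped commutatorElement

universe u

variable {G : Type u} [Group G] [Finite G] {p : ℕ} [Fact p.Prime] {V P : Subgroup G}
variable {r : ℕ} {E : Fin r → Subgroup G}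

/-- CHARX : a nontrivial characteristic `p'`-subgroup of a component gives `[C_V(T), P] ≠ 1`. -/
theorem CHARX (H : Hyp1 p V P) (T : Sylow p ↥P) (hC : ConclPBB p (V0 p V P) V P (TT T) r E) (hT : ∀ i, ∀ t ∈ TT T, ∃ j, cjs t (E i) = E j)
    (c : Subgroup G → Subgroup G) (hc1 : ∀ K, c K ≤ K) (hc2 : ∀ (g : G) (K : Subgroup G), cjs g (c K) = c (cjs g K))
    (i₀ : Fin r) (hne : c (E i₀) ≠ ⊥) (hcop : (Nat.card ↥(c (E i₀))).Coprime p) : ⁅fixV V (TT T), P⁆ ≠ ⊥ :=
  CHARX_core T (fun X hXP hne hcop hT => ODD0 H T X hXP hne hcop hT) hC hT c hc1 hc2 i₀ hne hcop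

end Cfsg.Agent.S3001P
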