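import Mathlib
import Cfsg.Agent.Helper8.S3154Defs

set_option autoImplicit false

/-! # S3154 piece NC2: `Ubar ≤ N(A2bar)` in `PSL₃(F)` (image of `Usub ≤ N(A2)`, `conj_mem_A2`). -/

namespace Cfsg.Agent.S3154P

open Matrix

variable {F : Type*} [Field F]

/-- `Usub` normalises `A2` in `SL₃(F)`. -/
theorem NC2.aux_le : (Usub : Subgroup (Matrix.SpecialLinearGroup (Fin 3) F)) ≤
    Subgroup.normalizer ((A2 : Subgroup (Matrix.SpecialLinearGroup (Fin 3) F)) : Set _) := by
  intro g hg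
  rw [Subgroup.mem_normalizer_iff]
  intro x
  constructor
  · intro hx
    exact conj_mem_A2 hg hx
  · intro hx
    have h1 := conj_mem_A2 (Subgroup.inv_mem _ hg) hx
    have h2 : g⁻¹ * (g * x * g⁻¹) * g⁻¹⁻¹ = x := by group
    rw [h2] at h1
    exact h1

/-- NC2 -/
theorem NC2 : (Ubar : Subgroup (Matrix.ProjectiveSpecialLinearGroup (Fin 3) F)) ≤
    Subgroup.normalizer ((A2bar : Subgroup (Matrix.ProjectiveSpecialLinearGroup (Fin 3) F)) :
      Set (Matrix.ProjectiveSpecialLinearGroup (Fin 3) F)) := by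
  unfold Ubar A2bar
  exact le_trans (Subgroup.map_mono NC2.aux_le) (Subgroup.le_normalizer_map mkL)

end Cfsg.Agent.S3154P
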