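import Mathlib
import Cfsg.Agent.Helper8.S3154Defs

set_option autoImplicit false

/-! # S3154 piece NC3: an element of `Ubar` commuting with all of `Ubar` lies in `A1bar ⊓ A2bar`. -/

namespace Cfsg.Agent.S3154P

open Matrix

variable {F : Type*} [Field F]

/-- NC3 -/
theorem NC3 (t : Matrix.ProjectiveSpecialLinearGroup (Fin 3) F) (ht : t ∈ (Ubar : Subgroup _))
    (hc : ∀ s ∈ (Ubar : Subgroup (Matrix.ProjectiveSpecialLinearGroup (Fin 3) F)), s * t = t * s) :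
    t ∈ (A1bar ⊓ A2bar : Subgroup (Matrix.ProjectiveSpecialLinearGroup (Fin 3) F)) := by
  obtain ⟨x, hx, rfl⟩ := ht
  have hU1 : U (1 : F) 0 0 ∈ (Usub : Subgroup (Matrix.SpecialLinearGroup (Fin 3) F)) :=
    mem_Usub.mpr ⟨1, 0, 0, rfl⟩
  have hU2 : U (0 : F) 1 0 ∈ (Usub : Subgroup (Matrix.SpecialLinearGroup (Fin 3) F)) :=
    mem_Usub.mpr ⟨0, 1, 0, rfl⟩
  have h1 : x * U 1 0 0 = U 1 0 0 * x := by
    apply mkL_injOn_Usub (Subgroup.mul_mem _ hx hU1) (Subgroup.mul_mem _ hU1 hx)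
    rw [map_mul, map_mul]
    exact (hc (mkL (U 1 0 0)) (Subgroup.mem_map_of_mem _ hU1)).symm
  have h2 : x * U 0 1 0 = U 0 1 0 * x := by
    apply mkL_injOn_Usub (Subgroup.mul_mem _ hx hU2) (Subgroup.mul_mem _ hU2 hx)
    rw [map_mul, map_mul]
    exact (hc (mkL (U 0 1 0)) (Subgroup.mem_map_of_mem _ hU2)).symm
  have h3 := central_mem hx h1 h2
  exact ⟨Subgroup.mem_map_of_mem _ h3.1, Subgroup.mem_map_of_mem _ h3.2⟩

end Cfsg.Agent.S3154P
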