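import Mathlib
import Cfsg.Agent.Helper16.S3174Defs
import Cfsg.Agent.Helper14.FratStab
import Cfsg.Agent.Helper23.S3174NORMK

set_option autoImplicit false
set_option linter.unusedSectionVars false
set_option linter.unusedVariables false
set_option linter.style.haveILetI false

/-! Piece FREQ of the board `s3174pieces`: `Φ(W)` (inside `T`) is a term `Z_k`, `k ≤ 3`, of the upper central series. -/

namespace Cfsg.Agent.S3174P

open scoped commutatorElement

variable {T : Type*} [Group T] [Finite T]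

/-- FREQ -/
theorem fr_eq_ucs (hT : IsPGroup 2 T) (c1 : Nat.card ↥(Zi T 1) = 2) (c2 : Nat.card ↥(Zi T 2) = 4)
    (c3 : Nat.card ↥(Zi T 3) = 8) (W : Subgroup T) [W.Normal] (hc : Nat.card ↥(frattini ↥W) ≤ 8) :
    ∃ k, k ≤ 3 ∧ fr W = Zi T k ∧ Nat.card ↥(fr W) = 2 ^ k := by
  haveI : Fact (Nat.Prime 2) := ⟨Nat.prime_two⟩
  haveI hn : (fr W).Normal := Cfsg.Agent.Helper14.frattini_map_normal W
  have hcard : Nat.card ↥(fr W) = Nat.card ↥(frattini ↥W) :=
    (Nat.card_congr ((frattini ↥W).equivMapOfInjective _ W.subtype_injective).toEquiv).symm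
  have hp : IsPGroup 2 ↥(fr W) := hT.to_subgroup _
  obtain ⟨k, hk⟩ := IsPGroup.iff_card.mp hp
  have hk3 : k ≤ 3 := by
    have h1 : 2 ^ k ≤ 2 ^ 3 := by
      rw [← hk, hcard]; exact hc
    exact (Nat.pow_le_pow_iff_right (by norm_num)).mp h1
  have hle : fr W ≤ Zi T k := normal_le_ucs hT (fr W) k (le_of_eq hk)
  have hZk : Nat.card ↥(Zi T k) = 2 ^ k := by
    interval_cases k
    · show Nat.card ↥(Subgroup.upperCentralSeries T 0) = 2 ^ 0
      rw [Subgroup.upperCentralSeries_zero, Subgroup.card_bot, pow_zero]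
    · exact c1
    · exact c2
    · exact c3
  exact ⟨k, hk3, Subgroup.eq_of_le_of_card_ge hle (by rw [hZk, hk]), hk⟩

end Cfsg.Agent.S3174P
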