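import Mathlib
import Cfsg.Agent.Helper16.S3174Defs
import Cfsg.Agent.Helper14.FratStab
import Cfsg.Agent.Helper1.PGroup
import Cfsg.Agent.Helper17.Basic
import Cfsg.Agent.Helper23.S3174NORMK
import Cfsg.Agent.Helper23.S3174UCS
import Cfsg.Agent.Helper27.S3174IDXLE
import Cfsg.Agent.Helper10.S3174LEMAPh
import Cfsg.Agent.Helper20.S3174FREQ

set_option autoImplicit false
set_option linter.unusedSectionVars false
set_option linter.unusedVariables false
set_option linter.style.haveILetI false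

/-! Piece STAGE1 of the board `s3174pieces`: the counting step `Hyp → Cfg0`. -/

namespace Cfsg.Agent.S3174P

open scoped commutatorElement

variable {T : Type*} [Group T] [Finite T]

/-- STAGE1 -/
theorem stage1 {W : Subgroup T} (h : Hyp T W) : Cfg0 T W := by
  classical
  haveI : Fact (Nat.Prime 2) := ⟨Nat.prime_two⟩
  obtain ⟨hT, ha, hb, hW, hc, hd⟩ := h
  obtain ⟨c1, c2, c3⟩ := ucs_card hT ha hb
  have c4 : Nat.card ↥(Zi T 4) = 16 := hb
  have hZcard : ∀ j, j ≤ 4 → Nat.card ↥(Zi T j) = 2 ^ j := by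
    intro j hj
    interval_cases j
    · show Nat.card ↥(Subgroup.upperCentralSeries T 0) = 2 ^ 0
      rw [Subgroup.upperCentralSeries_zero, Subgroup.card_bot, pow_zero]
    · exact c1
    · exact c2
    · exact c3
    · exact c4
  haveI nW : W.Normal := by
    rw [hW]; infer_instance
  have hidx8 : W.index ≤ 8 := by
    rw [hW]; exact index_le hT c1 c2 c3
  obtain ⟨k, hk3, hfrk, hfrc⟩ := fr_eq_ucs hT c1 c2 c3 W hc
  haveI hfrn : (fr W).Normal := Cfsg.Agent.Helper14.frattini_map_normal W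
  have hWp : IsPGroup 2 ↥W := hT.to_subgroup W
  have hfrW : fr W ≤ W := Subgroup.map_subtype_le _
  have hsq : ∀ y ∈ W, y ^ 2 ∈ fr W := by
    intro y hy
    exact ⟨⟨y, hy⟩ ^ 2, Cfsg.Agent.Helper1.IsPGroup.pow_mem_frattini hWp ⟨y, hy⟩, rfl⟩
  have hcm : ∀ y ∈ W, ∀ y' ∈ W, ⁅y, y'⁆ ∈ fr W := by
    intro y hy y' hy'
    refine ⟨⁅(⟨y, hy⟩ : ↥W), (⟨y', hy'⟩ : ↥W)⁆, Cfsg.Agent.Helper1.IsPGroup.commutator_le_frattini hWp
      (Subgroup.commutator_mem_commutator (Subgroup.mem_top _) (Subgroup.mem_top _)), ?_⟩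
    simp [commutatorElement_def]
  -- Lemma A'
  have hlem := lemAp hT (fr W) W (fixMod W (fr W) ⊤) ⊤ W hfrW
    (fun g _ z hz => hfrn.conj_mem z hz g) (fun g _ y hy => nW.conj_mem y hy g) hsq hcm le_top
    (fun g _ n hn => nW.conj_mem n hn g) hcm (fun y => mem_fixMod W (fr W) ⊤ y)
  rw [Subgroup.relIndex_top_right] at hlem
  -- the fixed points lie in `Z_{k+1}`
  have hCle : fixMod W (fr W) ⊤ ≤ Zi T (k + 1) := by
    intro y hy
    show y ∈ Subgroup.upperCentralSeries T (k + 1)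
    rw [Subgroup.mem_upperCentralSeries_succ_iff]
    intro g
    have h1 := hy.2 g (Subgroup.mem_top g)
    rw [hfrk] at h1
    have h2 : ⁅y, g⁆ = (⁅g, y⁆)⁻¹ := by
      simp only [commutatorElement_def]; group
    rw [h2]
    exact Subgroup.inv_mem _ h1
  have hmono : Zi T k ≤ Zi T (k + 1) := Subgroup.upperCentralSeries_mono T (Nat.le_succ k)
  have hrel2 : (Zi T k).relIndex (Zi T (k + 1)) = 2 := by
    have h1 := Cfsg.Agent.Helper17.relIndex_mul_card_inf (Zi T k) (Zi T (k + 1))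
    rw [inf_eq_left.mpr hmono, hZcard k (by omega), hZcard (k + 1) (by omega), pow_succ] at h1
    have hpos : 0 < 2 ^ k := by positivity
    exact Nat.eq_of_mul_eq_mul_right hpos (by rw [h1, mul_comm])
  have hrel2' : (fr W).relIndex (Zi T (k + 1)) = 2 := by
    rw [hfrk]; exact hrel2
  have hrelC : (fr W).relIndex (fixMod W (fr W) ⊤) ≤ 2 := by
    calc (fr W).relIndex (fixMod W (fr W) ⊤)
        ≤ (fr W).relIndex (Zi T (k + 1)) :=
          Subgroup.relIndex_le_of_le_right hCle (by rw [hrel2']; norm_num)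
      _ = 2 := hrel2'
  -- `|W : Φ(W)| ≤ 2 ^ |T : W|`
  have hr : (fr W).relIndex W ≤ 2 ^ W.index :=
    le_trans hlem (Nat.pow_le_pow_left hrelC _)
  -- the orders
  have hWcard : (fr W).relIndex W * 2 ^ k = Nat.card ↥W := by
    have h1 := Cfsg.Agent.Helper17.relIndex_mul_card_inf (fr W) W
    rw [inf_eq_left.mpr hfrW, hfrc] at h1
    exact h1
  have hTcard : Nat.card ↥W * W.index = Nat.card T := Subgroup.card_mul_index W
  obtain ⟨n, hn⟩ := IsPGroup.iff_card.mp hT
  obtain ⟨a, ha', hia⟩ := (Nat.dvd_prime_pow Nat.prime_two).mp (hn ▸ W.index_dvd_card)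
  have ha3 : a ≤ 3 := by
    have h1 : 2 ^ a ≤ 2 ^ 3 := by rw [← hia]; exact hidx8
    exact (Nat.pow_le_pow_iff_right (by norm_num)).mp h1
  have hkey : W.index = 8 ∧ k = 3 ∧ (fr W).relIndex W = 2 ^ 8 := by
    rw [← hTcard, ← hWcard] at ha
    rw [hia] at ha hr ⊢
    interval_cases a <;> interval_cases k <;> norm_num at ha hr ⊢ <;> omega
  obtain ⟨hi8, hk3', hr8⟩ := hkey
  subst hk3'
  have hcW : Nat.card ↥W = 2 ^ 11 := by
    rw [← hWcard, hr8]; norm_num
  have hcT : Nat.card T = 2 ^ 14 := by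
    rw [← hTcard, hcW, hi8]; norm_num
  refine
    { hT := hT
      hW := hW
      nW := nW
      c1 := c1
      c2 := c2
      c3 := c3
      c4 := c4
      idx := hi8
      cW := hcW
      cT := hcT
      ZW := by rw [← hfrk]; exact hfrW
      frZ := hfrk
      sq := by
        intro x hx
        rw [← hfrk]; exact hsq x hx
      cm := by
        intro x hx y hy
        rw [← hfrk]; exact hcm x hx y hy
      hd := ?_ }
  intro U hUW hU16 z hz
  have h1 : frattini ↥W ≤ U.subgroupOf W := hd (U.subgroupOf W) hU16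
  rw [← hfrk] at hz
  obtain ⟨w, hw, rfl⟩ := hz
  exact Subgroup.mem_subgroupOf.mp (h1 hw)

end Cfsg.Agent.S3174P
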