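import Mathlib

set_option autoImplicit false
set_option linter.style.haveILetI false

/-! # S3206 piece FOCAL -/

namespace Cfsg.Agent.S3206P

/-- FOCAL: in a perfect group an element of an abelian Sylow 2-subgroup `S` that is central in `N_G(S)` is
trivial (transfer into `S`: `MonoidHom.transfer_eq_pow` + Burnside's fusion lemma
`Sylow.conj_eq_normalizer_conj_of_mem`). -/
theorem FOCAL {G : Type*} [Group G] [Finite G] (hperf : commutator G = ⊤) (S : Sylow 2 G)
    (hab : ∀ x ∈ (S : Subgroup G), ∀ y ∈ (S : Subgroup G), x * y = y * x)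
    (z : G) (hz : z ∈ (S : Subgroup G))
    (hzN : ∀ g ∈ Subgroup.normalizer ((S : Subgroup G) : Set G), g * z = z * g) : z = 1 := by
  classical
  haveI : Fact (Nat.Prime 2) := ⟨Nat.prime_two⟩
  haveI hcomm : IsMulCommutative (S : Subgroup G) :=
    ⟨⟨fun a b => Subtype.ext (hab a.1 a.2 b.1 b.2)⟩⟩
  letI : CommGroup (S : Subgroup G) :=
    { (inferInstance : Group (S : Subgroup G)) with
      mul_comm := fun a b => Subtype.ext (hab a.1 a.2 b.1 b.2) }
  -- the key fusion property
  have key : ∀ (k : ℕ) (g₀ : G), g₀⁻¹ * z ^ k * g₀ ∈ (S : Subgroup G) → g₀⁻¹ * z ^ k * g₀ = z ^ k := by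
    intro k g₀ hk
    obtain ⟨n, hn, hnx⟩ := Sylow.conj_eq_normalizer_conj_of_mem S (z ^ k) g₀
      ((S : Subgroup G).pow_mem hz k) hk
    rw [hnx]
    have hc : n * z = z * n := hzN n hn
    have hc' : Commute n z := hc
    have hc'' : Commute n (z ^ k) := hc'.pow_right k
    rw [mul_assoc, ← hc''.eq, ← mul_assoc, inv_mul_cancel, one_mul]
  have htr := MonoidHom.transfer_eq_pow (MonoidHom.id (S : Subgroup G)) z key
  -- the transfer is trivial because `G` is perfect
  have hker : z ∈ (MonoidHom.transfer (MonoidHom.id (S : Subgroup G))).ker := by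
    have h1 := Abelianization.commutator_subset_ker
      (MonoidHom.transfer (MonoidHom.id (S : Subgroup G)) : G →* (S : Subgroup G))
    rw [hperf] at h1
    exact h1 (Subgroup.mem_top z)
  rw [MonoidHom.mem_ker, htr] at hker
  have hpow : z ^ (S : Subgroup G).index = 1 := by
    have := congrArg Subtype.val hker
    simpa using this
  -- order of z divides an odd number and is a power of two
  have hdvd : orderOf z ∣ (S : Subgroup G).index := orderOf_dvd_of_pow_eq_one hpow
  obtain ⟨j, hj⟩ := (IsPGroup.iff_orderOf.mp S.isPGroup') ⟨z, hz⟩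
  have hj' : orderOf z = 2 ^ j := by
    rw [← hj]; exact (Subgroup.orderOf_mk z hz).symm
  have hnd : ¬ 2 ∣ (S : Subgroup G).index := Sylow.not_dvd_index S
  have hj0 : j = 0 := by
    by_contra hne
    apply hnd
    have : 2 ∣ orderOf z := by
      rw [hj']; exact dvd_pow_self 2 hne
    exact dvd_trans this hdvd
  rw [hj0, pow_zero] at hj'
  exact orderOf_eq_one_iff.mp hj'

end Cfsg.Agent.S3206P
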