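import Mathlib
import Cfsg.Agent.Helper2.PSL2Klein
import Cfsg.Agent.Helper5.S3206KLEIN0

set_option autoImplicit false

/-! # S3206 piece KLEIN -/

namespace Cfsg.Agent.S3206P

/-- KLEIN: an abelian Sylow 2-subgroup of `N ≅ PSL₂(q)`, `q` odd, is a four-group. -/
theorem KLEIN {F : Type*} [Field F] [Fintype F] (hFo : Odd (Fintype.card F))
    {N : Type*} [Group N] [Finite N] (e : N ≃* Matrix.ProjectiveSpecialLinearGroup (Fin 2) F)
    (V : Sylow 2 N)
    (hV : ∀ x ∈ (V : Subgroup N), ∀ y ∈ (V : Subgroup N), x * y = y * x) :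
    Nat.card ↥(V : Subgroup N) = 4 ∧ ∀ x ∈ (V : Subgroup N), x ^ 2 = 1 := by
  classical
  -- transport `V` to a Sylow 2-subgroup of `PSL₂(F)`
  have hrange : (V : Subgroup N) ≤ (e.symm.toMonoidHom).range := by
    intro x _
    exact ⟨e x, by simp⟩
  let P : Sylow 2 (Matrix.ProjectiveSpecialLinearGroup (Fin 2) F) :=
    V.comapOfInjective e.symm.toMonoidHom e.symm.injective hrange
  have hPmem : ∀ y : Matrix.ProjectiveSpecialLinearGroup (Fin 2) F,
      y ∈ (P : Subgroup (Matrix.ProjectiveSpecialLinearGroup (Fin 2) F)) ↔ e.symm y ∈ (V : Subgroup N) := by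
    intro y
    rfl
  have hPab : ∀ x ∈ (P : Subgroup (Matrix.ProjectiveSpecialLinearGroup (Fin 2) F)),
      ∀ y ∈ (P : Subgroup (Matrix.ProjectiveSpecialLinearGroup (Fin 2) F)), x * y = y * x := by
    intro x hx y hy
    have h := hV _ ((hPmem x).mp hx) _ ((hPmem y).mp hy)
    apply e.symm.injective
    rw [map_mul, map_mul, h]
  have hq := KLEIN0 hFo P hPab
  have hK := Cfsg.Agent.Helper2.PSL2K.isKleinFour (F := F) rfl hq P
  obtain ⟨hcardP, hexpP⟩ := hK
  constructor
  · -- cardinalities agree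
    have hequiv : (V : Subgroup N) ≃ (P : Subgroup (Matrix.ProjectiveSpecialLinearGroup (Fin 2) F)) :=
      e.toEquiv.subtypeEquiv (fun a => by
        rw [hPmem]
        simp)
    rw [Nat.card_congr hequiv]
    exact hcardP
  · intro x hx
    have hex : e x ∈ (P : Subgroup (Matrix.ProjectiveSpecialLinearGroup (Fin 2) F)) := by
      rw [hPmem]; simpa using hx
    have h2 : (⟨e x, hex⟩ : (P : Subgroup (Matrix.ProjectiveSpecialLinearGroup (Fin 2) F))) ^ 2 = 1 := by
      have := Monoid.pow_exponent_eq_one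
        (⟨e x, hex⟩ : (P : Subgroup (Matrix.ProjectiveSpecialLinearGroup (Fin 2) F)))
      rwa [hexpP] at this
    have h3 : (e x) ^ 2 = 1 := by
      have := congrArg Subtype.val h2
      simpa using this
    apply e.injective
    rw [map_pow, h3, map_one]

end Cfsg.Agent.S3206P
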