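import Mathlib
import Cfsg.Agent.Helper12.S3222Defs
import Cfsg.Agent.Helper2.S3222KER

set_option autoImplicit false

/-! # S3222 piece A6F (helper20) -/

namespace Cfsg.Agent.S3222P

/-- A6F: a faithful action of `G` (order 720) on 6 points -/
theorem A6F {G : Type*} [Group G] [Finite G] (t : G) (T : Sylow 2 G)
    (L : Local t T) (M : Subgroup G) [M.Normal] (hM : M.index = 2) (htM : t ∉ M)
    (zM : ↥M) (hzM : orderOf zM = 2)
    (e : ↥(Subgroup.centralizer ({zM} : Set ↥M)) ≃* DihedralGroup 4)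
    (hs : IsSimpleGroup ↥M) (hc : Nat.card ↥M = 360)
    {X : Type*} [MulAction G X] (hX : Nat.card X = 6)
    (hnt : ∃ m ∈ M, ∃ x : X, m • x ≠ x) :
    Nonempty (G ≃* Equiv.Perm (Fin 6)) := by
  have hcG : Nat.card G = 720 := by
    rw [← Subgroup.index_mul_card M, hM, hc]
  have hXfin : Finite X := Nat.finite_of_card_ne_zero (by rw [hX]; norm_num)
  set φ : G →* Equiv.Perm X := MulAction.toPermHom G X with hφ
  have hKn : φ.ker.Normal := inferInstance
  -- `ker φ ⊓ M = ⊥`
  have hKM : φ.ker ⊓ M = ⊥ := by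
    have hN0n : ((φ.ker ⊓ M).subgroupOf M).Normal := by
      have : (φ.ker ⊓ M).Normal := inferInstance
      exact Subgroup.Normal.subgroupOf this M
    rcases hN0n.eq_bot_or_eq_top with h1 | h1
    · rw [Subgroup.subgroupOf_eq_bot] at h1
      exact h1.eq_bot_of_le inf_le_right
    · exfalso
      rw [Subgroup.subgroupOf_eq_top] at h1
      obtain ⟨m, hm, x, hx⟩ := hnt
      apply hx
      have hmk : m ∈ φ.ker := (h1 hm).1
      rw [MonoidHom.mem_ker] at hmk
      have := congrArg (fun σ : Equiv.Perm X => σ x) hmk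
      simpa [hφ] using this
  have hKbot : φ.ker = ⊥ := by
    by_contra hne
    have h24 := KER t T L M hM htM zM hzM e φ.ker hne hKM
    omega
  have hinj : Function.Injective φ := (MonoidHom.ker_eq_bot_iff φ).1 hKbot
  have hbij : Function.Bijective φ := by
    rw [Nat.bijective_iff_injective_and_card]
    refine ⟨hinj, ?_⟩
    rw [hcG, Nat.card_perm, hX]
    rfl
  have e1 : G ≃* Equiv.Perm X := MulEquiv.ofBijective φ hbij
  have e2 : X ≃ Fin 6 := Finite.equivFinOfCardEq hX
  exact ⟨e1.trans e2.permCongrHom⟩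

end Cfsg.Agent.S3222P
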