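import Mathlib
import Cfsg.Agent.Helper12.S3222Defs
import Cfsg.Agent.Helper2.S3222KER

set_option autoImplicit false

/-! # S3222 piece S5C (helper20) -/

namespace Cfsg.Agent.S3222P

/-- S5C: the case `M ≅ S₅` is impossible -/
theorem S5C {G : Type*} [Group G] [Finite G] (t : G) (T : Sylow 2 G)
    (L : Local t T) (M : Subgroup G) [M.Normal] (hM : M.index = 2) (htM : t ∉ M)
    (zM : ↥M) (hzM : orderOf zM = 2)
    (e : ↥(Subgroup.centralizer ({zM} : Set ↥M)) ≃* DihedralGroup 4)
    (f : ↥M ≃* Equiv.Perm (Fin 5)) : False := by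
  have hcM : Nat.card ↥M = 120 := by
    rw [Nat.card_congr f.toEquiv, Nat.card_perm, Nat.card_eq_fintype_card, Fintype.card_fin]
    rfl
  have hcG : Nat.card G = 240 := by
    rw [← Subgroup.index_mul_card M, hM, hcM]
  set C : Subgroup G := Subgroup.centralizer ({t} : Set G) with hC
  have hcC : Nat.card ↥C = 48 := L.cardC
  have hidx : C.index = 5 := by
    have h1 := Subgroup.index_mul_card C
    rw [hcC, hcG] at h1
    omega
  have htC : t ∈ C := by
    rw [hC, Subgroup.mem_centralizer_iff]
    intro s hs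
    rw [Set.mem_singleton_iff] at hs
    rw [hs]
  -- the core
  have hKne : C.normalCore ≠ ⊥ := by
    intro hbot
    rw [Subgroup.normalCore_eq_ker] at hbot
    have hinj : Function.Injective (MulAction.toPermHom G (G ⧸ C)) :=
      (MonoidHom.ker_eq_bot_iff _).1 hbot
    have hfin : Finite (G ⧸ C) := inferInstance
    have hle := Nat.card_le_card_of_injective _ hinj
    rw [Nat.card_perm, hcG] at hle
    have h5 : Nat.card (G ⧸ C) = 5 := hidx
    rw [h5] at hle
    norm_num [Nat.factorial] at hle
  have hKC : C.normalCore ≤ C := Subgroup.normalCore_le C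
  -- `K ⊓ M` has order at most 24
  have hle24 : Nat.card ↥(C.normalCore ⊓ M) ≤ 24 := by
    have hle : C.normalCore ⊓ M ≤ C := inf_le_left.trans hKC
    have hdvd : Nat.card ↥(C.normalCore ⊓ M) ∣ 48 := by
      rw [← hcC]; exact Subgroup.card_dvd_of_le hle
    have hne : Nat.card ↥(C.normalCore ⊓ M) ≠ 48 := by
      intro h48
      have heq : C.normalCore ⊓ M = C :=
        Subgroup.eq_of_le_of_card_ge hle (by rw [h48, hcC])
      have : t ∈ C.normalCore ⊓ M := by rw [heq]; exact htC
      exact htM this.2
    obtain ⟨k, hk⟩ := hdvd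
    have hk0 : k ≠ 0 := by rintro rfl; simp at hk
    have hk1 : k ≠ 1 := by rintro rfl; exact hne (by omega)
    have hk2 : 2 ≤ k := by omega
    by_contra hgt
    have h25 : 25 ≤ Nat.card ↥(C.normalCore ⊓ M) := by omega
    have := Nat.mul_le_mul h25 hk2
    omega
  -- `K ⊓ M = ⊥`
  have hKM : C.normalCore ⊓ M = ⊥ := by
    by_contra hne
    set N0 : Subgroup ↥M := (C.normalCore ⊓ M).subgroupOf M with hN0
    have hN0n : N0.Normal := by
      have : (C.normalCore ⊓ M).Normal := inferInstance
      exact Subgroup.Normal.subgroupOf this M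
    have hcN0 : Nat.card ↥N0 = Nat.card ↥(C.normalCore ⊓ M) :=
      Nat.card_congr (Subgroup.subgroupOfEquivOfLe (inf_le_right)).toEquiv
    set N : Subgroup (Equiv.Perm (Fin 5)) := N0.map f.toMonoidHom with hN
    have hNn : N.Normal := Subgroup.Normal.map hN0n f.toMonoidHom f.surjective
    have hcN : Nat.card ↥N = Nat.card ↥N0 :=
      Subgroup.card_map_of_injective f.injective
    have hNnt : Nontrivial ↥N := by
      rw [Subgroup.nontrivial_iff_ne_bot]
      intro hbot
      have h1 : N0 = ⊥ := (Subgroup.map_eq_bot_iff_of_injective N0 f.injective).1 hbot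
      rw [hN0, Subgroup.subgroupOf_eq_bot] at h1
      apply hne
      have := h1.eq_bot_of_le inf_le_right
      exact this
    have hA5 : alternatingGroup (Fin 5) ≤ N :=
      Equiv.Perm.alternatingGroup_le_of_normal (by simp) hNnt
    have h60 : Nat.card ↥(alternatingGroup (Fin 5)) = 60 := by
      rw [nat_card_alternatingGroup, Nat.card_fin]
      rfl
    have hdvd := Subgroup.card_dvd_of_le hA5
    rw [h60, hcN, hcN0] at hdvd
    have hpos : 0 < Nat.card ↥(C.normalCore ⊓ M) := Nat.card_pos
    have := Nat.le_of_dvd hpos hdvd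
    omega
  have h24 := KER t T L M hM htM zM hzM e C.normalCore hKne hKM
  omega

end Cfsg.Agent.S3222P
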