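import Mathlib
import Cfsg.Agent.Helper16.ThompsonTransfer

set_option autoImplicit false
set_option linter.unusedSectionVars false
set_option linter.unusedVariables false
set_option linter.style.haveILetI false

/-! # S3390 piece INDEX2 (transfer into `S/T`) -/

namespace Cfsg.Agent.S3390P

open MonoidHom MulAction Subgroup

/-- a product of units of `ℤ` each of which is `-1` on a set of odd size and `1` elsewhere -/
theorem INDEX2.aux_pow2_period {G : Type*} [Group G] [Finite G] (S : Sylow 2 G) (y : G)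
    (hy : y ∈ (S : Subgroup G)) (q : G ⧸ (S : Subgroup G)) :
    ∃ k : ℕ, Function.minimalPeriod (y • ·) q = 2 ^ k := by
  have hdvd : Function.minimalPeriod (y • ·) q ∣ orderOf y := MulAction.period_dvd_orderOf y q
  obtain ⟨n, hn⟩ := (IsPGroup.iff_orderOf.mp S.isPGroup') ⟨y, hy⟩
  have h2 : orderOf y = 2 ^ n := by
    rw [← hn]; exact (Subgroup.orderOf_mk y hy).symm
  rw [h2] at hdvd
  obtain ⟨k, _, hk⟩ := (Nat.dvd_prime_pow Nat.prime_two).mp hdvd
  exact ⟨k, hk⟩

/-- INDEX2 (pure group theory, transfer). -/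
theorem INDEX2 {G : Type*} [Group G] [Finite G] (S : Sylow 2 G) (T : Subgroup G)
    (hTS : T ≤ (S : Subgroup G)) (hidx : T.relIndex (S : Subgroup G) = 2)
    (hfus : ∀ s ∈ (S : Subgroup G), s ∉ T → ∀ g : G, g * s * g⁻¹ ∈ (S : Subgroup G) → g * s * g⁻¹ ∉ T) :
    ∃ G₀ : Subgroup G, G₀.Normal ∧ G₀.index = 2 ∧ (∀ s ∈ (S : Subgroup G), s ∉ T → s ∉ G₀) ∧
      ∀ z : G, (∀ (n : ℕ) (g : G), g * z ^ n * g⁻¹ ∈ (S : Subgroup G) → g * z ^ n * g⁻¹ ∈ T) → z ∈ G₀ := by
  classical
  have hM' : (T.subgroupOf (S : Subgroup G)).index = 2 := hidx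
  let ϕ : ↥(S : Subgroup G) →* ℤˣ := Cfsg.Agent.Helper16.indexTwoHom (T.subgroupOf (S : Subgroup G)) hM'
  have hϕ1 : ∀ (w : G) (hw : w ∈ (S : Subgroup G)), w ∈ T → ϕ ⟨w, hw⟩ = 1 := by
    intro w hw hwT
    exact Cfsg.Agent.Helper16.indexTwoHom_apply_of_mem _ hM' (Subgroup.mem_subgroupOf.mpr hwT)
  have hϕ2 : ∀ (w : G) (hw : w ∈ (S : Subgroup G)), w ∉ T → ϕ ⟨w, hw⟩ = -1 := by
    intro w hw hwT
    exact Cfsg.Agent.Helper16.indexTwoHom_apply_of_not_mem _ hM'
      (fun h => hwT (Subgroup.mem_subgroupOf.mp h))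
  have hSodd : Odd (S : Subgroup G).index := by
    rw [← Nat.not_even_iff_odd, even_iff_two_dvd]
    exact S.not_dvd_index
  -- value of the transfer at an element of `S ∖ T`
  have hneg : ∀ y ∈ (S : Subgroup G), y ∉ T → transfer ϕ y = -1 := by
    intro y hyS hyT
    have := Fintype.ofFinite (Quotient (orbitRel (zpowers y) (G ⧸ (S : Subgroup G))))
    rw [transfer_eq_prod_quotient_orbitRel_zpowers_quot]
    have hidx' := Subgroup.index_eq_sum_minimalPeriod (S : Subgroup G) y
    have hy2 : y * y ∈ T := by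
      have h := Subgroup.mul_mem_iff_of_index_two hM' (a := (⟨y, hyS⟩ : (S : Subgroup G)))
        (b := (⟨y, hyS⟩ : (S : Subgroup G)))
      have h' : (⟨y, hyS⟩ * ⟨y, hyS⟩ : (S : Subgroup G)) ∈ T.subgroupOf (S : Subgroup G) :=
        h.mpr Iff.rfl
      exact Subgroup.mem_subgroupOf.mp h'
    have hfac : ∀ q : Quotient (orbitRel (zpowers y) (G ⧸ (S : Subgroup G))),
        ϕ ⟨q.out.out⁻¹ * y ^ Function.minimalPeriod (y • ·) q.out * q.out.out,
          QuotientGroup.out_conj_pow_minimalPeriod_mem (S : Subgroup G) y q.out⟩ =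
        if Function.minimalPeriod (y • ·) q.out = 1 then -1 else 1 := by
      intro q
      have hmem := QuotientGroup.out_conj_pow_minimalPeriod_mem (S : Subgroup G) y q.out
      set r := Function.minimalPeriod (y • ·) q.out with hr
      obtain ⟨k, hk⟩ := INDEX2.aux_pow2_period S y hyS q.out
      rw [← hr] at hk
      by_cases h1 : r = 1
      · rw [if_pos h1]
        apply hϕ2
        have h3 := hfus y hyS hyT q.out.out⁻¹
        rw [inv_inv] at h3
        have h4 : q.out.out⁻¹ * y ^ r * q.out.out = q.out.out⁻¹ * y * q.out.out := by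
          rw [h1, pow_one]
        rw [h4]
        apply h3
        rw [← h4]
        exact hmem
      · rw [if_neg h1]
        apply hϕ1
        by_contra hnT
        -- `y ^ r ∈ T` since `r` is even
        have hk1 : 1 ≤ k := by
          rcases k with _ | k
          · exfalso; apply h1; rw [hk, pow_zero]
          · omega
        have hyrT : y ^ r ∈ T := by
          have : r = 2 * 2 ^ (k - 1) := by
            rw [hk, ← pow_succ']
            congr 1; omega
          rw [this, pow_mul, pow_two]
          exact T.pow_mem hy2 _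
        have h3 := hfus _ hmem hnT q.out.out
        have h4 : q.out.out * (q.out.out⁻¹ * y ^ r * q.out.out) * q.out.out⁻¹ = y ^ r := by group
        rw [h4] at h3
        exact h3 (hTS hyrT) hyrT
    rw [Finset.prod_congr rfl (fun q _ => hfac q), Finset.prod_ite, Finset.prod_const_one, mul_one,
      Finset.prod_const]
    have hpar : Odd (Finset.univ.filter
        (fun q : Quotient (orbitRel (zpowers y) (G ⧸ (S : Subgroup G))) =>
          Function.minimalPeriod (y • ·) q.out = 1)).card := by
      rw [hidx'] at hSodd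
      rw [Nat.odd_iff] at hSodd ⊢
      rw [Finset.sum_nat_mod] at hSodd
      have hmod : ∀ q : Quotient (orbitRel (zpowers y) (G ⧸ (S : Subgroup G))),
          Function.minimalPeriod (y • ·) q.out % 2 =
            if Function.minimalPeriod (y • ·) q.out = 1 then 1 else 0 := by
        intro q
        obtain ⟨k, hk⟩ := INDEX2.aux_pow2_period S y hyS q.out
        rw [hk]
        rcases k with _ | k
        · simp
        · have : 2 ^ (k + 1) ≠ 1 := by
            have : 2 ≤ 2 ^ (k + 1) := by
              calc 2 = 2 ^ 1 := by norm_num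
                _ ≤ 2 ^ (k + 1) := Nat.pow_le_pow_right (by norm_num) (by omega)
            omega
          rw [if_neg this, pow_succ]; simp
      rw [Finset.sum_congr rfl (fun q _ => hmod q), Finset.sum_boole] at hSodd
      simpa using hSodd
    rw [hpar.neg_one_pow]
  -- value of the transfer at `z`
  have hpos : ∀ z : G, (∀ (n : ℕ) (g : G), g * z ^ n * g⁻¹ ∈ (S : Subgroup G) → g * z ^ n * g⁻¹ ∈ T) →
      transfer ϕ z = 1 := by
    intro z hz
    have := Fintype.ofFinite (Quotient (orbitRel (zpowers z) (G ⧸ (S : Subgroup G))))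
    rw [transfer_eq_prod_quotient_orbitRel_zpowers_quot]
    apply Finset.prod_eq_one
    intro q _
    have hmem := QuotientGroup.out_conj_pow_minimalPeriod_mem (S : Subgroup G) z q.out
    apply hϕ1
    have h3 := hz (Function.minimalPeriod (z • ·) q.out) q.out.out⁻¹
    rw [inv_inv] at h3
    exact h3 hmem
  -- an element of `S ∖ T`
  obtain ⟨y, hyS, hyT⟩ : ∃ y ∈ (S : Subgroup G), y ∉ T := by
    by_contra hcon
    push Not at hcon
    have : (S : Subgroup G) ≤ T := hcon
    have h1 : T.relIndex (S : Subgroup G) = 1 := Subgroup.relIndex_eq_one.mpr this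
    omega
  refine ⟨(transfer ϕ).ker, inferInstance, ?_, ?_, ?_⟩
  · rw [Subgroup.index_eq_two_iff]
    refine ⟨y, fun b => ?_⟩
    rw [MonoidHom.mem_ker, MonoidHom.mem_ker, map_mul, hneg y hyS hyT]
    rcases Int.units_eq_one_or (transfer ϕ b) with h | h
    · rw [h]; simp
    · rw [h]; simp
  · intro s hsS hsT hs
    rw [MonoidHom.mem_ker, hneg s hsS hsT] at hs
    exact absurd hs (by decide)
  · intro z hz
    rw [MonoidHom.mem_ker]
    exact hpos z hz

end Cfsg.Agent.S3390P
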