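import Mathlib

set_option autoImplicit false
set_option linter.unusedSectionVars false
set_option linter.unusedVariables false
set_option linter.style.haveILetI false

/-! # S3390 piece ORBCARD -/

namespace Cfsg.Agent.S3390P

open MulAction

variable {G : Type*} [Group G] [Finite G] {Ω : Type*} [Fintype Ω] [MulAction G Ω]

theorem ORBCARD.aux_stab (S : Subgroup G) (ω : Ω) :
    stabilizer ↥S ω = (stabilizer G ω).subgroupOf S := by
  ext s
  simp only [mem_stabilizer_iff, Subgroup.mem_subgroupOf]
  rfl

/-- ORBCARD: the orbit statement of the third disjunct from the output of ORB. -/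
theorem ORBCARD (S : Subgroup G) (α : Ω)
    (x : G) (hxS : x ∈ S) (hxα : x • α ≠ α)
    (hidx : (S ⊓ stabilizer G α).relIndex S = 2)
    (hfree : ∀ s ∈ S, s ≠ 1 → ∀ ω : Ω, s • ω = ω → (ω = α ∨ ω = x • α) ∧ s ∈ S ⊓ stabilizer G α) :
    Nat.card (MulAction.orbit ↥S α) = 2 ∧
      ∀ ω' : Ω, ω' ∉ MulAction.orbit ↥S α → Nat.card (MulAction.orbit ↥S ω') = Nat.card S := by
  constructor
  · have h1 := MulAction.index_stabilizer (G := ↥S) (x := α)
    rw [ORBCARD.aux_stab] at h1
    rw [Subgroup.inf_relIndex_left] at hidx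
    have h2 : ((stabilizer G α).subgroupOf S).index = 2 := hidx
    rw [Nat.card_coe_set_eq, ← h1, h2]
  · intro ω' hω'
    have hbot : stabilizer ↥S ω' = ⊥ := by
      rw [Subgroup.eq_bot_iff_forall]
      intro s hs
      by_contra hne
      have hs1 : (s : G) ≠ 1 := fun h => hne (Subtype.ext h)
      have hfix : (s : G) • ω' = ω' := hs
      rcases (hfree (s : G) s.2 hs1 ω' hfix).1 with h | h
      · apply hω'
        rw [h]
        exact mem_orbit_self α
      · apply hω'
        rw [h]
        exact ⟨⟨x, hxS⟩, rfl⟩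
    have h1 := MulAction.index_stabilizer (G := ↥S) (x := ω')
    rw [hbot, Subgroup.index_bot] at h1
    rw [Nat.card_coe_set_eq, ← h1]

end Cfsg.Agent.S3390P
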