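import Mathlib
import Cfsg.Prelude.Def_Classical
import Cfsg.Agent.Helper6.S3439.Defs

/-! S3439 piece PSP5 (helper20; driver helper6): an element of order 5 in `PSp_4(3)`; with the
general tool `PSP5.exists_orderOf` (orders of explicit elements of `PSp_4(F)`, `|F| = 3`, computed
over `ZMod 3`). -/

set_option autoImplicit false

namespace Cfsg.Agent.S3439P

open N7

namespace PSP5

open Matrix

/-- `4 × 4` matrices -/
abbrev M4 (R : Type*) := Matrix (Fin 2 ⊕ Fin 2) (Fin 2 ⊕ Fin 2) R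

variable {F : Type*} [Field F]

theorem J_map (φ : ZMod 3 →+* F) :
    (Matrix.J (Fin 2) (ZMod 3)).map φ = Matrix.J (Fin 2) F := by
  ext i j
  rcases i with i | i <;> rcases j with j | j <;>
    simp [Matrix.J, Matrix.one_apply, apply_ite]

theorem map_mem (φ : ZMod 3 →+* F) {A : M4 (ZMod 3)}
    (hA : A ∈ Matrix.symplecticGroup (Fin 2) (ZMod 3)) :
    A.map φ ∈ Matrix.symplecticGroup (Fin 2) F := by
  rw [SymplecticGroup.mem_iff] at hA ⊢
  have := congrArg (fun B => B.map φ) hA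
  simp only [Matrix.map_mul, J_map] at this
  rw [Matrix.transpose_map] at this
  exact this

/-- the order of the image in `PSp_4(F)`, `|F| = 3`, of a symplectic matrix over `ZMod 3`:
`A ^ k = 1` and `A ^ (k / p)` does not commute with the symplectic matrix `B` -/
theorem exists_orderOf [Fintype F] (hF : Fintype.card F = 3) (k : ℕ) (hk : 0 < k)
    (A B : M4 (ZMod 3)) (hA : A ∈ Matrix.symplecticGroup (Fin 2) (ZMod 3))
    (hB : B ∈ Matrix.symplecticGroup (Fin 2) (ZMod 3)) (hpow : A ^ k = 1)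
    (hnc : ∀ p : ℕ, p.Prime → p ∣ k → A ^ (k / p) * B ≠ B * A ^ (k / p)) :
    ∃ x : Cfsg.PSp 2 F, orderOf x = k := by
  have e : ZMod 3 ≃+* F := ZMod.ringEquivOfPrime F Nat.prime_three hF
  obtain ⟨φ, hφ⟩ : ∃ φ : ZMod 3 →+* F, Function.Injective φ := ⟨e.toRingHom, e.injective⟩
  obtain ⟨a, ha⟩ : ∃ a : Matrix.symplecticGroup (Fin 2) F, (a : M4 F) = A.map φ :=
    ⟨⟨A.map φ, map_mem φ hA⟩, rfl⟩
  obtain ⟨b, hb⟩ : ∃ b : Matrix.symplecticGroup (Fin 2) F, (b : M4 F) = B.map φ :=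
    ⟨⟨B.map φ, map_mem φ hB⟩, rfl⟩
  have hpowa : ∀ j : ℕ, ((a ^ j : Matrix.symplecticGroup (Fin 2) F) : M4 F) = (A ^ j).map φ := by
    intro j
    rw [SubmonoidClass.coe_pow, ha]
    exact (map_pow φ.mapMatrix A j).symm
  refine ⟨QuotientGroup.mk a, orderOf_eq_of_pow_and_pow_div_prime hk ?_ ?_⟩
  · rw [← QuotientGroup.mk_pow]
    have : a ^ k = 1 := by
      apply Subtype.ext
      rw [hpowa, hpow]
      simp
    rw [this]
    rfl
  · intro p hp hpk hx
    rw [← QuotientGroup.mk_pow, QuotientGroup.eq_one_iff] at hx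
    have h1 := Subgroup.mem_center_iff.1 hx b
    have h2 := congrArg (Subtype.val) h1
    rw [Submonoid.coe_mul, Submonoid.coe_mul, hpowa, hb, ← Matrix.map_mul, ← Matrix.map_mul] at h2
    exact hnc p hp hpk (Matrix.map_injective hφ h2).symm

/-- a non-central symplectic matrix (test matrix for commutation) -/
def B3 : M4 (ZMod 3) := Matrix.fromBlocks 1 !![0, 1; 1, 0] 0 1

set_option maxRecDepth 100000 in
theorem B3_mem : B3 ∈ Matrix.symplecticGroup (Fin 2) (ZMod 3) := by
  rw [SymplecticGroup.mem_iff]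
  decide

/-- a symplectic matrix of order 5 -/
def A5 : M4 (ZMod 3) := Matrix.fromBlocks !![0, 0; 0, 0] !![2, 0; 0, 2] !![1, 0; 0, 1] !![2, 1; 1, 0]

set_option maxRecDepth 100000 in
theorem A5_mem : A5 ∈ Matrix.symplecticGroup (Fin 2) (ZMod 3) := by
  rw [SymplecticGroup.mem_iff]
  decide

set_option maxRecDepth 100000 in
theorem A5_pow : A5 ^ 5 = 1 := by decide

set_option maxRecDepth 100000 in
theorem A5_nc : A5 ^ 1 * B3 ≠ B3 * A5 ^ 1 := by decide

end PSP5

open PSP5 in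
theorem psp_five {F : Type*} [Field F] [Fintype F] (hF : Fintype.card F = 3) :
    ∃ x : Cfsg.PSp 2 F, orderOf x = 5 := by
  refine exists_orderOf hF 5 (by norm_num) A5 B3 A5_mem B3_mem A5_pow ?_
  intro p hp hpk
  have : p = 5 := (Nat.prime_dvd_prime_iff_eq hp (by norm_num)).1 hpk
  subst this
  exact A5_nc

end Cfsg.Agent.S3439P
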