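import Mathlib
import Cfsg.Prelude.Def_Classical
import Cfsg.Agent.Helper6.S3439.Defs
import Cfsg.Agent.Helper20.S3439PSP5

/-! S3439 piece PSP12 (helper20; driver helper6): an element of order 12 in `PSp_4(3)`. -/

set_option autoImplicit false

namespace Cfsg.Agent.S3439P

open N7

namespace PSP12

open Matrix PSP5

/-- a symplectic matrix of order 12 whose powers `A^4`, `A^6` are not central -/
def A12 : M4 (ZMod 3) := Matrix.fromBlocks !![1, 0; 0, 0] !![1, 0; 0, 2] !![2, 0; 0, 1] !![0, 0; 0, 0]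

set_option maxRecDepth 100000 in
theorem A12_mem : A12 ∈ Matrix.symplecticGroup (Fin 2) (ZMod 3) := by
  rw [SymplecticGroup.mem_iff]
  decide

set_option maxRecDepth 100000 in
theorem A12_pow : A12 ^ 12 = 1 := by decide

set_option maxRecDepth 100000 in
theorem A12_nc6 : A12 ^ 6 * B3 ≠ B3 * A12 ^ 6 := by decide

set_option maxRecDepth 100000 in
theorem A12_nc4 : A12 ^ 4 * B3 ≠ B3 * A12 ^ 4 := by decide

end PSP12

open PSP5 PSP12 in
theorem psp_twelve {F : Type*} [Field F] [Fintype F] (hF : Fintype.card F = 3) :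
    ∃ x : Cfsg.PSp 2 F, orderOf x = 12 := by
  refine exists_orderOf hF 12 (by norm_num) A12 B3 A12_mem B3_mem A12_pow ?_
  intro p hp hpk
  have h12 : (12 : ℕ) = 2 ^ 2 * 3 := by norm_num
  have hpk' : p ∣ 2 ^ 2 * 3 := by rw [← h12]; exact hpk
  rcases (Nat.Prime.dvd_mul hp).1 hpk' with h | h
  · have : p = 2 := (Nat.prime_dvd_prime_iff_eq hp Nat.prime_two).1 (hp.dvd_of_dvd_pow h)
    subst this
    exact A12_nc6
  · have : p = 3 := (Nat.prime_dvd_prime_iff_eq hp Nat.prime_three).1 h
    subst this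
    exact A12_nc4

end Cfsg.Agent.S3439P
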