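import Mathlib
import Cfsg.Prelude.Def_Classical
import Cfsg.Agent.Helper6.S3439.Defs
import Cfsg.Agent.Helper20.S3439PSP5

/-! S3439 piece PSP9 (helper20; driver helper6): an element of order 9 in `PSp_4(3)`. -/

set_option autoImplicit false

namespace Cfsg.Agent.S3439P

open N7

namespace PSP9

open Matrix PSP5

/-- a symplectic matrix of order 9 (a regular unipotent element) -/
def A9 : M4 (ZMod 3) := Matrix.fromBlocks !![0, 2; 0, 0] !![0, 0; 1, 0] !![0, 0; 2, 2] !![1, 2; 0, 0]

set_option maxRecDepth 100000 in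
theorem A9_mem : A9 ∈ Matrix.symplecticGroup (Fin 2) (ZMod 3) := by
  rw [SymplecticGroup.mem_iff]
  decide

set_option maxRecDepth 100000 in
theorem A9_pow : A9 ^ 9 = 1 := by decide

set_option maxRecDepth 100000 in
theorem A9_nc : A9 ^ 3 * B3 ≠ B3 * A9 ^ 3 := by decide

end PSP9

open PSP5 PSP9 in
theorem psp_nine {F : Type*} [Field F] [Fintype F] (hF : Fintype.card F = 3) :
    ∃ x : Cfsg.PSp 2 F, orderOf x = 9 := by
  refine exists_orderOf hF 9 (by norm_num) A9 B3 A9_mem B3_mem A9_pow ?_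
  intro p hp hpk
  have h9 : (9 : ℕ) = 3 ^ 2 := by norm_num
  rw [h9] at hpk
  have : p = 3 := (Nat.prime_dvd_prime_iff_eq hp Nat.prime_three).1 (hp.dvd_of_dvd_pow hpk)
  subst this
  exact A9_nc

end Cfsg.Agent.S3439P
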