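import Mathlib

set_option autoImplicit false

/-! # S3501 piece NOTCONJ: centralisers in a normal subgroup separate conjugacy classes. -/

namespace Cfsg.Agent.S3501P

/-- NOTCONJ: if the centraliser in the normal subgroup `N` of `x'` is properly contained in that of `x`,
then `x` and `x'` are not conjugate in `G`. -/
theorem NOTCONJ {G : Type*} [Group G] [Finite G] (N : Subgroup G) [N.Normal] (x x' : G)
    (hsub : ∀ n ∈ N, n * x' = x' * n → n * x = x * n)
    (hex : ∃ n ∈ N, n * x = x * n ∧ n * x' ≠ x' * n) : ¬ IsConj x x' := by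
  intro hconj
  obtain ⟨c, hc⟩ := isConj_iff.mp hconj
  have hA'fin : ({n : G | n ∈ N ∧ n * x' = x' * n} : Set G).Finite := Set.toFinite _
  have hAfin : ({n : G | n ∈ N ∧ n * x = x * n} : Set G).Finite := Set.toFinite _
  have hss : ({n : G | n ∈ N ∧ n * x' = x' * n} : Set G) ⊂ {n : G | n ∈ N ∧ n * x = x * n} := by
    refine ⟨fun n hn => ⟨hn.1, hsub n hn.1 hn.2⟩, ?_⟩
    intro h
    obtain ⟨n, hnN, hnx, hnx'⟩ := hex
    exact hnx' (h ⟨hnN, hnx⟩).2
  have hlt := Set.ncard_lt_ncard hss hAfin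
  have hle : ({n : G | n ∈ N ∧ n * x = x * n} : Set G).ncard ≤
      ({n : G | n ∈ N ∧ n * x' = x' * n} : Set G).ncard := by
    apply Set.ncard_le_ncard_of_injOn (fun n => c * n * c⁻¹)
    · intro n hn
      refine ⟨‹N.Normal›.conj_mem n hn.1 c, ?_⟩
      have h2 : n * x = x * n := hn.2
      calc c * n * c⁻¹ * x' = c * (n * x) * c⁻¹ := by rw [← hc]; group
        _ = c * (x * n) * c⁻¹ := by rw [h2]
        _ = x' * (c * n * c⁻¹) := by rw [← hc]; group
    · intro a _ b _ h
      have h' : c * a * c⁻¹ = c * b * c⁻¹ := h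
      simpa using h'
  omega

end Cfsg.Agent.S3501P
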