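import Mathlib

set_option autoImplicit false
set_option linter.style.haveILetI false

/-! # S3501 piece NOTPGROUP: a finite non-abelian simple group is not a `p`-group. -/

namespace Cfsg.Agent.S3501P

/-- NOTPGROUP: a finite non-abelian simple group has, for every `p`, an element of prime order `≠ p`. -/
theorem NOTPGROUP {T : Type*} [Group T] [Finite T] [IsSimpleGroup T] (hT : ¬ IsMulCommutative T) (p : ℕ) :
    ∃ u : T, (orderOf u).Prime ∧ orderOf u ≠ p := by
  classical
  by_contra hcon
  push Not at hcon
  haveI : Fintype T := Fintype.ofFinite T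
  -- every prime divisor of the order is `p`
  have hq : ∀ {q : ℕ}, q.Prime → q ∣ Nat.card T → q = p := by
    intro q hq hdvd
    haveI : Fact q.Prime := ⟨hq⟩
    rw [Nat.card_eq_fintype_card] at hdvd
    obtain ⟨u, hu⟩ := exists_prime_orderOf_dvd_card q hdvd
    have := hcon u (by rw [hu]; exact hq)
    rw [hu] at this
    exact this
  have hcard1 : 1 < Nat.card T := Finite.one_lt_card
  have hpprime : p.Prime := by
    obtain ⟨q, hqp, hqd⟩ := Nat.exists_prime_and_dvd (n := Nat.card T) (by omega)
    have := hq hqp hqd
    rw [← this]; exact hqp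
  haveI : Fact p.Prime := ⟨hpprime⟩
  have hpow : Nat.card T = p ^ (Nat.card T).primeFactorsList.length :=
    Nat.eq_prime_pow_of_unique_prime_dvd (by omega) (fun {d} hd hdd => hq hd hdd)
  have hpg : IsPGroup p T := IsPGroup.of_card hpow
  have hcen : Nontrivial (Subgroup.center T) := hpg.center_nontrivial
  have hcen_top : Subgroup.center T = ⊤ := by
    rcases IsSimpleGroup.eq_bot_or_eq_top_of_normal (Subgroup.center T) inferInstance with h | h
    · exfalso
      rw [Subgroup.nontrivial_iff_ne_bot] at hcen
      exact hcen h
    · exact h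
  apply hT
  refine ⟨⟨fun a b => ?_⟩⟩
  have hb : b ∈ Subgroup.center T := by rw [hcen_top]; trivial
  exact (Subgroup.mem_center_iff.mp hb a)
end Cfsg.Agent.S3501P
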