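import Mathlib
import Cfsg.Prelude.Def_Classical
import Cfsg.Agent.Helper5.S3590Defs
import Cfsg.Agent.Helper28.S3589Defs
import Cfsg.Agent.Helper17.S3590EVENRK

/-! S3590 piece AODD (helper20): a block of odd order is an affine block (with `v = 0`) of even
Dickson invariant. -/

set_option autoImplicit false

namespace Cfsg.Agent.S3590P

open Module Polynomial Matrix
open Cfsg.Agent.S5973P Cfsg.Agent.S3589P
open scoped Classical

noncomputable section

/-- AODD (S; uses EVENRK): a block of odd order is an affine block (with `v = 0`) of even Dickson invariant. -/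
theorem hasABlock_of_odd {F : Type*} [Field F] [Fintype F] [CharP F 2] {d : ℕ} {hyp : Bool} {o : ℕ}
    (H : HasBlock F d hyp o) (ho : Odd o) : HasABlock F d hyp o true := by
  obtain ⟨Q, y, hND, hhyp, hiso, hord⟩ := H
  refine ⟨Q, y, 0, hND, hhyp, hiso, ?_, ?_⟩
  · exact iff_of_true (even_rank_of_odd_order Q hND y hiso o ho ((hord o).2 dvd_rfl)) rfl
  · intro j
    exact ⟨fun h => (hord j).1 h.1, fun h => ⟨(hord j).2 h, map_zero _⟩⟩

end

end Cfsg.Agent.S3590P
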