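import Mathlib
import Cfsg.Agent.Helper11.S3753Defs
import Cfsg.Agent.Helper14.PCore
import Cfsg.Agent.Helper1.MinNormal

set_option autoImplicit false
set_option linter.unusedSectionVars false
set_option linter.unusedVariables false
set_option linter.style.haveILetI false

/-! Piece LEMC of the board `s3753pieces`: a minimal normal subgroup inside `O_p(M)` is elementary abelian and
`p`-reduced, so no element of a `p`-stable `M` acts quadratically and nontrivially on it. -/

namespace Cfsg.Agent.S3753P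

open Cfsg
open scoped commutatorElement

variable {G : Type*} [Group G]

/-- a nontrivial normal subgroup of a finite group contains a minimal normal subgroup -/
theorem LEMC_aux_exists_min {H : Type*} [Group H] [Finite H] (D : Subgroup H) [D.Normal]
    (hD : D ≠ ⊥) : ∃ N : Subgroup H, N.Normal ∧ N ≠ ⊥ ∧ N ≤ D ∧
      ∀ K : Subgroup H, K.Normal → K ≤ N → K = ⊥ ∨ K = N := by
  let S : Set (Subgroup H) := {N | N.Normal ∧ N ≠ ⊥ ∧ N ≤ D}
  have hSne : S.Nonempty := ⟨D, inferInstance, hD, le_refl _⟩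
  obtain ⟨N, hN⟩ := (Set.toFinite S).exists_minimal hSne
  refine ⟨N, hN.1.1, hN.1.2.1, hN.1.2.2, fun K hKn hKN => ?_⟩
  by_cases hK : K = ⊥
  · left; exact hK
  · right
    exact le_antisymm hKN (hN.2 ⟨hKn, hK, hKN.trans hN.1.2.2⟩ hKN)

/-- a minimal normal `p`-subgroup is `p`-reduced -/
theorem LEMC_aux_reduced {H : Type*} [Group H] [Finite H] {p : ℕ} [Fact p.Prime] (V : Subgroup H)
    [V.Normal] (hVne : V ≠ ⊥) (hVp : IsPGroup p ↥V)
    (hmin : ∀ K : Subgroup H, K.Normal → K ≤ V → K = ⊥ ∨ K = V) :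
    pCore p (H ⧸ Subgroup.centralizer (V : Set H)) = ⊥ := by
  classical
  have hker : Subgroup.centralizer (V : Set H) ≤ (MulAut.conjNormal (H := V)).ker := by
    intro c hc
    rw [MonoidHom.mem_ker]
    ext v
    rw [MulAut.conjNormal_apply, MulAut.one_apply]
    have := (Subgroup.mem_centralizer_iff.mp hc) v v.2
    rw [← this, mul_inv_cancel_right]
  let φ : H ⧸ Subgroup.centralizer (V : Set H) →* MulAut ↥V :=
    QuotientGroup.lift _ (MulAut.conjNormal (H := V)) hker
  have hφ : ∀ (g : H) (v : ↥V), ((φ (QuotientGroup.mk' _ g) v : ↥V) : H) = g * v * g⁻¹ := by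
    intro g v
    show ((QuotientGroup.lift _ (MulAut.conjNormal (H := V)) hker (QuotientGroup.mk g)) v : H) = _
    rw [QuotientGroup.lift_mk, MulAut.conjNormal_apply]
  have hR : IsPGroup p ↥(pCore p (H ⧸ Subgroup.centralizer (V : Set H))) :=
    Helper14.pCore_isPGroup p
  letI : MulAction ↥(pCore p (H ⧸ Subgroup.centralizer (V : Set H))) ↥V :=
    MulAction.compHom ↥V (φ.comp (pCore p (H ⧸ Subgroup.centralizer (V : Set H))).subtype)
  have hsmul : ∀ (r : ↥(pCore p (H ⧸ Subgroup.centralizer (V : Set H)))) (v : ↥V),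
      r • v = φ (r : H ⧸ Subgroup.centralizer (V : Set H)) v := fun r v => rfl
  have h1 : (1 : ↥V) ∈ MulAction.fixedPoints ↥(pCore p (H ⧸ Subgroup.centralizer (V : Set H))) ↥V := by
    intro r
    rw [hsmul, map_one]
  have dvd : p ∣ Nat.card ↥V := by
    have : Nontrivial ↥V := (Subgroup.nontrivial_iff_ne_bot V).2 hVne
    obtain ⟨n, hn0, hn⟩ := hVp.nontrivial_iff_card.mp inferInstance
    exact hn.symm ▸ dvd_pow_self _ (ne_of_gt hn0)
  obtain ⟨b, hb, hb1⟩ := hR.exists_fixed_point_of_prime_dvd_card_of_fixed_point ↥V dvd h1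
  -- the preimage `P` of `O_p(H/C)`
  have hbF : (b : H) ∈ V ⊓ Subgroup.centralizer
      (((pCore p (H ⧸ Subgroup.centralizer (V : Set H))).comap
        (QuotientGroup.mk' (Subgroup.centralizer (V : Set H))) : Subgroup H) : Set H) := by
    refine Subgroup.mem_inf.mpr ⟨b.2, ?_⟩
    rw [Subgroup.mem_centralizer_iff]
    intro g hg
    have hgR : QuotientGroup.mk' (Subgroup.centralizer (V : Set H)) g ∈
        pCore p (H ⧸ Subgroup.centralizer (V : Set H)) := hg
    have h2 := hb ⟨_, hgR⟩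
    rw [hsmul] at h2
    have h3 : g * (b : H) * g⁻¹ = b := by
      rw [← hφ g b]
      exact congrArg Subtype.val h2
    calc g * (b : H) = g * b * g⁻¹ * g := by group
      _ = b * g := by rw [h3]
  have hFn : (V ⊓ Subgroup.centralizer
      (((pCore p (H ⧸ Subgroup.centralizer (V : Set H))).comap
        (QuotientGroup.mk' (Subgroup.centralizer (V : Set H))) : Subgroup H) : Set H)).Normal :=
    inferInstance
  rcases hmin _ hFn inf_le_left with h | h
  · exfalso
    rw [h, Subgroup.mem_bot] at hbF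
    exact hb1 (Subtype.ext hbF.symm)
  · have hVP : V ≤ Subgroup.centralizer
        (((pCore p (H ⧸ Subgroup.centralizer (V : Set H))).comap
          (QuotientGroup.mk' (Subgroup.centralizer (V : Set H))) : Subgroup H) : Set H) :=
      le_trans h.ge inf_le_right
    rw [eq_bot_iff]
    intro r hr
    obtain ⟨g, rfl⟩ := QuotientGroup.mk'_surjective _ r
    rw [Subgroup.mem_bot]
    apply (QuotientGroup.eq_one_iff g).mpr
    rw [Subgroup.mem_centralizer_iff]
    intro v hv
    have := (Subgroup.mem_centralizer_iff.mp (hVP hv)) g hr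
    exact this.symm

/-- the image in `G` of a normal subgroup of `↥M` is normalised by `M` -/
theorem LEMC_aux_map_normalizer (M : Subgroup G) (V : Subgroup ↥M) [hV : V.Normal] :
    M ≤ Subgroup.normalizer ((V.map M.subtype : Subgroup G) : Set G) := by
  intro m hm
  rw [Subgroup.mem_normalizer_iff]
  intro h
  constructor
  · rintro ⟨v, hv, rfl⟩
    exact ⟨(⟨m, hm⟩ : ↥M) * v * (⟨m, hm⟩ : ↥M)⁻¹, hV.conj_mem v hv _, rfl⟩
  · rintro ⟨v, hv, hvh⟩
    refine ⟨(⟨m, hm⟩ : ↥M)⁻¹ * v * (⟨m, hm⟩ : ↥M)⁻¹⁻¹, hV.conj_mem v hv _, ?_⟩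
    have : M.subtype ((⟨m, hm⟩ : ↥M)⁻¹ * v * (⟨m, hm⟩ : ↥M)⁻¹⁻¹) = m⁻¹ * (M.subtype v) * m := by
      simp
    rw [this, hvh]
    group

theorem LEMC [Finite G] {p : ℕ} [Fact p.Prime] (M : Subgroup G)
    (hst : IsActionPStable p ↥M) (hQ : pCoreOf p M ≠ ⊥) :
    ∃ A : Subgroup G, A ≠ ⊥ ∧ A ≤ M ∧ M ≤ Subgroup.normalizer (A : Set G) ∧ IsElementaryAbelian p A ∧
      ∀ x ∈ M, ⁅⁅A, Subgroup.zpowers x⁆, Subgroup.zpowers x⁆ = ⊥ → ⁅A, Subgroup.zpowers x⁆ = ⊥ := by
  classical
  have hQ' : pCore p ↥M ≠ ⊥ := by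
    intro h
    apply hQ
    unfold pCoreOf
    rw [h, Subgroup.map_bot]
  obtain ⟨V, hVn, hVne, hVle, hVmin⟩ := LEMC_aux_exists_min (pCore p ↥M) hQ'
  haveI := hVn
  have hVp : IsPGroup p ↥V := (Helper14.pCore_isPGroup (G := ↥M) p).to_le hVle
  haveI : Group.IsNilpotent ↥V := hVp.isNilpotent
  obtain ⟨hVc, p', hp', hVexp⟩ := Helper1.minNormal_elementary V hVne inferInstance hVmin
  -- `p' = p`
  have hpp : p' = p := by
    obtain ⟨v, hv, hv1⟩ : ∃ v ∈ V, v ≠ 1 := by
      by_contra hcon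
      push Not at hcon
      exact hVne ((Subgroup.eq_bot_iff_forall _).mpr hcon)
    obtain ⟨k, hk⟩ := hVp ⟨v, hv⟩
    have hk' : v ^ p ^ k = 1 := by
      have := congrArg Subtype.val hk
      simpa using this
    have h1 : orderOf v ∣ p' := orderOf_dvd_of_pow_eq_one (hVexp v hv)
    have h2 : orderOf v ∣ p ^ k := orderOf_dvd_of_pow_eq_one hk'
    have h3 : orderOf v ≠ 1 := fun h => hv1 (orderOf_eq_one_iff.mp h)
    have h4 : orderOf v = p' := ((Nat.dvd_prime hp').mp h1).resolve_left h3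
    rw [h4] at h2
    exact (Nat.prime_dvd_prime_iff_eq hp' (Fact.out : p.Prime)).mp (hp'.dvd_of_dvd_pow h2)
  subst hpp
  have hVel : IsElementaryAbelian p' V := ⟨hVc, hVexp⟩
  have hred := LEMC_aux_reduced V hVne hVp hVmin
  have hstV : IsPStableOn p' V := hst.1 V hVel
  refine ⟨V.map M.subtype, ?_, Subgroup.map_subtype_le V, LEMC_aux_map_normalizer M V, ?_, ?_⟩
  · intro h
    exact hVne ((Subgroup.map_eq_bot_iff_of_injective V M.subtype_injective).mp h)
  · refine ⟨⟨⟨?_⟩⟩, ?_⟩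
    · rintro ⟨_, a, ha, rfl⟩ ⟨_, b, hb, rfl⟩
      apply Subtype.ext
      have := mul_comm' (⟨a, ha⟩ : ↥V) ⟨b, hb⟩
      have h2 := congrArg (fun z : ↥V => ((z : ↥M) : G)) this
      simpa using h2
    · rintro _ ⟨a, ha, rfl⟩
      have := hVexp a ha
      have h2 := congrArg (fun z : ↥M => (z : G)) this
      simpa using h2
  · intro x hxM hq
    have hz : (Subgroup.zpowers (⟨x, hxM⟩ : ↥M)).map M.subtype = Subgroup.zpowers x := by
      rw [MonoidHom.map_zpowers]
      rfl
    have hq' : ⁅⁅V, Subgroup.zpowers (⟨x, hxM⟩ : ↥M)⁆, Subgroup.zpowers (⟨x, hxM⟩ : ↥M)⁆ = ⊥ := by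
      apply (Subgroup.map_eq_bot_iff_of_injective _ M.subtype_injective).mp
      rw [Subgroup.map_commutator, Subgroup.map_commutator, hz]
      exact hq
    have h1 := hstV ⟨x, hxM⟩ hq'
    rw [hred, Subgroup.mem_bot] at h1
    have h2 : (⟨x, hxM⟩ : ↥M) ∈ Subgroup.centralizer (V : Set ↥M) := (QuotientGroup.eq_one_iff _).mp h1
    have h3 : ⁅V, Subgroup.zpowers (⟨x, hxM⟩ : ↥M)⁆ = ⊥ := by
      rw [Subgroup.commutator_comm, Subgroup.commutator_eq_bot_iff_le_centralizer,
        Subgroup.zpowers_le]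
      exact h2
    rw [← hz, ← Subgroup.map_commutator, h3, Subgroup.map_bot]

end Cfsg.Agent.S3753P
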