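import Mathlib
import Cfsg.Agent.Helper13.S3816Defs
import Cfsg.Agent.Helper13.S3816Basic
import Cfsg.Agent.Helper22.S3816MC1
import Cfsg.Agent.Helper22.S3816MINN
import Cfsg.Agent.Helper22.S3816C2CDcore
import Cfsg.Agent.Helper20.S3816PHI
import Cfsg.Agent.Helper20.S3816MC3
import Cfsg.Agent.Helper23.PGroup
import Cfsg.Agent.S0055

/-! Board `s3816pieces`, rows C2G2 and C2H, cores: the statements of the rows C2G (`c2_pgroup`), C2D (`c2_cent`),
C2E (`c2_theta_inv`) and C2A (`c2_Kth_ne`) enter as hypotheses. -/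

set_option autoImplicit false

namespace Cfsg.Agent.S3816P

open scoped commutatorElement

universe u

variable {G : Type u} [Group G] [Finite G] {p : ℕ} [Fact p.Prime] {A K N : Subgroup G}

/-- C2G2, core: `[k,A]` and `N` have coprime orders. -/
theorem c2_coprime_aux_core (mc : MC p A K) (hN : MinN K N) {k : G} (hk : k ∈ K) (hkN : cA A k ⊔ N = K)
    (hpg : ∃ s : ℕ, s.Prime ∧ IsPGroup s (cA A k))
    (hcent : N ⊓ Subgroup.centralizer (cA A k : Set G) = ⊥) :
    (Nat.card (cA A k)).Coprime (Nat.card N) := by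
  obtain ⟨r, hr, -, hNr, -⟩ := hN.elemAb mc
  obtain ⟨s, hs, hW⟩ := hpg
  haveI : Fact r.Prime := ⟨hr⟩
  haveI : Fact s.Prime := ⟨hs⟩
  haveI hNn : N.Normal := hN.normal
  have hNp : IsPGroup r N := by
    intro n
    refine ⟨1, ?_⟩
    apply Subtype.ext
    have := hNr n n.2
    simpa using this
  by_cases hsr : s = r
  · exfalso
    subst hsr
    have hKp : IsPGroup s K := by
      rw [← hkN]
      exact IsPGroup.to_sup_of_normal_right hW hNp
    haveI hKn : K.Normal := mc.normalK
    haveI : (N.subgroupOf K).Normal := Subgroup.normal_subgroupOf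
    have hNK : N.subgroupOf K ≠ ⊥ := by
      intro h
      rw [Subgroup.subgroupOf_eq_bot] at h
      have := h.eq_bot
      rw [inf_eq_left.mpr hN.le] at this
      exact hN.ne this
    obtain ⟨b, hbN, hbZ, hb1⟩ := Cfsg.Agent.Helper23.exists_mem_inf_center_ne_one hKp (N.subgroupOf K) hNK
    -- `M := N ⊓ C(K)` is normal in `G`, nontrivial
    have hMn : (N ⊓ Subgroup.centralizer (K : Set G) : Subgroup G).Normal := by
      haveI : (Subgroup.centralizer (K : Set G)).Normal := Subgroup.normal_centralizer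
      infer_instance
    have hbM : (b : G) ∈ N ⊓ Subgroup.centralizer (K : Set G) := by
      refine ⟨Subgroup.mem_subgroupOf.mp hbN, ?_⟩
      show (b : G) ∈ Subgroup.centralizer (K : Set G)
      rw [Subgroup.mem_centralizer_iff]
      intro y hy
      have := Subgroup.mem_center_iff.mp hbZ ⟨y, hy⟩
      exact congrArg Subtype.val this
    have hMne : (N ⊓ Subgroup.centralizer (K : Set G) : Subgroup G) ≠ ⊥ := by
      intro h
      rw [h, Subgroup.mem_bot] at hbM
      exact hb1 (Subtype.ext hbM)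
    have hMeq := hN.min _ inf_le_left hMn hMne
    have hNC : N ≤ Subgroup.centralizer (cA A k : Set G) := by
      have h1 : N ≤ Subgroup.centralizer (K : Set G) := by rw [← hMeq]; exact inf_le_right
      exact h1.trans (Subgroup.centralizer_le (cA_le mc.hyp.norm hk))
    apply hN.ne
    rw [← hcent]
    exact (inf_eq_left.mpr hNC).symm
  · obtain ⟨a, ha⟩ := IsPGroup.iff_card.mp hW
    obtain ⟨b, hb⟩ := IsPGroup.iff_card.mp hNp
    rw [ha, hb]
    exact Nat.Coprime.pow _ _ ((Nat.coprime_primes hs hr).mpr hsr)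

/-- `Kth A K N ≤ N` for normal `N`. -/
theorem c2_Phi_aux_Kth_le (hNn : N.Normal) : Kth A K N ≤ N := by
  unfold Kth
  haveI := hNn
  exact sup_le inf_le_right (Subgroup.commutator_le_left N A)

/-- C2H, core of `c2_Phi_cent`. -/
theorem c2_Phi_cent_aux_core (mc : MC p A K) (hN : MinN K N) {k : G} (hkN : cA A k ⊔ N = K)
    (hcop : (Nat.card (cA A k)).Coprime (Nat.card N))
    (htheta : ∀ y ∈ Phi (cA A k), ∀ n ∈ N, n⁻¹ * (y⁻¹ * n * y) ∈ Kth A K N)
    (hKth : Kth A K N ≠ N) :
    Phi (cA A k) ≤ Subgroup.centralizer (N : Set G) := by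
  obtain ⟨r, -, -, -, hab⟩ := hN.elemAb mc
  haveI hNn : N.Normal := hN.normal
  set P := Phi (cA A k) with hP
  have hPW : P ≤ cA A k := Phi_le _
  -- `P` is normalised by `cA A k` and by `A`
  have hWP : cA A k ≤ Subgroup.normalizer (P : Set G) :=
    (Subgroup.le_normalizer).trans (Phi_normalizer_le _)
  have hAP : A ≤ Subgroup.normalizer (P : Set G) :=
    (cA_normalized A k).trans (Phi_normalizer_le _)
  -- coprimality
  have hcopP : (Nat.card P).Coprime (Nat.card N) :=
    Nat.Coprime.coprime_dvd_left (Subgroup.card_dvd_of_le hPW) hcop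
  haveI : IsMulCommutative N := ⟨⟨fun a b => Subtype.ext (hab a a.2 b b.2)⟩⟩
  have hPN : P ≤ Subgroup.normalizer (N : Set G) := by
    rw [Subgroup.normalizer_eq_top_iff.mpr hNn]; exact le_top
  obtain ⟨-, hdec⟩ := Cfsg.Agent.S0055.result P N hPN hcopP
  -- `C := N ⊓ C(P)` is normal in `G`
  have hconjC : ∀ g : G, g ∈ Subgroup.normalizer (P : Set G) → ∀ x ∈ N ⊓ Subgroup.centralizer (P : Set G),
      g * x * g⁻¹ ∈ N ⊓ Subgroup.centralizer (P : Set G) := by
    intro g hg x hx
    refine ⟨hNn.conj_mem x hx.1 g, ?_⟩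
    show g * x * g⁻¹ ∈ Subgroup.centralizer (P : Set G)
    rw [Subgroup.mem_centralizer_iff]
    intro w hw
    have hw' : g⁻¹ * w * g⁻¹⁻¹ ∈ P :=
      (Subgroup.mem_normalizer_iff.mp (Subgroup.inv_mem _ hg) w).mp hw
    have h3 := (Subgroup.mem_centralizer_iff.mp hx.2) _ hw'
    calc w * (g * x * g⁻¹) = g * ((g⁻¹ * w * g⁻¹⁻¹) * x) * g⁻¹ := by group
      _ = g * (x * (g⁻¹ * w * g⁻¹⁻¹)) * g⁻¹ := by rw [h3]
      _ = g * x * g⁻¹ * w := by group
  have hCn : (N ⊓ Subgroup.centralizer (P : Set G) : Subgroup G).Normal := by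
    apply C2CD_aux_normal mc.top hkN
    · apply C2CD_aux_norm
      intro w hw x hx
      exact hconjC w (hWP hw) x hx
    · apply C2CD_aux_norm
      intro n hn x hx
      have h1 : n * x * n⁻¹ = x := by rw [hab n hn x hx.1]; group
      rw [h1]; exact hx
    · apply C2CD_aux_norm
      intro a ha x hx
      exact hconjC a (hAP ha) x hx
  by_cases hbot : N ⊓ Subgroup.centralizer (P : Set G) = ⊥
  · exfalso
    rw [hbot, bot_sup_eq] at hdec
    -- `N = ⁅N, P⁆ ≤ Kth`
    have hle : ⁅N, P⁆ ≤ Kth A K N := by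
      rw [Subgroup.commutator_le]
      intro n hn y hy
      have := htheta y⁻¹ (P.inv_mem hy) n⁻¹ (N.inv_mem hn)
      have e : n⁻¹⁻¹ * (y⁻¹⁻¹ * n⁻¹ * y⁻¹) = ⁅n, y⁆ := by
        rw [commutatorElement_def]; group
      rwa [e] at this
    apply hKth
    apply le_antisymm (c2_Phi_aux_Kth_le hNn)
    rw [hdec] at hle
    exact hle
  · have heq := hN.min _ inf_le_left hCn hbot
    have hNC : N ≤ Subgroup.centralizer (P : Set G) := by rw [← heq]; exact inf_le_right
    exact Subgroup.le_centralizer_iff.mp hNC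

/-- C2H, second core of `c2_Phi_cent`: the statements of `c2_cent` and `c2_theta_inv` (at `k`) as hypotheses. -/
theorem c2_Phi_cent_aux_core2 (mc : MC p A K) (hN : MinN K N) {k : G} (hkN : cA A k ⊔ N = K)
    (hcop : (Nat.card (cA A k)).Coprime (Nat.card N))
    (hcent : N ⊓ Subgroup.centralizer (cA A k : Set G) = ⊥)
    (htheta : ∀ {K1 : Subgroup G}, K1 ≤ cA A k → K1 ≠ cA A k → A ≤ Subgroup.normalizer (K1 : Set G) →
      ∀ {y : G}, y ∈ K1 → ∀ {n : G}, n ∈ N → n⁻¹ * (y⁻¹ * n * y) ∈ Kth A K N)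
    (hKth : Kth A K N ≠ N) :
    Phi (cA A k) ≤ Subgroup.centralizer (N : Set G) := by
  have hWne : cA A k ≠ ⊥ := by
    intro h
    rw [h] at hcent
    have h1 : Subgroup.centralizer (((⊥ : Subgroup G) : Subgroup G) : Set G) = ⊤ := by
      rw [Subgroup.coe_bot]; exact Subgroup.centralizer_eq_top_iff_subset.mpr (by simp)
    rw [h1, inf_top_eq] at hcent
    exact hN.ne hcent
  exact c2_Phi_cent_aux_core mc hN hkN hcop
    (fun y hy n hn => htheta (Phi_le _) (Phi_ne hWne) ((cA_normalized A k).trans (Phi_normalizer_le _)) hy hn)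
    hKth

/-- C2H, core of `c2_Phi_bot`. -/
theorem c2_Phi_bot_aux_core (mc : MC p A K) {k : G} (hk : k ∈ K) (hkN : cA A k ⊔ N = K)
    (hcent : Phi (cA A k) ≤ Subgroup.centralizer (N : Set G)) : Phi (cA A k) = ⊥ := by
  by_contra hne
  set P := Phi (cA A k) with hP
  have hPW : P ≤ cA A k := Phi_le _
  have hWK : cA A k ≤ K := cA_le mc.hyp.norm hk
  have hWP : cA A k ≤ Subgroup.normalizer (P : Set G) :=
    (Subgroup.le_normalizer).trans (Phi_normalizer_le _)
  have hAP : A ≤ Subgroup.normalizer (P : Set G) :=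
    (cA_normalized A k).trans (Phi_normalizer_le _)
  have hPn : P.Normal := by
    apply C2CD_aux_normal mc.top hkN hWP _ hAP
    apply C2CD_aux_norm
    intro n hn x hx
    have h1 : n * x * n⁻¹ = x := by
      have := (Subgroup.mem_centralizer_iff.mp (hcent hx)) n hn
      rw [this]; group
    rw [h1]; exact hx
  have h1 := mc.fix_le_sup hPn (hPW.trans hWK) hne
  have h2 : P ⊓ Subgroup.centralizer (A : Set G) ≤ DD A K :=
    (inf_le_inf_right _ hPW).trans (cA_inf_le_DD hk)
  have h3 : K ⊓ Subgroup.centralizer (A : Set G) ≤ DD A K := h1.trans (sup_le le_rfl h2)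
  apply mc.neg
  unfold Thm
  exact (inf_le_inf_right _ (MC1_aux_comm_le mc.hyp.norm)).trans h3

end Cfsg.Agent.S3816P
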