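import Mathlib
import Cfsg.Agent.Helper13.S3816Defs
import Cfsg.Agent.Helper13.S3816Basic
import Cfsg.Agent.Helper20.S3816C2HCore
import Cfsg.Agent.Helper6.S3816C2Acore
import Cfsg.Agent.Helper22.S3816C2CD
import Cfsg.Agent.Helper13.S3816C2E
import Cfsg.Agent.Helper3.S3816C2Fcore
import Cfsg.Agent.Helper3.S3816C2Gcore

/-! Board `s3816pieces`, rows C2G2 (`c2_coprime`) and C2H (`c2_Phi_cent`, `c2_Phi_bot`): wrappers of the cores in
`Helper20.S3816C2HCore`; `c2_Y0` and `c2_pgroup` are taken from the cores `Helper3.S3816C2Fcore`, `Helper3.S3816C2Gcore`. -/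

set_option autoImplicit false

namespace Cfsg.Agent.S3816P

universe u

variable {G : Type u} [Group G] [Finite G] {p : ℕ} [Fact p.Prime] {A K N : Subgroup G}

/-- the conclusion of `c2_pgroup` (rows C2F + C2G), from the landed cores -/
theorem C2H_aux_pgroup (mc : MC p A K) (hN : MinN K N) (h2 : ¬ N ≤ Subgroup.centralizer (A : Set G))
    {k : G} (hk : k ∈ K) (hkN : cA A k ⊔ N = K) :
    (∃ s : ℕ, s.Prime ∧ IsPGroup s (cA A k)) ∧
      ∀ K1 : Subgroup G, K1 ≤ cA A k → K1 ≠ cA A k → A ≤ Subgroup.normalizer (K1 : Set G) →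
        K1 ≤ Phi (cA A k) := by
  obtain ⟨r, -, -, -, hab⟩ := hN.elemAb mc
  exact c2_pgroup_core mc.hyp hk
    (c2_Y0_core mc.top hN hkN
      (fun K1 h1 hne hA1 y hy n hn => c2_theta_inv mc hN h2 hk hkN h1 hne hA1 hy hn)
      (c2_Kth_ne mc hN) (c2_cent mc hN h2 hk hkN) hab)

/-- C2G2 -/
theorem c2_coprime (mc : MC p A K) (hN : MinN K N) (h2 : ¬ N ≤ Subgroup.centralizer (A : Set G))
    {k : G} (hk : k ∈ K) (hkN : cA A k ⊔ N = K) :
    (Nat.card (cA A k)).Coprime (Nat.card N) :=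
  c2_coprime_aux_core mc hN hk hkN (C2H_aux_pgroup mc hN h2 hk hkN).1 (c2_cent mc hN h2 hk hkN)

/-- C2H -/
theorem c2_Phi_cent (mc : MC p A K) (hN : MinN K N) (h2 : ¬ N ≤ Subgroup.centralizer (A : Set G))
    {k : G} (hk : k ∈ K) (hkN : cA A k ⊔ N = K) :
    Phi (cA A k) ≤ Subgroup.centralizer (N : Set G) :=
  c2_Phi_cent_aux_core2 mc hN hkN (c2_coprime mc hN h2 hk hkN) (c2_cent mc hN h2 hk hkN)
    (fun h1 hne hA1 _ hy _ hn => c2_theta_inv mc hN h2 hk hkN h1 hne hA1 hy hn) (c2_Kth_ne mc hN)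

/-- C2H2 -/
theorem c2_Phi_bot (mc : MC p A K) (hN : MinN K N) (h2 : ¬ N ≤ Subgroup.centralizer (A : Set G))
    {k : G} (hk : k ∈ K) (hkN : cA A k ⊔ N = K) : Phi (cA A k) = ⊥ :=
  c2_Phi_bot_aux_core mc hk hkN (c2_Phi_cent mc hN h2 hk hkN)

end Cfsg.Agent.S3816P
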