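import Mathlib
import Cfsg.Agent.Helper27.S4009Defs

/-! Board `s4009pieces`, row STRICT: the lower central series of a finite `p`-group is strictly decreasing until it
reaches `⊥`. -/

set_option autoImplicit false

namespace Cfsg.Agent.S4009P

open Subgroup
open scoped commutatorElement

variable {P : Type*} [Group P]

/-- once the lower central series repeats, it is constant -/
theorem STRICT_aux_const {j : ℕ} (h : Gam P (j + 1) = Gam P j) : ∀ m : ℕ, Gam P (j + m) = Gam P j := by
  intro m
  induction m with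
  | zero => rfl
  | succ m ih =>
    have h1 : Gam P (j + (m + 1)) = ⁅Gam P (j + m), (⊤ : Subgroup P)⁆ := rfl
    rw [h1, ih]
    exact h

/-- in a nilpotent group the lower central series is strictly decreasing until it reaches `⊥` -/
theorem STRICT_aux_ne [Group.IsNilpotent P] {j : ℕ} (hj : Gam P j ≠ ⊥) : Gam P (j + 1) ≠ Gam P j := by
  intro h
  apply hj
  have h1 := STRICT_aux_const h (Group.nilpotencyClass P)
  rw [← h1, eq_bot_iff]
  have h2 : Gam P (j + Group.nilpotencyClass P) ≤ Gam P (Group.nilpotencyClass P) :=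
    Subgroup.lowerCentralSeries_antitone _ (Nat.le_add_left _ _)
  have h3 : Gam P (Group.nilpotencyClass P) = ⊥ := Subgroup.lowerCentralSeries_nilpotencyClass
  rw [h3] at h2
  exact h2

/-- STRICT (S/M): the lower central series of a finite `p`-group is strictly decreasing until it reaches `⊥`. -/
theorem STRICT [Finite P] {p : ℕ} [Fact p.Prime] (hP : IsPGroup p P) {j : ℕ} (hj : Gam P j ≠ ⊥) :
    p * Nat.card ↥(Gam P (j + 1)) ≤ Nat.card ↥(Gam P j) := by
  haveI : Group.IsNilpotent P := hP.isNilpotent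
  have hle : Gam P (j + 1) ≤ Gam P j := Subgroup.lowerCentralSeries_antitone _ (Nat.le_succ j)
  have hne := STRICT_aux_ne hj
  obtain ⟨a, ha⟩ := IsPGroup.iff_card.mp (hP.to_subgroup (Gam P j))
  obtain ⟨b, hb⟩ := IsPGroup.iff_card.mp (hP.to_subgroup (Gam P (j + 1)))
  have hp : p.Prime := Fact.out
  have hdvd : Nat.card ↥(Gam P (j + 1)) ∣ Nat.card ↥(Gam P j) := Subgroup.card_dvd_of_le hle
  rw [ha, hb] at hdvd ⊢
  have hba : b ≤ a := (Nat.pow_dvd_pow_iff_le_right hp.one_lt).mp hdvd
  have hba' : b ≠ a := by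
    intro h
    apply hne
    apply Subgroup.eq_of_le_of_card_ge hle
    rw [ha, hb, h]
  have hlt : b + 1 ≤ a := by omega
  calc p * p ^ b = p ^ (b + 1) := by rw [pow_succ, mul_comm]
    _ ≤ p ^ a := Nat.pow_le_pow_right hp.pos hlt

end Cfsg.Agent.S4009P
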