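import Mathlib
import Cfsg.Agent.Helper27.S4009Defs
import Cfsg.Agent.Helper20.S4009STRICT

/-! Board `s4009pieces`, row CHAIN: iterate STRICT. -/

set_option autoImplicit false

namespace Cfsg.Agent.S4009P

open Subgroup
open scoped commutatorElement

variable {P : Type*} [Group P]

/-- iterated STRICT -/
theorem CHAIN_aux_iter [Finite P] {p : ℕ} [Fact p.Prime] (hP : IsPGroup p P) (m : ℕ) :
    ∀ d : ℕ, Gam P (m + d) ≠ ⊥ → p ^ d * Nat.card ↥(Gam P (m + d)) ≤ Nat.card ↥(Gam P m) := by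
  intro d
  induction d with
  | zero => intro _; simp
  | succ d ih =>
    intro hne
    have hle : Gam P (m + (d + 1)) ≤ Gam P (m + d) :=
      Subgroup.lowerCentralSeries_antitone _ (by omega)
    have hne' : Gam P (m + d) ≠ ⊥ := by
      intro h
      apply hne
      rw [eq_bot_iff, ← h]
      exact hle
    have h1 := STRICT hP hne'
    have h2 := ih hne'
    have e : m + d + 1 = m + (d + 1) := by omega
    rw [e] at h1
    calc p ^ (d + 1) * Nat.card ↥(Gam P (m + (d + 1)))
        = p ^ d * (p * Nat.card ↥(Gam P (m + (d + 1)))) := by rw [pow_succ, mul_assoc]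
      _ ≤ p ^ d * Nat.card ↥(Gam P (m + d)) := Nat.mul_le_mul_left _ h1
      _ ≤ Nat.card ↥(Gam P m) := h2

/-- CHAIN (M): iterate STRICT. -/
theorem CHAIN [Finite P] {p : ℕ} [Fact p.Prime] (hP : IsPGroup p P) {b b' : ℕ} (hb : b + 1 ≤ b') (hb' : Gam P b' ≠ ⊥) :
    p ^ (b' - b - 1) * Nat.card ↥(Gam P b') ≤ Nat.card ↥(Gam P (b + 1)) := by
  have e : b + 1 + (b' - b - 1) = b' := by omega
  have h := CHAIN_aux_iter hP (b + 1) (b' - b - 1)
  rw [e] at h
  exact h hb'

end Cfsg.Agent.S4009P
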