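import Mathlib
import Cfsg.Agent.Helper9.S4091Defs
import Cfsg.Agent.Helper19.S4091PIB

set_option autoImplicit false
set_option linter.unusedSectionVars false
set_option linter.unusedVariables false
set_option linter.style.haveILetI false

/-! Piece PI of the board `s4091pieces`: the inequality (Pi) for `a ^ p ^ k = 1`, by induction on `k`. -/

namespace Cfsg.Agent.S4091P

universe u v

variable {p : ℕ} [Fact p.Prime]

theorem PI_aux_fix_pow {N : Type u} [Group N] (b : MulAut N) (n : N) (h : b n = n) (j : ℕ) :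
    (b ^ j) n = n := by
  induction j with
  | zero => simp
  | succ j ih => rw [pow_succ, MulAut.mul_apply, h, ih]

theorem PI_aux_res_mul {N : Type u} [Group N] (y : MulAut N) (b1 c1 : MulAut ↥(fixSub y))
    (b c : MulAut N) (h1 : ∀ m : ↥(fixSub y), ((b1 m : ↥(fixSub y)) : N) = b (m : N))
    (h2 : ∀ m : ↥(fixSub y), ((c1 m : ↥(fixSub y)) : N) = c (m : N)) :
    ∀ m : ↥(fixSub y), (((b1 * c1) m : ↥(fixSub y)) : N) = (b * c) (m : N) := by
  intro m
  rw [MulAut.mul_apply, MulAut.mul_apply, h1, h2]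

theorem PI_aux_res_pow {N : Type u} [Group N] (y : MulAut N) (b1 : MulAut ↥(fixSub y))
    (b : MulAut N) (h1 : ∀ m : ↥(fixSub y), ((b1 m : ↥(fixSub y)) : N) = b (m : N)) (j : ℕ) :
    ∀ m : ↥(fixSub y), (((b1 ^ j) m : ↥(fixSub y)) : N) = (b ^ j) (m : N) := by
  induction j with
  | zero => intro m; simp
  | succ j ih =>
    rw [pow_succ, pow_succ]
    exact PI_aux_res_mul y _ _ _ _ ih h1

theorem PI_aux_fixSub_res {N : Type u} [Group N] (y b : MulAut N) (b1 : MulAut ↥(fixSub y))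
    (h : ∀ m : ↥(fixSub y), ((b1 m : ↥(fixSub y)) : N) = b (m : N)) :
    fixSub b1 = (fixSub b).subgroupOf (fixSub y) := by
  ext m
  rw [Subgroup.mem_subgroupOf, mem_fixSub, mem_fixSub, ← h, Subtype.ext_iff]

theorem PI_aux_card_subgroupOf {N : Type u} [Group N] (S K : Subgroup N) :
    Nat.card ↥(S.subgroupOf K) = Nat.card ↥(S ⊓ K) := by
  rw [← Subgroup.inf_subgroupOf_right S K]
  exact Nat.card_congr (Subgroup.subgroupOfEquivOfLe inf_le_right).toEquiv

/-- (CNT) `|A| |B| ≤ |N| |A ∩ B|` -/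
theorem PI_aux_cnt {N : Type u} [Group N] [Finite N] (A B : Subgroup N) :
    Nat.card ↥A * Nat.card ↥B ≤ Nat.card N * Nat.card ↥(A ⊓ B) := by
  have h1 := Subgroup.index_inf_le (H := A) (K := B)
  have hA := A.card_mul_index
  have hB := B.card_mul_index
  have hAB := (A ⊓ B).card_mul_index
  have hNpos : 0 < Nat.card N := Nat.card_pos
  have hApos : 0 < Nat.card ↥A := Nat.card_pos
  have hBpos : 0 < Nat.card ↥B := Nat.card_pos
  have hABpos : 0 < Nat.card ↥(A ⊓ B) := Nat.card_pos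
  have h2 : Nat.card N * (Nat.card ↥A * Nat.card ↥B) ≤ Nat.card N * (Nat.card N * Nat.card ↥(A ⊓ B)) := by
    calc Nat.card N * (Nat.card ↥A * Nat.card ↥B)
        = (Nat.card ↥(A ⊓ B) * (A ⊓ B).index) * (Nat.card ↥A * Nat.card ↥B) := by rw [hAB]
      _ = (A ⊓ B).index * (Nat.card ↥(A ⊓ B) * Nat.card ↥A * Nat.card ↥B) := by ring
      _ ≤ (A.index * B.index) * (Nat.card ↥(A ⊓ B) * Nat.card ↥A * Nat.card ↥B) :=
          Nat.mul_le_mul_right _ h1
      _ = (Nat.card ↥A * A.index) * (Nat.card ↥B * B.index) * Nat.card ↥(A ⊓ B) := by ring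
      _ = Nat.card N * (Nat.card N * Nat.card ↥(A ⊓ B)) := by rw [hA, hB]; ring
  exact Nat.le_of_mul_le_mul_left h2 hNpos

/-- PI: (Pi) in general, induction on `k` (new type `↥(fixSub (a ^ p ^ (k-1)))`, `resAut`) -/
theorem PI (k : ℕ) : ∀ {N : Type u} [Group N] [Finite N] (a z : MulAut N), Commute a z →
    a ^ (p ^ k) = 1 → z ^ p = 1 → ¬ p ∣ Nat.card N →
    fx z * ∏ i ∈ Finset.range p, fx (a * z ^ i) ≤ Nat.card N * fx2 a z ^ p := by
  induction k with
  | zero =>
    intro N _ _ a z hc ha hz hN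
    refine PIB a z hc ?_ hz hN
    rw [pow_zero, pow_one] at ha
    rw [ha, one_pow]
  | succ k ih =>
    intro N _ _ a z hc ha hz hN
    rcases Nat.eq_zero_or_pos k with rfl | hk
    · refine PIB a z hc ?_ hz hN
      simpa using ha
    · have hay : Commute a (a ^ (p ^ k)) := Commute.pow_right (Commute.refl a) _
      have hzy : Commute z (a ^ (p ^ k)) := hc.symm.pow_right _
      have hyp : (a ^ (p ^ k)) ^ p = 1 := by
        rw [← pow_mul, ← pow_succ]; exact ha
      -- compatibility of the restrictions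
      have ca : ∀ m : ↥(fixSub (a ^ (p ^ k))),
          ((resAut (a ^ (p ^ k)) a hay m : ↥(fixSub (a ^ (p ^ k)))) : N) = a (m : N) := fun m => rfl
      have cz : ∀ m : ↥(fixSub (a ^ (p ^ k))),
          ((resAut (a ^ (p ^ k)) z hzy m : ↥(fixSub (a ^ (p ^ k)))) : N) = z (m : N) := fun m => rfl
      have hc1 : Commute (resAut (a ^ (p ^ k)) a hay) (resAut (a ^ (p ^ k)) z hzy) := by
        apply MulEquiv.ext
        intro m
        apply Subtype.ext
        rw [PI_aux_res_mul _ _ _ _ _ ca cz, PI_aux_res_mul _ _ _ _ _ cz ca, hc.eq]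
      have ha1 : (resAut (a ^ (p ^ k)) a hay) ^ (p ^ k) = 1 := by
        apply MulEquiv.ext
        intro m
        apply Subtype.ext
        rw [PI_aux_res_pow _ _ _ ca]
        exact m.2
      have hz1 : (resAut (a ^ (p ^ k)) z hzy) ^ p = 1 := by
        apply MulEquiv.ext
        intro m
        apply Subtype.ext
        rw [PI_aux_res_pow _ _ _ cz, hz]
        rfl
      have hN1 : ¬ p ∣ Nat.card ↥(fixSub (a ^ (p ^ k))) := fun h =>
        hN (dvd_trans h (Subgroup.card_subgroup_dvd_card _))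
      have IH := ih (resAut (a ^ (p ^ k)) a hay) (resAut (a ^ (p ^ k)) z hzy) hc1 ha1 hz1 hN1
      -- fixed points of `a z^i` are fixed by `y`
      have hfixle : ∀ i : ℕ, fixSub (a * z ^ i) ≤ fixSub (a ^ (p ^ k)) := by
        intro i n hn
        rw [mem_fixSub] at hn ⊢
        have h1 := PI_aux_fix_pow (a * z ^ i) n hn (p ^ k)
        have h2 : (a * z ^ i) ^ (p ^ k) = a ^ (p ^ k) := by
          rw [(hc.pow_right i).mul_pow, ← pow_mul]
          obtain ⟨j, hj⟩ : p ∣ i * p ^ k := Dvd.dvd.mul_left (dvd_pow_self p (Nat.pos_iff_ne_zero.mp hk)) i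
          rw [hj, pow_mul, hz, one_pow, mul_one]
        rw [h2] at h1
        exact h1
      have hfixa : fixSub a ≤ fixSub (a ^ (p ^ k)) := by
        have := hfixle 0
        rwa [pow_zero, mul_one] at this
      have e1 : fx (resAut (a ^ (p ^ k)) z hzy) = Nat.card ↥(fixSub z ⊓ fixSub (a ^ (p ^ k))) := by
        unfold fx
        rw [PI_aux_fixSub_res _ z _ cz, PI_aux_card_subgroupOf]
      have e2 : ∀ i : ℕ, fx (resAut (a ^ (p ^ k)) a hay * (resAut (a ^ (p ^ k)) z hzy) ^ i) =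
          fx (a * z ^ i) := by
        intro i
        unfold fx
        rw [PI_aux_fixSub_res _ (a * z ^ i) _
          (PI_aux_res_mul _ _ _ _ _ ca (PI_aux_res_pow _ _ _ cz i)), PI_aux_card_subgroupOf,
          inf_eq_left.mpr (hfixle i)]
      have e3 : fx2 (resAut (a ^ (p ^ k)) a hay) (resAut (a ^ (p ^ k)) z hzy) = fx2 a z := by
        unfold fx2
        have hh : fixSub (resAut (a ^ (p ^ k)) a hay) ⊓ fixSub (resAut (a ^ (p ^ k)) z hzy) =
            (fixSub a ⊓ fixSub z).subgroupOf (fixSub (a ^ (p ^ k))) := by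
          rw [PI_aux_fixSub_res _ a _ ca, PI_aux_fixSub_res _ z _ cz]
          ext m
          simp only [Subgroup.mem_inf, Subgroup.mem_subgroupOf]
        rw [hh, PI_aux_card_subgroupOf, inf_eq_left.mpr (le_trans inf_le_left hfixa)]
      rw [e1, e3, Finset.prod_congr rfl (fun i _ => e2 i)] at IH
      have hcnt := PI_aux_cnt (fixSub (a ^ (p ^ k))) (fixSub z)
      rw [inf_comm] at hcnt
      have hcpos : 0 < Nat.card ↥(fixSub z ⊓ fixSub (a ^ (p ^ k))) := Nat.card_pos
      have hfin : Nat.card ↥(fixSub z ⊓ fixSub (a ^ (p ^ k))) *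
          (fx z * ∏ i ∈ Finset.range p, fx (a * z ^ i)) ≤
          Nat.card ↥(fixSub z ⊓ fixSub (a ^ (p ^ k))) * (Nat.card N * fx2 a z ^ p) := by
        calc Nat.card ↥(fixSub z ⊓ fixSub (a ^ (p ^ k))) *
              (fx z * ∏ i ∈ Finset.range p, fx (a * z ^ i))
            = fx z * (Nat.card ↥(fixSub z ⊓ fixSub (a ^ (p ^ k))) *
                ∏ i ∈ Finset.range p, fx (a * z ^ i)) := by ring
          _ ≤ fx z * (Nat.card ↥(fixSub (a ^ (p ^ k))) * fx2 a z ^ p) := Nat.mul_le_mul_left _ IH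
          _ = (Nat.card ↥(fixSub (a ^ (p ^ k))) * Nat.card ↥(fixSub z)) * fx2 a z ^ p := by
              unfold fx; ring
          _ ≤ (Nat.card N * Nat.card ↥(fixSub z ⊓ fixSub (a ^ (p ^ k)))) * fx2 a z ^ p :=
              Nat.mul_le_mul_right _ hcnt
          _ = Nat.card ↥(fixSub z ⊓ fixSub (a ^ (p ^ k))) * (Nat.card N * fx2 a z ^ p) := by ring
      exact Nat.le_of_mul_le_mul_left hfin hcpos

end Cfsg.Agent.S4091P
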