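import Mathlib
import Cfsg.Agent.Helper9.S4091Defs
import Cfsg.Agent.Helper20.S4091PI

set_option autoImplicit false
set_option linter.unusedSectionVars false
set_option linter.unusedVariables false
set_option linter.style.haveILetI false

/-! Piece LHOM of the board `s4091pieces`: the generalised Brauer-Wielandt inequality (L) for a
`p`-group `P` acting on a `p'`-group `N` through `φ : P →* MulAut N`. -/

namespace Cfsg.Agent.S4091P

universe u v

variable {p : ℕ} [Fact p.Prime]

/-- a central element of order `p` of the image of a nontrivial action of a `p`-group -/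
theorem LHOM_aux_central {N : Type u} [Group N] [Finite N] {P : Type v} [Group P] [Finite P]
    (hP : IsPGroup p P) (φ : P →* MulAut N) (hnt : ¬ ∀ x, φ x = 1) :
    ∃ xz : P, φ xz ≠ 1 ∧ (φ xz) ^ p = 1 ∧ ∀ x, Commute (φ x) (φ xz) := by
  classical
  have hQ : IsPGroup p ↥φ.range := hP.of_surjective φ.rangeRestrict φ.rangeRestrict_surjective
  haveI : Finite ↥φ.range := Finite.of_surjective φ.rangeRestrict φ.rangeRestrict_surjective
  haveI : Nontrivial ↥φ.range := by
    push Not at hnt
    obtain ⟨x, hx⟩ := hnt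
    refine ⟨⟨⟨φ x, x, rfl⟩, 1, ?_⟩⟩
    intro h
    apply hx
    exact congrArg Subtype.val h
  haveI : Nontrivial ↥(Subgroup.center ↥φ.range) := hQ.center_nontrivial
  have hZ : IsPGroup p ↥(Subgroup.center ↥φ.range) := hQ.to_subgroup _
  have hdvd : p ∣ Nat.card ↥(Subgroup.center ↥φ.range) := by
    rcases hZ.card_eq_or_dvd with h | h
    · exfalso
      have := Finite.one_lt_card (α := ↥(Subgroup.center ↥φ.range))
      omega
    · exact h
  obtain ⟨c, hc⟩ := exists_prime_orderOf_dvd_card' p hdvd
  obtain ⟨xz, hxz⟩ : ∃ xz, φ xz = ((c : ↥φ.range) : MulAut N) := (c : ↥φ.range).2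
  have hcne : c ≠ 1 := by
    intro h
    rw [h, orderOf_one] at hc
    exact (Fact.out : p.Prime).one_lt.ne hc
  have hcp : c ^ p = 1 := by
    rw [← hc]; exact pow_orderOf_eq_one c
  refine ⟨xz, ?_, ?_, ?_⟩
  · rw [hxz]
    intro h
    apply hcne
    apply Subtype.ext
    apply Subtype.ext
    exact h
  · rw [hxz]
    have := congrArg (fun t : ↥(Subgroup.center ↥φ.range) => ((t : ↥φ.range) : MulAut N)) hcp
    simpa using this
  · intro x
    rw [hxz]
    have h1 := Subgroup.mem_center_iff.mp c.2 ⟨φ x, x, rfl⟩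
    have h2 := congrArg (fun t : ↥φ.range => (t : MulAut N)) h1
    simp only [Subgroup.coe_mul] at h2
    exact h2

/-- LHOM: (L) for a `p`-group `P` acting on a `p'`-group `N` through `φ` -/
theorem LHOM : ∀ (n : ℕ) {N : Type u} [Group N] [Finite N], Nat.card N = n → ¬ p ∣ n →
    ∀ {P : Type v} [Group P] [Fintype P], IsPGroup p P → ∀ φ : P →* MulAut N,
      (∏ x : P, fx (φ x)) ^ p ≤ (Nat.card N * fxAll φ ^ (p - 1)) ^ Nat.card P := by
  intro n
  induction n using Nat.strong_induction_on with
  | _ n IH =>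
  intro N _ _ hn hp P _ _ hP φ
  have hp1 : 1 ≤ p := (Fact.out : p.Prime).one_lt.le
  by_cases htriv : ∀ x, φ x = 1
  · -- trivial action: equality
    have h1 : ∀ x : P, fx (φ x) = Nat.card N := by
      intro x
      rw [htriv x]
      unfold fx
      have : fixSub (1 : MulAut N) = ⊤ := by
        ext m; simp [mem_fixSub]
      rw [this, Subgroup.card_top]
    have h2 : fxAll φ = Nat.card N := by
      unfold fxAll
      have : (⨅ x : P, fixSub (φ x)) = ⊤ := by
        ext m
        simp [mem_fixSub, htriv]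
      rw [this, Subgroup.card_top]
    rw [Finset.prod_congr rfl (fun x _ => h1 x), h2, Finset.prod_const, Finset.card_univ,
      ← Nat.card_eq_fintype_card, ← pow_succ', Nat.sub_add_cancel hp1, ← pow_mul, ← pow_mul, mul_comm]
  · obtain ⟨xz, hzne, hzp, hcomm⟩ := LHOM_aux_central hP φ htriv
    -- the fixed subgroup of `z` is proper
    have hlt : Nat.card ↥(fixSub (φ xz)) < n := by
      rw [← hn]
      apply lt_of_le_of_ne (Subgroup.card_le_card_group _)
      intro h
      apply hzne
      have htop := (Subgroup.card_eq_iff_eq_top _).mp h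
      apply MulEquiv.ext
      intro m
      have : m ∈ fixSub (φ xz) := by rw [htop]; trivial
      exact this
    have hpN : ¬ p ∣ Nat.card N := by rw [hn]; exact hp
    have hpN0 : ¬ p ∣ Nat.card ↥(fixSub (φ xz)) := fun h =>
      hpN (dvd_trans h (Subgroup.card_subgroup_dvd_card _))
    have IH0 := IH _ hlt (N := ↥(fixSub (φ xz))) rfl hpN0 hP (resHom φ (φ xz) hcomm)
    -- fixed points of the restricted action
    have cres : ∀ (x : P) (m : ↥(fixSub (φ xz))),
        ((resHom φ (φ xz) hcomm x m : ↥(fixSub (φ xz))) : N) = φ x (m : N) := fun x m => rfl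
    have e1 : ∀ x : P, fx (resHom φ (φ xz) hcomm x) = fx2 (φ x) (φ xz) := by
      intro x
      unfold fx fx2
      rw [PI_aux_fixSub_res _ (φ x) _ (cres x), PI_aux_card_subgroupOf]
    have e2 : fxAll (resHom φ (φ xz) hcomm) = fxAll φ := by
      unfold fxAll
      have hh : (⨅ x : P, fixSub (resHom φ (φ xz) hcomm x)) =
          (⨅ x : P, fixSub (φ x)).subgroupOf (fixSub (φ xz)) := by
        ext m
        simp only [Subgroup.mem_iInf, Subgroup.mem_subgroupOf]
        constructor
        · intro h x
          have := h x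
          rw [PI_aux_fixSub_res _ (φ x) _ (cres x), Subgroup.mem_subgroupOf] at this
          exact this
        · intro h x
          rw [PI_aux_fixSub_res _ (φ x) _ (cres x), Subgroup.mem_subgroupOf]
          exact h x
      rw [hh, PI_aux_card_subgroupOf, inf_eq_left.mpr (iInf_le _ xz)]
    rw [Finset.prod_congr rfl (fun x _ => e1 x), e2] at IH0
    -- the product of (Pi) over `x`
    have hPi : ∀ x : P, fx (φ xz) * ∏ i ∈ Finset.range p, fx (φ x * φ xz ^ i) ≤
        Nat.card N * fx2 (φ x) (φ xz) ^ p := by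
      intro x
      obtain ⟨k, hk⟩ := hP x
      refine PI k (φ x) (φ xz) (hcomm x) ?_ hzp hpN
      rw [← map_pow, hk, map_one]
    have hprod := Finset.prod_le_prod (s := (Finset.univ : Finset P))
      (fun x _ => Nat.zero_le _) (fun x _ => hPi x)
    have hL : ∏ x : P, (fx (φ xz) * ∏ i ∈ Finset.range p, fx (φ x * φ xz ^ i)) =
        fx (φ xz) ^ Nat.card P * (∏ x : P, fx (φ x)) ^ p := by
      rw [Finset.prod_mul_distrib, Finset.prod_const, Finset.card_univ, ← Nat.card_eq_fintype_card,
        Finset.prod_comm]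
      congr 1
      have : ∀ i ∈ Finset.range p, ∏ x : P, fx (φ x * φ xz ^ i) = ∏ x : P, fx (φ x) := by
        intro i _
        have h1 : ∀ x : P, fx (φ x * φ xz ^ i) = fx (φ (x * xz ^ i)) := by
          intro x; rw [map_mul, map_pow]
        rw [Finset.prod_congr rfl (fun x _ => h1 x)]
        exact Fintype.prod_equiv (Equiv.mulRight (xz ^ i)) _ _ (fun x => rfl)
      rw [Finset.prod_congr rfl this, Finset.prod_const, Finset.card_range]
    have hR : ∏ x : P, (Nat.card N * fx2 (φ x) (φ xz) ^ p) =
        Nat.card N ^ Nat.card P * (∏ x : P, fx2 (φ x) (φ xz)) ^ p := by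
      rw [Finset.prod_mul_distrib, Finset.prod_const, Finset.card_univ, ← Nat.card_eq_fintype_card,
        Finset.prod_pow]
    rw [hL, hR] at hprod
    have hc0pos : 0 < fx (φ xz) ^ Nat.card P := by
      apply Nat.pow_pos
      unfold fx
      exact Nat.card_pos
    have hfin : fx (φ xz) ^ Nat.card P * (∏ x : P, fx (φ x)) ^ p ≤
        fx (φ xz) ^ Nat.card P * (Nat.card N * fxAll φ ^ (p - 1)) ^ Nat.card P := by
      calc fx (φ xz) ^ Nat.card P * (∏ x : P, fx (φ x)) ^ p
          ≤ Nat.card N ^ Nat.card P * (∏ x : P, fx2 (φ x) (φ xz)) ^ p := hprod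
        _ ≤ Nat.card N ^ Nat.card P *
              (Nat.card ↥(fixSub (φ xz)) * fxAll φ ^ (p - 1)) ^ Nat.card P :=
            Nat.mul_le_mul_left _ IH0
        _ = fx (φ xz) ^ Nat.card P * (Nat.card N * fxAll φ ^ (p - 1)) ^ Nat.card P := by
            unfold fx
            rw [mul_pow, mul_pow]; ring
    exact Nat.le_of_mul_le_mul_left hfin hc0pos

end Cfsg.Agent.S4091P
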