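import Mathlib
import Cfsg.Agent.Helper9.S4091Defs

set_option autoImplicit false
set_option linter.unusedSectionVars false
set_option linter.unusedVariables false
set_option linter.style.haveILetI false

/-! Piece PIB of the board `s4091pieces`, first half: the Brauer-Wielandt formula
`Helper7.wform` in the semidirect product, for an abstract action of an elementary abelian group of order `p ^ 2`. -/

namespace Cfsg.Agent.S4091P

universe u v

variable {p : ℕ} [Fact p.Prime]

open Cfsg.Agent.Helper7 (subFinset mem_subFinset wform WForm)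

/-- in a semidirect product, `inr e` commutes with `inl n` iff `n` is fixed -/
theorem PIB_aux_comm_iff {N : Type u} [Group N] {E : Type v} [Group E] (ψ : E →* MulAut N)
    (e : E) (n : N) :
    (SemidirectProduct.inr e : N ⋊[ψ] E) * SemidirectProduct.inl n =
      SemidirectProduct.inl n * SemidirectProduct.inr e ↔ ψ e n = n := by
  rw [SemidirectProduct.ext_iff]
  simp

/-- Brauer-Wielandt for an abstract action of an elementary abelian group of order `p ^ 2` -/
theorem PIB_aux_wform {N : Type u} [Group N] [Finite N] {E : Type v} [Group E] [Fintype E]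
    (ψ : E →* MulAut N) (hEc : ∀ x y : E, x * y = y * x) (hEp : ∀ x : E, x ^ p = 1)
    (hE2 : Nat.card E = p ^ 2) (hN : ¬ p ∣ Nat.card N) :
    Nat.card N ^ p * Nat.card ↥(⨅ e : E, fixSub (ψ e)) ^ (p * (p - 1)) = ∏ e : E, fx (ψ e) := by
  classical
  haveI : Finite (N ⋊[ψ] E) := Finite.of_equiv _ SemidirectProduct.equivProd.symm
  have hA : Cfsg.IsElementaryAbelian p (SemidirectProduct.inr : E →* N ⋊[ψ] E).range := by
    refine ⟨⟨⟨fun x y => ?_⟩⟩, ?_⟩
    · obtain ⟨x, ex, rfl⟩ := x
      obtain ⟨y, ey, rfl⟩ := y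
      apply Subtype.ext
      show SemidirectProduct.inr ex * SemidirectProduct.inr ey =
        SemidirectProduct.inr ey * SemidirectProduct.inr ex
      rw [← map_mul, ← map_mul, hEc]
    · rintro _ ⟨e, rfl⟩
      rw [← map_pow, hEp, map_one]
  have hA2 : Nat.card ↥(SemidirectProduct.inr : E →* N ⋊[ψ] E).range = p ^ 2 := by
    rw [← hE2]
    exact Nat.card_congr (MonoidHom.ofInjective SemidirectProduct.inr_injective).symm.toEquiv
  haveI hKn : ((SemidirectProduct.inl : N →* N ⋊[ψ] E).range).Normal := by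
    rw [SemidirectProduct.range_inl_eq_ker_rightHom]
    infer_instance
  have hAK : (SemidirectProduct.inr : E →* N ⋊[ψ] E).range ≤
      Subgroup.normalizer (((SemidirectProduct.inl : N →* N ⋊[ψ] E).range : Subgroup _) : Set _) := by
    rw [Subgroup.normalizer_eq_top]
    exact le_top
  have hKcard : Nat.card ↥(SemidirectProduct.inl : N →* N ⋊[ψ] E).range = Nat.card N :=
    Nat.card_congr (MonoidHom.ofInjective SemidirectProduct.inl_injective).symm.toEquiv
  have hK : ¬ p ∣ Nat.card ↥(SemidirectProduct.inl : N →* N ⋊[ψ] E).range := by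
    rw [hKcard]; exact hN
  have W := wform hA hA2 hAK hK
  unfold WForm at W
  -- the centralisers
  have c1 : ∀ e : E, (SemidirectProduct.inl : N →* N ⋊[ψ] E).range ⊓
      Subgroup.centralizer ({SemidirectProduct.inr e} : Set (N ⋊[ψ] E)) =
      (fixSub (ψ e)).map SemidirectProduct.inl := by
    intro e
    ext x
    rw [Subgroup.mem_inf, Subgroup.mem_centralizer_iff, Subgroup.mem_map]
    constructor
    · rintro ⟨⟨n, rfl⟩, h⟩
      refine ⟨n, ?_, rfl⟩
      rw [mem_fixSub, ← PIB_aux_comm_iff]
      exact h _ rfl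
    · rintro ⟨n, hn, rfl⟩
      refine ⟨⟨n, rfl⟩, ?_⟩
      intro y hy
      rw [Set.mem_singleton_iff.mp hy, PIB_aux_comm_iff]
      exact hn
  have c2 : (SemidirectProduct.inl : N →* N ⋊[ψ] E).range ⊓
      Subgroup.centralizer (((SemidirectProduct.inr : E →* N ⋊[ψ] E).range : Subgroup _) : Set _) =
      (⨅ e : E, fixSub (ψ e)).map SemidirectProduct.inl := by
    ext x
    rw [Subgroup.mem_inf, Subgroup.mem_centralizer_iff, Subgroup.mem_map]
    constructor
    · rintro ⟨⟨n, rfl⟩, h⟩
      refine ⟨n, ?_, rfl⟩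
      rw [Subgroup.mem_iInf]
      intro e
      rw [mem_fixSub, ← PIB_aux_comm_iff]
      exact h _ ⟨e, rfl⟩
    · rintro ⟨n, hn, rfl⟩
      refine ⟨⟨n, rfl⟩, ?_⟩
      rintro _ ⟨e, rfl⟩
      rw [PIB_aux_comm_iff]
      exact Subgroup.mem_iInf.mp hn e
  have hsub : subFinset (SemidirectProduct.inr : E →* N ⋊[ψ] E).range =
      Finset.univ.map ⟨SemidirectProduct.inr, SemidirectProduct.inr_injective⟩ := by
    ext x
    rw [mem_subFinset, Finset.mem_map]
    constructor
    · rintro ⟨e, rfl⟩
      exact ⟨e, Finset.mem_univ _, rfl⟩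
    · rintro ⟨e, _, rfl⟩
      exact ⟨e, rfl⟩
  rw [hsub, Finset.prod_map, c2, hKcard,
    Subgroup.card_map_of_injective SemidirectProduct.inl_injective] at W
  rw [W]
  apply Finset.prod_congr rfl
  intro e _
  show Nat.card ↥((SemidirectProduct.inl : N →* N ⋊[ψ] E).range ⊓
      Subgroup.centralizer ({SemidirectProduct.inr e} : Set (N ⋊[ψ] E))) = fx (ψ e)
  rw [c1, Subgroup.card_map_of_injective SemidirectProduct.inl_injective]
  rfl

end Cfsg.Agent.S4091P
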