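import Mathlib
import Cfsg.Agent.Helper27.S4150Defs

/-! S4150 piece INVODD (driver helper27; helper20): an involution inverting a `q`-cycle,
`q ≡ 3 (mod 4)`, and fixing the points outside its support, is an odd permutation. -/

set_option autoImplicit false

namespace Cfsg.Agent.S4150P

open Equiv Equiv.Perm MulAction

section
variable {α : Type*} [Fintype α] [DecidableEq α]

omit [Fintype α] [DecidableEq α] in
/-- conjugation formula for powers -/
theorem INVODD.conj_pow {y w : Perm α} (hwy : w * y * w⁻¹ = y⁻¹) (i : ℕ) (a : α) :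
    w ((y ^ i) a) = (y ^ i)⁻¹ (w a) := by
  have h : w * y ^ i * w⁻¹ = (y ^ i)⁻¹ := by
    rw [← _root_.conj_pow, hwy, inv_pow]
  have h2 : w * y ^ i = (y ^ i)⁻¹ * w := by
    rw [← h]; group
  have := congrArg (fun f : Perm α => f a) h2
  simpa [Perm.mul_apply] using this

/-- two fixed points of `w` in the support of `y` coincide -/
theorem INVODD.fixed_unique {q : ℕ} (hq : q.Prime) (hq2 : q ≠ 2) {y w : Perm α} (hyc : y.IsCycle)
    (hys : y.support.card = q) (hwy : w * y * w⁻¹ = y⁻¹) {a b : α} (ha : a ∈ y.support)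
    (hb : b ∈ y.support) (hwa : w a = a) (hwb : w b = b) : b = a := by
  rw [Perm.mem_support] at ha hb
  obtain ⟨i, hi⟩ := hyc.exists_pow_eq ha hb
  have h1 : w ((y ^ i) a) = (y ^ i)⁻¹ a := by
    rw [INVODD.conj_pow hwy, hwa]
  rw [hi, hwb] at h1
  -- `b = (y^i)⁻¹ a`, so `y^i b = a`
  have h2 : (y ^ i) b = a := by
    rw [h1]
    exact Equiv.apply_symm_apply (y ^ i) a
  have h3 : (y ^ (2 * i)) a = a := by
    rw [two_mul, pow_add, Perm.mul_apply, hi, h2]
  have h4 : y ^ (2 * i) = 1 := (hyc.pow_eq_one_iff' ha).2 h3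
  have h5 : orderOf y ∣ 2 * i := orderOf_dvd_of_pow_eq_one h4
  rw [hyc.orderOf, hys] at h5
  have h6 : q ∣ i := by
    rcases (Nat.Prime.dvd_mul hq).1 h5 with h | h
    · exfalso
      have := (Nat.prime_dvd_prime_iff_eq hq Nat.prime_two).1 h
      exact hq2 this
    · exact h
  have h7 : y ^ i = 1 := by
    have : orderOf y ∣ i := by rw [hyc.orderOf, hys]; exact h6
    exact orderOf_dvd_iff_pow_eq_one.1 this
  rw [h7] at hi
  exact hi.symm

theorem INVODD.main {q : ℕ} (hq : q.Prime) (hq4 : q % 4 = 3) {y w : Perm α} (hyc : y.IsCycle)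
    (hys : y.support.card = q) (hw : orderOf w = 2) (hwy : w * y * w⁻¹ = y⁻¹)
    (hfix : ∀ a, a ∉ y.support → w a = a) : Equiv.Perm.sign w = -1 := by
  have hq2 : q ≠ 2 := by
    intro h; rw [h] at hq4; omega
  have hw' : (orderOf w).Prime := by rw [hw]; exact Nat.prime_two
  obtain ⟨k, hk⟩ := Equiv.Perm.cycleType_prime_order hw'
  rw [hw] at hk
  have hsupp : w.support.card = 2 * (k + 1) := by
    rw [← Equiv.Perm.sum_cycleType, hk, Multiset.sum_replicate, smul_eq_mul, mul_comm]
  have hsub : w.support ⊆ y.support := by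
    intro a ha
    by_contra hay
    exact (Perm.mem_support.1 ha) (hfix a hay)
  -- the fixed points of `w` in the support of `y`
  have hcard : (y.support \ w.support).card = q - 2 * (k + 1) := by
    rw [Finset.card_sdiff_of_subset hsub, hys, hsupp]
  have hle : 2 * (k + 1) ≤ q := by
    rw [← hsupp, ← hys]; exact Finset.card_le_card hsub
  have hne : (y.support \ w.support).Nonempty := by
    rw [← Finset.card_pos, hcard]
    omega
  obtain ⟨a, ha⟩ := hne
  rw [Finset.mem_sdiff, Perm.notMem_support] at ha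
  have hone : (y.support \ w.support) = {a} := by
    ext b
    rw [Finset.mem_singleton, Finset.mem_sdiff, Perm.notMem_support]
    constructor
    · rintro ⟨hb1, hb2⟩
      exact INVODD.fixed_unique hq hq2 hyc hys hwy ha.1 hb1 ha.2 hb2
    · rintro rfl
      exact ha
  rw [hone, Finset.card_singleton] at hcard
  have hkodd : Odd (k + 1) := by
    rw [Nat.odd_iff]
    omega
  rw [Equiv.Perm.sign_of_cycleType, hk, Multiset.sum_replicate, Multiset.card_replicate, smul_eq_mul]
  have hodd : Odd ((k + 1) * 2 + (k + 1)) := by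
    rw [Nat.odd_iff] at hkodd ⊢
    omega
  exact hodd.neg_one_pow

end

end Cfsg.Agent.S4150P
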