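import Mathlib
import Cfsg.Agent.Helper27.S4150Defs
import Cfsg.Agent.Helper20.S4150INVODD
import Cfsg.Agent.Helper26.S4150RESTRISO
import Cfsg.Agent.Helper6.S4150RESTRMEM
import Cfsg.Agent.Helper4.S4150SYLQ

/-! S4150 piece PARQ (driver helper27; helper20): Sylow arithmetic for the stabiliser of the fixed
points of a `q`-cycle, `q ≡ 3 (mod 4)`, in a group of even permutations. -/

set_option autoImplicit false

namespace Cfsg.Agent.S4150P

open Equiv Equiv.Perm MulAction

section
variable {α : Type*} [Fintype α] [DecidableEq α]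

theorem PARQ.main {q : ℕ} (hq : q.Prime) (hq4 : q % 4 = 3) (H : Subgroup (Perm α))
    (hHA : H ≤ alternatingGroup α) {x : Perm α} (hx : x ∈ H) (hxc : x.IsCycle)
    (hxs : x.support.card = q) :
    ∃ r k : ℕ, Nat.card (ptStab H x.supportᶜ) = q * r * k ∧ k % q = 1 ∧ r ∣ q - 1 ∧ ¬ Even r ∧
      (r = 1 → k = 1) := by
  have hq2 : q ≠ 2 := by
    intro h; rw [h] at hq4; omega
  set D : Finset α := x.support with hD
  set K : Subgroup (Perm α) := ptStab H Dᶜ with hK
  have hKfix : ∀ g ∈ K, ∀ a, a ∉ D → g a = a := by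
    intro g hg a ha
    exact hg.2 a (Finset.mem_compl.2 ha)
  have hxK : x ∈ K := by
    refine ⟨hx, fun a ha => ?_⟩
    rw [Finset.mem_compl, hD, Perm.mem_support, not_not] at ha
    exact ha
  obtain ⟨iso⟩ := RESTRISO.main K D hKfix
  obtain ⟨x', hx'K, hx'x, hx'ct⟩ := RESTRMEM.main K D hxK (fun a ha => hKfix x hxK a ha)
  have hcardD : Fintype.card ↥D = q := by
    rw [Fintype.card_coe, hD, hxs]
  have hx'o : orderOf x' = q := by
    rw [← Equiv.Perm.lcm_cycleType, hx'ct, Equiv.Perm.lcm_cycleType, hxc.orderOf, hxs]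
  obtain ⟨s, n, _, hcard, hn, hs, hs1, hev⟩ := SYLQ.main hq hq2 hcardD (restr K D) hx'K hx'o
  refine ⟨s, n, ?_, hn, hs, ?_, hs1⟩
  · rw [← hcard]
    exact (Nat.card_congr iso.toEquiv).symm
  · intro hes
    obtain ⟨w, hwK, hwo, hwx⟩ := hev hes
    have hx'c : x'.IsCycle := by
      rw [← Equiv.Perm.card_cycleType_eq_one, hx'ct, Equiv.Perm.card_cycleType_eq_one]
      exact hxc
    have hx's : x'.support.card = q := by
      rw [← Equiv.Perm.sum_cycleType, hx'ct, Equiv.Perm.sum_cycleType, hxs]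
    have hsupp : x'.support = Finset.univ := by
      apply Finset.eq_univ_of_card
      rw [hx's, hcardD]
    have hsign : Equiv.Perm.sign w = -1 :=
      INVODD.main hq hq4 hx'c hx's hwo hwx (fun a ha => absurd (hsupp ▸ Finset.mem_univ a) ha)
    have hwH : Equiv.Perm.ofSubtype w ∈ alternatingGroup α := hHA (ptStab_le H Dᶜ (mem_restr.1 hwK))
    rw [Equiv.Perm.mem_alternatingGroup, Equiv.Perm.sign_ofSubtype, hsign] at hwH
    exact absurd hwH (by decide)

end

end Cfsg.Agent.S4150P
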