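import Mathlib
import Cfsg.Agent.Helper26.S4394Defs
import Cfsg.Agent.Helper20.S4394GSb

set_option autoImplicit false
set_option linter.unusedSectionVars false
set_option linter.unusedVariables false
set_option linter.style.haveILetI false

/-! Piece GSc of the board `s4394pieces`: the semi-extraspecial property (P2). -/

namespace Cfsg.Agent.S4394P

open Cfsg Cfsg.Agent.S4394P

/-- (ab): a subgroup `M ≤ C = C_P(y)` containing all commutators of `P` contains `C` -/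
theorem GSc_aux_ab {X : Type*} [Group X] [Finite X] {p : ℕ} [Fact p.Prime] {P : Subgroup X} {y : X}
    (h : SchData p P y) (M : Subgroup X) (hMC : M ≤ P ⊓ Subgroup.centralizer {y})
    (hcomm : ∀ u ∈ P, ∀ v ∈ P, u * v * u⁻¹ * v⁻¹ ∈ M) : P ⊓ Subgroup.centralizer {y} ≤ M := by
  classical
  obtain ⟨b1, b2, b3, b4⟩ := GSb h
  haveI hMn : (M.subgroupOf P).Normal := by
    constructor
    intro n hn g
    rw [Subgroup.mem_subgroupOf] at hn ⊢
    have e : (g : X) * n * (g : X)⁻¹ = n := by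
      have := b3 n (hMC hn) g g.2
      rw [← this, mul_inv_cancel_right]
    simp only [Subgroup.coe_mul, InvMemClass.coe_inv]
    rw [e]; exact hn
  have hcq : ∀ a b : ↥P ⧸ M.subgroupOf P, a * b = b * a := by
    intro a b
    induction a using QuotientGroup.induction_on with | _ a =>
    induction b using QuotientGroup.induction_on with | _ b =>
    rw [← QuotientGroup.mk_mul, ← QuotientGroup.mk_mul, QuotientGroup.eq, Subgroup.mem_subgroupOf]
    have := hcomm _ (P.inv_mem b.2) _ (P.inv_mem a.2)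
    simpa [mul_assoc] using this
  let ψ : ↥P →* ↥P ⧸ M.subgroupOf P :=
    { toFun := fun w => QuotientGroup.mk
        ⟨y * w * y⁻¹ * (w : X)⁻¹, P.mul_mem (h.nrm w w.2) (P.inv_mem w.2)⟩
      map_one' := by
        have : (⟨y * ((1 : ↥P) : X) * y⁻¹ * (((1 : ↥P) : X))⁻¹,
            P.mul_mem (h.nrm _ (1 : ↥P).2) (P.inv_mem (1 : ↥P).2)⟩ : ↥P) = 1 := by
          apply Subtype.ext
          simp
        rw [this]; rfl
      map_mul' := fun w w' => by
        have e : (⟨y * ((w * w' : ↥P) : X) * y⁻¹ * (((w * w' : ↥P) : X))⁻¹,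
            P.mul_mem (h.nrm _ (w * w').2) (P.inv_mem (w * w').2)⟩ : ↥P) =
            ⟨y * w * y⁻¹ * (w : X)⁻¹, P.mul_mem (h.nrm w w.2) (P.inv_mem w.2)⟩ *
              (w * ⟨y * w' * y⁻¹ * (w' : X)⁻¹, P.mul_mem (h.nrm w' w'.2) (P.inv_mem w'.2)⟩ * w⁻¹) := by
          apply Subtype.ext
          simp only [Subgroup.coe_mul, InvMemClass.coe_inv]
          group
        rw [e, QuotientGroup.mk_mul, QuotientGroup.mk_mul, QuotientGroup.mk_mul, QuotientGroup.mk_inv,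
          hcq (QuotientGroup.mk w), mul_inv_cancel_right] }
  have hψ : ∀ w : ↥P, ψ w = QuotientGroup.mk
      ⟨y * w * y⁻¹ * (w : X)⁻¹, P.mul_mem (h.nrm w w.2) (P.inv_mem w.2)⟩ := fun w => rfl
  -- surjectivity
  have hclP : Subgroup.closure {g : X | ∃ w ∈ P, y * w * y⁻¹ * w⁻¹ = g} = P := GSb_aux_closure h
  have key : ∀ g ∈ Subgroup.closure {g : X | ∃ w ∈ P, y * w * y⁻¹ * w⁻¹ = g}, ∀ hg : g ∈ P,
      (QuotientGroup.mk (⟨g, hg⟩ : ↥P) : ↥P ⧸ M.subgroupOf P) ∈ ψ.range := by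
    intro g hg
    induction hg using Subgroup.closure_induction with
    | mem g hg =>
      obtain ⟨w, hw, rfl⟩ := hg
      intro hg'
      exact ⟨⟨w, hw⟩, rfl⟩
    | one =>
      intro _
      exact ψ.range.one_mem
    | mul a b ha hb iha ihb =>
      intro hab
      have haP : a ∈ P := by rw [← hclP]; exact ha
      have hbP : b ∈ P := by rw [← hclP]; exact hb
      have e : (⟨a * b, hab⟩ : ↥P) = ⟨a, haP⟩ * ⟨b, hbP⟩ := rfl
      rw [e, QuotientGroup.mk_mul]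
      exact ψ.range.mul_mem (iha haP) (ihb hbP)
    | inv a ha iha =>
      intro hai
      have haP : a ∈ P := by rw [← hclP]; exact ha
      have e : (⟨a⁻¹, hai⟩ : ↥P) = (⟨a, haP⟩ : ↥P)⁻¹ := rfl
      rw [e, QuotientGroup.mk_inv]
      exact ψ.range.inv_mem (iha haP)
  have hsurj : Function.Surjective ψ := by
    intro q
    induction q using QuotientGroup.induction_on with | _ u =>
    have hu : (u : X) ∈ Subgroup.closure {g : X | ∃ w ∈ P, y * w * y⁻¹ * w⁻¹ = g} := by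
      rw [hclP]; exact u.2
    exact key u hu u.2
  -- elements of `C` lie in the kernel
  have hCker : ∀ c (hc : c ∈ P ⊓ Subgroup.centralizer {y}),
      (⟨c, (Subgroup.mem_inf.mp hc).1⟩ : ↥P) ∈ ψ.ker := by
    intro c hc
    have hcy := (GSb_aux_mem_cent y c).mp (Subgroup.mem_inf.mp hc).2
    rw [MonoidHom.mem_ker, hψ]
    have : (⟨y * c * y⁻¹ * c⁻¹, P.mul_mem (h.nrm c (Subgroup.mem_inf.mp hc).1)
        (P.inv_mem (Subgroup.mem_inf.mp hc).1)⟩ : ↥P) = 1 := by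
      apply Subtype.ext
      show y * c * y⁻¹ * c⁻¹ = 1
      rw [hcy]; group
    exact (QuotientGroup.eq_one_iff _).mpr (by rw [this]; exact Subgroup.one_mem _)
  have hker : M.subgroupOf P ≤ ψ.ker := by
    intro m hm
    exact hCker m (hMC (Subgroup.mem_subgroupOf.mp hm))
  have hcard : Nat.card ψ.ker = Nat.card (M.subgroupOf P) := by
    have h1 := Subgroup.card_eq_card_quotient_mul_card_subgroup ψ.ker
    have h2 := Subgroup.card_eq_card_quotient_mul_card_subgroup (M.subgroupOf P)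
    have h3 : Nat.card (↥P ⧸ ψ.ker) = Nat.card (↥P ⧸ M.subgroupOf P) :=
      Nat.card_congr (QuotientGroup.quotientKerEquivOfSurjective ψ hsurj).toEquiv
    rw [h3] at h1
    have hpos : 0 < Nat.card (↥P ⧸ M.subgroupOf P) := Nat.card_pos
    exact Nat.eq_of_mul_eq_mul_left hpos (h1.symm.trans h2)
  have heq : M.subgroupOf P = ψ.ker := Subgroup.eq_of_le_of_card_ge hker hcard.le
  intro c hc
  have := hCker c hc
  rw [← heq, Subgroup.mem_subgroupOf] at this
  exact this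

/-- GSc (M/L): the semi-extraspecial property (P2). -/
theorem GSc {X : Type*} [Group X] [Finite X] {p : ℕ} [Fact p.Prime] {P : Subgroup X} {y : X}
    (h : SchData p P y) (x : X) (hx : x ∈ P) (hxC : x ∉ Subgroup.centralizer {y})
    (z : X) (hz : z ∈ P ⊓ Subgroup.centralizer {y}) : ∃ t ∈ P, x * t * x⁻¹ * t⁻¹ = z := by
  classical
  obtain ⟨b1, b2, b3, b4⟩ := GSb h
  -- commutators with a fixed element are multiplicative
  have hmul : ∀ w ∈ P, ∀ t ∈ P, ∀ s ∈ P,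
      w * (t * s) * w⁻¹ * (t * s)⁻¹ = (w * t * w⁻¹ * t⁻¹) * (w * s * w⁻¹ * s⁻¹) := by
    intro w hw t ht s hs
    have hc := b3 _ (b1 w hw s hs) t ht
    calc w * (t * s) * w⁻¹ * (t * s)⁻¹
        = (w * t * w⁻¹ * t⁻¹) * (t * (w * s * w⁻¹ * s⁻¹)) * t⁻¹ := by group
      _ = (w * t * w⁻¹ * t⁻¹) * ((w * s * w⁻¹ * s⁻¹) * t) * t⁻¹ := by rw [hc]
      _ = (w * t * w⁻¹ * t⁻¹) * (w * s * w⁻¹ * s⁻¹) := by group
  -- the subgroup `D = [x, P]`
  let D : Subgroup X :=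
    { carrier := {g | ∃ t ∈ P, x * t * x⁻¹ * t⁻¹ = g}
      one_mem' := ⟨1, P.one_mem, by group⟩
      mul_mem' := by
        rintro _ _ ⟨t, ht, rfl⟩ ⟨s, hs, rfl⟩
        exact ⟨t * s, P.mul_mem ht hs, hmul x hx t ht s hs⟩
      inv_mem' := by
        rintro _ ⟨t, ht, rfl⟩
        refine ⟨t⁻¹, P.inv_mem ht, ?_⟩
        have h1 := hmul x hx t ht t⁻¹ (P.inv_mem ht)
        rw [mul_inv_cancel] at h1
        have h2 : x * 1 * x⁻¹ * (1 : X)⁻¹ = 1 := by group
        rw [h2] at h1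
        exact (eq_inv_of_mul_eq_one_right h1.symm) }
  have hDmem : ∀ g, g ∈ D ↔ ∃ t ∈ P, x * t * x⁻¹ * t⁻¹ = g := fun g => Iff.rfl
  have hDC : D ≤ P ⊓ Subgroup.centralizer {y} := by
    rintro _ ⟨t, ht, rfl⟩
    exact b1 x hx t ht
  -- conjugation by `y⁻¹` preserves `P`
  have hyN : y ∈ Subgroup.normalizer (P : Set X) := GSb_aux_normalizer P y h.nrm
  have hyinv : ∀ t ∈ P, y⁻¹ * t * y ∈ P := by
    intro t ht
    have := (Subgroup.mem_normalizer_iff.mp (Subgroup.inv_mem _ hyN) t).mp ht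
    rwa [inv_inv] at this
  -- the subgroup `W`
  let W : Subgroup X :=
    { carrier := {w | w ∈ P ∧ ∀ t ∈ P, w * t * w⁻¹ * t⁻¹ ∈ D}
      one_mem' := ⟨P.one_mem, fun t _ => by
        have : (1 : X) * t * (1 : X)⁻¹ * t⁻¹ = 1 := by group
        rw [this]; exact D.one_mem⟩
      mul_mem' := by
        rintro w w' ⟨hw, hwD⟩ ⟨hw', hwD'⟩
        refine ⟨P.mul_mem hw hw', fun t ht => ?_⟩
        have hc := b3 _ (hDC (hwD' t ht)) w hw
        have e : w * w' * t * (w * w')⁻¹ * t⁻¹ =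
            (w' * t * w'⁻¹ * t⁻¹) * (w * t * w⁻¹ * t⁻¹) := by
          calc w * w' * t * (w * w')⁻¹ * t⁻¹
              = (w * (w' * t * w'⁻¹ * t⁻¹)) * w⁻¹ * (w * t * w⁻¹ * t⁻¹) := by group
            _ = ((w' * t * w'⁻¹ * t⁻¹) * w) * w⁻¹ * (w * t * w⁻¹ * t⁻¹) := by rw [hc]
            _ = (w' * t * w'⁻¹ * t⁻¹) * (w * t * w⁻¹ * t⁻¹) := by group
        rw [e]
        exact D.mul_mem (hwD' t ht) (hwD t ht)
      inv_mem' := by
        rintro w ⟨hw, hwD⟩
        refine ⟨P.inv_mem hw, fun t ht => ?_⟩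
        have hc := b3 _ (hDC (hwD t ht)) w hw
        have e : w⁻¹ * t * w⁻¹⁻¹ * t⁻¹ = (w * t * w⁻¹ * t⁻¹)⁻¹ := by
          have e1 : w⁻¹ * t * w⁻¹⁻¹ * t⁻¹ = w⁻¹ * (w * t * w⁻¹ * t⁻¹)⁻¹ * w := by group
          have hci : (w * t * w⁻¹ * t⁻¹)⁻¹ * w = w * (w * t * w⁻¹ * t⁻¹)⁻¹ :=
            (Commute.inv_left (show Commute (w * t * w⁻¹ * t⁻¹) w from hc)).eq
          have e2 : w⁻¹ * (w * t * w⁻¹ * t⁻¹)⁻¹ * w = (w * t * w⁻¹ * t⁻¹)⁻¹ := by
            rw [mul_assoc, hci, inv_mul_cancel_left]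
          rw [e1, e2]
        rw [e]
        exact D.inv_mem (hwD t ht) }
  have hxW : x ∈ W := ⟨hx, fun t ht => ⟨t, ht, rfl⟩⟩
  have hWP : W ≤ P := fun w hw => hw.1
  have hWy : ∀ w ∈ W, y * w * y⁻¹ ∈ W := by
    rintro w ⟨hw, hwD⟩
    refine ⟨h.nrm w hw, fun t ht => ?_⟩
    have hd := hwD (y⁻¹ * t * y) (hyinv t ht)
    have hdy := (GSb_aux_mem_cent y _).mp (Subgroup.mem_inf.mp (hDC hd)).2
    have e : y * w * y⁻¹ * t * (y * w * y⁻¹)⁻¹ * t⁻¹ =
        y * (w * (y⁻¹ * t * y) * w⁻¹ * (y⁻¹ * t * y)⁻¹) * y⁻¹ := by group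
    rw [e, hdy, mul_inv_cancel_right]
    exact hd
  rcases GSb_aux_irr h W hWP hWy with hW | hW
  · have hall : ∀ u ∈ P, ∀ v ∈ P, u * v * u⁻¹ * v⁻¹ ∈ D := by
      intro u hu v hv
      have : u ∈ W := by rw [hW]; exact hu
      exact this.2 v hv
    have hCD := GSc_aux_ab h D hDC hall
    exact hCD hz
  · exfalso
    exact hxC (Subgroup.mem_inf.mp (hW hxW)).2

end Cfsg.Agent.S4394P
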