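import Mathlib
import Cfsg.Agent.Helper26.S4395Defs

set_option autoImplicit false
set_option linter.unusedVariables false

/-! Board `s4395pieces`, piece NF2: twist the generator `y ↦ y^k`, `j k ≡ 1 (mod q)`. -/

namespace Cfsg.Agent.S4395P

open Cfsg Cfsg.Agent.S4395P Cfsg.Agent.S4394P

/-- conjugation by a power: invariance under `z` gives invariance under `z ^ n` -/
theorem NF2_aux_conj_pow {X : Type*} [Group X] (M : Subgroup X) (z : X)
    (h : ∀ m ∈ M, z * m * z⁻¹ ∈ M) (n : ℕ) : ∀ m ∈ M, z ^ n * m * (z ^ n)⁻¹ ∈ M := by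
  induction n with
  | zero => intro m hm; simpa using hm
  | succ n ih =>
    intro m hm
    have h1 := h _ (ih m hm)
    have e : z ^ (n + 1) * m * (z ^ (n + 1))⁻¹ = z * (z ^ n * m * (z ^ n)⁻¹) * z⁻¹ := by
      rw [pow_succ']; group
    rw [e]; exact h1

/-- the twisted equivariance for powers -/
theorem NF2_aux_equiv_pow {F : Type*} [Field F] {X : Type*} [Group X] (P : Subgroup X) (y : X)
    (hPn : P.Normal) (lam : X → F) (c : F)
    (hequiv : ∀ u ∈ P, lam (y * u * y⁻¹) = c * lam u) (n : ℕ) :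
    ∀ u ∈ P, lam (y ^ n * u * (y ^ n)⁻¹) = c ^ n * lam u := by
  induction n with
  | zero => intro u hu; simp
  | succ n ih =>
    intro u hu
    have hmem : y ^ n * u * (y ^ n)⁻¹ ∈ P := hPn.conj_mem u hu (y ^ n)
    have e : y ^ (n + 1) * u * (y ^ (n + 1))⁻¹ = y * (y ^ n * u * (y ^ n)⁻¹) * y⁻¹ := by
      rw [pow_succ']; group
    rw [e, hequiv _ hmem, ih u hu, pow_succ]
    ring

/-- NF2 (M/L): replace `y` by `y^k`, `j k ≡ 1 mod q`. -/
theorem NF2 (p q r : ℕ) [Fact p.Prime] [Fact q.Prime] (hpq : p ≠ q)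
    {F : Type*} [Field F] (ζ : F) (hζ : orderOf ζ = q)
    {X : Type*} [Group X] [Finite X] (P : Subgroup X) (y : X)
    (hmnn : Cfsg.IsMinimalNonNilpotent X) (hPn : P.Normal) (hs : SchData p P y)
    (hcard : Nat.card X = Nat.card P * q ^ r) (hord : orderOf y = q ^ r)
    (hgen : ∀ x : X, ∃ u ∈ P, ∃ i : ℕ, x = u * y ^ i) (hyq : ∀ u ∈ P, y ^ q * u = u * y ^ q)
    (j : ℕ) (lam : X → F) (hj : ¬ q ∣ j)
    (hadd : ∀ u ∈ P, ∀ v ∈ P, lam (u * v) = lam u + lam v)
    (hsurj : ∀ f : F, ∃ u ∈ P, lam u = f)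
    (hker : ∀ u ∈ P, lam u = 0 ↔ u ∈ Subgroup.centralizer {y})
    (hequiv : ∀ u ∈ P, lam (y * u * y⁻¹) = ζ ^ j * lam u) :
    ∃ k : ℕ, NFData p q r ζ P (y ^ k) lam := by
  have hq : q.Prime := Fact.out
  -- the inverse of `j` modulo `q`
  have hj0 : (j : ZMod q) ≠ 0 := by
    intro h0
    exact hj ((ZMod.natCast_eq_zero_iff j q).1 h0)
  set k : ℕ := ((j : ZMod q)⁻¹).val with hk
  have hjk : ((j * k : ℕ) : ZMod q) = 1 := by
    rw [Nat.cast_mul, hk, ZMod.natCast_zmod_val, mul_inv_cancel₀ hj0]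
  have hk0 : ¬ q ∣ k := by
    intro hd
    have : ((k : ℕ) : ZMod q) = 0 := (ZMod.natCast_eq_zero_iff k q).2 hd
    rw [Nat.cast_mul, this, mul_zero] at hjk
    exact zero_ne_one hjk
  have hcop : (orderOf y).Coprime k := by
    rw [hord]
    exact Nat.Coprime.pow_left r ((Nat.Prime.coprime_iff_not_dvd hq).2 hk0)
  have hordz : orderOf (y ^ k) = q ^ r := by
    rw [hcop.orderOf_pow, hord]
  obtain ⟨k', hk'⟩ := exists_pow_eq_self_of_coprime (x := y) hcop.symm
  -- commuting with `y` and with `y ^ k` are the same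
  have hcomm : ∀ u : X, y ^ k * u = u * y ^ k ↔ y * u = u * y := by
    intro u
    constructor
    · intro h
      have hc : Commute (y ^ k) u := h
      have := hc.pow_left k'
      rw [hk'] at this
      exact this
    · intro h
      have hc : Commute y u := h
      exact hc.pow_left k
  -- `ζ ^ (j k) = ζ`
  have hζk : (ζ ^ j) ^ k = ζ := by
    rw [← pow_mul, ← pow_mod_orderOf, hζ]
    have h1 : (j * k) % q = 1 % q := by
      have := (ZMod.natCast_eq_natCast_iff' (j * k) 1 q).1 (by rw [hjk]; simp)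
      exact this
    rw [h1, Nat.mod_eq_of_lt hq.one_lt, pow_one]
  refine ⟨k, ?_⟩
  refine
    { mnn := hmnn
      normal := hPn
      sch := ?_
      card := hcard
      ord := hordz
      gen := ?_
      yq := ?_
      add := hadd
      surj := hsurj
      ker := ?_
      equiv := ?_ }
  · refine ⟨hs.pgrp, fun u hu => hPn.conj_mem u hu _, ?_, ?_, ?_⟩
    · rw [hordz, ← hord]; exact hs.cop
    · obtain ⟨u, hu, hne⟩ := hs.nc
      exact ⟨u, hu, fun h => hne ((hcomm u).1 h)⟩
    · intro M hle hne hinv m hm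
      have hy : ∀ m ∈ M, y * m * y⁻¹ ∈ M := by
        intro m hm
        have := NF2_aux_conj_pow M (y ^ k) hinv k' m hm
        rwa [hk'] at this
      exact (hcomm m).2 (hs.irr M hle hne hy m hm)
  · intro x
    obtain ⟨u, hu, i, rfl⟩ := hgen x
    refine ⟨u, hu, k' * i, ?_⟩
    rw [pow_mul, hk']
  · intro u hu
    have hc : Commute (y ^ q) u := hyq u hu
    have e : (y ^ k) ^ q = (y ^ q) ^ k := by rw [← pow_mul, ← pow_mul, mul_comm]
    rw [e]
    exact hc.pow_left k
  · intro u hu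
    rw [hker u hu, Subgroup.mem_centralizer_singleton_iff, Subgroup.mem_centralizer_singleton_iff]
    constructor
    · intro h; exact ((hcomm u).2 h.symm).symm
    · intro h; exact ((hcomm u).1 h.symm).symm
  · intro u hu
    rw [NF2_aux_equiv_pow P y hPn lam (ζ ^ j) hequiv k u hu, hζk]

end Cfsg.Agent.S4395P
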