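import Mathlib
import Cfsg.Agent.Helper11.S4409Defs
import Cfsg.Agent.Helper9.S4415Defs

/-! Board `s4415pieces`, row E0 (`center_cases`): either `Z(R)` contains a `B`-invariant four-group on which `B` acts
nontrivially, or `B` centralises `Z(R)`. -/

set_option autoImplicit false
set_option linter.unusedVariables false

namespace Cfsg.Agent.S4415P

open Subgroup
open Cfsg.Agent.S4409P (Zc Fr Der IsV4 IsQ8 SpecialInt IsAb)

variable {S : Type*} [Group S] [Finite S] {E : Type*} [AddCommGroup E] [Module (ZMod 3) E] [Finite E]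

/-- the four-group `{1, x, y, xy}` spanned by two commuting involutions. -/
def E0_aux_four (x y : S) (hx : x * x = 1) (hy : y * y = 1) (hxy : y * x = x * y) : Subgroup S where
  carrier := {g | g = 1 ∨ g = x ∨ g = y ∨ g = x * y}
  one_mem' := Or.inl rfl
  mul_mem' := by
    have hx' : ∀ z, x * (x * z) = z := fun z => by rw [← mul_assoc, hx, one_mul]
    have hy' : ∀ z, y * (y * z) = z := fun z => by rw [← mul_assoc, hy, one_mul]
    have hxy' : ∀ z, y * (x * z) = x * (y * z) := fun z => by rw [← mul_assoc, hxy, mul_assoc]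
    rintro a b (rfl | rfl | rfl | rfl) (rfl | rfl | rfl | rfl) <;>
      simp [mul_assoc, hx, hy, hx', hxy, hxy']
  inv_mem' := by
    have hxi : x⁻¹ = x := inv_eq_of_mul_eq_one_left hx
    have hyi : y⁻¹ = y := inv_eq_of_mul_eq_one_left hy
    rintro a (rfl | rfl | rfl | rfl)
    · simp
    · simp [hxi]
    · simp [hyi]
    · right; right; right
      rw [mul_inv_rev, hxi, hyi, hxy]

theorem E0_aux_four_mem (x y : S) (hx : x * x = 1) (hy : y * y = 1) (hxy : y * x = x * y) (g : S) :
    g ∈ E0_aux_four x y hx hy hxy ↔ g = 1 ∨ g = x ∨ g = y ∨ g = x * y := Iff.rfl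

theorem E0_aux_four_card (x y : S) (hx : x * x = 1) (hy : y * y = 1) (hxy : y * x = x * y)
    (hx1 : x ≠ 1) (hy1 : y ≠ 1) (hne : x ≠ y) : Nat.card ↥(E0_aux_four x y hx hy hxy) = 4 := by
  have hset : ((E0_aux_four x y hx hy hxy : Subgroup S) : Set S) = {1, x, y, x * y} := by
    ext g
    simp only [SetLike.mem_coe, E0_aux_four_mem, Set.mem_insert_iff, Set.mem_singleton_iff]
  have hxi : x⁻¹ = x := inv_eq_of_mul_eq_one_left hx
  have h1 : x * y ≠ 1 := by
    intro h
    have : y = x⁻¹ := (inv_eq_of_mul_eq_one_right h).symm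
    rw [hxi] at this
    exact hne this.symm
  have h2 : x * y ≠ x := by
    intro h
    exact hy1 (by simpa using h)
  have h3 : x * y ≠ y := by
    intro h
    exact hx1 (by simpa using h)
  have hc : Nat.card ↥(E0_aux_four x y hx hy hxy) =
      Set.ncard ((E0_aux_four x y hx hy hxy : Subgroup S) : Set S) := rfl
  rw [hc, Set.ncard_eq_four]
  exact ⟨1, x, y, x * y, hx1.symm, hy1.symm, h1.symm, hne, h2.symm, h3.symm, hset⟩

/-- conjugation by `b`. -/
def E0_aux_c (b x : S) : S := b * x * b⁻¹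

theorem E0_aux_c_mul (b x y : S) : E0_aux_c b (x * y) = E0_aux_c b x * E0_aux_c b y := by
  unfold E0_aux_c; group

theorem E0_aux_c_one (b : S) : E0_aux_c b 1 = 1 := by
  unfold E0_aux_c; group

theorem E0_aux_c_inv (b x : S) : E0_aux_c b x⁻¹ = (E0_aux_c b x)⁻¹ := by
  unfold E0_aux_c; group

theorem E0_aux_c_cube (b x : S) (hb3 : b ^ 3 = 1) : E0_aux_c b (E0_aux_c b (E0_aux_c b x)) = x := by
  unfold E0_aux_c
  have hb3' : b * b * b = 1 := by rw [← hb3, pow_succ, pow_two]
  have h : b * (b * (b * x * b⁻¹) * b⁻¹) * b⁻¹ = (b * b * b) * x * (b * b * b)⁻¹ := by group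
  rw [h, hb3']; simp

theorem E0_aux_c_mem_Zc (b : S) (R : Subgroup S) (hbN : b ∈ normalizer (R : Set S)) (x : S) (hx : x ∈ Zc R) :
    E0_aux_c b x ∈ Zc R := by
  rw [Cfsg.Agent.S4409P.mem_Zc] at hx ⊢
  obtain ⟨hxR, hxc⟩ := hx
  rw [Subgroup.mem_normalizer_iff] at hbN
  refine ⟨(hbN x).1 hxR, ?_⟩
  intro y hy
  have hy' : b⁻¹ * y * b ∈ R := by
    rw [hbN (b⁻¹ * y * b)]
    have : b * (b⁻¹ * y * b) * b⁻¹ = y := by group
    rw [this]; exact hy
  have h := hxc _ hy'
  unfold E0_aux_c
  calc y * (b * x * b⁻¹) = b * ((b⁻¹ * y * b) * x) * b⁻¹ := by group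
    _ = b * (x * (b⁻¹ * y * b)) * b⁻¹ := by rw [h]
    _ = b * x * b⁻¹ * y := by group

theorem E0_aux_comm (R : Subgroup S) (x y : S) (hx : x ∈ Zc R) (hy : y ∈ Zc R) : x * y = y * x := by
  rw [Cfsg.Agent.S4409P.mem_Zc] at hx hy
  exact hy.2 x hx.1

/-- an automorphism of order `3` of the abelian `2`-group `Z(R)` fixing all involutions is trivial. -/
theorem E0_aux_fix (b : S) (R : Subgroup S) (hb3 : b ^ 3 = 1) (hbN : b ∈ normalizer (R : Set S))
    (hinv : ∀ t ∈ Zc R, t * t = 1 → E0_aux_c b t = t) :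
    ∀ k : ℕ, ∀ x ∈ Zc R, x ^ (2 ^ k) = 1 → E0_aux_c b x = x := by
  intro k
  induction k with
  | zero =>
    intro x hx h
    rw [pow_zero, pow_one] at h
    rw [h, E0_aux_c_one]
  | succ k ih =>
    intro x hx h
    have hx2 : x * x ∈ Zc R := (Zc R).mul_mem hx hx
    have h2 : (x * x) ^ (2 ^ k) = 1 := by
      rw [← pow_two, ← pow_mul, ← pow_succ']; exact h
    have hfix2 : E0_aux_c b (x * x) = x * x := ih _ hx2 h2
    have hcx : E0_aux_c b x ∈ Zc R := E0_aux_c_mem_Zc b R hbN x hx
    set y := x⁻¹ * E0_aux_c b x with hy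
    have hyZ : y ∈ Zc R := (Zc R).mul_mem ((Zc R).inv_mem hx) hcx
    have hcxy : E0_aux_c b x = x * y := by rw [hy]; group
    have hyy : y * y = 1 := by
      have hcomm : E0_aux_c b x * x⁻¹ = x⁻¹ * E0_aux_c b x :=
        E0_aux_comm R _ _ hcx ((Zc R).inv_mem hx)
      calc y * y = x⁻¹ * (E0_aux_c b x * x⁻¹) * E0_aux_c b x := by rw [hy]; group
        _ = x⁻¹ * (x⁻¹ * E0_aux_c b x) * E0_aux_c b x := by rw [hcomm]
        _ = (x * x)⁻¹ * (E0_aux_c b x * E0_aux_c b x) := by group
        _ = (x * x)⁻¹ * (x * x) := by rw [← E0_aux_c_mul, hfix2]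
        _ = 1 := by group
    have hyfix : E0_aux_c b y = y := hinv y hyZ hyy
    have h2' : E0_aux_c b (E0_aux_c b x) = x * y * y := by
      rw [hcxy, E0_aux_c_mul, hcxy, hyfix]
    have h3 : E0_aux_c b (E0_aux_c b (E0_aux_c b x)) = x * (y * y * y) := by
      rw [h2', E0_aux_c_mul, E0_aux_c_mul, hcxy, hyfix]; group
    rw [E0_aux_c_cube b x hb3, hyy, one_mul] at h3
    have hy1 : y = 1 := by
      have : x * y = x * 1 := by rw [mul_one]; exact h3.symm
      exact mul_left_cancel this
    rw [hcxy, hy1, mul_one]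

/-- E0 : either `Z(R)` contains a four-group on which `B` acts nontrivially, or `B` centralises `Z(R)`. -/
theorem center_cases (b : S) (B R : Subgroup S) (hb : zpowers b = B) (hB : Nat.card ↥B = 3) (hR : IsPGroup 2 ↥R)
    (hN : B ≤ normalizer (R : Set S)) :
    (∃ T₁ : Subgroup S, T₁ ≤ Zc R ∧ IsV4 T₁ ∧ B ≤ normalizer (T₁ : Set S) ∧ ¬ B ≤ centralizer (T₁ : Set S)) ∨
      B ≤ centralizer ((Zc R : Subgroup S) : Set S) := by
  have hbB : b ∈ B := hb ▸ mem_zpowers b
  have hbN : b ∈ normalizer (R : Set S) := hN hbB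
  have hb3 : b ^ 3 = 1 := by
    have h := pow_card_eq_one' (G := ↥B) (x := ⟨b, hbB⟩)
    rw [hB] at h
    have := congrArg Subtype.val h
    simpa using this
  by_cases hcen : b ∈ centralizer ((Zc R : Subgroup S) : Set S)
  · right
    rw [← hb, zpowers_le]
    exact hcen
  left
  -- some element of `Z(R)` is moved
  have hmoved : ∃ x ∈ Zc R, E0_aux_c b x ≠ x := by
    by_contra hno
    push Not at hno
    apply hcen
    rw [mem_centralizer_iff]
    intro x hx
    have h := hno x hx
    unfold E0_aux_c at h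
    calc x * b = (b * x * b⁻¹) * b := by rw [h]
      _ = b * x := by group
  obtain ⟨x, hxZ, hxm⟩ := hmoved
  -- hence some involution of `Z(R)` is moved
  have hinvm : ∃ t ∈ Zc R, t * t = 1 ∧ E0_aux_c b t ≠ t := by
    by_contra hno
    push Not at hno
    obtain ⟨k, hk⟩ := hR ⟨x, Cfsg.Agent.S4409P.Zc_le R hxZ⟩
    have hk' : x ^ (2 ^ k) = 1 := by
      have := congrArg Subtype.val hk
      simpa using this
    exact hxm (E0_aux_fix b R hb3 hbN hno k x hxZ hk')
  obtain ⟨t, htZ, htt, htm⟩ := hinvm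
  set ct := E0_aux_c b t with hct
  set cct := E0_aux_c b ct with hcct
  have hctZ : ct ∈ Zc R := E0_aux_c_mem_Zc b R hbN t htZ
  have hcctZ : cct ∈ Zc R := E0_aux_c_mem_Zc b R hbN ct hctZ
  have hccct : E0_aux_c b cct = t := E0_aux_c_cube b t hb3
  have hctct : ct * ct = 1 := by rw [hct, ← E0_aux_c_mul, htt, E0_aux_c_one]
  have hcctcct : cct * cct = 1 := by rw [hcct, ← E0_aux_c_mul, hctct, E0_aux_c_one]
  set u := t * ct with hu
  set cu := ct * cct with hcu
  have hcu' : E0_aux_c b u = cu := by rw [hu, E0_aux_c_mul]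
  have hccu' : E0_aux_c b cu = cct * t := by rw [hcu, E0_aux_c_mul, hccct]
  have huZ : u ∈ Zc R := (Zc R).mul_mem htZ hctZ
  have hcuZ : cu ∈ Zc R := (Zc R).mul_mem hctZ hcctZ
  have huu : u * u = 1 := by
    have hcomm : ct * t = t * ct := E0_aux_comm R _ _ hctZ htZ
    calc u * u = t * (ct * t) * ct := by rw [hu]; group
      _ = t * (t * ct) * ct := by rw [hcomm]
      _ = (t * t) * (ct * ct) := by group
      _ = 1 := by rw [htt, hctct, one_mul]
  have hcucu : cu * cu = 1 := by rw [← hcu', ← E0_aux_c_mul, huu, E0_aux_c_one]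
  have hcomm : cu * u = u * cu := E0_aux_comm R _ _ hcuZ huZ
  -- `c (u * cu) = u`
  have hcw : E0_aux_c b (u * cu) = u := by
    rw [E0_aux_c_mul, hcu', hccu']
    have hcomm' : ct * t = t * ct := E0_aux_comm R _ _ hctZ htZ
    calc cu * (cct * t) = ct * (cct * cct) * t := by rw [hcu]; group
      _ = ct * t := by rw [hcctcct, mul_one]
      _ = u := by rw [hcomm']
  have hti : t⁻¹ = t := inv_eq_of_mul_eq_one_left htt
  have hu1 : u ≠ 1 := by
    intro h
    apply htm
    have : ct = t⁻¹ := (inv_eq_of_mul_eq_one_right h).symm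
    rw [this, hti]
  have hcu1 : cu ≠ 1 := by
    intro h
    apply hu1
    have h2 : E0_aux_c b (u * cu) = E0_aux_c b u := by rw [h, mul_one]
    rw [hcw, hcu', h] at h2
    exact h2
  have hne : u ≠ cu := by
    intro h
    apply hu1
    have h2 : E0_aux_c b u = E0_aux_c b cu := by rw [← h]
    have h3 : E0_aux_c b (u * cu) = u := hcw
    rw [E0_aux_c_mul, ← h2, hcu', ← h, huu] at h3
    exact h3.symm
  refine ⟨E0_aux_four u cu huu hcucu hcomm, ?_, ⟨E0_aux_four_card u cu huu hcucu hcomm hu1 hcu1 hne, ?_⟩, ?_, ?_⟩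
  · intro g hg
    rcases hg with rfl | rfl | rfl | rfl
    · exact (Zc R).one_mem
    · exact huZ
    · exact hcuZ
    · exact (Zc R).mul_mem huZ hcuZ
  · intro g hg
    rcases hg with rfl | rfl | rfl | rfl
    · simp
    · exact huu
    · exact hcucu
    · calc u * cu * (u * cu) = u * (cu * u) * cu := by group
        _ = u * (u * cu) * cu := by rw [hcomm]
        _ = (u * u) * (cu * cu) := by group
        _ = 1 := by rw [huu, hcucu, one_mul]
  · rw [← hb, zpowers_le]
    -- `b` maps the four-group into itself; finite, so normalises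
    have hmap : ∀ g ∈ E0_aux_four u cu huu hcucu hcomm, E0_aux_c b g ∈ E0_aux_four u cu huu hcucu hcomm := by
      intro g hg
      rcases hg with rfl | rfl | rfl | rfl
      · rw [E0_aux_c_one]; exact Or.inl rfl
      · rw [hcu']; exact Or.inr (Or.inr (Or.inl rfl))
      · have : E0_aux_c b cu = u * cu := by
          have h := hcw
          rw [E0_aux_c_mul, hcu'] at h
          -- cu * c cu = u  =>  c cu = cu * u = u * cu
          calc E0_aux_c b cu = (cu * cu) * E0_aux_c b cu := by rw [hcucu, one_mul]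
            _ = cu * (cu * E0_aux_c b cu) := by group
            _ = cu * u := by rw [h]
            _ = u * cu := hcomm
        rw [this]; exact Or.inr (Or.inr (Or.inr rfl))
      · rw [hcw]; exact Or.inr (Or.inl rfl)
    rw [Subgroup.mem_normalizer_iff]
    intro g
    constructor
    · intro hg; exact hmap g hg
    · intro hg
      -- apply `c` twice more
      have h1 := hmap _ (hmap _ hg)
      have : E0_aux_c b (E0_aux_c b (b * g * b⁻¹)) = g := E0_aux_c_cube b g hb3
      rw [this] at h1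
      exact h1
  · intro hle
    have hbc := hle hbB
    rw [mem_centralizer_iff] at hbc
    have h := hbc u (Or.inr (Or.inl rfl))
    apply hne
    rw [← hcu']
    unfold E0_aux_c
    calc u = u * b * b⁻¹ := by group
      _ = b * u * b⁻¹ := by rw [h]

end Cfsg.Agent.S4415P
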