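import Mathlib
import Cfsg.Agent.Helper11.S4409Defs
import Cfsg.Agent.Helper9.S4415Defs
import Cfsg.Agent.Helper20.S4415E0
import Cfsg.Agent.Helper25.S4415E2

/-! Board `s4415pieces`, row E5 (`ea_of_q8q8`): two commuting quaternion members of `𝒜(R)` produce an elementary abelian
member. -/

set_option autoImplicit false
set_option linter.unusedVariables false
set_option linter.unusedSectionVars false

namespace Cfsg.Agent.S4415P

open Subgroup
open Cfsg.Agent.S4409P (Zc Fr Der IsV4 IsQ8 SpecialInt IsAb)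

variable {S : Type*} [Group S] [Finite S] {E : Type*} [AddCommGroup E] [Module (ZMod 3) E] [Finite E]

/-- exact order of `K ⊔ zpowers x` for `x ∉ K` normalising `K` with `x² ∈ K`. -/
theorem E5_aux_card_ext {K : Subgroup S} {x : S} (hn : ∀ k ∈ K, x⁻¹ * k * x ∈ K) (hsq : x * x ∈ K) (hx : x ∉ K) :
    Nat.card ↥(K ⊔ zpowers x) = 2 * Nat.card ↥K := by
  apply le_antisymm (E2_aux_card_ext hn hsq)
  apply E2_aux_card_lt
  refine lt_of_le_of_ne le_sup_left ?_
  intro h
  apply hx
  rw [h]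
  exact (le_sup_right : zpowers x ≤ K ⊔ zpowers x) (mem_zpowers x)

/-- two elements squaring to the involution `z` whose product also squares to `z` anticommute. -/
theorem E5_aux_anti (x y z : S) (hzz : z * z = 1) (hx : x * x = z) (hy : y * y = z) (hxy : (x * y) * (x * y) = z) :
    y * x = x * y * z := by
  have hxi : x⁻¹ = x * z := by
    apply inv_eq_of_mul_eq_one_right
    rw [← mul_assoc, hx, hzz]
  have hyi : y⁻¹ = y * z := by
    apply inv_eq_of_mul_eq_one_right
    rw [← mul_assoc, hy, hzz]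
  calc y * x = x⁻¹ * ((x * y) * (x * y)) * y⁻¹ := by group
    _ = x⁻¹ * z * y⁻¹ := by rw [hxy]
    _ = (x * z) * z * (y * z) := by rw [hxi, hyi]
    _ = x * (z * z) * y * z := by group
    _ = x * y * z := by rw [hzz, mul_one]

/-- the quaternion lemma: an automorphism of order `3` moving `a`. -/
theorem E5_aux_q8 (b : S) (R A : Subgroup S) (z : S) (hb3 : b ^ 3 = 1)
    (hz1 : z ≠ 1) (hzz : z * z = 1) (hzZ : z ∈ Zc R)
    (hZ : ∀ x ∈ Zc R, x = 1 ∨ x = z)
    (hcZ : ∀ x ∈ Zc R, E0_aux_c b x = x)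
    (hAR : A ≤ R) (hcA : ∀ x ∈ A, E0_aux_c b x ∈ A)
    (hsq : ∀ x ∈ A, x ∉ Zc R → x * x = z)
    (a : S) (ha : a ∈ A) (hca : E0_aux_c b a ≠ a) :
    a ∉ Zc R ∧ a * E0_aux_c b a ∉ Zc R ∧ E0_aux_c b a * a = a * E0_aux_c b a * z ∧
      a * E0_aux_c b a * E0_aux_c b (E0_aux_c b a) ∈ Zc R := by
  have hzc : ∀ r ∈ R, r * z = z * r := (Cfsg.Agent.S4409P.mem_Zc.mp hzZ).2
  have haZ : a ∉ Zc R := fun h => hca (hcZ a h)
  set a' := E0_aux_c b a with ha'
  set a'' := E0_aux_c b a' with ha''
  have hc3 : E0_aux_c b a'' = a := E0_aux_c_cube b a hb3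
  have ha'A : a' ∈ A := hcA a ha
  have ha''A : a'' ∈ A := hcA a' ha'A
  have ha'Z : a' ∉ Zc R := by
    intro h
    apply hca
    have h1 : a'' = a' := hcZ a' h
    have h2 : E0_aux_c b a'' = a' := by rw [h1]; exact h1
    rw [hc3] at h2
    exact h2.symm
  have ha''Z : a'' ∉ Zc R := by
    intro h
    apply haZ
    have h1 : E0_aux_c b a'' = a'' := hcZ a'' h
    rw [hc3] at h1
    rw [h1]; exact h
  have haa : a * a = z := hsq a ha haZ
  have ha'a' : a' * a' = z := hsq a' ha'A ha'Z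
  have ha''a'' : a'' * a'' = z := hsq a'' ha''A ha''Z
  have hcz : E0_aux_c b z = z := hcZ z hzZ
  have hprodZ : a * a' ∉ Zc R := by
    intro h
    rcases hZ _ h with h1 | h1
    · -- a' = a⁻¹ = a * z
      have hai : a⁻¹ = a * z := by
        apply inv_eq_of_mul_eq_one_right
        rw [← mul_assoc, haa, hzz]
      have h2 : a' = a * z := by
        rw [← hai]
        exact (inv_eq_of_mul_eq_one_right h1).symm
      have h3 : a'' = a := by
        rw [ha'', h2, E0_aux_c_mul, hcz, ← ha', h2, mul_assoc, hzz, mul_one]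
      apply hca
      have h4 : E0_aux_c b a'' = a' := by rw [h3]
      rw [hc3] at h4
      exact h4.symm
    · apply hca
      have : a * a' = a * a := by rw [h1, haa]
      exact mul_left_cancel this
  have hP1 : a' * a = a * a' * z :=
    E5_aux_anti a a' z hzz haa ha'a' (hsq _ (A.mul_mem ha ha'A) hprodZ)
  refine ⟨haZ, hprodZ, hP1, ?_⟩
  -- apply `c` to `hP1`
  have hP2 : a'' * a' = a' * a'' * z := by
    have := congrArg (E0_aux_c b) hP1
    rw [E0_aux_c_mul, E0_aux_c_mul, E0_aux_c_mul, hcz] at this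
    exact this
  have hP3 : a * a'' = a'' * a * z := by
    have := congrArg (E0_aux_c b) hP2
    rw [E0_aux_c_mul, E0_aux_c_mul, E0_aux_c_mul, hcz, hc3] at this
    exact this
  have hP3' : a'' * a = a * a'' * z := by
    rw [hP3, mul_assoc, hzz, mul_one]
  by_contra hN
  have h1 : a'' * (a * a') = a * a' * a'' * z :=
    E5_aux_anti (a * a') a'' z hzz (hsq _ (A.mul_mem ha ha'A) hprodZ) ha''a''
      (hsq _ (A.mul_mem (A.mul_mem ha ha'A) ha''A) hN)
  have h2 : a'' * (a * a') = a * a' * a'' := by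
    calc a'' * (a * a') = (a'' * a) * a' := by group
      _ = (a * a'' * z) * a' := by rw [hP3']
      _ = a * a'' * (z * a') := by group
      _ = a * a'' * (a' * z) := by rw [hzc a' (hAR ha'A)]
      _ = a * (a'' * a') * z := by group
      _ = a * (a' * a'' * z) * z := by rw [hP2]
      _ = a * a' * a'' * (z * z) := by group
      _ = a * a' * a'' := by rw [hzz, mul_one]
  rw [h2] at h1
  apply hz1
  have : a * a' * a'' * 1 = a * a' * a'' * z := by rw [mul_one]; exact h1
  exact (mul_left_cancel this).symm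

/-- E5 : two commuting quaternion members `A, A₂` of `𝒜(R)` produce an elementary abelian member. -/
theorem ea_of_q8q8 (b : S) (B R A A₂ : Subgroup S) (hb : zpowers b = B) (hB : Nat.card ↥B = 3)
    (hZ : Nat.card ↥(Zc R) = 2) (hBZ : B ≤ centralizer ((Zc R : Subgroup S) : Set S))
    (hA : InA B R A) (hAQ : IsQ8 A) (hA₂ : InA B R A₂) (hA₂Q : IsQ8 A₂) (hcomm : A₂ ≤ centralizer (A : Set S)) :
    ∃ A'' : Subgroup S, InA B R A'' ∧ ∀ x ∈ A'', x * x = 1 := by
  have hbB : b ∈ B := hb ▸ mem_zpowers b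
  have hb3 : b ^ 3 = 1 := by
    have h := pow_card_eq_one' (G := ↥B) (x := ⟨b, hbB⟩)
    rw [hB] at h
    have := congrArg Subtype.val h
    simpa using this
  -- the involution `z` of `Z(R)`
  obtain ⟨z, hzZ, hz1, hZall⟩ : ∃ z ∈ Zc R, z ≠ 1 ∧ ∀ x ∈ Zc R, x = 1 ∨ x = z := by
    rw [Nat.card_eq_two_iff' (1 : ↥(Zc R))] at hZ
    obtain ⟨z, hz1, huniq⟩ := hZ
    refine ⟨z.1, z.2, fun h => hz1 (Subtype.ext h), fun x hx => ?_⟩
    by_cases hx1 : x = 1
    · exact Or.inl hx1
    · right
      have := huniq ⟨x, hx⟩ (fun h => hx1 (congrArg Subtype.val h))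
      exact congrArg Subtype.val this
  have hzz : z * z = 1 := by
    rcases hZall _ ((Zc R).mul_mem hzZ hzZ) with h | h
    · exact h
    · exfalso; apply hz1
      have : z * z = z * 1 := by rw [mul_one]; exact h
      exact mul_left_cancel this
  have hzc : ∀ r ∈ R, r * z = z * r := (Cfsg.Agent.S4409P.mem_Zc.mp hzZ).2
  have hcZ : ∀ x ∈ Zc R, E0_aux_c b x = x := by
    intro x hx
    have h := hBZ hbB
    rw [mem_centralizer_iff] at h
    have h2 := h x hx
    unfold E0_aux_c
    rw [← h2]; group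
  have hcz : E0_aux_c b z = z := hcZ z hzZ
  -- squares in quaternion members
  have hsq_of : ∀ A' : Subgroup S, InA B R A' → IsQ8 A' → ∀ x ∈ A', x ∉ Zc R → x * x = z := by
    intro A' hA' hQ x hx hxZ
    obtain ⟨_, ζ, hζA, hζ1, hζζ, hall⟩ := hQ
    have hζ : ζ = z := by
      rcases hall z (hA'.zle hzZ) with h | h | h
      · exact absurd h hz1
      · exact h.symm
      · rw [hzz] at h; exact absurd h.symm hζ1
    rcases hall x hx with h | h | h
    · exfalso; apply hxZ; rw [h]; exact (Zc R).one_mem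
    · exfalso; apply hxZ; rw [h, hζ]; exact hzZ
    · rw [h, hζ]
  have hc_of : ∀ A' : Subgroup S, InA B R A' → ∀ x ∈ A', E0_aux_c b x ∈ A' := by
    intro A' hA' x hx
    have h := hA'.norm hbB
    rw [mem_normalizer_iff] at h
    exact (h x).1 hx
  have hmoved_of : ∀ A' : Subgroup S, InA B R A' → ∃ a ∈ A', E0_aux_c b a ≠ a := by
    intro A' hA'
    by_contra hno
    push Not at hno
    apply hA'.nontriv
    rw [← hb, zpowers_le, mem_centralizer_iff]
    intro x hx
    have h := hno x hx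
    unfold E0_aux_c at h
    calc x * b = (b * x * b⁻¹) * b := by rw [h]
      _ = b * x := by group
  obtain ⟨a, haA, hamv⟩ := hmoved_of A hA
  obtain ⟨a₂, ha₂A, ha₂mv⟩ := hmoved_of A₂ hA₂
  obtain ⟨haZ, hpZ, hP1, hN⟩ := E5_aux_q8 b R A z hb3 hz1 hzz hzZ hZall hcZ hA.le (hc_of A hA)
    (hsq_of A hA hAQ) a haA hamv
  obtain ⟨ha₂Z, hp₂Z, hQ1, hN₂⟩ := E5_aux_q8 b R A₂ z hb3 hz1 hzz hzZ hZall hcZ hA₂.le (hc_of A₂ hA₂)
    (hsq_of A₂ hA₂ hA₂Q) a₂ ha₂A ha₂mv
  set a' := E0_aux_c b a with ha'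
  set a'' := E0_aux_c b a' with ha''
  set a₂' := E0_aux_c b a₂ with ha₂'
  set a₂'' := E0_aux_c b a₂' with ha₂''
  have ha'A : a' ∈ A := hc_of A hA a haA
  have ha''A : a'' ∈ A := hc_of A hA a' ha'A
  have ha₂'A : a₂' ∈ A₂ := hc_of A₂ hA₂ a₂ ha₂A
  have ha₂''A : a₂'' ∈ A₂ := hc_of A₂ hA₂ a₂' ha₂'A
  have haa : a * a = z := hsq_of A hA hAQ a haA haZ
  have ha₂a₂ : a₂ * a₂ = z := hsq_of A₂ hA₂ hA₂Q a₂ ha₂A ha₂Z
  -- commutation between `A` and `A₂`
  have hcm : ∀ x ∈ A, ∀ y ∈ A₂, x * y = y * x := by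
    intro x hx y hy
    have h := hcomm hy
    rw [mem_centralizer_iff] at h
    exact h x hx
  set u := a * a₂ with hu
  set v := a' * a₂' with hv
  set w := a'' * a₂'' with hw
  have hcu : E0_aux_c b u = v := by rw [hu, E0_aux_c_mul]
  have hcv : E0_aux_c b v = w := by rw [hv, E0_aux_c_mul]
  have huR : u ∈ R := R.mul_mem (hA.le haA) (hA₂.le ha₂A)
  have hvR : v ∈ R := R.mul_mem (hA.le ha'A) (hA₂.le ha₂'A)
  have huu : u * u = 1 := by
    calc u * u = a * (a₂ * a) * a₂ := by rw [hu]; group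
      _ = a * (a * a₂) * a₂ := by rw [hcm a haA a₂ ha₂A]
      _ = (a * a) * (a₂ * a₂) := by group
      _ = 1 := by rw [haa, ha₂a₂, hzz]
  have hvv : v * v = 1 := by rw [← hcu, ← E0_aux_c_mul, huu, E0_aux_c_one]
  have huv1 : u * v = (a * a') * (a₂ * a₂') := by
    calc u * v = a * (a₂ * a') * a₂' := by rw [hu, hv]; group
      _ = a * (a' * a₂) * a₂' := by rw [hcm a' ha'A a₂ ha₂A]
      _ = (a * a') * (a₂ * a₂') := by group
  have hvu1 : v * u = (a * a') * (a₂ * a₂') := by
    calc v * u = a' * (a₂' * a) * a₂ := by rw [hu, hv]; group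
      _ = a' * (a * a₂') * a₂ := by rw [hcm a haA a₂' ha₂'A]
      _ = (a' * a) * (a₂' * a₂) := by group
      _ = (a * a' * z) * (a₂ * a₂' * z) := by rw [hP1, hQ1]
      _ = (a * a') * (z * (a₂ * a₂')) * z := by group
      _ = (a * a') * ((a₂ * a₂') * z) * z := by
          rw [hzc _ (R.mul_mem (hA₂.le ha₂A) (hA₂.le ha₂'A))]
      _ = (a * a') * (a₂ * a₂') * (z * z) := by group
      _ = (a * a') * (a₂ * a₂') := by rw [hzz, mul_one]
  have huv : v * u = u * v := by rw [huv1, hvu1]
  have hui : u⁻¹ = u := inv_eq_of_mul_eq_one_left huu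
  have hvi : v⁻¹ = v := inv_eq_of_mul_eq_one_left hvv
  -- `u ∉ Z`
  have huZ : u ∉ Zc R := by
    intro h
    -- `a₂ = a⁻¹ * u` commutes with `a'`
    have h1 : a₂ = a⁻¹ * u := by rw [hu]; group
    have h2 := hcm a' ha'A a₂ ha₂A
    have hucen : ∀ r ∈ R, r * u = u * r := (Cfsg.Agent.S4409P.mem_Zc.mp h).2
    have h3 : a' * a⁻¹ = a⁻¹ * a' := by
      have e1 : a' * a₂ = (a' * a⁻¹) * u := by rw [h1]; group
      have e2 : a₂ * a' = (a⁻¹ * a') * u := by
        calc a₂ * a' = a⁻¹ * (u * a') := by rw [h1]; group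
          _ = a⁻¹ * (a' * u) := by rw [hucen a' (hA.le ha'A)]
          _ = (a⁻¹ * a') * u := by group
      rw [e1, e2] at h2
      exact mul_right_cancel h2
    have h4 : a' * a = a * a' := by
      calc a' * a = a * (a⁻¹ * a') * a := by group
        _ = a * (a' * a⁻¹) * a := by rw [h3]
        _ = a * a' := by group
    rw [hP1] at h4
    apply hz1
    have : a * a' * z = a * a' * 1 := by rw [mul_one]; exact h4
    exact mul_left_cancel this
  have hvZ : v ∉ Zc R := by
    intro h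
    apply huZ
    have h1 : w = v := by rw [← hcv]; exact hcZ v h
    have h2 : E0_aux_c b w = v := by rw [h1, hcv, h1]
    have h3 : E0_aux_c b w = u := by
      rw [← hcv, ← hcu]; exact E0_aux_c_cube b u hb3
    rw [h3] at h2
    rw [h2]; exact h
  have huvZ : u * v ∉ Zc R := by
    intro h
    rw [huv1] at h
    set k := (a * a') * (a₂ * a₂') with hk
    have hkcen : ∀ r ∈ R, r * k = k * r := (Cfsg.Agent.S4409P.mem_Zc.mp h).2
    have h1 : a₂ * a₂' = (a * a')⁻¹ * k := by rw [hk]; group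
    have h2 := hcm a haA (a₂ * a₂') (A₂.mul_mem ha₂A ha₂'A)
    have h3 : a * (a * a')⁻¹ = (a * a')⁻¹ * a := by
      have e1 : a * (a₂ * a₂') = (a * (a * a')⁻¹) * k := by rw [h1]; group
      have e2 : (a₂ * a₂') * a = ((a * a')⁻¹ * a) * k := by
        calc (a₂ * a₂') * a = (a * a')⁻¹ * (k * a) := by rw [h1]; group
          _ = (a * a')⁻¹ * (a * k) := by rw [hkcen a (hA.le haA)]
          _ = ((a * a')⁻¹ * a) * k := by group
      rw [e1, e2] at h2
      exact mul_right_cancel h2
    have h4 : a' * a = a * a' := by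
      calc a' * a = a' * (a * (a * a')⁻¹) * (a * a') := by group
        _ = a' * ((a * a')⁻¹ * a) * (a * a') := by rw [h3]
        _ = a * a' := by group
    rw [hP1] at h4
    apply hz1
    have : a * a' * z = a * a' * 1 := by rw [mul_one]; exact h4
    exact mul_left_cancel this
  -- the group
  have hn1 : ∀ k ∈ Zc R, u⁻¹ * k * u ∈ Zc R := by
    intro k hk
    have := (Cfsg.Agent.S4409P.mem_Zc.mp hk).2 u huR
    have e : u⁻¹ * k * u = k := by
      calc u⁻¹ * k * u = u⁻¹ * (k * u) := by group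
        _ = u⁻¹ * (u * k) := by rw [this]
        _ = k := by group
    rw [e]; exact hk
  have hsq1 : u * u ∈ Zc R := by rw [huu]; exact (Zc R).one_mem
  set K₁ := Zc R ⊔ zpowers u with hK₁
  have hK₁card : Nat.card ↥K₁ = 4 := by
    rw [hK₁, E5_aux_card_ext hn1 hsq1 huZ, hZ]
  have hK₁R : K₁ ≤ R := sup_le (Cfsg.Agent.S4409P.Zc_le R) (by rw [zpowers_le]; exact huR)
  -- `v` commutes with `K₁`
  have hvK₁ : K₁ ≤ centralizer ({v} : Set S) := by
    apply sup_le
    · intro k hk
      rw [mem_centralizer_iff]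
      intro h hh
      rw [Set.mem_singleton_iff] at hh
      rw [hh]
      exact (Cfsg.Agent.S4409P.mem_Zc.mp hk).2 v hvR
    · rw [zpowers_le, mem_centralizer_iff]
      intro h hh
      rw [Set.mem_singleton_iff] at hh
      rw [hh]
      exact huv
  have hvK₁' : ∀ k ∈ K₁, v * k = k * v := by
    intro k hk
    have := hvK₁ hk
    rw [mem_centralizer_iff] at this
    exact this v rfl
  have hn2 : ∀ k ∈ K₁, v⁻¹ * k * v ∈ K₁ := by
    intro k hk
    have e : v⁻¹ * k * v = k := by
      calc v⁻¹ * k * v = v⁻¹ * (k * v) := by group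
        _ = v⁻¹ * (v * k) := by rw [hvK₁' k hk]
        _ = k := by group
    rw [e]; exact hk
  have hsq2 : v * v ∈ K₁ := by rw [hvv]; exact K₁.one_mem
  have hvK₁n : v ∉ K₁ := by
    intro h
    rcases E2_aux_mem_ext hn1 hsq1 h with h1 | h1
    · exact hvZ h1
    · rw [hui] at h1; exact huvZ h1
  refine ⟨K₁ ⊔ zpowers v, ⟨?_, ?_, ?_, ?_, ?_, ?_⟩, ?_⟩
  · -- `≤ R`
    exact sup_le hK₁R (by rw [zpowers_le]; exact hvR)
  · -- `Z(R) ≤`
    exact le_trans (le_sup_left : Zc R ≤ K₁) le_sup_left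
  · -- order `8`
    rw [E5_aux_card_ext hn2 hsq2 hvK₁n, hK₁card]
  · -- `B`-invariant
    have huK : u ∈ K₁ ⊔ zpowers v :=
      (le_sup_left : K₁ ≤ K₁ ⊔ zpowers v) ((le_sup_right : zpowers u ≤ K₁) (mem_zpowers u))
    have hvK : v ∈ K₁ ⊔ zpowers v := (le_sup_right : zpowers v ≤ K₁ ⊔ zpowers v) (mem_zpowers v)
    have hZK : Zc R ≤ K₁ ⊔ zpowers v := le_trans (le_sup_left : Zc R ≤ K₁) le_sup_left
    have hwK : w ∈ K₁ ⊔ zpowers v := by
      have e : u * v * w = (a * a' * a'') * (a₂ * a₂' * a₂'') := by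
        calc u * v * w = (a * a') * ((a₂ * a₂') * a'') * a₂'' := by rw [huv1, hw]; group
          _ = (a * a') * (a'' * (a₂ * a₂')) * a₂'' := by
              rw [hcm a'' ha''A (a₂ * a₂') (A₂.mul_mem ha₂A ha₂'A)]
          _ = (a * a' * a'') * (a₂ * a₂' * a₂'') := by group
      have e2 : w = (u * v)⁻¹ * ((a * a' * a'') * (a₂ * a₂' * a₂'')) := by rw [← e]; group
      rw [e2]
      exact (K₁ ⊔ zpowers v).mul_mem ((K₁ ⊔ zpowers v).inv_mem ((K₁ ⊔ zpowers v).mul_mem huK hvK))
        (hZK ((Zc R).mul_mem hN hN₂))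
    have hmap : ∀ g ∈ K₁ ⊔ zpowers v, E0_aux_c b g ∈ K₁ ⊔ zpowers v := by
      have hle : K₁ ⊔ zpowers v ≤ (K₁ ⊔ zpowers v).comap (MulAut.conj b).toMonoidHom := by
        apply sup_le
        · apply sup_le
          · intro k hk
            rw [mem_comap]
            have : (MulAut.conj b).toMonoidHom k = E0_aux_c b k := by simp [E0_aux_c]
            rw [this, hcZ k hk]
            exact hZK hk
          · rw [zpowers_le, mem_comap]
            have : (MulAut.conj b).toMonoidHom u = E0_aux_c b u := by simp [E0_aux_c]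
            rw [this, hcu]
            exact hvK
        · rw [zpowers_le, mem_comap]
          have : (MulAut.conj b).toMonoidHom v = E0_aux_c b v := by simp [E0_aux_c]
          rw [this, hcv]
          exact hwK
      intro g hg
      have h := hle hg
      rw [mem_comap] at h
      have e : (MulAut.conj b).toMonoidHom g = E0_aux_c b g := by simp [E0_aux_c]
      rw [e] at h
      exact h
    rw [← hb, zpowers_le, mem_normalizer_iff]
    intro g
    constructor
    · intro hg; exact hmap g hg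
    · intro hg
      have h1 := hmap _ (hmap _ hg)
      have : E0_aux_c b (E0_aux_c b (b * g * b⁻¹)) = g := E0_aux_c_cube b g hb3
      rw [this] at h1
      exact h1
  · -- `[A'', R] ≤ Z(R)`
    have hZ2 : ∀ A' : Subgroup S, InA B R A' → A' ≤ E2_aux_Z2 R := by
      intro A' hA' x hx
      refine ⟨hA'.le hx, fun r hr => ?_⟩
      exact hA'.comm (commutator_mem_commutator hx hr)
    have hle : K₁ ⊔ zpowers v ≤ E2_aux_Z2 R := by
      apply sup_le
      · apply sup_le (E2_aux_Zc_le_Z2 R)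
        rw [zpowers_le]
        exact (E2_aux_Z2 R).mul_mem (hZ2 A hA haA) (hZ2 A₂ hA₂ ha₂A)
      · rw [zpowers_le]
        exact (E2_aux_Z2 R).mul_mem (hZ2 A hA ha'A) (hZ2 A₂ hA₂ ha₂'A)
    rw [commutator_le]
    intro g hg r hr
    exact (hle hg).2 r hr
  · -- `B` acts nontrivially
    intro hle
    have huK : u ∈ K₁ ⊔ zpowers v :=
      (le_sup_left : K₁ ≤ K₁ ⊔ zpowers v) ((le_sup_right : zpowers u ≤ K₁) (mem_zpowers u))
    have hbc := hle hbB
    rw [mem_centralizer_iff] at hbc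
    have h := hbc u huK
    have hcu' : E0_aux_c b u = u := by
      unfold E0_aux_c
      rw [← h]; group
    rw [hcu] at hcu'
    apply huvZ
    rw [hcu', huu]
    exact (Zc R).one_mem
  · -- exponent `2`
    have hK₁sq : ∀ y ∈ K₁, y * y = 1 := by
      intro y hy
      rcases E2_aux_mem_ext hn1 hsq1 hy with h1 | h1
      · rcases hZall y h1 with h | h
        · rw [h, mul_one]
        · rw [h, hzz]
      · rw [hui] at h1
        set k := u * y with hk
        have hkc := (Cfsg.Agent.S4409P.mem_Zc.mp h1).2 u huR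
        have hkk : k * k = 1 := by
          rcases hZall k h1 with h | h
          · rw [h, mul_one]
          · rw [h, hzz]
        have hy' : y = u * k := by
          rw [hk, ← mul_assoc, huu, one_mul]
        calc y * y = u * (k * u) * k := by rw [hy']; group
          _ = u * (u * k) * k := by rw [← hkc]
          _ = (u * u) * (k * k) := by group
          _ = 1 := by rw [huu, hkk, one_mul]
    intro x hx
    rcases E2_aux_mem_ext hn2 hsq2 hx with h1 | h1
    · exact hK₁sq x h1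
    · rw [hvi] at h1
      set k := v * x with hk
      have hkk : k * k = 1 := hK₁sq k h1
      have hx' : x = v * k := by
        rw [hk, ← mul_assoc, hvv, one_mul]
      calc x * x = v * (k * v) * k := by rw [hx']; group
        _ = v * (v * k) * k := by rw [hvK₁' k h1]
        _ = (v * v) * (k * k) := by group
        _ = 1 := by rw [hvv, hkk, one_mul]

end Cfsg.Agent.S4415P
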