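import Mathlib
import Cfsg.Agent.Helper5.S4607Defs

set_option autoImplicit false

/-! S4607 pieces DUAL (`finrank_center_add_finrank_commSpace`) and REPR (`exists_center_repr`). -/

namespace Cfsg.Agent.S4607P

open Cfsg

section Ring

universe u v

variable {k : Type u} {B : Type v} [Field k] [Ring B] [Algebra k B]

namespace DUAL

/-- the map `w ↦ lam (· * w)` -/
def Phi (lam : B →ₗ[k] k) : B →ₗ[k] Module.Dual k B :=
  ((LinearMap.mul k B).flip).compr₂ lam

theorem Phi_apply (lam : B →ₗ[k] k) (w b : B) : Phi lam w b = lam (b * w) := rfl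

theorem Phi_injective (lam : B →ₗ[k] k) (h : IsSymForm lam) : Function.Injective (Phi lam) := by
  rw [← LinearMap.ker_eq_bot, LinearMap.ker_eq_bot']
  intro w hw
  apply h.nondeg
  intro b
  rw [h.comm]
  have := LinearMap.congr_fun hw b
  rwa [Phi_apply] at this

theorem Phi_bijective [FiniteDimensional k B] (lam : B →ₗ[k] k) (h : IsSymForm lam) :
    Function.Bijective (Phi lam) :=
  ⟨Phi_injective lam h,
    (LinearMap.injective_iff_surjective_of_finrank_eq_finrank
      (Subspace.dual_finrank_eq (K := k) (V := B)).symm).mp (Phi_injective lam h)⟩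

/-- `w` is central iff `Phi lam w` kills all commutators -/
theorem central_iff (lam : B →ₗ[k] k) (h : IsSymForm lam) (w : B) :
    w ∈ Subalgebra.center k B ↔ ∀ a b : B, Phi lam w (a * b - b * a) = 0 := by
  rw [Subalgebra.mem_center_iff]
  have key : ∀ a b : B, Phi lam w (a * b - b * a) = lam (a * (b * w - w * b)) := by
    intro a b
    rw [Phi_apply, sub_mul, map_sub, mul_sub, map_sub, mul_assoc a b w]
    congr 1
    rw [mul_assoc b a w, h.comm b (a * w), mul_assoc]
  constructor
  · intro hw a b
    rw [key, hw b, sub_self, mul_zero, map_zero]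
  · intro hw b
    have : b * w - w * b = 0 := by
      apply h.nondeg
      intro a
      rw [h.comm, ← key, hw]
    exact sub_eq_zero.mp this

end DUAL

open DUAL in
/-- DUAL: for a symmetric algebra, `dim Z(B) + dim [B,B] = dim B` -/
theorem finrank_center_add_finrank_commSpace [FiniteDimensional k B] (lam : B →ₗ[k] k)
    (h : IsSymForm lam) :
    Module.finrank k (Subalgebra.center k B) + Module.finrank k (commSpace k B) =
      Module.finrank k B := by
  let e : B ≃ₗ[k] Module.Dual k B := LinearEquiv.ofBijective (Phi lam) (Phi_bijective lam h)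
  have hmap : (Subalgebra.toSubmodule (Subalgebra.center k B)).map (e : B →ₗ[k] Module.Dual k B) =
      (commSpace k B).dualAnnihilator := by
    ext φ
    rw [Submodule.mem_dualAnnihilator]
    constructor
    · rintro ⟨w, hw, rfl⟩
      have hw' : w ∈ Subalgebra.center k B := hw
      rw [central_iff lam h] at hw'
      intro x hx
      unfold commSpace at hx
      induction hx using Submodule.span_induction with
      | mem x hx =>
        obtain ⟨a, b, rfl⟩ := hx
        exact hw' a b
      | zero => exact map_zero _
      | add x y _ _ hx hy => rw [map_add, hx, hy, add_zero]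
      | smul c x _ hx => rw [map_smul, hx, smul_zero]
    · intro hφ
      obtain ⟨w, rfl⟩ := e.surjective φ
      refine ⟨w, ?_, rfl⟩
      change w ∈ Subalgebra.center k B
      rw [central_iff lam h]
      intro a b
      exact hφ _ (Submodule.subset_span ⟨a, b, rfl⟩)
  have h1 := Subspace.finrank_add_finrank_dualAnnihilator_eq (commSpace k B)
  have h2 : Module.finrank k (Subalgebra.center k B) =
      Module.finrank k ((commSpace k B).dualAnnihilator) := by
    rw [← hmap, LinearEquiv.finrank_map_eq]
    rfl
  rw [h2]
  omega

open DUAL in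
/-- REPR: a trace-like functional on a symmetric algebra is `b ↦ lam (b * w)` with `w` central -/
theorem exists_center_repr [FiniteDimensional k B] (lam : B →ₗ[k] k) (h : IsSymForm lam)
    (t : B →ₗ[k] k) (ht : ∀ a b : B, t (a * b) = t (b * a)) :
    ∃ w ∈ Subalgebra.center k B, ∀ b : B, t b = lam (b * w) := by
  obtain ⟨w, hw⟩ := (Phi_bijective lam h).2 t
  refine ⟨w, ?_, ?_⟩
  · rw [central_iff lam h]
    intro a b
    rw [hw, map_sub, ht a b, sub_self]
  · intro b
    rw [← hw, Phi_apply]

end Ring

end Cfsg.Agent.S4607P
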