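import Mathlib
import Cfsg.Agent.Helper5.S4607Defs

set_option autoImplicit false

/-! S4607 piece GFORM (`isSymForm_lamG`). -/

namespace Cfsg.Agent.S4607P

open Cfsg

/-- GFORM: the coefficient-at-one form is a symmetrizing form on a group algebra -/
theorem isSymForm_lamG (k : Type*) [Field k] (G : Type*) [Group G] : IsSymForm (lamG k G) := by
  constructor
  · intro a b
    rw [lamG_apply, lamG_apply, MonoidAlgebra.coeff_mul_apply_left,
      MonoidAlgebra.coeff_mul_apply_right]
    apply Finsupp.sum_congr
    intro h _
    rw [mul_one, one_mul, mul_comm]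
  · intro a ha
    apply MonoidAlgebra.ext
    apply Finsupp.ext
    intro g
    have h1 := ha (MonoidAlgebra.single g⁻¹ 1)
    rw [lamG_apply, MonoidAlgebra.coeff_mul_single_apply, inv_inv, one_mul, mul_one] at h1
    rw [h1]
    rfl

end Cfsg.Agent.S4607P
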