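import Mathlib
import Cfsg.Agent.Helper5.S4607Defs

set_option autoImplicit false

/-! S4607 piece SEMI (`exists_surj_pi_matrix`): packaging of Wedderburn–Artin. -/

namespace Cfsg.Agent.S4607P

open Cfsg

section Ring

universe u v

variable {k : Type u} {B : Type v} [Field k] [Ring B] [Algebra k B]

namespace SEMI

/-- a product of `n` elements of a two-sided ideal lies in its `n`-th power -/
theorem list_prod_mem_pow (J : Ideal B) [J.IsTwoSided] (L : List B) (hL : ∀ x ∈ L, x ∈ J) :
    L.prod ∈ J ^ L.length := by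
  induction L with
  | nil =>
    rw [List.prod_nil, List.length_nil, Submodule.pow_zero, Ideal.one_eq_top]
    exact Submodule.mem_top
  | cons a L ih =>
    rw [List.prod_cons, List.length_cons, Ideal.IsTwoSided.pow_succ]
    exact Ideal.mul_mem_mul (hL a (List.mem_cons_self)) (ih fun x hx => hL x (List.mem_cons_of_mem a hx))

end SEMI

open SEMI in
/-- SEMI: packaging of Mathlib's Wedderburn–Artin: a finite-dimensional algebra over an algebraically
closed field maps onto a product of matrix algebras with nilpotent kernel -/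
theorem exists_surj_pi_matrix [IsAlgClosed k] [FiniteDimensional k B] :
    ∃ (l : ℕ) (d : Fin l → ℕ) (f : B →ₐ[k] (Π i : Fin l, Matrix (Fin (d i + 1)) (Fin (d i + 1)) k)),
      Function.Surjective f ∧
      ∃ m : ℕ, ∀ L : List B, (∀ x ∈ L, f x = 0) → L.length = m → L.prod = 0 := by
  have hart : IsArtinianRing B := IsArtinianRing.of_finite k B
  have hfin : FiniteDimensional k (B ⧸ Ring.jacobson B) :=
    Module.Finite.of_surjective (Ideal.Quotient.mkₐ k (Ring.jacobson B)).toLinearMap
      (Ideal.Quotient.mkₐ_surjective k (Ring.jacobson B))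
  obtain ⟨l, d, hd, ⟨e⟩⟩ :=
    IsSemisimpleRing.exists_algEquiv_pi_matrix_of_isAlgClosed k (B ⧸ Ring.jacobson B)
  have hdeq : ∀ i, d i = (d i - 1) + 1 := by
    intro i
    have := (hd i).out
    omega
  let e2 : (Π i : Fin l, Matrix (Fin (d i)) (Fin (d i)) k) ≃ₐ[k]
      (Π i : Fin l, Matrix (Fin (d i - 1 + 1)) (Fin (d i - 1 + 1)) k) :=
    AlgEquiv.piCongrRight fun i => Matrix.reindexAlgEquiv k k (finCongr (hdeq i))
  let f : B →ₐ[k] (Π i : Fin l, Matrix (Fin (d i - 1 + 1)) (Fin (d i - 1 + 1)) k) :=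
    ((e.trans e2 : _ ≃ₐ[k] _) : _ →ₐ[k] _).comp (Ideal.Quotient.mkₐ k (Ring.jacobson B))
  have hker : ∀ x : B, f x = 0 → x ∈ Ring.jacobson B := by
    intro x hx
    have h1 : (e.trans e2) (Ideal.Quotient.mkₐ k (Ring.jacobson B) x) = 0 := hx
    have h2 : Ideal.Quotient.mkₐ k (Ring.jacobson B) x = 0 := by
      rw [← (e.trans e2).map_zero] at h1
      exact (e.trans e2).injective h1
    rw [Ideal.Quotient.mkₐ_eq_mk] at h2
    exact Ideal.Quotient.eq_zero_iff_mem.mp h2
  obtain ⟨m, hm⟩ := (IsSemiprimaryRing.isNilpotent : IsNilpotent (Ring.jacobson B))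
  refine ⟨l, fun i => d i - 1, f, ?_, m, ?_⟩
  · intro y
    obtain ⟨z, hz⟩ := (e.trans e2).surjective y
    obtain ⟨x, hx⟩ := Ideal.Quotient.mkₐ_surjective k (Ring.jacobson B) z
    exact ⟨x, by change (e.trans e2) (Ideal.Quotient.mkₐ k (Ring.jacobson B) x) = y; rw [hx, hz]⟩
  · intro L hL hlen
    have h1 := list_prod_mem_pow (Ring.jacobson B) L (fun x hx => hker x (hL x hx))
    rw [hlen, hm] at h1
    exact h1

end Ring

end Cfsg.Agent.S4607P
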