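import Mathlib
import Cfsg.Agent.Helper5.S4607Defs
import Cfsg.Agent.Helper20.S4607DUAL
import Cfsg.Agent.Helper20.S4607SEMI

set_option autoImplicit false

/-! S4607 piece ONE (`exists_surj_matrix`). -/

namespace Cfsg.Agent.S4607P

open Cfsg

section Ring

universe u v

variable {k : Type u} {B : Type v} [Field k] [Ring B] [Algebra k B]

/-- ONE: a symmetric algebra with two-dimensional centre containing a nonzero nilpotent has a
single matrix block -/
theorem exists_surj_matrix [IsAlgClosed k] [FiniteDimensional k B] (lam : B →ₗ[k] k)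
    (h : IsSymForm lam) (hZ : Module.finrank k (Subalgebra.center k B) = 2)
    (z : B) (hz : z ∈ Subalgebra.center k B) (hz0 : z ≠ 0) (hznil : IsNilpotent z) :
    ∃ (n : ℕ) (f : B →ₐ[k] Matrix (Fin (n + 1)) (Fin (n + 1)) k),
      Function.Surjective f ∧
      ∃ m : ℕ, ∀ L : List B, (∀ x ∈ L, f x = 0) → L.length = m → L.prod = 0 := by
  classical
  obtain ⟨l, d, f, hf, m, hm⟩ := exists_surj_pi_matrix (k := k) (B := B)
  let t : Fin l → (B →ₗ[k] k) := fun i =>
    (Matrix.traceLinearMap (Fin (d i + 1)) k k) ∘ₗ (LinearMap.proj i) ∘ₗ f.toLinearMap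
  have ht_apply : ∀ i b, t i b = Matrix.trace (f b i) := fun i b => rfl
  have ht : ∀ i a b, t i (a * b) = t i (b * a) := by
    intro i a b
    rw [ht_apply, ht_apply, map_mul, map_mul, Pi.mul_apply, Pi.mul_apply, Matrix.trace_mul_comm]
  have hw : ∀ i, ∃ w ∈ Subalgebra.center k B, ∀ b, t i b = lam (b * w) :=
    fun i => exists_center_repr lam h (t i) (ht i)
  choose w hwc hwt using hw
  have hx : ∀ j : Fin l, ∃ x : B, f x = Pi.single j (Matrix.single 0 0 1) := fun j => hf _
  choose x hx using hx
  have htx : ∀ i j, t i (x j) = if i = j then 1 else 0 := by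
    intro i j
    rw [ht_apply, hx]
    by_cases hij : i = j
    · subst hij
      rw [Pi.single_eq_same, if_pos rfl, Matrix.trace_single_eq_same]
    · rw [Pi.single_eq_of_ne hij, if_neg hij, Matrix.trace_zero]
  have hli : LinearIndependent k w := by
    rw [Fintype.linearIndependent_iff]
    intro c hc j
    have h1 : lam (x j * ∑ i, c i • w i) = c j := by
      rw [Finset.mul_sum, map_sum]
      have h2 : ∀ i ∈ Finset.univ, lam (x j * c i • w i) = if i = j then c j else 0 := by
        intro i _
        rw [mul_smul_comm, map_smul, ← hwt, htx, smul_eq_mul]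
        by_cases hij : i = j
        · rw [if_pos hij, if_pos hij, mul_one, hij]
        · rw [if_neg hij, if_neg hij, mul_zero]
      rw [Finset.sum_congr rfl h2, Finset.sum_ite_eq' Finset.univ j, if_pos (Finset.mem_univ j)]
    rw [hc, mul_zero, map_zero] at h1
    exact h1.symm
  have hspan_le : Submodule.span k (Set.range w) ≤
      Subalgebra.toSubmodule (Subalgebra.center k B) := by
    rw [Submodule.span_le]
    rintro _ ⟨i, rfl⟩
    exact hwc i
  have hZ' : Module.finrank k (Subalgebra.toSubmodule (Subalgebra.center k B)) = 2 := hZ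
  have hl2 : l ≤ 2 := by
    have h1 := Submodule.finrank_mono hspan_le
    rw [finrank_span_eq_card hli, Fintype.card_fin, hZ'] at h1
    exact h1
  have hl0 : l ≠ 0 := by
    rintro rfl
    have h1 : ∀ b : B, f b = 0 := fun b => Subsingleton.elim _ _
    have h2 := hm (List.replicate m 1) (fun y _ => h1 y) List.length_replicate
    rw [List.prod_replicate, one_pow] at h2
    apply hz0
    rw [← mul_one z, h2, mul_zero]
  have hl2' : l ≠ 2 := by
    rintro rfl
    have heq : Submodule.span k (Set.range w) =
        Subalgebra.toSubmodule (Subalgebra.center k B) := by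
      apply Submodule.eq_of_le_of_finrank_eq hspan_le
      rw [finrank_span_eq_card hli, Fintype.card_fin, hZ']
    have h1 : (1 : B) ∈ Submodule.span k (Set.range w) := by
      rw [heq]
      exact (Subalgebra.center k B).one_mem
    obtain ⟨c, hc⟩ := (Submodule.mem_span_range_iff_exists_fun k).mp h1
    have hinj : ∀ y : B, f y = 0 → y = 0 := by
      intro y hy
      apply h.nondeg
      intro b
      have h2 : lam (y * b) = lam ((y * b) * ∑ i, c i • w i) := by rw [hc, mul_one]
      rw [h2, Finset.mul_sum, map_sum]
      apply Finset.sum_eq_zero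
      intro i _
      rw [mul_smul_comm, map_smul, ← hwt, ht_apply, map_mul, hy, zero_mul, Pi.zero_apply,
        Matrix.trace_zero, smul_zero]
    apply hz0
    apply hinj
    funext i
    have hcomm : ∀ M : Matrix (Fin (d i + 1)) (Fin (d i + 1)) k, Commute M (f z i) := by
      intro M
      obtain ⟨b, hb⟩ := hf (Pi.single i M)
      have h2 : f b * f z = f z * f b := by
        rw [← map_mul, ← map_mul, (Subalgebra.mem_center_iff.mp hz) b]
      have h3 := congrFun h2 i
      rw [Pi.mul_apply, Pi.mul_apply, hb, Pi.single_eq_same] at h3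
      exact h3
    obtain ⟨a, ha⟩ := Matrix.mem_range_scalar_of_commute_single (M := f z i)
      (fun p q _ => hcomm _)
    obtain ⟨N, hN⟩ := hznil
    have h4 : (f z i) ^ N = 0 := by
      have h5 := congrArg (fun g => f g i) hN
      simp only [map_pow, map_zero, Pi.pow_apply, Pi.zero_apply] at h5
      exact h5
    rw [← ha, ← map_pow] at h4
    have h5 : a ^ N = 0 := by
      have h6 := congrFun (congrFun h4 0) 0
      simpa [Matrix.scalar_apply] using h6
    have hanil : IsNilpotent a := ⟨N, h5⟩
    have ha0 : a = 0 := hanil.eq_zero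
    rw [← ha, ha0, map_zero]
    rfl
  have hl1 : l = 1 := by omega
  subst hl1
  refine ⟨d 0, (Pi.evalAlgHom k _ 0).comp f, ?_, m, ?_⟩
  · intro M
    obtain ⟨b, hb⟩ := hf (Pi.single 0 M)
    refine ⟨b, ?_⟩
    change f b 0 = M
    rw [hb, Pi.single_eq_same]
  · intro L hL hlen
    apply hm L _ hlen
    intro y hy
    funext i
    have hi : i = 0 := Subsingleton.elim _ _
    subst hi
    exact hL y hy

end Ring

end Cfsg.Agent.S4607P
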