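import Mathlib
import Cfsg.Agent.Helper27.S4700Defs
import Cfsg.Agent.Helper5.S0999B0X
import Cfsg.Agent.Helper20.S4503B0ASM

/-!
# S4700, piece B0EXT: the principal block with values on `P ∖ 1` (`f ≠ p - 1`)

Same construction as `Cfsg.Agent.Helper5.S0999B0X.exists_b0Full`, from one `CoreData`, plus the
values `val_X`, `sum_Y` obtained from `Cfsg.Agent.S4503P.val_of_dnum_zero`.
-/

set_option autoImplicit false
set_option maxHeartbeats 1000000

namespace Cfsg.Agent.S4700P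

open Cfsg Cfsg.Agent.Helper24 Cfsg.Agent.Helper1.W2p Cfsg.Agent.S0996P Cfsg.Agent.S4503P
  Cfsg.Agent.S0999P

universe u

namespace B0EXT

open Cfsg.Agent.Helper8.D1 Cfsg.Agent.S4705P Cfsg.Agent.Helper8.W2p
  Cfsg.Agent.Helper20.S4705BLK Cfsg.Agent.Helper20.S4503PSIAN Cfsg.Agent.Helper5
  Cfsg.Agent.Helper5.D1Q Cfsg.Agent.Helper5.Loc Cfsg.Agent.Helper5.CC
  Cfsg.Agent.Helper23.S4503SHIFT Cfsg.Agent.Helper23.S4503ORB
open scoped ComplexConjugate

variable {G : Type u} [Group G] [Finite G]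

/-- a non-trivial `p`-linear character of `C_G(P)` sums to zero over `P` -/
theorem sum_P_nt (p : ℕ) [Fact p.Prime] (P : Sylow p G) (hP : Nat.card P = p)
    (ν : Subgroup.centralizer ((P : Subgroup G) : Set G) → ℂ) (hν : NT p ν)
    (hPC : (P : Subgroup G) ≤ Subgroup.centralizer ((P : Subgroup G) : Set G))
    [Fintype (P : Subgroup G)] :
    ∑ y : (P : Subgroup G), ν ⟨(y : G), hPC y.2⟩ = 0 := by
  have hp : p.Prime := Fact.out
  obtain ⟨hZ, hZc, hZi⟩ := Cfsg.Agent.Helper18.D1QO.subgroupOf_facts P hP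
  -- a non-identity element of `P`
  obtain ⟨u, hu1⟩ : ∃ u : (P : Subgroup G), u ≠ 1 := by
    have : Nontrivial (P : Subgroup G) := by
      rw [← Finite.one_lt_card_iff_nontrivial, hP]
      exact hp.one_lt
    exact exists_ne 1
  set uc : Subgroup.centralizer ((P : Subgroup G) : Set G) := ⟨(u : G), hPC u.2⟩ with huc
  have hucZ : uc ∈ (P : Subgroup G).subgroupOf (Subgroup.centralizer ((P : Subgroup G) : Set G)) := by
    rw [Subgroup.mem_subgroupOf]
    exact u.2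
  have huc1 : uc ≠ 1 := by
    intro h
    apply hu1
    apply Subtype.ext
    have := congrArg Subtype.val h
    exact this
  have ha : ν uc ≠ 1 :=
    Cfsg.Agent.Helper11.D1QL.pLin_apply_ne_one _ hZ hZc hZi hν.1 hν.2 hucZ huc1
  have h1 : ∑ y : (P : Subgroup G), ν ⟨(y : G), hPC y.2⟩ =
      ν uc * ∑ y : (P : Subgroup G), ν ⟨(y : G), hPC y.2⟩ := by
    rw [Finset.mul_sum]
    refine (Fintype.sum_equiv (Equiv.mulLeft u) _ _ (fun y => ?_)).symm
    rw [← hν.1.mul]
    congr 1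
  have h2 : (1 - ν uc) * ∑ y : (P : Subgroup G), ν ⟨(y : G), hPC y.2⟩ = 0 := by
    rw [sub_mul, one_mul, ← h1, sub_self]
  rcases mul_eq_zero.1 h2 with h3 | h3
  · exact absurd (sub_eq_zero.1 h3).symm ha
  · exact h3

end B0EXT

open Cfsg.Agent.Helper8.D1 Cfsg.Agent.S4705P Cfsg.Agent.Helper8.W2p
  Cfsg.Agent.Helper20.S4705BLK Cfsg.Agent.Helper20.S4503PSIAN Cfsg.Agent.Helper5
  Cfsg.Agent.Helper5.D1Q Cfsg.Agent.Helper5.Loc Cfsg.Agent.Helper5.CC
  Cfsg.Agent.Helper23.S4503SHIFT Cfsg.Agent.Helper23.S4503ORB Cfsg.Agent.Helper5.S0999B0X in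
/-- B0EXT -/
theorem exists_b0Ext {G : Type u} [Group G] [Finite G] (p : ℕ) [Fact p.Prime] (P : Sylow p G)
    (hP : Nat.card P = p)
    (hf : fN (P : Subgroup G) ≠ p - 1) : Nonempty (B0Ext p P) := by
  classical
  have hp : p.Prime := Fact.out
  obtain ⟨M, hM⟩ := Cfsg.Agent.Helper24.exists_isPModular p hp
  have hMp := isPrime_of_isPModular hM
  let _ : Fintype (IrrCharacter G) := Fintype.ofFinite _
  let _ : Fintype (P : Subgroup G) := Fintype.ofFinite _
  -- the principal block of `C` induces the principal block of `G`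
  set θ₁ : IrrCharacter (Subgroup.centralizer ((P : Subgroup G) : Set G)) := trivIrr _ with hθ₁
  obtain ⟨B', hind'⟩ := Cfsg.Agent.Helper23.D1QI.exists_induced hM P hP θ₁
  have hb : blockOf M (θ₁ : Subgroup.centralizer ((P : Subgroup G) : Set G) → ℂ) =
      principalBlock M (Subgroup.centralizer ((P : Subgroup G) : Set G)) := rfl
  have hind : IsInducedBlock M (Subgroup.centralizer ((P : Subgroup G) : Set G))
      (blockOf M (θ₁ : Subgroup.centralizer ((P : Subgroup G) : Set G) → ℂ))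
      (principalBlock M G) :=
    (Cfsg.Agent.S0936.result p M hM _ _ ⟨B', hind'⟩).mpr hb
  have hθb : θ₁ ∈ blockOf M (θ₁ : Subgroup.centralizer ((P : Subgroup G) : Set G) → ℂ) :=
    mem_blockOf_self hMp θ₁
  have hθP : ∀ x : Subgroup.centralizer ((P : Subgroup G) : Set G), (x : G) ∈ (P : Subgroup G) →
      (θ₁ : Subgroup.centralizer ((P : Subgroup G) : Set G) → ℂ) x =
        (θ₁ : Subgroup.centralizer ((P : Subgroup G) : Set G) → ℂ) 1 := fun _ _ => rfl
  have hζB : trivIrr G ∈ principalBlock M G := mem_blockOf_self hMp (trivIrr G)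
  have hζdeg : irrDeg (trivIrr G) = 1 := by
    have h1 := irrDeg_spec (trivIrr G)
    rw [trivIrr_apply] at h1
    exact_mod_cast h1.symm
  have hζ : ¬ p ∣ irrDeg (trivIrr G) := by
    rw [hζdeg]
    exact hp.one_lt.not_ge ∘ Nat.le_of_dvd Nat.one_pos
  obtain ⟨D, hDθ, hDB⟩ := exists_coreData_of_theta p M hM P hP (trivIrr G) hζ _ _ hind hζB θ₁ hθb hθP
  -- `T = N`
  have hTeq : D.T = Subgroup.normalizer ((P : Subgroup G) : Set G) := by
    ext g
    rw [D.hT g, hDθ]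
    exact ⟨fun h => h.1, fun h => ⟨h, fun _ _ _ => rfl⟩⟩
  have hef : D.e = D.f := by
    rw [← D.he, ← D.hf, hTeq]
  have hfN : fN (P : Subgroup G) = D.f := D.hf
  have hp1 : 0 < p - 1 := by have := hp.two_le; omega
  have hepos : 0 < D.e := Nat.pos_of_dvd_of_pos D.e_dvd hp1
  have hθdeg : irrDeg D.θ = 1 := by
    rw [hDθ]
    have h1 := irrDeg_spec θ₁
    rw [hθ₁, trivIrr_apply] at h1
    exact_mod_cast h1.symm
  -- the non-exceptional characters
  set X : Finset (IrrCharacter G) :=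
    Finset.univ.filter (fun χ => χ ∈ D.B ∧ ∀ μ, NT p μ → χ ≠ D.Ψ μ) with hX
  set Bf : Finset (IrrCharacter G) := Finset.univ.filter (fun χ => χ ∈ D.B) with hBf
  set Yf : Finset (IrrCharacter G) := Finset.univ.filter (fun χ => ∃ μ, NT p μ ∧ χ = D.Ψ μ) with hYf
  have hBfcard : Bf.card = D.e + (p - 1) / D.e := by
    rw [← D.card_B, hBf, Nat.card_eq_fintype_card, Fintype.card_subtype]
  have hYfcard : Yf.card = (p - 1) / D.e := by
    rw [← D.card_Y, hYf, Nat.card_eq_fintype_card, Fintype.card_subtype]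
  have hYB : Yf ⊆ Bf := by
    intro χ hχ
    obtain ⟨μ, hμ, rfl⟩ := (Finset.mem_filter.1 hχ).2
    exact Finset.mem_filter.2 ⟨Finset.mem_univ _, D.Ψ_mem μ hμ⟩
  have hXeq : X = Bf \ Yf := by
    ext χ
    simp only [hX, hBf, hYf, Finset.mem_filter, Finset.mem_univ, true_and, Finset.mem_sdiff]
    constructor
    · rintro ⟨h1, h2⟩
      exact ⟨h1, fun ⟨μ, hμ, h⟩ => h2 μ hμ h⟩
    · rintro ⟨h1, h2⟩
      exact ⟨h1, fun μ hμ h => h2 ⟨μ, hμ, h⟩⟩
  have hXcard : X.card = fN (P : Subgroup G) := by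
    rw [hXeq, Finset.card_sdiff_of_subset hYB, hBfcard, hYfcard, hfN, ← hef]
    omega
  have hYcard : Yf.card * fN (P : Subgroup G) = p - 1 := by
    rw [hYfcard, hfN, ← hef]
    exact Nat.div_mul_cancel D.e_dvd
  have hXB : ∀ χ ∈ X, χ ∈ principalBlock M G := by
    intro χ hχ
    rw [← hDB]
    exact (Finset.mem_filter.1 hχ).2.1
  have hmemB : ∀ χ : IrrCharacter G, (χ ∈ X ∨ χ ∈ Yf) → χ ∈ principalBlock M G := by
    rintro χ (h | h)
    · exact hXB χ h
    · obtain ⟨μ, hμ, rfl⟩ := (Finset.mem_filter.1 h).2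
      rw [← hDB]
      exact D.Ψ_mem μ hμ
  -- a nontrivial `p`-linear character exists
  obtain ⟨μ₁, hμ₁⟩ : ∃ μ : Subgroup.centralizer ((P : Subgroup G) : Set G) → ℂ, NT p μ := by
    have h1 := Cfsg.Agent.S4503P.card_NT p P hP
    have h2 : 0 < Nat.card {ν : Subgroup.centralizer ((P : Subgroup G) : Set G) → ℂ // NT p ν} := by
      rw [h1]; exact hp1
    obtain ⟨⟨μ, hμ⟩⟩ := (Nat.card_pos_iff.mp h2).1
    exact ⟨μ, hμ⟩
  have hDtriv : ∀ μ, NT p μ → Dnum (Subgroup.centralizer ((P : Subgroup G) : Set G)) μ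
      (D.θ : Subgroup.centralizer ((P : Subgroup G) : Set G) → ℂ)
      ((trivIrr G : IrrCharacter G) : G → ℂ) = -1 := by
    intro μ hμ
    rw [hDθ]
    exact Dnum_triv_gen p P μ hμ
  -- the trivial character is not exceptional
  have htrivX : trivIrr G ∈ X := by
    refine Finset.mem_filter.2 ⟨Finset.mem_univ _, D.mem, ?_⟩
    intro μ₀ hμ₀ hμ₀eq
    have hwtriv : D.w (trivIrr G) = 0 := by
      have h0 := D.w_Ψ μ₀ hμ₀
      rw [← hμ₀eq] at h0
      exact h0
    have hall : ∀ ν, NT p ν → D.Ψ ν = trivIrr G := by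
      intro ν hν
      by_contra hne
      have h1 := D.D_w ν hν (trivIrr G) (fun h => hne h.symm)
      rw [hDtriv ν hν, hwtriv] at h1
      norm_num at h1
    have hYeq : Yf = {trivIrr G} := by
      ext χ
      rw [Finset.mem_singleton]
      constructor
      · intro h
        obtain ⟨μ, hμ, rfl⟩ := (Finset.mem_filter.1 h).2
        exact hall μ hμ
      · intro h
        exact Finset.mem_filter.2 ⟨Finset.mem_univ _, μ₀, hμ₀, h.trans hμ₀eq⟩
    rw [hYeq, Finset.card_singleton, one_mul] at hYcard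
    exact hf hYcard
  have hwtriv : D.w (trivIrr G) = -1 := by
    have h1 := D.D_w μ₁ hμ₁ (trivIrr G) ((Finset.mem_filter.1 htrivX).2.2 μ₁ hμ₁)
    rw [hDtriv μ₁ hμ₁] at h1
    have h2 : ((D.w (trivIrr G) : ℤ) : ℂ) = ((-1 : ℤ) : ℂ) := by rw [← h1]; simp
    exact_mod_cast h2
  have hw0 : ∀ χ, χ ∉ X → D.w χ = 0 := by
    intro χ hχ
    by_cases hB : χ ∈ D.B
    · have h1 : ¬ ∀ μ, NT p μ → χ ≠ D.Ψ μ := fun h =>
        hχ (Finset.mem_filter.2 ⟨Finset.mem_univ _, hB, h⟩)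
      push Not at h1
      obtain ⟨μ, hμ, rfl⟩ := h1
      exact D.w_Ψ μ hμ
    · exact D.w_out χ hB
  have hZ : ∀ χ : IrrCharacter G, χ ∈ principalBlock M G →
      ∀ φ : IrrCharacter (Subgroup.centralizer ((P : Subgroup G) : Set G)),
      (∀ x : Subgroup.centralizer ((P : Subgroup G) : Set G), (x : G) ∈ (P : Subgroup G) →
        (φ : Subgroup.centralizer ((P : Subgroup G) : Set G) → ℂ) x =
          (φ : Subgroup.centralizer ((P : Subgroup G) : Set G) → ℂ) 1) →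
      (∃ c, (φ : Subgroup.centralizer ((P : Subgroup G) : Set G) → ℂ) c ≠ 1) →
      ∀ μ, IsPLin p μ → Dnum (Subgroup.centralizer ((P : Subgroup G) : Set G)) μ
        (φ : Subgroup.centralizer ((P : Subgroup G) : Set G) → ℂ) (χ : G → ℂ) = 0 :=
    fun χ hχ φ hφP hφ μ hμ => dnum_eq_zero_of_ne_triv p M hM P hP χ hχ φ hφP hφ μ hμ
  -- the multiplicities
  have hθfun : (D.θ : Subgroup.centralizer ((P : Subgroup G) : Set G) → ℂ) =
      triv (Subgroup.centralizer ((P : Subgroup G) : Set G)) := by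
    rw [hDθ]
    rfl
  have hdn : ∀ μ, IsPLin p μ → ∀ χ : IrrCharacter G,
      Dnum (Subgroup.centralizer ((P : Subgroup G) : Set G)) μ
        (D.θ : Subgroup.centralizer ((P : Subgroup G) : Set G) → ℂ) (χ : G → ℂ) =
      (((multN (Subgroup.centralizer ((P : Subgroup G) : Set G)) μ (χ : G → ℂ) : ℤ) -
        multN (Subgroup.centralizer ((P : Subgroup G) : Set G)) (triv _) (χ : G → ℂ) : ℤ) : ℂ) := by
    intro μ hμ χ
    have hχc : IsCharacter G (χ : G → ℂ) := IsIrrCharacter.isCharacter χ.2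
    rw [Dnum_eq_mult, hθfun]
    have h1 : (fun c : Subgroup.centralizer ((P : Subgroup G) : Set G) =>
        μ c * triv (Subgroup.centralizer ((P : Subgroup G) : Set G)) c) = μ := by
      funext c
      show μ c * 1 = μ c
      rw [mul_one]
    rw [h1, ← multN_cast _ μ (isIrr_of_isPLin p μ hμ) _ hχc,
      ← multN_cast _ (triv _) (isIrr_of_isPLin p _ (isPLin_one p)) _ hχc]
    push_cast
    rfl
  -- the finite set of non-trivial `p`-linear characters
  have hfinNT := finite_NT' p P hP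
  set NTf : Finset (Subgroup.centralizer ((P : Subgroup G) : Set G) → ℂ) := hfinNT.toFinset
    with hNTf
  have hmemNT : ∀ ν, ν ∈ NTf ↔ NT p ν := fun ν => Set.Finite.mem_toFinset hfinNT
  -- values at `p`-singular elements of `C`
  have hval : ∀ χ : IrrCharacter G, (χ ∈ X ∨ χ ∈ Yf) →
      ∀ c : Subgroup.centralizer ((P : Subgroup G) : Set G), p ∣ orderOf (c : G) →
      (χ : G → ℂ) c = ∑ ν ∈ NTf, Dnum (Subgroup.centralizer ((P : Subgroup G) : Set G)) ν
        (D.θ : Subgroup.centralizer ((P : Subgroup G) : Set G) → ℂ) (χ : G → ℂ) * ν c := by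
    intro χ hχ c hc
    rw [val_of_dnum_zero p P hP χ (hZ χ (hmemB χ hχ)) c hc,
      finsum_mem_eq_finite_toFinset_sum _ hfinNT]
    refine Finset.sum_congr rfl fun ν hν => ?_
    rw [hdn ν ((hmemNT ν).1 hν).1 χ]
  have hS : ∀ c : Subgroup.centralizer ((P : Subgroup G) : Set G), p ∣ orderOf (c : G) →
      ∑ ν ∈ NTf, ν c = -1 := by
    intro c hc
    have h1 := hval (trivIrr G) (Or.inl htrivX) c hc
    rw [trivIrr_apply] at h1
    rw [Finset.sum_congr rfl (fun ν hν => by rw [hDtriv ν ((hmemNT ν).1 hν)])] at h1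
    rw [← Finset.mul_sum] at h1
    linear_combination h1
  have hPC : (P : Subgroup G) ≤ Subgroup.centralizer ((P : Subgroup G) : Set G) :=
    Cfsg.Agent.Helper1.D1PA.le_centralizer P hP
  have hord : ∀ y : G, y ∈ (P : Subgroup G) → y ≠ 1 → orderOf y = p := by
    intro y hy hy1
    have h1 : orderOf (⟨y, hy⟩ : (P : Subgroup G)) ∣ Nat.card (P : Subgroup G) :=
      orderOf_dvd_natCard _
    rw [hP, Subgroup.orderOf_mk] at h1
    rcases (Nat.dvd_prime hp).1 h1 with h | h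
    · exact absurd (orderOf_eq_one_iff.1 h) hy1
    · exact h
  refine ⟨⟨⟨X, Yf, fun χ => - D.w χ, D.ε, D.ε_pm, hXcard, hYcard, ?_, htrivX, ?_, ?_, ?_, ?_, ?_, ?_⟩,
    ?_, ?_⟩⟩
  · -- disjoint
    rw [Finset.disjoint_left]
    intro χ hχ hχY
    obtain ⟨μ, hμ, h⟩ := (Finset.mem_filter.1 hχY).2
    exact (Finset.mem_filter.1 hχ).2.2 μ hμ h
  · show - D.w (trivIrr G) = 1
    rw [hwtriv]; rfl
  · intro χ hχ
    show - D.w χ = 1 ∨ - D.w χ = -1
    rcases D.w_X χ (Finset.mem_filter.1 hχ).2.1 (Finset.mem_filter.1 hχ).2.2 with h | h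
    · right; rw [h]
    · left; rw [h]; rfl
  · intro χ hχ
    have h := D.deg_X χ (Finset.mem_filter.1 hχ).2.1 (Finset.mem_filter.1 hχ).2.2
    rw [← hef, Nat.div_self hepos, hθdeg] at h
    simpa using h
  · intro ψ hψ
    obtain ⟨μ, hμ, rfl⟩ := (Finset.mem_filter.1 hψ).2
    have h := D.deg_Y μ hμ
    rw [hθdeg, mul_one, ← hfN] at h
    exact h
  · intro ψ hψ
    obtain ⟨μ, hμ, rfl⟩ := (Finset.mem_filter.1 hψ).2
    have h := D.rel μ hμ 1 (by rw [orderOf_one]; exact fun h => hp.one_lt.ne' (Nat.dvd_one.mp h))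
    rw [finsum_eq_sum_of_fintype] at h
    have h2 : ∑ χ : IrrCharacter G, (D.w χ : ℂ) * (χ : G → ℂ) 1 =
        ∑ χ ∈ X, (D.w χ : ℂ) * (χ : G → ℂ) 1 := by
      symm
      apply Finset.sum_subset (Finset.subset_univ _)
      intro χ _ hχ
      rw [hw0 χ hχ]
      simp
    rw [h2] at h
    have h3 : ((∑ χ ∈ X, (- D.w χ) * (irrDeg χ : ℤ) : ℤ) : ℂ) =
        ((D.ε * (irrDeg (D.Ψ μ) : ℤ) : ℤ) : ℂ) := by
      push_cast
      rw [← irrDeg_spec (D.Ψ μ)]
      have h4 : ∑ χ ∈ X, -(D.w χ : ℂ) * (irrDeg χ : ℂ) =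
          - ∑ χ ∈ X, (D.w χ : ℂ) * (χ : G → ℂ) 1 := by
        rw [← Finset.sum_neg_distrib]
        refine Finset.sum_congr rfl fun χ _ => ?_
        rw [irrDeg_spec]; ring
      rw [h4]
      linear_combination -h
    exact_mod_cast h3
  · intro χ hχ
    exact deg_ge_of_dnum_zero p P hP χ (hZ χ (hmemB χ hχ))
  · -- val_X
    intro χ hχ y hy hy1
    show (χ : G → ℂ) y = ((- D.w χ : ℤ) : ℂ)
    have hc : p ∣ orderOf ((⟨y, hPC hy⟩ : Subgroup.centralizer ((P : Subgroup G) : Set G)) : G) := by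
      show p ∣ orderOf y
      rw [hord y hy hy1]
    have h1 := hval χ (Or.inl hχ) ⟨y, hPC hy⟩ hc
    rw [Finset.sum_congr rfl (fun ν hν => by
      rw [D.D_w ν ((hmemNT ν).1 hν) χ ((Finset.mem_filter.1 hχ).2.2 ν ((hmemNT ν).1 hν))]),
      ← Finset.mul_sum, hS _ hc] at h1
    have h2 : (χ : G → ℂ) y = (D.w χ : ℂ) * -1 := h1
    rw [h2]
    push_cast
    ring
  · -- sum_Y
    intro ψ hψ
    obtain ⟨μ₀, hμ₀, rfl⟩ := (Finset.mem_filter.1 hψ).2
    show ∑ᶠ y : ↥(P : Subgroup G), ((D.Ψ μ₀ : IrrCharacter G) : G → ℂ) (y : G) =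
      (irrDeg (D.Ψ μ₀) : ℂ) - (D.ε : ℂ) * (fN (P : Subgroup G) : ℂ)
    set O : Finset (Subgroup.centralizer ((P : Subgroup G) : Set G) → ℂ) :=
      NTf.filter (fun ν => D.Ψ ν = D.Ψ μ₀) with hO
    -- the orbit has `e` elements
    have hOcard : O.card = D.e := by
      rw [← D.orb μ₀ hμ₀, ← Fintype.card_coe, ← Nat.card_eq_fintype_card]
      apply Nat.card_congr
      apply Equiv.subtypeEquivRight
      intro ν
      rw [hO, Finset.mem_filter, hmemNT]
      constructor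
      · rintro ⟨hν, h⟩
        exact (D.Ψ_conj μ₀ ν hμ₀ hν).1 h.symm
      · intro h
        have hν : NT p ν := h.nt hμ₀
        exact ⟨hν, ((D.Ψ_conj μ₀ ν hμ₀ hν).2 h).symm⟩
    -- values on `P ∖ 1`
    have hvalY : ∀ y : (P : Subgroup G), y ≠ 1 →
        ((D.Ψ μ₀ : IrrCharacter G) : G → ℂ) (y : G) =
          (D.ε : ℂ) * ∑ ν ∈ O, ν ⟨(y : G), hPC y.2⟩ := by
      intro y hy1
      have hy1' : (y : G) ≠ 1 := fun h => hy1 (Subtype.ext h)
      have hc : p ∣ orderOf ((⟨(y : G), hPC y.2⟩ :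
          Subgroup.centralizer ((P : Subgroup G) : Set G)) : G) := by
        show p ∣ orderOf (y : G)
        rw [hord y y.2 hy1']
      have hYmem : D.Ψ μ₀ ∈ Yf := Finset.mem_filter.2 ⟨Finset.mem_univ _, μ₀, hμ₀, rfl⟩
      have h1 := hval (D.Ψ μ₀) (Or.inr hYmem) ⟨(y : G), hPC y.2⟩ hc
      have h2 : ∀ ν ∈ NTf, Dnum (Subgroup.centralizer ((P : Subgroup G) : Set G)) ν
          (D.θ : Subgroup.centralizer ((P : Subgroup G) : Set G) → ℂ)
          ((D.Ψ μ₀ : IrrCharacter G) : G → ℂ) * ν ⟨(y : G), hPC y.2⟩ =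
          if D.Ψ ν = D.Ψ μ₀ then (D.ε : ℂ) * ν ⟨(y : G), hPC y.2⟩ else 0 := by
        intro ν hν
        have hνnt := (hmemNT ν).1 hν
        split_ifs with hif
        · rw [← hif, D.D_Ψ ν hνnt]
        · rw [D.D_w ν hνnt (D.Ψ μ₀) (fun h => hif h.symm), D.w_Ψ μ₀ hμ₀]
          simp
      have h3 : ((D.Ψ μ₀ : IrrCharacter G) : G → ℂ) (y : G) =
          ∑ ν ∈ NTf, if D.Ψ ν = D.Ψ μ₀ then (D.ε : ℂ) * ν ⟨(y : G), hPC y.2⟩ else 0 := by
        rw [← Finset.sum_congr rfl h2]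
        exact h1
      rw [h3, ← Finset.sum_filter, Finset.mul_sum]
    -- sum over `P`
    rw [finsum_eq_sum_of_fintype,
      ← Finset.add_sum_erase Finset.univ _ (Finset.mem_univ (1 : (P : Subgroup G)))]
    have h4 : ∑ y ∈ Finset.univ.erase (1 : (P : Subgroup G)),
        ((D.Ψ μ₀ : IrrCharacter G) : G → ℂ) (y : G) = - (D.ε : ℂ) * (D.e : ℂ) := by
      rw [Finset.sum_congr rfl (fun y hy => hvalY y (Finset.ne_of_mem_erase hy)), ← Finset.mul_sum,
        Finset.sum_comm]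
      have h5 : ∀ ν ∈ O, ∑ y ∈ Finset.univ.erase (1 : (P : Subgroup G)),
          ν ⟨(y : G), hPC y.2⟩ = -1 := by
        intro ν hν
        have hνnt : NT p ν := (hmemNT ν).1 (Finset.mem_filter.1 hν).1
        have h6 := B0EXT.sum_P_nt p P hP ν hνnt hPC
        rw [← Finset.add_sum_erase Finset.univ _ (Finset.mem_univ (1 : (P : Subgroup G)))] at h6
        have h7 : ν ⟨((1 : (P : Subgroup G)) : G), hPC (1 : (P : Subgroup G)).2⟩ = 1 := by
          have : (⟨((1 : (P : Subgroup G)) : G), hPC (1 : (P : Subgroup G)).2⟩ :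
              Subgroup.centralizer ((P : Subgroup G) : Set G)) = 1 := rfl
          rw [this, hνnt.1.one]
        rw [h7] at h6
        linear_combination h6
      rw [Finset.sum_congr rfl h5, Finset.sum_const, hOcard]
      simp
    rw [h4, Subgroup.coe_one, irrDeg_spec, hfN, ← hef]
    ring

end Cfsg.Agent.S4700P
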