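import Mathlib
import Cfsg.Agent.Helper4.S5033Defs
import Cfsg.Agent.Helper5.S5033L0C
open Cfsg Cfsg.Agent.S5033P

set_option autoImplicit false

/-! S5033 board, piece L5A (steps 0-1 of L5), proved from the conclusion of STAR as a hypothesis,
so that this module does not depend on the STAR module. -/

namespace Cfsg.Agent.S5033P

variable {G : Type*} [Group G] {S : Set (Subgroup G)}

/-- L5 steps 0-1 with STAR as a hypothesis. -/
theorem L5A_aux_of_star (H : Hyp S)
    (hstar : ∀ N : Subgroup G, N.Normal → N ≤ Subgroup.center G ∨ commutator G ≤ N)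
    {K : Subgroup G} (hK : K ≤ commutator G)
    (hn : commutator G ≤ Subgroup.normalizer (K : Set G)) (hne : K ≠ commutator G)
    {A : Subgroup G} (hA : A ∈ S) : A ⊓ K = ⊥ := by
  have h1 : K.normalCore ≤ Subgroup.center G := by
    rcases hstar K.normalCore (Subgroup.normalCore_normal K) with h | h
    · exact h
    · exact absurd (le_antisymm hK (h.trans (Subgroup.normalCore_le K))) hne
  have hAc : IsMulCommutative A := H.hS.commutative A hA
  rw [eq_bot_iff]
  rintro e ⟨heA, heK⟩
  have hcore : e ∈ K.normalCore := by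
    intro g
    have hg : g ∈ commutator G ⊔ A := by rw [L0.sup_eq_top H hA]; trivial
    have hg' : g ∈ ((commutator G ⊔ A : Subgroup G) : Set G) := hg
    rw [Subgroup.normal_mul] at hg'
    obtain ⟨l, hl, a, ha, rfl⟩ := hg'
    have hae : a * e * a⁻¹ = e := by
      have hc : a * e = e * a := by
        have := hAc.is_comm.comm (⟨a, ha⟩ : A) ⟨e, heA⟩
        exact congrArg Subtype.val this
      rw [hc]; group
    have hl' := hn hl
    rw [Subgroup.mem_normalizer_iff] at hl'
    have : l * a * e * (l * a)⁻¹ = l * (a * e * a⁻¹) * l⁻¹ := by group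
    rw [this, hae]
    exact (hl' e).mp heK
  have hmem : e ∈ A ⊓ Subgroup.center G := ⟨heA, h1 hcore⟩
  rw [L0.inf_center H hA] at hmem
  exact hmem

end Cfsg.Agent.S5033P
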