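import Mathlib
import Cfsg.Agent.Helper4.S5033Defs
import Cfsg.Agent.Helper20.S5033L5Aaux
import Cfsg.Agent.Helper13.S5033CLAIM1
open Cfsg Cfsg.Agent.S5033P

set_option autoImplicit false

/-! S5033 board, piece L5A (steps 0-1 of L5): `A ⊓ K = ⊥`. -/

namespace Cfsg.Agent.S5033P

variable {G : Type*} [Group G] {S : Set (Subgroup G)}

/-- L5 steps 0-1. -/
theorem L5A (H : Hyp S) {K : Subgroup G} (hK : K ≤ commutator G)
    (hn : commutator G ≤ Subgroup.normalizer (K : Set G)) (hne : K ≠ commutator G)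
    {A : Subgroup G} (hA : A ∈ S) : A ⊓ K = ⊥ :=
  L5A_aux_of_star H (fun _ hN => STAR H hN) hK hn hne hA

end Cfsg.Agent.S5033P
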