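import Mathlib
import Cfsg.Agent.Helper4.S5033Defs
import Cfsg.Agent.Helper25.S5033R1
import Cfsg.Agent.Helper20.S5033L5A
open Cfsg Cfsg.Agent.S5033P

set_option autoImplicit false

/-! S5033 board, piece L5B (step 3 of L5): `K ⊓ Y' ≤ C(Y)` for every rank one pair of `S`
(degenerate case). -/

namespace Cfsg.Agent.S5033P

variable {G : Type*} [Group G] {S : Set (Subgroup G)}

/-- L5 step 3. -/
theorem L5B (H : Hyp S) (hdeg : IsDegenerateRootSet S) {K : Subgroup G} (hK : K ≤ commutator G)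
    (hn : commutator G ≤ Subgroup.normalizer (K : Set G)) (hne : K ≠ commutator G)
    {D E : Subgroup G} (hD : D ∈ S) (hE : E ∈ S) (h : IsRankOnePair D E) :
    K ⊓ ⁅D ⊔ E, D ⊔ E⁆ ≤ Subgroup.centralizer ((D ⊔ E : Subgroup G) : Set G) := by
  have hsp : IsSpecialRankOnePair D E := H.h4 D hD E ⟨hE, h⟩
  have hDc : IsMulCommutative D := H.hS.commutative D hD
  have hEc : IsMulCommutative E := H.hS.commutative E hE
  have hc : 3 < ENat.card D := H.h3 hdeg D hD
  have hYL : ⁅D ⊔ E, D ⊔ E⁆ ≤ commutator G := by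
    rw [commutator_def]
    exact Subgroup.commutator_mono le_top le_top
  refine R1.central hsp hDc hEc hc inf_le_right ?_ ?_
  · -- Y' normalises K ⊓ Y'
    intro y hy
    have hyK := hn (hYL hy)
    rw [Subgroup.mem_normalizer_iff] at hyK ⊢
    intro x
    constructor
    · rintro ⟨hxK, hxY⟩
      exact ⟨(hyK x).mp hxK, Subgroup.mul_mem _ (Subgroup.mul_mem _ hy hxY) (Subgroup.inv_mem _ hy)⟩
    · rintro ⟨hxK, hxY⟩
      refine ⟨(hyK x).mpr hxK, ?_⟩
      have : x = y⁻¹ * (y * x * y⁻¹) * y := by group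
      rw [this]
      exact Subgroup.mul_mem _ (Subgroup.mul_mem _ (Subgroup.inv_mem _ hy) hxY) hy
  · intro heq
    obtain ⟨e, heD, he1, heY⟩ := R1.exists_mem hsp hDc hEc hc
    have heK : e ∈ K := by
      have : e ∈ K ⊓ ⁅D ⊔ E, D ⊔ E⁆ := by rw [heq]; exact heY
      exact this.1
    have hbot : e ∈ D ⊓ K := ⟨heD, heK⟩
    rw [L5A H hK hn hne hD] at hbot
    exact he1 hbot

end Cfsg.Agent.S5033P
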