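import Mathlib
import Cfsg.Prelude.Def_Classical
import Cfsg.Prelude.Def_FusionComponents
import Cfsg.Agent.Helper26.S5320.Defs
import Cfsg.Agent.Helper23.S5320EMB
import Cfsg.Agent.Helper18.S5320CONJT
import Cfsg.Agent.Helper17.S5320GELA

/-! # S5320 piece GELB (driver helper26): the `2`-elements `gE`, `gE'` normalize `Rt = 2^{1+4}_-`. -/

set_option autoImplicit false
set_option linter.unusedSectionVars false
set_option linter.unusedVariables false

namespace Cfsg.Agent.S5320P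

open Matrix

variable {F : Type*} [Field F]

namespace GELB

/-! ### group theory -/

theorem mem_normalizer_of_sq {G : Type*} [Group G] (R : Subgroup G) (g : G)
    (hconj : ∀ x ∈ R, g * x * g⁻¹ ∈ R) (hsq : g * g ∈ R) :
    g ∈ Subgroup.normalizer (R : Set G) := by
  rw [Subgroup.mem_normalizer_iff]
  intro x
  constructor
  · exact hconj x
  · intro hx
    have h1 : (g * g)⁻¹ * (g * x * g⁻¹) * (g * g) ∈ R :=
      R.mul_mem (R.mul_mem (R.inv_mem hsq) hx) hsq
    have h2 := hconj _ h1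
    have e : g * ((g * g)⁻¹ * (g * x * g⁻¹) * (g * g)) * g⁻¹ = x := by group
    rwa [e] at h2

theorem conj_closure {G : Type*} [Group G] (S : Set G) (g : G)
    (h : ∀ s ∈ S, g * s * g⁻¹ ∈ Subgroup.closure S) :
    ∀ x ∈ Subgroup.closure S, g * x * g⁻¹ ∈ Subgroup.closure S := by
  intro x hx
  induction hx using Subgroup.closure_induction with
  | mem s hs => exact h s hs
  | one => simp
  | mul x y _ _ hx hy =>
    have e : g * (x * y) * g⁻¹ = (g * x * g⁻¹) * (g * y * g⁻¹) := by group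
    rw [e]
    exact Subgroup.mul_mem _ hx hy
  | inv x _ hx =>
    have e : g * x⁻¹ * g⁻¹ = (g * x * g⁻¹)⁻¹ := by group
    rw [e]
    exact Subgroup.inv_mem _ hx

/-! ### `2 × 2` identities -/

theorem hM_mul_dC : (hM : M2 F) * CONJT.dC = swapM * hM := by
  unfold hM CONJT.dC swapM
  ext i j
  fin_cases i <;> fin_cases j <;>
    simp [Matrix.mul_apply, Fin.sum_univ_two, Matrix.diagonal_apply]

theorem hM_mul_swapM : (hM : M2 F) * swapM = -(CONJT.dC * hM) := by
  unfold hM CONJT.dC swapM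
  ext i j
  fin_cases i <;> fin_cases j <;>
    simp [Matrix.mul_apply, Fin.sum_univ_two, Matrix.diagonal_apply]

theorem swapM_mul_dC : (swapM : M2 F) * CONJT.dC = qjM := by
  unfold CONJT.dC swapM qjM
  ext i j
  fin_cases i <;> fin_cases j <;>
    simp [Matrix.mul_apply, Matrix.diagonal_apply]

theorem qiM_mul_qjM (a b : F) : qiM a b * qjM = qkM a b := by
  unfold qiM qjM qkM
  ext i j
  fin_cases i <;> fin_cases j <;>
    simp [Matrix.mul_apply, Fin.sum_univ_two]

theorem qjM_mul_qiM (a b : F) : qjM * qiM a b = -qkM a b := by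
  unfold qiM qjM qkM
  ext i j
  fin_cases i <;> fin_cases j <;>
    simp [Matrix.mul_apply, Fin.sum_univ_two]

theorem qkM_mul_qjM (a b : F) : qkM a b * qjM = -qiM a b := by
  unfold qiM qjM qkM
  ext i j
  fin_cases i <;> fin_cases j <;>
    simp [Matrix.mul_apply, Fin.sum_univ_two]

theorem qkM_mul_qiM {a b : F} (hab : a ^ 2 + b ^ 2 = -1) : qkM a b * qiM a b = qjM := by
  unfold qiM qjM qkM
  ext i j
  fin_cases i <;> fin_cases j <;>
    simp [Matrix.mul_apply, Fin.sum_univ_two] <;>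
    first
      | linear_combination hab
      | linear_combination -hab
      | ring

/-! ### identities in `Sp₄` -/

theorem conj_emb {u : M2 F} (hu : K u (hM : M2 F) ∈ Matrix.symplecticGroup (Fin 2) F) (x y : L F)
    (hxy : u * (x : M2 F) = (y : M2 F) * u) :
    (⟨K u hM, hu⟩ : Gt F) * emb (x, x) = emb (y, y) * ⟨K u hM, hu⟩ := by
  apply Subtype.ext
  show K u (hM : M2 F) * embM (x : M2 F) (x : M2 F) = embM (y : M2 F) (y : M2 F) * K u hM
  rw [← K_one_right, ← K_one_right, K_mul, K_mul, hxy, mul_one, one_mul]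

theorem conj_t1 {u : M2 F} (hu : K u (hM : M2 F) ∈ Matrix.symplecticGroup (Fin 2) F) :
    (⟨K u hM, hu⟩ : Gt F) * t1 = sig * ⟨K u hM, hu⟩ := by
  apply Subtype.ext
  show K u (hM : M2 F) * ((t1 : Gt F) : M4 F) = ((sig : Gt F) : M4 F) * K u hM
  rw [CONJT.t1_val_eq, sig_val, K_mul, K_mul, hM_mul_dC, mul_one, one_mul]

theorem conj_sig {u : M2 F} (hu : K u (hM : M2 F) ∈ Matrix.symplecticGroup (Fin 2) F) :
    (⟨K u hM, hu⟩ : Gt F) * sig = zG * t1 * ⟨K u hM, hu⟩ := by
  apply Subtype.ext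
  show K u (hM : M2 F) * ((sig : Gt F) : M4 F) =
    ((zG : Gt F) : M4 F) * ((t1 : Gt F) : M4 F) * K u hM
  rw [CONJT.t1_val_eq, sig_val, zG_val, K_mul, neg_one_mul, neg_mul, K_mul, hM_mul_swapM, mul_one,
    one_mul]
  have e : (-(CONJT.dC * hM) : M2 F) = (-1 : F) • (CONJT.dC * hM) := by rw [neg_one_smul]
  rw [e, K_smul_right, neg_one_smul]

theorem sq_eq (h2 : (2 : F) ≠ 0) (x : L F) (hx : (x : M2 F) * (x : M2 F) = -1)
    (hu : K (1 + (x : M2 F)) (hM : M2 F) ∈ Matrix.symplecticGroup (Fin 2) F) :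
    (⟨K (1 + (x : M2 F)) hM, hu⟩ : Gt F) * ⟨K (1 + (x : M2 F)) hM, hu⟩ = emb (x, x) * (sig * t1) := by
  apply Subtype.ext
  show K (1 + (x : M2 F)) (hM : M2 F) * K (1 + (x : M2 F)) hM =
    embM (x : M2 F) (x : M2 F) * (((sig : Gt F) : M4 F) * ((t1 : Gt F) : M4 F))
  rw [CONJT.t1_val_eq, sig_val, ← K_one_right, K_mul, K_mul, K_mul, GELA.one_add_sq hx,
    GELA.hM_sq h2, K_smul_left, K_smul_right, smul_smul, mul_inv_cancel₀ h2, one_smul]
  simp only [mul_one, one_mul]
  rw [swapM_mul_dC]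

/-! ### elements of `Q₈` and `Rt` -/

theorem qi_mem {a b : F} (hab : a ^ 2 + b ^ 2 = -1) : qi a b hab ∈ Q8 a b hab :=
  Subgroup.subset_closure (Set.mem_insert _ _)

theorem qj_mem {a b : F} (hab : a ^ 2 + b ^ 2 = -1) : (qj : L F) ∈ Q8 a b hab :=
  Subgroup.subset_closure (Set.mem_insert_of_mem _ rfl)

theorem qk_eq {a b : F} (hab : a ^ 2 + b ^ 2 = -1) : qk a b hab = qi a b hab * qj := by
  apply Subtype.ext
  show qkM a b = qiM a b * qjM
  rw [qiM_mul_qjM]

theorem qk_mem {a b : F} (hab : a ^ 2 + b ^ 2 = -1) : qk a b hab ∈ Q8 a b hab := by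
  rw [qk_eq]
  exact Subgroup.mul_mem _ (qi_mem hab) (qj_mem hab)

theorem neg_one_eq {a b : F} (hab : a ^ 2 + b ^ 2 = -1) : (-1 : L F) = qi a b hab * qi a b hab := by
  apply Subtype.ext
  show ((-1 : L F) : M2 F) = qiM a b * qiM a b
  rw [GELA.qiM_sq hab]
  simp

theorem neg_one_mem {a b : F} (hab : a ^ 2 + b ^ 2 = -1) : (-1 : L F) ∈ Q8 a b hab := by
  rw [neg_one_eq hab]
  exact Subgroup.mul_mem _ (qi_mem hab) (qi_mem hab)

theorem neg_qk_mem {a b : F} (hab : a ^ 2 + b ^ 2 = -1) : -qk a b hab ∈ Q8 a b hab := by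
  have e : -qk a b hab = (-1 : L F) * qk a b hab := by
    apply Subtype.ext
    simp
  rw [e]
  exact Subgroup.mul_mem _ (neg_one_mem hab) (qk_mem hab)

theorem emb_mem_Rt {a b : F} (hab : a ^ 2 + b ^ 2 = -1) {c : L F} (hc : c ∈ Q8 a b hab) :
    emb (c, c) ∈ Rt a b hab :=
  Subgroup.subset_closure (Or.inl ⟨c, hc, rfl⟩)

theorem t1_mem_Rt {a b : F} (hab : a ^ 2 + b ^ 2 = -1) : (t1 : Gt F) ∈ Rt a b hab :=
  Subgroup.subset_closure (Or.inr (Set.mem_insert _ _))

theorem sig_mem_Rt {a b : F} (hab : a ^ 2 + b ^ 2 = -1) : (sig : Gt F) ∈ Rt a b hab :=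
  Subgroup.subset_closure (Or.inr (Set.mem_insert_of_mem _ rfl))

theorem zG_mem_Rt {a b : F} (hab : a ^ 2 + b ^ 2 = -1) : (zG : Gt F) ∈ Rt a b hab := by
  rw [← emb_neg_one]
  exact emb_mem_Rt hab (neg_one_mem hab)

/-- the criterion -/
theorem mem_normalizer_gen {a b : F} (hab : a ^ 2 + b ^ 2 = -1) (g : Gt F)
    (hi : ∃ y ∈ Q8 a b hab, g * emb (qi a b hab, qi a b hab) = emb (y, y) * g)
    (hj : ∃ y ∈ Q8 a b hab, g * emb ((qj : L F), (qj : L F)) = emb (y, y) * g)
    (ht : g * t1 = sig * g) (hs : g * sig = zG * t1 * g) (hsq : g * g ∈ Rt a b hab) :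
    g ∈ Subgroup.normalizer ((Rt a b hab : Subgroup (Gt F)) : Set (Gt F)) := by
  apply mem_normalizer_of_sq _ _ _ hsq
  have hQ : ∀ c ∈ Q8 a b hab, g * emb (c, c) * g⁻¹ ∈ Rt a b hab := by
    intro c hc
    unfold Q8 at hc
    induction hc using Subgroup.closure_induction with
    | mem s hs =>
      rcases hs with rfl | hs
      · obtain ⟨y, hy, e⟩ := hi
        rw [e, mul_inv_cancel_right]
        exact emb_mem_Rt hab hy
      · rw [Set.mem_singleton_iff] at hs
        subst hs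
        obtain ⟨y, hy, e⟩ := hj
        rw [e, mul_inv_cancel_right]
        exact emb_mem_Rt hab hy
    | one =>
      have : (emb ((1 : L F), (1 : L F)) : Gt F) = 1 := map_one emb
      rw [this, mul_one, mul_inv_cancel]
      exact Subgroup.one_mem _
    | mul x y _ _ hx hy =>
      have e1 : (emb (x * y, x * y) : Gt F) = emb (x, x) * emb (y, y) := by
        rw [← map_mul]
        rfl
      have e : g * emb (x * y, x * y) * g⁻¹ = (g * emb (x, x) * g⁻¹) * (g * emb (y, y) * g⁻¹) := by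
        rw [e1]
        group
      rw [e]
      exact Subgroup.mul_mem _ hx hy
    | inv x _ hx =>
      have e1 : (emb (x⁻¹, x⁻¹) : Gt F) = (emb (x, x))⁻¹ := by
        rw [← map_inv]
        rfl
      have e : g * emb (x⁻¹, x⁻¹) * g⁻¹ = (g * emb (x, x) * g⁻¹)⁻¹ := by
        rw [e1]
        group
      rw [e]
      exact Subgroup.inv_mem _ hx
  unfold Rt
  apply conj_closure
  intro s hs
  rcases hs with ⟨c, hc, rfl⟩ | hs
  · exact hQ c hc
  · rcases hs with rfl | hs
    · rw [ht, mul_inv_cancel_right]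
      exact sig_mem_Rt hab
    · rw [Set.mem_singleton_iff] at hs
      subst hs
      rw [hs, mul_inv_cancel_right]
      exact Subgroup.mul_mem _ (zG_mem_Rt hab) (t1_mem_Rt hab)

end GELB

theorem GELB.mem_normalizer (h2 : (2 : F) ≠ 0) {a b : F} (hab : a ^ 2 + b ^ 2 = -1) :
    gE a b hab h2 ∈ Subgroup.normalizer ((Rt a b hab : Subgroup (Gt F)) : Set (Gt F)) ∧
    (gE' h2 : Gt F) ∈ Subgroup.normalizer ((Rt a b hab : Subgroup (Gt F)) : Set (Gt F)) := by
  constructor
  · apply GELB.mem_normalizer_gen hab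
    · refine ⟨qi a b hab, GELB.qi_mem hab, ?_⟩
      apply GELB.conj_emb
      show (1 + qiM a b) * qiM a b = qiM a b * (1 + qiM a b)
      rw [add_mul, mul_add, one_mul, mul_one]
    · refine ⟨qk a b hab, GELB.qk_mem hab, ?_⟩
      apply GELB.conj_emb
      show (1 + qiM a b) * qjM = qkM a b * (1 + qiM a b)
      rw [add_mul, mul_add, one_mul, mul_one, GELB.qiM_mul_qjM, GELB.qkM_mul_qiM hab, add_comm]
    · exact GELB.conj_t1 _
    · exact GELB.conj_sig _
    · have this : gE a b hab h2 * gE a b hab h2 =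
          emb (qi a b hab, qi a b hab) * (sig * t1) :=
        GELB.sq_eq h2 (qi a b hab) (GELA.qiM_sq hab) (gEM_mem (one_add_qiM_det hab) h2)
      rw [this]
      exact Subgroup.mul_mem _ (GELB.emb_mem_Rt hab (GELB.qi_mem hab))
        (Subgroup.mul_mem _ (GELB.sig_mem_Rt hab) (GELB.t1_mem_Rt hab))
  · apply GELB.mem_normalizer_gen hab
    · refine ⟨-qk a b hab, GELB.neg_qk_mem hab, ?_⟩
      apply GELB.conj_emb
      show (1 + qjM) * qiM a b = ((-qk a b hab : L F) : M2 F) * (1 + qjM)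
      have e : ((-qk a b hab : L F) : M2 F) = -qkM a b := by
        rw [Matrix.SpecialLinearGroup.coe_neg]
        rfl
      rw [e, add_mul, mul_add, one_mul, mul_one, GELB.qjM_mul_qiM, neg_mul, GELB.qkM_mul_qjM, neg_neg,
        add_comm]
    · refine ⟨qj, GELB.qj_mem hab, ?_⟩
      apply GELB.conj_emb
      show (1 + qjM) * qjM = (qjM : M2 F) * (1 + qjM)
      rw [add_mul, mul_add, one_mul, mul_one]
    · exact GELB.conj_t1 _
    · exact GELB.conj_sig _
    · have this : (gE' h2 : Gt F) * gE' h2 = emb ((qj : L F), (qj : L F)) * (sig * t1) :=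
        GELB.sq_eq h2 (qj : L F) GELA.qjM_sq (gEM_mem one_add_qjM_det h2)
      rw [this]
      exact Subgroup.mul_mem _ (GELB.emb_mem_Rt hab (GELB.qj_mem hab))
        (Subgroup.mul_mem _ (GELB.sig_mem_Rt hab) (GELB.t1_mem_Rt hab))

end Cfsg.Agent.S5320P
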