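import Mathlib

/-! S5320 piece QUATB (driver helper26): an automorphism of odd order of the generalized quaternion group
`Q_{2^(k+2)}`, `k ≥ 2`, is trivial. -/

set_option autoImplicit false

namespace Cfsg.Agent.S5320P

open Matrix

variable {F : Type*} [Field F]

namespace QUATBH

open QuaternionGroup

theorem a_pow' {n : ℕ} (r : ZMod (2 * n)) (j : ℕ) :
    (a r : QuaternionGroup n) ^ j = a ((j : ZMod (2 * n)) * r) := by
  induction j with
  | zero => rw [pow_zero, Nat.cast_zero, zero_mul]; rfl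
  | succ j ih =>
    rw [pow_succ, ih, a_mul_a]
    congr 1
    push_cast
    ring

theorem a_eq_pow {n : ℕ} [NeZero n] (i : ZMod (2 * n)) :
    (a i : QuaternionGroup n) = (a 1) ^ i.val := by
  rw [a_one_pow, ZMod.natCast_zmod_val]

end QUATBH

open QuaternionGroup in
theorem QUATB.odd_aut {k : ℕ} (hk : 2 ≤ k) (α : MulAut (QuaternionGroup (2 ^ k))) (m : ℕ)
    (hm : Odd m) (hα : α ^ m = 1) : α = 1 := by
  have hN : (2 : ℕ) * 2 ^ k = 2 ^ (k + 1) := by ring
  have h8 : 8 ≤ 2 * 2 ^ k := by
    have : 2 ^ 2 ≤ 2 ^ k := Nat.pow_le_pow_right (by norm_num) hk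
    omega
  -- step 1: α (a 1) = a r
  obtain ⟨r, hr⟩ : ∃ r, α (a 1) = a r := by
    rcases hx : α (a 1) with r | j
    · exact ⟨r, rfl⟩
    · exfalso
      have h1 : orderOf (α (a 1)) = orderOf (a 1 : QuaternionGroup (2 ^ k)) :=
        MulEquiv.orderOf_eq α _
      rw [hx, orderOf_xa, orderOf_a_one] at h1
      omega
  have hai : ∀ i : ZMod (2 * 2 ^ k), α (a i) = a (i * r) := by
    intro i
    rw [QUATBH.a_eq_pow i, map_pow, hr, QUATBH.a_pow', ZMod.natCast_zmod_val]
  -- iterate
  have hiter : ∀ j : ℕ, ∀ i : ZMod (2 * 2 ^ k), (α ^ j) (a i) = a (i * r ^ j) := by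
    intro j
    induction j with
    | zero => intro i; simp
    | succ j ih =>
      intro i
      rw [pow_succ, MulAut.mul_apply, hai, ih]
      congr 1
      ring
  have hrm : r ^ m = 1 := by
    have := hiter m 1
    rw [hα, MulAut.one_apply, one_mul] at this
    exact (a.inj this).symm
  have hr1 : r = 1 := by
    have hm0 : m ≠ 0 := by
      rintro rfl
      exact absurd hm (by decide)
    set u : (ZMod (2 * 2 ^ k))ˣ := Units.ofPowEqOne r m hrm hm0 with hu
    have hum : u ^ m = 1 := Units.pow_ofPowEqOne hrm hm0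
    have h1 : orderOf u ∣ m := orderOf_dvd_of_pow_eq_one hum
    have h2 : orderOf u ∣ Fintype.card (ZMod (2 * 2 ^ k))ˣ := orderOf_dvd_card
    have hcard : Fintype.card (ZMod (2 * 2 ^ k))ˣ = 2 ^ (k + 1 - 1) * (2 - 1) := by
      rw [ZMod.card_units_eq_totient]
      have : (2 * 2 ^ k).totient = (2 ^ (k + 1)).totient := by rw [hN]
      rw [this, Nat.totient_prime_pow Nat.prime_two (by omega)]
    rw [hcard] at h2
    have h3 : orderOf u ∣ Nat.gcd m (2 ^ (k + 1 - 1) * (2 - 1)) := Nat.dvd_gcd h1 h2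
    have hcop : Nat.gcd m (2 ^ (k + 1 - 1) * (2 - 1)) = 1 := by
      have : Nat.Coprime m 2 := Nat.coprime_two_right.2 hm
      simpa using Nat.Coprime.pow_right (k + 1 - 1) this
    rw [hcop, Nat.dvd_one, orderOf_eq_one_iff] at h3
    have := congrArg Units.val h3
    simpa [hu] using this
  subst hr1
  -- step 2: α (xa 0) = xa s
  obtain ⟨s, hs⟩ : ∃ s, α (xa 0) = xa s := by
    rcases hx : α (xa 0) with t | s
    · exfalso
      have hc : α (xa 0) * α (a 1) = α (a 1) * α (xa 0) := by
        rw [hx, hr, a_mul_a, a_mul_a, add_comm]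
      rw [← map_mul, ← map_mul] at hc
      have hc' := α.injective hc
      rw [xa_mul_a, a_mul_xa] at hc'
      have h01 := xa.inj hc'
      have h2 : (2 : ZMod (2 * 2 ^ k)) = 0 := by linear_combination h01
      have : ((2 : ℕ) : ZMod (2 * 2 ^ k)) = 0 := by exact_mod_cast h2
      rw [ZMod.natCast_eq_zero_iff] at this
      have := Nat.le_of_dvd (by norm_num) this
      omega
    · exact ⟨s, rfl⟩
  have hxi : ∀ i : ZMod (2 * 2 ^ k), α (xa i) = xa (s + i) := by
    intro i
    have : (xa i : QuaternionGroup (2 ^ k)) = xa 0 * a i := by rw [xa_mul_a, zero_add]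
    rw [this, map_mul, hs, hai, mul_one, xa_mul_a]
  have hiterx : ∀ j : ℕ, ∀ i : ZMod (2 * 2 ^ k), (α ^ j) (xa i) = xa ((j : ZMod (2 * 2 ^ k)) * s + i) := by
    intro j
    induction j with
    | zero => intro i; simp
    | succ j ih =>
      intro i
      rw [pow_succ, MulAut.mul_apply, hxi, ih]
      congr 1
      push_cast
      ring
  have hms : (m : ZMod (2 * 2 ^ k)) * s = 0 := by
    have := hiterx m 0
    rw [hα, MulAut.one_apply, add_zero] at this
    exact (xa.inj this).symm
  have hs0 : s = 0 := by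
    have hunit : IsUnit (m : ZMod (2 * 2 ^ k)) := by
      rw [ZMod.isUnit_iff_coprime, hN]
      exact Nat.Coprime.pow_right _ (Nat.coprime_two_right.2 hm)
    exact (hunit.mul_right_eq_zero).1 hms
  subst hs0
  ext x
  rcases x with i | i
  · rw [hai, mul_one, MulAut.one_apply]
  · rw [hxi, zero_add, MulAut.one_apply]

end Cfsg.Agent.S5320P
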