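import Mathlib
import Cfsg.Prelude.Def_Classical
import Cfsg.Prelude.Def_FusionComponents
import Cfsg.Agent.Helper26.S5320.Defs
import Cfsg.Agent.Helper23.S5320EMB
import Cfsg.Agent.Helper23.S5320SWMEM
import Cfsg.Agent.Helper23.S5320STAB
import Cfsg.Agent.Helper24.S5320CENTER
import Cfsg.Agent.Helper6.S5320Q8SGN
import Cfsg.Agent.Helper20.S5320GELB

/-! # S5320 piece RCENT (driver helper26): `Rt = 2^{1+4}_-` is self-centralizing modulo `Z`. -/

set_option autoImplicit false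
set_option linter.unusedSectionVars false
set_option linter.unusedVariables false

namespace Cfsg.Agent.S5320P

open Matrix

variable {F : Type*} [Field F]

namespace RCENT

/-- `emb (x, y)` central ⇒ `x = y = 1` or `x = y = -1` -/
theorem emb_mem_center {x y : L F} (h : (emb (x, y) : Gt F) ∈ Subgroup.center (Gt F)) :
    (x = 1 ∧ y = 1) ∨ (x = -1 ∧ y = -1) := by
  rw [mem_center_iff] at h
  rcases h with h | h
  · left
    have h1 : (emb (x, y) : Gt F) = emb ((1 : L F), (1 : L F)) := by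
      rw [h]
      exact (map_one emb).symm
    have := emb_injective h1
    exact ⟨(Prod.ext_iff.1 this).1, (Prod.ext_iff.1 this).2⟩
  · right
    have h1 : (emb (x, y) : Gt F) = emb ((-1 : L F), (-1 : L F)) := by
      rw [h, emb_neg_one]
    have := emb_injective h1
    exact ⟨(Prod.ext_iff.1 this).1, (Prod.ext_iff.1 this).2⟩

theorem comm_sig (u v : L F) :
    (emb (u, v) : Gt F) * sig * (emb (u, v))⁻¹ * sig⁻¹ = emb (u * v⁻¹, v * u⁻¹) := by
  have e : (emb (u, v) : Gt F) * sig * (emb (u, v))⁻¹ * sig⁻¹ =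
      emb (u, v) * (sig * (emb (u, v))⁻¹ * sig⁻¹) := by group
  rw [e, SWMEM.emb_inv, sig_conj, SWMEM.emb_mul]

theorem comm_emb (u v x : L F) :
    (emb (u, v) : Gt F) * emb (x, x) * (emb (u, v))⁻¹ * (emb (x, x))⁻¹ =
      emb (u * x * u⁻¹ * x⁻¹, v * x * v⁻¹ * x⁻¹) := by
  rw [SWMEM.emb_inv, SWMEM.emb_inv, SWMEM.emb_mul, SWMEM.emb_mul, SWMEM.emb_mul]

theorem sgn_of_comm {u x : L F} (h : u * x * u⁻¹ * x⁻¹ = 1 ∨ u * x * u⁻¹ * x⁻¹ = -1) :
    u * x * u⁻¹ = x ∨ u * x * u⁻¹ = -x := by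
  rcases h with h | h
  · left
    exact mul_inv_eq_one.1 h
  · right
    rw [mul_inv_eq_iff_eq_mul] at h
    rw [h, neg_one_mul]

/-- `emb (1, -1) = zG * t1` -/
theorem emb_one_neg : (emb ((1 : L F), (-1 : L F)) : Gt F) = zG * t1 := by
  rw [← emb_neg_one]
  unfold t1
  rw [SWMEM.emb_mul]
  congr 1
  simp

/-- the key case -/
theorem emb_mem (h2 : (2 : F) ≠ 0) {a b : F} (hab : a ^ 2 + b ^ 2 = -1) (u v : L F)
    (hs : (emb (u, v) : Gt F) * sig * (emb (u, v))⁻¹ * sig⁻¹ ∈ Subgroup.center (Gt F))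
    (hi : (emb (u, v) : Gt F) * emb (qi a b hab, qi a b hab) * (emb (u, v))⁻¹ *
      (emb (qi a b hab, qi a b hab))⁻¹ ∈ Subgroup.center (Gt F))
    (hj : (emb (u, v) : Gt F) * emb ((qj : L F), (qj : L F)) * (emb (u, v))⁻¹ *
      (emb ((qj : L F), (qj : L F)))⁻¹ ∈ Subgroup.center (Gt F)) :
    (emb (u, v) : Gt F) ∈ Rt a b hab := by
  rw [comm_sig] at hs
  rw [comm_emb] at hi hj
  have hu : u ∈ Q8 a b hab := by
    apply Q8SGN.mem h2 hab
    · apply sgn_of_comm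
      rcases emb_mem_center hi with ⟨h1, -⟩ | ⟨h1, -⟩
      · exact Or.inl h1
      · exact Or.inr h1
    · apply sgn_of_comm
      rcases emb_mem_center hj with ⟨h1, -⟩ | ⟨h1, -⟩
      · exact Or.inl h1
      · exact Or.inr h1
  rcases emb_mem_center hs with ⟨h1, -⟩ | ⟨h1, -⟩
  · have huv : v = u := by
      have := mul_inv_eq_one.1 h1
      exact this.symm
    rw [huv]
    exact GELB.emb_mem_Rt hab hu
  · have huv : v = -u := by
      rw [mul_inv_eq_iff_eq_mul, neg_one_mul] at h1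
      rw [h1, neg_neg]
    have e : (emb (u, v) : Gt F) = emb (u, u) * (zG * t1) := by
      rw [← emb_one_neg, SWMEM.emb_mul, huv]
      congr 1
      simp
    rw [e]
    exact Subgroup.mul_mem _ (GELB.emb_mem_Rt hab hu)
      (Subgroup.mul_mem _ (GELB.zG_mem_Rt hab) (GELB.t1_mem_Rt hab))

/-- `sig` commutes with the diagonal elements -/
theorem sig_comm_diag (x : L F) : (sig : Gt F) * emb (x, x) = emb (x, x) * sig :=
  SWMEM.sig_mul_emb x x

theorem comm_mul_sig (e r : Gt F) (hr : (sig : Gt F) * r = r * sig) :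
    (e * sig) * r * (e * sig)⁻¹ * r⁻¹ = e * r * e⁻¹ * r⁻¹ := by
  have : (e * sig) * r * (e * sig)⁻¹ * r⁻¹ = e * (sig * r) * sig⁻¹ * e⁻¹ * r⁻¹ := by group
  rw [this, hr]
  group

end RCENT

theorem RCENT.mem (h2 : (2 : F) ≠ 0) {a b : F} (hab : a ^ 2 + b ^ 2 = -1) (c : Gt F)
    (h : ∀ r ∈ Rt a b hab, c * r * c⁻¹ * r⁻¹ ∈ Subgroup.center (Gt F)) : c ∈ Rt a b hab := by
  have hW : c ∈ SW (⊤ : Subgroup (L F)) := by
    apply STAB.mem_W h2
    have := h t1 (GELB.t1_mem_Rt hab)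
    rw [mem_center_iff] at this
    rcases this with e | e
    · left
      exact mul_inv_eq_one.1 e
    · right
      exact mul_inv_eq_iff_eq_mul.1 e
  rw [mem_SW_iff] at hW
  obtain ⟨u, -, v, -, hc | hc⟩ := hW
  · subst hc
    exact RCENT.emb_mem h2 hab u v (h _ (GELB.sig_mem_Rt hab))
      (h _ (GELB.emb_mem_Rt hab (GELB.qi_mem hab))) (h _ (GELB.emb_mem_Rt hab (GELB.qj_mem hab)))
  · subst hc
    apply Subgroup.mul_mem _ _ (GELB.sig_mem_Rt hab)
    apply RCENT.emb_mem h2 hab u v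
    · rw [← RCENT.comm_mul_sig _ _ rfl]
      exact h _ (GELB.sig_mem_Rt hab)
    · rw [← RCENT.comm_mul_sig _ _ (RCENT.sig_comm_diag _)]
      exact h _ (GELB.emb_mem_Rt hab (GELB.qi_mem hab))
    · rw [← RCENT.comm_mul_sig _ _ (RCENT.sig_comm_diag _)]
      exact h _ (GELB.emb_mem_Rt hab (GELB.qj_mem hab))

end Cfsg.Agent.S5320P
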