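import Cfsg.Agent.Helper24.S5637.Defs

set_option autoImplicit false
set_option linter.unusedSectionVars false
set_option linter.unusedVariables false

/-! S5637 piece PASS1 (driver helper24; helper20). -/

namespace Cfsg.Agent.S5637P

open Matrix Kronecker Cfsg.Agent.Helper28.SLMax Cfsg.Agent.S5634P
open scoped MatrixGroups

variable {F : Type*} [Field F] {n a b : ℕ} (e : Fin n ≃ Fin a × Fin b)

/-- the functional `x ↦ φ ⬝ᵥ x` as a linear map -/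
def PASS1.dotL {m : ℕ} (φ : Fin m → F) : (Fin m → F) →ₗ[F] F where
  toFun := fun x => φ ⬝ᵥ x
  map_add' := fun x y => dotProduct_add φ x y
  map_smul' := fun c x => by simp [dotProduct_smul]

/-- a functional on `F^m`, `m ≥ 2`, kills a non-zero vector -/
theorem PASS1.exists_ker {m : ℕ} (hm : 2 ≤ m) (φ : Fin m → F) :
    ∃ x : Fin m → F, x ≠ 0 ∧ φ ⬝ᵥ x = 0 := by
  have hker : LinearMap.ker (PASS1.dotL φ) ≠ ⊥ := by
    apply LinearMap.ker_ne_bot_of_finrank_lt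
    simp only [Module.finrank_self, Module.finrank_fin_fun]
    omega
  obtain ⟨x, hx, hx0⟩ := (Submodule.ne_bot_iff _).1 hker
  exact ⟨x, hx0, LinearMap.mem_ker.1 hx⟩

/-- a functional on `F^m`, `m ≥ 3`, kills a vector outside a given line -/
theorem PASS1.exists_ker_notMem {m : ℕ} (hm : 3 ≤ m) (φ w : Fin m → F) :
    ∃ x : Fin m → F, φ ⬝ᵥ x = 0 ∧ x ∉ Submodule.span F {w} := by
  by_contra hcon
  push Not at hcon
  have hle : LinearMap.ker (PASS1.dotL φ) ≤ Submodule.span F {w} := by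
    intro x hx
    exact hcon x (LinearMap.mem_ker.1 hx)
  have h1 := Submodule.finrank_mono hle
  have h2 : Module.finrank F (Submodule.span F {w}) ≤ 1 := by
    have := finrank_span_le_card (R := F) ({w} : Set (Fin m → F))
    simpa using this
  have h3 := (PASS1.dotL φ).finrank_range_add_finrank_ker
  have h4 : Module.finrank F (LinearMap.range (PASS1.dotL φ)) ≤ 1 := by
    have := (LinearMap.range (PASS1.dotL φ)).finrank_le
    simpa using this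
  rw [Module.finrank_fin_fun] at h3
  omega

/-- the commutator step -/
theorem PASS1.comm_step (M : Subgroup (GL (Fin n) F))
    (u μ uY μ'' : Fin a → F) (w ψ wY ψ'' : Fin b → F)
    (hψw : ψ ⬝ᵥ w = 0) (hμuY : μ ⬝ᵥ uY = 0) (hμ''u : μ'' ⬝ᵥ u = 0) (hμ''uY : μ'' ⬝ᵥ uY = 1)
    (hψ''wY : ψ'' ⬝ᵥ wY = 1)
    (hA : EE (tn e u w) (tn e μ'' ψ'') ∈ M) (hB : EE (tn e uY wY) (tn e μ ψ) ∈ M) :
    EE (tn e u w) (tn e μ ψ) ∈ M := by
  have h1 : tn e μ'' ψ'' ⬝ᵥ tn e u w = 0 := by rw [tn_dot, hμ''u, zero_mul]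
  have h2 : tn e μ ψ ⬝ᵥ tn e uY wY = 0 := by rw [tn_dot, hμuY, zero_mul]
  have h3 : tn e μ ψ ⬝ᵥ tn e u w = 0 := by rw [tn_dot, hψw, mul_zero]
  have hc := EE.comm_axis h1 h2 h3
  have h4 : tn e μ'' ψ'' ⬝ᵥ tn e uY wY = 1 := by rw [tn_dot, hμ''uY, hψ''wY, mul_one]
  rw [h4, one_smul] at hc
  rw [← hc]
  exact M.mul_mem (M.mul_mem (M.mul_mem hA hB) (M.inv_mem hA)) (M.inv_mem hB)

theorem PASS1 (ha : 2 ≤ a) (hb : 3 ≤ b) (M : Subgroup (GL (Fin n) F))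
    (hD : ∀ (u μ : Fin a → F) (w ψ : Fin b → F), μ ⬝ᵥ u = 0 → ψ ⬝ᵥ w = 0 →
      EE (tn e u w) (tn e μ ψ) ∈ M) :
    ∀ (u μ : Fin a → F) (w ψ : Fin b → F), ψ ⬝ᵥ w = 0 → EE (tn e u w) (tn e μ ψ) ∈ M := by
  intro u μ w ψ hψw
  by_cases hμu : μ ⬝ᵥ u = 0
  · exact hD u μ w ψ hμu hψw
  obtain ⟨uY, huY0, hμuY⟩ := PASS1.exists_ker ha μ
  have huY : uY ∉ Submodule.span F {u} := by
    intro h
    rw [Submodule.mem_span_singleton] at h
    obtain ⟨c, hc⟩ := h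
    have h2 : μ ⬝ᵥ uY = c * (μ ⬝ᵥ u) := by rw [← hc, dotProduct_smul, smul_eq_mul]
    rw [hμuY] at h2
    have hc0 : c = 0 := by
      rcases mul_eq_zero.1 h2.symm with h | h
      · exact h
      · exact absurd h hμu
    rw [hc0, zero_smul] at hc
    exact huY0 hc.symm
  obtain ⟨μ'', hμ''uY, hμ''u⟩ := exists_dual_pair uY u huY
  obtain ⟨wY, hψwY, hwY⟩ := PASS1.exists_ker_notMem hb ψ w
  obtain ⟨ψ'', hψ''wY, hψ''w⟩ := exists_dual_pair wY w hwY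
  exact PASS1.comm_step e M u μ uY μ'' w ψ wY ψ'' hψw hμuY hμ''u hμ''uY hψ''wY
    (hD u μ'' w ψ'' hμ''u hψ''w) (hD uY μ wY ψ hμuY hψwY)

end Cfsg.Agent.S5637P
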