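import Cfsg.Agent.Helper24.S5637.Defs

set_option autoImplicit false
set_option linter.unusedSectionVars false
set_option linter.unusedVariables false

/-! S5637 piece PASS2 (driver helper24; helper20). -/

namespace Cfsg.Agent.S5637P

open Matrix Kronecker Cfsg.Agent.Helper28.SLMax Cfsg.Agent.S5634P
open scoped MatrixGroups

variable {F : Type*} [Field F] {n a b : ℕ} (e : Fin n ≃ Fin a × Fin b)

/-- a functional on `F^m`, `m ≥ 2`, kills a non-zero vector -/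
theorem PASS2.exists_ker {m : ℕ} (hm : 2 ≤ m) (φ : Fin m → F) :
    ∃ x : Fin m → F, x ≠ 0 ∧ φ ⬝ᵥ x = 0 := by
  let f : (Fin m → F) →ₗ[F] F :=
    { toFun := fun x => φ ⬝ᵥ x
      map_add' := fun x y => dotProduct_add φ x y
      map_smul' := fun c x => by simp [dotProduct_smul] }
  have hker : LinearMap.ker f ≠ ⊥ := by
    apply LinearMap.ker_ne_bot_of_finrank_lt
    simp only [Module.finrank_self, Module.finrank_fin_fun]
    omega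
  obtain ⟨x, hx, hx0⟩ := (Submodule.ne_bot_iff _).1 hker
  exact ⟨x, hx0, LinearMap.mem_ker.1 hx⟩

/-- the commutator step -/
theorem PASS2.comm_step (M : Subgroup (GL (Fin n) F))
    (u μ μ₁ : Fin a → F) (w ψ wY ψ' : Fin b → F)
    (hμu : μ ⬝ᵥ u = 0) (hμ₁ : μ₁ ⬝ᵥ u = 1) (hψwY : ψ ⬝ᵥ wY = 0) (hψ'w : ψ' ⬝ᵥ w = 0)
    (hψ'wY : ψ' ⬝ᵥ wY = 1)
    (hA : EE (tn e u w) (tn e μ₁ ψ') ∈ M) (hB : EE (tn e u wY) (tn e μ ψ) ∈ M) :
    EE (tn e u w) (tn e μ ψ) ∈ M := by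
  have h1 : tn e μ₁ ψ' ⬝ᵥ tn e u w = 0 := by rw [tn_dot, hψ'w, mul_zero]
  have h2 : tn e μ ψ ⬝ᵥ tn e u wY = 0 := by rw [tn_dot, hμu, zero_mul]
  have h3 : tn e μ ψ ⬝ᵥ tn e u w = 0 := by rw [tn_dot, hμu, zero_mul]
  have hc := EE.comm_axis h1 h2 h3
  have h4 : tn e μ₁ ψ' ⬝ᵥ tn e u wY = 1 := by rw [tn_dot, hμ₁, hψ'wY, mul_one]
  rw [h4, one_smul] at hc
  rw [← hc]
  exact M.mul_mem (M.mul_mem (M.mul_mem hA hB) (M.inv_mem hA)) (M.inv_mem hB)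

theorem PASS2 (ha : 1 ≤ a) (hb : 2 ≤ b) (M : Subgroup (GL (Fin n) F))
    (h1 : ∀ (u μ : Fin a → F) (w ψ : Fin b → F), ψ ⬝ᵥ w = 0 → EE (tn e u w) (tn e μ ψ) ∈ M) :
    ∀ (u μ : Fin a → F) (w ψ : Fin b → F), μ ⬝ᵥ u = 0 → EE (tn e u w) (tn e μ ψ) ∈ M := by
  intro u μ w ψ hμu
  by_cases hψw : ψ ⬝ᵥ w = 0
  · exact h1 u μ w ψ hψw
  by_cases hu : u = 0
  · rw [hu, tn_zero_left, EE.zero_left]
    exact M.one_mem
  -- `μ₁ u = 1`
  have hu' : u ∉ Submodule.span F {(0 : Fin a → F)} := by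
    intro h
    rw [Submodule.mem_span_singleton] at h
    obtain ⟨c, hc⟩ := h
    rw [smul_zero] at hc
    exact hu hc.symm
  obtain ⟨μ₁, hμ₁, _⟩ := exists_dual_pair u 0 hu'
  obtain ⟨wY, hwY0, hψwY⟩ := PASS2.exists_ker hb ψ
  have hwY : wY ∉ Submodule.span F {w} := by
    intro h
    rw [Submodule.mem_span_singleton] at h
    obtain ⟨c, hc⟩ := h
    have h2 : ψ ⬝ᵥ wY = c * (ψ ⬝ᵥ w) := by rw [← hc, dotProduct_smul, smul_eq_mul]
    rw [hψwY] at h2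
    have hc0 : c = 0 := by
      rcases mul_eq_zero.1 h2.symm with h | h
      · exact h
      · exact absurd h hψw
    rw [hc0, zero_smul] at hc
    exact hwY0 hc.symm
  obtain ⟨ψ', hψ'wY, hψ'w⟩ := exists_dual_pair wY w hwY
  exact PASS2.comm_step e M u μ μ₁ w ψ wY ψ' hμu hμ₁ hψwY hψ'w hψ'wY
    (h1 u μ₁ w ψ' hψ'w) (h1 u μ wY ψ hψwY)

end Cfsg.Agent.S5637P
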