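import Mathlib
import Cfsg.Agent.Helper9.S5650.Defs
import Cfsg.Agent.Helper9.S5650.Lib
import Cfsg.Agent.Helper1.S5650QRAT

/-! S5650 piece FULL2 (helper20): in characteristic `2` every root point of `M` is orthogonal to a
rational point. -/

set_option autoImplicit false

namespace Cfsg.Agent.S5650P

open Matrix Cfsg.Agent.Helper28

variable {F : Type*} [Field F] {m : ℕ}

namespace FULL2

theorem e_ne_zero (i : Fin m) : (e i : Vec m F) ≠ 0 := by
  intro h
  have := congrFun h (Sum.inl i)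
  simp [e] at this

/-- conjugation distributes over products -/
theorem conj_mul {g g' A B : Mat m F} (h : g' * g = 1) :
    g * (A * B) * g' = (g * A * g') * (g * B * g') := by
  have : g * A * g' * (g * B * g') = g * A * (g' * g) * B * g' := by simp only [mul_assoc]
  rw [this, h, mul_one]
  simp only [mul_assoc]

/-- the commutator of `S v w c * T w d` with an isometry `X` fixing `w` and moving `v` to `v + z` -/
theorem comm_step {v w z : Vec m F} (hvw : om v w = 0) (hzw : om z w = 0) {X X' : Mat m F}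
    (hX : Pres X) (hXX : X' * X = 1) (hXw : X *ᵥ w = w) (hXv : X *ᵥ v = v + z) (c d : F) :
    X * (S v w c * T w d) * X' * (T w (-d) * S v w (-c)) = S z w c * T w (-(c * c * om v z)) := by
  have e1 : Cfsg.sympForm m F v w = 0 := hvw
  have e2 : Cfsg.sympForm m F z w = 0 := hzw
  rw [conj_mul hXX, conj_S hX hXX, conj_T hX hXX, hXw, hXv]
  have h1 : S (v + z) w c * T w d * (T w (-d) * S v w (-c)) = S (v + z) w c * S v w (-c) := by
    rw [mul_assoc, ← mul_assoc (T w d), T_mul_neg, one_mul]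
  rw [h1]
  have h2 : S v w (-c) = S ((-1 : F) • v) w c := by
    rw [S_smul_left]; congr 1; ring
  have h3 : om (v + z) w = 0 := by
    show Cfsg.sympForm m F (v + z) w = 0
    rw [sympForm_add_left, e1, e2, add_zero]
  have h4 : om ((-1 : F) • v) w = 0 := by
    show Cfsg.sympForm m F ((-1 : F) • v) w = 0
    rw [sympForm_smul_left, e1, mul_zero]
  rw [h2, S_mul_S_right h3 h4]
  have h5 : v + z + (-1 : F) • v = z := by module
  have h6 : c * c * om ((-1 : F) • v) (v + z) = -(c * c * om v z) := by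
    show c * c * Cfsg.sympForm m F ((-1 : F) • v) (v + z) = -(c * c * Cfsg.sympForm m F v z)
    rw [sympForm_smul_left, sympForm_add_right, sympForm_self]
    ring
  rw [h5, h6]

/-- `S v w c * T w d` has the inverse `T w (-d) * S v w (-c)` -/
theorem mul_inv_eq_one {v w : Vec m F} (hvw : om v w = 0) (c d : F) :
    (S v w c * T w d) * (T w (-d) * S v w (-c)) = 1 := by
  rw [mul_assoc, ← mul_assoc (T w d), T_mul_neg, one_mul, S_mul_neg hvw]

theorem T_comm {u w : Vec m F} (h : om u w = 0) (c d : F) : T u c * T w d = T w d * T u c := by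
  have h' : om w u = 0 := by rw [om_swap, h, neg_zero]
  have e1 : Cfsg.sympForm m F u w = 0 := h
  have e2 : Cfsg.sympForm m F w u = 0 := h'
  apply mat_ext
  intro x
  rw [← Matrix.mulVec_mulVec, ← Matrix.mulVec_mulVec]
  simp only [T_mulVec, om, sympForm_add_left, sympForm_smul_left, e1, e2, mul_zero, add_zero]
  module

/-- membership of the commutator -/
theorem comm_mem {M : Subgroup (GLm m F)} {A A' : Mat m F} (hA : A ∈ MS M) (hAA : A * A' = 1)
    {g : GLm m F} (hg : g ∈ M) : (g : Mat m F) * A * ((g⁻¹ : GLm m F) : Mat m F) * A' ∈ MS M :=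
  MS_mul (MS_conj hA hg) (MS_inv_of_mul_eq_one hA hAA)

/-- the main computation, with the four indices abstract -/
theorem aux (h2 : (2 : F) = 0) (hm : 3 ≤ m) (F₀ : Subfield F)
    (M : Subgroup (GLm m F)) (hMsp : M ≤ Cfsg.spGL m F) (hM : HasRatSp F₀ M) (hS : RootRatS F₀ M)
    {v : Vec m F} {c : F} (hc : c ≠ 0) (hT : T v c ∈ MS M) (i0 i1 i2 i3 : Fin m)
    (n01 : i0 ≠ i1) (n02 : i0 ≠ i2) (n03 : i0 ≠ i3) (n12 : i1 ≠ i2) (n13 : i1 ≠ i3) (n23 : i2 ≠ i3)
    (hα : om v (e i0) ≠ 0) (hβ : om v (e i1) ≠ 0) (hδ : om v (e i2) ≠ 0) :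
    ∃ b : Vec m F, Rat F₀ b ∧ b ≠ 0 ∧ om v b = 0 := by
  obtain ⟨α, hαd⟩ : ∃ α, α = om v (e i0) := ⟨_, rfl⟩
  obtain ⟨β, hβd⟩ : ∃ β, β = om v (e i1) := ⟨_, rfl⟩
  obtain ⟨δ, hδd⟩ : ∃ δ, δ = om v (e i2) := ⟨_, rfl⟩
  rw [← hαd] at hα
  rw [← hβd] at hβ
  rw [← hδd] at hδ
  have eα : Cfsg.sympForm m F v (e i0) = α := hαd.symm
  have eβ : Cfsg.sympForm m F v (e i1) = β := hβd.symm
  have eδ : Cfsg.sympForm m F v (e i2) = δ := hδd.symm
  have ee : ∀ i j : Fin m, Cfsg.sympForm m F (e i : Vec m F) (e j) = 0 := om_e_e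
  have ef : ∀ i j : Fin m, i ≠ j → Cfsg.sympForm m F (e i : Vec m F) (f j) = 0 := by
    intro i j hij
    have := om_e_f (F := F) i j
    rw [if_neg hij] at this
    exact this
  have eff : ∀ i : Fin m, Cfsg.sympForm m F (e i : Vec m F) (f i) = -1 := by
    intro i
    have := om_e_f (F := F) i i
    rw [if_pos rfl] at this
    exact this
  -- the vector `w`
  obtain ⟨w, hw⟩ : ∃ w : Vec m F, w = α • e i1 + β • e i0 := ⟨_, rfl⟩
  have hvw : om v w = 0 := by
    show Cfsg.sympForm m F v w = 0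
    rw [hw, sympForm_add_right, sympForm_smul_right, sympForm_smul_right, eα, eβ]
    linear_combination (α * β) * h2
  have hwe : ∀ i : Fin m, Cfsg.sympForm m F w (e i) = 0 := by
    intro i
    rw [hw, sympForm_add_left, sympForm_smul_left, sympForm_smul_left, ee, ee, mul_zero, mul_zero,
      add_zero]
  -- step 1
  have h01 : om (e i0 : Vec m F) (e i1) = 0 := om_e_e _ _
  have hA1 : Sg h01 (1 : F) ∈ M :=
    hM _ (RatM.ofS (Rat.basis_e F₀ i0) (Rat.basis_e F₀ i1) F₀.one_mem) (Sg_mem_spGL h01 1)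
  have hs1 := MS_conj_T hMsp hA1 hT
  have hv1 : ((Sg h01 (1 : F) : GLm m F) : Mat m F) *ᵥ v = v + w := by
    rw [Sg_val, S_mulVec, hw]
    show v + ((1 : F) * Cfsg.sympForm m F v (e i0)) • e i1 +
      ((1 : F) * Cfsg.sympForm m F v (e i1)) • e i0 = _
    rw [eα, eβ]
    module
  rw [hv1, T_add_vec hvw] at hs1
  have hTn : T v (-c) ∈ MS M := MS_inv_of_mul_eq_one hT (T_mul_neg v c)
  have hg1 : S v w c * T w c ∈ MS M := by
    have := MS_mul hs1 hTn
    have e : S v w c * T v c * T w c * T v (-c) = S v w c * T w c := by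
      calc S v w c * T v c * T w c * T v (-c)
          = S v w c * (T v c * (T w c * T v (-c))) := by simp only [mul_assoc]
        _ = S v w c * (T v c * (T v (-c) * T w c)) := by rw [T_comm hvw (-c) c]
        _ = S v w c * T w c := by rw [← mul_assoc (T v c), T_mul_neg, one_mul]
    rw [e] at this
    exact this
  -- step 2
  have hX : Tg (e i2 : Vec m F) (1 : F) ∈ M :=
    hM _ (RatM.ofT (Rat.basis_e F₀ i2) F₀.one_mem) (Tg_mem_spGL _ _)
  have hXw : ((Tg (e i2 : Vec m F) (1 : F) : GLm m F) : Mat m F) *ᵥ w = w := by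
    rw [Tg_val, T_mulVec]
    show w + ((1 : F) * Cfsg.sympForm m F w (e i2)) • e i2 = w
    rw [hwe, mul_zero, zero_smul, add_zero]
  have hXv : ((Tg (e i2 : Vec m F) (1 : F) : GLm m F) : Mat m F) *ᵥ v = v + δ • e i2 := by
    rw [Tg_val, T_mulVec]
    show v + ((1 : F) * Cfsg.sympForm m F v (e i2)) • e i2 = _
    rw [eδ, one_mul]
  have hzw : om (δ • (e i2 : Vec m F)) w = 0 := by
    show Cfsg.sympForm m F (δ • (e i2 : Vec m F)) w = 0
    rw [sympForm_smul_left, sympForm_swap, hwe, neg_zero, mul_zero]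
  have hg2 := comm_mem hg1 (mul_inv_eq_one hvw c c) hX
  rw [comm_step hvw hzw (pres_of_mem_spGL (hMsp hX)) (inv_mul_coe _) hXw hXv] at hg2
  -- step 3
  have h32 : om (e i3 : Vec m F) (f i2) = 0 := ef i3 i2 n23.symm
  have hY : Sg h32 (1 : F) ∈ M :=
    hM _ (RatM.ofS (Rat.basis_e F₀ i3) (Rat.basis_f F₀ i2) F₀.one_mem) (Sg_mem_spGL h32 1)
  have hwf : Cfsg.sympForm m F w (f i2) = 0 := by
    rw [hw, sympForm_add_left, sympForm_smul_left, sympForm_smul_left, ef i1 i2 n12, ef i0 i2 n02,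
      mul_zero, mul_zero, add_zero]
  have hYw : ((Sg h32 (1 : F) : GLm m F) : Mat m F) *ᵥ w = w := by
    rw [Sg_val, S_mulVec]
    show w + ((1 : F) * Cfsg.sympForm m F w (e i3)) • f i2 +
      ((1 : F) * Cfsg.sympForm m F w (f i2)) • e i3 = w
    rw [hwe, hwf, mul_zero, zero_smul, zero_smul, add_zero, add_zero]
  have hYv : ((Sg h32 (1 : F) : GLm m F) : Mat m F) *ᵥ (δ • (e i2 : Vec m F)) =
      δ • (e i2 : Vec m F) + (-δ) • e i3 := by
    rw [Sg_val, S_mulVec]
    show δ • (e i2 : Vec m F) + ((1 : F) * Cfsg.sympForm m F (δ • (e i2 : Vec m F)) (e i3)) • f i2 +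
      ((1 : F) * Cfsg.sympForm m F (δ • (e i2 : Vec m F)) (f i2)) • e i3 = _
    rw [sympForm_smul_left, sympForm_smul_left, ee, eff]
    module
  have hzw3 : om ((-δ) • (e i3 : Vec m F)) w = 0 := by
    show Cfsg.sympForm m F ((-δ) • (e i3 : Vec m F)) w = 0
    rw [sympForm_smul_left, sympForm_swap, hwe, neg_zero, mul_zero]
  have hg3 := comm_mem hg2 (mul_inv_eq_one hzw c _) hY
  rw [comm_step hzw hzw3 (pres_of_mem_spGL (hMsp hY)) (inv_mul_coe _) hYw hYv] at hg3
  have hz0 : om (δ • (e i2 : Vec m F)) ((-δ) • (e i3 : Vec m F)) = 0 := by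
    show Cfsg.sympForm m F (δ • (e i2 : Vec m F)) ((-δ) • (e i3 : Vec m F)) = 0
    rw [sympForm_smul_left, sympForm_smul_right, ee, mul_zero, mul_zero]
  rw [hz0, mul_zero, neg_zero, T_zero, mul_one, S_smul_left, S_comm] at hg3
  -- QRAT at `e i3`
  obtain ⟨k, hk⟩ : ∃ k : F, k = -δ * c := ⟨_, rfl⟩
  rw [← hk] at hg3
  have hk0 : k ≠ 0 := by
    rw [hk]
    exact mul_ne_zero (neg_ne_zero.2 hδ) hc
  have hq : S (k • w) (e i3 : Vec m F) 1 * T (e i3 : Vec m F) 0 ∈ MS M := by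
    rw [T_zero, mul_one, S_smul_left, mul_one]
    exact hg3
  have hkw : om (k • w) (e i3 : Vec m F) = 0 := by
    show Cfsg.sympForm m F (k • w) (e i3 : Vec m F) = 0
    rw [sympForm_smul_left, hwe, mul_zero]
  obtain ⟨w₀, s, hw₀, hws⟩ := QRAT.rat_of_mem hm F₀ M hMsp hM hS (Rat.basis_e F₀ i3)
    (e_ne_zero i3) hkw hq
  have hkα : k * α ∈ F₀ := by
    have h := congrFun hws (Sum.inl i1)
    have e3 : (e i3 : Vec m F) (Sum.inl i1) = 0 := by
      simp [e, n13]
    have e1' : w (Sum.inl i1) = α := by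
      rw [hw]; simp [e, n01]
    rw [Pi.smul_apply, Pi.add_apply, Pi.smul_apply, e3, e1', smul_eq_mul, smul_eq_mul, mul_zero,
      add_zero] at h
    rw [h]
    exact hw₀ _
  have hkβ : k * β ∈ F₀ := by
    have h := congrFun hws (Sum.inl i0)
    have e3 : (e i3 : Vec m F) (Sum.inl i0) = 0 := by
      simp [e, n03]
    have e1' : w (Sum.inl i0) = β := by
      rw [hw]; simp [e, n01.symm]
    rw [Pi.smul_apply, Pi.add_apply, Pi.smul_apply, e3, e1', smul_eq_mul, smul_eq_mul, mul_zero,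
      add_zero] at h
    rw [h]
    exact hw₀ _
  have hρ : α / β ∈ F₀ := by
    have : α / β = (k * α) / (k * β) := by
      field_simp
    rw [this]
    exact F₀.div_mem hkα hkβ
  refine ⟨e i0 - (α / β) • e i1, Rat.sub (Rat.basis_e F₀ i0) (Rat.smul hρ (Rat.basis_e F₀ i1)), ?_, ?_⟩
  · intro h
    have := congrFun h (Sum.inl i0)
    simp [e, n01] at this
  · show Cfsg.sympForm m F v (e i0 - (α / β) • e i1) = 0
    rw [sympForm_sub_right, sympForm_smul_right, eα, eβ]
    field_simp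
    ring

end FULL2

open FULL2 in
theorem FULL2.exists_perp (h2 : (2 : F) = 0) (hm : 4 ≤ m) (F₀ : Subfield F)
    (M : Subgroup (GLm m F)) (hMsp : M ≤ Cfsg.spGL m F) (hM : HasRatSp F₀ M) (hS : RootRatS F₀ M)
    {v : Vec m F} {c : F} (hc : c ≠ 0) (hT : T v c ∈ MS M) :
    ∃ b : Vec m F, Rat F₀ b ∧ b ≠ 0 ∧ om v b = 0 := by
  by_cases hα : om v (e (⟨0, by omega⟩ : Fin m)) = 0
  · exact ⟨_, Rat.basis_e F₀ _, e_ne_zero _, hα⟩
  by_cases hβ : om v (e (⟨1, by omega⟩ : Fin m)) = 0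
  · exact ⟨_, Rat.basis_e F₀ _, e_ne_zero _, hβ⟩
  by_cases hδ : om v (e (⟨2, by omega⟩ : Fin m)) = 0
  · exact ⟨_, Rat.basis_e F₀ _, e_ne_zero _, hδ⟩
  refine aux h2 (by omega) F₀ M hMsp hM hS hc hT ⟨0, by omega⟩ ⟨1, by omega⟩ ⟨2, by omega⟩
    ⟨3, by omega⟩ ?_ ?_ ?_ ?_ ?_ ?_ hα hβ hδ <;>
  · intro h
    have := congrArg Fin.val h
    simp at this

end Cfsg.Agent.S5650P
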