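import Mathlib
import Cfsg.Agent.Helper7.S5655.Defs2
import Cfsg.Agent.Helper7.S5655.MonoLib
import Cfsg.Agent.Helper17.S5655CT
import Cfsg.Agent.Helper5.S5655MU

/-! S5655 `k = 1` (driver helper7), piece SUPP (helper20): no column of a non-monomial `A ∈ M` has two zeros.
Port of `Cfsg.Agent.MonoP.SUPP.col` (helper8, S5634) with the torus elements `diagonal (η at i₀, η⁻¹ at i')`, `η ∈ μ`. -/

set_option autoImplicit false
set_option linter.unusedSectionVars false

namespace Cfsg.Agent.S5655K1

open Matrix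
open Cfsg.Agent.S2644 Cfsg.Agent.Helper2.SUGen Cfsg.Agent.Helper28.SimMax Cfsg.Agent.MonoP

variable {K : Type*} [Field K] {q n : ℕ}

local notation "h" => Cfsg.hermForm n K q
local notation "T" => Cfsg.unitaryTransvection n q

namespace SUPP

/-- the diagonal entries of the torus element: `η` at `k`, `η⁻¹` at `l`, `1` elsewhere -/
def dd (k l : Fin n) (η : K) : Fin n → K :=
  Function.update (Function.update (fun _ => (1 : K)) k η) l η⁻¹

theorem dd_left (k l : Fin n) (hkl : k ≠ l) (η : K) : dd k l η k = η := by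
  unfold dd
  rw [Function.update_of_ne hkl, Function.update_self]

theorem dd_right (k l : Fin n) (η : K) : dd k l η l = η⁻¹ := by
  unfold dd
  rw [Function.update_self]

theorem dd_other (k l : Fin n) (η : K) (i : Fin n) (hik : i ≠ k) (hil : i ≠ l) : dd k l η i = 1 := by
  unfold dd
  rw [Function.update_of_ne hil, Function.update_of_ne hik]

theorem dd_prod (k l : Fin n) (hkl : k ≠ l) (η : K) (hη : η ≠ 0) : ∏ i, dd k l η i = 1 := by
  unfold dd
  rw [Finset.prod_update_of_mem (Finset.mem_univ l),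
    Finset.prod_update_of_mem (by simp [hkl] : k ∈ Finset.univ \ {l})]
  simp [hη]

theorem dd_isU (D : Frob K q) (k l : Fin n) (hkl : k ≠ l) {η : K} (hη : IsU D η) (i : Fin n) :
    IsU D (dd k l η i) := by
  by_cases hil : i = l
  · subst hil; rw [dd_right]; exact IsU.inv D hη
  by_cases hik : i = k
  · subst hik; rw [dd_left _ _ hkl]; exact hη
  rw [dd_other k l η i hik hil]; exact IsU.one D

/-- the torus element is in `M` -/
theorem dd_mem (D : Frob K q) {M : Subgroup (Matrix.GeneralLinearGroup (Fin n) K)} (hN : HasN q M)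
    (k l : Fin n) (hkl : k ≠ l) {η : K} (hη : IsU D η) : Matrix.diagonal (dd k l η) ∈ MS M :=
  HasN.diagonal_mem D hN _ (dd_isU D k l hkl hη) (dd_prod k l hkl η (IsU.ne_zero D hη))

/-- key step: if column `j` of `A` vanishes at `i₀, i'` then, for every `η ∈ μ`, the torus element maps column `k'`
of `A` to a multiple of a column of `A`. -/
theorem key (D : Frob K q) (M : Subgroup (Matrix.GeneralLinearGroup (Fin n) K)) (hM : M ≤ SUG n K q)
    (hN : HasN q M) (hB : PropB M) (A : Matrix (Fin n) (Fin n) K) (hA : A ∈ MS M)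
    (j k' i₀ i' : Fin n) (h0' : i₀ ≠ i') (hj0 : A i₀ j = 0) (hj' : A i' j = 0) {η : K} (hη : IsU D η) :
    ∃ (m : Fin n) (c : K), ∀ i, dd i₀ i' η i * A i k' = A i m * c := by
  have ht : Matrix.diagonal (dd i₀ i' η) ∈ MS M := dd_mem D hN i₀ i' h0' hη
  have hy : ct D A * Matrix.diagonal (dd i₀ i' η) * A ∈ MS M := CT.conj_mem D hM hA ht
  have hpres : Pres (q := q) A := Cfsg.Agent.S5658P.pres_of_MS hM hA
  obtain ⟨h1, h1'⟩ := CT.mul_self D hpres
  -- column `j` of `y` is `e_j`
  have hcolj : ∀ i, (ct D A * Matrix.diagonal (dd i₀ i' η) * A) i j = (1 : Matrix (Fin n) (Fin n) K) i j := by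
    intro i
    rw [Matrix.mul_assoc, ← h1, Matrix.mul_apply, Matrix.mul_apply]
    refine Finset.sum_congr rfl fun r _ => ?_
    rw [Matrix.diagonal_mul]
    by_cases hr0 : r = i₀
    · subst hr0; rw [hj0, mul_zero]
    by_cases hr' : r = i'
    · subst hr'; rw [hj', mul_zero]
    rw [dd_other i₀ i' η r hr0 hr', one_mul]
  have hcm : ColMono (ct D A * Matrix.diagonal (dd i₀ i' η) * A) := by
    refine ⟨j, j, fun i hi => ?_⟩
    rw [hcolj i, Matrix.one_apply_ne hi]
  obtain ⟨σ, hσ⟩ := hB _ hy hcm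
  refine ⟨σ k', (ct D A * Matrix.diagonal (dd i₀ i' η) * A) (σ k') k', fun i => ?_⟩
  -- `A * y = t * A`
  have hgy : A * (ct D A * Matrix.diagonal (dd i₀ i' η) * A) = Matrix.diagonal (dd i₀ i' η) * A := by
    rw [← Matrix.mul_assoc, ← Matrix.mul_assoc, h1', Matrix.one_mul]
  have := congrFun (congrFun hgy i) k'
  rw [Matrix.diagonal_mul, Matrix.mul_apply] at this
  rw [← this]
  rw [Finset.sum_eq_single (σ k')]
  · intro r _ hr
    rw [hσ r k' hr, mul_zero]
  · intro hh; exact absurd (Finset.mem_univ _) hh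

/-- the core configuration is contradictory -/
theorem core (D : Frob K q) [Fintype K] (hK : Fintype.card K = q ^ 2) (hq : 3 ≤ q)
    (M : Subgroup (Matrix.GeneralLinearGroup (Fin n) K)) (hM : M ≤ SUG n K q)
    (hN : HasN q M) (hB : PropB M) (A : Matrix (Fin n) (Fin n) K) (hA : A ∈ MS M)
    (j k' i₀ i' i'' : Fin n) (h0' : i₀ ≠ i') (h0 : i'' ≠ i₀) (h' : i'' ≠ i')
    (hj0 : A i₀ j = 0) (hj' : A i' j = 0) (hk0 : A i₀ k' ≠ 0) (hk'' : A i'' k' ≠ 0) : False := by
  classical
  -- four distinct elements of `μ`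
  have hcard : Fintype.card (Fin 4) ≤ Fintype.card ↥(Finset.univ.filter (fun t : K => IsU D t)) := by
    rw [Fintype.card_coe, MU.card D hK, Fintype.card_fin]; omega
  obtain ⟨η⟩ := Function.Embedding.nonempty_of_card_le hcard
  have hηU : ∀ a, IsU D ((η a : K)) := fun a => (Finset.mem_filter.1 (η a).2).2
  choose m c hmc using fun a : Fin 4 => key D M hM hN hB A hA j k' i₀ i' h0' hj0 hj' (hηU a)
  have hc'' : ∀ a, A i'' k' = A i'' (m a) * c a := by
    intro a
    have := hmc a i''
    rwa [dd_other i₀ i' (η a : K) i'' h0 h', one_mul] at this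
  have hc0 : ∀ a, (η a : K) * A i₀ k' = A i₀ (m a) * c a := by
    intro a
    have := hmc a i₀
    rwa [dd_left i₀ i' h0' (η a : K)] at this
  have hcne : ∀ a, c a ≠ 0 := by
    intro a hh
    apply hk''
    rw [hc'' a, hh, mul_zero]
  have hminj : Function.Injective m := by
    intro a b hab
    have h1 := hc'' a
    have h2 := hc'' b
    rw [hab] at h1
    have hne : A i'' (m b) ≠ 0 := by
      intro hh; apply hk''; rw [h2, hh, zero_mul]
    have hcc : c a = c b := mul_left_cancel₀ hne (h1.symm.trans h2)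
    have h3 := hc0 a
    have h4 := hc0 b
    rw [hab, hcc] at h3
    have : (η a : K) = (η b : K) := mul_right_cancel₀ hk0 (h3.trans h4.symm)
    exact η.injective (Subtype.ext this)
  -- linear independence of the four scaled columns
  have hunit : IsUnit A := by
    obtain ⟨g, _, rfl⟩ := hA
    exact ⟨g, rfl⟩
  have hli0 : LinearIndependent K A.col :=
    Matrix.linearIndependent_cols_iff_isUnit.2 hunit
  have hli1 : LinearIndependent K (fun a : Fin 4 => A.col (m a)) :=
    hli0.comp m hminj
  have hli2 : LinearIndependent K (fun a : Fin 4 => (Units.mk0 (c a) (hcne a)) • A.col (m a)) :=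
    hli1.units_smul (fun a => Units.mk0 (c a) (hcne a))
  -- they lie in a space of dimension at most three
  let u : Fin n → K := fun i => A i k'
  let b3 : Fin 3 → (Fin n → K) := ![u, Pi.single i₀ 1, Pi.single i' 1]
  have hmem : ∀ a : Fin 4, (Units.mk0 (c a) (hcne a)) • A.col (m a) ∈
      Submodule.span K (Set.range b3) := by
    intro a
    have hEq : (Units.mk0 (c a) (hcne a)) • A.col (m a) =
        u + (((η a : K) - 1) * A i₀ k') • (Pi.single i₀ 1 : Fin n → K) +
          ((((η a : K))⁻¹ - 1) * A i' k') • (Pi.single i' 1 : Fin n → K) := by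
      funext i
      have hh := hmc a i
      simp only [Units.smul_def, Units.val_mk0, Pi.smul_apply, Pi.add_apply, smul_eq_mul, Matrix.col_apply, u]
      rw [mul_comm (c a), ← hh]
      by_cases hi0 : i = i₀
      · subst hi0
        rw [dd_left i i' h0' (η a : K), Pi.single_eq_same, Pi.single_eq_of_ne h0']
        ring
      by_cases hi' : i = i'
      · subst hi'
        rw [dd_right i₀ i (η a : K), Pi.single_eq_same, Pi.single_eq_of_ne hi0]
        ring
      rw [dd_other i₀ i' (η a : K) i hi0 hi', Pi.single_eq_of_ne hi0, Pi.single_eq_of_ne hi']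
      ring
    rw [hEq]
    have hb0 : u ∈ Submodule.span K (Set.range b3) := Submodule.subset_span ⟨0, rfl⟩
    have hb1 : (Pi.single i₀ 1 : Fin n → K) ∈ Submodule.span K (Set.range b3) := Submodule.subset_span ⟨1, rfl⟩
    have hb2 : (Pi.single i' 1 : Fin n → K) ∈ Submodule.span K (Set.range b3) := Submodule.subset_span ⟨2, rfl⟩
    exact Submodule.add_mem _ (Submodule.add_mem _ hb0 (Submodule.smul_mem _ _ hb1)) (Submodule.smul_mem _ _ hb2)
  have h4 : Module.finrank K (Submodule.span K (Set.range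
      (fun a : Fin 4 => (Units.mk0 (c a) (hcne a)) • A.col (m a)))) = 4 := by
    rw [finrank_span_eq_card hli2, Fintype.card_fin]
  have hle : Submodule.span K (Set.range
      (fun a : Fin 4 => (Units.mk0 (c a) (hcne a)) • A.col (m a))) ≤
      Submodule.span K (Set.range b3) := by
    rw [Submodule.span_le]
    rintro _ ⟨a, rfl⟩
    exact hmem a
  have h3 : Module.finrank K (Submodule.span K (Set.range b3)) ≤ 3 := by
    have := finrank_range_le_card (R := K) b3
    rwa [Fintype.card_fin] at this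
  have := Submodule.finrank_mono hle
  omega

end SUPP

theorem SUPP.col (D : Frob K q) [Fintype K] (hK : Fintype.card K = q ^ 2) (hq : 3 ≤ q) (hn : 6 ≤ n)
    (M : Subgroup (Matrix.GeneralLinearGroup (Fin n) K)) (hM : M ≤ SUG n K q) (hN : HasN q M) (hB : PropB M)
    (A : Matrix (Fin n) (Fin n) K) (hA : A ∈ MS M) (hnm : ¬ IsMono A) (k i₁ i₂ : Fin n) (h12 : i₁ ≠ i₂)
    (h1 : A i₁ k = 0) (h2 : A i₂ k = 0) : False := by
  classical
  -- every column has a non-zero entry off any given row
  have htwo : ∀ k' r : Fin n, ∃ i, i ≠ r ∧ A i k' ≠ 0 := by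
    intro k' r
    by_contra hcon
    push Not at hcon
    exact hnm (hB A hA ⟨k', r, hcon⟩)
  -- row `i₁` of `A` vanishes
  have hrow : ∀ k', A i₁ k' = 0 := by
    intro k'
    by_contra hne
    by_cases hE : ∃ i'', i'' ≠ i₁ ∧ i'' ≠ i₂ ∧ A i'' k' ≠ 0
    · obtain ⟨i'', ha, hb, hc⟩ := hE
      exact SUPP.core D hK hq M hM hN hB A hA k k' i₁ i₂ i'' h12 ha hb h1 h2 hne hc
    push Not at hE
    obtain ⟨i, hi1, hi⟩ := htwo k' i₁
    have hi2 : i = i₂ := by
      by_contra hh
      exact hi (hE i hi1 hh)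
    subst hi2
    by_cases hZ : ∃ z, z ≠ i₁ ∧ z ≠ i ∧ A z k = 0
    · obtain ⟨z, hz1, hz2, hz⟩ := hZ
      exact SUPP.core D hK hq M hM hN hB A hA k k' i₁ z i hz1.symm hi1 (Ne.symm hz2) h1 hz hne hi
    push Not at hZ
    -- three further rows
    have hcard : 2 < (Finset.univ \ {i₁, i} : Finset (Fin n)).card := by
      have h1' : (Finset.univ \ {i₁, i} : Finset (Fin n)).card = Fintype.card (Fin n) - ({i₁, i} : Finset (Fin n)).card := by
        rw [Finset.card_sdiff_of_subset (Finset.subset_univ _), Finset.card_univ]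
      have h2' : ({i₁, i} : Finset (Fin n)).card ≤ 2 := Finset.card_le_two
      rw [Fintype.card_fin] at h1'
      omega
    obtain ⟨a, ha, b, hb, c, hc, hab, hac, hbc⟩ := Finset.two_lt_card.1 hcard
    simp only [Finset.mem_sdiff, Finset.mem_univ, Finset.mem_insert, Finset.mem_singleton, true_and,
      not_or] at ha hb hc
    exact SUPP.core D hK hq M hM hN hB A hA k' k a b c hab (Ne.symm hac) (Ne.symm hbc)
      (hE a ha.1 ha.2) (hE b hb.1 hb.2) (hZ a ha.1 ha.2) (hZ c hc.1 hc.2)
  -- contradiction with invertibility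
  have hpres : Pres (q := q) A := Cfsg.Agent.S5658P.pres_of_MS hM hA
  obtain ⟨_, h1'⟩ := CT.mul_self D hpres
  have := congrFun (congrFun h1' i₁) i₁
  rw [Matrix.mul_apply, Matrix.one_apply_eq] at this
  rw [Finset.sum_eq_zero (fun r _ => by rw [hrow r, zero_mul])] at this
  exact zero_ne_one this

end Cfsg.Agent.S5655K1
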