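import Mathlib
import Cfsg.Agent.Helper7.S5655.Defs2
import Cfsg.Agent.Helper7.S5655.MonoLib
import Cfsg.Agent.Helper20.S5655SUPP

/-! S5655 `k = 1` (driver helper7), piece SUPPROW (helper20): no row of a non-monomial `A ∈ M` has two zeros. -/

set_option autoImplicit false
set_option linter.unusedSectionVars false

namespace Cfsg.Agent.S5655K1

open Matrix
open Cfsg.Agent.S2644 Cfsg.Agent.Helper2.SUGen Cfsg.Agent.Helper28.SimMax Cfsg.Agent.MonoP

variable {K : Type*} [Field K] {q n : ℕ}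

local notation "h" => Cfsg.hermForm n K q
local notation "T" => Cfsg.unitaryTransvection n q

theorem SUPP.row (D : Frob K q) [Fintype K] (hK : Fintype.card K = q ^ 2) (hq : 3 ≤ q) (hn : 6 ≤ n)
    (M : Subgroup (Matrix.GeneralLinearGroup (Fin n) K)) (hM : M ≤ SUG n K q) (hN : HasN q M) (hB : PropB M)
    (A : Matrix (Fin n) (Fin n) K) (hA : A ∈ MS M) (hnm : ¬ IsMono A) (k i₁ i₂ : Fin n) (h12 : i₁ ≠ i₂)
    (h1 : A k i₁ = 0) (h2 : A k i₂ = 0) : False := by
  have hct := (CT.mem D hM hA).1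
  have hnm' : ¬ IsMono (ct D A) := fun hh => hnm ((CT.isMono_iff D A).1 hh)
  refine SUPP.col D hK hq hn M hM hN hB (ct D A) hct hnm' k i₁ i₂ h12 ?_ ?_
  · rw [ct_apply, h1, map_zero]
  · rw [ct_apply, h2, map_zero]

end Cfsg.Agent.S5655K1
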