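import Mathlib
import Cfsg.Agent.Helper28.S5658.Defs
import Cfsg.Agent.Helper28.S5658.Lib

/-! S5658 piece TRANSF1 (driver helper28): Witt transitivity of the rational special unitary group on the
non-zero rational isotropic vectors. -/

set_option autoImplicit false

namespace Cfsg.Agent.S5658P

open Matrix
open Cfsg.Agent.S2644 Cfsg.Agent.Helper2.SUGen Cfsg.Agent.Helper28.SimMax Cfsg.Agent.S5639P

variable {K : Type*} [Field K] {q n : ℕ}

local notation "h" => Cfsg.hermForm n K q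
local notation "T" => Cfsg.unitaryTransvection n q

namespace TRANSF1H

theorem herm_up_zero (F₀ : Subfield K) (a b : Fin n → F₀) :
    h (up F₀ a) (up F₀ b) = 0 ↔ Cfsg.hermForm n F₀ q a b = 0 := by
  rw [herm_up]
  constructor
  · intro h0
    exact Subtype.ext h0
  · intro h0
    rw [h0]
    rfl

end TRANSF1H

theorem TRANSF.exists1 [Finite K] (hn : 13 ≤ n) (D : Frob K q) (F₀ : Subfield K)
    (hθ : ∃ θ ∈ F₀, D.σ θ ≠ θ) {u u' : Fin n → K} (hu : Rat F₀ u) (hu' : Rat F₀ u') (hu0 : u ≠ 0)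
    (hu0' : u' ≠ 0) (huu : h u u = 0) (huu' : h u' u' = 0) :
    ∃ A : Matrix (Fin n) (Fin n) K, RatM F₀ A ∧ Pres (q := q) A ∧ A.det = 1 ∧ A *ᵥ u = u' := by
  obtain ⟨a, rfl⟩ := exists_up (F₀ := F₀) hu
  obtain ⟨a', rfl⟩ := exists_up (F₀ := F₀) hu'
  have haa : Cfsg.hermForm n F₀ q a a = 0 := (TRANSF1H.herm_up_zero F₀ a a).1 huu
  have haa' : Cfsg.hermForm n F₀ q a' a' = 0 := (TRANSF1H.herm_up_zero F₀ a' a').1 huu'
  have ha0 : a ≠ 0 := by
    rintro rfl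
    exact hu0 up_zero
  have ha0' : a' ≠ 0 := by
    rintro rfl
    exact hu0' up_zero
  have hd : 3 ≤ Module.finrank F₀ (⊤ : Submodule F₀ (Fin n → F₀)) := by
    rw [finrank_top, Module.finrank_fin_fun]
    omega
  obtain ⟨t, ht, hta⟩ := trans_iso (frob0 D F₀ hθ) (nonDeg_top (frob0 D F₀ hθ)) hd
    (Submodule.mem_top : a ∈ ⊤) (Submodule.mem_top : a' ∈ ⊤) haa haa' ha0 ha0'
  refine ⟨upM F₀ t, ratM_upM t, pres_upM D t (Gen_pres (frob0 D F₀ hθ) ht), ?_, ?_⟩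
  · rw [upM_det, Gen_det (frob0 D F₀ hθ) ht]
    rfl
  · rw [upM_mulVec, hta]

end Cfsg.Agent.S5658P
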