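import Cfsg.Agent.Helper1.S5665.Lib
import Cfsg.Agent.Helper5.S5700EXK
import Cfsg.Agent.Helper25.S5700DUAL
import Cfsg.Agent.Helper2.FieldBasics
import Cfsg.Agent.Helper17.S5665ISO1

set_option autoImplicit false
set_option linter.unusedSectionVars false
set_option linter.unusedVariables false

/-! # S5665, piece LINE: a non-isotropic vector lies on a hyperbolic line through two isotropic vectors -/

namespace Cfsg.Agent.S5665P

open Matrix Module Cfsg.Agent.Helper2.Sp Cfsg.Agent.Helper28.Sg Cfsg.Agent.S5700P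

variable {F : Type*} [Field F] [Fintype F] {m : ℕ}
  {δ : Matrix (Fin m ⊕ Fin m) (Fin m ⊕ Fin m) F} {d : F}

local notation "V" => (Fin m ⊕ Fin m → F)
local notation "Mat" => Matrix (Fin m ⊕ Fin m) (Fin m ⊕ Fin m) F
local notation "Sp" => Matrix.symplecticGroup (Fin m) F

theorem LINE.exists_line (U : SData δ d) (h2 : (2 : F) ≠ 0) (hm : 7 ≤ m) {x : V} (hx : Qs δ x ≠ 0) :
    ∃ (y y' : V) (a : F), Qs δ y = 0 ∧ Qs δ y' = 0 ∧ om y y' ≠ 0 ∧ x = y' + a • y := by
  have hx0 : x ≠ 0 := by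
    rintro rfl
    apply hx
    rw [Qs_def, om_zero_right]
  obtain ⟨y, hy, h1, h2'⟩ := ISO1.exists_iso U h2 hm hx0 1 1
  refine ⟨y, x - (Qs δ x / 2) • y, Qs δ x / 2, hy, ?_, ?_, ?_⟩
  · rw [U.Qs_sub, Qs_smul, hy, om_smul_right, h1]
    field_simp
    ring
  · rw [om_sub_right, om_smul_right, om_self, om_swap x y, h2']
    simp
  · rw [sub_add_cancel]

end Cfsg.Agent.S5665P
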