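import Cfsg.Agent.Helper1.S5665.Lib
import Cfsg.Agent.Helper5.S5700EXK
import Cfsg.Agent.Helper25.S5700DUAL
import Cfsg.Agent.Helper2.FieldBasics

set_option autoImplicit false
set_option linter.unusedSectionVars false
set_option linter.unusedVariables false

/-! # S5665 piece RGEN: a generator of a quadratic field subalgebra -/

namespace Cfsg.Agent.S5665P

open Matrix Module Cfsg.Agent.Helper2.Sp Cfsg.Agent.Helper28.Sg Cfsg.Agent.S5700P

variable {F : Type*} [Field F] [Fintype F] {m : ℕ}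
  {δ : Matrix (Fin m ⊕ Fin m) (Fin m ⊕ Fin m) F} {d : F}

local notation "V" => (Fin m ⊕ Fin m → F)
local notation "Mat" => Matrix (Fin m ⊕ Fin m) (Fin m ⊕ Fin m) F
local notation "Sp" => Matrix.symplecticGroup (Fin m) F

theorem RGEN.smul_one_eq_zero (hm : 1 ≤ m) (s : F) (hs : s • (1 : Mat) = 0) : s = 0 := by
  have h := congrFun (congrFun hs (Sum.inl ⟨0, by omega⟩)) (Sum.inl ⟨0, by omega⟩)
  simpa using h

theorem RGEN.exists_gen (hm : 1 ≤ m) (K : Subalgebra F Mat) (hK : Cfsg.Geo.IsFieldSubalgebra 2 K) :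
    ∃ (ω : Mat) (p t : F), ω ∈ K ∧ ω * ω = p • (1 : Mat) + t • ω ∧ (∀ r : F, r * r - t * r - p ≠ 0) ∧
      ∀ k ∈ K, ∃ a b : F, k = a • (1 : Mat) + b • ω := by
  classical
  have hone : ∀ s : F, s • (1 : Mat) = 0 → s = 0 := RGEN.smul_one_eq_zero hm
  have h1ne : (1 : Mat) ≠ 0 := by
    intro h
    have := hone 1 (by rw [one_smul, h])
    exact one_ne_zero this
  -- a nonscalar element
  have hex : ∃ ω ∈ K, ∀ c : F, ω ≠ c • (1 : Mat) := by
    by_contra hcon
    push Not at hcon
    have hle : Subalgebra.toSubmodule K ≤ Submodule.span F {(1 : Mat)} := by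
      intro k hk
      obtain ⟨c, hc⟩ := hcon k hk
      rw [hc]
      exact Submodule.smul_mem _ _ (Submodule.subset_span (Set.mem_singleton _))
    have h1 : finrank F (Subalgebra.toSubmodule K) ≤ finrank F (Submodule.span F {(1 : Mat)}) :=
      Submodule.finrank_mono hle
    rw [finrank_span_singleton h1ne, Subalgebra.finrank_toSubmodule, hK.finrank_eq] at h1
    omega
  obtain ⟨ω, hωK, hω⟩ := hex
  obtain ⟨φ, hφ⟩ : ∃ φ : F × F →ₗ[F] K, ∀ ab : F × F,
      ((φ ab : K) : Mat) = ab.1 • (1 : Mat) + ab.2 • ω :=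
    ⟨{ toFun := fun ab => ⟨ab.1 • 1 + ab.2 • ω,
          K.add_mem (K.smul_mem K.one_mem _) (K.smul_mem hωK _)⟩
       map_add' := fun x y => by
         apply Subtype.ext
         show (x + y).1 • (1 : Mat) + (x + y).2 • ω = (x.1 • 1 + x.2 • ω) + (y.1 • 1 + y.2 • ω)
         rw [Prod.fst_add, Prod.snd_add, add_smul, add_smul]
         abel
       map_smul' := fun c x => by
         apply Subtype.ext
         show (c • x).1 • (1 : Mat) + (c • x).2 • ω = c • (x.1 • 1 + x.2 • ω)
         rw [Prod.smul_fst, Prod.smul_snd, smul_eq_mul, smul_eq_mul, mul_smul, mul_smul,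
           smul_add] }, fun _ => rfl⟩
  have hinj : Function.Injective φ := by
    rw [← LinearMap.ker_eq_bot, LinearMap.ker_eq_bot']
    intro ab hab
    have h1 : ab.1 • (1 : Mat) + ab.2 • ω = 0 := by
      rw [← hφ, hab]; rfl
    have h2 : ab.2 = 0 := by
      by_contra hb
      apply hω (-(ab.2)⁻¹ * ab.1)
      have h3 : ab.2 • ω = -(ab.1 • (1 : Mat)) := eq_neg_of_add_eq_zero_right h1
      calc ω = (ab.2)⁻¹ • (ab.2 • ω) := by rw [smul_smul, inv_mul_cancel₀ hb, one_smul]
        _ = (-(ab.2)⁻¹ * ab.1) • (1 : Mat) := by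
            rw [h3, smul_neg, smul_smul, neg_mul, neg_smul]
    have h3 : ab.1 = 0 := by
      rw [h2, zero_smul, add_zero] at h1
      exact hone _ h1
    exact Prod.ext h3 h2
  have hfr : finrank F (F × F) = finrank F K := by
    rw [hK.finrank_eq, Module.finrank_prod, Module.finrank_self]
  have hsurj : Function.Surjective φ :=
    (LinearMap.injective_iff_surjective_of_finrank_eq_finrank hfr).mp hinj
  have hspan : ∀ k ∈ K, ∃ a b : F, k = a • (1 : Mat) + b • ω := by
    intro k hk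
    obtain ⟨ab, hab⟩ := hsurj ⟨k, hk⟩
    refine ⟨ab.1, ab.2, ?_⟩
    rw [← hφ, hab]
  obtain ⟨p, t, hpt⟩ := hspan (ω * ω) (K.mul_mem hωK hωK)
  have hnzd : ∀ x ∈ K, ∀ y ∈ K, x * y = 0 → x = 0 ∨ y = 0 := by
    intro x hx y hy hxy
    by_cases hx0 : x = 0
    · exact Or.inl hx0
    · right
      obtain ⟨x', hx', hxx'⟩ := hK.inv x hx hx0
      have h1 : x' * x = 1 := by rw [hK.comm x' hx' x hx, hxx']
      calc y = (x' * x) * y := by rw [h1, Matrix.one_mul]
        _ = 0 := by rw [Matrix.mul_assoc, hxy, Matrix.mul_zero]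
  refine ⟨ω, p, t, hωK, hpt, ?_, hspan⟩
  intro r hr
  have hp : p = r * r - t * r := by linear_combination -hr
  have h1 : (ω - r • (1 : Mat)) * (ω - (t - r) • (1 : Mat)) = 0 := by
    simp only [sub_mul, mul_sub, Matrix.smul_mul, Matrix.mul_smul, Matrix.one_mul,
      Matrix.mul_one]
    rw [hpt, hp]
    module
  rcases hnzd _ (K.sub_mem hωK (K.smul_mem K.one_mem r)) _
    (K.sub_mem hωK (K.smul_mem K.one_mem (t - r))) h1 with h | h
  · exact hω r (sub_eq_zero.mp h)
  · exact hω (t - r) (sub_eq_zero.mp h)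

end Cfsg.Agent.S5665P
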