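import Cfsg.Agent.Helper12.S5702Defs2
import Cfsg.Agent.Helper12.S5683COMM2
import Cfsg.Agent.Helper20.S5702RATSIEG
import Cfsg.Agent.Helper17.S5702CENTRAT
import Cfsg.Agent.Helper15.S5702RHO

set_option autoImplicit false
set_option linter.unusedSectionVars false
set_option linter.unusedVariables false

/-! # S5702 piece PLANERAT (hedge copy by helper20): an `M`-root element whose line lies in the rational
plane `π` is rational. -/

namespace Cfsg.Agent.S5702P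

open Matrix Cfsg.Agent.Helper28.Sg Cfsg.Agent.Helper28.Spin Cfsg.Agent.Helper12.OrthGen
  Cfsg.Agent.S5683P

variable {F : Type*} [Field F] {m : ℕ} {a b : F}

namespace PLRL

theorem rat_lin3' (F₀ : Subfield F) (κ : Fin 3 → Fin m) (p : Fin 3 → F) (hp : ∀ i, p i ∈ F₀) :
    Cfsg.Agent.S5683P.Rat F₀ (lin3 κ p) := by
  unfold lin3
  rw [Fin.sum_univ_three]
  exact ((Cfsg.Agent.S5683P.Rat.smul (hp 0) (rat_ee _)).add
    (Cfsg.Agent.S5683P.Rat.smul (hp 1) (rat_ee _))).add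
    (Cfsg.Agent.S5683P.Rat.smul (hp 2) (rat_ee _))

/-- the coordinates of a vector of `π` at the `f`-positions vanish -/
theorem lin3_apply_f (κ : Fin 3 → Fin m) (p : Fin 3 → F) (j : Fin m) :
    lin3 κ p (Sum.inl (Sum.inr j)) = 0 := by
  unfold lin3
  simp only [Finset.sum_apply, Pi.smul_apply, ee, Pi.single_apply, smul_eq_mul]
  apply Finset.sum_eq_zero
  intro i _
  rw [if_neg (by simp), mul_zero]

theorem exists_not_range (hm : 4 ≤ m) (κ : Fin 3 → Fin m) : ∃ j : Fin m, ∀ k, κ k ≠ j := by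
  by_contra hcon
  push Not at hcon
  have hs : Function.Surjective κ := hcon
  have := Fintype.card_le_of_surjective κ hs
  simp at this
  omega

/-- `y_k x_l - x_k y_l ∈ F₀` -/
theorem minor_mem (hm : 4 ≤ m) (F₀ : Subfield F) (ha : a ∈ F₀) (hb : b ∈ F₀)
    (hab : 4 * b - a ^ 2 ≠ 0) (M : Subgroup (OG m F a b)) (hM : HasRatO F₀ M)
    (hR : RootRatO F₀ M) (κ : Fin 3 → Fin m) (hκ : Function.Injective κ) (x y : Fin 3 → F)
    (hmem : lin3 κ y ∈ Rad M (lin3 κ x) (Q_lin3 κ x)) (k l : Fin 3) :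
    y k * x l - x k * y l ∈ F₀ := by
  obtain ⟨j, hj⟩ := exists_not_range hm κ
  have h1 : B (QfMinus m F a b) (ee F j) (ff F (κ k)) = 0 := by
    rw [B_ee]
    unfold ff
    rw [Pi.single_apply, if_neg]
    intro h
    simp only [Sum.inl.injEq, Sum.inr.injEq] at h
    exact hj k h.symm
  have h2 : ff F (κ k) ∈ Rad M (ee F j) (Q_ee j) :=
    RATSIEG.mem_rad F₀ ha hb M hM _ _ (rat_ee _) (rat_ff _) (Q_ee j) h1
  have h3 : B (QfMinus m F a b) (ee F j) (lin3 κ x) = 0 := by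
    rw [B_ee, lin3_apply_f]
  have h4 : B (QfMinus m F a b) (ee F j) (lin3 κ y) = 0 := by
    rw [B_ee, lin3_apply_f]
  have h5 := COMM2.mem_rad M (Q_lin3 κ x) (Q_lin3 κ y) (Q_ee j) (B_lin3_lin3 κ x y) h3 h4 hmem h2
  rw [B_lin3, B_lin3, RHO.xi3_ff κ hκ, dotProduct_single, dotProduct_single, mul_one, mul_one] at h5
  obtain ⟨t, ht⟩ := CENTRAT.rat_mod hm F₀ ha hb hab M hM hR (ee F j) _ (rat_ee _) (ee_ne_zero _)
    (Q_ee j) h5
  have h6 := ht (Sum.inl (Sum.inl (κ l)))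
  have e : (y k • lin3 κ x - x k • lin3 κ y - t • ee F j) (Sum.inl (Sum.inl (κ l))) =
      y k * x l - x k * y l := by
    simp only [Pi.sub_apply, Pi.smul_apply, smul_eq_mul, RHO.lin3_apply κ hκ]
    unfold ee
    rw [Pi.single_apply, if_neg, mul_zero, sub_zero]
    intro h
    simp only [Sum.inl.injEq] at h
    exact hj l h
  rw [e] at h6
  exact h6

/-- `y_l • X - x_l • Y` has rational coefficients -/
theorem rat_comb (F₀ : Subfield F) (κ : Fin 3 → Fin m) (x y : Fin 3 → F)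
    (hrat : ∀ k, (x ⨯₃ y) k ∈ F₀) (l : Fin 3) :
    Cfsg.Agent.S5683P.Rat F₀ (y l • lin3 κ x + (-x l) • lin3 κ y) := by
  rw [← lin3_smul, ← lin3_smul, ← lin3_add]
  apply rat_lin3'
  intro i
  have h0 := hrat 0
  have h1 := hrat 1
  have h2 := hrat 2
  rw [cross_apply] at h0 h1 h2
  simp only [Matrix.cons_val_zero, Matrix.cons_val_one, Matrix.cons_val_two, Matrix.head_cons,
    Matrix.tail_cons] at h0 h1 h2
  simp only [Pi.add_apply, Pi.smul_apply, smul_eq_mul]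
  fin_cases l <;> fin_cases i
  · have e : y 0 * x 0 + -x 0 * y 0 = 0 := by ring
    simp only [Fin.zero_eta, Fin.isValue]
    rw [e]; exact F₀.zero_mem
  · have e : y 0 * x 1 + -x 0 * y 1 = -(x 0 * y 1 - x 1 * y 0) := by ring
    simp only [Fin.zero_eta, Fin.isValue, Fin.mk_one]
    rw [e]; exact F₀.neg_mem h2
  · have e : y 0 * x 2 + -x 0 * y 2 = x 2 * y 0 - x 0 * y 2 := by ring
    simp only [Fin.zero_eta, Fin.isValue, Fin.reduceFinMk]
    rw [e]; exact h1
  · have e : y 1 * x 0 + -x 1 * y 0 = x 0 * y 1 - x 1 * y 0 := by ring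
    simp only [Fin.zero_eta, Fin.isValue, Fin.mk_one]
    rw [e]; exact h2
  · have e : y 1 * x 1 + -x 1 * y 1 = 0 := by ring
    simp only [Fin.isValue, Fin.mk_one]
    rw [e]; exact F₀.zero_mem
  · have e : y 1 * x 2 + -x 1 * y 2 = -(x 1 * y 2 - x 2 * y 1) := by ring
    simp only [Fin.isValue, Fin.mk_one, Fin.reduceFinMk]
    rw [e]; exact F₀.neg_mem h0
  · have e : y 2 * x 0 + -x 2 * y 0 = -(x 2 * y 0 - x 0 * y 2) := by ring
    simp only [Fin.zero_eta, Fin.isValue, Fin.reduceFinMk]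
    rw [e]; exact F₀.neg_mem h1
  · have e : y 2 * x 1 + -x 2 * y 1 = x 1 * y 2 - x 2 * y 1 := by ring
    simp only [Fin.isValue, Fin.mk_one, Fin.reduceFinMk]
    rw [e]; exact h0
  · have e : y 2 * x 2 + -x 2 * y 2 = 0 := by ring
    simp only [Fin.isValue, Fin.reduceFinMk]
    rw [e]; exact F₀.zero_mem

/-- every non-zero vector is a cross product -/
theorem exists_cross_eq (t : Fin 3 → F) (ht : t ≠ 0) : ∃ x y : Fin 3 → F, x ⨯₃ y = t := by
  obtain ⟨k, hk⟩ : ∃ k, t k ≠ 0 := by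
    by_contra hcon
    push Not at hcon
    exact ht (funext hcon)
  fin_cases k
  · refine ⟨![-t 1 / t 0, 1, 0], ![-t 2, 0, t 0], ?_⟩
    rw [cross_apply]
    ext i
    fin_cases i
    · simp
    · simp only [Fin.zero_eta, Fin.isValue] at hk
      simp
      field_simp
    · simp
  · refine ⟨![0, -t 2 / t 1, 1], ![t 1, -t 0, 0], ?_⟩
    rw [cross_apply]
    ext i
    fin_cases i
    · simp
    · simp
    · simp only [Fin.isValue, Fin.mk_one] at hk
      simp
      field_simp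
  · refine ⟨![1, 0, -t 0 / t 2], ![0, t 2, -t 1], ?_⟩
    rw [cross_apply]
    ext i
    fin_cases i
    · simp only [Fin.isValue, Fin.reduceFinMk] at hk
      simp
      field_simp
    · simp
    · simp

end PLRL

theorem PLANERAT.cross_mem (hm : 4 ≤ m) (F₀ : Subfield F) (ha : a ∈ F₀) (hb : b ∈ F₀)
    (hab : 4 * b - a ^ 2 ≠ 0) (M : Subgroup (OG m F a b)) (hM : HasRatO F₀ M)
    (hR : RootRatO F₀ M) (κ : Fin 3 → Fin m) (hκ : Function.Injective κ) (x y : Fin 3 → F)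
    (hmem : lin3 κ y ∈ Rad M (lin3 κ x) (Q_lin3 κ x)) : ∀ k, (x ⨯₃ y) k ∈ F₀ := by
  intro k
  rw [cross_apply]
  fin_cases k
  · have := PLRL.minor_mem hm F₀ ha hb hab M hM hR κ hκ x y hmem 2 1
    simp only [Fin.zero_eta, Fin.isValue, Matrix.cons_val_zero]
    have e : x 1 * y 2 - x 2 * y 1 = y 2 * x 1 - x 2 * y 1 := by ring
    rw [e]; exact this
  · have := PLRL.minor_mem hm F₀ ha hb hab M hM hR κ hκ x y hmem 0 2
    simp only [Fin.isValue, Fin.mk_one, Matrix.cons_val_one, Matrix.cons_val_zero]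
    have e : x 2 * y 0 - x 0 * y 2 = y 0 * x 2 - x 0 * y 2 := by ring
    rw [e]; exact this
  · have := PLRL.minor_mem hm F₀ ha hb hab M hM hR κ hκ x y hmem 1 0
    simp only [Fin.isValue, Fin.reduceFinMk, Matrix.cons_val_two, Matrix.tail_cons,
      Matrix.head_cons]
    have e : x 0 * y 1 - x 1 * y 0 = y 1 * x 0 - x 1 * y 0 := by ring
    rw [e]; exact this

theorem PLANERAT.rho_mem (hm : 4 ≤ m) (F₀ : Subfield F) (ha : a ∈ F₀) (hb : b ∈ F₀)
    (hab : 4 * b - a ^ 2 ≠ 0) (M : Subgroup (OG m F a b)) (hM : HasRatO F₀ M)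
    (hR : RootRatO F₀ M) (κ : Fin 3 → Fin m) (hκ : Function.Injective κ) (t : Fin 3 → F)
    (hmem : rho a b κ t ∈ M) : ∀ k, t k ∈ F₀ := by
  by_cases ht : t = 0
  · intro k
    rw [ht]
    exact F₀.zero_mem
  · obtain ⟨x, y, rfl⟩ := PLRL.exists_cross_eq t ht
    have h1 : B (QfMinus m F a b) (lin3 κ x) (lin3 κ y) = 0 := B_lin3_lin3 κ x y
    have h2 : lin3 κ y ∈ Rad M (lin3 κ x) (Q_lin3 κ x) := by
      refine ⟨h1, ?_⟩
      rw [RHO.siegO_eq κ hκ x y (Q_lin3 κ x) h1]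
      exact hmem
    exact PLANERAT.cross_mem hm F₀ ha hb hab M hM hR κ hκ x y h2

theorem PLANERAT.ratLine_of_cross (F₀ : Subfield F) (κ : Fin 3 → Fin m)
    (hκ : Function.Injective κ) (x y : Fin 3 → F) (hxy : x ⨯₃ y ≠ 0)
    (hrat : ∀ k, (x ⨯₃ y) k ∈ F₀) : RatLine F₀ (lin3 κ x) (lin3 κ y) := by
  obtain ⟨k, hk⟩ : ∃ k, (x ⨯₃ y) k ≠ 0 := by
    by_contra hcon
    push Not at hcon
    exact hxy (funext hcon)
  rw [cross_apply] at hk
  fin_cases k
  · refine ⟨y 1, -x 1, y 2, -x 2, ?_, PLRL.rat_comb F₀ κ x y hrat 1, PLRL.rat_comb F₀ κ x y hrat 2⟩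
    intro h
    apply hk
    simp only [Fin.zero_eta, Fin.isValue, Matrix.cons_val_zero]
    linear_combination h
  · refine ⟨y 2, -x 2, y 0, -x 0, ?_, PLRL.rat_comb F₀ κ x y hrat 2, PLRL.rat_comb F₀ κ x y hrat 0⟩
    intro h
    apply hk
    simp only [Fin.isValue, Fin.mk_one, Matrix.cons_val_one, Matrix.cons_val_zero]
    linear_combination h
  · refine ⟨y 0, -x 0, y 1, -x 1, ?_, PLRL.rat_comb F₀ κ x y hrat 0, PLRL.rat_comb F₀ κ x y hrat 1⟩
    intro h
    apply hk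
    simp only [Fin.isValue, Fin.reduceFinMk, Matrix.cons_val_two, Matrix.tail_cons,
      Matrix.head_cons]
    linear_combination h

end Cfsg.Agent.S5702P
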