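import Cfsg.Agent.Helper12.S5702Defs2

set_option autoImplicit false
set_option linter.unusedSectionVars false
set_option linter.unusedVariables false

/-! # S5702 piece REDF1: the rational quadratic form `u ↦ ζ Q(P u)` over `↥F₀`. -/

namespace Cfsg.Agent.S5702P

open Matrix Cfsg.Agent.Helper28.Sg Cfsg.Agent.Helper28.Spin Cfsg.Agent.Helper12.OrthGen
  Cfsg.Agent.S5683P

variable {F : Type*} [Field F] {m : ℕ} {a b : F}

/-- the function form as a Mathlib quadratic form -/
theorem REDF1.exists_qf {n : ℕ} (Q : (Fin n → F) → F)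
    (hQ : Cfsg.Geo.IsNondegenerateQuadraticForm Q) :
    ∃ Q₁ : QuadraticForm F (Fin n → F), ∀ v, Q₁ v = Q v := by
  refine ⟨QuadraticMap.ofPolar Q ?_ ?_ ?_, fun v => rfl⟩
  · intro a x
    rw [hQ.smul, smul_eq_mul, pow_two]
  · intro x x' y
    exact hQ.polar_bilinear.add_left x x' y
  · intro a x y
    rw [hQ.polar_bilinear.smul_left, smul_eq_mul]

theorem REDF1.exists_form {n : ℕ} (Q : (Fin n → F) → F)
    (hQ : Cfsg.Geo.IsNondegenerateQuadraticForm Q) (F₀ : Subfield F)
    (P : Matrix.GeneralLinearGroup (Fin n) F) (ζ : F) (hζ : ζ ≠ 0)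
    (hP : Cfsg.Geo.IsQuadFormRationalStructure (fun v : Fin n → F => ζ * Q v) F₀ P) :
    ∃ Q₀ : QuadraticForm ↥F₀ (Fin n → ↥F₀),
      (∀ u : Fin n → ↥F₀, ((Q₀ u : ↥F₀) : F) =
        ζ * Q ((P : Matrix (Fin n) (Fin n) F) *ᵥ (fun i => ((u i : ↥F₀) : F)))) ∧
      (∀ v : Fin n → ↥F₀, (∀ w, QuadraticMap.polar Q₀ v w = 0) → v = 0) := by
  obtain ⟨Q₁, hQ₁⟩ := REDF1.exists_qf Q hQ
  let R : QuadraticForm F (Fin n → F) :=
    ζ • Q₁.comp (Matrix.toLin' (P : Matrix (Fin n) (Fin n) F))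
  have hRv : ∀ v, R v = ζ * Q ((P : Matrix (Fin n) (Fin n) F) *ᵥ v) := by
    intro v
    show ζ • Q₁ (Matrix.toLin' (P : Matrix (Fin n) (Fin n) F) v) = _
    rw [hQ₁, Matrix.toLin'_apply, smul_eq_mul]
  let ι : (Fin n → ↥F₀) → (Fin n → F) := fun u i => ((u i : ↥F₀) : F)
  have hι_add : ∀ u w, ι (u + w) = ι u + ι w := by
    intro u w; funext i; simp [ι]
  have hι_smul : ∀ (c : ↥F₀) u, ι (c • u) = (c : F) • ι u := by
    intro c u; funext i; simp [ι]
  have hmem : ∀ u, R (ι u) ∈ F₀ := by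
    intro u; rw [hRv]; exact hP (ι u) (fun i => (u i).2)
  let q₀ : (Fin n → ↥F₀) → ↥F₀ := fun u => ⟨R (ι u), hmem u⟩
  have hq₀ : ∀ u, ((q₀ u : ↥F₀) : F) = R (ι u) := fun u => rfl
  have hpol : ∀ u w, ((QuadraticMap.polar q₀ u w : ↥F₀) : F) = QuadraticMap.polar R (ι u) (ι w) := by
    intro u w
    unfold QuadraticMap.polar
    rw [Subfield.coe_sub, Subfield.coe_sub, hq₀, hq₀, hq₀, hι_add]
  refine ⟨QuadraticMap.ofPolar q₀ ?_ ?_ ?_, ?_, ?_⟩
  · intro c u
    apply Subtype.ext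
    rw [smul_eq_mul, Subfield.coe_mul, Subfield.coe_mul, hq₀, hq₀, hι_smul, QuadraticMap.map_smul,
      smul_eq_mul]
  · intro x x' y
    apply Subtype.ext
    rw [Subfield.coe_add, hpol, hpol, hpol, hι_add, QuadraticMap.polar_add_left]
  · intro c x y
    apply Subtype.ext
    rw [smul_eq_mul, Subfield.coe_mul, hpol, hpol, hι_smul, QuadraticMap.polar_smul_left, smul_eq_mul]
  · intro u
    show ((q₀ u : ↥F₀) : F) = _
    rw [hq₀, hRv]
  · intro v hv
    have hv' : ∀ w, QuadraticMap.polar R (ι v) (ι w) = 0 := by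
      intro w
      have h := hv w
      have h2 : QuadraticMap.polar q₀ v w = 0 := h
      rw [← hpol, h2]; rfl
    -- the linear functional polar R (ι v) vanishes on the standard basis
    have hlin : QuadraticMap.polarBilin R (ι v) = 0 := by
      apply (Pi.basisFun F (Fin n)).ext
      intro i
      have hsingle : (Pi.basisFun F (Fin n)) i = ι (Pi.single i 1) := by
        funext j
        simp only [Pi.basisFun_apply, ι]
        by_cases hji : j = i
        · subst hji; simp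
        · simp [Pi.single_eq_of_ne hji]
      rw [hsingle, QuadraticMap.polarBilin_apply_apply, hv']
      rfl
    -- so polar Q (P ι v) x = 0 for all x
    have hall : ∀ x, QuadraticMap.polar Q ((P : Matrix (Fin n) (Fin n) F) *ᵥ ι v) x = 0 := by
      intro x
      have h1 : QuadraticMap.polar R (ι v)
          (((P⁻¹ : Matrix.GeneralLinearGroup (Fin n) F) : Matrix (Fin n) (Fin n) F) *ᵥ x) = 0 := by
        rw [← QuadraticMap.polarBilin_apply_apply, hlin]; rfl
      have hPP : (P : Matrix (Fin n) (Fin n) F) *ᵥ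
          (((P⁻¹ : Matrix.GeneralLinearGroup (Fin n) F) : Matrix (Fin n) (Fin n) F) *ᵥ x) = x := by
        rw [Matrix.mulVec_mulVec, ← Matrix.GeneralLinearGroup.coe_mul, mul_inv_cancel,
          Matrix.GeneralLinearGroup.coe_one, Matrix.one_mulVec]
      unfold QuadraticMap.polar at h1 ⊢
      rw [hRv, hRv, hRv, Matrix.mulVec_add, hPP, ← mul_sub, ← mul_sub] at h1
      exact (mul_eq_zero.mp h1).resolve_left hζ
    have hz : (P : Matrix (Fin n) (Fin n) F) *ᵥ ι v = 0 := by
      by_contra hne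
      obtain ⟨-, ⟨y, hy⟩⟩ := hQ.nondegenerate _ hne
      exact hy (hall y)
    have hιv : ι v = 0 := by
      have h2 : ((P⁻¹ : Matrix.GeneralLinearGroup (Fin n) F) : Matrix (Fin n) (Fin n) F) *ᵥ
          ((P : Matrix (Fin n) (Fin n) F) *ᵥ ι v) = ι v := by
        rw [Matrix.mulVec_mulVec, ← Matrix.GeneralLinearGroup.coe_mul, inv_mul_cancel,
          Matrix.GeneralLinearGroup.coe_one, Matrix.one_mulVec]
      rw [← h2, hz, Matrix.mulVec_zero]
    funext i
    apply Subtype.ext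
    exact congrFun hιv i

end Cfsg.Agent.S5702P
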