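import Cfsg.Agent.Helper12.S5702Defs2
import Cfsg.Agent.Helper13.QuadWitt
import Cfsg.Agent.Helper13.QuadExt

set_option autoImplicit false
set_option linter.unusedSectionVars false
set_option linter.unusedVariables false

/-! # S5702 piece REDF2: normal form of a non-degenerate even-dimensional quadratic form over a finite
field, up to a scalar. -/

namespace Cfsg.Agent.S5702P

open Matrix Cfsg.Agent.Helper28.Sg Cfsg.Agent.Helper28.Spin Cfsg.Agent.Helper12.OrthGen
  Cfsg.Agent.S5683P

variable {F : Type*} [Field F] {m : ℕ} {a b : F}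

/-- the identity for a scaled standard frame -/
theorem REDF2.frame_identity {K V : Type*} [Field K] [AddCommGroup V] [Module K V]
    (Q : QuadraticForm K V) {m : ℕ} (e f : Fin m → V) (d₁ d₂ : V) (a b c : K)
    (hQe : ∀ i, Q (e i) = 0) (hQf : ∀ i, Q (f i) = 0)
    (hef : ∀ i j, QuadraticMap.polar Q (e i) (f j) = if i = j then c else 0)
    (hee : ∀ i j, QuadraticMap.polar Q (e i) (e j) = 0)
    (hff : ∀ i j, QuadraticMap.polar Q (f i) (f j) = 0)
    (hed₁ : ∀ i, QuadraticMap.polar Q (e i) d₁ = 0) (hed₂ : ∀ i, QuadraticMap.polar Q (e i) d₂ = 0)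
    (hfd₁ : ∀ i, QuadraticMap.polar Q (f i) d₁ = 0) (hfd₂ : ∀ i, QuadraticMap.polar Q (f i) d₂ = 0)
    (hd₁ : Q d₁ = c) (hd₂ : Q d₂ = c * b) (hd₁₂ : QuadraticMap.polar Q d₁ d₂ = c * a)
    (x : Idx m → K) :
    Q (∑ k, x k • (Sum.elim (Sum.elim e f) ![d₁, d₂] : Idx m → V) k) =
      c * QfMinus m K a b x := by
  classical
  set bv : Idx m → V := Sum.elim (Sum.elim e f) ![d₁, d₂] with hbv
  have hpc : ∀ u v, QuadraticMap.polar Q u v = QuadraticMap.polar Q v u :=
    fun u v => QuadraticMap.polar_comm _ _ _
  have key : Q.comp (Fintype.linearCombination K bv) = c • QfMinus m K a b := by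
    apply Cfsg.Agent.Helper13.quadraticForm_ext_basis (Pi.basisFun K (Idx m))
    · intro k
      rw [QuadraticMap.comp_apply, Pi.basisFun_apply, Fintype.linearCombination_apply_single, one_smul,
        _root_.smul_apply, smul_eq_mul]
      rcases k with (i | i) | u
      · have h := Q_ee (F := K) (a := a) (b := b) i
        unfold ee at h
        rw [h, mul_zero]; exact hQe i
      · have h := Q_ff (F := K) (a := a) (b := b) i
        unfold ff at h
        rw [h, mul_zero]; exact hQf i
      · fin_cases u
        · have h := Q_d1 (F := K) (m := m) (a := a) (b := b)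
          unfold d1 at h
          show Q d₁ = c * QfMinus m K a b (Pi.single (Sum.inr 0) 1)
          rw [h, mul_one]; exact hd₁
        · have h := Q_d2 (F := K) (m := m) (a := a) (b := b)
          unfold d2 at h
          show Q d₂ = c * QfMinus m K a b (Pi.single (Sum.inr 1) 1)
          rw [h]; exact hd₂
    · intro i j
      have e1 : QuadraticMap.polar (Q.comp (Fintype.linearCombination K bv))
          (Pi.basisFun K (Idx m) i) (Pi.basisFun K (Idx m) j) = QuadraticMap.polar Q (bv i) (bv j) := by
        unfold QuadraticMap.polar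
        rw [QuadraticMap.comp_apply, QuadraticMap.comp_apply, QuadraticMap.comp_apply, map_add,
          Pi.basisFun_apply, Pi.basisFun_apply, Fintype.linearCombination_apply_single,
          Fintype.linearCombination_apply_single, one_smul, one_smul]
      have e2 : QuadraticMap.polar (c • QfMinus m K a b)
          (Pi.basisFun K (Idx m) i) (Pi.basisFun K (Idx m) j) =
          c * B (QfMinus m K a b) (Pi.single i 1) (Pi.single j 1) := by
        unfold B QuadraticMap.polar
        rw [_root_.smul_apply, _root_.smul_apply, _root_.smul_apply,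
          Pi.basisFun_apply, Pi.basisFun_apply]
        simp only [smul_eq_mul]
        ring
      rw [e1, e2]
      have hBee := fun (i : Fin m) (x : Idx m → K) => B_ee (F := K) (a := a) (b := b) i x
      have hBff := fun (i : Fin m) (x : Idx m → K) => B_ff (F := K) (a := a) (b := b) i x
      have hBd1 := fun (x : Idx m → K) => B_d1 (F := K) (m := m) (a := a) (b := b) x
      have hBd2 := fun (x : Idx m → K) => B_d2 (F := K) (m := m) (a := a) (b := b) x
      unfold ee at hBee
      unfold ff at hBff
      unfold d1 at hBd1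
      unfold d2 at hBd2
      rcases i with (i | i) | u
      · rw [hBee]
        rcases j with (j | j) | v
        · simp [hbv, hee]
        · by_cases hij : i = j
          · subst hij; simp [hbv, hef]
          · simp [hbv, hef, hij]
        · fin_cases v
          · simp [hbv, hed₁]
          · simp [hbv, hed₂]
      · rw [hBff]
        rcases j with (j | j) | v
        · by_cases hij : i = j
          · subst hij; simp [hbv, hpc (f i) (e i), hef]
          · simp [hbv, hpc (f i) (e j), hef, hij, Ne.symm hij]
        · simp [hbv, hff]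
        · fin_cases v
          · simp [hbv, hfd₁]
          · simp [hbv, hfd₂]
      · fin_cases u
        · show QuadraticMap.polar Q d₁ (bv j) = c * B (QfMinus m K a b) (Pi.single (Sum.inr 0) 1) _
          rw [hBd1]
          rcases j with (j | j) | v
          · simp [hbv, hpc d₁ (e j), hed₁]
          · simp [hbv, hpc d₁ (f j), hfd₁]
          · fin_cases v
            · simp [hbv, QuadraticMap.polar_self, hd₁]; ring
            · simp [hbv, hd₁₂]
        · show QuadraticMap.polar Q d₂ (bv j) = c * B (QfMinus m K a b) (Pi.single (Sum.inr 1) 1) _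
          rw [hBd2]
          rcases j with (j | j) | v
          · simp [hbv, hpc d₂ (e j), hed₂]
          · simp [hbv, hpc d₂ (f j), hfd₂]
          · fin_cases v
            · simp [hbv, hpc d₂ d₁, hd₁₂]
            · simp [hbv, QuadraticMap.polar_self, hd₂]; ring
  have := congrArg (fun q : QuadraticForm K (Idx m → K) => q x) key
  simp only [QuadraticMap.comp_apply, Fintype.linearCombination_apply, _root_.smul_apply,
    smul_eq_mul] at this
  exact this

theorem REDF2.exists_basis {K : Type*} [Field K] [Finite K] {n : ℕ} (hn : 2 ≤ n) (heven : Even n)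
    (Q₀ : QuadraticForm K (Fin n → K))
    (hnd : ∀ v : Fin n → K, (∀ w, QuadraticMap.polar Q₀ v w = 0) → v = 0) :
    ∃ (m : ℕ) (a b c : K) (bv : Idx m → (Fin n → K)), 2 * m + 2 = n ∧ 4 * b - a ^ 2 ≠ 0 ∧ c ≠ 0 ∧
      ∀ x : Idx m → K, Q₀ (∑ k, x k • bv k) = c * QfMinus m K a b x := by
  classical
  obtain ⟨m', e, f, A, hW⟩ := Cfsg.Agent.Helper13.exists_wittDecomp (F := K) n Q₀
    (Module.finrank_fin_fun K) hnd
  have hrank : Module.finrank K A + 2 * m' = n := by
    have := hW.rank
    rw [Module.finrank_fin_fun] at this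
    exact this
  have hA2 := hW.rankA
  obtain ⟨k, hk⟩ := heven
  have hcases : Module.finrank K A = 0 ∨ Module.finrank K A = 2 := by omega
  rcases hcases with hA0 | hA2'
  · -- the hyperbolic case
    obtain ⟨m, rfl⟩ : ∃ m, m' = m + 1 := ⟨m' - 1, by omega⟩
    refine ⟨m, 1, 0, 1, Sum.elim (Sum.elim (fun i => e (Fin.castSucc i)) (fun i => f (Fin.castSucc i)))
      ![e (Fin.last m) + f (Fin.last m), f (Fin.last m)], by omega, ?_, one_ne_zero, ?_⟩
    · norm_num
    · intro x
      apply REDF2.frame_identity Q₀ (fun i => e (Fin.castSucc i)) (fun i => f (Fin.castSucc i))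
        (e (Fin.last m) + f (Fin.last m)) (f (Fin.last m)) 1 0 1
      · intro i; exact hW.Qe _
      · intro i; exact hW.Qf _
      · intro i j
        rw [hW.ef]
        by_cases hij : i = j
        · subst hij; simp
        · rw [if_neg hij, if_neg]
          intro h; exact hij (Fin.castSucc_injective _ h)
      · intro i j; exact hW.ee _ _
      · intro i j; exact hW.ff _ _
      · intro i
        rw [QuadraticMap.polar_add_right, hW.ee, hW.ef, if_neg (Fin.castSucc_lt_last i).ne, add_zero]
      · intro i
        rw [hW.ef, if_neg (Fin.castSucc_lt_last i).ne]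
      · intro i
        rw [QuadraticMap.polar_add_right, hW.ff, QuadraticMap.polar_comm, hW.ef,
          if_neg (Fin.castSucc_lt_last i).ne', add_zero]
      · intro i; exact hW.ff _ _
      · have h := QuadraticMap.map_add (⇑Q₀) (e (Fin.last m)) (f (Fin.last m))
        rw [h, hW.Qe, hW.Qf, hW.ef, if_pos rfl]; ring
      · rw [hW.Qf]; ring
      · rw [QuadraticMap.polar_add_left, hW.ef, if_pos rfl, hW.ff]; ring
  · -- the case of an anisotropic plane
    let bA := Module.finBasisOfFinrankEq K A hA2'
    obtain ⟨d₁, hd₁⟩ : ∃ d₁ : Fin n → K, d₁ = ((bA 0 : A) : Fin n → K) := ⟨_, rfl⟩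
    obtain ⟨d₂, hd₂⟩ : ∃ d₂ : Fin n → K, d₂ = ((bA 1 : A) : Fin n → K) := ⟨_, rfl⟩
    have hd₁A : d₁ ∈ A := by rw [hd₁]; exact (bA 0).2
    have hd₂A : d₂ ∈ A := by rw [hd₂]; exact (bA 1).2
    have hd₁ne : d₁ ≠ 0 := by
      intro h
      apply bA.ne_zero 0
      apply Subtype.ext
      rw [← hd₁, h]; rfl
    obtain ⟨c, hc⟩ : ∃ c : K, c = Q₀ d₁ := ⟨_, rfl⟩
    obtain ⟨p, hp⟩ : ∃ p : K, p = QuadraticMap.polar Q₀ d₁ d₂ := ⟨_, rfl⟩
    obtain ⟨r, hr⟩ : ∃ r : K, r = Q₀ d₂ := ⟨_, rfl⟩
    have hc0 : c ≠ 0 := by
      intro h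
      apply hd₁ne
      apply hW.aniso d₁ hd₁A
      rw [← hc, h]
    have hspan : ∀ a' ∈ A, ∃ s t : K, a' = s • d₁ + t • d₂ := by
      intro a' ha'
      have h1 := bA.sum_repr ⟨a', ha'⟩
      rw [Fin.sum_univ_two] at h1
      refine ⟨bA.repr ⟨a', ha'⟩ 0, bA.repr ⟨a', ha'⟩ 1, ?_⟩
      have h2 := congrArg (Subtype.val) h1
      rw [hd₁, hd₂]
      exact h2.symm
    have hLI : ∀ s t : K, s • d₁ + t • d₂ = 0 → s = 0 ∧ t = 0 := by
      intro s t hst
      have h1 : s • bA 0 + t • bA 1 = 0 := by
        apply Subtype.ext
        rw [hd₁, hd₂] at hst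
        exact hst
      have hli := bA.linearIndependent
      rw [Fintype.linearIndependent_iff] at hli
      have h2 := hli ![s, t] (by simpa [Fin.sum_univ_two] using h1)
      exact ⟨by simpa using h2 0, by simpa using h2 1⟩
    have h11 : QuadraticMap.polar Q₀ d₁ d₁ = 2 * c := by
      rw [Cfsg.Agent.Helper13.polar_self', hc]
    have h22 : QuadraticMap.polar Q₀ d₂ d₂ = 2 * r := by
      rw [Cfsg.Agent.Helper13.polar_self', hr]
    have h21 : QuadraticMap.polar Q₀ d₂ d₁ = p := by
      rw [QuadraticMap.polar_comm, hp]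
    have hdisc : 4 * r * c - p ^ 2 ≠ 0 := by
      intro hzero
      by_cases h2 : (2 : K) = 0
      · have hp0 : p = 0 := by
          have h4 : (4 : K) = 0 := by
            have : (4 : K) = 2 * 2 := by norm_num
            rw [this, h2, mul_zero]
          rw [h4] at hzero
          have : p ^ 2 = 0 := by linear_combination -hzero
          exact pow_eq_zero_iff (two_ne_zero) |>.mp this
        apply hd₁ne
        apply hW.nondegA d₁ hd₁A
        intro a' ha'
        obtain ⟨s, t, rfl⟩ := hspan a' ha'
        rw [QuadraticMap.polar_add_right, QuadraticMap.polar_smul_right, QuadraticMap.polar_smul_right,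
          h11, ← hp, hp0, h2]
        simp
      · have hw : p • d₁ + (-(2 * c)) • d₂ = 0 := by
          apply hW.nondegA _ (A.add_mem (A.smul_mem _ hd₁A) (A.smul_mem _ hd₂A))
          intro a' ha'
          obtain ⟨s, t, rfl⟩ := hspan a' ha'
          rw [QuadraticMap.polar_add_right, QuadraticMap.polar_smul_right,
            QuadraticMap.polar_smul_right, QuadraticMap.polar_add_left, QuadraticMap.polar_add_left,
            QuadraticMap.polar_smul_left, QuadraticMap.polar_smul_left, QuadraticMap.polar_smul_left,
            QuadraticMap.polar_smul_left, h11, h22, h21, ← hp]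
          simp only [smul_eq_mul]
          linear_combination (-t) * hzero
        have := (hLI _ _ hw).2
        have h2c : 2 * c = 0 := by linear_combination -this
        rcases mul_eq_zero.mp h2c with h | h
        · exact h2 h
        · exact hc0 h
    refine ⟨m', p / c, r / c, c, Sum.elim (Sum.elim e (fun i => c • f i)) ![d₁, d₂], by omega, ?_,
      hc0, ?_⟩
    · intro h
      apply hdisc
      have : 4 * r * c - p ^ 2 = c ^ 2 * (4 * (r / c) - (p / c) ^ 2) := by
        field_simp
      rw [this, h, mul_zero]
    · intro x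
      apply REDF2.frame_identity Q₀ e (fun i => c • f i) d₁ d₂ (p / c) (r / c) c
      · intro i; exact hW.Qe _
      · intro i
        show Q₀ (c • f i) = 0
        rw [QuadraticMap.map_smul, hW.Qf, smul_zero]
      · intro i j
        show QuadraticMap.polar Q₀ (e i) (c • f j) = _
        rw [QuadraticMap.polar_smul_right, hW.ef, smul_eq_mul]
        split_ifs <;> simp
      · intro i j; exact hW.ee _ _
      · intro i j
        show QuadraticMap.polar Q₀ (c • f i) (c • f j) = 0
        rw [QuadraticMap.polar_smul_right, QuadraticMap.polar_smul_left, hW.ff, smul_zero, smul_zero]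
      · intro i; exact hW.eA d₁ hd₁A i
      · intro i; exact hW.eA d₂ hd₂A i
      · intro i
        show QuadraticMap.polar Q₀ (c • f i) d₁ = 0
        rw [QuadraticMap.polar_smul_left, hW.fA d₁ hd₁A i, smul_zero]
      · intro i
        show QuadraticMap.polar Q₀ (c • f i) d₂ = 0
        rw [QuadraticMap.polar_smul_left, hW.fA d₂ hd₂A i, smul_zero]
      · exact hc.symm
      · rw [← hr]; field_simp
      · rw [← hp]; field_simp

end Cfsg.Agent.S5702P
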