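import Mathlib
import Cfsg.Agent.Helper28.S5704SDefs
import Cfsg.Agent.Helper14.S5704SEXCROSS
import Cfsg.Agent.Helper9.S5704SCOMM

/-! S5704 chapter SPREAD, piece C2 (driver helper28; helper20). -/

set_option autoImplicit false
set_option linter.unusedSectionVars false
set_option linter.unusedVariables false

namespace Cfsg.Agent.S5704S

open Matrix Cfsg.Agent.Helper28.Sg

variable {F : Type*} [Field F] {n a b m : ℕ}

section steps

variable {Q : QuadraticForm F (Fin n → F)} {M : Subgroup ↥(Cfsg.isometryGroup F ⇑Q)}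
  {e : Fin n ≃ Fin a × Fin b} {P : Matrix (Fin n) (Fin n) F}
  {GU : Matrix (Fin a) (Fin a) F} {GW : Matrix (Fin b) (Fin b) F}

theorem C2.main (hT : TData Q e P GU GW) (ha : 4 ≤ a)
    (hAp : ∀ u u' w, InM Q M (pt e P u w) (pt e P u' w)) :
    ∀ u u' w w', bf GU u u' = 0 → bf GW w w' ≠ 0 → InM Q M (pt e P u w) (pt e P u' w') := by
  intro u u' w w' huu' hww'
  obtain ⟨u₂, u₂', h1, h2, h3⟩ := EX.cross hT.sympU ha u u'
  have hpp' : B Q (pt e P u w) (pt e P u' w') = 0 := by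
    show QuadraticMap.polar ⇑Q _ _ = 0
    rw [hT.pol, huu', zero_mul]
  have hpy' : B Q (pt e P u w) (pt e P u₂' w') = 0 := by
    show QuadraticMap.polar ⇑Q _ _ = 0
    rw [hT.pol, h2, zero_mul]
  have hp'y : B Q (pt e P u' w') (pt e P ((bf GW w w')⁻¹ • u₂) w) = 0 := by
    show QuadraticMap.polar ⇑Q _ _ = 0
    rw [hT.pol, bf_smul_right, h1, mul_zero, zero_mul]
  have key := COMM.main (M := M) (hT.sing ((bf GW w w')⁻¹ • u₂) w) (hT.sing u₂' w') hpp' hpy' hp'y
    (hAp u ((bf GW w w')⁻¹ • u₂) w) (hAp u' u₂' w')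
  have hB : B Q (pt e P ((bf GW w w')⁻¹ • u₂) w) (pt e P u₂' w') = 1 := by
    show QuadraticMap.polar ⇑Q _ _ = 1
    rw [hT.pol, bf_smul_left, h3, mul_one, inv_mul_cancel₀ hww']
  rw [hB, one_smul] at key
  exact key

end steps

end Cfsg.Agent.S5704S
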