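import Mathlib
import Cfsg.Agent.Helper28.S5704SDefs
import Cfsg.Agent.Helper18.S5704SEXTWO

/-! S5704 chapter SPREAD, piece C2TWO (driver helper28; helper20). -/

set_option autoImplicit false
set_option linter.unusedSectionVars false
set_option linter.unusedVariables false

namespace Cfsg.Agent.S5704S

open Matrix Cfsg.Agent.Helper28.Sg

variable {F : Type*} [Field F] {n a b m : ℕ}

section steps

variable {Q : QuadraticForm F (Fin n → F)} {M : Subgroup ↥(Cfsg.isometryGroup F ⇑Q)}
  {e : Fin n ≃ Fin a × Fin b} {P : Matrix (Fin n) (Fin n) F}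
  {GU : Matrix (Fin a) (Fin a) F} {GW : Matrix (Fin b) (Fin b) F}

theorem C2TWO.main (hT : TData Q e P GU GW) (ha : a = 2)
    (hBp : ∀ u w w', InM Q M (pt e P u w) (pt e P u w')) :
    ∀ u u' w w', bf GU u u' = 0 → InM Q M (pt e P u w) (pt e P u' w') := by
  subst ha
  intro u u' w w' huu'
  by_cases hu : u = 0
  · subst hu
    rw [pt_zero_left]
    exact InM.zero_left _
  · obtain ⟨c, rfl⟩ := EX.two hT.sympU hu huu'
    rw [pt_smul_left, ← pt_smul_right]
    exact hBp u w (c • w')

end steps

end Cfsg.Agent.S5704S
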