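import Mathlib
import Cfsg.Agent.Helper28.S5751Defs
import Cfsg.Agent.Helper28.S5751TabS
import Cfsg.Agent.Helper7.S5751SLB
import Cfsg.Agent.Helper6.Chev.BruhatNF

set_option autoImplicit false
set_option linter.unusedSectionVars false
set_option linter.unusedVariables false
set_option maxRecDepth 4000

/-!
# S5751, piece LOWB: `g Q_{m+1} g⁻¹ ≤ Q_m`, `Q_6 ≠ 1`, `Q_7 = 1`
-/

namespace Cfsg.Agent.S5751P

open Cfsg.Lie Cfsg.Agent.Helper6 Cfsg.Agent.Helper28.BT Cfsg.Agent.Helper2.Levi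

theorem lowb_gE_eq : gE = nU hBE (chevE8.simple jE.val) (one_ne_zero (α := F2)) := rfl

theorem gE_conj_QE (m : ℕ) (hm : 1 ≤ m) : ∀ y ∈ QE (m + 1), gE * y * gE⁻¹ ∈ QE m := by
  have Δ := bnE F2
  have hm0 : (0 : ℝ) < (m : ℝ) := by
    have : 0 < m := by omega
    exact_mod_cast this
  have hm1 : (0 : ℝ) < ((m + 1 : ℕ) : ℝ) := by
    have : 0 < m + 1 := by omega
    exact_mod_cast this
  intro y hy
  have hy' : y ∈ RGe chevE8 F2 muE ((m + 1 : ℕ) : ℝ) :=
    QF_le_RGe tabE8 hoddE dominant_muE hm1 hy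
  have hA := Δ.hAll jE.val jE.isLt
  have hsimple : lev chevE8 muE (chevE8.simple jE.val) = 1 := by
    rw [lev_muE, levZ_simple, if_pos (show jE.val = 3 from rfl)]
    simp
  -- the preimage of `QE m` under conjugation by `gE` contains the generators
  have hle : RGe chevE8 F2 muE ((m + 1 : ℕ) : ℝ) ≤
      (QE m).comap (MulAut.conj gE).toMonoidHom := by
    unfold RGe
    rw [Subgroup.closure_le]
    rintro g ⟨r, t, hr, hlev, hg⟩
    have hgx : g = xU hBE r t := Units.ext hg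
    rw [SetLike.mem_coe, Subgroup.mem_comap, MulEquiv.coe_toMonoidHom, MulAut.conj_apply, hgx,
      lowb_gE_eq, nU_conj_xU hBE hA hr t]
    apply RGe_le_QF tabE8 muE hm0
    apply Subgroup.subset_closure
    have hrlt : wR chevE8 (chevE8.simple jE.val) r < chevE8.nroots :=
      wR_lt Δ.hB hA.hS.1 hA.hR hr
    refine ⟨_, _, hrlt, ?_, rfl⟩
    -- the level drops by at most one
    have hlw := lev_wR Δ jE muE hr
    rw [hsimple, mul_one] at hlw
    have hne : r ≠ chevE8.simple jE.val := by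
      intro h
      rw [h, hsimple] at hlev
      push_cast at hlev
      linarith
    have h2 : chevE8.cartan jE.val r ≤ 1 := cartan_le_one hr jE hne
    have h3 : ((chevE8.cartan jE.val r : ℤ) : ℝ) ≤ 1 := by exact_mod_cast h2
    rw [hlw]
    push_cast at hlev
    linarith
  have h := hle hy'
  rw [Subgroup.mem_comap, MulEquiv.coe_toMonoidHom, MulAut.conj_apply] at h
  exact h

theorem QE_seven : QE 7 = ⊥ := by
  have h7 : (0 : ℝ) < ((7 : ℕ) : ℝ) := by norm_num
  rw [eq_bot_iff]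
  refine le_trans (QF_le_RGe tabE8 hoddE dominant_muE h7) ?_
  unfold RGe
  rw [Subgroup.closure_le]
  rintro g ⟨r, t, hr, hlev, -⟩
  exfalso
  rw [lev_muE] at hlev
  have h1 : levZ r ≤ 6 := levZ_le hr
  have h2 : ((levZ r : ℤ) : ℝ) ≤ 6 := by exact_mod_cast h1
  push_cast at hlev
  linarith

theorem QE_six_ne_bot : QE 6 ≠ ⊥ := by
  have Δ := bnE F2
  have h6 : (0 : ℝ) < ((6 : ℕ) : ℝ) := by norm_num
  intro h
  have hr : (239 : ℕ) < chevE8.nroots := by rw [nrootsE]; norm_num
  have hmem : xU hBE 239 (1 : F2) ∈ QE 6 := by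
    apply RGe_le_QF tabE8 muE h6
    apply Subgroup.subset_closure
    refine ⟨239, 1, hr, ?_, rfl⟩
    rw [lev_muE]
    have : levZ 239 = 6 := by decide
    rw [this]
    norm_num
  rw [h, Subgroup.mem_bot] at hmem
  exact Δ.xU_one_ne_one hr hmem

end Cfsg.Agent.S5751P
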