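import Mathlib
import Cfsg.Prelude.Def_Classical
import Cfsg.Agent.Helper23.S5953Defs
import Cfsg.Agent.Helper20.S5954Defs

set_option autoImplicit false
open scoped MatrixGroups Matrix

/-! # S5954: bridge between `F^n` with `Cfsg.hermForm` and helper23's abstract Hermitian framework. -/

namespace Cfsg.Agent.S5954P

open Cfsg.Agent.S5953P Cfsg.Agent.Helper28.HermFrame
open Cfsg.Agent.S2644 Cfsg.Agent.Helper2.SUGen Cfsg.Agent.Helper28.UPair Cfsg.Agent.S5984P

variable {F : Type*} [Field F] {q n : ℕ}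

theorem isUn_iff_pres (x : Matrix (Fin n) (Fin n) F) : IsUn q x ↔ Pres (q := q) x := Iff.rfl

theorem hB_eq (D : Frob F q) (u v : Fin n → F) : hB D.σ n u v = Cfsg.hermForm n F q v u :=
  hB_herm D.σ D.pow n u v

theorem nondegU_iff (D : Frob F q) (W : Submodule F (Fin n → F)) :
    NondegU (hB D.σ n) W ↔ NonDeg q W := by
  rw [nonDeg_iff]
  constructor
  · intro h u hu hu0
    obtain ⟨v, hv, hne⟩ := h u hu hu0
    rw [hB_eq] at hne
    exact ⟨v, hv, h_symm_ne D hne⟩
  · intro h u hu hu0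
    obtain ⟨v, hv, hne⟩ := h u hu hu0
    refine ⟨v, hv, ?_⟩
    rw [hB_eq]
    exact h_symm_ne D hne

theorem orthU_iff (D : Frob F q) (U W : Submodule F (Fin n → F)) :
    OrthU (hB D.σ n) U W ↔ Orth q U W := by
  constructor
  · intro h u hu w hw
    have := h u hu w hw
    rw [hB_eq] at this
    exact h_symm_zero D this
  · intro h u hu w hw
    rw [hB_eq]
    exact h_symm_zero D (h u hu w hw)

theorem isHerm_std [Fintype F] (hF : Fintype.card F = q ^ 2) (D : Frob F q) :
    IsHerm q (hB D.σ n) := hB_isHerm D.σ hF D.pow n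

theorem nondegU_top (D : Frob F q) : NondegU (hB D.σ n) ⊤ := hB_nondegU D.σ D.invol n

theorem toLin'_pow' (x : Matrix (Fin n) (Fin n) F) (k : ℕ) :
    (Matrix.toLin' x) ^ k = Matrix.toLin' (x ^ k) := by
  induction k with
  | zero => rw [pow_zero, pow_zero, Matrix.toLin'_one]; rfl
  | succ k ih => rw [pow_succ, pow_succ, ih, Matrix.toLin'_mul]; rfl

/-- GUYU, in the `Pres` language -/
theorem isYU_of_pres [Fintype F] (hF : Fintype.card F = q ^ 2) (D : Frob F q)
    (x : Matrix (Fin n) (Fin n) F) (hx : Pres (q := q) x) (r : ℕ) (hxr : x ^ r = 1) :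
    IsYU q (hB D.σ n) (Matrix.toLin' x) r := by
  refine ⟨isHerm_std hF D, nondegU_top D, fun u v => ?_, ?_⟩
  · exact IsUn.toLin D.pow hx u v
  · rw [toLin'_pow', hxr, Matrix.toLin'_one]; rfl

theorem isom_of_pres (D : Frob F q) (x : Matrix (Fin n) (Fin n) F) (hx : Pres (q := q) x)
    (u v : Fin n → F) :
    hB D.σ n (Matrix.toLin' x u) (Matrix.toLin' x v) = hB D.σ n u v :=
  IsUn.toLin D.pow hx u v

theorem pres_inj (D : Frob F q) (x : Matrix (Fin n) (Fin n) F) (hx : Pres (q := q) x) :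
    Function.Injective (Matrix.toLin' x) := by
  rw [← LinearMap.ker_eq_bot, eq_bot_iff]
  intro v hv
  rw [LinearMap.mem_ker, Matrix.toLin'_apply] at hv
  rw [Submodule.mem_bot]
  apply h_nondeg D
  intro y
  rw [← hx v y, hv, h_zero_left]

theorem good_iff_u (D : Frob F q) (m : ℕ) (x : Matrix (Fin n) (Fin n) F) :
    Good q m x ↔ ∃ W : Submodule F (Fin n → F), Module.finrank F W = m ∧
      NondegU (hB D.σ n) W ∧ W.map (Matrix.toLin' x) ≤ W := by
  constructor
  · rintro ⟨W, h1, h2, h3⟩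
    exact ⟨W, h1, (nondegU_iff D W).mpr h2, (inv_iff_map x W).mpr h3⟩
  · rintro ⟨W, h1, h2, h3⟩
    exact ⟨W, h1, (nondegU_iff D W).mp h2, (inv_iff_map x W).mp h3⟩

theorem Pres.pow' {x : Matrix (Fin n) (Fin n) F} (hx : Pres (q := q) x) (k : ℕ) :
    Pres (q := q) (x ^ k) := by
  induction k with
  | zero => intro u v; rw [pow_zero, Matrix.one_mulVec, Matrix.one_mulVec]
  | succ k ih => rw [pow_succ]; exact ih.mul hx

/-- NORMZ: the scalar `x ^ r` of an isometry has norm one -/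
theorem norm_of_pow (D : Frob F q) (hn : 0 < n) (x : Matrix (Fin n) (Fin n) F)
    (hx : Pres (q := q) x) (r : ℕ) (z : F)
    (hz : x ^ r = z • (1 : Matrix (Fin n) (Fin n) F)) : z ^ (q + 1) = 1 := by
  classical
  let e : Fin n → F := Pi.single ⟨0, hn⟩ 1
  have he : Cfsg.hermForm n F q e e = 1 := by
    have := herm_single_right D.σ D.pow e ⟨0, hn⟩
    rw [this]
    simp [e]
  have h1 : Cfsg.hermForm n F q ((x ^ r) *ᵥ e) ((x ^ r) *ᵥ e) = Cfsg.hermForm n F q e e :=
    (Pres.pow' hx r) e e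
  rw [hz, Matrix.smul_mulVec, Matrix.one_mulVec, h_smul_left, h_smul_right D, he, D.pow] at h1
  rw [pow_succ, mul_comm]
  simpa using h1

/-- the frozen left-hand side is `AllGood` -/
theorem frozen_iff_allGood (m r : ℕ) :
    (∀ x : Matrix.SpecialLinearGroup (Fin n) F, x ∈ Cfsg.SU n F q →
      (∃ z : F, ((x ^ r : Matrix.SpecialLinearGroup (Fin n) F) : Matrix (Fin n) (Fin n) F) =
        z • (1 : Matrix (Fin n) (Fin n) F)) →
      (∀ z : F, (x : Matrix (Fin n) (Fin n) F) ≠ z • (1 : Matrix (Fin n) (Fin n) F)) →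
      ∃ W : Submodule F (Fin n → F), Module.finrank F ↥W = m ∧
        (∀ u ∈ W, u ≠ 0 → ∃ v ∈ W, Cfsg.hermForm n F q u v ≠ 0) ∧
        W.map (Matrix.toLin' (x : Matrix (Fin n) (Fin n) F)) ≤ W) ↔ AllGood F q n m r := by
  constructor
  · intro h x hx hdet hz hns
    let X : Matrix.SpecialLinearGroup (Fin n) F := ⟨x, hdet⟩
    have hX : (X : Matrix (Fin n) (Fin n) F) = x := rfl
    have := h X hx (by
      obtain ⟨z, hz⟩ := hz
      exact ⟨z, by rw [Matrix.SpecialLinearGroup.coe_pow, hX]; exact hz⟩) hns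
    exact (good_iff m x).mpr this
  · intro h x hx hz hns
    have := h x.1 hx x.2 (by
      obtain ⟨z, hz⟩ := hz
      exact ⟨z, by rw [← Matrix.SpecialLinearGroup.coe_pow]; exact hz⟩) hns
    exact (good_iff m x.1).mp this

end Cfsg.Agent.S5954P
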