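import Mathlib
import Cfsg.Prelude.Def_Classical
import Cfsg.Agent.Helper20.S5954Bridge
import Cfsg.Agent.Helper3.S5953RTHROOT
import Cfsg.Agent.Helper7.S5953FIXSPLITU
import Cfsg.Agent.Helper22.S5954STRUCTU
import Cfsg.Agent.Helper18.S5953ARITHU
import Cfsg.Agent.Helper18.S5954NDSUBU
import Cfsg.Agent.Helper22.S5954NDSUMU
import Cfsg.Agent.Helper28.S5954NTA
import Cfsg.Agent.Helper7.S5953ELTU
import Cfsg.Agent.Helper8.S5955INVSPLIT
import Cfsg.Agent.Helper18.S5954NDSPLITU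

set_option autoImplicit false
open scoped MatrixGroups Matrix

/-! # S5954, chapter D: `r` odd, `r ≠ p`, `r ∤ q + 1`. -/

namespace Cfsg.Agent.S5954P

open Polynomial Cfsg.Agent.S5953P Cfsg.Agent.S5955P Cfsg.Agent.Helper28.HW Cfsg.Agent.Helper28.HermFrame
open Cfsg.Agent.S2644 Cfsg.Agent.Helper2.SUGen Cfsg.Agent.Helper28.UPair Cfsg.Agent.S5984P

/-- a prime different from the characteristic does not divide `q` -/
theorem not_dvd_q {F : Type*} [Field F] [Fintype F] {p : ℕ} [Fact p.Prime] [CharP F p] {q : ℕ}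
    (hF : Fintype.card F = q ^ 2) (r : ℕ) [Fact r.Prime] (hrp : r ≠ p) : ¬ r ∣ q := by
  intro h
  obtain ⟨e, he⟩ := FiniteField.card F p
  have h1 : r ∣ p ^ (e : ℕ) := by
    rw [← he.2, hF]
    exact dvd_pow h (by norm_num)
  have h2 := (Nat.prime_dvd_prime_iff_eq (Fact.out : r.Prime) (Fact.out : p.Prime)).mp
    ((Fact.out : r.Prime).dvd_of_dvd_pow h1)
  exact hrp h2

/-- the characteristic divides `q` -/
theorem p_dvd_q {F : Type*} [Field F] [Fintype F] {p : ℕ} [Fact p.Prime] [CharP F p] {q : ℕ}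
    (hF : Fintype.card F = q ^ 2) : p ∣ q := by
  obtain ⟨e, he⟩ := FiniteField.card F p
  have h1 : p ∣ q ^ 2 := by
    rw [← hF, he.2]
    exact dvd_pow_self p e.ne_zero
  exact (Fact.out : p.Prime).dvd_of_dvd_pow h1

/-- reduction to an element of order `r`: `r` prime to `q + 1` -/
theorem exists_unit_scalar {F : Type*} [Field F] [Fintype F] {q n : ℕ}
    (hF : Fintype.card F = q ^ 2) (D : Frob F q) (hn : 0 < n) (r : ℕ) [Fact r.Prime]
    (hrq : ¬ r ∣ q + 1) (x : Matrix (Fin n) (Fin n) F) (hx : Pres (q := q) x) (z : F)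
    (hz : x ^ r = z • (1 : Matrix (Fin n) (Fin n) F)) :
    ∃ μ : F, μ ≠ 0 ∧ Pres (q := q) (μ • x) ∧ (μ • x) ^ r = 1 := by
  have hz1 := norm_of_pow D hn x hx r z hz
  obtain ⟨μ, hμ1, hμ2⟩ := exists_rth_root_norm_one hF r hrq z hz1
  have hμ0 : μ ≠ 0 := by
    rintro rfl
    rw [zero_pow (by omega)] at hμ1
    exact zero_ne_one hμ1
  refine ⟨μ, hμ0, pres_smul D μ hμ1 x hx, ?_⟩
  rw [_root_.smul_pow, hz, smul_smul, hμ2, one_smul]

theorem chD_suff {F : Type*} [Field F] [Fintype F] {p : ℕ} [Fact p.Prime] [CharP F p] {q : ℕ}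
    (hF : Fintype.card F = q ^ 2) (n m : ℕ) (hn : 0 < n) (hmn : m ≤ n)
    (r : ℕ) [Fact r.Prime] (hr2 : r ≠ 2) (hrp : r ≠ p) (hrq1 : ¬ r ∣ q + 1)
    (hcond : m % cu q r ≤ n % cu q r) : AllGood F q n m r := by
  intro x hx _ ⟨z, hz⟩ _
  obtain ⟨D⟩ := frobOf hF
  obtain ⟨μ, hμ0, hu, hur⟩ := exists_unit_scalar hF D hn r hrq1 x hx z hz
  rw [← good_smul m μ hμ0 x]
  set u := μ • x with hu_def
  rw [good_iff_u D]
  set B := hB D.σ n with hB_def
  set y := Matrix.toLin' u with hy_def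
  have h : IsYU q B y r := isYU_of_pres hF D u hu r hur
  obtain ⟨hcompl, hCN, _, hNinv, _, hCnd, hNnd, hNC⟩ := fix_split_u r hrp B y h
  obtain ⟨hcdvd, hsub⟩ := exists_nd_inv_sub_u r hr2 hrp B y h (LinearMap.range (y - 1)) hNinv hNnd hNC
  have hdim : Module.finrank F (LinearMap.ker (y - 1)) + Module.finrank F (LinearMap.range (y - 1)) = n := by
    have := Submodule.finrank_add_eq_of_isCompl hcompl
    rw [this, Module.finrank_fin_fun]
  set κ := Module.finrank F (LinearMap.ker (y - 1)) with hκ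
  set ν := Module.finrank F (LinearMap.range (y - 1)) with hν
  set c := cu q r with hc
  have hcpos : 0 < c := by
    obtain ⟨_, _, _, _, _, h6, _⟩ := cu_arith hF r hr2 hrp
    have hr3 : 2 ≤ r := (Fact.out : r.Prime).two_le
    exact Nat.pos_of_dvd_of_pos h6 (by omega)
  obtain ⟨t, ht⟩ := hcdvd
  -- arithmetic
  have harith : ∃ a k : ℕ, a + c * k = m ∧ a ≤ κ ∧ c * k ≤ ν := by
    have hnκ : n % c = κ % c := by
      rw [← hdim, ht, Nat.add_mul_mod_self_left]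
    by_cases hle : m / c ≤ t
    · refine ⟨m % c, m / c, Nat.mod_add_div m c, ?_, ?_⟩
      · calc m % c ≤ n % c := hcond
          _ = κ % c := hnκ
          _ ≤ κ := Nat.mod_le _ _
      · rw [ht]; exact Nat.mul_le_mul_left c hle
    · push Not at hle
      have h1 : c * t ≤ m := by
        calc c * t ≤ c * (m / c) := Nat.mul_le_mul_left c hle.le
          _ ≤ m := Nat.mul_div_le m c
      refine ⟨m - c * t, t, by omega, ?_, by rw [ht]⟩
      omega
  obtain ⟨a, k, hak, haκ, hkν⟩ := harith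
  obtain ⟨W₁, hW₁C, hW₁nd, hW₁dim⟩ := exists_nd_sub_u B h.herm (LinearMap.ker (y - 1)) hCnd a haκ
  obtain ⟨W₂, hW₂N, hW₂inv, hW₂nd, hW₂dim⟩ := hsub k hkν
  have horth : OrthU B W₁ W₂ := fun u hu v hv => hCN u (hW₁C hu) v (hW₂N hv)
  obtain ⟨hnd, _, hfin⟩ := nd_sup_u B h.herm W₁ W₂ hW₁nd hW₂nd horth
  refine ⟨W₁ ⊔ W₂, by rw [hfin, hW₁dim, hW₂dim, hak], hnd, ?_⟩
  rw [Submodule.map_sup]
  apply sup_le_sup _ hW₂inv
  rintro _ ⟨v, hv, rfl⟩
  have hvC := hW₁C hv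
  rw [LinearMap.mem_ker, LinearMap.sub_apply, Module.End.one_apply, sub_eq_zero] at hvC
  rw [hvC]
  exact hv

theorem chD_nec {F : Type*} [Field F] [Fintype F] {p : ℕ} [Fact p.Prime] [CharP F p] {q : ℕ}
    (hF : Fintype.card F = q ^ 2) (n m : ℕ) (hn : 0 < n) (hm : 1 ≤ m) (hmn : m ≤ n)
    (r : ℕ) [Fact r.Prime] (hr2 : r ≠ 2) (hrp : r ≠ p) (hrq1 : ¬ r ∣ q + 1)
    (hrΩ : r ∣ Nat.card {W : Submodule F (Fin n → F) // Module.finrank F W = m ∧ NonDeg q W})
    (hall : AllGood F q n m r) : cu q r ≤ m ∧ m % cu q r ≤ n % cu q r := by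
  obtain ⟨D⟩ := frobOf hF
  set c := cu q r with hc
  have hcpos : 0 < c := by
    obtain ⟨_, _, _, _, _, h6, _⟩ := cu_arith hF r hr2 hrp
    have hr3 : 2 ≤ r := (Fact.out : r.Prime).two_le
    exact Nat.pos_of_dvd_of_pos h6 (by omega)
  obtain ⟨j, hj1, hj2, hj3⟩ := exists_dvd_eps_of_dvd_card hF r (not_dvd_q hF r hrp) n m hmn hrΩ
  have hcj : c ∣ j := by
    obtain ⟨_, _, h3, h4⟩ := cu_arith2 hF r hr2 hrp
    unfold eps at hj3
    by_cases hev : Even j
    · rw [if_pos hev] at hj3; exact h3 j hev hj3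
    · rw [if_neg hev] at hj3; exact h4 j (Nat.not_even_iff_odd.mp hev) hj3
  have hj0 : 0 < j := by omega
  have hcn : c ≤ n := le_trans (Nat.le_of_dvd hj0 hcj) hj2
  obtain ⟨X, hXSU, hXr, hX1, hXker⟩ := exists_elt_u hF r hr2 hrp hrq1 n hcn
  set x : Matrix (Fin n) (Fin n) F := (X : Matrix (Fin n) (Fin n) F) with hx_def
  have hx : Pres (q := q) x := hXSU
  have hns : ∀ z : F, x ≠ z • (1 : Matrix (Fin n) (Fin n) F) := by
    intro z hz
    have hz1 : z ^ (q + 1) = 1 := norm_of_pow D hn x hx 1 z (by rw [pow_one]; exact hz)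
    have hzr : z ^ r = 1 := by
      have h1 := hXr
      rw [hz, _root_.smul_pow, one_pow] at h1
      have h2 := congrFun (congrFun h1 ⟨0, hn⟩) ⟨0, hn⟩
      simpa using h2
    have hcop : Nat.Coprime r (q + 1) :=
      (Nat.Prime.coprime_iff_not_dvd (Fact.out : r.Prime)).mpr hrq1
    have hz' : z ^ Nat.gcd r (q + 1) = 1 := pow_gcd_eq_one.mpr ⟨hzr, hz1⟩
    rw [hcop, pow_one] at hz'
    apply hX1
    rw [hz, hz', one_smul]
  have hgood := hall x hx X.2 ⟨1, by rw [hXr, one_smul]⟩ hns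
  rw [good_iff_u D] at hgood
  obtain ⟨W, hWdim, hWnd, hWinv⟩ := hgood
  set B := hB D.σ n with hB_def
  set y := Matrix.toLin' x with hy_def
  have h : IsYU q B y r := isYU_of_pres hF D x hx r hXr
  obtain ⟨hcompl, hCN, _, hNinv, hCinv, hCnd, hNnd, hNC⟩ := fix_split_u r hrp B y h
  obtain ⟨hsplit, hsum, _⟩ := inv_split r hrp y h.pow W hWinv
  have horth : OrthU B (W ⊓ LinearMap.ker (y - 1)) (W ⊓ LinearMap.range (y - 1)) :=
    fun u hu v hv => hCN u hu.2 v hv.2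
  have hnd2 : NondegU B (W ⊓ LinearMap.range (y - 1)) := by
    have := nd_of_sup_u B h.herm _ _ horth (by rw [hsplit]; exact hWnd)
    exact this.2
  have hinv2 : (W ⊓ LinearMap.range (y - 1)).map y ≤ W ⊓ LinearMap.range (y - 1) := by
    rintro _ ⟨v, hv, rfl⟩
    exact ⟨hWinv ⟨v, hv.1, rfl⟩, hNinv ⟨v, hv.2, rfl⟩⟩
  have hfix2 : (W ⊓ LinearMap.range (y - 1)) ⊓ LinearMap.ker (y - 1) = ⊥ := by
    rw [eq_bot_iff, ← hNC]
    intro v hv
    exact ⟨hv.1.2, hv.2⟩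
  obtain ⟨hcdvd, _⟩ := exists_nd_inv_sub_u r hr2 hrp B y h _ hinv2 hnd2 hfix2
  have ha : Module.finrank F ↥(W ⊓ LinearMap.ker (y - 1)) ≤ n % c := by
    have h1 := Submodule.finrank_mono (inf_le_right : W ⊓ LinearMap.ker (y - 1) ≤ LinearMap.ker (y - 1))
    have h2 : Module.finrank F (LinearMap.ker (y - 1)) = n % c := by
      rw [← hXker, hy_def, hx_def]
    omega
  obtain ⟨t, ht⟩ := hcdvd
  set a := Module.finrank F ↥(W ⊓ LinearMap.ker (y - 1)) with ha_def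
  have hac : a < c := lt_of_le_of_lt ha (Nat.mod_lt _ hcpos)
  have hmeq : m = a + c * t := by rw [← hWdim, ← hsum, ht]
  have hmod : m % c = a := by
    rw [hmeq, Nat.add_mul_mod_self_left, Nat.mod_eq_of_lt hac]
  refine ⟨?_, by rw [hmod]; exact ha⟩
  by_contra hlt
  push Not at hlt
  have hm' : m % c = m := Nat.mod_eq_of_lt hlt
  obtain ⟨s, hs⟩ := hcj
  have h1 : s ≤ n / c := by
    rw [Nat.le_div_iff_mul_le hcpos, mul_comm, ← hs]; exact hj2
  have h2 : c * s ≤ c * (n / c) := Nat.mul_le_mul_left c h1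
  have h3 := Nat.div_add_mod n c
  have h4 : m ≤ n % c := by rw [← hm', hmod]; exact ha
  omega

end Cfsg.Agent.S5954P
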