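import Mathlib
import Cfsg.Prelude.Def_Classical
import Cfsg.Agent.Helper23.S5953Defs
import Cfsg.Agent.Helper20.S5954Defs
import Cfsg.Agent.Helper24.S5956JBLOCK
import Cfsg.Agent.S0837

set_option autoImplicit false
open scoped MatrixGroups Matrix

/-! # S5954 piece UJORDANU: a unitary Jordan block of size `k ≤ p`.

`V = F^k`, `N` the shift, `B u v = ∑_{i+j=k-1} (-1)^i g σ(u_i) v_j` with `σ g = (-1)^(k-1) g`: `N` is
skew-adjoint, and the Cayley transform `(1 + N/2)(1 - N/2)⁻¹` (`p` odd), resp. `1 + N` (`p = 2`,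
`k ≤ 2`), is an isometry. -/

universe u

namespace Cfsg.Agent.S5954P

open Polynomial Cfsg.Agent.S5953P Cfsg.Agent.Helper28.HW Cfsg.Agent.Helper28.HermFrame
open Cfsg.Agent.S5956P

namespace UJORDANU

variable {F : Type u} [Field F]

/-- extension by zero -/
def ext {k : ℕ} (u : Fin k → F) (i : ℕ) : F := if h : i < k then u ⟨i, h⟩ else 0

theorem ext_add {k : ℕ} (u v : Fin k → F) (i : ℕ) : ext (u + v) i = ext u i + ext v i := by
  unfold ext; split_ifs <;> simp

theorem ext_smul {k : ℕ} (c : F) (u : Fin k → F) (i : ℕ) : ext (c • u) i = c * ext u i := by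
  unfold ext; split_ifs <;> simp

theorem ext_ge {k : ℕ} (u : Fin k → F) (i : ℕ) (h : k ≤ i) : ext u i = 0 := by
  unfold ext; rw [dif_neg (by omega)]

theorem ext_shift {k : ℕ} (u : Fin k → F) (i : ℕ) :
    ext (JBLOCK.shift k 1 u) i = ext u (i + 1) := by
  unfold ext
  by_cases h : i < k
  · rw [dif_pos h, JBLOCK.shift_apply]
  · rw [dif_neg h, dif_neg (by omega)]

/-- the form -/
def form (σ : F →+* F) (g : F) (n : ℕ) :
    (Fin (n + 1) → F) →ₛₗ[σ] (Fin (n + 1) → F) →ₗ[F] F :=
  LinearMap.mk₂'ₛₗ σ (RingHom.id F)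
    (fun u v => ∑ p ∈ Finset.HasAntidiagonal.antidiagonal n, (-1) ^ p.1 * g * σ (ext u p.1) * ext v p.2)
    (by
      intro u u' v
      rw [← Finset.sum_add_distrib]
      apply Finset.sum_congr rfl
      intro p _
      rw [ext_add, map_add]; ring)
    (by
      intro c u v
      rw [smul_eq_mul, Finset.mul_sum]
      apply Finset.sum_congr rfl
      intro p _
      rw [ext_smul, map_mul]; ring)
    (by
      intro u v v'
      rw [← Finset.sum_add_distrib]
      apply Finset.sum_congr rfl
      intro p _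
      rw [ext_add]; ring)
    (by
      intro c u v
      rw [RingHom.id_apply, smul_eq_mul, Finset.mul_sum]
      apply Finset.sum_congr rfl
      intro p _
      rw [ext_smul]; ring)

theorem form_apply (σ : F →+* F) (g : F) (n : ℕ) (u v : Fin (n + 1) → F) :
    form σ g n u v =
      ∑ p ∈ Finset.HasAntidiagonal.antidiagonal n, (-1) ^ p.1 * g * σ (ext u p.1) * ext v p.2 := rfl

/-- the shift is skew-adjoint -/
theorem form_skew (σ : F →+* F) (g : F) (n : ℕ) (u v : Fin (n + 1) → F) :
    form σ g n (JBLOCK.shift (n + 1) 1 u) v + form σ g n u (JBLOCK.shift (n + 1) 1 v) = 0 := by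
  rw [form_apply, form_apply]
  have h1 := Finset.Nat.sum_antidiagonal_succ (n := n)
    (f := fun p : ℕ × ℕ => (-1 : F) ^ p.1 * g * σ (ext u p.1) * ext v p.2)
  have h2 := Finset.Nat.sum_antidiagonal_succ' (n := n)
    (f := fun p : ℕ × ℕ => (-1 : F) ^ p.1 * g * σ (ext u p.1) * ext v p.2)
  simp only [] at h1 h2
  rw [ext_ge v (n + 1) le_rfl, mul_zero, zero_add] at h1
  rw [ext_ge u (n + 1) le_rfl, map_zero, mul_zero, zero_mul, zero_add] at h2
  have h3 : ∑ p ∈ Finset.HasAntidiagonal.antidiagonal n, (-1 : F) ^ p.1 * g * σ (ext (JBLOCK.shift (n + 1) 1 u) p.1) * ext v p.2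
      = - ∑ p ∈ Finset.HasAntidiagonal.antidiagonal n, (-1 : F) ^ (p.1 + 1) * g * σ (ext u (p.1 + 1)) * ext v p.2 := by
    rw [← Finset.sum_neg_distrib]
    apply Finset.sum_congr rfl
    intro p _
    rw [ext_shift, pow_succ]; ring
  have h4 : ∑ p ∈ Finset.HasAntidiagonal.antidiagonal n, (-1 : F) ^ p.1 * g * σ (ext u p.1) * ext (JBLOCK.shift (n + 1) 1 v) p.2
      = ∑ p ∈ Finset.HasAntidiagonal.antidiagonal n, (-1 : F) ^ p.1 * g * σ (ext u p.1) * ext v (p.2 + 1) := by
    apply Finset.sum_congr rfl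
    intro p _
    rw [ext_shift]
  rw [h3, h4, ← h1, ← h2, neg_add_cancel]

theorem form_herm (σ : F →+* F) (hσ2 : ∀ a, σ (σ a) = a) (g : F) (n : ℕ)
    (hg : σ g = (-1) ^ n * g) (u v : Fin (n + 1) → F) :
    σ (form σ g n u v) = form σ g n v u := by
  rw [form_apply, form_apply, map_sum, ← Finset.Nat.sum_antidiagonal_swap]
  apply Finset.sum_congr rfl
  intro p hp
  rw [Finset.HasAntidiagonal.mem_antidiagonal] at hp
  simp only [Prod.fst_swap, Prod.snd_swap, map_mul, map_pow, map_neg, map_one, hσ2, hg]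
  have : (-1 : F) ^ p.2 * ((-1) ^ n * g) = (-1) ^ p.1 * g := by
    rw [← hp, ← mul_assoc, ← pow_add]
    have : p.2 + (p.1 + p.2) = p.1 + 2 * p.2 := by ring
    rw [this, pow_add, pow_mul]
    simp
  rw [this]; ring

theorem form_single (σ : F →+* F) (g : F) (n : ℕ) (u : Fin (n + 1) → F) (j : Fin (n + 1)) :
    form σ g n u (Pi.single j 1) = (-1) ^ (n - j.val) * g * σ (ext u (n - j.val)) := by
  classical
  rw [form_apply]
  have hmem : (n - j.val, j.val) ∈ Finset.HasAntidiagonal.antidiagonal n := by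
    rw [Finset.HasAntidiagonal.mem_antidiagonal]; have := j.2; omega
  rw [Finset.sum_eq_single_of_mem _ hmem]
  · have : ext (Pi.single j (1 : F)) j.val = 1 := by
      unfold ext; rw [dif_pos j.2]; simp
    rw [this, mul_one]
  · intro p hp hne
    rw [Finset.HasAntidiagonal.mem_antidiagonal] at hp
    have hp2 : p.2 ≠ j.val := by
      intro h
      apply hne
      ext
      · simp only []; omega
      · exact h
    have : ext (Pi.single j (1 : F)) p.2 = 0 := by
      unfold ext
      by_cases h : p.2 < n + 1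
      · rw [dif_pos h, Pi.single_apply, if_neg]
        intro h'
        apply hp2
        rw [← h']
      · rw [dif_neg h]
    rw [this, mul_zero]

theorem form_nondeg (σ : F →+* F) (g : F) (hg0 : g ≠ 0) (n : ℕ) :
    NondegU (form σ g n) ⊤ := by
  intro u _ hu
  by_contra hcon
  push Not at hcon
  apply hu
  funext i
  have h1 := hcon (Pi.single ⟨n - i.val, by omega⟩ 1) Submodule.mem_top
  rw [form_single] at h1
  have hi : n - (n - i.val) = i.val := by have := i.2; omega
  simp only [hi] at h1
  have h2 : σ (ext u i.val) = 0 := by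
    rcases mul_eq_zero.mp h1 with h | h
    · rcases mul_eq_zero.mp h with h' | h'
      · exact absurd h' (pow_ne_zero _ (by norm_num))
      · exact absurd h' hg0
    · exact h
  have h3 : ext u i.val = 0 := by
    rwa [map_eq_zero] at h2
  unfold ext at h3
  rw [dif_pos i.2] at h3
  exact h3

end UJORDANU

open UJORDANU

/-- the isometry property of the Cayley transform of a skew-adjoint map -/
theorem UJORDANU.cayley_isom {V : Type*} {F : Type*} [Field F] [AddCommGroup V] [Module F V]
    {σ : F →+* F} (B : V →ₛₗ[σ] V →ₗ[F] F) (N D' : Module.End F V)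
    (hskew : ∀ u v, B (N u) v + B u (N v) = 0) (a : F) (ha : σ a = a)
    (hD : (1 - a • N) * D' = 1) (u v : V) :
    B (((1 + a • N) * D') u) (((1 + a • N) * D') v) = B u v := by
  set w := D' u with hw
  set w' := D' v with hw'
  have hu : u = (1 - a • N) w := by
    rw [hw, ← Module.End.mul_apply, hD, Module.End.one_apply]
  have hv : v = (1 - a • N) w' := by
    rw [hw', ← Module.End.mul_apply, hD, Module.End.one_apply]
  rw [Module.End.mul_apply, Module.End.mul_apply, ← hw, ← hw', hu, hv]
  simp only [LinearMap.add_apply, LinearMap.sub_apply, Module.End.one_apply, LinearMap.smul_apply,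
    map_add, map_sub, map_smulₛₗ, LinearMap.add_apply, LinearMap.sub_apply, LinearMap.smul_apply,
    smul_eq_mul, ha, RingHom.id_apply]
  have h1 := hskew w w'
  have h2 : B (N w) w' = - B w (N w') := eq_neg_of_add_eq_zero_left h1
  rw [h2]; ring

/-- UJORDANU: a unitary Jordan block of size `k ≤ p` -/
theorem exists_unitary_jordan_u {F : Type u} [Field F] [Fintype F] {p : ℕ} [Fact p.Prime]
    [CharP F p] {q : ℕ} (hF : Fintype.card F = q ^ 2) (σ : F →+* F) (hσ : ∀ a, σ a = a ^ q)
    (k : ℕ) (hk1 : 1 ≤ k) (hkp : k ≤ p) :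
    ∃ (V : Type u) (_ : AddCommGroup V) (_ : Module F V) (_ : FiniteDimensional F V)
      (B : V →ₛₗ[σ] V →ₗ[F] F) (y : Module.End F V),
      IsYU q B y p ∧ Module.finrank F V = k ∧
      ∀ a : ℕ, Module.finrank F (LinearMap.ker ((y - 1) ^ a)) = min a k := by
  obtain ⟨n, rfl⟩ : ∃ n, k = n + 1 := ⟨k - 1, by omega⟩
  have hσ2 : ∀ a, σ (σ a) = a := fun a => by
    rw [hσ, hσ, ← pow_mul, ← pow_two, ← hF, FiniteField.pow_card]
  have hne : σ ≠ RingHom.id F := Cfsg.Agent.S0837.frob_ne_id hF σ hσ
  -- the scalar `g`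
  obtain ⟨g, hg0, hg⟩ : ∃ g : F, g ≠ 0 ∧ σ g = (-1) ^ n * g := by
    rcases Nat.even_or_odd n with he | ho
    · exact ⟨1, one_ne_zero, by rw [he.neg_one_pow, map_one, one_mul]⟩
    · obtain ⟨a, ha⟩ : ∃ a, σ a ≠ a := by
        by_contra hcon
        push Not at hcon
        exact hne (RingHom.ext hcon)
      refine ⟨a - σ a, sub_ne_zero.mpr (Ne.symm ha), ?_⟩
      rw [ho.neg_one_pow, map_sub, hσ2]; ring
  set B := form σ g n with hB
  set N : Module.End F (Fin (n + 1) → F) := JBLOCK.shift (n + 1) 1 with hN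
  have hherm : IsHerm q B := ⟨hF, hσ, form_herm σ hσ2 g n hg⟩
  have hnd : NondegU B ⊤ := form_nondeg σ g hg0 n
  have hskew : ∀ u v, B (N u) v + B u (N v) = 0 := form_skew σ g n
  have hNp : N ^ p = 0 := by rw [hN, JBLOCK.shift_pow, JBLOCK.shift_eq_zero _ _ hkp]
  have hne' : Nonempty (Fin (n + 1)) := ⟨0⟩
  have hchar : CharP (Module.End F (Fin (n + 1) → F)) p :=
    charP_of_injective_algebraMap (algebraMap F (Module.End F (Fin (n + 1) → F))).injective p
  -- general conclusion from `y - 1 = U * N`, `U` commuting with `N`, injective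
  have hfinal : ∀ (y U : Module.End F (Fin (n + 1) → F)), (∀ u v, B (y u) (y v) = B u v) →
      y - 1 = U * N → Commute U N → Function.Injective U →
      IsYU q B y p ∧ Module.finrank F (Fin (n + 1) → F) = n + 1 ∧
      ∀ a : ℕ, Module.finrank F (LinearMap.ker ((y - 1) ^ a)) = min a (n + 1) := by
    intro y U hisom hyU hcomm hinj
    have hpow : ∀ a : ℕ, (y - 1) ^ a = U ^ a * N ^ a := by
      intro a; rw [hyU, hcomm.mul_pow]
    refine ⟨⟨hherm, hnd, hisom, ?_⟩, Module.finrank_fin_fun F, ?_⟩
    · have h1 : y = 1 + (y - 1) := by abel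
      rw [h1, add_pow_char_of_commute p (Commute.one_left _), one_pow, hpow, hNp, mul_zero,
        add_zero]
    · intro a
      rw [hpow, ← JBLOCK.finrank_ker_shift (F := F) (n + 1) a, ← JBLOCK.shift_pow, ← hN]
      have hinja : Function.Injective (U ^ a) := by
        rw [Module.End.coe_pow]; exact hinj.iterate a
      have hker : LinearMap.ker (U ^ a * N ^ a) = LinearMap.ker (N ^ a) := by
        apply Submodule.ext
        intro v
        rw [LinearMap.mem_ker, LinearMap.mem_ker, Module.End.mul_apply]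
        constructor
        · intro h; exact hinja (by rw [h, map_zero])
        · intro h; rw [h, map_zero]
      rw [hker]
  refine ⟨Fin (n + 1) → F, inferInstance, inferInstance, inferInstance, B, ?_⟩
  by_cases hp2 : p = 2
  · -- `y = 1 + N`, `N ^ 2 = 0`
    have hN2 : N ^ 2 = 0 := by
      rw [hN, JBLOCK.shift_pow, JBLOCK.shift_eq_zero _ _ (by omega)]
    refine ⟨1 + N, hfinal (1 + N) 1 ?_ (by rw [add_sub_cancel_left, one_mul]) (Commute.one_left _)
      (fun _ _ h => h)⟩
    intro u v
    simp only [LinearMap.add_apply, Module.End.one_apply, map_add]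
    have h1 := hskew u v
    have h2 := hskew u (N v)
    have h3 : N (N v) = 0 := by
      rw [← Module.End.mul_apply, ← pow_two, hN2]; rfl
    rw [h3, map_zero, add_zero] at h2
    have h4 : B u v + B (N u) v + (B u (N v) + B (N u) (N v)) =
        B u v + (B (N u) v + B u (N v)) + B (N u) (N v) := by ring
    rw [h4, h1, h2, add_zero, add_zero]
  · -- Cayley transform
    have h2 : (2 : F) ≠ 0 := by
      intro h
      have h1 : ((2 : ℕ) : F) = 0 := by exact_mod_cast h
      rw [CharP.cast_eq_zero_iff F p 2] at h1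
      exact hp2 ((Nat.prime_dvd_prime_iff_eq (Fact.out : p.Prime) Nat.prime_two).mp h1)
    set a : F := 2⁻¹ with ha
    have haσ : σ a = a := by rw [ha, map_inv₀, map_ofNat]
    set D' : Module.End F (Fin (n + 1) → F) := ∑ i ∈ Finset.range p, (a • N) ^ i with hD'
    have haN : (a • N) ^ p = 0 := by rw [_root_.smul_pow, hNp, smul_zero]
    have hD1 : (1 - a • N) * D' = 1 := by rw [hD', mul_neg_geom_sum, haN, sub_zero]
    have hD2 : D' * (1 - a • N) = 1 := by rw [hD', geom_sum_mul_neg, haN, sub_zero]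
    have hcommN : Commute D' N := by
      rw [hD']
      apply Commute.sum_left
      intro i _
      apply Commute.pow_left
      exact (Commute.refl N).smul_left a
    refine ⟨(1 + a • N) * D', hfinal _ D' (cayley_isom B N D' hskew a haσ hD1) ?_ hcommN ?_⟩
    · have : (1 + a • N) * D' - 1 = (1 + a • N) * D' - (1 - a • N) * D' := by rw [hD1]
      rw [this, ← sub_mul]
      have h3 : (1 + a • N) - (1 - a • N) = N := by
        have : (1 + a • N) - (1 - a • N) = (a + a) • N := by rw [add_smul]; abel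
        rw [this, ha, ← two_mul, mul_inv_cancel₀ h2, one_smul]
      rw [h3]
      exact hcommN.symm.eq
    · intro v w hvw
      have := congrArg (fun t => (1 - a • N) t) hvw
      simp only [← Module.End.mul_apply, hD1, Module.End.one_apply] at this
      exact this

end Cfsg.Agent.S5954P
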