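import Mathlib
import Cfsg.Prelude.Def_Classical
import Cfsg.Agent.Helper23.S5953Defs
import Cfsg.Agent.Helper20.S5954Defs
import Cfsg.Agent.Helper20.S5954UJORDANU
import Cfsg.Agent.Helper24.S5954PRODKU
import Cfsg.Agent.Helper7.S5953PRODBU

set_option autoImplicit false
open scoped MatrixGroups Matrix
universe u
namespace Cfsg.Agent.S5954P
open Polynomial Cfsg.Agent.S5953P Cfsg.Agent.Helper28.HW Cfsg.Agent.Helper28.HermFrame

/-- MODELAU: a unipotent isometry of Jordan type `μ` -/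
theorem exists_model_a_u {F : Type u} [Field F] [Fintype F] {p : ℕ} [Fact p.Prime]
    [CharP F p] {q : ℕ} (hF : Fintype.card F = q ^ 2) (σ : F →+* F) (hσ : ∀ a, σ a = a ^ q)
    (μ : Multiset ℕ) (hμ : ∀ a ∈ μ, 0 < a ∧ a ≤ p) :
    ∃ (V : Type u) (_ : AddCommGroup V) (_ : Module F V) (_ : FiniteDimensional F V)
      (B : V →ₛₗ[σ] V →ₗ[F] F) (y : Module.End F V),
      IsYU q B y p ∧ Module.finrank F V = μ.sum ∧
      ∀ a : ℕ, Module.finrank F (LinearMap.ker ((y - 1) ^ a)) = (μ.map (min a)).sum := by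
  have hσ2 : ∀ a, σ (σ a) = a := fun a => by
    rw [hσ, hσ, ← pow_mul, ← pow_two, ← hF, FiniteField.pow_card]
  induction μ using Multiset.induction_on with
  | empty =>
    refine ⟨Fin 0 → F, inferInstance, inferInstance, inferInstance, hB σ 0, 1,
      ⟨hB_isHerm σ hF hσ 0, hB_nondegU σ hσ2 0, fun _ _ => rfl, one_pow p⟩,
      by rw [Module.finrank_fin_fun]; rfl, ?_⟩
    intro a
    rw [Multiset.map_zero, Multiset.sum_zero]
    have h1 := Submodule.finrank_le (LinearMap.ker (((1 : Module.End F (Fin 0 → F)) - 1) ^ a))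
    rw [Module.finrank_fin_fun] at h1
    omega
  | cons b μ ih =>
    obtain ⟨V₂, i1, i2, i3, B₂, y₂, h₂, hd₂, hk₂⟩ := ih (fun a ha => hμ a (Multiset.mem_cons_of_mem ha))
    obtain ⟨hb0, hbp⟩ := hμ b (Multiset.mem_cons_self b μ)
    obtain ⟨V₁, j1, j2, j3, B₁, y₁, h₁, hd₁, hk₁⟩ := exists_unitary_jordan_u hF σ hσ b hb0 hbp
    refine ⟨V₁ × V₂, inferInstance, inferInstance, inferInstance, prodU B₁ B₂, y₁.prodMap y₂,
      (prod_isYU B₁ B₂ y₁ y₂ p h₁ h₂).1, ?_, ?_⟩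
    · rw [Module.finrank_prod, hd₁, hd₂, Multiset.sum_cons]
    · intro a
      rw [finrank_ker_prodMap_pow, hk₁, hk₂, Multiset.map_cons, Multiset.sum_cons]

end Cfsg.Agent.S5954P
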