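import Mathlib
import Cfsg.Prelude.Def_Classical
import Cfsg.Agent.Helper20.S5954Bridge
import Cfsg.Agent.Helper20.S5954ChD
import Cfsg.Agent.Helper20.S5954MODELAU
import Cfsg.Agent.Helper22.S5954WALLU
import Cfsg.Agent.Helper18.S5954NDSPLITU
import Cfsg.Agent.Helper24.S5954CYCKER
import Cfsg.Agent.Helper24.S5954KERSUM
import Cfsg.Agent.Helper15.S5954COMB
import Cfsg.Agent.Helper7.S5953ORTHCU
import Cfsg.Agent.Helper15.S5956UNIQ
import Cfsg.Agent.Helper7.S5953TRANSPORTU

set_option autoImplicit false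
open scoped MatrixGroups Matrix

/-! # S5954, chapter A: `r = p` (unipotent isometries). -/

namespace Cfsg.Agent.S5954P

open Polynomial Cfsg.Agent.S5953P Cfsg.Agent.S5955P Cfsg.Agent.Helper28.HW Cfsg.Agent.Helper28.HermFrame
open Cfsg.Agent.S2644 Cfsg.Agent.Helper2.SUGen Cfsg.Agent.Helper28.UPair Cfsg.Agent.S5984P
open Cfsg.Agent.S5956P

section Abstract

variable {F V : Type*} [Field F] [Fintype F] [AddCommGroup V] [Module F V] [FiniteDimensional F V]
  {q : ℕ} {σ : F →+* F}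

/-- the block dimensions of a Wall decomposition -/
theorem wall_dims (B : V →ₛₗ[σ] V →ₗ[F] F) (hB : IsHerm q B) (y : Module.End F V)
    (k : ℕ) (hk : (y - 1) ^ k = 0) {t : ℕ} (E : Fin t → Submodule F V)
    (hE : ∀ j, E j ≠ ⊥ ∧ NondegU B (E j) ∧ (E j).map y ≤ E j ∧ IsCyc (y - 1) (E j))
    (horth : ∀ j j', j ≠ j' → OrthU B (E j) (E j')) :
    (∀ j, 0 < Module.finrank F (E j) ∧ Module.finrank F (E j) ≤ k) ∧
    (∀ S : Finset (Fin t), NondegU B (⨆ j ∈ S, E j) ∧ (⨆ j ∈ S, E j).map y ≤ ⨆ j ∈ S, E j ∧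
      Module.finrank F ↥(⨆ j ∈ S, E j) = (S.val.map fun j => Module.finrank F (E j)).sum) ∧
    (∀ a : ℕ, Module.finrank F ↥((⨆ j, E j) ⊓ LinearMap.ker ((y - 1) ^ a)) =
      (((Finset.univ : Finset (Fin t)).val.map fun j => Module.finrank F (E j)).map (min a)).sum) := by
  refine ⟨fun j => ⟨?_, ?_⟩, fun S => ?_, fun a => ?_⟩
  · rw [Module.finrank_pos_iff]
    exact Submodule.nontrivial_iff_ne_bot.mpr (hE j).1
  · have h := finrank_ker_pow_cyc (y - 1) k hk (E j) (hE j).2.2.2 k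
    rw [hk, LinearMap.ker_zero, inf_top_eq] at h
    omega
  · obtain ⟨h1, h2⟩ := nd_biSup_u B hB E (fun j => (hE j).2.1) horth S
    refine ⟨h1, ?_, ?_⟩
    · rw [Submodule.map_iSup]
      apply iSup_le
      intro j
      rw [Submodule.map_iSup]
      apply iSup_le
      intro hj
      exact le_trans (hE j).2.2.1 (le_iSup₂_of_le j hj le_rfl)
    · rw [h2]; rfl
  · have hind := iSupIndep_of_orth_u B hB E (fun j => (hE j).2.1) horth
    have hinv : ∀ j, ∀ v ∈ E j, ((y - 1) ^ a) v ∈ E j := by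
      intro j
      have h1 : ∀ v ∈ E j, (y - 1) v ∈ E j := by
        intro v hv
        rw [LinearMap.sub_apply, Module.End.one_apply]
        exact (E j).sub_mem ((hE j).2.2.1 ⟨v, hv, rfl⟩) hv
      induction a with
      | zero => intro v hv; simpa using hv
      | succ a ih =>
        intro v hv
        rw [pow_succ, Module.End.mul_apply]
        exact ih _ (h1 v hv)
    rw [finrank_ker_iSup ((y - 1) ^ a) E hinv hind]
    rw [Multiset.map_map, Finset.sum_map_val]
    apply Finset.sum_congr rfl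
    intro j _
    exact finrank_ker_pow_cyc (y - 1) k hk (E j) (hE j).2.2.2 a

/-- kernels along a pair of complementary invariant subspaces -/
theorem finrank_ker_compl (f : Module.End F V) (W W' : Submodule F V) (hsup : W ⊔ W' = ⊤)
    (hdisj : Disjoint W W') (hW : ∀ v ∈ W, f v ∈ W) (hW' : ∀ v ∈ W', f v ∈ W') :
    Module.finrank F (LinearMap.ker f) =
      Module.finrank F ↥(W ⊓ LinearMap.ker f) + Module.finrank F ↥(W' ⊓ LinearMap.ker f) := by
  have h1 : (W ⊓ LinearMap.ker f) ⊔ (W' ⊓ LinearMap.ker f) = LinearMap.ker f := by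
    apply le_antisymm (sup_le inf_le_right inf_le_right)
    intro v hv
    have hv' : v ∈ W ⊔ W' := by rw [hsup]; trivial
    obtain ⟨w, hw, w', hw', rfl⟩ := Submodule.mem_sup.mp hv'
    rw [LinearMap.mem_ker, map_add] at hv
    have h2 : f w ∈ W ⊓ W' := by
      refine ⟨hW w hw, ?_⟩
      have : f w = -f w' := eq_neg_of_add_eq_zero_left hv
      rw [this]
      exact W'.neg_mem (hW' w' hw')
    rw [hdisj.eq_bot, Submodule.mem_bot] at h2
    have h3 : f w' = 0 := by rw [h2, zero_add] at hv; exact hv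
    exact Submodule.add_mem_sup ⟨hw, h2⟩ ⟨hw', h3⟩
  have h2 : (W ⊓ LinearMap.ker f) ⊓ (W' ⊓ LinearMap.ker f) = ⊥ := by
    rw [eq_bot_iff, ← hdisj.eq_bot]
    intro v hv
    exact ⟨hv.1.1, hv.2.1⟩
  have := Submodule.finrank_sup_add_finrank_inf_eq (W ⊓ LinearMap.ker f) (W' ⊓ LinearMap.ker f)
  rw [h1, h2, finrank_bot, add_zero] at this
  exact this

/-- sufficiency, abstract form -/
theorem unip_suff (B : V →ₛₗ[σ] V →ₗ[F] F) (hB : IsHerm q B) (hnd : NondegU B ⊤)
    (y : Module.End F V) (hyB : ∀ u v, B (y u) (y v) = B u v) (k : ℕ) (hk : (y - 1) ^ k = 0)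
    (m : ℕ)
    (hcond : ∀ μ : Multiset ℕ, (∀ a ∈ μ, 0 < a ∧ a ≤ k) → μ.sum = Module.finrank F V →
      ∃ ν : Multiset ℕ, ν ≤ μ ∧ ν.sum = m) :
    ∃ W : Submodule F V, Module.finrank F W = m ∧ NondegU B W ∧ W.map y ≤ W := by
  obtain ⟨t, E, hE, horth, hsup⟩ := exists_wall_u B hB y hyB k hk ⊤ le_top hnd
  obtain ⟨hd, hS, _⟩ := wall_dims B hB y k hk E (fun j => (hE j).2) horth
  set d : Fin t → ℕ := fun j => Module.finrank F (E j) with hd_def
  have hsum : ((Finset.univ : Finset (Fin t)).val.map d).sum = Module.finrank F V := by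
    rw [← (hS Finset.univ).2.2]
    have : (⨆ j ∈ (Finset.univ : Finset (Fin t)), E j) = ⊤ := by
      rw [← hsup]; simp
    rw [this, finrank_top]
  obtain ⟨ν, hν, hνm⟩ := hcond _ (by
    intro a ha
    rw [Multiset.mem_map] at ha
    obtain ⟨j, _, rfl⟩ := ha
    exact hd j) hsum
  obtain ⟨S, hSν⟩ := exists_finset_of_le_map d ν hν
  obtain ⟨h1, h2, h3⟩ := hS S
  exact ⟨_, by rw [h3, hSν, hνm], h1, h2⟩

/-- necessity, abstract form -/
theorem unip_nec (B : V →ₛₗ[σ] V →ₗ[F] F) (hB : IsHerm q B) (hnd : NondegU B ⊤)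
    (y : Module.End F V) (hyB : ∀ u v, B (y u) (y v) = B u v) (k : ℕ) (hk : (y - 1) ^ k = 0)
    (μ : Multiset ℕ) (hμ : ∀ a ∈ μ, 0 < a)
    (hker : ∀ a : ℕ, Module.finrank F (LinearMap.ker ((y - 1) ^ a)) = (μ.map (min a)).sum)
    (W : Submodule F V) (hWnd : NondegU B W) (hWinv : W.map y ≤ W) :
    ∃ ν : Multiset ℕ, ν ≤ μ ∧ ν.sum = Module.finrank F W := by
  have hyinj : Function.Injective y := by
    have hunit : IsUnit y := by
      have h1 : IsNilpotent (y - 1) := ⟨k, hk⟩
      have := h1.isUnit_add_one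
      rwa [sub_add_cancel] at this
    exact ((Module.End.isUnit_iff y).mp hunit).injective
  obtain ⟨hsup, hdisj, hW'nd, _, hWW', _, hinvc⟩ := orth_compl_u B hB ⊤ W le_top hnd hWnd
  set W' := (⊤ : Submodule F V) ⊓ perp B W with hW'
  have hW'inv : W'.map y ≤ W' := hinvc y hyB hyinj hWinv le_top
  obtain ⟨t₁, E₁, hE₁, horth₁, hsup₁⟩ := exists_wall_u B hB y hyB k hk W hWinv hWnd
  obtain ⟨t₂, E₂, hE₂, horth₂, hsup₂⟩ := exists_wall_u B hB y hyB k hk W' hW'inv hW'nd
  obtain ⟨hd₁, hS₁, hk₁⟩ := wall_dims B hB y k hk E₁ (fun j => (hE₁ j).2) horth₁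
  obtain ⟨hd₂, _, hk₂⟩ := wall_dims B hB y k hk E₂ (fun j => (hE₂ j).2) horth₂
  set μ₁ := (Finset.univ : Finset (Fin t₁)).val.map fun j => Module.finrank F (E₁ j) with hμ₁
  set μ₂ := (Finset.univ : Finset (Fin t₂)).val.map fun j => Module.finrank F (E₂ j) with hμ₂
  have hinvpow : ∀ (U : Submodule F V), U.map y ≤ U → ∀ a : ℕ, ∀ v ∈ U, ((y - 1) ^ a) v ∈ U := by
    intro U hU a
    have h1 : ∀ v ∈ U, (y - 1) v ∈ U := by
      intro v hv
      rw [LinearMap.sub_apply, Module.End.one_apply]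
      exact U.sub_mem (hU ⟨v, hv, rfl⟩) hv
    induction a with
    | zero => intro v hv; simpa using hv
    | succ a ih =>
      intro v hv
      rw [pow_succ, Module.End.mul_apply]
      exact ih _ (h1 v hv)
  have hμeq : μ = μ₁ + μ₂ := by
    apply multiset_eq_of_kdim hμ
    · intro b hb
      rw [Multiset.mem_add] at hb
      rcases hb with hb | hb
      · rw [hμ₁, Multiset.mem_map] at hb
        obtain ⟨j, _, rfl⟩ := hb
        exact (hd₁ j).1
      · rw [hμ₂, Multiset.mem_map] at hb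
        obtain ⟨j, _, rfl⟩ := hb
        exact (hd₂ j).1
    · intro a
      rw [kdim_add]
      unfold kdim
      have h1 := finrank_ker_compl ((y - 1) ^ a) W W' hsup hdisj (hinvpow W hWinv a)
        (hinvpow W' hW'inv a)
      have h2 := hk₁ a
      have h3 := hk₂ a
      rw [hsup₁] at h2
      rw [hsup₂] at h3
      rw [hker a, h2, h3] at h1
      exact h1
  refine ⟨μ₁, by rw [hμeq]; exact Multiset.le_add_right _ _, ?_⟩
  have := (hS₁ Finset.univ).2.2
  rw [← this]
  have h4 : (⨆ j ∈ (Finset.univ : Finset (Fin t₁)), E₁ j) = W := by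
    rw [← hsup₁]; simp
  rw [h4]

end Abstract

theorem not_p_dvd_succ {F : Type*} [Field F] [Fintype F] {p : ℕ} [Fact p.Prime] [CharP F p]
    {q : ℕ} (hF : Fintype.card F = q ^ 2) : ¬ p ∣ q + 1 := by
  intro h
  have h1 := p_dvd_q (p := p) hF
  have h2 : p ∣ 1 := (Nat.dvd_add_right h1).mp h
  exact (Fact.out : p.Prime).one_lt.ne' (Nat.dvd_one.mp h2)

theorem eq_one_of_pow_char {F : Type*} [Field F] {p : ℕ} [Fact p.Prime] [CharP F p] (z : F)
    (hz : z ^ p = 1) : z = 1 := by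
  have h1 : (z - 1) ^ p = 0 := by rw [sub_pow_char, hz, one_pow, sub_self]
  exact sub_eq_zero.mp (pow_eq_zero_iff (Fact.out : p.Prime).ne_zero |>.mp h1)

theorem chA_suff {F : Type*} [Field F] [Fintype F] {p : ℕ} [Fact p.Prime] [CharP F p] {q : ℕ}
    (hF : Fintype.card F = q ^ 2) (n m : ℕ) (hn : 0 < n)
    (hcond : ∀ μ : Multiset ℕ, (∀ a ∈ μ, 0 < a ∧ a ≤ p) → μ.sum = n →
      ∃ ν : Multiset ℕ, ν ≤ μ ∧ ν.sum = m) : AllGood F q n m p := by
  intro x hx _ ⟨z, hz⟩ _
  obtain ⟨D⟩ := frobOf hF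
  obtain ⟨μ₀, hμ0, hu, hur⟩ := exists_unit_scalar hF D hn p (not_p_dvd_succ hF) x hx z hz
  rw [← good_smul m μ₀ hμ0 x, good_iff_u D]
  set u := μ₀ • x with hu_def
  have hne : Nonempty (Fin n) := ⟨⟨0, hn⟩⟩
  have hnil : (u - 1) ^ p = 0 := by
    rw [sub_pow_char_of_commute p (Commute.one_right u), hur, one_pow, sub_self]
  have hk : (Matrix.toLin' u - 1) ^ p = 0 := by
    have h1 : Matrix.toLin' u - 1 = Matrix.toLin' (u - 1) := by
      rw [map_sub, Matrix.toLin'_one]; rfl
    rw [h1, toLin'_pow', hnil, map_zero]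
  apply unip_suff (hB D.σ n) (isHerm_std hF D) (nondegU_top D) (Matrix.toLin' u)
    (isom_of_pres D u hu) p hk m
  intro μ hμ hsum
  rw [Module.finrank_fin_fun] at hsum
  exact hcond μ hμ hsum

theorem chA_nec {F : Type*} [Field F] [Fintype F] {p : ℕ} [Fact p.Prime] [CharP F p] {q : ℕ}
    (hF : Fintype.card F = q ^ 2) (n m : ℕ) (hn : 0 < n) (hmn : m ≤ n)
    (hall : AllGood F q n m p) :
    ∀ μ : Multiset ℕ, (∀ a ∈ μ, 0 < a ∧ a ≤ p) → μ.sum = n →
      ∃ ν : Multiset ℕ, ν ≤ μ ∧ ν.sum = m := by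
  intro μ hμ hsum
  by_cases hall1 : ∀ a ∈ μ, a = 1
  · have h1 : μ = Multiset.replicate (Multiset.card μ) 1 := Multiset.eq_replicate_card.mpr hall1
    have h2 : Multiset.card μ = n := by
      rw [h1, Multiset.sum_replicate, smul_eq_mul, mul_one] at hsum
      exact hsum
    refine ⟨Multiset.replicate m 1, ?_, by rw [Multiset.sum_replicate, smul_eq_mul, mul_one]⟩
    rw [h1, h2]
    exact (Multiset.replicate_le_replicate 1).mpr hmn
  · obtain ⟨D⟩ := frobOf hF
    obtain ⟨V, _, _, _, B, y, h, hdim, hker⟩ := exists_model_a_u hF D.σ D.pow μ hμ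
    obtain ⟨x, e, hxun, hxp, hform, hint⟩ := exists_un_of_yu B y p h n (hdim.trans hsum)
    have hx : Pres (q := q) x := hxun
    have hdet : x.det = 1 := by
      apply eq_one_of_pow_char (p := p)
      rw [← Matrix.det_pow, hxp, Matrix.det_one]
    have hns : ∀ z : F, x ≠ z • (1 : Matrix (Fin n) (Fin n) F) := by
      intro z hz
      have hzp : z ^ p = 1 := by
        have h1 := hxp
        rw [hz, _root_.smul_pow, one_pow] at h1
        have h2 := congrFun (congrFun h1 ⟨0, hn⟩) ⟨0, hn⟩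
        simpa using h2
      have hz1 := eq_one_of_pow_char (p := p) z hzp
      rw [hz1, one_smul] at hz
      have hy1 : y = 1 := by
        apply LinearMap.ext
        intro v
        apply e.injective
        rw [hint, hz, Matrix.toLin'_one]
        rfl
      have h1 := hker 1
      rw [hy1, sub_self, pow_one, LinearMap.ker_zero, finrank_top, hdim, hsum] at h1
      have h2 : (μ.map (min 1)).sum = Multiset.card μ := by
        have : μ.map (min 1) = μ.map (fun _ => 1) := by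
          apply Multiset.map_congr rfl
          intro a ha
          exact min_eq_left (hμ a ha).1
        rw [this, Multiset.map_const', Multiset.sum_replicate, smul_eq_mul, mul_one]
      apply hall1
      intro a ha
      by_contra ha1
      obtain ⟨μ', rfl⟩ := Multiset.exists_cons_of_mem ha
      have h3 : Multiset.card μ' • 1 ≤ μ'.sum := Multiset.card_nsmul_le_sum (fun b hb =>
        (hμ b (Multiset.mem_cons_of_mem hb)).1)
      rw [Multiset.sum_cons] at hsum
      rw [Multiset.card_cons] at h2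
      have := (hμ a ha).1
      rw [smul_eq_mul, mul_one] at h3
      omega
    have hgood := hall x hx hdet ⟨1, by rw [hxp, one_smul]⟩ hns
    obtain ⟨W, hWdim, hWnd, hWinv⟩ := hgood
    rw [nonDeg_iff] at hWnd
    have hkp : (y - 1) ^ p = 0 := by
      have h1 := hker p
      have h2 : (μ.map (min p)) = μ := by
        conv_rhs => rw [← Multiset.map_id μ]
        apply Multiset.map_congr rfl
        intro a ha
        exact min_eq_right (hμ a ha).2
      rw [h2, ← hdim] at h1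
      have h3 := Submodule.eq_top_of_finrank_eq h1
      exact LinearMap.ker_eq_top.mp h3
    set W₀ : Submodule F V := W.map (e.symm : (Fin n → F) →ₗ[F] V) with hW₀
    have hW₀dim : Module.finrank F W₀ = m := by
      rw [hW₀, ← hWdim]
      exact LinearEquiv.finrank_map_eq e.symm W
    have hW₀nd : NondegU B W₀ := by
      rintro _ ⟨w, hw, rfl⟩ hw0
      have hw0' : w ≠ 0 := by
        rintro rfl
        exact hw0 (map_zero _)
      obtain ⟨v, hv, hne⟩ := hWnd w hw hw0'
      refine ⟨e.symm v, ⟨v, hv, rfl⟩, ?_⟩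
      rw [← hform]
      simp only [LinearEquiv.coe_coe, LinearEquiv.apply_symm_apply]
      exact h_symm_ne D hne
    have hW₀inv : W₀.map y ≤ W₀ := by
      rintro _ ⟨_, ⟨w, hw, rfl⟩, rfl⟩
      refine ⟨Matrix.toLin' x w, ?_, ?_⟩
      · rw [Matrix.toLin'_apply]; exact hWinv w hw
      · apply e.injective
        rw [hint]
        simp only [LinearEquiv.coe_coe, LinearEquiv.apply_symm_apply]
    obtain ⟨ν, hν, hνs⟩ := unip_nec B h.herm h.nondeg y h.isom p hkp μ (fun a ha => (hμ a ha).1)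
      hker W₀ hW₀nd hW₀inv
    exact ⟨ν, hν, hνs.trans hW₀dim⟩

end Cfsg.Agent.S5954P
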