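import Mathlib
import Cfsg.Prelude.Def_Classical
import Cfsg.Agent.Helper20.S5954Bridge
import Cfsg.Agent.Helper22.S5954DIAGBU
import Cfsg.Agent.Helper3.S5953NOROOT
import Cfsg.Agent.Helper21.S5949IRR
import Cfsg.Agent.Helper22.S5954IRRBLOCKSU
import Cfsg.Agent.Helper3.S5953NOROOTEX
import Cfsg.Agent.Helper28.S5953SHIFTZ1

set_option autoImplicit false
open scoped MatrixGroups Matrix

/-! # S5954, chapter C: `r` odd, `r ∣ q + 1`. -/

namespace Cfsg.Agent.S5954P

open Polynomial Cfsg.Agent.S5953P Cfsg.Agent.S5955P Cfsg.Agent.Helper28.HW Cfsg.Agent.Helper28.HermFrame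
open Cfsg.Agent.S2644 Cfsg.Agent.Helper2.SUGen Cfsg.Agent.Helper28.UPair Cfsg.Agent.S5984P

theorem aeval_toLin'_X_pow_sub_C {F : Type*} [Field F] {n : ℕ} (x : Matrix (Fin n) (Fin n) F)
    (r : ℕ) (z : F) (hz : x ^ r = z • (1 : Matrix (Fin n) (Fin n) F)) :
    aeval (Matrix.toLin' x) (X ^ r - C z : F[X]) = 0 := by
  rw [map_sub, map_pow, aeval_X, aeval_C, toLin'_pow', hz, map_smul, Matrix.toLin'_one,
    Algebra.algebraMap_eq_smul_one]
  exact sub_self _

/-- split case: some norm-one multiple of `x` has order dividing `r` -/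
theorem good_of_split_scalar {F : Type*} [Field F] [Fintype F] {q n : ℕ}
    (hF : Fintype.card F = q ^ 2) (D : Frob F q) (r : ℕ) [Fact r.Prime] (hrq : r ∣ q + 1)
    (x : Matrix (Fin n) (Fin n) F) (hx : Pres (q := q) x) (z : F)
    (hz : x ^ r = z • (1 : Matrix (Fin n) (Fin n) F)) (μ : F) (hμ1 : μ ^ (q + 1) = 1)
    (hμ2 : μ ^ r * z = 1) (m : ℕ) (hmn : m ≤ n) : Good q m x := by
  have hμ0 : μ ≠ 0 := by
    rintro rfl
    rw [zero_pow (by omega)] at hμ1
    exact zero_ne_one hμ1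
  rw [← good_smul m μ hμ0 x, good_iff_u D]
  have hu : Pres (q := q) (μ • x) := pres_smul D μ hμ1 x hx
  have hur : (μ • x) ^ r = 1 := by rw [_root_.smul_pow, hz, smul_smul, hμ2, one_smul]
  have h := isYU_of_pres hF D (μ • x) hu r hur
  obtain ⟨W, _, hWdim, hWnd, hWinv⟩ := exists_nd_inv_of_split_u r hrq (hB D.σ n)
    (Matrix.toLin' (μ • x)) h ⊤ le_top h.nondeg m (by rw [finrank_top, Module.finrank_fin_fun]; exact hmn)
  exact ⟨W, hWdim, hWnd, hWinv⟩

theorem chC_suff {F : Type*} [Field F] [Fintype F] {q : ℕ}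
    (hF : Fintype.card F = q ^ 2) (n m : ℕ) (hn : 0 < n) (hmn : m ≤ n)
    (r : ℕ) [Fact r.Prime] (hr2 : r ≠ 2) (hrq : r ∣ q + 1)
    (hcond : r ∣ m ∨ padicValNat r n ≤ padicValNat r (q + 1)) : AllGood F q n m r := by
  intro x hx hdet ⟨z, hz⟩ _
  obtain ⟨D⟩ := frobOf hF
  have hz1 := norm_of_pow D hn x hx r z hz
  by_cases hsplit : ∃ μ : F, μ ^ (q + 1) = 1 ∧ μ ^ r * z = 1
  · obtain ⟨μ, hμ1, hμ2⟩ := hsplit
    exact good_of_split_scalar hF D r hrq x hx z hz μ hμ1 hμ2 m hmn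
  · obtain ⟨hirr, hord⟩ := irreducible_of_no_root hF r hr2 hrq z hz1 hsplit
    have hmon : (X ^ r - C z : F[X]).Monic := monic_X_pow_sub_C z (Fact.out : r.Prime).ne_zero
    have hdeg : (X ^ r - C z : F[X]).natDegree = r := natDegree_X_pow_sub_C
    obtain ⟨hrn, _, _, hdetf⟩ := Cfsg.Agent.S5949P.irr_module (Matrix.toLin' x) (X ^ r - C z) hirr hmon
      (aeval_toLin'_X_pow_sub_C x r z hz)
    rw [hdeg, Module.finrank_fin_fun] at hrn
    rw [hdeg, Module.finrank_fin_fun, LinearMap.det_toLin', hdet] at hdetf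
    have hodd : Odd r := (Fact.out : r.Prime).odd_of_ne_two hr2
    have hcoef : (-1 : F) ^ r * (X ^ r - C z : F[X]).coeff 0 = z := by
      rw [hodd.neg_one_pow, coeff_sub, coeff_X_pow, coeff_C_zero,
        if_neg (Fact.out : r.Prime).ne_zero.symm]
      ring
    rw [hcoef] at hdetf
    have hdvd := hord (n / r) hdetf.symm
    have hr1 : 1 < r := (Fact.out : r.Prime).one_lt
    have hlt : padicValNat r (q + 1) < padicValNat r n := by
      obtain ⟨k, hk⟩ := hrn
      have hk0 : k ≠ 0 := by rintro rfl; omega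
      rw [hk, Nat.mul_div_cancel_left k (by omega)] at hdvd
      rw [hk, padicValNat.mul (Fact.out : r.Prime).ne_zero hk0, padicValNat.self hr1]
      have := (padicValNat_dvd_iff_le hk0).mp hdvd
      omega
    rcases hcond with hrm | hle
    · obtain ⟨k', hk'⟩ := hrm
      rw [good_iff_u D]
      obtain ⟨W, _, hWnd, hWinv, hWdim⟩ := exists_nd_inv_of_irr_u (hB D.σ n) (isHerm_std hF D)
        (Matrix.toLin' x) (isom_of_pres D x hx) (pres_inj D x hx) (X ^ r - C z) hirr ⊤ le_top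
        (nondegU_top D) (fun v _ => by rw [aeval_toLin'_X_pow_sub_C x r z hz]; rfl) k'
        (by rw [hdeg, finrank_top, Module.finrank_fin_fun, ← hk']; exact hmn)
      exact ⟨W, by rw [hWdim, hdeg, hk'], hWnd, hWinv⟩
    · omega

theorem chC_nec {F : Type*} [Field F] [Fintype F] {q : ℕ}
    (hF : Fintype.card F = q ^ 2) (n m : ℕ) (hn : 0 < n)
    (r : ℕ) [Fact r.Prime] (hr2 : r ≠ 2) (hrq : r ∣ q + 1)
    (hall : AllGood F q n m r) : r ∣ m ∨ padicValNat r n ≤ padicValNat r (q + 1) := by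
  by_contra hcon
  push Not at hcon
  obtain ⟨hrm, hlt⟩ := hcon
  obtain ⟨D⟩ := frobOf hF
  have hr1 : 1 < r := (Fact.out : r.Prime).one_lt
  set v := padicValNat r (q + 1) with hv
  -- `n = r * k` with `r ^ v ∣ k`
  have hpow : r ^ (v + 1) ∣ n := by
    rw [padicValNat_dvd_iff_le (by omega)]
    omega
  obtain ⟨s, hs⟩ := hpow
  set k := r ^ v * s with hk
  have hnk : n = r * k := by rw [hs, hk, pow_succ]; ring
  have hk1 : 1 ≤ k := by
    rcases Nat.eq_zero_or_pos k with h0 | h0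
    · rw [h0, mul_zero] at hnk; omega
    · exact h0
  obtain ⟨z, hz1, hzv, hno⟩ := exists_no_root hF r hr2 hrq
  have hzk : z ^ k = 1 := by rw [hk, pow_mul, hzv, one_pow]
  obtain ⟨hirr, _⟩ := irreducible_of_no_root hF r hr2 hrq z hz1 hno
  subst hnk
  obtain ⟨hun, hpowz, hdet, hns⟩ := shiftZ_facts (q := q) r k (by omega) z hz1
  have hodd : Odd r := (Fact.out : r.Prime).odd_of_ne_two hr2
  have hgood := hall (shiftZ (r * k) r z) hun (by rw [hdet hodd, hzk]) ⟨z, hpowz⟩ (hns hk1)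
  obtain ⟨W, hWdim, _, hWinv⟩ := hgood
  have hmon : (X ^ r - C z : F[X]).Monic := monic_X_pow_sub_C z (Fact.out : r.Prime).ne_zero
  have hdeg : (X ^ r - C z : F[X]).natDegree = r := natDegree_X_pow_sub_C
  obtain ⟨_, hW, _, _⟩ := Cfsg.Agent.S5949P.irr_module (Matrix.toLin' (shiftZ (r * k) r z))
    (X ^ r - C z) hirr hmon (aeval_toLin'_X_pow_sub_C _ r z hpowz)
  have := hW W ((inv_iff_map _ W).mpr hWinv)
  rw [hdeg, hWdim] at this
  exact hrm this

end Cfsg.Agent.S5954P
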