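import Mathlib
import Cfsg.Prelude.Def_Classical
import Cfsg.Agent.Helper20.S5954Bridge
import Cfsg.Agent.Helper20.S5954ChC
import Cfsg.Agent.Helper20.S5954ChD
import Cfsg.Agent.Helper8.S5984NTREFL
import Cfsg.Agent.Helper13.S5984POSB
import Cfsg.Agent.Helper13.S5984EIG2
import Cfsg.Agent.Helper13.S5984DETEIG
import Cfsg.Agent.Helper18.S5954NDSUBU
import Cfsg.Agent.Helper18.S5954HYPGOOD
import Cfsg.Agent.Helper24.S5954NTB
import Cfsg.Agent.Helper18.S5954COMPANION2

set_option autoImplicit false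
open scoped MatrixGroups Matrix

/-! # S5954, chapter B: `r = 2 ≠ p`. -/

namespace Cfsg.Agent.S5954P

open Polynomial Cfsg.Agent.S5953P Cfsg.Agent.S5955P Cfsg.Agent.Helper28.HW Cfsg.Agent.Helper28.HermFrame
open Cfsg.Agent.S2644 Cfsg.Agent.Helper2.SUGen Cfsg.Agent.Helper28.UPair Cfsg.Agent.S5984P

theorem odd_q {F : Type*} [Field F] [Fintype F] {p : ℕ} [Fact p.Prime] [CharP F p] {q : ℕ}
    (hF : Fintype.card F = q ^ 2) (hp2 : p ≠ 2) : Odd q := by
  by_contra h
  rw [Nat.not_odd_iff_even] at h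
  have h2 : (2 : ℕ) ∣ q := h.two_dvd
  have : ¬ (2 : ℕ) ∣ q := by
    have : Fact (Nat.Prime 2) := ⟨Nat.prime_two⟩
    exact not_dvd_q hF 2 (fun h => hp2 h.symm)
  exact this h2

theorem two_ne_zero' {F : Type*} [Field F] {p : ℕ} [Fact p.Prime] [CharP F p] (hp2 : p ≠ 2) :
    (2 : F) ≠ 0 := by
  intro h
  have h1 : ((2 : ℕ) : F) = 0 := by exact_mod_cast h
  rw [CharP.cast_eq_zero_iff F p 2] at h1
  have := (Nat.prime_dvd_prime_iff_eq (Fact.out : p.Prime) Nat.prime_two).mp h1
  exact hp2 this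

/-- the eigenspaces of a non-split class are totally isotropic: invariant non-degenerate subspaces have even dimension -/
theorem even_of_nonsplit {F : Type*} [Field F] [Fintype F] {q n : ℕ}
    (hF : Fintype.card F = q ^ 2) (hq : Odd q) (h2 : (2 : F) ≠ 0)
    (x : Matrix (Fin n) (Fin n) F) (hx : Pres (q := q) x) (ν : F) (hν : ν ^ (q + 1) = -1)
    (hxx : x * x = (ν ^ 2) • (1 : Matrix (Fin n) (Fin n) F))
    (W : Submodule F (Fin n → F)) (hW : NonDeg q W) (hWx : Inv x W) :
    Even (Module.finrank F W) := by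
  have hν0 : ν ≠ 0 := by
    rintro rfl
    rw [zero_pow (by omega)] at hν
    have : (1 : F) = 0 := by
      have := congrArg (fun t => -t) hν
      simpa using this.symm
    exact one_ne_zero this
  have hL := lp_of_nonsplit hF hq x hx ν hν hxx
  set A := Module.End.eigenspace (Matrix.toLin' x) ν with hA
  set B := Module.End.eigenspace (Matrix.toLin' x) (-ν) with hB
  obtain ⟨hdec, _⟩ := eig_decomp h2 x ν hν0 hxx
  have h2ν : (2 * ν) ≠ 0 := mul_ne_zero h2 hν0
  have hsplit : (W ⊓ A) ⊔ (W ⊓ B) = W := by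
    apply le_antisymm (sup_le inf_le_left inf_le_left)
    intro w hw
    obtain ⟨a, b, ha, hb, rfl⟩ := hdec w
    have h1 : x *ᵥ (a + b) ∈ W := hWx _ hw
    rw [Matrix.mulVec_add, ha, hb] at h1
    have h3 : ν • (a + b) ∈ W := W.smul_mem ν hw
    have h4 : (2 * ν) • a ∈ W := by
      have := W.add_mem h1 h3
      have e : ν • a + -ν • b + ν • (a + b) = (2 * ν) • a := by
        rw [smul_add, neg_smul]; module
      rwa [e] at this
    have haW : a ∈ W := by
      have := W.smul_mem (2 * ν)⁻¹ h4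
      rwa [smul_smul, inv_mul_cancel₀ h2ν, one_smul] at this
    have hbW : b ∈ W := by
      have := W.sub_mem hw haW
      rwa [add_sub_cancel_left] at this
    exact Submodule.add_mem_sup ⟨haW, (mem_eig x ν a).mpr ha⟩ ⟨hbW, (mem_eig x (-ν) b).mpr hb⟩
  have hdisj : (W ⊓ A) ⊓ (W ⊓ B) = ⊥ := by
    rw [eq_bot_iff]
    intro v hv
    have h1 := (mem_eig x ν v).mp hv.1.2
    have h3 := (mem_eig x (-ν) v).mp hv.2.2
    rw [h1] at h3
    have h4 : (2 * ν) • v = 0 := by
      have : ν • v - (-ν) • v = 0 := sub_eq_zero.mpr h3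
      rw [← this]; module
    rcases smul_eq_zero.mp h4 with h5 | h5
    · exact absurd h5 h2ν
    · exact h5
  have hAti : Orth q (W ⊓ A) (W ⊓ A) := fun u hu w hw => hL.isoA u hu.2 w hw.2
  have hBti : Orth q (W ⊓ B) (W ⊓ B) := fun u hu w hw => hL.isoB u hu.2 w hw.2
  have heq := finrank_eq_of_ti_split hF hW hAti hBti hsplit
  have hsum := Submodule.finrank_sup_add_finrank_inf_eq (W ⊓ A) (W ⊓ B)
  rw [hsplit, hdisj, finrank_bot, add_zero, heq] at hsum
  exact ⟨_, hsum⟩

theorem chB_suff {F : Type*} [Field F] [Fintype F] {p : ℕ} [Fact p.Prime] [CharP F p] {q : ℕ}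
    (hF : Fintype.card F = q ^ 2) (hp2 : p ≠ 2) (n m : ℕ) (hn : 0 < n) (hmn : m ≤ n)
    (hcond : Odd n ∨ Even m ∨ (padicValNat 2 n ≤ padicValNat 2 (q + 1) ∧ q % 4 = 3)) :
    AllGood F q n m 2 := by
  intro x hx hdet ⟨z, hz⟩ _
  obtain ⟨D⟩ := frobOf hF
  have hq : Odd q := odd_q hF hp2
  have h2 : (2 : F) ≠ 0 := two_ne_zero' (p := p) hp2
  have hz1 := norm_of_pow D hn x hx 2 z hz
  obtain ⟨ν, hνz, hν⟩ := exists_sqrt_of_norm_one hF hq z hz1
  have hν0 : ν ≠ 0 := by
    rintro rfl
    rw [zero_pow (by omega)] at hνz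
    rw [← hνz, zero_pow (by omega)] at hz1
    exact zero_ne_one hz1
  rcases hν with hν | hν
  · -- split
    have : Fact (Nat.Prime 2) := ⟨Nat.prime_two⟩
    have h2q : 2 ∣ q + 1 := by
      obtain ⟨t, ht⟩ := hq
      exact ⟨t + 1, by omega⟩
    refine good_of_split_scalar hF D 2 h2q x hx z hz ν⁻¹ ?_ ?_ m hmn
    · rw [inv_pow, hν, inv_one]
    · rw [← hνz, inv_pow, inv_mul_cancel₀ (pow_ne_zero 2 hν0)]
  · -- non-split
    have hxx : x * x = (ν ^ 2) • (1 : Matrix (Fin n) (Fin n) F) := by rw [hνz, ← hz, pow_two]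
    have hL := lp_of_nonsplit hF hq x hx ν hν hxx
    have hA : ∀ v ∈ Module.End.eigenspace (Matrix.toLin' x) ν, x *ᵥ v = ν • v :=
      fun v hv => (mem_eig x ν v).mp hv
    have hB : ∀ v ∈ Module.End.eigenspace (Matrix.toLin' x) (-ν), x *ᵥ v = (-ν) • v :=
      fun v hv => (mem_eig x (-ν) v).mp hv
    by_cases hm : Even m
    · obtain ⟨k', hk'⟩ := hm
      have : m = 2 * k' := by omega
      rw [this]
      exact good_of_lp hF hL x ν (-ν) hA hB k' (by omega)
    · exfalso
      -- `n` is even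
      have htop : NonDeg q (⊤ : Submodule F (Fin n → F)) := (nondegU_iff D ⊤).mp (nondegU_top D)
      have hev := even_of_nonsplit hF hq h2 x hx ν hν hxx ⊤ htop (fun w _ => Submodule.mem_top)
      rw [finrank_top, Module.finrank_fin_fun] at hev
      rcases hcond with hodd | hm' | ⟨hval, hq4⟩
      · exact (Nat.not_even_iff_odd.mpr hodd) hev
      · exact hm hm'
      · obtain ⟨_, hkd⟩ := eig_decomp h2 x ν hν0 hxx
        have hdim : kd x ν = kd x (-ν) := by
          have hAti : Orth q (Module.End.eigenspace (Matrix.toLin' x) ν)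
              (Module.End.eigenspace (Matrix.toLin' x) ν) := fun u hu w hw => hL.isoA u hu w hw
          have hBti : Orth q (Module.End.eigenspace (Matrix.toLin' x) (-ν))
              (Module.End.eigenspace (Matrix.toLin' x) (-ν)) := fun u hu w hw => hL.isoB u hu w hw
          have hsup : Module.End.eigenspace (Matrix.toLin' x) ν ⊔
              Module.End.eigenspace (Matrix.toLin' x) (-ν) = ⊤ := by
            rw [eq_top_iff]
            intro v _
            obtain ⟨a, ha, b, hb, rfl⟩ := hL.dec v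
            exact Submodule.add_mem_sup ha hb
          exact finrank_eq_of_ti_split hF htop hAti hBti hsup
        have hdetx := det_of_sq h2 x ν hν0 hxx
        rw [← hdim, hdet, ← mul_pow] at hdetx
        have hk : 0 < kd x ν := by omega
        have h1 : (-(ν ^ 2)) ^ (kd x ν) = 1 := by
          rw [hdetx]; congr 1; ring
        have := nonsplit_cond h2 hq (kd x ν) hk ν hν h1
        have hn2 : n = 2 * kd x ν := by omega
        rw [← hn2] at this
        omega

theorem chB_nec {F : Type*} [Field F] [Fintype F] {p : ℕ} [Fact p.Prime] [CharP F p] {q : ℕ}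
    (hF : Fintype.card F = q ^ 2) (hp2 : p ≠ 2) (n m : ℕ) (hn : 0 < n)
    (hall : AllGood F q n m 2) :
    Odd n ∨ Even m ∨ (padicValNat 2 n ≤ padicValNat 2 (q + 1) ∧ q % 4 = 3) := by
  by_contra hcon
  push Not at hcon
  obtain ⟨hn1, hm1, hc3⟩ := hcon
  obtain ⟨D⟩ := frobOf hF
  have hq : Odd q := odd_q hF hp2
  have h2 : (2 : F) ≠ 0 := two_ne_zero' (p := p) hp2
  rw [Nat.not_odd_iff_even] at hn1
  obtain ⟨k, hk⟩ := hn1
  have hnk : n = 2 * k := by omega
  have hk0 : 0 < k := by omega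
  have hcase : q % 4 = 1 ∨ padicValNat 2 (q + 1) < padicValNat 2 (2 * k) := by
    rw [← hnk]
    by_cases h : padicValNat 2 n ≤ padicValNat 2 (q + 1)
    · left
      have := hc3 h
      obtain ⟨t, ht⟩ := hq
      omega
    · right; omega
  obtain ⟨z, hz1, hz2, hz3⟩ := exists_nonsplit hF hq k hk0 hcase
  subst hnk
  obtain ⟨x, hx, hxx, hdet⟩ := exists_companion_two hF k z hz1
  have hne : (1 : F) ≠ -1 := by
    intro h
    apply h2
    have : (1 : F) + 1 = 0 := by nth_rewrite 1 [h]; ring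
    rw [← this]; ring
  have hns : ∀ c : F, x ≠ c • (1 : Matrix (Fin (2 * k)) (Fin (2 * k)) F) := by
    intro c hc
    have hc1 : c ^ (q + 1) = 1 := norm_of_pow D hn x hx 1 c (by rw [pow_one]; exact hc)
    have hc2 : c ^ 2 = z := by
      have h1 := hxx
      rw [hc, smul_mul_smul_comm, mul_one] at h1
      have h3 := congrFun (congrFun h1 ⟨0, hn⟩) ⟨0, hn⟩
      simp only [Matrix.smul_apply, Matrix.one_apply_eq, smul_eq_mul, mul_one] at h3
      rw [pow_two]; exact h3
    have : z ^ ((q + 1) / 2) = 1 := by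
      rw [← hc2, ← pow_mul]
      obtain ⟨t, ht⟩ := hq
      have : 2 * ((q + 1) / 2) = q + 1 := by omega
      rw [this, hc1]
    rw [this] at hz2
    exact hne hz2
  have hgood := hall x hx (by rw [hdet, hz3]) ⟨z, by rw [pow_two]; exact hxx⟩ hns
  obtain ⟨W, hWdim, hWnd, hWinv⟩ := hgood
  obtain ⟨ν, hνz, hν⟩ := exists_sqrt_of_norm_one hF hq z hz1
  rcases hν with hν | hν
  · have : z ^ ((q + 1) / 2) = 1 := by
      rw [← hνz, ← pow_mul]
      obtain ⟨t, ht⟩ := hq
      have : 2 * ((q + 1) / 2) = q + 1 := by omega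
      rw [this, hν]
    rw [this] at hz2
    exact hne hz2
  · have hxx' : x * x = (ν ^ 2) • (1 : Matrix (Fin (2 * k)) (Fin (2 * k)) F) := by rw [hνz, hxx]
    have := even_of_nonsplit hF hq h2 x hx ν hν hxx' W hWnd hWinv
    rw [hWdim] at this
    exact hm1 this

end Cfsg.Agent.S5954P
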