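import Mathlib
import Cfsg.Prelude.Def_Classical
import Cfsg.Agent.Helper20.S5954Bridge
import Cfsg.Agent.Helper20.S5954ChA
import Cfsg.Agent.Helper20.S5954ChB
import Cfsg.Agent.Helper20.S5954ChC
import Cfsg.Agent.Helper20.S5954ChD
import Cfsg.Agent.Helper15.S5954COMB
import Cfsg.Agent.Helper18.S5953ARITHU

set_option autoImplicit false
open scoped MatrixGroups Matrix

/-! # S5954: the final assembly. -/

namespace Cfsg.Agent.S5954P

open Polynomial Cfsg.Agent.S5953P Cfsg.Agent.S5955P Cfsg.Agent.Helper28.HW Cfsg.Agent.Helper28.HermFrame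
open Cfsg.Agent.S2644 Cfsg.Agent.Helper2.SUGen Cfsg.Agent.Helper28.UPair Cfsg.Agent.S5984P

theorem main_allGood {F : Type*} [Field F] [Fintype F] {p : ℕ} [Fact p.Prime] [CharP F p] {q : ℕ}
    (hq : Fintype.card F = q ^ 2) (n m : ℕ) (hn : 3 ≤ n) (hm : 1 ≤ m) (hmn : 2 * m < n)
    (r : ℕ) [Fact r.Prime]
    (hrΩ : r ∣ Nat.card {W : Submodule F (Fin n → F) // Module.finrank F ↥W = m ∧ NonDeg q W}) :
    AllGood F q n m r ↔
    ((r = p ∧ 2 < p ∧ (∀ μ : Multiset ℕ, (∀ a ∈ μ, 0 < a ∧ a ≤ p) → μ.sum = n →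
        ∃ ν : Multiset ℕ, ν ≤ μ ∧ ν.sum = m)) ∨
     (r = p ∧ p = 2 ∧ (Odd n ∨ Even m)) ∨
     (r = 2 ∧ p ≠ 2 ∧ (Odd n ∨ Even m ∨ (padicValNat 2 n ≤ padicValNat 2 (q + 1) ∧ q % 4 = 3))) ∨
     (r ≠ p ∧ 2 < r ∧ ((orderOf (q : ZMod r) ≠ 2 ∧ cu q r ≤ m ∧ m % cu q r ≤ n % cu q r) ∨
       (orderOf (q : ZMod r) = 2 ∧ (r ∣ m ∨ padicValNat r n ≤ padicValNat r (q + 1)))))) := by
  have hn0 : 0 < n := by omega
  have hmn' : m ≤ n := by omega
  have hp2le : 2 ≤ p := (Fact.out : p.Prime).two_le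
  have hr2le : 2 ≤ r := (Fact.out : r.Prime).two_le
  by_cases hrp : r = p
  · subst hrp
    have hA : AllGood F q n m r ↔ (∀ μ : Multiset ℕ, (∀ a ∈ μ, 0 < a ∧ a ≤ r) → μ.sum = n →
        ∃ ν : Multiset ℕ, ν ≤ μ ∧ ν.sum = m) :=
      ⟨chA_nec hq n m hn0 hmn', chA_suff hq n m hn0⟩
    rw [hA]
    by_cases hp2 : r = 2
    · subst hp2
      rw [part_cond_two n m hmn']
      constructor
      · intro h; right; left; exact ⟨rfl, rfl, h⟩
      · rintro (⟨_, h, _⟩ | ⟨_, _, h⟩ | ⟨_, h, _⟩ | ⟨h, _⟩)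
        · omega
        · exact h
        · exact absurd rfl h
        · exact absurd rfl h
    · constructor
      · intro h; left; exact ⟨rfl, by omega, h⟩
      · rintro (⟨_, _, h⟩ | ⟨_, h, _⟩ | ⟨h, h', _⟩ | ⟨h, _⟩)
        · exact h
        · exact absurd h hp2
        · exact absurd h hp2
        · exact absurd rfl h
  · by_cases hr2 : r = 2
    · subst hr2
      have hp2 : p ≠ 2 := fun h => hrp h.symm
      have hB : AllGood F q n m 2 ↔
          (Odd n ∨ Even m ∨ (padicValNat 2 n ≤ padicValNat 2 (q + 1) ∧ q % 4 = 3)) :=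
        ⟨chB_nec hq hp2 n m hn0, chB_suff hq hp2 n m hn0 hmn'⟩
      rw [hB]
      constructor
      · intro h; right; right; left; exact ⟨rfl, hp2, h⟩
      · rintro (⟨h, _⟩ | ⟨h, _⟩ | ⟨_, _, h⟩ | ⟨_, h, _⟩)
        · exact absurd h hrp
        · exact absurd h hrp
        · exact h
        · omega
    · have hr3 : 2 < r := by omega
      obtain ⟨_, _, _, _, _, _, hi2⟩ := cu_arith hq r hr2 hrp
      by_cases hrq : r ∣ q + 1
      · have hi : orderOf (q : ZMod r) = 2 := hi2.mp hrq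
        have hC : AllGood F q n m r ↔ (r ∣ m ∨ padicValNat r n ≤ padicValNat r (q + 1)) :=
          ⟨chC_nec hq n m hn0 r hr2 hrq, chC_suff hq n m hn0 hmn' r hr2 hrq⟩
        rw [hC]
        constructor
        · intro h; right; right; right; exact ⟨hrp, hr3, Or.inr ⟨hi, h⟩⟩
        · rintro (⟨h, _⟩ | ⟨h, _⟩ | ⟨h, _⟩ | ⟨_, _, ⟨h, _⟩ | ⟨_, h⟩⟩)
          · exact absurd h hrp
          · exact absurd h hrp
          · exact absurd h hr2
          · exact absurd hi h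
          · exact h
      · have hi : orderOf (q : ZMod r) ≠ 2 := fun h => hrq (hi2.mpr h)
        have hD : AllGood F q n m r ↔ (cu q r ≤ m ∧ m % cu q r ≤ n % cu q r) :=
          ⟨chD_nec hq n m hn0 hm hmn' r hr2 hrp hrq hrΩ,
            fun h => chD_suff hq n m hn0 hmn' r hr2 hrp hrq h.2⟩
        rw [hD]
        constructor
        · intro h; right; right; right; exact ⟨hrp, hr3, Or.inl ⟨hi, h⟩⟩
        · rintro (⟨h, _⟩ | ⟨h, _⟩ | ⟨h, _⟩ | ⟨_, _, ⟨_, h⟩ | ⟨h, _⟩⟩)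
          · exact absurd h hrp
          · exact absurd h hrp
          · exact absurd h hr2
          · exact h
          · exact absurd h hi

/-- the frozen statement -/
theorem main {F : Type*} [Field F] [Fintype F] {p : ℕ} [Fact p.Prime] [CharP F p] {q : ℕ}
    (hq : Fintype.card F = q ^ 2)
    (n m : ℕ) (hn : 3 ≤ n) (hm : 1 ≤ m) (hmn : 2 * m < n)
    (r : ℕ) [Fact r.Prime]
    (hrΩ : r ∣ Nat.card {W : Submodule F (Fin n → F) // Module.finrank F ↥W = m ∧ (∀ u ∈ W, u ≠ 0 → ∃ v ∈ W, Cfsg.hermForm n F q u v ≠ 0)})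
    (i c : ℕ) (hi : i = orderOf (q : ZMod r))
    (hc : c = if i % 4 = 0 then i else if i % 4 = 2 then i / 2 else 2 * i) :
    (∀ x : Matrix.SpecialLinearGroup (Fin n) F, x ∈ Cfsg.SU n F q →
      (∃ z : F, ((x ^ r : Matrix.SpecialLinearGroup (Fin n) F) : Matrix (Fin n) (Fin n) F) = z • (1 : Matrix (Fin n) (Fin n) F)) →
      (∀ z : F, (x : Matrix (Fin n) (Fin n) F) ≠ z • (1 : Matrix (Fin n) (Fin n) F)) →
      ∃ W : Submodule F (Fin n → F), Module.finrank F ↥W = m ∧ (∀ u ∈ W, u ≠ 0 → ∃ v ∈ W, Cfsg.hermForm n F q u v ≠ 0) ∧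
        W.map (Matrix.toLin' (x : Matrix (Fin n) (Fin n) F)) ≤ W) ↔
    ((r = p ∧ 2 < p ∧ (∀ μ : Multiset ℕ, (∀ a ∈ μ, 0 < a ∧ a ≤ p) → μ.sum = n → ∃ ν : Multiset ℕ, ν ≤ μ ∧ ν.sum = m)) ∨
     (r = p ∧ p = 2 ∧ (Odd n ∨ Even m)) ∨
     (r = 2 ∧ p ≠ 2 ∧ (Odd n ∨ Even m ∨ (padicValNat 2 n ≤ padicValNat 2 (q + 1) ∧ q % 4 = 3))) ∨
     (r ≠ p ∧ 2 < r ∧ ((i ≠ 2 ∧ c ≤ m ∧ m % c ≤ n % c) ∨ (i = 2 ∧ (r ∣ m ∨ padicValNat r n ≤ padicValNat r (q + 1)))))) := by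
  have hcard : Nat.card {W : Submodule F (Fin n → F) // Module.finrank F ↥W = m ∧ (∀ u ∈ W, u ≠ 0 → ∃ v ∈ W, Cfsg.hermForm n F q u v ≠ 0)} =
      Nat.card {W : Submodule F (Fin n → F) // Module.finrank F ↥W = m ∧ NonDeg q W} :=
    Nat.card_congr (Equiv.subtypeEquivRight fun W => and_congr Iff.rfl (nonDeg_iff W).symm)
  rw [hcard] at hrΩ
  rw [frozen_iff_allGood m r, main_allGood hq n m hn hm hmn r hrΩ]
  have hcu : c = cu q r := by rw [hc, hi, cu_def]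
  rw [hcu, hi]

end Cfsg.Agent.S5954P
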