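import Mathlib

set_option autoImplicit false

/-! S5965 pieces NT1, NT2, NTPOW (Mathlib only). -/

namespace Cfsg.Agent.S5965P

namespace NT

/-- `r ∣ a ^ m - 1` iff `orderOf (a : ZMod r) ∣ m` (for `1 ≤ a`). -/
theorem dvd_pow_sub_one_iff (r a m : ℕ) [Fact r.Prime] (ha : 1 ≤ a) :
    r ∣ a ^ m - 1 ↔ orderOf ((a : ℕ) : ZMod r) ∣ m := by
  rw [orderOf_dvd_iff_pow_eq_one]
  have h1 : 1 ≤ a ^ m := Nat.one_le_pow _ _ ha
  rw [← ZMod.natCast_eq_zero_iff, Nat.cast_sub h1, sub_eq_zero]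
  push_cast
  rfl

end NT

/-- NT1 -/
theorem val_eq_of_ord_eq (r k q₀ : ℕ) [Fact r.Prime] (hr2 : r ≠ 2) (hk : k.Prime) (hrk : r ≠ k)
    (hq₀ : ¬ r ∣ q₀)
    (hord : orderOf (((q₀ ^ k : ℕ) : ℕ) : ZMod r) = orderOf ((q₀ : ℕ) : ZMod r)) (m : ℕ) :
    padicValNat r ((q₀ ^ k) ^ m - 1) = padicValNat r (q₀ ^ m - 1) := by
  have hr : r.Prime := Fact.out
  have hq1 : 1 ≤ q₀ := by
    rcases Nat.eq_zero_or_pos q₀ with h | h
    · exfalso; apply hq₀; rw [h]; exact dvd_zero r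
    · exact h
  have hqk1 : 1 ≤ q₀ ^ k := Nat.one_le_pow _ _ hq1
  by_cases hdiv : r ∣ q₀ ^ m - 1
  · -- LTE
    have hxk : (q₀ ^ k) ^ m = (q₀ ^ m) ^ k := by rw [← pow_mul, ← pow_mul, mul_comm]
    rw [hxk]
    by_cases hx1 : q₀ ^ m = 1
    · rw [hx1, one_pow]
    · have hlt : 1 < q₀ ^ m := lt_of_le_of_ne (Nat.one_le_pow _ _ hq1) (Ne.symm hx1)
      have hodd : Odd r := hr.odd_of_ne_two hr2
      have hx : ¬ r ∣ q₀ ^ m := fun h => hq₀ (hr.dvd_of_dvd_pow h)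
      have hlte := padicValNat.pow_sub_pow (x := q₀ ^ m) (y := 1) (p := r) hodd hlt hdiv hx
        (n := k) hk.ne_zero
      rw [one_pow] at hlte
      rw [hlte]
      have hvk : padicValNat r k = 0 := by
        apply padicValNat.eq_zero_of_not_dvd
        intro h
        exact hrk ((Nat.prime_dvd_prime_iff_eq hr hk).mp h)
      rw [hvk, add_zero]
  · have hdiv' : ¬ r ∣ (q₀ ^ k) ^ m - 1 := by
      rw [NT.dvd_pow_sub_one_iff r (q₀ ^ k) m hqk1, hord, ← NT.dvd_pow_sub_one_iff r q₀ m hq1]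
      exact hdiv
    rw [padicValNat.eq_zero_of_not_dvd hdiv, padicValNat.eq_zero_of_not_dvd hdiv']

/-- NT2 -/
theorem val_eq_two (r q₀ : ℕ) [Fact r.Prime] (hr2 : r ≠ 2) (h : r ∣ q₀ + 1) :
    padicValNat r ((q₀ ^ 2) ^ 2 - 1) = padicValNat r (q₀ ^ 2 - 1) := by
  have hr : r.Prime := Fact.out
  have hq2 : 2 ≤ q₀ := by
    rcases q₀ with _ | _ | q
    · exfalso
      have : r ∣ 1 := by simpa using h
      exact hr.one_lt.ne' (Nat.dvd_one.mp this)
    · exfalso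
      have : r ∣ 2 := by simpa using h
      exact hr2 ((Nat.prime_dvd_prime_iff_eq hr Nat.prime_two).mp this)
    · omega
  have hfac : (q₀ ^ 2) ^ 2 - 1 = (q₀ ^ 2 - 1) * (q₀ ^ 2 + 1) := by
    have h1 : 1 ≤ q₀ ^ 2 := Nat.one_le_pow _ _ (by omega)
    obtain ⟨t, ht⟩ := Nat.exists_eq_add_of_le h1
    rw [ht]
    have : (1 + t) ^ 2 - 1 = (1 + t - 1) * (1 + t + 1) := by
      have e1 : 1 + t - 1 = t := by omega
      rw [e1]
      have e2 : (1 + t) ^ 2 = t * (1 + t + 1) + 1 := by ring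
      rw [e2]
      omega
    exact this
  have hne1 : q₀ ^ 2 - 1 ≠ 0 := by
    have : 4 ≤ q₀ ^ 2 := by nlinarith
    omega
  have hne2 : q₀ ^ 2 + 1 ≠ 0 := by omega
  rw [hfac, padicValNat.mul hne1 hne2]
  have hnd : ¬ r ∣ q₀ ^ 2 + 1 := by
    intro hd
    -- q₀^2 + 1 = (q₀ + 1) * (q₀ - 1) + 2
    have e : q₀ ^ 2 + 1 = (q₀ + 1) * (q₀ - 1) + 2 := by
      obtain ⟨t, rfl⟩ := Nat.exists_eq_add_of_le hq2
      have : 2 + t - 1 = t + 1 := by omega
      rw [this]; ring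
    rw [e] at hd
    have h2 : r ∣ 2 := (Nat.dvd_add_right (Dvd.dvd.mul_right h _)).mp hd
    exact hr2 ((Nat.prime_dvd_prime_iff_eq hr Nat.prime_two).mp h2)
  rw [padicValNat.eq_zero_of_not_dvd hnd, add_zero]

/-- NTPOW -/
theorem exists_root_of_pow_eq_one {F : Type*} [Field F] [Fintype F] (r : ℕ) [Fact r.Prime]
    (n s : ℕ) (hn : n = r * s) (hn0 : n ≠ 0)
    (hv : padicValNat r n ≤ padicValNat r (Fintype.card F - 1)) (z : F) (hz : z ^ s = 1) :
    ∃ μ : F, μ ^ r = z := by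
  classical
  have hr : r.Prime := Fact.out
  have hs0 : s ≠ 0 := by
    rintro rfl
    apply hn0
    rw [hn, mul_zero]
  have hz0 : z ≠ 0 := by
    rintro rfl
    rw [zero_pow hs0] at hz
    exact zero_ne_one hz
  obtain ⟨γ, hγ⟩ := IsCyclic.exists_generator (α := Fˣ)
  have hordγ : orderOf γ = Fintype.card F - 1 := by
    rw [orderOf_eq_card_of_forall_mem_zpowers hγ, Nat.card_eq_fintype_card, Fintype.card_units]
  have hzmem : Units.mk0 z hz0 ∈ Submonoid.powers γ := by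
    rw [mem_powers_iff_mem_zpowers]
    exact hγ _
  obtain ⟨t, ht⟩ := hzmem
  have ht : γ ^ t = Units.mk0 z hz0 := ht
  have hts : γ ^ (t * s) = 1 := by
    rw [pow_mul, ht]
    apply Units.ext
    simp [hz]
  have hdvd : (Fintype.card F - 1) ∣ t * s := by
    rw [← hordγ]
    exact orderOf_dvd_of_pow_eq_one hts
  have hN0 : Fintype.card F - 1 ≠ 0 := by
    rw [← hordγ]
    exact (orderOf_pos γ).ne'
  have hrt : r ∣ t := by
    by_contra hrt
    have hcop : Nat.Coprime (r ^ padicValNat r (Fintype.card F - 1)) t :=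
      Nat.Coprime.pow_left _ ((Nat.Prime.coprime_iff_not_dvd hr).mpr hrt)
    have h1 : r ^ padicValNat r (Fintype.card F - 1) ∣ t * s :=
      dvd_trans pow_padicValNat_dvd hdvd
    have h2 : r ^ padicValNat r (Fintype.card F - 1) ∣ s := hcop.dvd_of_dvd_mul_left h1
    have h3 : padicValNat r (Fintype.card F - 1) ≤ padicValNat r s :=
      (padicValNat_dvd_iff_le hs0).mp h2
    have h4 : padicValNat r n = padicValNat r s + 1 := by
      rw [hn, padicValNat.mul hr.ne_zero hs0, padicValNat_self, add_comm]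
    omega
  obtain ⟨u, rfl⟩ := hrt
  refine ⟨((γ ^ u : Fˣ) : F), ?_⟩
  have : (γ ^ u) ^ r = Units.mk0 z hz0 := by
    rw [← pow_mul, mul_comm u r]; exact ht
  have := congrArg (fun w : Fˣ => (w : F)) this
  simpa using this

end Cfsg.Agent.S5965P
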