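import Mathlib
import Cfsg.Prelude.Def_GeometricClasses
import Cfsg.Agent.Helper29.S5965Defs
import Cfsg.Agent.Helper21.S5958MODEL2
import Cfsg.Agent.Helper21.S5949CYCMAIN
import Cfsg.Agent.Helper20.S5965NT
import Cfsg.Agent.Helper16.S5965NEC
import Cfsg.Agent.Helper15.S5965RANKINV

set_option autoImplicit false
open scoped MatrixGroups

/-! S5965 piece BIGORD. -/

namespace Cfsg.Agent.S5965P

open Polynomial

namespace BIGORD

/-- kernel dimension via rank -/
theorem finrank_ker_toLin' {K : Type*} [Field K] (n : ℕ) (A : Matrix (Fin n) (Fin n) K) :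
    Module.finrank K (LinearMap.ker (Matrix.toLin' A)) = n - A.rank := by
  have h := LinearMap.finrank_range_add_finrank_ker (Matrix.toLin' A)
  rw [Module.finrank_fin_fun] at h
  have h2 : Module.finrank K (LinearMap.range (Matrix.toLin' A)) = A.rank := by
    rw [Matrix.rank, Matrix.toLin'_apply']
  omega

end BIGORD

open BIGORD in
/-- BIGORD (uses S5958P.model_single, NEC, RANKINV, S5949P.cyc_main over F₀) -/
theorem derangement_big_ord {F : Type*} [Field F] [Fintype F] {p : ℕ} [Fact p.Prime] [CharP F p]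
    (n : ℕ) (F₀ : Subfield F) (r : ℕ) [Fact r.Prime] (hrp : r ≠ p)
    (hi2 : 2 ≤ orderOf ((Fintype.card F : ℕ) : ZMod r))
    (hin : orderOf ((Fintype.card F : ℕ) : ZMod r) ≤ n)
    (hlt : orderOf ((Fintype.card F : ℕ) : ZMod r) < orderOf ((Nat.card F₀ : ℕ) : ZMod r)) :
    ∃ x : Matrix.SpecialLinearGroup (Fin n) F,
      (∃ z : F, ((x ^ r : Matrix.SpecialLinearGroup (Fin n) F) : Matrix (Fin n) (Fin n) F) =
        z • (1 : Matrix (Fin n) (Fin n) F)) ∧
      (∀ z : F, (x : Matrix (Fin n) (Fin n) F) ≠ z • (1 : Matrix (Fin n) (Fin n) F)) ∧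
      ¬ ∃ P : Matrix.SpecialLinearGroup (Fin n) F, P⁻¹ * x * P ∈
        ((Cfsg.Geo.subfieldSubgroup F₀ 1).comap (Matrix.SpecialLinearGroup.toGL :
          Matrix.SpecialLinearGroup (Fin n) F →* GL (Fin n) F)) := by
  classical
  have hr : r.Prime := Fact.out
  obtain ⟨x, g, -, -, -, hxr, hxns, hker, -⟩ :=
    Cfsg.Agent.S5958P.model_single (F := F) r hrp n 1 hi2 le_rfl (by rw [mul_one]; exact hin)
  rw [mul_one] at hker
  refine ⟨x, ⟨1, ?_⟩, hxns, ?_⟩
  · rw [one_smul]
    simpa using hxr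
  rintro ⟨P, hP⟩
  have hn1 : 1 ≤ n := by omega
  -- r ∤ q₀ - 1
  have hq0pos : 1 ≤ Nat.card F₀ := Nat.card_pos
  have hr0 : ¬ r ∣ Nat.card F₀ - 1 := by
    intro h
    have h1 : r ∣ Nat.card F₀ ^ 1 - 1 := by rwa [pow_one]
    rw [NT.dvd_pow_sub_one_iff r (Nat.card F₀) 1 hq0pos] at h1
    have := Nat.dvd_one.mp h1
    omega
  -- r ∤ q - 1
  have hqpos : 1 ≤ Fintype.card F := Fintype.card_pos
  have hrq : ¬ r ∣ Fintype.card F - 1 := by
    intro h
    have h1 : r ∣ Fintype.card F ^ 1 - 1 := by rwa [pow_one]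
    rw [NT.dvd_pow_sub_one_iff r (Fintype.card F) 1 hqpos] at h1
    have := Nat.dvd_one.mp h1
    omega
  obtain ⟨ω, M₀, hω, hM₀, hXP⟩ := nec_of_conj_mem n hn1 F₀ r hr0 x P 1
    (by rw [one_smul]; exact hxr) hP
  -- ω = 1
  have hω1 : ω = 1 := by
    have hω0 : ω ≠ 0 := by
      rintro rfl
      rw [zero_pow hr.ne_zero] at hω
      exact zero_ne_one hω
    have hu : (Units.mk0 ω hω0) ^ r = 1 := by
      apply Units.ext
      simpa using hω
    have h1 : orderOf (Units.mk0 ω hω0) ∣ r := orderOf_dvd_of_pow_eq_one hu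
    have h2 : orderOf (Units.mk0 ω hω0) ∣ Fintype.card F - 1 := by
      rw [← Fintype.card_units]
      exact orderOf_dvd_card
    rcases (Nat.dvd_prime hr).mp h1 with h | h
    · have := orderOf_eq_one_iff.mp h
      have := congrArg (fun u : Fˣ => (u : F)) this
      simpa using this
    · rw [h] at h2
      exact absurd h2 hrq
  rw [hω1, one_smul] at hXP
  -- ranks
  set X : Matrix (Fin n) (Fin n) F := (x : Matrix (Fin n) (Fin n) F) with hXdef
  set Pm : Matrix (Fin n) (Fin n) F := (P : Matrix (Fin n) (Fin n) F) with hPdef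
  set M : Matrix (Fin n) (Fin n) F := M₀.map F₀.subtype with hMdef
  have hPdet : IsUnit Pm.det := by
    rw [hPdef, Matrix.SpecialLinearGroup.det_coe]
    exact isUnit_one
  have hmul : (X - 1) * Pm = Pm * (M - 1) := by
    rw [Matrix.sub_mul, Matrix.mul_sub, hXP, Matrix.one_mul, Matrix.mul_one]
  have hrank : (X - 1).rank = (M - 1).rank := by
    rw [← Matrix.rank_mul_eq_left_of_isUnit_det Pm (X - 1) hPdet, hmul,
      Matrix.rank_mul_eq_right_of_isUnit_det Pm (M - 1) hPdet]
  have hkerX : Module.finrank F (LinearMap.ker (Matrix.toLin' (X - 1))) =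
      n - orderOf ((Fintype.card F : ℕ) : ZMod r) := by
    have e1 : Matrix.toLin' (X - 1) = Matrix.toLin' X - 1 := by
      rw [map_sub, Matrix.toLin'_one]
      rfl
    rw [e1, hker]
  have hM1 : M - 1 = (M₀ - 1).map F₀.subtype := by
    rw [hMdef]
    ext a b
    simp [Matrix.map_apply, Matrix.sub_apply, Matrix.one_apply]
    split_ifs <;> simp
  have hkerM : Module.finrank F₀ (LinearMap.ker (Matrix.toLin' (M₀ - 1))) =
      n - orderOf ((Fintype.card F : ℕ) : ZMod r) := by
    rw [← finrank_ker_map F₀ n (M₀ - 1), ← hM1, finrank_ker_toLin', ← hrank,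
      ← finrank_ker_toLin', hkerX]
  -- cyc_main over F₀
  have : Fintype F₀ := Fintype.ofFinite F₀
  have hf : (Matrix.toLin' M₀) ^ r = 1 := by
    rw [← Matrix.toLin'_pow, hM₀, Matrix.toLin'_one]
    rfl
  have hcyc := (Cfsg.Agent.S5949P.cyc_main (F := F₀) (V := Fin n → F₀) (p := p) r hrp
    (Matrix.toLin' M₀) hf).1
  have hkerM' : Module.finrank F₀ (LinearMap.ker (Matrix.toLin' M₀ - 1)) =
      n - orderOf ((Fintype.card F : ℕ) : ZMod r) := by
    have e1 : Matrix.toLin' (M₀ - 1) = Matrix.toLin' M₀ - 1 := by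
      rw [map_sub, Matrix.toLin'_one]
      rfl
    rw [← e1, hkerM]
  rw [hkerM', Module.finrank_fin_fun, ← Nat.card_eq_fintype_card] at hcyc
  have hsub : n - (n - orderOf ((Fintype.card F : ℕ) : ZMod r)) =
      orderOf ((Fintype.card F : ℕ) : ZMod r) := by omega
  rw [hsub] at hcyc
  have := Nat.le_of_dvd (by omega) hcyc
  omega

end Cfsg.Agent.S5965P
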