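import Mathlib

set_option autoImplicit false

/-! S5965 pieces E2, E3 (Mathlib only): condition (★) for two explicit exponent vectors. -/

namespace Cfsg.Agent.S5965P

namespace E23

theorem card_le_of_val_mem {n : ℕ} {P : Fin n → Prop} (S : Finset ℕ)
    (h : ∀ j : Fin n, P j → (j : ℕ) ∈ S) : Nat.card {j // P j} ≤ S.card := by
  let f : {j // P j} → ↥S := fun j => ⟨(j.1 : ℕ), h j.1 j.2⟩
  have hf : Function.Injective f := by
    intro a b hab
    have : ((a.1 : Fin n) : ℕ) = ((b.1 : Fin n) : ℕ) := congrArg (fun s : ↥S => (s : ℕ)) hab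
    exact Subtype.ext (Fin.ext this)
  have := Nat.card_le_card_of_injective f hf
  rwa [Nat.card_eq_fintype_card (α := ↥S), Fintype.card_coe] at this

theorem le_card_of_val_ge {n : ℕ} {P : Fin n → Prop} (k : ℕ)
    (h : ∀ j : Fin n, k ≤ (j : ℕ) → P j) : n - k ≤ Nat.card {j // P j} := by
  let f : Fin (n - k) → {j // P j} := fun i =>
    ⟨⟨(i : ℕ) + k, by have := i.2; omega⟩, h _ (by simp)⟩
  have hf : Function.Injective f := by
    intro a b hab
    have h1 := congrArg (fun s : {j // P j} => ((s.1 : Fin n) : ℕ)) hab
    simp only [f] at h1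
    exact Fin.ext (by omega)
  have := Nat.card_le_card_of_injective f hf
  rwa [Nat.card_eq_fintype_card (α := Fin (n - k)), Fintype.card_fin] at this

theorem two_ne_zero' (r : ℕ) [Fact r.Prime] (hr2 : r ≠ 2) : (2 : ZMod r) ≠ 0 := by
  intro h
  have h' : ((2 : ℕ) : ZMod r) = 0 := by exact_mod_cast h
  rw [ZMod.natCast_eq_zero_iff] at h'
  exact hr2 ((Nat.prime_dvd_prime_iff_eq Fact.out Nat.prime_two).mp h')

theorem three_eq_zero_iff (r : ℕ) [Fact r.Prime] : (3 : ZMod r) = 0 ↔ r = 3 := by
  constructor
  · intro h
    have h' : ((3 : ℕ) : ZMod r) = 0 := by exact_mod_cast h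
    rw [ZMod.natCast_eq_zero_iff] at h'
    exact (Nat.prime_dvd_prime_iff_eq Fact.out Nat.prime_three).mp h'
  · rintro rfl
    have : ((3 : ℕ) : ZMod 3) = 0 := by rw [ZMod.natCast_eq_zero_iff]
    exact_mod_cast this

end E23

open E23 in
/-- E2: `e = (1, 0, …, 0)`, `n ≥ 3`, `u ≠ 1` -/
theorem star_E2 (r : ℕ) [Fact r.Prime] (hr2 : r ≠ 2) (n : ℕ) (hn : 3 ≤ n) (u : ZMod r)
    (hu0 : u ≠ 0) (hu1 : u ≠ 1)
    (e : Fin n → ZMod r) (he0 : e ⟨0, by omega⟩ = 1)
    (he : ∀ j : Fin n, 1 ≤ (j : ℕ) → e j = 0) :
    ∀ a : ZMod r, ∃ b : ZMod r, Nat.card {j // e j = a + b} ≠ Nat.card {j // e j = a + u * b} := by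
  intro a
  have hnz : ∀ c : ZMod r, c ≠ 0 → ∀ j : Fin n, e j = c → (j : ℕ) ∈ ({0} : Finset ℕ) := by
    intro c hc j hj
    by_contra hj0
    have : 1 ≤ (j : ℕ) := by
      simp only [Finset.mem_singleton] at hj0
      omega
    exact hc (by rw [← hj, he j this])
  by_cases ha : a = 0
  · subst ha
    refine ⟨1, ?_⟩
    have h1 : 0 < Nat.card {j // e j = 0 + 1} := by
      have : Nonempty {j // e j = 0 + 1} := ⟨⟨⟨0, by omega⟩, by rw [he0, zero_add]⟩⟩
      exact Nat.card_pos
    have h2 : Nat.card {j // e j = 0 + u * 1} = 0 := by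
      have : IsEmpty {j // e j = 0 + u * 1} := by
        constructor
        rintro ⟨j, hj⟩
        rw [zero_add, mul_one] at hj
        have hj0 := hnz u hu0 j hj
        simp only [Finset.mem_singleton] at hj0
        have hj' : j = ⟨0, by omega⟩ := Fin.ext hj0
        rw [hj', he0] at hj
        exact hu1 hj.symm
      exact Nat.card_of_isEmpty
    omega
  · refine ⟨-a, ?_⟩
    have h1 : 2 ≤ Nat.card {j // e j = a + -a} := by
      have := le_card_of_val_ge (P := fun j => e j = a + -a) 1
        (fun j hj => by rw [he j hj]; ring)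
      omega
    have hne : a + u * -a ≠ 0 := by
      have : a + u * -a = a * (1 - u) := by ring
      rw [this]
      exact mul_ne_zero ha (sub_ne_zero.mpr (Ne.symm hu1))
    have h2 : Nat.card {j // e j = a + u * -a} ≤ 1 := by
      have := card_le_of_val_mem (P := fun j => e j = a + u * -a) {0} (hnz _ hne)
      simpa using this
    omega

open E23 in
/-- E3: `e = (1, 1, -2, 0, …, 0)`, `u = -1`, `n ≥ 6` (`n ≥ 7` if `r = 3`) -/
theorem star_E3 (r : ℕ) [Fact r.Prime] (hr2 : r ≠ 2) (n : ℕ) (hn : 6 ≤ n) (hn3 : r = 3 → 7 ≤ n)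
    (e : Fin n → ZMod r) (he0 : e ⟨0, by omega⟩ = 1) (he1 : e ⟨1, by omega⟩ = 1)
    (he2 : e ⟨2, by omega⟩ = -2) (he : ∀ j : Fin n, 3 ≤ (j : ℕ) → e j = 0) :
    ∀ a : ZMod r, ∃ b : ZMod r, Nat.card {j // e j = a + b} ≠
      Nat.card {j // e j = a + (-1) * b} := by
  intro a
  have h2 := two_ne_zero' r hr2
  have hlt3 : ∀ c : ZMod r, c ≠ 0 → ∀ j : Fin n, e j = c → (j : ℕ) < 3 := by
    intro c hc j hj
    by_contra hj3
    exact hc (by rw [← hj, he j (by omega)])
  have hcases : ∀ j : Fin n, (j : ℕ) < 3 → e j = 1 ∨ e j = -2 := by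
    intro j hj
    have : (j : ℕ) = 0 ∨ (j : ℕ) = 1 ∨ (j : ℕ) = 2 := by omega
    rcases this with h | h | h
    · left; rw [show j = ⟨0, by omega⟩ from Fin.ext h]; exact he0
    · left; rw [show j = ⟨1, by omega⟩ from Fin.ext h]; exact he1
    · right; rw [show j = ⟨2, by omega⟩ from Fin.ext h]; exact he2
  by_cases ha : a = 0
  · subst ha
    refine ⟨1, ?_⟩
    have h1 : 0 < Nat.card {j // e j = 0 + 1} := by
      have : Nonempty {j // e j = 0 + 1} := ⟨⟨⟨0, by omega⟩, by rw [he0, zero_add]⟩⟩
      exact Nat.card_pos
    have h2' : Nat.card {j // e j = 0 + (-1) * 1} = 0 := by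
      have : IsEmpty {j // e j = 0 + (-1) * 1} := by
        constructor
        rintro ⟨j, hj⟩
        rw [zero_add, mul_one] at hj
        have hm1 : (-1 : ZMod r) ≠ 0 := neg_ne_zero.mpr one_ne_zero
        have hj3 := hlt3 _ hm1 j hj
        rcases hcases j hj3 with h | h
        · rw [h] at hj
          -- 1 = -1 → 2 = 0
          apply h2
          have : (2 : ZMod r) = 1 + 1 := by norm_num
          rw [this]
          nth_rewrite 1 [hj]
          ring
        · rw [h] at hj
          -- -2 = -1 → 1 = 0
          have : (1 : ZMod r) = 0 := by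
            have h3 : (2 : ZMod r) = 1 := by
              have := congrArg (fun x : ZMod r => -x) hj
              simpa using this
            calc (1 : ZMod r) = 2 - 1 := by norm_num
              _ = 0 := by rw [h3]; ring
          exact one_ne_zero this
      exact Nat.card_of_isEmpty
    omega
  · refine ⟨-a, ?_⟩
    have h1 : n - 3 ≤ Nat.card {j // e j = a + -a} :=
      le_card_of_val_ge (P := fun j => e j = a + -a) 3 (fun j hj => by rw [he j hj]; ring)
    have hne : a + (-1) * -a ≠ 0 := by
      have : a + (-1) * -a = 2 * a := by ring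
      rw [this]
      exact mul_ne_zero h2 ha
    by_cases hr3 : r = 3
    · have h3 : Nat.card {j // e j = a + (-1) * -a} ≤ 3 := by
        have := card_le_of_val_mem (P := fun j => e j = a + (-1) * -a) {0, 1, 2}
          (fun j hj => by
            have := hlt3 _ hne j hj
            simp only [Finset.mem_insert, Finset.mem_singleton]
            omega)
        exact le_trans this (by decide)
      have := hn3 hr3
      omega
    · have h3 : Nat.card {j // e j = a + (-1) * -a} ≤ 2 := by
        by_cases hc1 : a + (-1) * -a = 1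
        · have := card_le_of_val_mem (P := fun j => e j = a + (-1) * -a) {0, 1}
            (fun j hj => by
              have hj3 := hlt3 _ hne j hj
              simp only [Finset.mem_insert, Finset.mem_singleton]
              by_contra hcon
              have hj2 : (j : ℕ) = 2 := by omega
              have : e j = -2 := by
                rw [show j = ⟨2, by omega⟩ from Fin.ext hj2]; exact he2
              rw [hj, hc1] at this
              -- 1 = -2 → 3 = 0
              apply hr3
              rw [← three_eq_zero_iff]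
              calc (3 : ZMod r) = 1 + 2 := by norm_num
                _ = 0 := by rw [this]; ring)
          exact le_trans this (by decide)
        · have := card_le_of_val_mem (P := fun j => e j = a + (-1) * -a) {2}
            (fun j hj => by
              have hj3 := hlt3 _ hne j hj
              simp only [Finset.mem_singleton]
              rcases hcases j hj3 with h | h
              · exfalso; apply hc1; rw [← hj, h]
              · by_contra hcon
                have : (j : ℕ) = 0 ∨ (j : ℕ) = 1 := by omega
                rcases this with h' | h'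
                · apply hc1
                  rw [← hj, show j = ⟨0, by omega⟩ from Fin.ext h']; exact he0
                · apply hc1
                  rw [← hj, show j = ⟨1, by omega⟩ from Fin.ext h']; exact he1)
          exact le_trans this (by decide)
      omega

end Cfsg.Agent.S5965P
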