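import Mathlib
import Cfsg.Prelude.Def_GeometricClasses
import Cfsg.Prelude.Def_ClassicalGeometry
import Cfsg.Agent.Helper27.S5975Defs
import Cfsg.Agent.Helper21.S5975PERF

set_option autoImplicit false
open scoped MatrixGroups

/-! S5975 piece HYP: a `K`-hyperbolic pair in a non-degenerate `K`-invariant subspace. -/

namespace Cfsg.Agent.S5975P

/-- HYP (uses PERF) -/
theorem exists_hyperbolic_pair {F : Type*} [Field F] (d k : ℕ) (hk : 0 < k)
    (K : Subalgebra F (Matrix (Fin d ⊕ Fin d) (Fin d ⊕ Fin d) F)) (hK : HypK d k F K)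
    (τ : K →ₗ[F] F) (W : Submodule F (Fin d ⊕ Fin d → F))
    (hWK : KInv d F K W) (hWnd : NDeg d F W) (hW : W ≠ ⊥) :
    ∃ u ∈ W, ∃ v ∈ W, ∀ a b : K,
      Cfsg.sympForm d F (a.1.mulVec u) (b.1.mulVec v) = τ (a * b) := by
  obtain ⟨u, huW, hu0⟩ := Submodule.exists_mem_ne_zero_of_ne_bot hW
  obtain ⟨v', hv'W, hv'⟩ : ∃ v' ∈ W, Cfsg.sympForm d F u v' ≠ 0 := by
    by_contra hcon
    push Not at hcon
    exact hu0 (hWnd u huW hcon)
  let φ : K →ₗ[F] F :=
    { toFun := fun a => Cfsg.sympForm d F (a.1.mulVec u) v'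
      map_add' := by
        intro a b
        show Cfsg.sympForm d F ((a + b).1.mulVec u) v' = _
        rw [Subalgebra.coe_add, Matrix.add_mulVec, sympForm_add_left]
      map_smul' := by
        intro c a
        show Cfsg.sympForm d F ((c • a).1.mulVec u) v' = _
        rw [Subalgebra.coe_smul, Matrix.smul_mulVec, sympForm_smul_left]
        rfl }
  have hφ : ∀ a : K, φ a = Cfsg.sympForm d F (a.1.mulVec u) v' := fun a => rfl
  have hφ0 : φ ≠ 0 := by
    intro h
    apply hv'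
    have h1 : φ 1 = 0 := by rw [h]; rfl
    rw [hφ, Subalgebra.coe_one, Matrix.one_mulVec] at h1
    exact h1
  obtain ⟨c, hc⟩ := exists_repr_functional d k hk K hK.field φ hφ0 τ
  refine ⟨u, huW, c.1.mulVec v', hWK c.1 c.2 v' hv'W, ?_⟩
  intro a b
  rw [← hK.sa b.1 b.2, Matrix.mulVec_mulVec, ← hK.sa c.1 c.2, Matrix.mulVec_mulVec,
    hK.field.comm b.1 b.2 a.1 a.2, hc (a * b), hφ]
  rfl

end Cfsg.Agent.S5975P
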