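import Mathlib
import Cfsg.Prelude.Def_GeometricClasses
import Cfsg.Prelude.Def_ClassicalGeometry
import Cfsg.Agent.Helper27.S5975Defs

set_option autoImplicit false
open scoped MatrixGroups

/-! S5975 piece SIGMA2: the conjugation of a quadratic algebra in characteristic `≠ 2` and an invariant
functional. -/

namespace Cfsg.Agent.S5975P

namespace SIGMA2

open Module

/-- coordinates with respect to the basis `{1, w}` of a two-dimensional algebra -/
theorem coords {F A : Type*} [Field F] [Ring A] [Algebra F A] (hfr : Module.finrank F A = 2)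
    (h1 : (1 : A) ≠ 0) (w : A) (hw : w ∉ Submodule.span F {(1 : A)}) :
    ∃ x y : A →ₗ[F] F, (∀ a, a = x a • (1 : A) + y a • w) ∧
      (∀ p q : F, x (p • (1 : A) + q • w) = p ∧ y (p • (1 : A) + q • w) = q) := by
  have li : LinearIndependent F ![w, (1 : A)] := by
    rw [LinearIndependent.pair_iff]
    intro s t hst
    by_cases hs : s = 0
    · subst hs
      rw [zero_smul, zero_add] at hst
      refine ⟨rfl, ?_⟩
      by_contra ht
      apply h1
      have := congrArg (fun z => t⁻¹ • z) hst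
      simpa [smul_smul, inv_mul_cancel₀ ht] using this
    · exfalso
      apply hw
      rw [Submodule.mem_span_singleton]
      refine ⟨-(s⁻¹ * t), ?_⟩
      have h3 : s • w = -(t • (1 : A)) := eq_neg_of_add_eq_zero_left hst
      have := congrArg (fun z => s⁻¹ • z) h3
      simp only [smul_smul, inv_mul_cancel₀ hs, one_smul, smul_neg] at this
      rw [this, neg_smul]
  have hfin : Module.Finite F A := Module.finite_of_finrank_pos (by rw [hfr]; norm_num)
  have hcard : Fintype.card (Fin 2) = Module.finrank F A := by rw [hfr]; rfl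
  let b := basisOfLinearIndependentOfCardEqFinrank li hcard
  have hb : ⇑b = ![w, (1 : A)] := coe_basisOfLinearIndependentOfCardEqFinrank li hcard
  have hb0 : b 0 = w := by rw [hb]; rfl
  have hb1 : b 1 = 1 := by rw [hb]; rfl
  have e11 : b.coord 1 (1 : A) = 1 := by
    rw [← hb1, Basis.coord_apply, Basis.repr_self_apply, if_pos rfl]
  have e10 : b.coord 1 w = 0 := by
    rw [← hb0, Basis.coord_apply, Basis.repr_self_apply, if_neg (by decide)]
  have e01 : b.coord 0 (1 : A) = 0 := by
    rw [← hb1, Basis.coord_apply, Basis.repr_self_apply, if_neg (by decide)]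
  have e00 : b.coord 0 w = 1 := by
    rw [← hb0, Basis.coord_apply, Basis.repr_self_apply, if_pos rfl]
  refine ⟨b.coord 1, b.coord 0, ?_, ?_⟩
  · intro a
    have := b.sum_repr a
    rw [Fin.sum_univ_two, hb0, hb1] at this
    rw [Basis.coord_apply, Basis.coord_apply, add_comm]
    exact this.symm
  · intro p q
    constructor
    · rw [map_add, map_smul, map_smul, e11, e10, smul_eq_mul, smul_eq_mul, mul_one, mul_zero,
        add_zero]
    · rw [map_add, map_smul, map_smul, e01, e00, smul_eq_mul, smul_eq_mul, mul_one, mul_zero,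
        zero_add]

/-- the conjugation and an invariant functional of a two-dimensional algebra, `2 ≠ 0` -/
theorem main {F A : Type*} [Field F] [Ring A] [Algebra F A] (h2 : (2 : F) ≠ 0)
    (hfr : Module.finrank F A = 2) :
    ∃ (σ : A →ₗ[F] A) (τ : A →ₗ[F] F), (∀ a b : A, σ (a * b) = σ a * σ b) ∧
      (∀ a : A, σ (σ a) = a) ∧ (∀ a : A, σ a = a → ∃ c : F, a = algebraMap F A c) ∧
      (∀ c : F, σ (algebraMap F A c) = algebraMap F A c) ∧ τ ≠ 0 ∧ ∀ a : A, τ (σ a) = τ a := by
  have h1ne : (1 : A) ≠ 0 := by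
    intro h
    have hss : Subsingleton A :=
      ⟨fun a b => by rw [← one_mul a, ← one_mul b, h, zero_mul, zero_mul]⟩
    have := Module.finrank_zero_of_subsingleton (R := F) (M := A)
    omega
  obtain ⟨ι, hι⟩ : ∃ ι : A, ι ∉ Submodule.span F {(1 : A)} := by
    by_contra hcon
    push Not at hcon
    have htop : Submodule.span F {(1 : A)} = ⊤ := eq_top_iff.mpr (fun a _ => hcon a)
    have h1 := finrank_span_singleton (K := F) h1ne
    rw [htop, finrank_top, hfr] at h1
    norm_num at h1
  obtain ⟨x0, y0, hdec0, -⟩ := coords hfr h1ne ι hι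
  obtain ⟨h, hh⟩ : ∃ h : F, y0 (ι * ι) = 2 * h := ⟨y0 (ι * ι) / 2, by field_simp⟩
  have hιι : ι * ι = x0 (ι * ι) • (1 : A) + (2 * h) • ι := by
    have := hdec0 (ι * ι)
    rwa [hh] at this
  obtain ⟨α, hα⟩ : ∃ α : F, α = x0 (ι * ι) := ⟨_, rfl⟩
  rw [← hα] at hιι
  obtain ⟨ι', hι'def⟩ : ∃ ι' : A, ι' = ι - h • (1 : A) := ⟨_, rfl⟩
  have hι' : ι' ∉ Submodule.span F {(1 : A)} := by
    intro hmem
    apply hι
    have : ι = ι' + h • (1 : A) := by rw [hι'def]; abel
    rw [this]
    exact Submodule.add_mem _ hmem (Submodule.smul_mem _ _ (Submodule.mem_span_singleton_self _))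
  have hι2 : ι' * ι' = (α + h * h) • (1 : A) := by
    rw [hι'def]
    simp only [sub_mul, mul_sub, smul_mul_assoc, mul_smul_comm, one_mul, mul_one]
    rw [hιι]
    module
  obtain ⟨x, y, hdec, huniq⟩ := coords hfr h1ne ι' hι'
  have hx' : ∀ p q : F, x (p • (1 : A) - q • ι') = p := by
    intro p q
    have := (huniq p (-q)).1
    rwa [neg_smul, ← sub_eq_add_neg] at this
  have hy' : ∀ p q : F, y (p • (1 : A) - q • ι') = -q := by
    intro p q
    have := (huniq p (-q)).2
    rwa [neg_smul, ← sub_eq_add_neg] at this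
  let σ : A →ₗ[F] A := x.smulRight (1 : A) - y.smulRight ι'
  have hσ : ∀ p q : F, σ (p • (1 : A) + q • ι') = p • (1 : A) - q • ι' := by
    intro p q
    show x (p • (1 : A) + q • ι') • (1 : A) - y (p • (1 : A) + q • ι') • ι' = _
    rw [(huniq p q).1, (huniq p q).2]
  have hσ' : ∀ p q : F, σ (p • (1 : A) - q • ι') = p • (1 : A) + q • ι' := by
    intro p q
    show x (p • (1 : A) - q • ι') • (1 : A) - y (p • (1 : A) - q • ι') • ι' = _
    rw [hx', hy', neg_smul, sub_neg_eq_add]
  have hex : ∀ a : A, ∃ p q : F, a = p • (1 : A) + q • ι' := fun a => ⟨_, _, hdec a⟩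
  refine ⟨σ, x, ?_, ?_, ?_, ?_, ?_, ?_⟩
  · intro a b
    obtain ⟨p, q, rfl⟩ := hex a
    obtain ⟨p', q', rfl⟩ := hex b
    have hab : (p • (1 : A) + q • ι') * (p' • (1 : A) + q' • ι') =
        (p * p' + q * q' * (α + h * h)) • (1 : A) + (p * q' + q * p') • ι' := by
      simp only [add_mul, mul_add, smul_mul_assoc, mul_smul_comm, one_mul, mul_one, smul_smul,
        hι2]
      module
    rw [hab, hσ, hσ, hσ]
    simp only [sub_mul, mul_sub, smul_mul_assoc, mul_smul_comm, one_mul, mul_one, smul_smul,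
      hι2]
    module
  · intro a
    obtain ⟨p, q, rfl⟩ := hex a
    rw [hσ, hσ']
  · intro a ha
    obtain ⟨p, q, rfl⟩ := hex a
    rw [hσ] at ha
    have h3 := congrArg y ha
    rw [hy', (huniq p q).2] at h3
    have hq : q = 0 := by
      have : 2 * q = 0 := by linear_combination -h3
      rcases mul_eq_zero.mp this with h4 | h4
      · exact absurd h4 h2
      · exact h4
    refine ⟨p, ?_⟩
    rw [hq, zero_smul, add_zero, Algebra.algebraMap_eq_smul_one]
  · intro c
    rw [Algebra.algebraMap_eq_smul_one]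
    have h3 := hσ c 0
    simp only [zero_smul, add_zero, sub_zero] at h3
    exact h3
  · intro h0
    have h3 := (huniq 1 0).1
    rw [h0] at h3
    simp at h3
  · intro a
    obtain ⟨p, q, rfl⟩ := hex a
    rw [hσ, hx', (huniq p q).1]

end SIGMA2

/-- SIGMA2 -/
theorem exists_conj_functional {F : Type*} [Field F] (h2 : (2 : F) ≠ 0) (d : ℕ)
    (K : Subalgebra F (Matrix (Fin d ⊕ Fin d) (Fin d ⊕ Fin d) F))
    (hK : Cfsg.Geo.IsFieldSubalgebra 2 K) :
    ∃ (σ : K →ₗ[F] K) (τ : K →ₗ[F] F), (∀ a b : K, σ (a * b) = σ a * σ b) ∧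
      (∀ a : K, σ (σ a) = a) ∧ (∀ a : K, σ a = a → ∃ c : F, a = algebraMap F K c) ∧
      (∀ c : F, σ (algebraMap F K c) = algebraMap F K c) ∧ τ ≠ 0 ∧ ∀ a : K, τ (σ a) = τ a :=
  SIGMA2.main h2 hK.finrank_eq

end Cfsg.Agent.S5975P
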