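import Mathlib
import Cfsg.Prelude.Def_GeometricClasses
import Cfsg.Prelude.Def_ClassicalGeometry
import Cfsg.Agent.Helper28.Symp

set_option autoImplicit false
open scoped MatrixGroups Matrix

/-! S5976 piece TRANSV: a symplectic transvection. -/

namespace Cfsg.Agent.S5976P

namespace TRANSV

open Cfsg.Agent.Helper28

variable {F : Type*} [Field F]

theorem pow_eq (m : ℕ) (v : Fin m ⊕ Fin m → F) (k : ℕ) :
    (Cfsg.sympTransvection m v 1) ^ k = Cfsg.sympTransvection m v (k : F) := by
  induction k with
  | zero => rw [pow_zero, Nat.cast_zero, sympTransvection_zero]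
  | succ k ih => rw [pow_succ, ih, sympTransvection_mul, Nat.cast_succ]

/-- the transvection as an element of `GL` -/
noncomputable def tGL (m : ℕ) (v : Fin m ⊕ Fin m → F) : GL (Fin m ⊕ Fin m) F :=
  ⟨Cfsg.sympTransvection m v 1, Cfsg.sympTransvection m v (-1),
    by rw [sympTransvection_mul, add_neg_cancel, sympTransvection_zero],
    by rw [sympTransvection_mul, neg_add_cancel, sympTransvection_zero]⟩

/-- the functional `y ↦ f(y, v)` -/
noncomputable def phi (m : ℕ) (v : Fin m ⊕ Fin m → F) : Module.Dual F (Fin m ⊕ Fin m → F) where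
  toFun y := Cfsg.sympForm m F y v
  map_add' y y' := sympForm_add_left y y' v
  map_smul' c y := by
    rw [sympForm_smul_left]
    rfl

end TRANSV

open TRANSV Cfsg.Agent.Helper28 in
/-- TRANSV -/
theorem exists_transvection {F : Type*} [Field F] {p : ℕ} [Fact p.Prime] [CharP F p]
    (d : ℕ) (hd : 1 ≤ d) :
    ∃ x ∈ Cfsg.spGL d F,
      ((x ^ p : GL (Fin d ⊕ Fin d) F) : Matrix (Fin d ⊕ Fin d) (Fin d ⊕ Fin d) F) = 1 ∧
      Module.finrank F (LinearMap.ker (Matrix.toLin'
        ((x : Matrix (Fin d ⊕ Fin d) (Fin d ⊕ Fin d) F) - 1))) = 2 * d - 1 := by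
  let i0 : Fin d := ⟨0, hd⟩
  let v : Fin d ⊕ Fin d → F := Pi.single (Sum.inl i0) 1
  let w : Fin d ⊕ Fin d → F := Pi.single (Sum.inr i0) 1
  have hv0 : v ≠ 0 := by
    intro h
    have := congrFun h (Sum.inl i0)
    simp [v] at this
  have hwv : Cfsg.sympForm d F w v = 1 := by
    rw [sympForm_explicit]
    rw [Finset.sum_eq_single i0]
    · simp [v, w]
    · intro j _ hj
      have h1 : (Sum.inr j : Fin d ⊕ Fin d) ≠ Sum.inr i0 := by
        intro h
        exact hj (Sum.inr_injective h)
      simp [v, w, h1]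
    · intro h
      exact absurd (Finset.mem_univ _) h
  refine ⟨tGL d v, ?_, ?_, ?_⟩
  · intro a b
    exact (mem_symplecticGroup_iff_preserves _).mp (sympTransvection_mem v 1) a b
  · rw [Units.val_pow_eq_pow_val]
    change (Cfsg.sympTransvection d v 1) ^ p = 1
    rw [pow_eq, CharP.cast_eq_zero, sympTransvection_zero]
  · have hker : LinearMap.ker (Matrix.toLin'
        (((tGL d v : GL (Fin d ⊕ Fin d) F) : Matrix (Fin d ⊕ Fin d) (Fin d ⊕ Fin d) F) - 1)) =
        LinearMap.ker (phi d v) := by
      ext y
      rw [LinearMap.mem_ker, LinearMap.mem_ker, Matrix.toLin'_apply, Matrix.sub_mulVec,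
        Matrix.one_mulVec]
      change Cfsg.sympTransvection d v 1 *ᵥ y - y = 0 ↔ Cfsg.sympForm d F y v = 0
      rw [sympTransvection_mulVec, add_sub_cancel_left, one_mul, smul_eq_zero]
      constructor
      · rintro (h | h)
        · exact h
        · exact absurd h hv0
      · intro h
        exact Or.inl h
    have hphi : phi d v ≠ 0 := by
      intro h
      have := LinearMap.congr_fun h w
      change Cfsg.sympForm d F w v = 0 at this
      rw [hwv] at this
      exact one_ne_zero this
    rw [hker]
    have h1 := Module.Dual.finrank_ker_add_one_of_ne_zero hphi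
    have h2 : Module.finrank F (Fin d ⊕ Fin d → F) = 2 * d := by
      rw [Module.finrank_fintype_fun_eq_card, Fintype.card_sum, Fintype.card_fin]
      ring
    omega

end Cfsg.Agent.S5976P
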