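import Mathlib
import Cfsg.Prelude.Def_GeometricClasses

set_option autoImplicit false
open scoped MatrixGroups

/-! S5979 piece MD: diagonal model elements of `SL_n` (Mathlib + Prelude only). -/

namespace Cfsg.Agent.S5979P

namespace MD

variable {F : Type*} [Field F]

theorem exists_diag (n : ℕ) (d : Fin n → F) (hdet : ∏ j, d j = 1) :
    ∃ x : GL (Fin n) F, x ∈ Cfsg.Geo.specialLinear (Fin n) F ∧
      (x : Matrix (Fin n) (Fin n) F) = Matrix.diagonal d := by
  have hne : (Matrix.diagonal d).det ≠ 0 := by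
    rw [Matrix.det_diagonal, hdet]; exact one_ne_zero
  refine ⟨Matrix.GeneralLinearGroup.mkOfDetNeZero _ hne, ?_, rfl⟩
  unfold Cfsg.Geo.specialLinear
  rw [MonoidHom.mem_ker]
  apply Units.ext
  rw [Matrix.GeneralLinearGroup.val_det_apply]
  show (Matrix.diagonal d).det = 1
  rw [Matrix.det_diagonal, hdet]

theorem rank_diag_sub (n : ℕ) (d : Fin n → F) (c : F) (P : Fin n → Prop) [DecidablePred P]
    (hP : ∀ j, d j - c ≠ 0 ↔ P j) :
    Module.finrank F (LinearMap.range (Matrix.toLin' (Matrix.diagonal d) -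
      c • (1 : Module.End F (Fin n → F)))) = Fintype.card {j // P j} := by
  classical
  have h1 : Matrix.toLin' (Matrix.diagonal d) - c • (1 : Module.End F (Fin n → F)) =
      Matrix.toLin' (Matrix.diagonal (fun j => d j - c)) := by
    have : Matrix.diagonal (fun j => d j - c) =
        Matrix.diagonal d - c • (1 : Matrix (Fin n) (Fin n) F) := by
      ext a b
      by_cases h : a = b <;> simp [h]
    rw [this, map_sub, map_smul, Matrix.toLin'_one]
    rfl
  rw [h1]
  have h2 : Module.finrank F (LinearMap.range (Matrix.toLin' (Matrix.diagonal (fun j => d j - c))))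
      = (Matrix.diagonal (fun j => d j - c)).rank := by
    rw [Matrix.rank, Matrix.toLin'_apply']
  rw [h2, Matrix.rank_diagonal]
  exact Fintype.card_congr (Equiv.subtypeEquivRight hP)

theorem card_val_lt (n k : ℕ) (hk : k ≤ n) : Fintype.card {j : Fin n // (j : ℕ) < k} = k := by
  have e : {j : Fin n // (j : ℕ) < k} ≃ Fin k :=
    { toFun := fun j => ⟨(j.1 : ℕ), j.2⟩
      invFun := fun i => ⟨⟨(i : ℕ), lt_of_lt_of_le i.2 hk⟩, i.2⟩
      left_inv := fun j => rfl
      right_inv := fun i => rfl }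
  rw [Fintype.card_congr e, Fintype.card_fin]

theorem card_val_ge (n k : ℕ) (hk : k ≤ n) :
    Fintype.card {j : Fin n // ¬ (j : ℕ) < k} = n - k := by
  rw [Fintype.card_subtype_compl, card_val_lt n k hk, Fintype.card_fin]

theorem pow_coe (n : ℕ) (x : GL (Fin n) F) (d : Fin n → F)
    (hx : (x : Matrix (Fin n) (Fin n) F) = Matrix.diagonal d) (k : ℕ) :
    ((x ^ k : GL (Fin n) F) : Matrix (Fin n) (Fin n) F) = Matrix.diagonal (fun j => d j ^ k) := by
  rw [Units.val_pow_eq_pow_val, hx, Matrix.diagonal_pow]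
  rfl

theorem diag_eq_smul_one (n : ℕ) (d : Fin n → F) (z : F)
    (h : Matrix.diagonal d = z • (1 : Matrix (Fin n) (Fin n) F)) (j : Fin n) : d j = z := by
  have := congrFun (congrFun h j) j
  simpa using this

end MD

open MD in
/-- MD1: `diag(-1, -1, 1, ..., 1)` -/
theorem model_neg_two {F : Type*} [Field F] (h2 : (2 : F) ≠ 0) (n : ℕ) (hn : 3 ≤ n) :
    ∃ x : GL (Fin n) F, x ∈ Cfsg.Geo.specialLinear (Fin n) F ∧
      ((x ^ 2 : GL (Fin n) F) : Matrix (Fin n) (Fin n) F) = (1 : F) • (1 : Matrix (Fin n) (Fin n) F) ∧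
      (∀ z : F, (x : Matrix (Fin n) (Fin n) F) ≠ z • (1 : Matrix (Fin n) (Fin n) F)) ∧
      Module.finrank F (LinearMap.range (Matrix.toLin' (x : Matrix (Fin n) (Fin n) F) -
        (1 : F) • (1 : Module.End F (Fin n → F)))) = 2 := by
  classical
  let d : Fin n → F := fun j => if (j : ℕ) < 2 then -1 else 1
  have hd1 : ∀ j : Fin n, (j : ℕ) < 2 → d j = -1 := fun j h => if_pos h
  have hd2 : ∀ j : Fin n, ¬ (j : ℕ) < 2 → d j = 1 := fun j h => if_neg h
  have hdet : ∏ j, d j = 1 := by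
    rw [Fintype.prod_eq_mul (⟨0, by omega⟩ : Fin n) (⟨1, by omega⟩ : Fin n)
      (by intro h; have := congrArg Fin.val h; simp at this)]
    · rw [hd1 _ (by simp), hd1 _ (by simp)]; ring
    · intro c hc
      apply hd2
      intro hlt
      have : (c : ℕ) = 0 ∨ (c : ℕ) = 1 := by omega
      rcases this with h | h
      · exact hc.1 (Fin.ext h)
      · exact hc.2 (Fin.ext h)
  obtain ⟨x, hxS, hx⟩ := exists_diag n d hdet
  refine ⟨x, hxS, ?_, ?_, ?_⟩
  · rw [pow_coe n x d hx 2, one_smul, ← Matrix.diagonal_one]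
    congr 1
    funext j
    by_cases h : (j : ℕ) < 2
    · rw [hd1 j h]; ring
    · rw [hd2 j h]; ring
  · intro z hz
    rw [hx] at hz
    have h0 := diag_eq_smul_one n d z hz ⟨0, by omega⟩
    have h3 := diag_eq_smul_one n d z hz ⟨2, by omega⟩
    rw [hd1 _ (by simp)] at h0
    rw [hd2 _ (by simp)] at h3
    apply h2
    have : (1 : F) = -1 := h3.trans h0.symm
    calc (2 : F) = 1 + 1 := by norm_num
      _ = 1 + -1 := by nth_rewrite 2 [this]; rfl
      _ = 0 := by ring
  · rw [hx, rank_diag_sub n d 1 (fun j => (j : ℕ) < 2), card_val_lt n 2 (by omega)]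
    intro j
    by_cases h : (j : ℕ) < 2
    · rw [hd1 j h]
      have : (-1 : F) - 1 = -2 := by ring
      rw [this]
      exact ⟨fun _ => h, fun _ => neg_ne_zero.mpr h2⟩
    · rw [hd2 j h, sub_self]
      exact ⟨fun hh => absurd rfl hh, fun hh => absurd hh h⟩

open MD in
/-- MD2: `μ * diag(-1, 1, ..., 1)` with `μ ^ n = -1` -/
theorem model_pseudo {F : Type*} [Field F] (h2 : (2 : F) ≠ 0) (n : ℕ) (hn : 2 ≤ n) (μ : F)
    (hμ : μ ^ n = -1) :
    ∃ x : GL (Fin n) F, x ∈ Cfsg.Geo.specialLinear (Fin n) F ∧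
      ((x ^ 2 : GL (Fin n) F) : Matrix (Fin n) (Fin n) F) = (μ ^ 2) • (1 : Matrix (Fin n) (Fin n) F) ∧
      (∀ z : F, (x : Matrix (Fin n) (Fin n) F) ≠ z • (1 : Matrix (Fin n) (Fin n) F)) ∧
      Module.finrank F (LinearMap.range (Matrix.toLin' (x : Matrix (Fin n) (Fin n) F) -
        μ • (1 : Module.End F (Fin n → F)))) = 1 := by
  classical
  have hμ0 : μ ≠ 0 := by
    rintro rfl
    rw [zero_pow (by omega)] at hμ
    have : (1 : F) = 0 := by
      have := congrArg (fun x : F => -x) hμ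
      simpa using this.symm
    exact one_ne_zero this
  let e : Fin n → F := fun j => if (j : ℕ) < 1 then -1 else 1
  have he1 : ∀ j : Fin n, (j : ℕ) < 1 → e j = -1 := fun j h => if_pos h
  have he2 : ∀ j : Fin n, ¬ (j : ℕ) < 1 → e j = 1 := fun j h => if_neg h
  let d : Fin n → F := fun j => μ * e j
  have hd : ∀ j, d j = μ * e j := fun j => rfl
  have he : ∏ j, e j = -1 := by
    rw [Fintype.prod_eq_single (⟨0, by omega⟩ : Fin n)]
    · exact he1 _ (by simp)
    · intro c hc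
      apply he2
      intro hlt
      exact hc (Fin.ext (by simpa using hlt))
  have hdet : ∏ j, d j = 1 := by
    have : ∏ j, d j = ∏ j, μ * e j := rfl
    rw [this, Finset.prod_mul_distrib, Finset.prod_const, Finset.card_univ, Fintype.card_fin, he, hμ]
    ring
  obtain ⟨x, hxS, hx⟩ := exists_diag n d hdet
  refine ⟨x, hxS, ?_, ?_, ?_⟩
  · rw [pow_coe n x d hx 2, Matrix.smul_one_eq_diagonal]
    congr 1
    funext j
    by_cases h : (j : ℕ) < 1
    · rw [hd, he1 j h]; ring
    · rw [hd, he2 j h]; ring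
  · intro z hz
    rw [hx] at hz
    have h0 := diag_eq_smul_one n d z hz ⟨0, by omega⟩
    have h1 := diag_eq_smul_one n d z hz ⟨1, by omega⟩
    rw [hd, he1 _ (by simp)] at h0
    rw [hd, he2 _ (by simp)] at h1
    have : (2 : F) * μ = 0 := by
      have h3 : μ * -1 = μ * 1 := by rw [h0, h1]
      have h4 : -μ = μ := by simpa using h3
      calc (2 : F) * μ = μ + μ := by ring
        _ = μ + -μ := by nth_rewrite 2 [← h4]; rfl
        _ = 0 := by ring
    rcases mul_eq_zero.mp this with h | h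
    · exact h2 h
    · exact hμ0 h
  · rw [hx, rank_diag_sub n d μ (fun j => (j : ℕ) < 1), card_val_lt n 1 (by omega)]
    intro j
    by_cases h : (j : ℕ) < 1
    · rw [hd, he1 j h]
      have : μ * -1 - μ = -(2 * μ) := by ring
      rw [this]
      exact ⟨fun _ => h, fun _ => neg_ne_zero.mpr (mul_ne_zero h2 hμ0)⟩
    · rw [hd, he2 j h, mul_one, sub_self]
      exact ⟨fun hh => absurd rfl hh, fun hh => absurd hh h⟩

open MD in
/-- MD3: `diag(ω, ω⁻¹, 1, ..., 1)` (needs `r ≠ 0`, otherwise `ω = 0` is a counterexample) -/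
theorem model_omega {F : Type*} [Field F] (n : ℕ) (hn : 3 ≤ n) (r : ℕ) (hr : r ≠ 0) (ω : F)
    (hω : ω ^ r = 1) (hω1 : ω ≠ 1) (hω2 : ω ^ 2 ≠ 1) :
    ∃ x : GL (Fin n) F, x ∈ Cfsg.Geo.specialLinear (Fin n) F ∧
      ((x ^ r : GL (Fin n) F) : Matrix (Fin n) (Fin n) F) = (1 : F) • (1 : Matrix (Fin n) (Fin n) F) ∧
      (∀ z : F, (x : Matrix (Fin n) (Fin n) F) ≠ z • (1 : Matrix (Fin n) (Fin n) F)) ∧
      Module.finrank F (LinearMap.range (Matrix.toLin' (x : Matrix (Fin n) (Fin n) F) -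
        (1 : F) • (1 : Module.End F (Fin n → F)))) = 2 ∧
      Module.finrank F (LinearMap.range (Matrix.toLin' (x : Matrix (Fin n) (Fin n) F) -
        ω • (1 : Module.End F (Fin n → F)))) = n - 1 := by
  classical
  have hω0 : ω ≠ 0 := by
    rintro rfl
    rw [zero_pow hr] at hω
    exact zero_ne_one hω
  have hinv1 : ω⁻¹ ≠ 1 := by
    intro h
    apply hω1
    rw [← inv_inv ω, h, inv_one]
  have hinvω : ω⁻¹ ≠ ω := by
    intro h
    apply hω2
    rw [pow_two]
    nth_rewrite 1 [← h]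
    exact inv_mul_cancel₀ hω0
  let d : Fin n → F := fun j => if (j : ℕ) < 1 then ω else if (j : ℕ) < 2 then ω⁻¹ else 1
  have hd0 : ∀ j : Fin n, (j : ℕ) < 1 → d j = ω := fun j h => if_pos h
  have hd1 : ∀ j : Fin n, ¬ (j : ℕ) < 1 → (j : ℕ) < 2 → d j = ω⁻¹ := fun j h h' => by
    show (if (j : ℕ) < 1 then ω else if (j : ℕ) < 2 then ω⁻¹ else 1) = ω⁻¹
    rw [if_neg h, if_pos h']
  have hd2 : ∀ j : Fin n, ¬ (j : ℕ) < 2 → d j = 1 := fun j h => by
    show (if (j : ℕ) < 1 then ω else if (j : ℕ) < 2 then ω⁻¹ else 1) = 1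
    rw [if_neg (by omega), if_neg h]
  have hdet : ∏ j, d j = 1 := by
    rw [Fintype.prod_eq_mul (⟨0, by omega⟩ : Fin n) (⟨1, by omega⟩ : Fin n)
      (by intro h; have := congrArg Fin.val h; simp at this)]
    · rw [hd0 _ (by simp), hd1 _ (by simp) (by simp)]
      exact mul_inv_cancel₀ hω0
    · intro c hc
      apply hd2
      intro hlt
      have : (c : ℕ) = 0 ∨ (c : ℕ) = 1 := by omega
      rcases this with h | h
      · exact hc.1 (Fin.ext h)
      · exact hc.2 (Fin.ext h)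
  obtain ⟨x, hxS, hx⟩ := exists_diag n d hdet
  refine ⟨x, hxS, ?_, ?_, ?_, ?_⟩
  · rw [pow_coe n x d hx r, one_smul, ← Matrix.diagonal_one]
    congr 1
    funext j
    by_cases h1 : (j : ℕ) < 1
    · rw [hd0 j h1, hω]
    · by_cases h2' : (j : ℕ) < 2
      · rw [hd1 j h1 h2', inv_pow, hω, inv_one]
      · rw [hd2 j h2', one_pow]
  · intro z hz
    rw [hx] at hz
    have h0 := diag_eq_smul_one n d z hz ⟨0, by omega⟩
    have h3 := diag_eq_smul_one n d z hz ⟨2, by omega⟩
    rw [hd0 _ (by simp)] at h0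
    rw [hd2 _ (by simp)] at h3
    exact hω1 (by rw [h0, h3])
  · rw [hx, rank_diag_sub n d 1 (fun j => (j : ℕ) < 2), card_val_lt n 2 (by omega)]
    intro j
    by_cases h1 : (j : ℕ) < 1
    · have h2' : (j : ℕ) < 2 := by omega
      rw [hd0 j h1]
      exact ⟨fun _ => h2', fun _ => sub_ne_zero.mpr hω1⟩
    · by_cases h2' : (j : ℕ) < 2
      · rw [hd1 j h1 h2']
        exact ⟨fun _ => h2', fun _ => sub_ne_zero.mpr hinv1⟩
      · rw [hd2 j h2', sub_self]
        exact ⟨fun hh => absurd rfl hh, fun hh => absurd hh h2'⟩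
  · rw [hx, rank_diag_sub n d ω (fun j => ¬ (j : ℕ) < 1), card_val_ge n 1 (by omega)]
    intro j
    by_cases h1 : (j : ℕ) < 1
    · rw [hd0 j h1, sub_self]
      exact ⟨fun hh => absurd rfl hh, fun hh => absurd h1 hh⟩
    · by_cases h2' : (j : ℕ) < 2
      · rw [hd1 j h1 h2']
        exact ⟨fun _ => h1, fun _ => sub_ne_zero.mpr hinvω⟩
      · rw [hd2 j h2']
        exact ⟨fun _ => h1, fun _ => sub_ne_zero.mpr (Ne.symm hω1)⟩

end Cfsg.Agent.S5979P
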