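import Mathlib

set_option autoImplicit false

/-! S5979 pieces NTAB (NTA, NTB) and NTCD (NTC, NTD) (Mathlib only). -/

namespace Cfsg.Agent.S5979P

namespace NT

theorem neg_one_ne_one_of_odd {F : Type*} [Field F] [Fintype F] (hodd : Odd (Fintype.card F)) :
    (-1 : F) ≠ 1 := by
  intro h
  have h2 : ((2 : ℕ) : F) = 0 := by
    have : (2 : F) = 1 + 1 := by norm_num
    push_cast
    rw [this]
    nth_rewrite 1 [← h]
    ring
  have hchar : ringChar F = 2 := CharP.ringChar_of_prime_eq_zero Nat.prime_two h2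
  have := FiniteField.even_card_iff_char_two.mp hchar
  rcases hodd with ⟨k, hk⟩
  omega

end NT

/-- NTA: no `n`-th root of `-1` when the 2-part of `q - 1` is at most that of `n` -/
theorem no_root_neg_one {F : Type*} [Field F] [Fintype F] (hodd : Odd (Fintype.card F)) (n : ℕ)
    (hn : 0 < n) (hv : padicValNat 2 (Fintype.card F - 1) ≤ padicValNat 2 n) (μ : F)
    (hμ : μ ^ n = -1) : False := by
  have hne := NT.neg_one_ne_one_of_odd hodd
  have hμ0 : μ ≠ 0 := by
    rintro rfl
    rw [zero_pow hn.ne'] at hμ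
    have : (1 : F) = 0 := by
      have := congrArg (fun x : F => -x) hμ
      simpa using this.symm
    exact one_ne_zero this
  have hN0 : Fintype.card F - 1 ≠ 0 := by
    have : 1 < Fintype.card F := Fintype.one_lt_card
    omega
  have hpow : μ ^ (Fintype.card F - 1) = 1 := FiniteField.pow_card_sub_one_eq_one μ hμ0
  generalize Fintype.card F - 1 = N at hv hN0 hpow
  generalize hu : padicValNat 2 N = u at hv
  -- N = 2 ^ u * q'
  obtain ⟨q', hq'⟩ : 2 ^ u ∣ N := by rw [← hu]; exact pow_padicValNat_dvd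
  have hq'odd : Odd q' := by
    rw [← Nat.not_even_iff_odd]
    intro hev
    obtain ⟨t, ht⟩ := hev.two_dvd
    have hnd : ¬ 2 ^ (u + 1) ∣ N := by rw [← hu]; exact pow_succ_padicValNat_not_dvd hN0
    apply hnd
    rw [hq', ht, pow_succ]
    exact ⟨t, by ring⟩
  -- 2 ^ u ∣ n
  have hdvd : 2 ^ u ∣ n :=
    dvd_trans (pow_dvd_pow 2 hv) pow_padicValNat_dvd
  obtain ⟨m, hm⟩ := hdvd
  have h1 : (μ ^ n) ^ q' = 1 := by
    rw [← pow_mul, hm]
    have : 2 ^ u * m * q' = N * m := by
      rw [hq']; ring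
    rw [this, pow_mul, hpow, one_pow]
  rw [hμ, hq'odd.neg_one_pow] at h1
  exact hne h1

/-- NTB: an `n`-th root of `-1` when the 2-part of `q - 1` exceeds that of `n` -/
theorem exists_root_neg_one {F : Type*} [Field F] [Fintype F] (hodd : Odd (Fintype.card F)) (n : ℕ)
    (hn : 0 < n) (hv : padicValNat 2 n < padicValNat 2 (Fintype.card F - 1)) :
    ∃ μ : F, μ ^ n = -1 := by
  classical
  obtain ⟨g, hg⟩ := IsCyclic.exists_generator (α := Fˣ)
  have hordg : orderOf g = Fintype.card F - 1 := by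
    rw [orderOf_eq_card_of_forall_mem_zpowers hg, Nat.card_eq_fintype_card, Fintype.card_units]
  have hN0 : Fintype.card F - 1 ≠ 0 := by
    have : 1 < Fintype.card F := Fintype.one_lt_card
    omega
  generalize Fintype.card F - 1 = N at hv hN0 hordg
  generalize hu : padicValNat 2 N = u at hv
  generalize hs : padicValNat 2 n = s at hv
  obtain ⟨N', hN'⟩ : 2 ^ u ∣ N := by rw [← hu]; exact pow_padicValNat_dvd
  obtain ⟨n', hn'⟩ : 2 ^ s ∣ n := by rw [← hs]; exact pow_padicValNat_dvd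
  have hn'odd : Odd n' := by
    rw [← Nat.not_even_iff_odd]
    intro hev
    obtain ⟨t, ht⟩ := hev.two_dvd
    have hnd : ¬ 2 ^ (s + 1) ∣ n := by rw [← hs]; exact pow_succ_padicValNat_not_dvd hn.ne'
    apply hnd
    rw [pow_succ]
    exact ⟨t, by rw [hn', ht]; ring⟩
  have hN'0 : N' ≠ 0 := by
    rintro rfl
    apply hN0
    rw [hN', mul_zero]
  -- h := g ^ (2 ^ (u - 1) * N')
  have hhalf : 2 * (2 ^ (u - 1) * N') = N := by
    rw [hN']
    have : 2 ^ u = 2 * 2 ^ (u - 1) := by
      rw [← pow_succ']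
      congr 1
      omega
    rw [this]; ring
  have hsq : ((g ^ (2 ^ (u - 1) * N') : Fˣ) : F) ^ 2 = 1 := by
    have : (g ^ (2 ^ (u - 1) * N')) ^ 2 = 1 := by
      rw [← pow_mul, mul_comm, hhalf, ← hordg, pow_orderOf_eq_one]
    have := congrArg (fun w : Fˣ => (w : F)) this
    simpa using this
  have hne1 : ((g ^ (2 ^ (u - 1) * N') : Fˣ) : F) ≠ 1 := by
    intro h
    have h' : g ^ (2 ^ (u - 1) * N') = 1 := Units.ext (by simpa using h)
    have hd := orderOf_dvd_of_pow_eq_one h'
    rw [hordg, ← hhalf] at hd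
    have hpos : 0 < 2 ^ (u - 1) * N' := Nat.pos_of_ne_zero (mul_ne_zero (by positivity) hN'0)
    have := Nat.le_of_dvd hpos hd
    omega
  have hneg : ((g ^ (2 ^ (u - 1) * N') : Fˣ) : F) = -1 := by
    rcases sq_eq_one_iff.mp hsq with h | h
    · exact absurd h hne1
    · exact h
  refine ⟨((g ^ (2 ^ (u - s - 1) * N') : Fˣ) : F), ?_⟩
  have hexp : 2 ^ (u - s - 1) * N' * n = (2 ^ (u - 1) * N') * n' := by
    rw [hn']
    have : 2 ^ (u - 1) = 2 ^ (u - s - 1) * 2 ^ s := by
      rw [← pow_add]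
      congr 1
      omega
    rw [this]; ring
  have : ((g ^ (2 ^ (u - s - 1) * N') : Fˣ) : F) ^ n
      = (((g ^ (2 ^ (u - 1) * N') : Fˣ) : F)) ^ n' := by
    rw [← Units.val_pow_eq_pow_val, ← Units.val_pow_eq_pow_val, ← pow_mul, ← pow_mul, hexp]
  rw [this, hneg, hn'odd.neg_one_pow]

/-- NTC: a nontrivial `r`-th root of unity -/
theorem exists_root_of_unity {F : Type*} [Field F] [Fintype F] (r : ℕ) [Fact r.Prime]
    (hr : r ∣ Fintype.card F - 1) :
    ∃ ω : F, ω ≠ 1 ∧ ω ^ r = 1 ∧ (r ≠ 2 → ω ^ 2 ≠ 1) := by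
  classical
  have hr' : r.Prime := Fact.out
  have hcard : r ∣ Nat.card Fˣ := by
    rw [Nat.card_eq_fintype_card, Fintype.card_units]; exact hr
  obtain ⟨w, hw⟩ := exists_prime_orderOf_dvd_card' r hcard
  refine ⟨(w : F), ?_, ?_, ?_⟩
  · intro h
    have : w = 1 := Units.ext (by simpa using h)
    rw [this, orderOf_one] at hw
    exact hr'.one_lt.ne hw
  · have : w ^ r = 1 := by rw [← hw]; exact pow_orderOf_eq_one w
    have := congrArg (fun v : Fˣ => (v : F)) this
    simpa using this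
  · intro hr2 h
    have h' : w ^ 2 = 1 := Units.ext (by simpa using h)
    have hd := orderOf_dvd_of_pow_eq_one h'
    rw [hw] at hd
    exact hr2 ((Nat.prime_dvd_prime_iff_eq hr' Nat.prime_two).mp hd)

/-- NTD: the order of a field of odd characteristic is odd -/
theorem odd_card_of_char {F : Type*} [Field F] [Fintype F] {p : ℕ} [Fact p.Prime] [CharP F p]
    (hp : p ≠ 2) : Odd (Fintype.card F) := by
  obtain ⟨k, -, hk⟩ := FiniteField.card F p
  rw [hk]
  exact Odd.pow ((Fact.out : p.Prime).odd_of_ne_two hp)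

end Cfsg.Agent.S5979P
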