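import Mathlib

set_option autoImplicit false
open scoped TensorProduct

/-! S5979 piece TR1 (Mathlib only). -/

namespace Cfsg.Agent.S5979P

/-- TR1: if `g₁` is not a scalar and `g₂` is injective, `g₁ ⊗ g₂ - c` has rank at least `dim W` -/
theorem rank_tensor_ge {F U W : Type*} [Field F] [AddCommGroup U] [Module F U]
    [AddCommGroup W] [Module F W] [FiniteDimensional F U] [FiniteDimensional F W]
    (g₁ : Module.End F U) (g₂ : Module.End F W) (hg₁ : ¬ ∃ α : F, g₁ = α • (1 : Module.End F U))
    (hg₂ : Function.Injective g₂) (c : F) :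
    Module.finrank F W ≤
      Module.finrank F (LinearMap.range (TensorProduct.map g₁ g₂ - c • (1 : Module.End F (U ⊗[F] W)))) := by
  classical
  have hex : ∃ u0, LinearIndependent F ![u0, g₁ u0] := by
    by_contra hcon
    push Not at hcon
    exact hg₁ (LinearMap.exists_eq_smul_id_of_forall_notLinearIndependent hcon)
  obtain ⟨u0, hu0⟩ := hex
  have hnot : g₁ u0 ∉ Submodule.span F {u0} := by
    intro hmem
    obtain ⟨a, ha⟩ := Submodule.mem_span_singleton.mp hmem
    have := (LinearIndependent.pair_iff.mp hu0) a (-1) (by rw [← ha]; simp)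
    exact absurd this.2 (by norm_num)
  obtain ⟨f, hf1, hf2⟩ := Submodule.exists_dual_map_eq_bot_of_notMem hnot inferInstance
  have hf0 : f u0 = 0 := by
    have : f u0 ∈ (Submodule.span F {u0}).map f :=
      ⟨u0, Submodule.mem_span_singleton_self u0, rfl⟩
    rw [hf2] at this
    exact (Submodule.mem_bot F).mp this
  let φ : U →ₗ[F] F := (f (g₁ u0))⁻¹ • f
  have hφ0 : φ u0 = 0 := by simp [φ, hf0]
  have hφ1 : φ (g₁ u0) = 1 := by simp [φ, hf1]
  let ι : W →ₗ[F] U ⊗[F] W := TensorProduct.mk F U W u0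
  let π : U ⊗[F] W →ₗ[F] W :=
    (TensorProduct.lid F W).toLinearMap ∘ₗ TensorProduct.map φ LinearMap.id
  have hcomp : ∀ w, π ((TensorProduct.map g₁ g₂ - c • (1 : Module.End F (U ⊗[F] W))) (ι w))
      = g₂ w := by
    intro w
    simp [ι, π, hφ0, hφ1]
  have hinj : Function.Injective
      ((TensorProduct.map g₁ g₂ - c • (1 : Module.End F (U ⊗[F] W))) ∘ₗ ι) := by
    intro w w' h
    apply hg₂
    rw [← hcomp w, ← hcomp w']
    exact congrArg π h
  calc Module.finrank F W
      = Module.finrank F (LinearMap.range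
          ((TensorProduct.map g₁ g₂ - c • (1 : Module.End F (U ⊗[F] W))) ∘ₗ ι)) :=
        (LinearMap.finrank_range_of_inj hinj).symm
    _ ≤ _ := Submodule.finrank_mono (LinearMap.range_comp_le_range ι _)

end Cfsg.Agent.S5979P
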