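import Mathlib
import Cfsg.Prelude.Def_GeometricClasses
import Cfsg.Prelude.Def_ClassicalGeometry
import Cfsg.Agent.Helper23.S5961Defs
import Cfsg.Agent.Helper3.S5961NTSP
import Cfsg.Agent.Helper2.ElusC

set_option autoImplicit false
open scoped MatrixGroups Matrix

/-! S5980 piece CARDSP. -/

namespace Cfsg.Agent.S5980P

open Cfsg.Agent.S5961P (cc)

/-- CARDSP: `r ∣ |Sp_{2d}(F)|` gives `cc ≤ 2 d` (from S5961 NTSP) -/
theorem cc_le_of_dvd_card_spGL {F : Type*} [Field F] [Fintype F] {p : ℕ} [Fact p.Prime]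
    [CharP F p] (r : ℕ) [Fact r.Prime] (hr2 : r ≠ 2) (hrp : r ≠ p) (d : ℕ)
    (h : r ∣ Nat.card (Cfsg.spGL d F)) : cc F r ≤ 2 * d := by
  rw [Cfsg.Agent.Helper2.Elus.card_spGL] at h
  exact Cfsg.Agent.S5961P.cc_le_of_dvd_card_Sp r hr2 hrp d h

end Cfsg.Agent.S5980P
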