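import Mathlib

set_option autoImplicit false
open scoped TensorProduct

/-! S5980 piece CYCB: rank bound for `g₁ ⊗ g₂ - μ` from a chain of independent vectors
(Mathlib only). -/

namespace Cfsg.Agent.S5980P

namespace CYCB

/-- dual functionals to an independent family -/
theorem exists_dual {F U : Type*} [Field F] [AddCommGroup U] [Module F U] {n : ℕ}
    (v : Fin n → U) (hv : LinearIndependent F v) :
    ∃ φ : Fin n → Module.Dual F U, ∀ k j, φ k (v j) = if k = j then 1 else 0 := by
  classical
  have hinj := hv.fintypeLinearCombination_injective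
  obtain ⟨P, hP⟩ := (Fintype.linearCombination F v).exists_leftInverse_of_injective
    (LinearMap.ker_eq_bot.mpr hinj)
  refine ⟨fun k => LinearMap.proj k ∘ₗ P, ?_⟩
  intro k j
  have h1 : v j = Fintype.linearCombination F v (Pi.single j 1) := by
    rw [Fintype.linearCombination_apply_single, one_smul]
  rw [LinearMap.comp_apply, h1, ← LinearMap.comp_apply P, hP, LinearMap.id_apply,
    LinearMap.proj_apply, Pi.single_apply]

end CYCB

open CYCB in
/-- CYCB (left): a chain `u₀, g₁ u₀, …, g₁ ^ (c-1) u₀` of independent vectors -/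
theorem rank_tensor_chain_left {F U W : Type*} [Field F] [AddCommGroup U] [Module F U]
    [AddCommGroup W] [Module F W] [FiniteDimensional F U] [FiniteDimensional F W]
    (g₁ : Module.End F U) (g₂ : Module.End F W) (hg₂ : Function.Injective g₂) (c : ℕ) (u₀ : U)
    (hu : LinearIndependent F (fun j : Fin c => (g₁ ^ (j : ℕ)) u₀)) (μ : F) :
    (c - 1) * Module.finrank F W ≤ Module.finrank F (LinearMap.range
      (TensorProduct.map g₁ g₂ - μ • (1 : Module.End F (U ⊗[F] W)))) := by
  classical
  rcases Nat.eq_zero_or_pos c with hc0 | hcpos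
  · subst hc0
    simp
  obtain ⟨c', rfl⟩ : ∃ c', c = c' + 1 := ⟨c - 1, by omega⟩
  rw [Nat.add_sub_cancel]
  obtain ⟨φ, hφ⟩ := exists_dual _ hu
  have hsucc : ∀ j : Fin c', g₁ ((g₁ ^ ((j.castSucc : Fin (c' + 1)) : ℕ)) u₀) =
      (g₁ ^ ((j.succ : Fin (c' + 1)) : ℕ)) u₀ := by
    intro j
    rw [Fin.val_succ, Fin.val_castSucc, pow_succ', Module.End.mul_apply]
  let ι : (Fin c' → W) →ₗ[F] U ⊗[F] W :=
    ∑ j : Fin c', (TensorProduct.mk F U W ((g₁ ^ ((j.castSucc : Fin (c' + 1)) : ℕ)) u₀)) ∘ₗ
      LinearMap.proj j
  let π : Fin (c' + 1) → (U ⊗[F] W →ₗ[F] W) := fun k =>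
    (TensorProduct.lid F W).toLinearMap ∘ₗ TensorProduct.map (φ k) LinearMap.id
  have hcomp : ∀ (k : Fin (c' + 1)) (ws : Fin c' → W),
      π k ((TensorProduct.map g₁ g₂ - μ • (1 : Module.End F (U ⊗[F] W))) (ι ws)) =
        ∑ j : Fin c', ((if k = j.succ then (1 : F) else 0) • g₂ (ws j) -
          μ • (if k = j.castSucc then (1 : F) else 0) • ws j) := by
    intro k ws
    have h1 : ι ws = ∑ j : Fin c', ((g₁ ^ ((j.castSucc : Fin (c' + 1)) : ℕ)) u₀) ⊗ₜ[F] ws j := by
      simp [ι, LinearMap.sum_apply]
    rw [h1, map_sum, map_sum]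
    apply Finset.sum_congr rfl
    intro j _
    rw [LinearMap.sub_apply, LinearMap.smul_apply, Module.End.one_apply, TensorProduct.map_tmul,
      hsucc j, map_sub, map_smul]
    have h2 : ∀ (u : U) (w : W), π k (u ⊗ₜ[F] w) = φ k u • w := by
      intro u w
      simp [π]
    rw [h2, h2, hφ, hφ]
  have hinj : Function.Injective
      ((TensorProduct.map g₁ g₂ - μ • (1 : Module.End F (U ⊗[F] W))) ∘ₗ ι) := by
    rw [← LinearMap.ker_eq_bot, LinearMap.ker_eq_bot']
    intro ws hws
    have heq : ∀ k, ∑ j : Fin c', ((if k = j.succ then (1 : F) else 0) • g₂ (ws j) -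
        μ • (if k = j.castSucc then (1 : F) else 0) • ws j) = 0 := by
      intro k
      rw [← hcomp k ws]
      have h0 : (TensorProduct.map g₁ g₂ - μ • (1 : Module.End F (U ⊗[F] W))) (ι ws) = 0 := hws
      rw [h0, map_zero]
    have hzero : ∀ m : ℕ, ∀ j : Fin c', c' ≤ j.val + m → ws j = 0 := by
      intro m
      induction m with
      | zero =>
        intro j hj
        exact absurd j.2 (by omega)
      | succ m ih =>
        intro j hj
        by_cases h : c' ≤ j.val + m
        · exact ih j h
        have h1 := heq j.succ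
        rw [Finset.sum_sub_distrib] at h1
        have h2 : ∑ j' : Fin c', μ • (if j.succ = j'.castSucc then (1 : F) else 0) • ws j' = 0 := by
          apply Finset.sum_eq_zero
          intro j' _
          by_cases h3 : j.succ = j'.castSucc
          · have h4 : j'.val = j.val + 1 := by
              have := congrArg Fin.val h3
              rw [Fin.val_succ, Fin.val_castSucc] at this
              omega
            rw [ih j' (by omega), smul_zero, smul_zero]
          · rw [if_neg h3, zero_smul, smul_zero]
        have h4 : ∑ j' : Fin c', (if j.succ = j'.succ then (1 : F) else 0) • g₂ (ws j') =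
            g₂ (ws j) := by
          rw [Finset.sum_eq_single j]
          · rw [if_pos rfl, one_smul]
          · intro b _ hb
            rw [if_neg (fun h => hb (Fin.succ_injective _ h).symm), zero_smul]
          · intro h
            exact absurd (Finset.mem_univ _) h
        rw [h2, h4, sub_zero] at h1
        exact hg₂ (h1.trans (map_zero g₂).symm)
    funext j
    exact hzero c' j (by omega)
  calc c' * Module.finrank F W = Module.finrank F (Fin c' → W) := by
        rw [Module.finrank_pi_fintype]
        simp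
    _ = Module.finrank F (LinearMap.range
          ((TensorProduct.map g₁ g₂ - μ • (1 : Module.End F (U ⊗[F] W))) ∘ₗ ι)) :=
        (LinearMap.finrank_range_of_inj hinj).symm
    _ ≤ _ := Submodule.finrank_mono (LinearMap.range_comp_le_range ι _)

/-- CYCB (right) -/
theorem rank_tensor_chain_right {F U W : Type*} [Field F] [AddCommGroup U] [Module F U]
    [AddCommGroup W] [Module F W] [FiniteDimensional F U] [FiniteDimensional F W]
    (g₁ : Module.End F U) (g₂ : Module.End F W) (hg₁ : Function.Injective g₁) (c : ℕ) (w₀ : W)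
    (hw : LinearIndependent F (fun j : Fin c => (g₂ ^ (j : ℕ)) w₀)) (μ : F) :
    (c - 1) * Module.finrank F U ≤ Module.finrank F (LinearMap.range
      (TensorProduct.map g₁ g₂ - μ • (1 : Module.End F (U ⊗[F] W)))) := by
  have h := rank_tensor_chain_left g₂ g₁ hg₁ c w₀ hw μ
  let e : U ⊗[F] W ≃ₗ[F] W ⊗[F] U := TensorProduct.comm F U W
  have hconj : (TensorProduct.map g₂ g₁ - μ • (1 : Module.End F (W ⊗[F] U))) ∘ₗ e.toLinearMap =
      e.toLinearMap ∘ₗ (TensorProduct.map g₁ g₂ - μ • (1 : Module.End F (U ⊗[F] W))) := by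
    apply TensorProduct.ext'
    intro u w
    simp [e]
  have hrange : LinearMap.range (TensorProduct.map g₂ g₁ - μ • (1 : Module.End F (W ⊗[F] U))) =
      (LinearMap.range (TensorProduct.map g₁ g₂ - μ • (1 : Module.End F (U ⊗[F] W)))).map
        e.toLinearMap := by
    rw [← LinearMap.range_comp, ← hconj, LinearMap.range_comp, LinearEquiv.range,
      Submodule.map_top]
  rw [hrange, LinearEquiv.finrank_map_eq] at h
  exact h

end Cfsg.Agent.S5980P
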