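import Mathlib
import Cfsg.Prelude.Def_GeometricClasses
import Cfsg.Prelude.Def_ClassicalGeometry
import Cfsg.Agent.Helper28.Symp
import Cfsg.Agent.Helper20.S5976TRANSV

set_option autoImplicit false
open scoped MatrixGroups Matrix

/-! S5980 pieces SPMT, SPMN, SPMO: model elements of `Sp_{2d}(F)` (transvection, `diag(-1,-1)`,
`diag(ω, ω⁻¹)`). -/

namespace Cfsg.Agent.S5980P

namespace SPM

open Cfsg.Agent.Helper28

variable {F : Type*} [Field F]

/-- rank of `diagonal d - c` over a general index type -/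
theorem rank_diag_sub {ι : Type} [Fintype ι] [DecidableEq ι] (d : ι → F) (c : F) (P : ι → Prop)
    [DecidablePred P] (hP : ∀ j, d j - c ≠ 0 ↔ P j) :
    Module.finrank F (LinearMap.range (Matrix.toLin' (Matrix.diagonal d) -
      c • (1 : Module.End F (ι → F)))) = Fintype.card {j // P j} := by
  classical
  have h1 : Matrix.toLin' (Matrix.diagonal d) - c • (1 : Module.End F (ι → F)) =
      Matrix.toLin' (Matrix.diagonal (fun j => d j - c)) := by
    have : Matrix.diagonal (fun j => d j - c) =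
        Matrix.diagonal d - c • (1 : Matrix ι ι F) := by
      ext a b
      by_cases h : a = b <;> simp [h]
    rw [this, map_sub, map_smul, Matrix.toLin'_one]
    rfl
  rw [h1]
  have h2 : Module.finrank F (LinearMap.range (Matrix.toLin' (Matrix.diagonal (fun j => d j - c))))
      = (Matrix.diagonal (fun j => d j - c)).rank := by
    rw [Matrix.rank, Matrix.toLin'_apply']
  rw [h2, Matrix.rank_diagonal]
  exact Fintype.card_congr (Equiv.subtypeEquivRight hP)

/-- a diagonal matrix with nonzero entries as an element of `GL` -/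
noncomputable def dGL {ι : Type} [Fintype ι] [DecidableEq ι] (D : ι → F) (hD : ∀ j, D j ≠ 0) :
    GL ι F :=
  ⟨Matrix.diagonal D, Matrix.diagonal (fun j => (D j)⁻¹),
    by
      rw [Matrix.diagonal_mul_diagonal, ← Matrix.diagonal_one]
      congr 1
      funext j
      exact mul_inv_cancel₀ (hD j),
    by
      rw [Matrix.diagonal_mul_diagonal, ← Matrix.diagonal_one]
      congr 1
      funext j
      exact inv_mul_cancel₀ (hD j)⟩

theorem dGL_coe {ι : Type} [Fintype ι] [DecidableEq ι] (D : ι → F) (hD : ∀ j, D j ≠ 0) :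
    ((dGL D hD : GL ι F) : Matrix ι ι F) = Matrix.diagonal D := rfl

theorem dGL_pow {ι : Type} [Fintype ι] [DecidableEq ι] (D : ι → F) (hD : ∀ j, D j ≠ 0) (k : ℕ) :
    ((dGL D hD ^ k : GL ι F) : Matrix ι ι F) = Matrix.diagonal (fun j => D j ^ k) := by
  rw [Units.val_pow_eq_pow_val, dGL_coe, Matrix.diagonal_pow]
  rfl

theorem diag_eq_smul_one {ι : Type} [Fintype ι] [DecidableEq ι] (d : ι → F) (z : F)
    (h : Matrix.diagonal d = z • (1 : Matrix ι ι F)) (j : ι) : d j = z := by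
  have := congrFun (congrFun h j) j
  simpa using this

/-- a diagonal matrix with `D (inl i) * D (inr i) = 1` is symplectic -/
theorem dGL_mem_spGL (m : ℕ) (D : Fin m ⊕ Fin m → F) (hD : ∀ j, D j ≠ 0)
    (h : ∀ i, D (Sum.inl i) * D (Sum.inr i) = 1) : dGL D hD ∈ Cfsg.spGL m F := by
  intro u v
  change Cfsg.sympForm m F (Matrix.diagonal D *ᵥ u) (Matrix.diagonal D *ᵥ v) = Cfsg.sympForm m F u v
  rw [sympForm_explicit, sympForm_explicit]
  apply Finset.sum_congr rfl
  intro i _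
  rw [Matrix.mulVec_diagonal, Matrix.mulVec_diagonal, Matrix.mulVec_diagonal, Matrix.mulVec_diagonal]
  have := h i
  linear_combination (u (Sum.inr i) * v (Sum.inl i) - u (Sum.inl i) * v (Sum.inr i)) * this

theorem card_pair {ι : Type} [Fintype ι] [DecidableEq ι] (a b : ι) (hab : a ≠ b) :
    Fintype.card {k : ι // k = a ∨ k = b} = 2 := by
  rw [Fintype.card_subtype]
  have : (Finset.univ.filter fun k : ι => k = a ∨ k = b) = {a, b} := by
    ext k
    simp
  rw [this, Finset.card_pair hab]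

theorem card_ne (m : ℕ) (a : Fin m ⊕ Fin m) :
    Fintype.card {k : Fin m ⊕ Fin m // k ≠ a} = 2 * m - 1 := by
  rw [Fintype.card_subtype_compl, Fintype.card_subtype_eq, Fintype.card_sum, Fintype.card_fin]
  omega

end SPM

open SPM Cfsg.Agent.Helper28 in
/-- SPMT: a symplectic transvection -/
theorem model_sp_transvection {F : Type*} [Field F] {p : ℕ} [Fact p.Prime] [CharP F p] (d : ℕ)
    (hd : 1 ≤ d) :
    ∃ x : GL (Fin d ⊕ Fin d) F, x ∈ Cfsg.spGL d F ∧
      ((x ^ p : GL (Fin d ⊕ Fin d) F) : Matrix (Fin d ⊕ Fin d) (Fin d ⊕ Fin d) F) =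
        (1 : F) • (1 : Matrix (Fin d ⊕ Fin d) (Fin d ⊕ Fin d) F) ∧
      (∀ z : F, (x : Matrix (Fin d ⊕ Fin d) (Fin d ⊕ Fin d) F) ≠
        z • (1 : Matrix (Fin d ⊕ Fin d) (Fin d ⊕ Fin d) F)) ∧
      Module.finrank F (LinearMap.range (Matrix.toLin' (x : Matrix (Fin d ⊕ Fin d) (Fin d ⊕ Fin d) F) -
        (1 : F) • (1 : Module.End F (Fin d ⊕ Fin d → F)))) = 1 := by
  let i0 : Fin d := ⟨0, hd⟩
  let v : Fin d ⊕ Fin d → F := Pi.single (Sum.inl i0) 1
  let w : Fin d ⊕ Fin d → F := Pi.single (Sum.inr i0) 1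
  have hv0 : v ≠ 0 := by
    intro h
    have := congrFun h (Sum.inl i0)
    simp [v] at this
  have hwv : Cfsg.sympForm d F w v = 1 := by
    rw [sympForm_explicit]
    rw [Finset.sum_eq_single i0]
    · simp [v, w]
    · intro j _ hj
      have h1 : (Sum.inr j : Fin d ⊕ Fin d) ≠ Sum.inr i0 := by
        intro h
        exact hj (Sum.inr_injective h)
      simp [v, w, h1]
    · intro h
      exact absurd (Finset.mem_univ _) h
  -- the map `x - 1`
  have hmap : ∀ y, (Matrix.toLin'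
      ((Cfsg.Agent.S5976P.TRANSV.tGL d v : GL (Fin d ⊕ Fin d) F) :
        Matrix (Fin d ⊕ Fin d) (Fin d ⊕ Fin d) F) -
        (1 : F) • (1 : Module.End F (Fin d ⊕ Fin d → F))) y = Cfsg.sympForm d F y v • v := by
    intro y
    rw [LinearMap.sub_apply, Matrix.toLin'_apply, one_smul]
    change Cfsg.sympTransvection d v 1 *ᵥ y - y = _
    rw [sympTransvection_mulVec, add_sub_cancel_left, one_mul]
  refine ⟨Cfsg.Agent.S5976P.TRANSV.tGL d v, ?_, ?_, ?_, ?_⟩
  · intro a b
    exact (mem_symplecticGroup_iff_preserves _).mp (sympTransvection_mem v 1) a b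
  · rw [Units.val_pow_eq_pow_val, one_smul]
    change (Cfsg.sympTransvection d v 1) ^ p = 1
    rw [Cfsg.Agent.S5976P.TRANSV.pow_eq, CharP.cast_eq_zero, sympTransvection_zero]
  · intro z hz
    have h1 := hmap w
    rw [LinearMap.sub_apply, Matrix.toLin'_apply, hz, Matrix.smul_mulVec, Matrix.one_mulVec,
      one_smul, hwv, one_smul] at h1
    have h2 := congrFun h1 (Sum.inl i0)
    simp [v, w] at h2
  · have hrange : LinearMap.range (Matrix.toLin'
        ((Cfsg.Agent.S5976P.TRANSV.tGL d v : GL (Fin d ⊕ Fin d) F) :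
          Matrix (Fin d ⊕ Fin d) (Fin d ⊕ Fin d) F) -
          (1 : F) • (1 : Module.End F (Fin d ⊕ Fin d → F))) = Submodule.span F {v} := by
      apply le_antisymm
      · rintro _ ⟨y, rfl⟩
        rw [hmap y]
        exact Submodule.smul_mem _ _ (Submodule.mem_span_singleton_self v)
      · rw [Submodule.span_singleton_le_iff_mem]
        refine ⟨w, ?_⟩
        rw [hmap w, hwv, one_smul]
    rw [hrange]
    exact finrank_span_singleton hv0

open SPM in
/-- SPMN: `-1` on one hyperbolic pair, `1` elsewhere -/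
theorem model_sp_neg {F : Type*} [Field F] (h2 : (2 : F) ≠ 0) (d : ℕ) (hd : 2 ≤ d) :
    ∃ x : GL (Fin d ⊕ Fin d) F, x ∈ Cfsg.spGL d F ∧
      ((x ^ 2 : GL (Fin d ⊕ Fin d) F) : Matrix (Fin d ⊕ Fin d) (Fin d ⊕ Fin d) F) =
        (1 : F) • (1 : Matrix (Fin d ⊕ Fin d) (Fin d ⊕ Fin d) F) ∧
      (∀ z : F, (x : Matrix (Fin d ⊕ Fin d) (Fin d ⊕ Fin d) F) ≠
        z • (1 : Matrix (Fin d ⊕ Fin d) (Fin d ⊕ Fin d) F)) ∧
      Module.finrank F (LinearMap.range (Matrix.toLin' (x : Matrix (Fin d ⊕ Fin d) (Fin d ⊕ Fin d) F) -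
        (1 : F) • (1 : Module.End F (Fin d ⊕ Fin d → F)))) = 2 := by
  classical
  let i0 : Fin d := ⟨0, by omega⟩
  let i1 : Fin d := ⟨1, by omega⟩
  have hi01 : i1 ≠ i0 := by
    intro h
    have := congrArg Fin.val h
    simp [i0, i1] at this
  let D : Fin d ⊕ Fin d → F := fun k => if k = Sum.inl i0 ∨ k = Sum.inr i0 then -1 else 1
  have hD1 : ∀ k, (k = Sum.inl i0 ∨ k = Sum.inr i0) → D k = -1 := fun k h => if_pos h
  have hD2 : ∀ k, ¬ (k = Sum.inl i0 ∨ k = Sum.inr i0) → D k = 1 := fun k h => if_neg h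
  have hm1 : (-1 : F) ≠ 1 := by
    intro h
    apply h2
    calc (2 : F) = 1 + 1 := by norm_num
      _ = 1 + -1 := by rw [h]
      _ = 0 := by ring
  have hD0 : ∀ k, D k ≠ 0 := by
    intro k
    by_cases h : k = Sum.inl i0 ∨ k = Sum.inr i0
    · rw [hD1 k h]; exact neg_ne_zero.mpr one_ne_zero
    · rw [hD2 k h]; exact one_ne_zero
  refine ⟨dGL D hD0, ?_, ?_, ?_, ?_⟩
  · apply dGL_mem_spGL
    intro i
    by_cases h : i = i0
    · rw [hD1 _ (Or.inl (by rw [h])), hD1 _ (Or.inr (by rw [h]))]; ring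
    · rw [hD2, hD2]
      · ring
      · rintro (h' | h')
        · exact absurd h' (by simp)
        · exact h (Sum.inr_injective h')
      · rintro (h' | h')
        · exact h (Sum.inl_injective h')
        · exact absurd h' (by simp)
  · rw [dGL_pow, one_smul, ← Matrix.diagonal_one]
    congr 1
    funext k
    by_cases h : k = Sum.inl i0 ∨ k = Sum.inr i0
    · rw [hD1 k h]; ring
    · rw [hD2 k h]; ring
  · intro z hz
    rw [dGL_coe] at hz
    have h0 := diag_eq_smul_one D z hz (Sum.inl i0)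
    have h3 := diag_eq_smul_one D z hz (Sum.inl i1)
    rw [hD1 _ (Or.inl rfl)] at h0
    rw [hD2 _ (by
      rintro (h' | h')
      · exact hi01 (Sum.inl_injective h')
      · exact absurd h' (by simp))] at h3
    exact hm1 (h0.trans h3.symm)
  · rw [dGL_coe, rank_diag_sub D 1 (fun k => k = Sum.inl i0 ∨ k = Sum.inr i0),
      card_pair _ _ (by simp)]
    intro k
    by_cases h : k = Sum.inl i0 ∨ k = Sum.inr i0
    · rw [hD1 k h]
      exact ⟨fun _ => h, fun _ => sub_ne_zero.mpr hm1⟩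
    · rw [hD2 k h, sub_self]
      exact ⟨fun hh => absurd rfl hh, fun hh => absurd hh h⟩

open SPM in
/-- SPMO: `ω` and `ω⁻¹` on one hyperbolic pair, `1` elsewhere -/
theorem model_sp_omega {F : Type*} [Field F] (d : ℕ) (hd : 2 ≤ d) (r : ℕ) (hr : r ≠ 0) (ω : F)
    (hω : ω ^ r = 1) (hω1 : ω ≠ 1) (hω2 : ω ^ 2 ≠ 1) :
    ∃ x : GL (Fin d ⊕ Fin d) F, x ∈ Cfsg.spGL d F ∧
      ((x ^ r : GL (Fin d ⊕ Fin d) F) : Matrix (Fin d ⊕ Fin d) (Fin d ⊕ Fin d) F) =
        (1 : F) • (1 : Matrix (Fin d ⊕ Fin d) (Fin d ⊕ Fin d) F) ∧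
      (∀ z : F, (x : Matrix (Fin d ⊕ Fin d) (Fin d ⊕ Fin d) F) ≠
        z • (1 : Matrix (Fin d ⊕ Fin d) (Fin d ⊕ Fin d) F)) ∧
      Module.finrank F (LinearMap.range (Matrix.toLin' (x : Matrix (Fin d ⊕ Fin d) (Fin d ⊕ Fin d) F) -
        (1 : F) • (1 : Module.End F (Fin d ⊕ Fin d → F)))) = 2 ∧
      Module.finrank F (LinearMap.range (Matrix.toLin' (x : Matrix (Fin d ⊕ Fin d) (Fin d ⊕ Fin d) F) -
        ω • (1 : Module.End F (Fin d ⊕ Fin d → F)))) = 2 * d - 1 := by
  classical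
  let i0 : Fin d := ⟨0, by omega⟩
  let i1 : Fin d := ⟨1, by omega⟩
  have hi01 : i1 ≠ i0 := by
    intro h
    have := congrArg Fin.val h
    simp [i0, i1] at this
  have hω0 : ω ≠ 0 := by
    intro h0
    rw [h0, zero_pow hr] at hω
    exact zero_ne_one hω
  have hωi1 : ω⁻¹ ≠ 1 := by
    intro h
    exact hω1 (inv_eq_one.mp h)
  have hωiω : ω⁻¹ ≠ ω := by
    intro h
    apply hω2
    rw [sq]
    nth_rewrite 1 [← h]
    exact inv_mul_cancel₀ hω0
  let D : Fin d ⊕ Fin d → F :=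
    fun k => if k = Sum.inl i0 then ω else if k = Sum.inr i0 then ω⁻¹ else 1
  have hDa : D (Sum.inl i0) = ω := if_pos rfl
  have hDb : D (Sum.inr i0) = ω⁻¹ := by
    change (if (Sum.inr i0 : Fin d ⊕ Fin d) = Sum.inl i0 then ω else
      if (Sum.inr i0 : Fin d ⊕ Fin d) = Sum.inr i0 then ω⁻¹ else 1) = ω⁻¹
    rw [if_neg (by simp), if_pos rfl]
  have hDc : ∀ k, k ≠ Sum.inl i0 → k ≠ Sum.inr i0 → D k = 1 := by
    intro k h1 h2
    change (if k = Sum.inl i0 then ω else if k = Sum.inr i0 then ω⁻¹ else 1) = 1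
    rw [if_neg h1, if_neg h2]
  have hcases : ∀ k : Fin d ⊕ Fin d, k = Sum.inl i0 ∨ k = Sum.inr i0 ∨
      (k ≠ Sum.inl i0 ∧ k ≠ Sum.inr i0) := by
    intro k
    by_cases h1 : k = Sum.inl i0
    · exact Or.inl h1
    · by_cases h2 : k = Sum.inr i0
      · exact Or.inr (Or.inl h2)
      · exact Or.inr (Or.inr ⟨h1, h2⟩)
  have hD0 : ∀ k, D k ≠ 0 := by
    intro k
    rcases hcases k with h | h | ⟨h, h'⟩
    · rw [h, hDa]; exact hω0
    · rw [h, hDb]; exact inv_ne_zero hω0
    · rw [hDc k h h']; exact one_ne_zero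
  refine ⟨dGL D hD0, ?_, ?_, ?_, ?_, ?_⟩
  · apply dGL_mem_spGL
    intro i
    by_cases h : i = i0
    · rw [h, hDa, hDb]; exact mul_inv_cancel₀ hω0
    · rw [hDc, hDc]
      · ring
      · simp
      · intro h'
        exact h (Sum.inr_injective h')
      · intro h'
        exact h (Sum.inl_injective h')
      · simp
  · rw [dGL_pow, one_smul, ← Matrix.diagonal_one]
    congr 1
    funext k
    rcases hcases k with h | h | ⟨h, h'⟩
    · rw [h, hDa]; exact hω
    · rw [h, hDb, inv_pow, hω, inv_one]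
    · rw [hDc k h h', one_pow]
  · intro z hz
    rw [dGL_coe] at hz
    have h0 := diag_eq_smul_one D z hz (Sum.inl i0)
    have h3 := diag_eq_smul_one D z hz (Sum.inl i1)
    rw [hDa] at h0
    rw [hDc _ (by
      intro h'
      exact hi01 (Sum.inl_injective h')) (by simp)] at h3
    exact hω1 (h0.trans h3.symm)
  · rw [dGL_coe, rank_diag_sub D 1 (fun k => k = Sum.inl i0 ∨ k = Sum.inr i0),
      card_pair _ _ (by simp)]
    intro k
    rcases hcases k with h | h | ⟨h, h'⟩
    · rw [h, hDa]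
      exact ⟨fun _ => Or.inl rfl, fun _ => sub_ne_zero.mpr hω1⟩
    · rw [h, hDb]
      exact ⟨fun _ => Or.inr rfl, fun _ => sub_ne_zero.mpr hωi1⟩
    · rw [hDc k h h', sub_self]
      constructor
      · intro hh
        exact absurd rfl hh
      · rintro (hh | hh)
        · exact absurd hh h
        · exact absurd hh h'
  · rw [dGL_coe, rank_diag_sub D ω (fun k => k ≠ Sum.inl i0), card_ne]
    intro k
    rcases hcases k with h | h | ⟨h, h'⟩
    · rw [h, hDa, sub_self]
      exact ⟨fun hh => absurd rfl hh, fun hh => absurd rfl hh⟩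
    · rw [h, hDb]
      exact ⟨fun _ => by simp, fun _ => sub_ne_zero.mpr hωiω⟩
    · rw [hDc k h h']
      exact ⟨fun _ => h, fun _ => sub_ne_zero.mpr (Ne.symm hω1)⟩

end Cfsg.Agent.S5980P
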