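import Mathlib
import Cfsg.Prelude.Def_GeometricClasses
import Cfsg.Prelude.Def_ClassicalGeometry
import Cfsg.Agent.Helper23.S5961Defs
import Cfsg.Agent.Helper23.S5961ELT
import Cfsg.Agent.Helper23.S5961FREEACTSP
import Cfsg.Agent.Helper28.Symp

set_option autoImplicit false
open scoped MatrixGroups Matrix

/-! S5980 piece SPME: an element of order `r` of `Sp_{2d}(F)` with one nontrivial block. -/

namespace Cfsg.Agent.S5980P

open Cfsg.Agent.S5961P (cc)

/-- SPME: an element of order `r` of `Sp_{2d}(F)` with one nontrivial block (from S5961 ELT) -/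
theorem model_sp_block {F : Type*} [Field F] [Fintype F] {p : ℕ} [Fact p.Prime] [CharP F p]
    (r : ℕ) [Fact r.Prime] (hr2 : r ≠ 2) (hrp : r ≠ p) (d : ℕ) (hcc : cc F r ≤ 2 * d) :
    ∃ x : GL (Fin d ⊕ Fin d) F, x ∈ Cfsg.spGL d F ∧
      ((x ^ r : GL (Fin d ⊕ Fin d) F) : Matrix (Fin d ⊕ Fin d) (Fin d ⊕ Fin d) F) =
        (1 : F) • (1 : Matrix (Fin d ⊕ Fin d) (Fin d ⊕ Fin d) F) ∧
      (∀ z : F, (x : Matrix (Fin d ⊕ Fin d) (Fin d ⊕ Fin d) F) ≠
        z • (1 : Matrix (Fin d ⊕ Fin d) (Fin d ⊕ Fin d) F)) ∧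
      Module.finrank F (LinearMap.range (Matrix.toLin' (x : Matrix (Fin d ⊕ Fin d) (Fin d ⊕ Fin d) F) -
        (1 : F) • (1 : Module.End F (Fin d ⊕ Fin d → F)))) = cc F r := by
  have hr : r.Prime := Fact.out
  obtain ⟨x, hxr, hx1, hker⟩ :=
    Cfsg.Agent.S5961P.exists_elt_sp (F := F) (p := p) r hr2 hrp d 1 le_rfl (by rw [mul_one]; exact hcc)
  rw [mul_one] at hker
  have hd : 1 ≤ d := by
    by_contra h
    have h0 : d = 0 := by omega
    subst h0
    apply hx1
    ext i j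
    rcases i with i | i <;> exact Fin.elim0 i
  let g : GL (Fin d ⊕ Fin d) F :=
    ⟨x.1, (x⁻¹).1, congrArg Subtype.val (mul_inv_cancel x), congrArg Subtype.val (inv_mul_cancel x)⟩
  have hg : (g : Matrix (Fin d ⊕ Fin d) (Fin d ⊕ Fin d) F) = x.1 := rfl
  refine ⟨g, ?_, ?_, ?_, ?_⟩
  · intro u v
    exact (Cfsg.Agent.Helper28.mem_symplecticGroup_iff_preserves _).mp x.2 u v
  · rw [Units.val_pow_eq_pow_val, hg, hxr, one_smul]
  · intro z hz
    rw [hg] at hz
    have hmem : z • (1 : Matrix (Fin d ⊕ Fin d) (Fin d ⊕ Fin d) F) ∈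
        Matrix.symplecticGroup (Fin d) F := by
      rw [← hz]
      exact x.2
    have hzz : z * z = 1 := Cfsg.Agent.S5961P.scalar_sq_eq_one d hd z hmem
    have hzr : z ^ r = 1 := by
      have h1 := hxr
      rw [hz, smul_pow, one_pow] at h1
      have h2 := congrFun (congrFun h1 (Sum.inl ⟨0, hd⟩)) (Sum.inl ⟨0, hd⟩)
      simpa using h2
    have hodd : Odd r := hr.odd_of_ne_two hr2
    obtain ⟨k, hk⟩ := hodd
    have hz1 : z = 1 := by
      rw [hk, pow_succ, pow_mul, sq, hzz, one_pow, one_mul] at hzr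
      exact hzr
    apply hx1
    rw [hz, hz1, one_smul]
  · rw [hg, one_smul]
    have h1 := LinearMap.finrank_range_add_finrank_ker
      (Matrix.toLin' (x : Matrix (Fin d ⊕ Fin d) (Fin d ⊕ Fin d) F) - 1)
    have h2 : Module.finrank F (Fin d ⊕ Fin d → F) = 2 * d := by
      rw [Module.finrank_fintype_fun_eq_card, Fintype.card_sum, Fintype.card_fin]
      ring
    rw [hker, h2] at h1
    omega

end Cfsg.Agent.S5980P
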