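import Mathlib
import Cfsg.Prelude.Def_GeometricClasses
import Cfsg.Prelude.Def_Classical
import Cfsg.Prelude.Def_LieClassical
import Cfsg.Agent.Helper16.S5965INDEX

set_option autoImplicit false
open scoped MatrixGroups Matrix

/-! S5981 pieces NTODD + NTEVEN: number theory of `v_r |SL_n(q)|` against `v_r |GO_n(q)|` when
`ord_r(q)` is even. -/

namespace Cfsg.Agent.S5981P

namespace NT

variable {r : ℕ} [Fact r.Prime]

theorem one_ne_neg_one (hr2 : r ≠ 2) : (1 : ZMod r) ≠ -1 := by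
  have hr : r.Prime := Fact.out
  intro h
  have h2 : ((2 : ℕ) : ZMod r) = 0 := by
    have : (1 : ZMod r) + 1 = 0 := by nth_rewrite 1 [h]; ring
    push_cast; rw [← this]; ring
  rw [ZMod.natCast_eq_zero_iff] at h2
  exact hr2 ((Nat.prime_dvd_prime_iff_eq hr Nat.prime_two).mp h2)

/-- `f l = v_r(q^l - 1)` -/
def f (r q l : ℕ) : ℕ := padicValNat r (q ^ l - 1)

theorem dvd_sub_one_iff {q : ℕ} (hq : 1 ≤ q) (l : ℕ) :
    r ∣ q ^ l - 1 ↔ ((q : ℕ) : ZMod r) ^ l = 1 := by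
  rw [← ZMod.natCast_eq_zero_iff, Nat.cast_sub (Nat.one_le_pow _ _ hq)]
  push_cast
  exact sub_eq_zero

theorem dvd_add_one_iff {q : ℕ} (l : ℕ) :
    r ∣ q ^ l + 1 ↔ ((q : ℕ) : ZMod r) ^ l = -1 := by
  rw [← ZMod.natCast_eq_zero_iff]
  push_cast
  exact add_eq_zero_iff_eq_neg

theorem f_odd {q : ℕ} (hq : 1 ≤ q) (hev : Even (orderOf ((q : ℕ) : ZMod r))) {l : ℕ}
    (hl : Odd l) : f r q l = 0 := by
  unfold f
  apply padicValNat.eq_zero_of_not_dvd
  rw [dvd_sub_one_iff hq]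
  intro h
  have h1 := orderOf_dvd_of_pow_eq_one h
  have h2 : Even l := hev.trans_dvd h1
  exact (Nat.not_even_iff_odd.mpr hl) h2

theorem sum_fin_eq (g : ℕ → ℕ) (n' : ℕ) :
    ∑ i : Fin n', g (n' + 1 - (i : ℕ)) = ∑ l ∈ Finset.range n', g (l + 2) := by
  induction n' with
  | zero => simp
  | succ k ih =>
    rw [Fin.sum_univ_succ, Finset.sum_range_succ, add_comm]
    congr 1
    rw [← ih]
    apply Finset.sum_congr rfl
    intro i _
    congr 1
    simp only [Fin.val_succ]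
    omega

theorem sum_even (g : ℕ → ℕ) (hodd : ∀ l, Odd l → g l = 0) (m : ℕ) :
    ∑ l ∈ Finset.range (2 * m), g (l + 2) = ∑ k ∈ Finset.range m, g (2 * (k + 1)) := by
  induction m with
  | zero => simp
  | succ k ih =>
    rw [show 2 * (k + 1) = 2 * k + 1 + 1 by ring, Finset.sum_range_succ, Finset.sum_range_succ,
      ih, Finset.sum_range_succ]
    have h0 : g (2 * k + 1 + 2) = 0 := hodd _ ⟨k + 1, by ring⟩
    rw [h0, add_zero]
    rfl

theorem val_two (hr2 : r ≠ 2) : padicValNat r 2 = 0 := by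
  apply padicValNat.eq_zero_of_not_dvd
  intro h
  have hr : r.Prime := Fact.out
  exact hr2 ((Nat.prime_dvd_prime_iff_eq hr Nat.prime_two).mp h)

theorem val_pow {q : ℕ} (hrq : ¬ r ∣ q) (k : ℕ) : padicValNat r (q ^ k) = 0 := by
  apply padicValNat.eq_zero_of_not_dvd
  intro h
  exact hrq ((Fact.out : r.Prime).dvd_of_dvd_pow h)

theorem val_finset_prod {α : Type*} [DecidableEq α] (s : Finset α) (g : α → ℕ)
    (hf : ∀ a ∈ s, g a ≠ 0) :
    padicValNat r (∏ a ∈ s, g a) = ∑ a ∈ s, padicValNat r (g a) := by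
  induction s using Finset.induction_on with
  | empty => simp
  | insert a s ha ih =>
    rw [Finset.prod_insert ha, Finset.sum_insert ha,
      padicValNat.mul (hf a (Finset.mem_insert_self a s))
        (Finset.prod_ne_zero_iff.mpr (fun b hb => hf b (Finset.mem_insert_of_mem hb))),
      ih (fun b hb => hf b (Finset.mem_insert_of_mem hb))]

theorem pow_sub_one_ne_zero {q : ℕ} (hq : 2 ≤ q) {l : ℕ} (hl : 1 ≤ l) : q ^ l - 1 ≠ 0 := by
  have h1 : 2 ^ l ≤ q ^ l := Nat.pow_le_pow_left hq _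
  have h2 : l < 2 ^ l := Nat.lt_two_pow_self
  omega

theorem val_prod_even {q : ℕ} (hq : 2 ≤ q) (m : ℕ) :
    padicValNat r (∏ i ∈ Finset.range m, (q ^ (2 * (i + 1)) - 1)) =
      ∑ k ∈ Finset.range m, f r q (2 * (k + 1)) := by
  rw [val_finset_prod]
  · rfl
  · intro a _
    exact pow_sub_one_ne_zero hq (by omega)

theorem val_SL_eq {F : Type*} [Field F] [Fintype F] {q : ℕ} (hq : Fintype.card F = q)
    (hrq : ¬ r ∣ q) (n n' : ℕ) (hn : n = n' + 1) :
    padicValNat r (Nat.card (Matrix.SpecialLinearGroup (Fin n) F)) =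
      ∑ l ∈ Finset.range n', f r q (l + 2) := by
  subst hn
  have hrF : ¬ r ∣ Fintype.card F := by rw [hq]; exact hrq
  rw [Cfsg.Agent.S5965P.INDEX.val_card_SL r n' F hrF, hq]
  exact sum_fin_eq (f r q) n'

theorem sq_sub_one {q : ℕ} (hq1 : 1 ≤ q) (k : ℕ) :
    q ^ (2 * k) - 1 = (q ^ k - 1) * (q ^ k + 1) := by
  have h1 : 1 ≤ q ^ k := Nat.one_le_pow _ _ hq1
  have h2 : q ^ (2 * k) = q ^ k * q ^ k := by ring
  rw [h2]
  obtain ⟨t, ht⟩ : ∃ t, q ^ k = t + 1 := ⟨q ^ k - 1, by omega⟩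
  rw [ht, Nat.add_sub_cancel]
  have : (t + 1) * (t + 1) = t * (t + 1 + 1) + 1 := by ring
  rw [this, Nat.add_sub_cancel]

end NT

/-- NTODD: `i = ord_r(q)` even, `n = 2m+1`: `v_r |SL_n(q)| ≤ v_r |GO_n(q)|` -/
theorem val_SL_le_odd {F : Type*} [Field F] [Fintype F] {q : ℕ} (hq : Fintype.card F = q)
    (r : ℕ) [Fact r.Prime] (hr2 : r ≠ 2) (hrq : ¬ r ∣ q)
    (hev : Even (orderOf ((q : ℕ) : ZMod r))) (n m : ℕ) (hnm : n = 2 * m + 1) :
    padicValNat r (Nat.card (Matrix.SpecialLinearGroup (Fin n) F)) ≤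
      padicValNat r (2 * q ^ (m ^ 2) * ∏ i ∈ Finset.range m, (q ^ (2 * (i + 1)) - 1)) := by
  have hq2 : 2 ≤ q := by rw [← hq]; exact Fintype.one_lt_card
  have hq1 : 1 ≤ q := by omega
  rw [NT.val_SL_eq hq hrq n (2 * m) hnm,
    NT.sum_even (NT.f r q) (fun l hl => NT.f_odd hq1 hev hl) m]
  have h2 : (2 : ℕ) ≠ 0 := by norm_num
  have hqm : q ^ (m ^ 2) ≠ 0 := pow_ne_zero _ (by omega)
  have hP : ∏ i ∈ Finset.range m, (q ^ (2 * (i + 1)) - 1) ≠ 0 :=
    Finset.prod_ne_zero_iff.mpr (fun a _ => NT.pow_sub_one_ne_zero hq2 (by omega))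
  rw [padicValNat.mul (mul_ne_zero h2 hqm) hP, NT.val_prod_even hq2 m]
  omega

/-- NTEVEN: `i = ord_r(q)` even, `n = 2m`: if `v_r |GO^ε_n(q)| < v_r |SL_n(q)|` then `i ∣ n` and `r`
does not divide the number of non-zero singular vectors -/
theorem val_SL_even {F : Type*} [Field F] [Fintype F] {q : ℕ} (hq : Fintype.card F = q)
    (r : ℕ) [Fact r.Prime] (hr2 : r ≠ 2) (hrq : ¬ r ∣ q)
    (hev : Even (orderOf ((q : ℕ) : ZMod r))) (n m : ℕ) (hnm : n = 2 * m) (hm : 2 ≤ m) :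
    (padicValNat r (2 * q ^ (m * (m - 1)) * (q ^ m - 1) *
        ∏ i ∈ Finset.range (m - 1), (q ^ (2 * (i + 1)) - 1)) <
      padicValNat r (Nat.card (Matrix.SpecialLinearGroup (Fin n) F)) →
      orderOf ((q : ℕ) : ZMod r) ∣ n ∧ ¬ r ∣ (q ^ m - 1) * (q ^ (m - 1) + 1)) ∧
    (padicValNat r (2 * q ^ (m * (m - 1)) * (q ^ m + 1) *
        ∏ i ∈ Finset.range (m - 1), (q ^ (2 * (i + 1)) - 1)) <
      padicValNat r (Nat.card (Matrix.SpecialLinearGroup (Fin n) F)) →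
      orderOf ((q : ℕ) : ZMod r) ∣ n ∧ ¬ r ∣ (q ^ m + 1) * (q ^ (m - 1) - 1)) := by
  have hr : r.Prime := Fact.out
  have hq2 : 2 ≤ q := by rw [← hq]; exact Fintype.one_lt_card
  have hq1 : 1 ≤ q := by omega
  obtain ⟨m', rfl⟩ : ∃ m', m = m' + 1 := ⟨m - 1, by omega⟩
  have hm' : 1 ≤ m' := by omega
  have hA : q ^ (m' + 1) - 1 ≠ 0 := NT.pow_sub_one_ne_zero hq2 (by omega)
  have hB : q ^ (m' + 1) + 1 ≠ 0 := by omega
  have hV : padicValNat r (Nat.card (Matrix.SpecialLinearGroup (Fin n) F)) =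
      (∑ k ∈ Finset.range m', NT.f r q (2 * (k + 1))) +
        (padicValNat r (q ^ (m' + 1) - 1) + padicValNat r (q ^ (m' + 1) + 1)) := by
    rw [NT.val_SL_eq hq hrq n (2 * m' + 1) (by omega), Finset.sum_range_succ,
      NT.sum_even (NT.f r q) (fun l hl => NT.f_odd hq1 hev hl) m']
    congr 1
    unfold NT.f
    rw [show 2 * m' + 2 = 2 * (m' + 1) by ring, NT.sq_sub_one hq1, padicValNat.mul hA hB]
  simp only [Nat.add_sub_cancel]
  have h2 : (2 : ℕ) ≠ 0 := by norm_num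
  have hqm : q ^ ((m' + 1) * m') ≠ 0 := pow_ne_zero _ (by omega)
  have hP : ∏ i ∈ Finset.range m', (q ^ (2 * (i + 1)) - 1) ≠ 0 :=
    Finset.prod_ne_zero_iff.mpr (fun a _ => NT.pow_sub_one_ne_zero hq2 (by omega))
  have hR1 : padicValNat r (2 * q ^ ((m' + 1) * m') * (q ^ (m' + 1) - 1) *
        ∏ i ∈ Finset.range m', (q ^ (2 * (i + 1)) - 1)) =
      padicValNat r (q ^ (m' + 1) - 1) + ∑ k ∈ Finset.range m', NT.f r q (2 * (k + 1)) := by
    rw [padicValNat.mul (mul_ne_zero (mul_ne_zero h2 hqm) hA) hP,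
      padicValNat.mul (mul_ne_zero h2 hqm) hA, padicValNat.mul h2 hqm, NT.val_two hr2,
      NT.val_pow hrq, NT.val_prod_even hq2 m']
    omega
  have hR2 : padicValNat r (2 * q ^ ((m' + 1) * m') * (q ^ (m' + 1) + 1) *
        ∏ i ∈ Finset.range m', (q ^ (2 * (i + 1)) - 1)) =
      padicValNat r (q ^ (m' + 1) + 1) + ∑ k ∈ Finset.range m', NT.f r q (2 * (k + 1)) := by
    rw [padicValNat.mul (mul_ne_zero (mul_ne_zero h2 hqm) hB) hP,
      padicValNat.mul (mul_ne_zero h2 hqm) hB, padicValNat.mul h2 hqm, NT.val_two hr2,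
      NT.val_pow hrq, NT.val_prod_even hq2 m']
    omega
  have hx1 : ((q : ℕ) : ZMod r) ≠ 1 := by
    intro h
    rw [h, orderOf_one] at hev
    exact absurd hev (by decide)
  refine ⟨fun h => ?_, fun h => ?_⟩
  · rw [hV, hR1] at h
    have h1 : 1 ≤ padicValNat r (q ^ (m' + 1) + 1) := by omega
    have hd := dvd_of_one_le_padicValNat h1
    rw [NT.dvd_add_one_iff] at hd
    refine ⟨?_, ?_⟩
    · rw [hnm]
      apply orderOf_dvd_of_pow_eq_one
      rw [mul_comm, pow_mul, hd]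
      simp
    · intro hdv
      rcases (hr.dvd_mul).mp hdv with h3 | h3
      · rw [NT.dvd_sub_one_iff hq1] at h3
        exact NT.one_ne_neg_one hr2 (h3.symm.trans hd)
      · rw [NT.dvd_add_one_iff] at h3
        rw [pow_succ, h3] at hd
        apply hx1
        have : -((q : ℕ) : ZMod r) = -1 := by rw [← hd]; ring
        exact neg_injective this
  · rw [hV, hR2] at h
    have h1 : 1 ≤ padicValNat r (q ^ (m' + 1) - 1) := by omega
    have hd := dvd_of_one_le_padicValNat h1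
    rw [NT.dvd_sub_one_iff hq1] at hd
    refine ⟨?_, ?_⟩
    · rw [hnm]
      exact (orderOf_dvd_of_pow_eq_one hd).trans (Dvd.intro_left 2 rfl)
    · intro hdv
      rcases (hr.dvd_mul).mp hdv with h3 | h3
      · rw [NT.dvd_add_one_iff] at h3
        exact NT.one_ne_neg_one hr2 (hd.symm.trans h3)
      · rw [NT.dvd_sub_one_iff hq1] at h3
        rw [pow_succ, h3, one_mul] at hd
        exact hx1 hd

end Cfsg.Agent.S5981P
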