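import Mathlib
import Cfsg.Prelude.Def_GeometricClasses
import Cfsg.Prelude.Def_Classical
import Cfsg.Prelude.Def_LieClassical
import Cfsg.Agent.Helper28.Herm

set_option autoImplicit false
open scoped MatrixGroups Matrix

/-! S5982 piece POSDIAG: a diagonalizable element with a paired eigenbasis is a similitude of a
unitary form. -/

namespace Cfsg.Agent.S5982P

namespace POSDIAG

/-- coordinates of the image of `u` under an element diagonal in the basis `b` -/
theorem repr_mulVec {F : Type*} [Field F] {n : ℕ} (x : GL (Fin n) F)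
    (b : Module.Basis (Fin n) F (Fin n → F)) (d : Fin n → F)
    (hb : ∀ j, Matrix.toLin' (x : Matrix (Fin n) (Fin n) F) (b j) = d j • b j)
    (u : Fin n → F) (j : Fin n) :
    b.repr ((x : Matrix (Fin n) (Fin n) F) *ᵥ u) j = d j * b.repr u j := by
  have hu : u = ∑ i, (b.repr u i) • b i := (b.sum_repr u).symm
  have h1 : (x : Matrix (Fin n) (Fin n) F) *ᵥ u = ∑ i, (d i * b.repr u i) • b i := by
    conv_lhs => rw [hu]
    rw [← Matrix.toLin'_apply, map_sum]
    apply Finset.sum_congr rfl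
    intro i _
    rw [map_smul, hb i, smul_smul, mul_comm]
  rw [h1, b.repr_sum_self]

/-- the form -/
noncomputable def form {F : Type*} [Field F] {n : ℕ} (q₀ : ℕ)
    (b : Module.Basis (Fin n) F (Fin n → F)) (π : Equiv.Perm (Fin n)) (u v : Fin n → F) : F :=
  ∑ j, b.repr u j * (b.repr v (π j)) ^ q₀

theorem form_unitary {F : Type*} [Field F] [Fintype F] {q₀ : ℕ} (hF : Fintype.card F = q₀ ^ 2)
    {n : ℕ} (b : Module.Basis (Fin n) F (Fin n → F)) (π : Equiv.Perm (Fin n))
    (hπ2 : ∀ j, π (π j) = j) : Cfsg.Geo.IsUnitaryFormPow q₀ (form q₀ b π) := by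
  obtain ⟨σ, hσ, hσ2⟩ := Cfsg.Agent.Helper28.exists_frob hF
  have hherm : ∀ v w, form q₀ b π v w = (form q₀ b π w v) ^ q₀ := by
    intro v w
    unfold form
    rw [← hσ, map_sum]
    rw [← Equiv.sum_comp π (fun j => σ (b.repr w j * (b.repr v (π j)) ^ q₀))]
    apply Finset.sum_congr rfl
    intro j _
    rw [map_mul, hπ2, ← hσ (b.repr v j), hσ2, hσ, mul_comm]
  have hleft : ∀ v : Fin n → F, v ≠ 0 → ∃ x, form q₀ b π x v ≠ 0 := by
    intro v hv
    have hrv : b.repr v ≠ 0 := by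
      intro h0
      exact hv (b.repr.map_eq_zero_iff.mp h0)
    obtain ⟨k, hk⟩ : ∃ k, b.repr v k ≠ 0 := by
      by_contra hall
      push Not at hall
      exact hrv (Finsupp.ext hall)
    refine ⟨b (π k), ?_⟩
    unfold form
    rw [Finset.sum_eq_single (π k)]
    · rw [Module.Basis.repr_self, Finsupp.single_eq_same, one_mul, hπ2]
      exact pow_ne_zero _ hk
    · intro j _ hj
      rw [Module.Basis.repr_self, Finsupp.single_eq_of_ne hj, zero_mul]
    · intro h
      exact absurd (Finset.mem_univ _) h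
  refine ⟨?_, ?_, hherm, ?_⟩
  · intro x y v
    unfold form
    rw [← Finset.sum_add_distrib]
    apply Finset.sum_congr rfl
    intro j _
    rw [map_add, Finsupp.add_apply, add_mul]
  · intro c x v
    unfold form
    rw [Finset.mul_sum]
    apply Finset.sum_congr rfl
    intro j _
    rw [map_smul, Finsupp.smul_apply, smul_eq_mul, mul_assoc]
  · intro v hv
    obtain ⟨x, hx⟩ := hleft v hv
    refine ⟨⟨x, hx⟩, ⟨x, ?_⟩⟩
    rw [hherm v x]
    exact pow_ne_zero _ hx

end POSDIAG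

open POSDIAG in
/-- POSDIAG: a diagonalizable element with a paired eigenbasis is a similitude of a unitary form -/
theorem exists_form_of_diag {F : Type*} [Field F] [Fintype F] {q₀ : ℕ} (hF : Fintype.card F = q₀ ^ 2)
    (n : ℕ) (r : ℕ) [Fact r.Prime] (ξ : F) (hξq : ξ ^ q₀ = ξ) (hξr : ξ ^ r = 1) (μ : F) (hμ : μ ≠ 0)
    (x : GL (Fin n) F) (b : Module.Basis (Fin n) F (Fin n → F)) (e : Fin n → ZMod r)
    (hb : ∀ j, Matrix.toLin' (x : Matrix (Fin n) (Fin n) F) (b j) = (μ * ξ ^ (e j).val) • b j)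
    (π : Equiv.Perm (Fin n)) (hπ2 : ∀ j, π (π j) = j) (c₀ : ZMod r)
    (hπ : ∀ j, e (π j) = c₀ - e j) :
    ∃ f' : (Fin n → F) → (Fin n → F) → F, Cfsg.Geo.IsUnitaryFormPow q₀ f' ∧
      x ∈ Cfsg.Geo.similarityGroup f' := by
  refine ⟨form q₀ b π, form_unitary hF b π hπ2, ?_⟩
  have hξ0 : ξ ≠ 0 := by
    intro h0
    rw [h0, zero_pow (Fact.out : r.Prime).ne_zero] at hξr
    exact zero_ne_one hξr
  -- powers of `ξ` only depend on the exponent mod `r`
  have hpow : ∀ a b' : ℕ, (a : ZMod r) = (b' : ZMod r) → ξ ^ a = ξ ^ b' := by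
    intro a b' hab
    have h1 : a ≡ b' [MOD r] := (ZMod.natCast_eq_natCast_iff a b' r).mp hab
    rw [← Nat.mod_add_div a r, ← Nat.mod_add_div b' r, pow_add, pow_add, pow_mul, pow_mul, hξr,
      one_pow, one_pow, mul_one, mul_one]
    exact congrArg (ξ ^ ·) h1
  have hc : μ ^ (q₀ + 1) * ξ ^ c₀.val ≠ 0 := mul_ne_zero (pow_ne_zero _ hμ) (pow_ne_zero _ hξ0)
  refine ⟨Units.mk0 _ hc, ?_⟩
  intro u v
  rw [Units.val_mk0]
  unfold form
  rw [Finset.mul_sum]
  apply Finset.sum_congr rfl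
  intro j _
  rw [repr_mulVec x b (fun j => μ * ξ ^ (e j).val) hb u j,
    repr_mulVec x b (fun j => μ * ξ ^ (e j).val) hb v (π j)]
  have h2 : ξ ^ (e j).val * ξ ^ (e (π j)).val = ξ ^ c₀.val := by
    rw [← pow_add]
    apply hpow
    rw [Nat.cast_add, ZMod.natCast_zmod_val, ZMod.natCast_zmod_val, ZMod.natCast_zmod_val, hπ j]
    ring
  have h3 : (ξ ^ (e (π j)).val) ^ q₀ = ξ ^ (e (π j)).val := by
    rw [← pow_mul, mul_comm, pow_mul, hξq]
  rw [mul_pow, mul_pow, h3, ← h2]
  ring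

end Cfsg.Agent.S5982P
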