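import Mathlib
import Cfsg.Prelude.Def_GeometricClasses
import Cfsg.Agent.Helper20.S6000Defs
import Cfsg.Agent.Helper7.S6000ORBA

set_option autoImplicit false
open scoped MatrixGroups Matrix

/-! # S6000 piece ORB: orbit representatives of `y ∈ N(R)` of odd prime order modulo scalars on
`R / Z(R)` (16 cosets), with the count `r * n0 = 16 + (r - 1) * |C_R(y)| / 4`. -/

namespace Cfsg.Agent.S6000P

namespace ORB

variable {F : Type*} [Field F] {R : Subgroup (GL (Fin 4) F)}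

/-- conjugation by an element of the normalizer, as a map of `R` -/
def cj (g : GL (Fin 4) F) (hg : g ∈ Cfsg.Geo.subgroupNormalizer R) (a : ↥R) : ↥R :=
  ⟨g * a * g⁻¹, ((mem_normalizer_iff' R g).mp hg a).mp a.2⟩

theorem coe_cj (g : GL (Fin 4) F) (hg : g ∈ Cfsg.Geo.subgroupNormalizer R) (a : ↥R) :
    ((cj g hg a : ↥R) : GL (Fin 4) F) = g * a * g⁻¹ := rfl

theorem cj_mul (g g' : GL (Fin 4) F) (hg : g ∈ Cfsg.Geo.subgroupNormalizer R)
    (hg' : g' ∈ Cfsg.Geo.subgroupNormalizer R) (a : ↥R) :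
    cj (g * g') (Subgroup.mul_mem _ hg hg') a = cj g hg (cj g' hg' a) := by
  apply Subtype.ext
  rw [coe_cj, coe_cj, coe_cj, mul_inv_rev]
  simp only [mul_assoc]

theorem cj_one (a : ↥R) : cj (1 : GL (Fin 4) F) (Subgroup.one_mem _) a = a := by
  apply Subtype.ext
  rw [coe_cj, one_mul, inv_one, mul_one]

/-- scalar elements of `R` are fixed -/
theorem cj_of_scalar (g : GL (Fin 4) F) (hg : g ∈ Cfsg.Geo.subgroupNormalizer R) (a : ↥R) (z : F)
    (ha : ((a : GL (Fin 4) F) : M4 F) = z • (1 : M4 F)) : cj g hg a = a := by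
  apply Subtype.ext
  rw [coe_cj, ← gl_comm_of_scalar ha g, mul_assoc, mul_inv_cancel, mul_one]

/-- conjugation by a scalar is trivial -/
theorem cj_scalar (g : GL (Fin 4) F) (hg : g ∈ Cfsg.Geo.subgroupNormalizer R) (z : F)
    (hz : (g : M4 F) = z • (1 : M4 F)) (a : ↥R) : cj g hg a = a := by
  apply Subtype.ext
  rw [coe_cj]
  exact conj_eq_of_scalar hz _

theorem cj_inv_mul (g : GL (Fin 4) F) (hg : g ∈ Cfsg.Geo.subgroupNormalizer R) (a b : ↥R) :
    (cj g hg a)⁻¹ * cj g hg b = cj g hg (a⁻¹ * b) := by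
  apply Subtype.ext
  rw [Subgroup.coe_mul, Subgroup.coe_inv, coe_cj, coe_cj, coe_cj, Subgroup.coe_mul,
    Subgroup.coe_inv]
  group

variable (Z : Subgroup ↥R)
  (hZ : ∀ z ∈ Z, ∃ l : F, (((z : ↥R) : GL (Fin 4) F) : M4 F) = l • (1 : M4 F))

include hZ in
theorem cj_rel (g : GL (Fin 4) F) (hg : g ∈ Cfsg.Geo.subgroupNormalizer R) (a b : ↥R)
    (hab : a⁻¹ * b ∈ Z) : (cj g hg a)⁻¹ * cj g hg b ∈ Z := by
  rw [cj_inv_mul]
  obtain ⟨l, hl⟩ := hZ _ hab
  rw [cj_of_scalar g hg _ l hl]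
  exact hab

/-- the induced map on `R / Z` -/
def qmap (g : GL (Fin 4) F) (hg : g ∈ Cfsg.Geo.subgroupNormalizer R) : ↥R ⧸ Z → ↥R ⧸ Z :=
  Quotient.map' (cj g hg) (fun a b hab => by
    rw [QuotientGroup.leftRel_apply] at hab ⊢
    exact cj_rel Z hZ g hg a b hab)

theorem qmap_mk (g : GL (Fin 4) F) (hg : g ∈ Cfsg.Geo.subgroupNormalizer R) (a : ↥R) :
    qmap Z hZ g hg (QuotientGroup.mk a) = QuotientGroup.mk (cj g hg a) := rfl

theorem qmap_mul (g g' : GL (Fin 4) F) (hg : g ∈ Cfsg.Geo.subgroupNormalizer R)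
    (hg' : g' ∈ Cfsg.Geo.subgroupNormalizer R) (x : ↥R ⧸ Z) :
    qmap Z hZ (g * g') (Subgroup.mul_mem _ hg hg') x = qmap Z hZ g hg (qmap Z hZ g' hg' x) := by
  induction x using QuotientGroup.induction_on with
  | H a => rw [qmap_mk, qmap_mk, qmap_mk, cj_mul]

theorem qmap_scalar (g : GL (Fin 4) F) (hg : g ∈ Cfsg.Geo.subgroupNormalizer R) (z : F)
    (hz : (g : M4 F) = z • (1 : M4 F)) (x : ↥R ⧸ Z) : qmap Z hZ g hg x = x := by
  induction x using QuotientGroup.induction_on with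
  | H a => rw [qmap_mk, cj_scalar g hg z hz]

/-- the permutation of `R / Z` induced by `y` -/
def sigma (y : GL (Fin 4) F) (hy : y ∈ Cfsg.Geo.subgroupNormalizer R) : Equiv.Perm (↥R ⧸ Z) where
  toFun := qmap Z hZ y hy
  invFun := qmap Z hZ y⁻¹ (Subgroup.inv_mem _ hy)
  left_inv x := by
    rw [← qmap_mul]
    exact qmap_scalar Z hZ _ _ 1 (by rw [inv_mul_cancel, one_smul]; rfl) x
  right_inv x := by
    rw [← qmap_mul]
    exact qmap_scalar Z hZ _ _ 1 (by rw [mul_inv_cancel, one_smul]; rfl) x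

theorem sigma_apply (y : GL (Fin 4) F) (hy : y ∈ Cfsg.Geo.subgroupNormalizer R) (x : ↥R ⧸ Z) :
    sigma Z hZ y hy x = qmap Z hZ y hy x := rfl

theorem sigma_pow_mk (y : GL (Fin 4) F) (hy : y ∈ Cfsg.Geo.subgroupNormalizer R) (e : ℕ) (a : ↥R) :
    (sigma Z hZ y hy ^ e) (QuotientGroup.mk a) =
      QuotientGroup.mk (cj (y ^ e) (Subgroup.pow_mem _ hy e) a) := by
  induction e with
  | zero =>
    rw [pow_zero, Equiv.Perm.one_apply]
    congr 1
    apply Subtype.ext
    rw [coe_cj, pow_zero, one_mul, inv_one, mul_one]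
  | succ n ih =>
    rw [pow_succ', Equiv.Perm.mul_apply, ih]
    rw [sigma_apply, qmap_mk, ← cj_mul]
    congr 1
    apply Subtype.ext
    rw [coe_cj, coe_cj, pow_succ']

end ORB

open ORB in
/-- ORB -/
theorem exists_orbit_reps {F : Type*} [Field F] {R : Subgroup (GL (Fin 4) F)} {ι : F}
    (h : Hyp64 R ι) (y : GL (Fin 4) F) (hy : y ∈ Cfsg.Geo.subgroupNormalizer R) (r : ℕ)
    [Fact r.Prime] (hr2 : r ≠ 2)
    (hyr : ∃ z : F, ((y ^ r : GL (Fin 4) F) : M4 F) = z • (1 : M4 F))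
    (k : ℕ) (hk2 : 2 ≤ k)
    (hk : Nat.card {a : GL (Fin 4) F // a ∈ R ∧ y * a * y⁻¹ = a} = 2 ^ k) :
    ∃ (n0 : ℕ) (b : Fin n0 → GL (Fin 4) F), r * n0 = 16 + (r - 1) * 2 ^ (k - 2) ∧
      (∀ j, b j ∈ R) ∧
      ∀ a ∈ R, ∃ (j : Fin n0) (e : ℕ) (z : F),
        (a : M4 F) = z • ((y ^ e * b j * (y ^ e)⁻¹ : GL (Fin 4) F) : M4 F) := by
  classical
  have hfin : Finite ↥R := Nat.finite_of_card_ne_zero (by rw [h.card]; norm_num)
  have hr : r.Prime := Fact.out
  obtain ⟨c, hcR, hc⟩ := h.iota_mem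
  -- the subgroup of scalar elements of `R`
  let Zs : Subgroup ↥R :=
    { carrier := {a | ∃ l : F, (((a : ↥R) : GL (Fin 4) F) : M4 F) = l • (1 : M4 F)}
      mul_mem' := by
        rintro a b ⟨l, hl⟩ ⟨m, hm⟩
        refine ⟨l * m, ?_⟩
        rw [Subgroup.coe_mul, Units.val_mul, hl, hm, Matrix.smul_mul, Matrix.one_mul, smul_smul]
      one_mem' := ⟨1, by rw [one_smul]; rfl⟩
      inv_mem' := by
        rintro a ⟨l, hl⟩
        refine ⟨l⁻¹, ?_⟩
        have hl0 : l ≠ 0 := by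
          intro h0
          have h1 : ((a : GL (Fin 4) F) : M4 F) * (((a : GL (Fin 4) F)⁻¹ : GL (Fin 4) F) : M4 F) = 1 := by
            rw [← Units.val_mul, mul_inv_cancel]; rfl
          rw [hl, h0, zero_smul, zero_mul] at h1
          have h2 := congrFun (congrFun h1 0) 0
          simp at h2
        have h1 : ((a : GL (Fin 4) F) : M4 F) * (((a : GL (Fin 4) F)⁻¹ : GL (Fin 4) F) : M4 F) = 1 := by
          rw [← Units.val_mul, mul_inv_cancel]; rfl
        rw [hl, Matrix.smul_mul, Matrix.one_mul] at h1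
        rw [Subgroup.coe_inv, ← h1, smul_smul, inv_mul_cancel₀ hl0, one_smul] }
  have hZs : ∀ a : ↥R, a ∈ Zs ↔ ∃ l : F, ((a : GL (Fin 4) F) : M4 F) = l • (1 : M4 F) :=
    fun a => Iff.rfl
  -- the cyclic group generated by the scalar `ι`
  set c' : ↥R := ⟨c, hcR⟩ with hc'
  have hcc : c * c = -1 := by
    apply Units.ext
    rw [Units.val_mul, hc, Matrix.smul_mul, Matrix.mul_smul, Matrix.one_mul, smul_smul, h.iota_sq,
      coe_neg_one, neg_smul, one_smul]
  have hc2 : c' ^ 2 ≠ 1 := by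
    intro e
    have e' := congrArg (fun t : ↥R => (t : GL (Fin 4) F)) e
    simp only [SubmonoidClass.coe_pow, Subgroup.coe_one] at e'
    rw [pow_two, hcc] at e'
    exact neg_one_ne_one h.two_ne e'
  have hc4 : c' ^ 4 = 1 := by
    apply Subtype.ext
    simp only [SubmonoidClass.coe_pow, Subgroup.coe_one]
    have : c ^ 4 = (c * c) * (c * c) := by
      rw [pow_succ, pow_succ, pow_succ, pow_one]
      simp only [mul_assoc]
    rw [this, hcc, neg_mul_neg, one_mul]
  have hord : orderOf c' = 4 := by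
    have := orderOf_eq_prime_pow (x := c') (p := 2) (n := 1) (by simpa using hc2) (by simpa using hc4)
    simpa using this
  set Z : Subgroup ↥R := Subgroup.zpowers c' with hZdef
  have hZcard : Nat.card Z = 4 := by rw [hZdef, Nat.card_zpowers, hord]
  have hZle : Z ≤ Zs := by
    rw [hZdef, Subgroup.zpowers_le]
    exact ⟨ι, hc⟩
  have hZ : ∀ z ∈ Z, ∃ l : F, (((z : ↥R) : GL (Fin 4) F) : M4 F) = l • (1 : M4 F) :=
    fun z hz => (hZs z).mp (hZle hz)
  have hXcard : Nat.card (↥R ⧸ Z) = 16 := by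
    have := Subgroup.card_eq_card_quotient_mul_card_subgroup Z
    rw [h.card, hZcard] at this
    omega
  have : Fintype (↥R ⧸ Z) := Fintype.ofFinite _
  obtain ⟨zr, hzr⟩ := hyr
  have hyrN : y ^ r ∈ Cfsg.Geo.subgroupNormalizer R := Subgroup.pow_mem _ hy r
  -- `σ ^ r = 1`
  have hσr : sigma Z hZ y hy ^ r = 1 := by
    ext x
    induction x using QuotientGroup.induction_on with
    | H a => rw [sigma_pow_mk, cj_scalar _ _ zr hzr, Equiv.Perm.one_apply]
  have hcop : Nat.Coprime r 4 := by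
    rw [Nat.Prime.coprime_iff_not_dvd hr]
    intro h4
    have h4' : r ∣ 2 ^ 2 := by simpa using h4
    exact hr2 ((Nat.prime_dvd_prime_iff_eq hr Nat.prime_two).mp (hr.dvd_of_dvd_pow h4'))
  -- a fixed coset consists of fixed elements
  have hfix : ∀ a : ↥R, sigma Z hZ y hy (QuotientGroup.mk a) = QuotientGroup.mk a ↔
      y * (a : GL (Fin 4) F) * y⁻¹ = a := by
    intro a
    constructor
    · intro hfa
      have h1 : (QuotientGroup.mk (cj y hy a) : ↥R ⧸ Z) = QuotientGroup.mk a := hfa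
      rw [QuotientGroup.eq] at h1
      obtain ⟨l, hl⟩ := hZ _ h1
      rw [Subgroup.coe_mul, Subgroup.coe_inv, coe_cj] at hl
      set d : GL (Fin 4) F := (y * (a : GL (Fin 4) F) * y⁻¹)⁻¹ * (a : GL (Fin 4) F) with hd
      have hdR : d ∈ R := by
        have := ((cj y hy a)⁻¹ * a).2
        rw [Subgroup.coe_mul, Subgroup.coe_inv, coe_cj] at this
        exact this
      have hdcomm : ∀ g : GL (Fin 4) F, d * g = g * d := fun g => gl_comm_of_scalar hl g
      have hconj : y * (a : GL (Fin 4) F) * y⁻¹ = a * d⁻¹ := by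
        rw [hd]; group
      have hiter : ∀ n : ℕ, y ^ n * (a : GL (Fin 4) F) * (y ^ n)⁻¹ = a * (d⁻¹) ^ n := by
        intro n
        induction n with
        | zero => rw [pow_zero, pow_zero, one_mul, inv_one, mul_one]
        | succ n ih =>
          have h5 : y ^ (n + 1) * (a : GL (Fin 4) F) * (y ^ (n + 1))⁻¹ =
              y ^ n * (y * a * y⁻¹) * (y ^ n)⁻¹ := by
            rw [pow_succ, mul_inv_rev]
            simp only [mul_assoc]
          have hdi : d⁻¹ * (y ^ n)⁻¹ = (y ^ n)⁻¹ * d⁻¹ := by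
            rw [← mul_inv_rev, ← mul_inv_rev, hdcomm]
          rw [h5, hconj, pow_succ, ← mul_assoc (a : GL (Fin 4) F), ← ih]
          simp only [mul_assoc]
          rw [hdi]
      have hdr : (d⁻¹) ^ r = 1 := by
        have h6 := hiter r
        rw [conj_eq_of_scalar hzr] at h6
        exact (mul_eq_left.mp h6.symm)
      have hd4 : (d⁻¹) ^ 4 = 1 := by
        have h7 : (d⁻¹) ^ 4 = ((d * d) * (d * d))⁻¹ := by
          rw [inv_pow]
          congr 1
          rw [pow_succ, pow_succ, pow_succ, pow_one]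
          simp only [mul_assoc]
        rw [h7]
        rcases h.sq d hdR with h8 | h8
        · rw [h8, one_mul, inv_one]
        · rw [h8, neg_mul_neg, one_mul, inv_one]
      have hd1 : d⁻¹ = 1 := by
        have := pow_gcd_eq_one.mpr ⟨hdr, hd4⟩
        rw [Nat.Coprime] at hcop
        rwa [hcop, pow_one] at this
      rw [hconj, hd1, mul_one]
    · intro hfa
      show (QuotientGroup.mk (cj y hy a) : ↥R ⧸ Z) = QuotientGroup.mk a
      congr 1
      apply Subtype.ext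
      rw [coe_cj]
      exact hfa
  -- count the fixed cosets
  have hfixcard : Fintype.card {x : ↥R ⧸ Z // sigma Z hZ y hy x = x} = 2 ^ (k - 2) := by
    set t : Set (↥R ⧸ Z) := {x | sigma Z hZ y hy x = x} with ht
    have e1 : ↥((QuotientGroup.mk : ↥R → ↥R ⧸ Z) ⁻¹' t) ≃
        {a : GL (Fin 4) F // a ∈ R ∧ y * a * y⁻¹ = a} :=
      { toFun := fun a => ⟨a.1.1, a.1.2, (hfix a.1).mp a.2⟩
        invFun := fun a => ⟨⟨a.1, a.2.1⟩, (hfix ⟨a.1, a.2.1⟩).mpr a.2.2⟩
        left_inv := fun a => rfl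
        right_inv := fun a => rfl }
    have h1 := Nat.card_congr e1
    have h2 := Nat.card_congr (QuotientGroup.preimageMkEquivSubgroupProdSet Z t)
    rw [Nat.card_prod, hZcard] at h2
    rw [h1, hk] at h2
    have h3 : (2 : ℕ) ^ k = 4 * 2 ^ (k - 2) := by
      have : k = (k - 2) + 2 := by omega
      conv_lhs => rw [this, pow_add]
      ring
    have h4 : Nat.card ↥t = 2 ^ (k - 2) := by omega
    rw [← h4, Nat.card_eq_fintype_card]
    rfl
  obtain ⟨n0, b', hn0, hcov'⟩ := exists_perm_orbit_reps (sigma Z hZ y hy) r hσr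
  have hX16 : Fintype.card (↥R ⧸ Z) = 16 := by rw [← Nat.card_eq_fintype_card, hXcard]
  refine ⟨n0, fun j => ((Quotient.out (b' j) : ↥R) : GL (Fin 4) F), ?_, ?_, ?_⟩
  · rw [hn0, hX16, hfixcard]
  · intro j
    exact (Quotient.out (b' j) : ↥R).2
  · intro a ha
    obtain ⟨j, e, hje⟩ := hcov' (QuotientGroup.mk ⟨a, ha⟩)
    have hout : (QuotientGroup.mk (Quotient.out (b' j)) : ↥R ⧸ Z) = b' j := Quotient.out_eq' _
    rw [← hout, sigma_pow_mk] at hje
    have h1 := hje.symm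
    rw [QuotientGroup.eq] at h1
    obtain ⟨l, hl⟩ := hZ _ h1
    rw [Subgroup.coe_mul, Subgroup.coe_inv, coe_cj] at hl
    refine ⟨j, e, l, ?_⟩
    have h3 : ((y ^ e * ((Quotient.out (b' j) : ↥R) : GL (Fin 4) F) * (y ^ e)⁻¹ : GL (Fin 4) F) : M4 F) *
        (((y ^ e * ((Quotient.out (b' j) : ↥R) : GL (Fin 4) F) * (y ^ e)⁻¹)⁻¹ * a : GL (Fin 4) F) : M4 F) =
        (a : M4 F) := by
      rw [← Units.val_mul, mul_inv_cancel_left]
    rw [← h3, hl, Matrix.mul_smul, Matrix.mul_one]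

end Cfsg.Agent.S6000P
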