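import Mathlib
import Cfsg.Prelude.Def_GeometricClasses
import Cfsg.Agent.Helper20.S6000Defs
import Cfsg.Agent.Helper11.FieldComm

set_option autoImplicit false
open scoped MatrixGroups Matrix

/-! S6000 piece SYL5: for `ord_5(p) = 4` the elements of order 5 of `SL_4(p)` generate conjugate
subgroups (cyclic Sylow 5-subgroups).  Port of `Cfsg.Agent.Helper24.S6002SYL5` (helper24) to the
index type `Fin 4`; `conj_generic` holds for every subgroup `G` of `GL_4`. -/

namespace Cfsg.Agent.S6000P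

namespace SYL5

variable {F : Type*} [Field F]

/-- the natural representation -/
noncomputable def rho : GL (Fin 4) F →* Module.End F (Fin 4 → F) where
  toFun g := Matrix.toLin' (g : Matrix (Fin 4) (Fin 4) F)
  map_one' := by
    rw [Units.val_one, Matrix.toLin'_one]
    rfl
  map_mul' a b := by
    rw [Units.val_mul, Matrix.toLin'_mul]
    rfl

theorem rho_injective : Function.Injective (rho (F := F)) := by
  intro a b h
  apply Units.ext
  exact Matrix.toLin'.injective h

/-- in a finite cyclic group the solutions of `t ^ l = 1` are the powers of any element of order `l` -/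
theorem mem_zpowers_of_cyclic {Q : Type*} [Group Q] [Finite Q] [IsCyclic Q] (l : ℕ) (hl : 0 < l)
    (a b : Q) (ha : a ^ l = 1) (hb : orderOf b = l) : a ∈ Subgroup.zpowers b := by
  classical
  haveI := Fintype.ofFinite Q
  have h1 := IsCyclic.card_pow_eq_one_le (α := Q) hl
  set S := Finset.univ.filter (fun t : Q => t ^ l = 1) with hS
  set T : Finset Q := (Subgroup.zpowers b : Set Q).toFinset with hT
  have hTS : T ⊆ S := by
    intro t ht
    rw [hT, Set.mem_toFinset, SetLike.mem_coe, Subgroup.mem_zpowers_iff] at ht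
    obtain ⟨m, rfl⟩ := ht
    rw [hS, Finset.mem_filter]
    refine ⟨Finset.mem_univ _, ?_⟩
    rw [← zpow_natCast, ← zpow_mul, mul_comm, zpow_mul, zpow_natCast, ← hb, pow_orderOf_eq_one,
      one_zpow]
  have hTc : T.card = l := by
    rw [hT, Set.toFinset_card, ← hb]
    exact Fintype.card_zpowers
  have heq := Finset.eq_of_subset_of_card_le hTS (by rw [hTc]; exact h1)
  have ha' : a ∈ S := by
    rw [hS, Finset.mem_filter]
    exact ⟨Finset.mem_univ _, ha⟩
  rw [← heq, hT, Set.mem_toFinset] at ha'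
  exact ha'

/-- the generic statement -/
theorem conj_generic [Fintype F] (G : Subgroup (GL (Fin 4) F))
    (hq : ¬ 5 ∣ Nat.card F)
    (hd : ∀ d, 0 < d → d < Module.finrank F (Fin 4 → F) → ¬ 5 ∣ Nat.card F ^ d - 1)
    (x y : GL (Fin 4) F) (hx : x ∈ G) (hy : y ∈ G) (hx5 : x ^ 5 = 1) (hx1 : x ≠ 1)
    (hy5 : y ^ 5 = 1) (hy1 : y ≠ 1) :
    ∃ g ∈ G, ∃ k : ℕ, g⁻¹ * x * g = y ^ k := by
  classical
  haveI : Fact (Nat.Prime 5) := ⟨by norm_num⟩
  set x' : G := ⟨x, hx⟩ with hx'
  set y' : G := ⟨y, hy⟩ with hy'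
  have hx'5 : x' ^ 5 = 1 := Subtype.ext (by simpa using hx5)
  have hy'5 : y' ^ 5 = 1 := Subtype.ext (by simpa using hy5)
  have hx'1 : x' ≠ 1 := fun h => hx1 (congrArg Subtype.val h)
  have hy'1 : y' ≠ 1 := fun h => hy1 (congrArg Subtype.val h)
  have hPx : IsPGroup 5 (Subgroup.zpowers x') :=
    IsPGroup.of_card (n := 1) (by rw [Nat.card_zpowers, orderOf_eq_prime hx'5 hx'1, pow_one])
  have hPy : IsPGroup 5 (Subgroup.zpowers y') :=
    IsPGroup.of_card (n := 1) (by rw [Nat.card_zpowers, orderOf_eq_prime hy'5 hy'1, pow_one])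
  obtain ⟨P, hP⟩ := hPx.exists_le_sylow
  obtain ⟨Q, hQ⟩ := hPy.exists_le_sylow
  obtain ⟨h, hh⟩ := MulAction.exists_smul_eq G P Q
  have hxP : x' ∈ P := hP (Subgroup.mem_zpowers x')
  have hyQ : y' ∈ Q := hQ (Subgroup.mem_zpowers y')
  have hxQ : h * x' * h⁻¹ ∈ Q := by
    rw [← hh]
    show h * x' * h⁻¹ ∈ ((h • P : Sylow 5 G) : Subgroup G)
    rw [Sylow.coe_subgroup_smul, Subgroup.mem_pointwise_smul_iff_inv_smul_mem]
    have : (MulAut.conj h)⁻¹ • (h * x' * h⁻¹) = x' := by
      rw [← map_inv, MulAut.smul_def, MulAut.conj_apply]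
      group
    rw [this]
    exact hxP
  -- `Q` is cyclic
  have hQcyc : IsCyclic (Q : Subgroup G) := by
    haveI : Nontrivial (Q : Subgroup G) :=
      ⟨⟨⟨y', hyQ⟩, 1, fun h => hy'1 (congrArg Subtype.val h)⟩⟩
    have hQp : IsPGroup 5 (Q : Subgroup G) := Q.isPGroup'
    haveI := hQp.center_nontrivial
    have hdvd : 5 ∣ Nat.card (Subgroup.center (Q : Subgroup G)) := by
      rcases (hQp.to_subgroup (Subgroup.center (Q : Subgroup G))).card_eq_or_dvd with h1 | h1
      · exfalso
        exact (Finite.one_lt_card (α := Subgroup.center (Q : Subgroup G))).ne' h1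
      · exact h1
    obtain ⟨z, hz⟩ := exists_prime_orderOf_dvd_card' 5 hdvd
    set z' : G := ((z : (Q : Subgroup G)) : G) with hz'
    have hz5 : z' ^ 5 = 1 := by
      have h1 : z ^ 5 = 1 := by
        have h0 := pow_orderOf_eq_one z
        rw [hz] at h0
        exact h0
      have h2 := congrArg (fun t : Subgroup.center (Q : Subgroup G) => ((t : (Q : Subgroup G)) : G)) h1
      simpa using h2
    have hz1 : z' ≠ 1 := by
      intro h1
      have h2 : z = 1 := by
        apply Subtype.ext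
        apply Subtype.ext
        exact h1
      rw [h2, orderOf_one] at hz
      omega
    have hρ : Function.Injective ((rho (F := F)).comp G.subtype) := by
      intro a b hab
      apply Subtype.ext
      exact rho_injective hab
    apply Cfsg.Agent.Helper11.FieldComm.isCyclic_of_le_centralizer ((rho (F := F)).comp G.subtype)
      hρ 5 z' hz5 hz1 hq hd (Q : Subgroup G)
    intro t ht
    rw [Subgroup.mem_centralizer_iff]
    intro w hw
    rw [Set.mem_singleton_iff] at hw
    subst hw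
    have h3 := Subgroup.mem_center_iff.mp z.2 ⟨t, ht⟩
    have h4 := congrArg Subtype.val h3
    exact h4.symm
  have hmem := mem_zpowers_of_cyclic (Q := (Q : Subgroup G)) 5 (by norm_num)
    ⟨h * x' * h⁻¹, hxQ⟩ ⟨y', hyQ⟩
    (by
      apply Subtype.ext
      show (h * x' * h⁻¹) ^ 5 = 1
      rw [conj_pow, hx'5, mul_one, mul_inv_cancel])
    (by
      apply orderOf_eq_prime
      · apply Subtype.ext
        exact hy'5
      · intro h1
        exact hy'1 (congrArg Subtype.val h1))
  have hfin : IsOfFinOrder (⟨y', hyQ⟩ : (Q : Subgroup G)) := isOfFinOrder_of_finite _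
  rw [← hfin.mem_powers_iff_mem_zpowers, Submonoid.mem_powers_iff] at hmem
  obtain ⟨k, hk⟩ := hmem
  refine ⟨((h⁻¹ : G) : GL (Fin 4) F), (h⁻¹).2, k, ?_⟩
  have h5 := congrArg (fun t : (Q : Subgroup G) => ((t : G) : GL (Fin 4) F)) hk
  simp only [SubmonoidClass.coe_pow, Subgroup.coe_mul, Subgroup.coe_inv] at h5
  rw [Subgroup.coe_inv, inv_inv]
  exact h5.symm

end SYL5

open SYL5 in
/-- SYL5 -/
theorem conj_pow_of_five {F : Type*} [Field F] [Fintype F] {p : ℕ} [Fact p.Prime] [CharP F p]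
    (hF : Fintype.card F = p) (hord : orderOf (p : ZMod 5) = 4) (x y : GL (Fin 4) F)
    (hx : x ∈ Cfsg.Geo.specialLinear (Fin 4) F) (hy : y ∈ Cfsg.Geo.specialLinear (Fin 4) F) (hx5 : x ^ 5 = 1) (hx1 : x ≠ 1)
    (hy5 : y ^ 5 = 1) (hy1 : y ≠ 1) :
    ∃ g ∈ Cfsg.Geo.specialLinear (Fin 4) F, ∃ k : ℕ, g⁻¹ * x * g = y ^ k := by
  have hcard : Nat.card F = p := by rw [Nat.card_eq_fintype_card, hF]
  have hp1 : 1 ≤ p := (Fact.out : p.Prime).pos
  have hkey : ∀ d : ℕ, 5 ∣ p ^ d - 1 → 4 ∣ d := by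
    intro d hd
    have h1 : ((p ^ d - 1 : ℕ) : ZMod 5) = 0 := (ZMod.natCast_eq_zero_iff _ _).mpr hd
    have h3 : 1 ≤ p ^ d := Nat.one_le_pow _ _ hp1
    rw [Nat.cast_sub h3, Nat.cast_pow, Nat.cast_one, sub_eq_zero] at h1
    rw [← hord]
    exact orderOf_dvd_of_pow_eq_one h1
  apply conj_generic (Cfsg.Geo.specialLinear (Fin 4) F) _ _ x y hx hy hx5 hx1 hy5 hy1
  · rw [hcard]
    intro h
    have h0 : ((p : ℕ) : ZMod 5) = 0 := (ZMod.natCast_eq_zero_iff _ _).mpr h
    have h1 := pow_orderOf_eq_one ((p : ℕ) : ZMod 5)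
    rw [hord, h0, zero_pow (by norm_num)] at h1
    exact absurd h1 (by decide)
  · intro d hd0 hd4 hdvd
    rw [hcard] at hdvd
    have h4 : Module.finrank F (Fin 4 → F) = 4 := by
      rw [Module.finrank_fintype_fun_eq_card, Fintype.card_fin]
    rw [h4] at hd4
    have := Nat.le_of_dvd hd0 (hkey d hdvd)
    omega

end Cfsg.Agent.S6000P
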