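import Mathlib
import Cfsg.Prelude.Def_GeometricClasses
import Cfsg.Agent.Helper20.S6000Defs
import Cfsg.Agent.Helper21.S5949IRR

set_option autoImplicit false
open scoped MatrixGroups Matrix
open Polynomial

/-! # S6000 piece TYPE3: the trace of an element of order 3 of `GL_4(p)`, `p ≡ 2 (mod 3)`, is `1` or `-2`. -/

namespace Cfsg.Agent.S6000P

namespace TYPE3

variable {F : Type*} [Field F] [Fintype F] {p : ℕ} [Fact p.Prime] [CharP F p]

/-- no primitive cube root of unity in `F_p`, `p ≡ 2 (mod 3)` -/
theorem no_omega (hF : Fintype.card F = p) (hp3 : p % 3 = 2) (ω : F) (hω : ω * ω + ω + 1 = 0) :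
    False := by
  have hp : p.Prime := Fact.out
  have h3 : (3 : F) ≠ 0 := by
    intro h3
    have h3' : ((3 : ℕ) : F) = 0 := by exact_mod_cast h3
    rw [CharP.cast_eq_zero_iff F p] at h3'
    have : p = 3 := (Nat.prime_dvd_prime_iff_eq hp Nat.prime_three).mp h3'
    omega
  have hω0 : ω ≠ 0 := by
    rintro rfl
    simp at hω
  have hω3 : ω ^ 3 = 1 := by linear_combination (ω - 1) * hω
  have hω1 : ω ≠ 1 := by
    rintro rfl
    apply h3
    linear_combination hω
  have h1 := FiniteField.pow_card_sub_one_eq_one ω hω0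
  rw [hF] at h1
  obtain ⟨q, hq⟩ : ∃ q, p - 1 = 3 * q + 1 := ⟨(p - 1) / 3, by omega⟩
  rw [hq, pow_add, pow_mul, hω3, one_pow, one_mul, pow_one] at h1
  exact hω1 h1

theorem irreducible_cyclo3 (hF : Fintype.card F = p) (hp3 : p % 3 = 2) :
    Irreducible (X ^ 2 + X + 1 : F[X]) := by
  have hmon : (X ^ 2 + X + 1 : F[X]).Monic := by monicity!
  have hdeg : (X ^ 2 + X + 1 : F[X]).natDegree = 2 := by compute_degree!
  rw [Polynomial.Monic.irreducible_iff_roots_eq_zero_of_degree_le_three hmon (by rw [hdeg])
    (by rw [hdeg]; norm_num)]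
  rw [Multiset.eq_zero_iff_forall_notMem]
  intro ω hω
  rw [Polynomial.mem_roots hmon.ne_zero, Polynomial.IsRoot.def] at hω
  simp only [eval_add, eval_pow, eval_X, eval_one] at hω
  exact no_omega hF hp3 ω (by linear_combination hω)

end TYPE3

open TYPE3 in
/-- TYPE3 -/
theorem trace_of_cube {F : Type*} [Field F] [Fintype F] {p : ℕ} [Fact p.Prime] [CharP F p]
    (hF : Fintype.card F = p) (hp3 : p % 3 = 2) (x : GL (Fin 4) F) (hx : x ^ 3 = 1)
    (hx1 : x ≠ 1) : Matrix.trace (x : M4 F) = 1 ∨ Matrix.trace (x : M4 F) = -2 := by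
  classical
  have hp : p.Prime := Fact.out
  by_cases hp2 : p = 2
  · -- `F = F_2`
    subst hp2
    have h2 : (2 : F) = 0 := by
      have : ((2 : ℕ) : F) = 0 := CharP.cast_eq_zero F 2
      exact_mod_cast this
    have hsq : ∀ a : F, a = 0 ∨ a = 1 := by
      intro a
      have h1 := FiniteField.pow_card a
      rw [hF] at h1
      have h3 : a * (a - 1) = 0 := by linear_combination h1
      rcases mul_eq_zero.mp h3 with h4 | h4
      · exact Or.inl h4
      · exact Or.inr (sub_eq_zero.mp h4)
    rcases hsq (Matrix.trace (x : M4 F)) with h0 | h1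
    · right
      rw [h0, h2, neg_zero]
    · exact Or.inl h1
  have h2 : (2 : F) ≠ 0 := by
    intro h2
    have h2' : ((2 : ℕ) : F) = 0 := by exact_mod_cast h2
    rw [CharP.cast_eq_zero_iff F p] at h2'
    exact hp2 ((Nat.prime_dvd_prime_iff_eq hp Nat.prime_two).mp h2')
  have h3 : (3 : F) ≠ 0 := by
    intro h3
    have h3' : ((3 : ℕ) : F) = 0 := by exact_mod_cast h3
    rw [CharP.cast_eq_zero_iff F p] at h3'
    have : p = 3 := (Nat.prime_dvd_prime_iff_eq hp Nat.prime_three).mp h3'
    omega
  set A : M4 F := (x : M4 F) with hA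
  have hA3 : A ^ 3 = 1 := by
    rw [hA, ← Units.val_pow_eq_pow_val, hx]
    rfl
  -- `tr (A ^ 2) = tr A`
  have htr2 : Matrix.trace (A ^ 2) = Matrix.trace A := by
    have h1 := FiniteField.trace_pow_card A
    rw [FiniteField.pow_card, hF] at h1
    obtain ⟨q, hq⟩ : ∃ q, p = 3 * q + 2 := ⟨p / 3, by omega⟩
    rw [hq, pow_add, pow_mul, hA3, one_pow, one_mul] at h1
    exact h1
  -- the idempotent `E = (1 + A + A²) / 3`
  set E : M4 F := (3 : F)⁻¹ • (1 + A + A ^ 2) with hE
  have hAE : A * (1 + A + A ^ 2) = 1 + A + A ^ 2 := by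
    have : A * (1 + A + A ^ 2) = A + A ^ 2 + A ^ 3 := by
      rw [mul_add, mul_add, mul_one, pow_succ' A 2, pow_two]
    rw [this, hA3]
    abel
  have hAE' : A * E = E := by
    rw [hE, Matrix.mul_smul, hAE]
  have hA2E : A ^ 2 * E = E := by
    rw [pow_two, mul_assoc, hAE', hAE']
  have hEE : E * E = E := by
    have h1 : (1 + A + A ^ 2) * E = (3 : F) • E := by
      rw [add_mul, add_mul, one_mul, hAE', hA2E]
      rw [show (3 : F) = 1 + 1 + 1 by norm_num, add_smul, add_smul, one_smul]
    conv_lhs => rw [hE]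
    rw [Matrix.smul_mul, h1, smul_smul, inv_mul_cancel₀ h3, one_smul]
  have htrE : (3 : F) * Matrix.trace E = 4 + 2 * Matrix.trace A := by
    rw [hE, Matrix.trace_smul, smul_eq_mul, ← mul_assoc, mul_inv_cancel₀ h3, one_mul,
      Matrix.trace_add, Matrix.trace_add, htr2, Matrix.trace_one]
    simp
    ring
  -- the linear maps
  set e : Module.End F (Fin 4 → F) := Matrix.toLin' E with he
  set a : Module.End F (Fin 4 → F) := Matrix.toLin' A with ha
  have hmul : ∀ M N : M4 F, (Matrix.toLin' M : Module.End F (Fin 4 → F)) * Matrix.toLin' N =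
      Matrix.toLin' (M * N) := fun M N => (Matrix.toLin'_mul M N).symm
  have hee : e * e = e := by
    rw [he, hmul, hEE]
  have hae : a * e = e := by
    rw [he, ha, hmul, hAE']
  have hea : e * a = a * e := by
    rw [he, ha, hmul, hmul]
    congr 1
    rw [hE, Matrix.smul_mul, Matrix.mul_smul]
    congr 1
    rw [add_mul, add_mul, mul_add, mul_add, one_mul, mul_one, pow_two, mul_assoc]
  have hproj : LinearMap.IsProj (LinearMap.range e) e := by
    refine ⟨fun v => LinearMap.mem_range_self e v, ?_⟩
    rintro _ ⟨w, rfl⟩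
    have := congrArg (fun f : Module.End F (Fin 4 → F) => f w) hee
    exact this
  have htre : LinearMap.trace F (Fin 4 → F) e = (Module.finrank F (LinearMap.range e) : F) :=
    hproj.trace
  have htre' : LinearMap.trace F (Fin 4 → F) e = Matrix.trace E := by
    rw [he, Matrix.trace_toLin'_eq]
  set m : ℕ := Module.finrank F (LinearMap.range e) with hm
  have hmF : (3 : F) * (m : F) = 4 + 2 * Matrix.trace A := by
    rw [← htre, htre', htrE]
  have hrk : m + Module.finrank F (LinearMap.ker e) = 4 := by
    have := LinearMap.finrank_range_add_finrank_ker e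
    rw [Module.finrank_fintype_fun_eq_card, Fintype.card_fin] at this
    exact this
  -- the restriction of `a` to `ker e`
  have hW : ∀ w ∈ LinearMap.ker e, a w ∈ LinearMap.ker e := by
    intro w hw
    rw [LinearMap.mem_ker] at hw ⊢
    have h1 : e (a w) = (e * a) w := rfl
    rw [h1, hea]
    show a (e w) = 0
    rw [hw, map_zero]
  set f : Module.End F (LinearMap.ker e) := a.restrict hW with hf
  have hS : (1 + A + A ^ 2 : M4 F) = (3 : F) • E := by
    rw [hE, smul_smul, mul_inv_cancel₀ h3, one_smul]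
  have hgf : aeval f (X ^ 2 + X + 1 : F[X]) = 0 := by
    rw [map_add, map_add, map_pow, aeval_X, map_one]
    apply LinearMap.ext
    intro w
    apply Subtype.ext
    have h1 : (((f ^ 2 + f + 1 : Module.End F (LinearMap.ker e)) w : LinearMap.ker e) : Fin 4 → F) =
        a (a (w : Fin 4 → F)) + a (w : Fin 4 → F) + (w : Fin 4 → F) := by
      rw [LinearMap.add_apply, LinearMap.add_apply, pow_two]
      rfl
    rw [h1]
    have h2 : a (a (w : Fin 4 → F)) + a (w : Fin 4 → F) + (w : Fin 4 → F) =
        Matrix.toLin' (1 + A + A ^ 2) (w : Fin 4 → F) := by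
      rw [map_add, map_add, Matrix.toLin'_one, pow_two, Matrix.toLin'_mul]
      simp only [LinearMap.add_apply, LinearMap.id_apply, LinearMap.comp_apply]
      rw [← ha]
      abel
    rw [h2, hS, map_smul, LinearMap.smul_apply]
    have h4 : e (w : Fin 4 → F) = 0 := LinearMap.mem_ker.mp w.2
    rw [← he, h4, smul_zero]
    rfl
  have hirr := irreducible_cyclo3 (F := F) hF hp3
  have hmon : (X ^ 2 + X + 1 : F[X]).Monic := by monicity!
  have hdeg : (X ^ 2 + X + 1 : F[X]).natDegree = 2 := by compute_degree!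
  have heven := (Cfsg.Agent.S5949P.irr_module f (X ^ 2 + X + 1 : F[X]) hirr hmon hgf).1
  rw [hdeg] at heven
  -- `m ≠ 4`
  have hm4 : m ≠ 4 := by
    intro hm4
    have htop : LinearMap.range e = ⊤ := by
      apply Submodule.eq_top_of_finrank_eq
      rw [← hm, hm4, Module.finrank_fintype_fun_eq_card, Fintype.card_fin]
    have he1 : e = 1 := by
      apply LinearMap.ext
      intro v
      exact hproj.map_id v (by rw [htop]; exact Submodule.mem_top)
    have hE1 : E = 1 := by
      apply Matrix.toLin'.injective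
      rw [← he, he1, Matrix.toLin'_one]
      rfl
    have hA1 : A = 1 := by
      have h9 := hAE'
      rw [hE1, mul_one] at h9
      exact h9
    apply hx1
    apply Units.ext
    rw [← hA, hA1]
    rfl
  have hcases : m = 0 ∨ m = 2 := by
    obtain ⟨j, hj⟩ := heven
    omega
  rcases hcases with h0 | h0
  · right
    rw [h0] at hmF
    have h5 : (2 : F) * (Matrix.trace A + 2) = 0 := by
      push_cast at hmF
      linear_combination -hmF
    rcases mul_eq_zero.mp h5 with h6 | h6
    · exact absurd h6 h2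
    · linear_combination h6
  · left
    rw [h0] at hmF
    have h5 : (2 : F) * (Matrix.trace A - 1) = 0 := by
      push_cast at hmF
      linear_combination -hmF
    rcases mul_eq_zero.mp h5 with h6 | h6
    · exact absurd h6 h2
    · linear_combination h6

end Cfsg.Agent.S6000P
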