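import Mathlib
import Cfsg.Prelude.Def_GeometricClasses
import Cfsg.Agent.Helper20.S6000Defs
import Cfsg.Agent.Helper1.S6000CDIMCONJ
import Cfsg.Agent.Helper1.S6000GEN
import Cfsg.Agent.Helper1.S6000SCAL4
import Cfsg.Agent.Helper1.S6000SQRT2
import Cfsg.Agent.Helper14.S6000CENT2
import Cfsg.Agent.Helper14.S6000NONCENT
import Cfsg.Agent.Helper14.S6000TR0
import Cfsg.Agent.Helper17.S6000CONJ3
import Cfsg.Agent.Helper17.S6000LI64
import Cfsg.Agent.Helper17.S6000PDIM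
import Cfsg.Agent.Helper17.S6000SPAN64
import Cfsg.Agent.Helper20.S6000ORB
import Cfsg.Agent.Helper20.S6000SYL5
import Cfsg.Agent.Helper20.S6000TYPE3
import Cfsg.Agent.Helper23.S6000INVCONJ
import Cfsg.Agent.Helper23.S6000INVTRACE
import Cfsg.Agent.Helper26.S6000FIVE
import Cfsg.Agent.Helper26.S6000QUAT
import Cfsg.Agent.Helper26.S6000STRUCT
import Cfsg.Agent.Helper4.S6000CAUCHY64
import Cfsg.Agent.Helper4.S6000CENTCARD64
import Cfsg.Agent.Helper4.S6000NOSEVEN64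
import Cfsg.Agent.Helper4.S6000USP64
import Cfsg.Agent.Helper4.S6000Y5
import Cfsg.Agent.Helper7.S6000D3
import Cfsg.Agent.Helper7.S6000NT3
import Cfsg.Agent.Helper7.S6000ORBA
import Cfsg.Agent.Helper8.S6000REFL
import Cfsg.Agent.Helper8.S6000Y3
import Cfsg.Agent.Helper15.S6002NT5

set_option autoImplicit false
open scoped MatrixGroups Matrix

/-! # S6000: assembly -/

namespace Cfsg.Agent.S6000P

namespace ASM

variable {F : Type*} [Field F]

/-- the scalar matrix `z • 1` as an element of `GL` -/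
noncomputable def scalGL (z : F) (hz : z ≠ 0) : GL (Fin 4) F where
  val := z • (1 : M4 F)
  inv := z⁻¹ • (1 : M4 F)
  val_inv := by
    rw [Matrix.smul_mul, Matrix.mul_smul, Matrix.one_mul, smul_smul, mul_inv_cancel₀ hz, one_smul]
  inv_val := by
    rw [Matrix.smul_mul, Matrix.mul_smul, Matrix.one_mul, smul_smul, inv_mul_cancel₀ hz, one_smul]

theorem coe_scalGL (z : F) (hz : z ≠ 0) : ((scalGL z hz : GL (Fin 4) F) : M4 F) = z • 1 := rfl

theorem coe_scalGL_mul (z : F) (hz : z ≠ 0) (x : GL (Fin 4) F) :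
    ((scalGL z hz * x : GL (Fin 4) F) : M4 F) = z • (x : M4 F) := by
  rw [Units.val_mul, coe_scalGL, Matrix.smul_mul, Matrix.one_mul]

theorem scalGL_mem (R : Subgroup (GL (Fin 4) F)) (z : F) (hz : z ≠ 0) :
    scalGL z hz ∈ Cfsg.Geo.subgroupNormalizer R :=
  scalar_mem_normalizer R (coe_scalGL z hz)

theorem scalGL_comm (z : F) (hz : z ≠ 0) (a : GL (Fin 4) F) : scalGL z hz * a = a * scalGL z hz :=
  gl_comm_of_scalar (coe_scalGL z hz) a

theorem scalGL_mul_inv (z : F) (hz : z ≠ 0) :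
    scalGL z hz * scalGL z⁻¹ (inv_ne_zero hz) = 1 := by
  apply Units.ext
  rw [Units.val_mul, coe_scalGL, coe_scalGL, Matrix.smul_mul, Matrix.one_mul, smul_smul,
    mul_inv_cancel₀ hz, one_smul]
  rfl

/-- `x = w • x'` where `x' = w⁻¹ • x` -/
theorem eq_scal_mul (w : F) (hw : w ≠ 0) (x : GL (Fin 4) F) :
    x = scalGL w hw * (scalGL w⁻¹ (inv_ne_zero hw) * x) := by
  rw [← mul_assoc, scalGL_mul_inv, one_mul]

theorem coe_pow_scal_mul (w : F) (hw : w ≠ 0) (x : GL (Fin 4) F) (n : ℕ) :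
    (((scalGL w hw * x) ^ n : GL (Fin 4) F) : M4 F) = w ^ n • ((x ^ n : GL (Fin 4) F) : M4 F) := by
  rw [Units.val_pow_eq_pow_val, coe_scalGL_mul, _root_.smul_pow, Units.val_pow_eq_pow_val]

theorem conj_scal_mul (w : F) (hw : w ≠ 0) (g x : GL (Fin 4) F) :
    g⁻¹ * (scalGL w hw * x) * g = scalGL w hw * (g⁻¹ * x * g) := by
  rw [← mul_assoc, ← scalGL_comm w hw g⁻¹]
  simp only [mul_assoc]

theorem nonscalar_conj (g x : GL (Fin 4) F) (hns : ∀ z : F, (x : M4 F) ≠ z • (1 : M4 F)) :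
    ∀ z : F, ((g⁻¹ * x * g : GL (Fin 4) F) : M4 F) ≠ z • (1 : M4 F) := by
  intro z hz
  apply hns z
  have h1 : x = g * (g⁻¹ * x * g) * g⁻¹ := by group
  rw [h1, ← gl_comm_of_scalar hz g, mul_assoc, mul_inv_cancel, mul_one]
  exact hz

theorem nonscalar_scal_mul (w : F) (hw : w ≠ 0) (x : GL (Fin 4) F)
    (hns : ∀ z : F, (x : M4 F) ≠ z • (1 : M4 F)) :
    ∀ z : F, ((scalGL w hw * x : GL (Fin 4) F) : M4 F) ≠ z • (1 : M4 F) := by
  intro z hz
  apply hns (w⁻¹ * z)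
  rw [coe_scalGL_mul] at hz
  rw [mul_smul, ← hz, smul_smul, inv_mul_cancel₀ hw, one_smul]

theorem conj_pow' (g x : GL (Fin 4) F) (n : ℕ) : (g⁻¹ * x * g) ^ n = g⁻¹ * x ^ n * g := by
  have h := conj_pow (a := g⁻¹) (b := x) (i := n)
  rw [inv_inv] at h
  exact h

theorem ne_one_of_nonscalar (x : GL (Fin 4) F) (hns : ∀ z : F, (x : M4 F) ≠ z • (1 : M4 F)) :
    x ≠ 1 := by
  intro h
  apply hns 1
  rw [h, one_smul]
  rfl

theorem scalar_ne_zero (x : GL (Fin 4) F) (z : F) (hz : (x : M4 F) = z • (1 : M4 F)) : z ≠ 0 := by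
  intro h0
  have h1 : (x : M4 F) * ((x⁻¹ : GL (Fin 4) F) : M4 F) = 1 := by
    rw [← Units.val_mul, mul_inv_cancel]; rfl
  rw [hz, h0, zero_smul, zero_mul] at h1
  have h2 := congrFun (congrFun h1 0) 0
  simp at h2

theorem trace_one4 : Matrix.trace (1 : M4 F) = 4 := by
  rw [Matrix.trace_one]
  simp

end ASM

open ASM

/-! ## r = 2 -/

theorem conj_of_two {F : Type*} [Field F] {R : Subgroup (GL (Fin 4) F)} {ι : F} (h : Hyp64 R ι)
    (x : GL (Fin 4) F) (hx : x ∈ Cfsg.Geo.specialLinear (Fin 4) F) (z : F)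
    (hz : ((x ^ 2 : GL (Fin 4) F) : M4 F) = z • (1 : M4 F))
    (hns : ∀ z : F, (x : M4 F) ≠ z • (1 : M4 F)) :
    ∃ g ∈ Cfsg.Geo.specialLinear (Fin 4) F, g⁻¹ * x * g ∈ Cfsg.Geo.subgroupNormalizer R := by
  obtain ⟨w, hw⟩ := exists_sqrt_of_sq_scalar ι h.iota_sq x hx z hz
  have hz0 : z ≠ 0 := scalar_ne_zero _ z hz
  have hw0 : w ≠ 0 := by
    rintro rfl
    apply hz0
    rw [← hw, mul_zero]
  have hwi0 : w⁻¹ ≠ 0 := inv_ne_zero hw0
  set τ : GL (Fin 4) F := scalGL w⁻¹ hwi0 * x with hτ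
  have hxτ : x = scalGL w hw0 * τ := eq_scal_mul w hw0 x
  have hττ : τ * τ = 1 := by
    apply Units.ext
    rw [← pow_two, hτ, coe_pow_scal_mul, hz, smul_smul, ← hw]
    have : w⁻¹ ^ 2 * (w * w) = 1 := by field_simp
    rw [this, one_smul]
    rfl
  have hτns : ∀ c : F, (τ : M4 F) ≠ c • (1 : M4 F) := nonscalar_scal_mul _ hwi0 x hns
  -- a model `m ∈ N` with the same trace
  have hmodel : ∃ m ∈ Cfsg.Geo.subgroupNormalizer R, m * m = 1 ∧
      (∀ c : F, (m : M4 F) ≠ c • (1 : M4 F)) ∧ Matrix.trace (τ : M4 F) = Matrix.trace (m : M4 F) := by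
    obtain ⟨ρ, hρN, hρ2, hρtr, hρns⟩ := exists_refl h
    rcases trace_of_invol h.two_ne τ hττ hτns with ht | ht | ht
    · exact ⟨ρ, hρN, hρ2, hρns, by rw [ht, hρtr]⟩
    · obtain ⟨a, b, ha, hb, haa, hbb, hab, hans, hbns, habns⟩ := exists_comm_invol h
      exact ⟨a, le_normalizer' R ha, haa, hans, by rw [ht, trace_eq_zero h a ha hans]⟩
    · refine ⟨-ρ, ?_, ?_, ?_, ?_⟩
      · have h1 : (-ρ : GL (Fin 4) F) = (-1) * ρ := by rw [neg_one_mul]
        rw [h1]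
        apply Subgroup.mul_mem _ _ hρN
        apply scalar_mem_normalizer R (z := -1)
        rw [coe_neg_one, neg_smul, one_smul]
      · rw [neg_mul_neg, hρ2]
      · intro c hc
        apply hρns (-c)
        rw [coe_neg] at hc
        rw [neg_smul, ← hc, neg_neg]
      · rw [ht, coe_neg, Matrix.trace_neg, hρtr]
  obtain ⟨m, hmN, hmm, hmns, htr⟩ := hmodel
  obtain ⟨g, hgS, hg⟩ := INVCONJ23.invol_conj_sl h.two_ne τ m hττ hmm hτns hmns htr
  refine ⟨g, hgS, ?_⟩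
  rw [hxτ, conj_scal_mul, hg]
  exact Subgroup.mul_mem _ (scalGL_mem R w hw0) hmN

/-! ## r = 3 -/

theorem conj_of_three {F : Type*} [Field F] [Fintype F] {p : ℕ} [Fact p.Prime] [CharP F p]
    {R : Subgroup (GL (Fin 4) F)} {ι : F} (h : Hyp64 R ι)
    (hF : Fintype.card F = p) (hp3 : p % 3 = 2) (hp2 : p ≠ 2) (h3 : (3 : F) ≠ 0)
    (x : GL (Fin 4) F) (z : F)
    (hz : ((x ^ 3 : GL (Fin 4) F) : M4 F) = z • (1 : M4 F))
    (hns : ∀ z : F, (x : M4 F) ≠ z • (1 : M4 F)) :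
    ∃ g ∈ Cfsg.Geo.specialLinear (Fin 4) F, g⁻¹ * x * g ∈ Cfsg.Geo.subgroupNormalizer R := by
  obtain ⟨w, hw⟩ := cube_surjective hF hp3 z
  have hz0 : z ≠ 0 := scalar_ne_zero _ z hz
  have hw0 : w ≠ 0 := by
    rintro rfl
    apply hz0
    rw [← hw]
    simp
  have hwi0 : w⁻¹ ≠ 0 := inv_ne_zero hw0
  set x' : GL (Fin 4) F := scalGL w⁻¹ hwi0 * x with hx'
  have hxx' : x = scalGL w hw0 * x' := eq_scal_mul w hw0 x
  have hx'3 : x' ^ 3 = 1 := by
    apply Units.ext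
    rw [hx', coe_pow_scal_mul, hz, smul_smul, ← hw]
    have : w⁻¹ ^ 3 * w ^ 3 = 1 := by field_simp
    rw [this, one_smul]
    rfl
  have hx'ns : ∀ c : F, (x' : M4 F) ≠ c • (1 : M4 F) := nonscalar_scal_mul _ hwi0 x hns
  have hx'1 : x' ≠ 1 := ne_one_of_nonscalar x' hx'ns
  obtain ⟨yA, yB, hAN, hBN, hA3, hB3, hAtr, hBtr⟩ := exists_y3 h
  have hA1 : yA ≠ 1 := by
    intro e
    rw [e] at hAtr
    have h4 : ((1 : GL (Fin 4) F) : M4 F) = 1 := rfl
    rw [h4, trace_one4] at hAtr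
    apply h3
    linear_combination hAtr
  have hB1 : yB ≠ 1 := by
    intro e
    rw [e] at hBtr
    have h4 : ((1 : GL (Fin 4) F) : M4 F) = 1 := rfl
    rw [h4, trace_one4] at hBtr
    have h6 : (2 : F) * 3 = 0 := by linear_combination hBtr
    rcases mul_eq_zero.mp h6 with h' | h'
    · exact h.two_ne h'
    · exact h3 h'
  have hmodel : ∃ y ∈ Cfsg.Geo.subgroupNormalizer R, y ^ 3 = 1 ∧ y ≠ 1 ∧
      Matrix.trace (x' : M4 F) = Matrix.trace (y : M4 F) := by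
    rcases trace_of_cube hF hp3 x' hx'3 hx'1 with ht | ht
    · exact ⟨yA, hAN, hA3, hA1, by rw [ht, hAtr]⟩
    · exact ⟨yB, hBN, hB3, hB1, by rw [ht, hBtr]⟩
  obtain ⟨y, hyN, hy3, hy1, htr⟩ := hmodel
  obtain ⟨g, hgS, hg⟩ := cube_conj_sl hF hp3 hp2 x' y hx'3 hy3 hx'1 hy1 htr
  refine ⟨g, hgS, ?_⟩
  rw [hxx', conj_scal_mul, hg]
  exact Subgroup.mul_mem _ (scalGL_mem R w hw0) hyN

/-! ## r = 5 -/

theorem mem_sl_of_pow_five {F : Type*} [Field F] (hinj : ∀ w : F, w ^ 5 = 1 → w = 1)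
    (x : GL (Fin 4) F) (hx : x ^ 5 = 1) : x ∈ Cfsg.Geo.specialLinear (Fin 4) F := by
  rw [mem_specialLinear_iff]
  apply hinj
  rw [← Matrix.det_pow, ← Units.val_pow_eq_pow_val, hx]
  simp

theorem conj_of_five {F : Type*} [Field F] [Fintype F] {p : ℕ} [Fact p.Prime] [CharP F p]
    {R : Subgroup (GL (Fin 4) F)} {ι : F} (h : Hyp64 R ι)
    (hF : Fintype.card F = p) (hord : orderOf (p : ZMod 5) = 4)
    (x : GL (Fin 4) F) (z : F)
    (hz : ((x ^ 5 : GL (Fin 4) F) : M4 F) = z • (1 : M4 F))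
    (hns : ∀ z : F, (x : M4 F) ≠ z • (1 : M4 F)) :
    ∃ g ∈ Cfsg.Geo.specialLinear (Fin 4) F, g⁻¹ * x * g ∈ Cfsg.Geo.subgroupNormalizer R := by
  obtain ⟨hsurj, hinj⟩ := fifth_bijective hF hord
  obtain ⟨w, hw⟩ := hsurj z
  have hz0 : z ≠ 0 := scalar_ne_zero _ z hz
  have hw0 : w ≠ 0 := by
    rintro rfl
    apply hz0
    rw [← hw]
    simp
  have hwi0 : w⁻¹ ≠ 0 := inv_ne_zero hw0
  set x' : GL (Fin 4) F := scalGL w⁻¹ hwi0 * x with hx'
  have hxx' : x = scalGL w hw0 * x' := eq_scal_mul w hw0 x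
  have hx'5 : x' ^ 5 = 1 := by
    apply Units.ext
    rw [hx', coe_pow_scal_mul, hz, smul_smul, ← hw]
    have : w⁻¹ ^ 5 * w ^ 5 = 1 := by field_simp
    rw [this, one_smul]
    rfl
  have hx'ns : ∀ c : F, (x' : M4 F) ≠ c • (1 : M4 F) := nonscalar_scal_mul _ hwi0 x hns
  have hx'1 : x' ≠ 1 := ne_one_of_nonscalar x' hx'ns
  obtain ⟨y, hyN, ⟨c, hc⟩, hyns⟩ := exists_y5 h
  have hc0 : c ≠ 0 := scalar_ne_zero _ c hc
  obtain ⟨u, hu⟩ := hsurj c⁻¹
  have hu0 : u ≠ 0 := by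
    rintro rfl
    apply inv_ne_zero hc0
    rw [← hu]
    simp
  set y' : GL (Fin 4) F := scalGL u hu0 * y with hy'
  have hy'5 : y' ^ 5 = 1 := by
    apply Units.ext
    rw [hy', coe_pow_scal_mul, hc, smul_smul, hu, inv_mul_cancel₀ hc0, one_smul]
    rfl
  have hy'ns : ∀ c : F, (y' : M4 F) ≠ c • (1 : M4 F) := nonscalar_scal_mul _ hu0 y hyns
  have hy'1 : y' ≠ 1 := ne_one_of_nonscalar y' hy'ns
  have hy'N : y' ∈ Cfsg.Geo.subgroupNormalizer R :=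
    Subgroup.mul_mem _ (scalGL_mem R u hu0) hyN
  obtain ⟨g, hgS, k, hg⟩ := conj_pow_of_five hF hord x' y' (mem_sl_of_pow_five hinj x' hx'5)
    (mem_sl_of_pow_five hinj y' hy'5) hx'5 hx'1 hy'5 hy'1
  refine ⟨g, hgS, ?_⟩
  rw [hxx', conj_scal_mul, hg]
  exact Subgroup.mul_mem _ (scalGL_mem R w hw0) (Subgroup.pow_mem _ hy'N k)

/-! ## the converse -/

/-- the hypothesis "every nonscalar `x ∈ S` with `x ^ r` scalar is `S`-conjugate into `N`" -/
def AllConj {F : Type*} [Field F] (R : Subgroup (GL (Fin 4) F)) (r : ℕ) : Prop :=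
  ∀ x ∈ Cfsg.Geo.specialLinear (Fin 4) F,
    (∃ z : F, ((x ^ r : GL (Fin 4) F) : M4 F) = z • (1 : M4 F)) →
    (∀ z : F, (x : M4 F) ≠ z • (1 : M4 F)) →
    ∃ g ∈ Cfsg.Geo.specialLinear (Fin 4) F, g⁻¹ * x * g ∈ Cfsg.Geo.subgroupNormalizer R

/-- from `x ∈ S` with `x ^ r = 1` nonscalar and the hypothesis: `y ∈ N` with the same properties
and the same commutant dimension -/
theorem exists_in_N {F : Type*} [Field F] {R : Subgroup (GL (Fin 4) F)} {r : ℕ}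
    (hL : AllConj R r) (x : GL (Fin 4) F) (hx : x ∈ Cfsg.Geo.specialLinear (Fin 4) F)
    (hxr : ((x ^ r : GL (Fin 4) F) : M4 F) = 1) (hns : ∀ z : F, (x : M4 F) ≠ z • (1 : M4 F)) :
    ∃ y ∈ Cfsg.Geo.subgroupNormalizer R,
      (∃ z : F, ((y ^ r : GL (Fin 4) F) : M4 F) = z • (1 : M4 F)) ∧
      (∀ z : F, (y : M4 F) ≠ z • (1 : M4 F)) ∧ cdim (y : M4 F) = cdim (x : M4 F) := by
  obtain ⟨g, hgS, hgN⟩ := hL x hx ⟨1, by rw [hxr, one_smul]⟩ hns
  refine ⟨g⁻¹ * x * g, hgN, ⟨1, ?_⟩, nonscalar_conj g x hns, cdim_conj g x⟩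
  have hx1 : x ^ r = 1 := Units.ext hxr
  rw [conj_pow', hx1, mul_one, inv_mul_cancel, one_smul]
  rfl

theorem prime_cases_of_modEq (r : ℕ) (hr : r.Prime) (hr2 : r ≠ 2) (k : ℕ) (hk2 : 2 ≤ k)
    (hk5 : k ≤ 5) (hmod : 64 ≡ 2 ^ k [MOD r]) :
    (r = 3 ∧ (k = 2 ∨ k = 4)) ∨ (r = 5 ∧ k = 2) ∨ (r = 7 ∧ k = 3) := by
  have hle : 2 ^ k ≤ 64 := by
    calc 2 ^ k ≤ 2 ^ 5 := Nat.pow_le_pow_right (by norm_num) hk5
      _ ≤ 64 := by norm_num
  have hdvd : r ∣ 64 - 2 ^ k := (Nat.modEq_iff_dvd' hle).mp hmod.symm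
  have hodd : ¬ r ∣ 2 := by
    intro h
    exact hr2 ((Nat.prime_dvd_prime_iff_eq hr Nat.prime_two).mp h)
  interval_cases k
  · -- 60 = 2 * 2 * 3 * 5
    have h60 : r ∣ 2 * (2 * (3 * 5)) := by simpa using hdvd
    rcases (Nat.Prime.dvd_mul hr).mp h60 with h | h
    · exact absurd h hodd
    rcases (Nat.Prime.dvd_mul hr).mp h with h | h
    · exact absurd h hodd
    rcases (Nat.Prime.dvd_mul hr).mp h with h | h
    · left
      exact ⟨(Nat.prime_dvd_prime_iff_eq hr Nat.prime_three).mp h, Or.inl rfl⟩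
    · right; left
      exact ⟨(Nat.prime_dvd_prime_iff_eq hr Nat.prime_five).mp h, rfl⟩
  · -- 56 = 2 * 2 * 2 * 7
    have h56 : r ∣ 2 * (2 * (2 * 7)) := by simpa using hdvd
    rcases (Nat.Prime.dvd_mul hr).mp h56 with h | h
    · exact absurd h hodd
    rcases (Nat.Prime.dvd_mul hr).mp h with h | h
    · exact absurd h hodd
    rcases (Nat.Prime.dvd_mul hr).mp h with h | h
    · exact absurd h hodd
    · right; right
      exact ⟨(Nat.prime_dvd_prime_iff_eq hr (by norm_num)).mp h, rfl⟩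
  · -- 48 = 2 * 2 * 2 * 2 * 3
    have h48 : r ∣ 2 * (2 * (2 * (2 * 3))) := by simpa using hdvd
    rcases (Nat.Prime.dvd_mul hr).mp h48 with h | h
    · exact absurd h hodd
    rcases (Nat.Prime.dvd_mul hr).mp h with h | h
    · exact absurd h hodd
    rcases (Nat.Prime.dvd_mul hr).mp h with h | h
    · exact absurd h hodd
    rcases (Nat.Prime.dvd_mul hr).mp h with h | h
    · exact absurd h hodd
    · left
      exact ⟨(Nat.prime_dvd_prime_iff_eq hr Nat.prime_three).mp h, Or.inr rfl⟩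
  · -- 32 = 2 ^ 5
    have h32 : r ∣ 2 ^ 5 := by simpa using hdvd
    exact absurd (Nat.Prime.dvd_of_dvd_pow hr h32) hodd

/-- the commutant of an element of `N` of odd prime order `r` modulo scalars is small -/
theorem cdim_bound {F : Type*} [Field F] {R : Subgroup (GL (Fin 4) F)} {ι : F} (h : Hyp64 R ι)
    (y : GL (Fin 4) F) (hy : y ∈ Cfsg.Geo.subgroupNormalizer R) (r : ℕ) [Fact r.Prime]
    (hr2 : r ≠ 2)
    (hyr : ∃ z : F, ((y ^ r : GL (Fin 4) F) : M4 F) = z • (1 : M4 F))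
    (hns : ∀ z : F, (y : M4 F) ≠ z • (1 : M4 F)) :
    ∃ k : ℕ, ((r = 3 ∧ (k = 2 ∨ k = 4)) ∨ (r = 5 ∧ k = 2) ∨ (r = 7 ∧ k = 3)) ∧
      Nat.card {a : GL (Fin 4) F // a ∈ R ∧ y * a * y⁻¹ = a} = 2 ^ k ∧
      r * cdim (y : M4 F) ≤ 16 + (r - 1) * 2 ^ (k - 2) := by
  obtain ⟨k, hk2, hk5, hcard, hmod⟩ := card_cent h y hy r hyr hns
  refine ⟨k, prime_cases_of_modEq r Fact.out hr2 k hk2 hk5 hmod, hcard, ?_⟩
  obtain ⟨n0, b, hn0, hb, hcov⟩ := exists_orbit_reps h y hy r hr2 hyr k hk2 hcard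
  have hle := cdim_le_of_reps h y n0 b hcov
  rw [← hn0]
  exact Nat.mul_le_mul_left r hle

theorem rhs_of_allConj {F : Type*} [Field F] [Fintype F] {p : ℕ} [Fact p.Prime] [CharP F p]
    {R : Subgroup (GL (Fin 4) F)} {ι : F} (h : Hyp64 R ι)
    (hF : Fintype.card F = p) (hp4 : p % 4 = 1) (r : ℕ) [Fact r.Prime]
    (hΩ : r ∣ (Cfsg.Geo.subgroupNormalizer R).relIndex (Cfsg.Geo.specialLinear (Fin 4) F))
    (hL : AllConj R r) :
    r = 2 ∨ (r = 3 ∧ p % 3 = 2) ∨ (r = 5 ∧ orderOf (p : ZMod 5) = 4) := by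
  by_cases hr2 : r = 2
  · exact Or.inl hr2
  right
  obtain ⟨x0, hx0S, hx0r, hx0ns⟩ := exists_elt_of_dvd R r hr2 hΩ
  obtain ⟨y0, hy0N, hy0r, hy0ns, -⟩ := exists_in_N hL x0 hx0S hx0r hx0ns
  obtain ⟨k, hcases, hcard, -⟩ := cdim_bound h y0 hy0N r hr2 hy0r hy0ns
  rcases hcases with ⟨hr3, -⟩ | ⟨hr5, -⟩ | ⟨hr7, hk3⟩
  · -- r = 3
    left
    refine ⟨hr3, ?_⟩
    subst hr3
    by_contra hp3
    have hp : p.Prime := Fact.out
    have hp3' : p % 3 = 1 := by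
      have h0 : p % 3 ≠ 0 := by
        intro h0
        have h3p : 3 ∣ p := Nat.dvd_of_mod_eq_zero h0
        have : 3 = p := (Nat.prime_dvd_prime_iff_eq Nat.prime_three hp).mp h3p
        omega
      omega
    obtain ⟨h3, ω, hω⟩ := exists_omega hF hp3'
    obtain ⟨x3, hx3S, hx33, hx3ns, hx3c⟩ := exists_x3 ω hω h3
    obtain ⟨y3, hy3N, hy3r, hy3ns, hy3c⟩ := exists_in_N hL x3 hx3S hx33 hx3ns
    obtain ⟨k', hcases', -, hbound⟩ := cdim_bound h y3 hy3N 3 hr2 hy3r hy3ns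
    rw [hy3c] at hbound
    rcases hcases' with ⟨-, hk' | hk'⟩ | ⟨h35, -⟩ | ⟨h37, -⟩
    · subst hk'
      norm_num at hbound
      omega
    · subst hk'
      norm_num at hbound
      omega
    · omega
    · omega
  · -- r = 5
    right
    refine ⟨hr5, ?_⟩
    subst hr5
    by_contra hord
    have hodd : Odd p := by
      rw [Nat.odd_iff]
      omega
    obtain ⟨t, ht⟩ := Cfsg.Agent.S6002P.exists_root_of_ord_ne_four hF hodd hord
    obtain ⟨x5, hx5S, hx55, hx5ns, hx5c⟩ := exists_x5 t ht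
    obtain ⟨y5, hy5N, hy5r, hy5ns, hy5c⟩ := exists_in_N hL x5 hx5S hx55 hx5ns
    obtain ⟨k', hcases', -, hbound⟩ := cdim_bound h y5 hy5N 5 hr2 hy5r hy5ns
    rw [hy5c] at hbound
    rcases hcases' with ⟨h53, -⟩ | ⟨-, hk'⟩ | ⟨h57, -⟩
    · omega
    · subst hk'
      norm_num at hbound
      omega
    · omega
  · -- r = 7
    exfalso
    subst hr7
    subst hk3
    exact not_card_cent_eight h y0 hy0N hy0r (by rw [hcard]; norm_num)

/-- S6000 under the element-level hypothesis `Hyp64` -/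
theorem main_iff {F : Type*} [Field F] [Fintype F] {p : ℕ} [Fact p.Prime] [CharP F p]
    {R : Subgroup (GL (Fin 4) F)} {ι : F} (h : Hyp64 R ι)
    (hF : Fintype.card F = p) (hp4 : p % 4 = 1) (r : ℕ) [Fact r.Prime]
    (hΩ : r ∣ (Cfsg.Geo.subgroupNormalizer R).relIndex (Cfsg.Geo.specialLinear (Fin 4) F)) :
    AllConj R r ↔ (r = 2 ∨ (r = 3 ∧ p % 3 = 2) ∨ (r = 5 ∧ orderOf (p : ZMod 5) = 4)) := by
  have hp : p.Prime := Fact.out
  constructor
  · exact rhs_of_allConj h hF hp4 r hΩ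
  · rintro (hr | ⟨hr, hp3⟩ | ⟨hr, hord⟩)
    · subst hr
      intro x hx ⟨z, hz⟩ hns
      exact conj_of_two h x hx z hz hns
    · subst hr
      intro x hx ⟨z, hz⟩ hns
      have hp2 : p ≠ 2 := by
        rintro rfl
        omega
      have h3 : (3 : F) ≠ 0 := by
        intro h3
        have h3' : ((3 : ℕ) : F) = 0 := by exact_mod_cast h3
        rw [CharP.cast_eq_zero_iff F p] at h3'
        have : p = 3 := (Nat.prime_dvd_prime_iff_eq hp Nat.prime_three).mp h3'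
        omega
      exact conj_of_three h hF hp3 hp2 h3 x z hz hns
    · subst hr
      intro x hx ⟨z, hz⟩ hns
      exact conj_of_five h hF hord x z hz hns

/-- the final form -/
theorem main {F : Type*} [Field F] [Fintype F] {p : ℕ} [Fact p.Prime] [CharP F p]
    (hF : Fintype.card F = p) (hp4 : p % 4 = 1)
    (R : Subgroup (GL (Fin 4) F)) (hR : Cfsg.Geo.IsLinearSymplecticTypeData 2 R)
    (hR6 : Nat.card R = 2 ^ 6) (r : ℕ) [Fact r.Prime]
    (hΩ : r ∣ (Cfsg.Geo.subgroupNormalizer R).relIndex (Cfsg.Geo.specialLinear (Fin 4) F)) :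
    AllConj R r ↔ (r = 2 ∨ (r = 3 ∧ p % 3 = 2) ∨ (r = 5 ∧ orderOf (p : ZMod 5) = 4)) := by
  have hp : p.Prime := Fact.out
  have h2 : (2 : F) ≠ 0 := by
    intro h2
    have h2' : ((2 : ℕ) : F) = 0 := by exact_mod_cast h2
    rw [CharP.cast_eq_zero_iff F p] at h2'
    have : p = 2 := (Nat.prime_dvd_prime_iff_eq hp Nat.prime_two).mp h2'
    omega
  have hRZ : Nat.card (Subgroup.center R) = 4 := by
    obtain ⟨p', e, -, -, hcases⟩ := hR.field
    rcases hcases with ⟨hodd, -⟩ | ⟨-, -, hc, -⟩ | ⟨-, -, hcard, -⟩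
    · exact absurd hodd (by decide)
    · exact hc
    · simp at hcard
  obtain ⟨ι, h⟩ := hyp64_of_hyps h2 R hR.symplecticType hR.absIrred hR6 hRZ
  exact main_iff h hF hp4 r hΩ

end Cfsg.Agent.S6000P
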