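import Mathlib
import Cfsg.Prelude.Def_GeometricClasses
import Cfsg.Prelude.Def_Classical
import Cfsg.Prelude.Def_LieClassical
import Cfsg.Agent.Helper20.S6000Defs
import Cfsg.Agent.Helper28.S6001Defs

set_option autoImplicit false
open scoped MatrixGroups Matrix

/-! # S6001 piece SIMIL: an element of `N(R)`, `R ≤ GU` absolutely irreducible, is a unitary similitude. -/

namespace Cfsg.Agent.S6001P

open Cfsg.Agent.S6000P

/-- SIMIL -/
theorem similitude_of_normalizer {F : Type*} [Field F] [Fintype F] {p : ℕ} [Fact p.Prime]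
    [CharP F p] (hF : Fintype.card F = p ^ 2) {R : Subgroup (GL (Fin 4) F)} {ι : F}
    (h : Hyp64 R ι) (hRU : R ≤ Cfsg.GU 4 F p) (y : GL (Fin 4) F)
    (hy : y ∈ Cfsg.Geo.subgroupNormalizer R) :
    ∃ c : F, c ≠ 0 ∧ c ^ p = c ∧ dag p (y : M4 F) * (y : M4 F) = c • (1 : M4 F) := by
  set M : M4 F := dag p (y : M4 F) * (y : M4 F) with hM
  have hcomm : ∀ a ∈ R, M * (a : M4 F) = (a : M4 F) * M := by
    intro a ha
    have ha' : y * a * y⁻¹ ∈ R := ((mem_normalizer_iff' R y).mp hy a).mp ha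
    have hau := hRU ha
    have ha'u := hRU ha'
    -- `y a = a' y`
    have h1 : (y : M4 F) * (a : M4 F) = ((y * a * y⁻¹ : GL (Fin 4) F) : M4 F) * (y : M4 F) := by
      rw [← Units.val_mul, ← Units.val_mul]
      congr 1
      group
    -- take `dag`
    have h2 := congrArg (dag p) h1
    rw [dag_mul, dag_mul, dag_eq_inv p hau, dag_eq_inv p ha'u] at h2
    -- `a⁻¹ * dag y = dag y * a'⁻¹`, so `dag y * a' = a * dag y`
    have h3 : dag p (y : M4 F) * ((y * a * y⁻¹ : GL (Fin 4) F) : M4 F) =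
        (a : M4 F) * dag p (y : M4 F) := by
      have h4 : (a : M4 F) * (((a⁻¹ : GL (Fin 4) F) : M4 F) * dag p (y : M4 F)) *
          ((y * a * y⁻¹ : GL (Fin 4) F) : M4 F) =
          (a : M4 F) * (dag p (y : M4 F) * (((y * a * y⁻¹)⁻¹ : GL (Fin 4) F) : M4 F)) *
          ((y * a * y⁻¹ : GL (Fin 4) F) : M4 F) := by rw [h2]
      have h5 : (a : M4 F) * ((a⁻¹ : GL (Fin 4) F) : M4 F) = 1 := by
        rw [← Units.val_mul, mul_inv_cancel]; rfl
      have h6 : (((y * a * y⁻¹)⁻¹ : GL (Fin 4) F) : M4 F) * ((y * a * y⁻¹ : GL (Fin 4) F) : M4 F) = 1 := by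
        rw [← Units.val_mul, inv_mul_cancel]; rfl
      rw [← mul_assoc, h5, one_mul] at h4
      rw [mul_assoc (a : M4 F), mul_assoc (dag p (y : M4 F)), h6, mul_one] at h4
      exact h4
    rw [hM, mul_assoc, h1, ← mul_assoc, h3, mul_assoc]
  obtain ⟨c, hc⟩ := h.scalar_of_commute M hcomm
  refine ⟨c, ?_, ?_, hc⟩
  · rintro rfl
    rw [zero_smul] at hc
    have h1 : (y : M4 F) * ((y⁻¹ : GL (Fin 4) F) : M4 F) = 1 := by
      rw [← Units.val_mul, mul_inv_cancel]; rfl
    have h2 : dag p (y : M4 F) = 0 := by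
      have : M * ((y⁻¹ : GL (Fin 4) F) : M4 F) = 0 := by rw [hc, zero_mul]
      rw [hM, mul_assoc, h1, mul_one] at this
      exact this
    have h3 : (y : M4 F) = 0 := by
      rw [← dag_dag p hF (y : M4 F), h2, dag_zero]
    rw [h3, zero_mul] at h1
    have h4 := congrFun (congrFun h1 0) 0
    simp at h4
  · have h1 : dag p M = M := by
      rw [hM, dag_mul, dag_dag p hF]
    rw [hc, dag_smul, dag_one] at h1
    have h2 := congrFun (congrFun h1 0) 0
    simpa using h2

end Cfsg.Agent.S6001P
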