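import Mathlib
import Cfsg.Prelude.Def_GeometricClasses
import Cfsg.Prelude.Def_Classical
import Cfsg.Prelude.Def_LieClassical
import Cfsg.Agent.Helper20.S6000Defs
import Cfsg.Agent.Helper28.S6001Defs
import Cfsg.Agent.Helper20.S6001SIMIL
import Cfsg.Agent.Helper8.S6000REFL

set_option autoImplicit false
open scoped MatrixGroups Matrix

/-! # S6001 piece REFLU: the reflection `ρ ∈ N(R)` of S6000 REFL is unitary. -/

namespace Cfsg.Agent.S6001P

open Cfsg.Agent.S6000P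

/-- REFLU -/
theorem exists_refl_u {F : Type*} [Field F] [Fintype F] {p : ℕ} [Fact p.Prime] [CharP F p]
    (hF : Fintype.card F = p ^ 2) {R : Subgroup (GL (Fin 4) F)} {ι : F} (h : Hyp64 R ι)
    (hRU : R ≤ Cfsg.GU 4 F p) :
    ∃ ρ ∈ Cfsg.Geo.subgroupNormalizer R, ρ ∈ Cfsg.GU 4 F p ∧ ρ * ρ = 1 ∧
      Matrix.trace (ρ : M4 F) = 2 ∧ ∀ z : F, (ρ : M4 F) ≠ z • (1 : M4 F) := by
  obtain ⟨ρ, hρN, hρ2, hρtr, hρns⟩ := exists_refl h
  refine ⟨ρ, hρN, ?_, hρ2, hρtr, hρns⟩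
  obtain ⟨c, hc0, hcp, hc⟩ := similitude_of_normalizer hF h hRU ρ hρN
  have hρρ : (ρ : M4 F) * (ρ : M4 F) = 1 := by
    rw [← Units.val_mul, hρ2]; rfl
  -- `dag ρ = c • ρ`
  have h1 : dag p (ρ : M4 F) = c • (ρ : M4 F) := by
    have : dag p (ρ : M4 F) * (ρ : M4 F) * (ρ : M4 F) = c • (1 : M4 F) * (ρ : M4 F) := by rw [hc]
    rw [mul_assoc, hρρ, mul_one, Matrix.smul_mul, Matrix.one_mul] at this
    exact this
  have h2 := congrArg Matrix.trace h1
  rw [trace_dag, Matrix.trace_smul, hρtr, smul_eq_mul] at h2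
  have h2p : (2 : F) ^ p = 2 := by
    have : ((2 : ℕ) : F) ^ p = ((2 : ℕ) : F) := by
      rw [← frobenius_def, map_natCast]
    exact_mod_cast this
  rw [h2p] at h2
  have hc1 : c = 1 := by
    have h3 : (2 : F) * (c - 1) = 0 := by linear_combination -h2
    rcases mul_eq_zero.mp h3 with h4 | h4
    · exact absurd h4 h.two_ne
    · exact sub_eq_zero.mp h4
  rw [mem_GU_iff_dag, hc, hc1, one_smul]

end Cfsg.Agent.S6001P
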