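import Mathlib
import Cfsg.Prelude.Def_GeometricClasses
import Cfsg.Prelude.Def_Classical
import Cfsg.Prelude.Def_LieClassical
import Cfsg.Agent.Helper20.S6000Defs
import Cfsg.Agent.Helper28.S6001Defs
import Cfsg.Agent.Helper28.Norm
import Cfsg.Agent.Helper20.S6001SIMIL

set_option autoImplicit false
open scoped MatrixGroups Matrix

/-! # S6001 piece SIMILU: every element of `N(R)` is a scalar multiple of a unitary element of `N(R)`. -/

namespace Cfsg.Agent.S6001P

open Cfsg.Agent.S6000P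

namespace SIMILU

variable {F : Type*} [Field F]

/-- the scalar matrix `z • 1` as an element of `GL` -/
noncomputable def scal (z : F) (hz : z ≠ 0) : GL (Fin 4) F where
  val := z • (1 : M4 F)
  inv := z⁻¹ • (1 : M4 F)
  val_inv := by
    rw [Matrix.smul_mul, Matrix.mul_smul, Matrix.one_mul, smul_smul, mul_inv_cancel₀ hz, one_smul]
  inv_val := by
    rw [Matrix.smul_mul, Matrix.mul_smul, Matrix.one_mul, smul_smul, inv_mul_cancel₀ hz, one_smul]

theorem coe_scal (z : F) (hz : z ≠ 0) : ((scal z hz : GL (Fin 4) F) : M4 F) = z • 1 := rfl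

theorem coe_scal_mul (z : F) (hz : z ≠ 0) (x : GL (Fin 4) F) :
    ((scal z hz * x : GL (Fin 4) F) : M4 F) = z • (x : M4 F) := by
  rw [Units.val_mul, coe_scal, Matrix.smul_mul, Matrix.one_mul]

end SIMILU

open SIMILU in
/-- SIMILU -/
theorem exists_unitary_multiple {F : Type*} [Field F] [Fintype F] {p : ℕ} [Fact p.Prime]
    [CharP F p] (hF : Fintype.card F = p ^ 2) {R : Subgroup (GL (Fin 4) F)} {ι : F}
    (h : Hyp64 R ι) (hRU : R ≤ Cfsg.GU 4 F p) (y : GL (Fin 4) F)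
    (hy : y ∈ Cfsg.Geo.subgroupNormalizer R) :
    ∃ (l : F) (y' : GL (Fin 4) F), l ≠ 0 ∧ y' ∈ Cfsg.GU 4 F p ∧
      y' ∈ Cfsg.Geo.subgroupNormalizer R ∧ (y : M4 F) = l • (y' : M4 F) := by
  obtain ⟨c, hc0, hcp, hc⟩ := similitude_of_normalizer hF h hRU y hy
  obtain ⟨a, ha⟩ := Cfsg.Agent.Helper28.exists_norm_eq (frobenius F p) (frob_ne_id p hF)
    (fun b => by rw [frobenius_def, frobenius_def, pow_p_pow_p p hF]) c hc0
    (by rw [frobenius_def, hcp])
  rw [frobenius_def] at ha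
  have ha0 : a ≠ 0 := by
    rintro rfl
    apply hc0
    rw [← ha, zero_mul]
  have hai0 : a⁻¹ ≠ 0 := inv_ne_zero ha0
  refine ⟨a, scal a⁻¹ hai0 * y, ha0, ?_, ?_, ?_⟩
  · rw [mem_GU_iff_dag, coe_scal_mul, dag_smul, Matrix.smul_mul, Matrix.mul_smul, smul_smul, hc,
      smul_smul]
    have : a⁻¹ ^ p * a⁻¹ * c = 1 := by
      rw [← ha, inv_pow]
      have hap : a ^ p ≠ 0 := pow_ne_zero _ ha0
      field_simp
    rw [this, one_smul]
  · exact Subgroup.mul_mem _ (scalar_mem_normalizer R (coe_scal a⁻¹ hai0)) hy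
  · rw [coe_scal_mul, smul_smul, mul_inv_cancel₀ ha0, one_smul]

end Cfsg.Agent.S6001P
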