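import Mathlib
import Cfsg.Agent.Helper9.LieGr

/-!
# Piece SC of S3779: scalar extension to `ℤ[ζ_p]` and the eigenspace grading
-/

namespace Cfsg.Agent.Helper20.SC

open scoped TensorProduct
open Cfsg.Agent.Helper9.LieGr Polynomial

universe u

set_option linter.unusedSectionVars false

section ring
variable (p : ℕ) [hp : Fact p.Prime]

/-- the coefficient ring `ℤ[ζ_p]`. -/
abbrev A : Type := AdjoinRoot (cyclotomic p ℤ)

/-- the root of unity. -/
noncomputable def zeta : A p := AdjoinRoot.root _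

lemma zeta_pow_p : zeta p ^ p = 1 := by
  have h := cyclotomic.dvd_X_pow_sub_one p ℤ
  have h2 : AdjoinRoot.mk (cyclotomic p ℤ) (X ^ p - 1) = 0 := AdjoinRoot.mk_eq_zero.mpr h
  rw [map_sub, map_pow, AdjoinRoot.mk_X, map_one, sub_eq_zero] at h2
  exact h2

lemma sum_zeta_pow : ∑ i ∈ Finset.range p, zeta p ^ i = 0 := by
  have h : AdjoinRoot.mk (cyclotomic p ℤ) (cyclotomic p ℤ) = 0 := AdjoinRoot.mk_self
  conv at h => lhs; arg 2; rw [cyclotomic_prime ℤ p]
  rw [map_sum] at h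
  simpa [map_pow, AdjoinRoot.mk_X, zeta] using h

/-- a `ℤ`-linear retraction of `ℤ → ℤ[ζ_p]`. -/
lemma exists_retraction : ∃ r : A p →ₗ[ℤ] ℤ, r 1 = 1 := by
  have hm : (cyclotomic p ℤ).Monic := cyclotomic.monic p ℤ
  refine ⟨(lcoeff ℤ 0) ∘ₗ AdjoinRoot.modByMonicHom hm, ?_⟩
  have h1 : (1 : A p) = AdjoinRoot.mk (cyclotomic p ℤ) 1 := (map_one _).symm
  rw [LinearMap.comp_apply, h1, AdjoinRoot.modByMonicHom_mk]
  have hdeg : (1 : ℤ[X]).degree < (cyclotomic p ℤ).degree := by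
    rw [degree_one, degree_cyclotomic, Nat.totient_prime hp.out]
    have := hp.out.two_le
    exact_mod_cast (by omega : 0 < p - 1)
  rw [(modByMonic_eq_self_iff hm).mpr hdeg]
  simp

end ring

section main
variable {L : Type u} [LieRing L] (p : ℕ) [hp : Fact p.Prime]

/-- `α` as a Lie algebra homomorphism over `ℤ`. -/
def alphaL (α : L ≃+ L) (hα : ∀ x y, α ⁅x, y⁆ = ⁅α x, α y⁆) : L →ₗ⁅ℤ⁆ L :=
  { α.toAddMonoidHom.toIntLinearMap with map_lie' := fun {x y} => hα x y }

@[simp] lemma alphaL_apply (α : L ≃+ L) (hα : ∀ x y, α ⁅x, y⁆ = ⁅α x, α y⁆) (x : L) :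
    alphaL α hα x = α x := rfl

/-- the extended automorphism `id ⊗ α` on `ℤ[ζ_p] ⊗ L`. -/
noncomputable def alphaT (α : L ≃+ L) (hα : ∀ x y, α ⁅x, y⁆ = ⁅α x, α y⁆) :
    A p ⊗[ℤ] L →ₗ⁅ℤ⁆ A p ⊗[ℤ] L :=
  LieAlgebra.ExtendScalars.map (AlgHom.id ℤ (A p)) (alphaL α hα)

variable (α : L ≃+ L) (hα : ∀ x y, α ⁅x, y⁆ = ⁅α x, α y⁆)

@[simp] lemma alphaT_tmul (a : A p) (x : L) : alphaT p α hα (a ⊗ₜ x) = a ⊗ₜ α x := rfl

lemma alphaT_smul (a : A p) (v : A p ⊗[ℤ] L) : alphaT p α hα (a • v) = a • alphaT p α hα v := by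
  induction v using TensorProduct.induction_on with
  | zero => simp
  | tmul s x => rw [TensorProduct.smul_tmul', alphaT_tmul, alphaT_tmul, TensorProduct.smul_tmul']
  | add v w hv hw => rw [smul_add, map_add, map_add, smul_add, hv, hw]

lemma alphaT_iterate_tmul (i : ℕ) (a : A p) (x : L) :
    (alphaT p α hα)^[i] (a ⊗ₜ x) = a ⊗ₜ (α^[i] x) := by
  induction i with
  | zero => rfl
  | succ i ih => rw [Function.iterate_succ_apply', Function.iterate_succ_apply', ih, alphaT_tmul]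

lemma alphaT_iterate_p (hαp : ∀ x, (α^[p]) x = x) (v : A p ⊗[ℤ] L) :
    (alphaT p α hα)^[p] v = v := by
  induction v using TensorProduct.induction_on with
  | zero => exact iterate_map_zero _ _
  | tmul s x => rw [alphaT_iterate_tmul, hαp]
  | add v w hv hw => rw [iterate_map_add, hv, hw]

lemma sum_iterate_eq_zero (hαp : ∀ x, (α^[p]) x = x) (hfix : ∀ x, α x = x → x = 0) (x : L) :
    ∑ i ∈ Finset.range p, α^[i] x = 0 := by
  apply hfix
  rw [map_sum]
  have h1 := Finset.sum_range_succ' (fun i => α^[i] x) p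
  have h2 := Finset.sum_range_succ (fun i => α^[i] x) p
  simp only [Function.iterate_succ_apply'] at h1
  rw [h1] at h2
  simp only [Function.iterate_zero, id] at h2
  rw [hαp] at h2
  exact add_right_cancel h2

lemma sum_alphaT_iterate_eq_zero (hαp : ∀ x, (α^[p]) x = x) (hfix : ∀ x, α x = x → x = 0)
    (v : A p ⊗[ℤ] L) : ∑ i ∈ Finset.range p, (alphaT p α hα)^[i] v = 0 := by
  induction v using TensorProduct.induction_on with
  | zero => simp [iterate_map_zero]
  | tmul s x =>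
    simp only [alphaT_iterate_tmul]
    rw [← TensorProduct.tmul_sum, sum_iterate_eq_zero p α hαp hfix, TensorProduct.tmul_zero]
  | add v w hv hw =>
    simp only [iterate_map_add]
    rw [Finset.sum_add_distrib, hv, hw, add_zero]

lemma nsmul_eq_zero_T (e : ℕ) (hexp : ∀ x : L, e • x = 0) (v : A p ⊗[ℤ] L) : e • v = 0 := by
  induction v using TensorProduct.induction_on with
  | zero => simp
  | tmul s x =>
    rw [← natCast_zsmul, ← TensorProduct.tmul_smul, natCast_zsmul, hexp, TensorProduct.tmul_zero]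
  | add v w hv hw => rw [smul_add, hv, hw, add_zero]

end main

section grading
variable {L : Type u} [LieRing L] (p : ℕ) [hp : Fact p.Prime]
variable (α : L ≃+ L) (hα : ∀ x y, α ⁅x, y⁆ = ⁅α x, α y⁆)

/-- `ζ ^ i` for `i : ZMod p`. -/
noncomputable def za (i : ZMod p) : A p := zeta p ^ i.val

lemma za_zero : za p 0 = 1 := by
  unfold za; rw [ZMod.val_zero, pow_zero]

lemma za_add (i j : ZMod p) : za p (i + j) = za p i * za p j := by
  unfold za
  rw [ZMod.val_add, ← pow_add, ← pow_eq_pow_mod _ (zeta_pow_p p)]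

/-- the eigenspace grading. -/
noncomputable def gr (j : ZMod p) : AddSubgroup (A p ⊗[ℤ] L) where
  carrier := {v | alphaT p α hα v = za p j • v}
  add_mem' := by
    intro v w hv hw
    show alphaT p α hα (v + w) = za p j • (v + w)
    rw [map_add, smul_add, hv, hw]
  zero_mem' := by
    show alphaT p α hα 0 = za p j • (0 : A p ⊗[ℤ] L)
    rw [map_zero, smul_zero]
  neg_mem' := by
    intro v hv
    show alphaT p α hα (-v) = za p j • (-v)
    rw [map_neg, smul_neg, hv]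

lemma mem_gr {j : ZMod p} {v : A p ⊗[ℤ] L} :
    v ∈ gr p α hα j ↔ alphaT p α hα v = za p j • v := Iff.rfl

lemma gr_lie_mem (i j : ZMod p) (v : A p ⊗[ℤ] L) (hv : v ∈ gr p α hα i) (w : A p ⊗[ℤ] L)
    (hw : w ∈ gr p α hα j) : ⁅v, w⁆ ∈ gr p α hα (i + j) := by
  rw [mem_gr] at hv hw ⊢
  have h1 : ⁅za p i • v, za p j • w⁆ = za p i • ⁅v, za p j • w⁆ :=
    smul_lie (za p i) v (za p j • w)
  have h2 : ⁅v, za p j • w⁆ = za p j • ⁅v, w⁆ := lie_smul (za p j) v w
  rw [LieHom.map_lie, hv, hw, h1, h2, smul_smul, za_add]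

lemma gr_zero (hαp : ∀ x, (α^[p]) x = x) (hfix : ∀ x, α x = x → x = 0)
    (e : ℕ) (he : Nat.Coprime e p) (hexp : ∀ x : L, e • x = 0) : gr p α hα 0 = ⊥ := by
  rw [eq_bot_iff]
  intro v hv
  rw [mem_gr, za_zero, one_smul] at hv
  rw [AddSubgroup.mem_bot]
  have h1 := sum_alphaT_iterate_eq_zero p α hα hαp hfix v
  have h2 : ∀ i : ℕ, (alphaT p α hα)^[i] v = v := fun i => Function.iterate_fixed hv i
  simp only [h2, Finset.sum_const, Finset.card_range] at h1
  have h3 := nsmul_eq_zero_T p e hexp v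
  obtain ⟨a, b, hab⟩ := (Nat.isCoprime_iff_coprime.mpr he)
  have : v = (a * (e : ℤ) + b * (p : ℤ)) • v := by rw [hab, one_smul]
  rw [this, add_smul, mul_smul, mul_smul, natCast_zsmul, natCast_zsmul, h1, h3, smul_zero,
    smul_zero, add_zero]

end grading

section span
variable {L : Type u} [LieRing L] (p : ℕ) [hp : Fact p.Prime]
variable (α : L ≃+ L) (hα : ∀ x y, α ⁅x, y⁆ = ⁅α x, α y⁆)

/-- `α̃ ^ i` for `i : ZMod p`. -/
noncomputable def ta (i : ZMod p) (v : A p ⊗[ℤ] L) : A p ⊗[ℤ] L :=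
  (alphaT p α hα)^[i.val] v

lemma ta_zero (v : A p ⊗[ℤ] L) : ta p α hα 0 v = v := by
  unfold ta; rw [ZMod.val_zero]; rfl

lemma ta_add_one (hαp : ∀ x, (α^[p]) x = x) (i : ZMod p) (v : A p ⊗[ℤ] L) :
    ta p α hα (i + 1) v = alphaT p α hα (ta p α hα i v) := by
  unfold ta
  have hper : Function.IsPeriodicPt (alphaT p α hα) p v := alphaT_iterate_p p α hα hαp v
  rw [ZMod.val_add, ZMod.val_one, hper.iterate_mod_apply, Function.iterate_succ_apply']

/-- the projection onto the `j`-th eigenspace (up to the factor `p`). -/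
noncomputable def proj (j : ZMod p) (v : A p ⊗[ℤ] L) : A p ⊗[ℤ] L :=
  ∑ i : ZMod p, za p (-(j * i)) • ta p α hα i v

lemma proj_mem (hαp : ∀ x, (α^[p]) x = x) (j : ZMod p) (v : A p ⊗[ℤ] L) :
    proj p α hα j v ∈ gr p α hα j := by
  rw [mem_gr]
  unfold proj
  rw [map_sum, Finset.smul_sum]
  simp only [alphaT_smul, ← ta_add_one p α hα hαp, smul_smul, ← za_add]
  rw [← Equiv.sum_comp (Equiv.addRight (1 : ZMod p))
    (fun i => za p (j + -(j * i)) • ta p α hα i v)]
  refine Finset.sum_congr rfl fun i _ => ?_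
  simp only [Equiv.coe_addRight]
  congr 2
  ring

lemma sum_za : ∑ k : ZMod p, za p k = 0 := by
  rw [← sum_zeta_pow p]
  unfold za
  refine Finset.sum_bij' (fun k _ => k.val) (fun m _ => (m : ZMod p)) ?_ ?_ ?_ ?_ ?_
  · intro k _; exact Finset.mem_range.mpr (ZMod.val_lt k)
  · intro m _; exact Finset.mem_univ _
  · intro k _; exact ZMod.natCast_zmod_val k
  · intro m hm; exact ZMod.val_natCast_of_lt (Finset.mem_range.mp hm)
  · intro k _; rfl

lemma sum_za_mul (i : ZMod p) (hi : i ≠ 0) : ∑ j : ZMod p, za p (-(j * i)) = 0 := by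
  rw [← sum_za p]
  exact Equiv.sum_comp ((Equiv.mulRight₀ i hi).trans (Equiv.neg _)) (za p)

lemma sum_proj (v : A p ⊗[ℤ] L) : ∑ j : ZMod p, proj p α hα j v = p • v := by
  unfold proj
  rw [Finset.sum_comm]
  simp only [← Finset.sum_smul]
  rw [Finset.sum_eq_single (0 : ZMod p)]
  · simp only [mul_zero, neg_zero, za_zero, Finset.sum_const, Finset.card_univ, ZMod.card, ta_zero]
    rw [nsmul_eq_mul, mul_one, Nat.cast_smul_eq_nsmul]
  · intro i _ hi; rw [sum_za_mul p i hi, zero_smul]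
  · intro h; exact absurd (Finset.mem_univ _) h

lemma gr_span (hαp : ∀ x, (α^[p]) x = x) (e : ℕ) (he : Nat.Coprime e p)
    (hexp : ∀ x : L, e • x = 0) : (⨆ j, gr p α hα j) = ⊤ := by
  rw [eq_top_iff]
  intro v _
  obtain ⟨a, b, hab⟩ := Nat.isCoprime_iff_coprime.mpr he
  have h3 := nsmul_eq_zero_T p e hexp v
  have hv : v = ∑ j : ZMod p, b • proj p α hα j v := by
    rw [← Finset.smul_sum, sum_proj]
    conv_lhs => rw [← one_smul ℤ v, ← hab, add_smul, mul_smul, mul_smul, natCast_zsmul,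
      natCast_zsmul, h3, smul_zero, zero_add]
  rw [hv]
  refine sum_mem fun j _ => ?_
  exact (le_iSup (gr p α hα) j) (AddSubgroup.zsmul_mem _ (proj_mem p α hα hαp j v) b)

end span

section emb
variable {L : Type u} [LieRing L] (p : ℕ) [hp : Fact p.Prime]

/-- `x ↦ 1 ⊗ x`. -/
noncomputable def emb : L →+ A p ⊗[ℤ] L where
  toFun x := 1 ⊗ₜ x
  map_zero' := TensorProduct.tmul_zero _ _
  map_add' := TensorProduct.tmul_add _

lemma emb_lie (x y : L) : emb p ⁅x, y⁆ = ⁅emb p x, emb p y⁆ := by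
  show (1 : A p) ⊗ₜ ⁅x, y⁆ = ⁅(1 : A p) ⊗ₜ[ℤ] x, (1 : A p) ⊗ₜ[ℤ] y⁆
  rw [LieAlgebra.ExtendScalars.bracket_tmul, mul_one]

lemma emb_injective : Function.Injective (emb p (L := L)) := by
  obtain ⟨r, hr⟩ := exists_retraction p
  have hleft : ∀ x : L, (TensorProduct.lid ℤ L) (r.rTensor L (emb p x)) = x := by
    intro x
    show (TensorProduct.lid ℤ L) (r.rTensor L ((1 : A p) ⊗ₜ x)) = x
    rw [LinearMap.rTensor_tmul, hr, TensorProduct.lid_tmul, one_smul]
  intro x y hxy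
  rw [← hleft x, ← hleft y, hxy]

lemma emb_lnProd (l : List L) : lnProd (l.map (emb p)) = emb p (lnProd l) := by
  cases l with
  | nil => simp [lnProd]
  | cons x l =>
    show (l.map (emb p)).foldl (fun a b => ⁅a, b⁆) (emb p x)
      = emb p (l.foldl (fun a b => ⁅a, b⁆) x)
    induction l generalizing x with
    | nil => rfl
    | cons y l ih =>
      rw [List.map_cons, List.foldl_cons, List.foldl_cons, ← emb_lie, ih]

end emb

/-- **Piece SC** of S3779. -/
theorem sc_main {L : Type u} [LieRing L] {p : ℕ} [Fact p.Prime] (c : ℕ)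
    (hgr : ∀ (M : Type u) [LieRing M] (N : ZMod p → AddSubgroup M), IsGrading N →
      (⨆ i, N i = ⊤) → ∀ l : List M, l.length = c + 1 → lnProd l = 0)
    (e : ℕ) (he : Nat.Coprime e p) (hexp : ∀ x : L, e • x = 0)
    (α : L ≃+ L) (hα : ∀ x y, α ⁅x, y⁆ = ⁅α x, α y⁆) (hαp : ∀ x, (α^[p]) x = x)
    (hfix : ∀ x, α x = x → x = 0)
    (l : List L) (hl : l.length = c + 1) : lnProd l = 0 := by
  have hN : IsGrading (gr p α hα) := ⟨gr_lie_mem p α hα, gr_zero p α hα hαp hfix e he hexp⟩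
  have h := hgr (A p ⊗[ℤ] L) (gr p α hα) hN (gr_span p α hα hαp e he hexp) (l.map (emb p))
    (by rw [List.length_map, hl])
  rw [emb_lnProd] at h
  exact emb_injective p (h.trans (map_zero _).symm)

end Cfsg.Agent.Helper20.SC
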