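import Mathlib
import Cfsg.Agent.Helper27.Suz2Defs
import Cfsg.Agent.Helper19.Suz2B0

/-! SUZ2 board, piece IHSUB: the induction hypothesis applied to proper `K`-subgroups. -/

set_option autoImplicit false
set_option linter.style.haveILetI false

namespace Cfsg.Agent.SUZ2P

open Cfsg.Agent.Helper17.Suz2 Cfsg.Agent.SUZ2P

universe u v

variable {K : Type v} {P : Type u} [Group K] [Group P] [MulDistribMulAction K P]

/-- A nontrivial `K`-invariant subgroup of a (*)-group is a (*)-group. -/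
theorem ih_sub_aux_star (hS : Star K P) {M : Subgroup P} (hM : KInv K M) (hne : M ≠ ⊥) :
    letI := subAction M hM
    Star K M := by
  letI := subAction M hM
  have hfin : Finite P := hS.fin
  have hOm : Om P ≤ M := B0_Om_le hS hM hne
  refine ⟨inferInstance, hS.pgrp.to_subgroup M, hS.comm, ?_, ?_⟩
  · intro x y hx1 hx2 hy1 hy2
    have hx1' : (x : P) ≠ 1 := fun h => hx1 (Subtype.ext h)
    have hy1' : (y : P) ≠ 1 := fun h => hy1 (Subtype.ext h)
    have hx2' : (x : P) * (x : P) = 1 := by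
      have := congrArg (Subtype.val) hx2; simpa using this
    have hy2' : (y : P) * (y : P) = 1 := by
      have := congrArg (Subtype.val) hy2; simpa using this
    obtain ⟨k, hk, hku⟩ := hS.reg (x : P) (y : P) hx1' hx2' hy1' hy2'
    refine ⟨k, Subtype.ext hk, ?_⟩
    intro k' hk'
    exact hku k' (congrArg Subtype.val hk')
  · obtain ⟨x, y, hxy, hx1, hx2, hy1, hy2⟩ := hS.two
    have hxM : x ∈ M := hOm ((B0_mem_Om hS).mpr hx2)
    have hyM : y ∈ M := hOm ((B0_mem_Om hS).mpr hy2)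
    refine ⟨⟨x, hxM⟩, ⟨y, hyM⟩, ?_, ?_, Subtype.ext hx2, ?_, Subtype.ext hy2⟩
    · intro h; exact hxy (congrArg Subtype.val h)
    · intro h; exact hx1 (congrArg Subtype.val h)
    · intro h; exact hy1 (congrArg Subtype.val h)

theorem ih_sub (h : MinCE K P) {M : Subgroup P} (hM : KInv K M) (hne : M ≠ ⊤) :
    (∀ x ∈ M, ∀ y ∈ M, x * y = y * x) ∨
      ((∀ x ∈ M, x * x ∈ Om P) ∧ ∀ x ∈ M, ∀ y ∈ M, cm x y ∈ Om P) := by
  by_cases hab : ∀ x ∈ M, ∀ y ∈ M, x * y = y * x
  · exact Or.inl hab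
  right
  push Not at hab
  obtain ⟨x, hx, y, hy, hxy⟩ := hab
  have hS : Star K P := h.star
  have hfin : Finite P := hS.fin
  have hMbot : M ≠ ⊥ := by
    intro hb
    rw [hb, Subgroup.mem_bot] at hx hy
    apply hxy; rw [hx, hy]
  letI := subAction M hM
  have hSM : Star K M := ih_sub_aux_star hS hM hMbot
  have hnaM : NonAb M := ⟨⟨x, hx⟩, ⟨y, hy⟩, fun hc => hxy (congrArg Subtype.val hc)⟩
  have hcard : Nat.card M < Nat.card P := by
    exact lt_of_le_of_ne (Subgroup.card_le_card_group M)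
      (fun hc => hne ((Subgroup.card_eq_iff_eq_top M).mp hc))
  have hH : HConc M := h.ih M hSM hnaM hcard
  have htr : ∀ z : M, z ∈ Om M → (z : P) ∈ Om P := by
    intro z hz
    have h1 : z * z = 1 := (B0_mem_Om hSM).mp hz
    have h2 : (z : P) * (z : P) = 1 := by
      have := congrArg Subtype.val h1; simpa using this
    exact (B0_mem_Om hS).mpr h2
  refine ⟨?_, ?_⟩
  · intro a ha
    exact htr (⟨a, ha⟩ * ⟨a, ha⟩) (hH.1 ⟨a, ha⟩)
  · intro a ha b hb
    have := htr _ (hH.2 ⟨a, ha⟩ ⟨b, hb⟩)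
    simpa [cm] using this

end Cfsg.Agent.SUZ2P
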