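import Mathlib
import Cfsg.Agent.Helper12.SzTDefs
import Cfsg.Prelude.Def_DegreeGraph

/-! # SZT piece GRAPH: the character degree graph of `Sz(q)` from its six character degrees
(pure arithmetic). -/

set_option autoImplicit false

namespace Cfsg.Agent.SZT

open Cfsg Cfsg.Agent.Helper11.SCTI Cfsg.Agent.Helper24
open scoped Classical ComplexConjugate

/-- a prime dividing a power of two is two -/
theorem GRAPH_eq_two_of_dvd_two_pow {r k : ℕ} (hr : r.Prime) (h : r ∣ 2 ^ k) : r = 2 :=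
  (Nat.prime_dvd_prime_iff_eq hr Nat.prime_two).mp (hr.dvd_of_dvd_pow h)

/-- the product of two distinct primes dividing `n` divides `n` -/
theorem GRAPH_mul_dvd {r s n : ℕ} (hne : r ≠ s) (hr : r.Prime) (hs : s.Prime) (h1 : r ∣ n)
    (h2 : s ∣ n) : r * s ∣ n :=
  Nat.Coprime.mul_dvd_of_dvd_of_dvd ((Nat.coprime_primes hr hs).mpr hne) h1 h2

/-- arithmetic: the degree graph from the set of degrees -/
theorem degreeGraph_of_charDegrees {S : Type*} [Group S] (m : ℕ) (hm : 1 ≤ m) (q : ℕ)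
    (hq : q = 2 ^ (2 * m + 1))
    (h : charDegrees S = {1, q ^ 2, q ^ 2 + 1, (q + 1 - 2 ^ (m + 1)) * (q - 1),
      (q + 2 ^ (m + 1) + 1) * (q - 1), 2 ^ (m + 1) / 2 * (q - 1)}) :
    Cfsg.degreePrimes S = {r : ℕ | r.Prime ∧ (r = 2 ∨ r ∣ (q - 1) * (q ^ 2 + 1))} ∧
    ∀ r s : ℕ, (Cfsg.degreeGraph S).Adj r s ↔ (r ≠ s ∧ r.Prime ∧ s.Prime ∧
      ((r ∣ (q - 1) * (q ^ 2 + 1) ∧ s ∣ (q - 1) * (q ^ 2 + 1)) ∨ (r = 2 ∧ s ∣ q - 1) ∨
        (s = 2 ∧ r ∣ q - 1))) := by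
  -- notation
  obtain ⟨R, hR⟩ : ∃ R : ℕ, R = 2 ^ (m + 1) := ⟨_, rfl⟩
  have hRhalf : R / 2 = 2 ^ m := by
    rw [hR, pow_succ]
    exact Nat.mul_div_cancel _ (by norm_num)
  have hRR : R * R = 2 * q := by
    rw [hR, hq, ← pow_add, ← pow_succ']
    congr 1
    omega
  have hRq : R ≤ q := by
    rw [hR, hq]
    exact Nat.pow_le_pow_right (by norm_num) (by omega)
  have hq1 : 1 ≤ q := by
    rw [hq]
    exact Nat.one_le_two_pow
  obtain ⟨n2, hn2⟩ : ∃ n2 : ℕ, n2 = q + 1 - R := ⟨_, rfl⟩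
  have hn2' : n2 + R = q + 1 := by omega
  obtain ⟨n1, hn1⟩ : ∃ n1 : ℕ, n1 = q + R + 1 := ⟨_, rfl⟩
  obtain ⟨a, ha⟩ : ∃ a : ℕ, a = q - 1 := ⟨_, rfl⟩
  have ha' : a + 1 = q := by omega
  have h12 : n1 * n2 = q ^ 2 + 1 := by
    have hq' : q = n2 + R - 1 := by omega
    have hnR : 1 ≤ n2 + R := by omega
    zify [hnR] at hq' ⊢
    have hRR' : (R : ℤ) * R = 2 * q := by exact_mod_cast hRR
    rw [hn1]
    push_cast
    rw [hq'] at hRR' ⊢
    linear_combination (-1 : ℤ) * hRR'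
  have hq2 : q ^ 2 = 2 ^ (2 * (2 * m + 1)) := by
    rw [hq, ← pow_mul]
    congr 1
    ring
  have h2q2 : 2 ∣ q ^ 2 := by
    rw [hq2]
    exact dvd_pow_self 2 (by omega)
  -- membership in the degree set
  have hmem : ∀ d : ℕ, d ∈ charDegrees S ↔
      d = 1 ∨ d = q ^ 2 ∨ d = q ^ 2 + 1 ∨ d = n2 * a ∨ d = n1 * a ∨ d = 2 ^ m * a := by
    intro d
    rw [h, ← hR, hRhalf, ← hn2, ← hn1, ← ha]
    simp only [Set.mem_insert_iff, Set.mem_singleton_iff]
  rw [← ha]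
  have hn1dvd : n1 ∣ q ^ 2 + 1 := ⟨n2, h12.symm⟩
  have hn2dvd : n2 ∣ q ^ 2 + 1 := ⟨n1, by rw [← h12, mul_comm]⟩
  have hdvdA : ∀ r : ℕ, r ∣ a → r ∣ a * (q ^ 2 + 1) := fun r hr => Dvd.dvd.mul_right hr _
  have hdvdQ : ∀ r : ℕ, r ∣ q ^ 2 + 1 → r ∣ a * (q ^ 2 + 1) := fun r hr => Dvd.dvd.mul_left hr _
  -- a prime dividing `n_i * a`
  have hcase : ∀ r n : ℕ, r.Prime → n ∣ q ^ 2 + 1 → r ∣ n * a → r ∣ a * (q ^ 2 + 1) := by
    intro r n hr hn hd
    rcases (Nat.Prime.dvd_mul hr).mp hd with h1 | h1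
    · exact hdvdQ r (dvd_trans h1 hn)
    · exact hdvdA r h1
  have hcase2 : ∀ r : ℕ, r.Prime → r ∣ 2 ^ m * a → r = 2 ∨ r ∣ a := by
    intro r hr hd
    rcases (Nat.Prime.dvd_mul hr).mp hd with h1 | h1
    · exact Or.inl (GRAPH_eq_two_of_dvd_two_pow hr h1)
    · exact Or.inr h1
  have hone : ∀ r : ℕ, r.Prime → ¬ r ∣ 1 := fun r hr h1 => hr.one_lt.ne' (Nat.dvd_one.mp h1)
  have htwo : ∀ r : ℕ, r.Prime → r ∣ q ^ 2 → r = 2 := by
    intro r hr hd
    rw [hq2] at hd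
    exact GRAPH_eq_two_of_dvd_two_pow hr hd
  constructor
  · -- the vertex set
    ext r
    simp only [Cfsg.degreePrimes, Set.mem_ofPred_eq]
    constructor
    · rintro ⟨hr, d, hd, hrd⟩
      refine ⟨hr, ?_⟩
      rcases (hmem d).mp hd with rfl | rfl | rfl | rfl | rfl | rfl
      · exact absurd hrd (hone r hr)
      · exact Or.inl (htwo r hr hrd)
      · exact Or.inr (hdvdQ r hrd)
      · exact Or.inr (hcase r n2 hr hn2dvd hrd)
      · exact Or.inr (hcase r n1 hr hn1dvd hrd)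
      · rcases hcase2 r hr hrd with h1 | h1
        · exact Or.inl h1
        · exact Or.inr (hdvdA r h1)
    · rintro ⟨hr, h1 | h1⟩
      · refine ⟨hr, q ^ 2, (hmem _).mpr (Or.inr (Or.inl rfl)), ?_⟩
        rw [h1]
        exact h2q2
      · refine ⟨hr, ?_⟩
        rcases (Nat.Prime.dvd_mul hr).mp h1 with h2 | h2
        · exact ⟨2 ^ m * a, (hmem _).mpr (by simp), Dvd.dvd.mul_left h2 _⟩
        · exact ⟨q ^ 2 + 1, (hmem _).mpr (by simp), h2⟩
  · -- adjacency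
    intro r s
    simp only [Cfsg.degreeGraph]
    constructor
    · rintro ⟨hne, hr, hs, d, hd, hrs⟩
      refine ⟨hne, hr, hs, ?_⟩
      have hrd : r ∣ d := dvd_trans (dvd_mul_right r s) hrs
      have hsd : s ∣ d := dvd_trans (dvd_mul_left s r) hrs
      rcases (hmem d).mp hd with rfl | rfl | rfl | rfl | rfl | rfl
      · exact absurd hrd (hone r hr)
      · exact absurd ((htwo r hr hrd).trans (htwo s hs hsd).symm) hne
      · exact Or.inl ⟨hdvdQ r hrd, hdvdQ s hsd⟩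
      · exact Or.inl ⟨hcase r n2 hr hn2dvd hrd, hcase s n2 hs hn2dvd hsd⟩
      · exact Or.inl ⟨hcase r n1 hr hn1dvd hrd, hcase s n1 hs hn1dvd hsd⟩
      · rcases hcase2 r hr hrd with h1 | h1 <;> rcases hcase2 s hs hsd with h2 | h2
        · exact absurd (h1.trans h2.symm) hne
        · exact Or.inr (Or.inl ⟨h1, h2⟩)
        · exact Or.inr (Or.inr ⟨h2, h1⟩)
        · exact Or.inl ⟨hdvdA r h1, hdvdA s h2⟩
    · rintro ⟨hne, hr, hs, hcases⟩
      refine ⟨hne, hr, hs, ?_⟩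
      have h2m : 2 ∣ 2 ^ m := dvd_pow_self 2 (by omega)
      rcases hcases with ⟨h1, h2⟩ | ⟨h1, h2⟩ | ⟨h1, h2⟩
      · -- both divide `a * n1 * n2`
        have hsplit : ∀ t : ℕ, t.Prime → t ∣ a * (q ^ 2 + 1) → t ∣ a ∨ t ∣ n1 ∨ t ∣ n2 := by
          intro t ht hd
          rcases (Nat.Prime.dvd_mul ht).mp hd with h3 | h3
          · exact Or.inl h3
          · rw [← h12] at h3
            rcases (Nat.Prime.dvd_mul ht).mp h3 with h4 | h4
            · exact Or.inr (Or.inl h4)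
            · exact Or.inr (Or.inr h4)
        rcases hsplit r hr h1 with hra | hr1 | hr2 <;> rcases hsplit s hs h2 with hsa | hs1 | hs2
        · exact ⟨2 ^ m * a, (hmem _).mpr (by simp),
            Dvd.dvd.mul_left (GRAPH_mul_dvd hne hr hs hra hsa) _⟩
        · refine ⟨n1 * a, (hmem _).mpr (by simp), ?_⟩
          rw [mul_comm r s]
          exact mul_dvd_mul hs1 hra
        · refine ⟨n2 * a, (hmem _).mpr (by simp), ?_⟩
          rw [mul_comm r s]
          exact mul_dvd_mul hs2 hra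
        · exact ⟨n1 * a, (hmem _).mpr (by simp), mul_dvd_mul hr1 hsa⟩
        · exact ⟨n1 * a, (hmem _).mpr (by simp),
            Dvd.dvd.mul_right (GRAPH_mul_dvd hne hr hs hr1 hs1) _⟩
        · refine ⟨q ^ 2 + 1, (hmem _).mpr (by simp), ?_⟩
          rw [← h12]
          exact mul_dvd_mul hr1 hs2
        · exact ⟨n2 * a, (hmem _).mpr (by simp), mul_dvd_mul hr2 hsa⟩
        · refine ⟨q ^ 2 + 1, (hmem _).mpr (by simp), ?_⟩
          rw [← h12, mul_comm r s]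
          exact mul_dvd_mul hs1 hr2
        · exact ⟨n2 * a, (hmem _).mpr (by simp),
            Dvd.dvd.mul_right (GRAPH_mul_dvd hne hr hs hr2 hs2) _⟩
      · refine ⟨2 ^ m * a, (hmem _).mpr (by simp), ?_⟩
        rw [h1]
        exact mul_dvd_mul h2m h2
      · refine ⟨2 ^ m * a, (hmem _).mpr (by simp), ?_⟩
        rw [h1, mul_comm r 2]
        exact mul_dvd_mul h2m h2

end Cfsg.Agent.SZT
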