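import Mathlib
import Cfsg.Prelude.Def_Characters
import Cfsg.Agent.Helper24.PrimeCodegree
import Cfsg.Agent.Helper24.ColumnOrth
import Cfsg.Agent.Helper24.Linear
import Cfsg.Agent.Helper24.Abelian

set_option autoImplicit false

namespace Cfsg.Agent.Helper20

open Cfsg Cfsg.Agent.Helper24 Representation

universe u

/-- Schur's lemma: an endomorphism commuting with an irreducible complex representation is a
scalar. -/
theorem schur_scalar {N V : Type*} [Group N] [AddCommGroup V] [Module ℂ V]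
    [FiniteDimensional ℂ V] (Y : Representation ℂ N V) [Y.IsIrreducible] (f : V →ₗ[ℂ] V)
    (hf : ∀ n : N, f ∘ₗ Y n = Y n ∘ₗ f) : ∃ c : ℂ, f = c • (1 : Module.End ℂ V) := by
  obtain ⟨c, hc⟩ :=
    (IsIrreducible.algebraMap_intertwiningMap_bijective_of_isAlgClosed (ρ := Y)).2
      (⟨f, hf⟩ : IntertwiningMap Y Y)
  refine ⟨c, ?_⟩
  have := congrArg IntertwiningMap.toLinearMap hc
  rw [IntertwiningMap.algebraMap_apply] at this
  ext v
  have h2 := congrArg (fun f : V →ₗ[ℂ] V => f v) this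
  simp only [IntertwiningMap.toLinearMap_smul] at h2
  exact h2.symm

/-- A central element of prime power order `p^j` lying in the commutator subgroup forces an
irreducible character of degree divisible by `p^j`. -/
theorem exists_irr_dvd_degree {H : Type u} [Group H] [Finite H] (p j : ℕ) [hp : Fact p.Prime]
    (a : H) (ha : a ∈ Subgroup.center H) (hac : a ∈ commutator H) (hord : orderOf a = p ^ j) :
    ∃ χ : IrrCharacter H, p ^ j ∣ irrDeg χ := by
  classical
  haveI : Fintype H := Fintype.ofFinite H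
  haveI : Fintype (IrrCharacter H) := Fintype.ofFinite _
  rcases j with _ | j
  · exact ⟨trivIrr H, by simp⟩
  have hb1 : a ^ p ^ j ≠ 1 := by
    intro h
    have := orderOf_dvd_of_pow_eq_one h
    rw [hord] at this
    have := (Nat.pow_dvd_pow_iff_le_right hp.out.one_lt).1 this
    omega
  have hnc : ¬ IsConj (a ^ p ^ j) 1 := by
    rw [isConj_one_left]
    exact hb1
  rw [isConj_iff_forall_irr] at hnc
  push Not at hnc
  obtain ⟨χ, hχ⟩ := hnc
  refine ⟨χ, ?_⟩
  obtain ⟨n, ρ, hρ, hχρ⟩ := χ.2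
  haveI := hρ
  obtain ⟨c, hc⟩ := schur_scalar ρ (ρ a) (by
    intro h
    rw [← Module.End.mul_eq_comp, ← Module.End.mul_eq_comp, ← map_mul, ← map_mul,
      Subgroup.mem_center_iff.1 ha h])
  have hpow : ∀ k : ℕ, ρ (a ^ k) = c ^ k • (1 : Module.End ℂ (Fin n → ℂ)) := by
    intro k
    rw [map_pow, hc, smul_pow, one_pow]
  have hchar : ∀ k : ℕ, (χ : H → ℂ) (a ^ k) = c ^ k * n := by
    intro k
    rw [← hχρ]
    show LinearMap.trace ℂ _ (ρ (a ^ k)) = _
    rw [hpow, map_smul, LinearMap.trace_one, Module.finrank_fin_fun, smul_eq_mul]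
  have hdeg : irrDeg χ = n := by
    have h1 := irrDeg_spec χ
    have h2 := hchar 0
    rw [pow_zero, pow_zero, one_mul] at h2
    rw [h2] at h1
    exact_mod_cast h1.symm
  have hn0 : (n : ℂ) ≠ 0 := by
    have := irrDeg_pos χ
    rw [hdeg] at this
    exact_mod_cast this.ne'
  have hc1 : c ^ p ^ j ≠ 1 := by
    intro h
    apply hχ
    rw [hchar, h, ← pow_zero a, hchar, pow_zero]
  have hc2 : c ^ p ^ (j + 1) = 1 := by
    have h1 := hchar (p ^ (j + 1))
    rw [← hord, pow_orderOf_eq_one, ← pow_zero a, hchar, pow_zero, one_mul] at h1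
    have : (c ^ orderOf a - 1) * n = 0 := by rw [sub_mul, ← h1, one_mul, sub_self]
    rcases mul_eq_zero.1 this with h | h
    · rw [hord] at h; exact sub_eq_zero.1 h
    · exact absurd h hn0
  have hco : orderOf c = p ^ (j + 1) := orderOf_eq_prime_pow hc1 hc2
  -- determinant
  let D : H →* ℂˣ := ((LinearMap.det : Module.End ℂ (Fin n → ℂ) →* ℂ).comp ρ).toHomUnits
  have hD : D a = 1 := by
    have := Abelianization.commutator_subset_ker D hac
    exact this
  have hdet : LinearMap.det (ρ a) = 1 := by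
    have := congrArg (fun u : ℂˣ => (u : ℂ)) hD
    exact this
  rw [hc, LinearMap.det_smul, Module.finrank_fin_fun, map_one, mul_one] at hdet
  rw [hdeg, ← hco]
  exact orderOf_dvd_of_pow_eq_one hdet

/-- If `a ∈ K ≤ Z(H)`, `a ∈ H'` has order `p^j` and `|H : K| = p^m`, then `2j ≤ m`. -/
theorem two_mul_le_of_central_commutator {H : Type u} [Group H] [Finite H] (p j m : ℕ)
    [hp : Fact p.Prime] (K : Subgroup H) (hK : K ≤ Subgroup.center H) (a : H) (haK : a ∈ K)
    (hac : a ∈ commutator H) (hord : orderOf a = p ^ j) (hidx : K.index = p ^ m) :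
    2 * j ≤ m := by
  obtain ⟨χ, hχ⟩ := exists_irr_dvd_degree p j a (hK haK) hac hord
  have h1 := card_mul_irrDeg_sq_le_of_le_center χ K hK
  have h2 : Nat.card H = p ^ m * Nat.card K := by rw [← hidx, Subgroup.index_mul_card]
  rw [h2, mul_comm] at h1
  have h3 : irrDeg χ ^ 2 ≤ p ^ m := Nat.le_of_mul_le_mul_right h1 Nat.card_pos
  have h4 : p ^ j ≤ irrDeg χ := Nat.le_of_dvd (irrDeg_pos χ) hχ
  have h5 : p ^ (2 * j) ≤ p ^ m := by
    calc p ^ (2 * j) = (p ^ j) ^ 2 := by rw [← pow_mul, mul_comm]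
      _ ≤ irrDeg χ ^ 2 := Nat.pow_le_pow_left h4 2
      _ ≤ p ^ m := h3
  exact (Nat.pow_le_pow_iff_right hp.out.one_lt).1 h5

end Cfsg.Agent.Helper20
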