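import Mathlib
import Cfsg.Agent.Helper20.SchurExpA

set_option autoImplicit false

namespace Cfsg.Agent.Helper20

universe u

/-- transfer: a central element lying in the commutator subgroup has its `|Γ:H|`-th power in the
commutator subgroup of `H`. -/
theorem pow_index_mem_commutator_of_central {Γ : Type*} [Group Γ] [Finite Γ] (H : Subgroup Γ)
    (a : Γ) (ha : a ∈ Subgroup.center Γ) (hac : a ∈ commutator Γ) (haH : a ∈ H) :
    (⟨a, haH⟩ : H) ^ H.index ∈ commutator H := by
  have key : ∀ (k : ℕ) (g₀ : Γ), g₀⁻¹ * a ^ k * g₀ ∈ H → g₀⁻¹ * a ^ k * g₀ = a ^ k := by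
    intro k g₀ _
    have := Subgroup.mem_center_iff.1 (Subgroup.pow_mem _ ha k) g₀
    rw [mul_assoc, ← this, inv_mul_cancel_left]
  have h1 := MonoidHom.transfer_eq_pow (Abelianization.of : H →* Abelianization H) a key
  have h2 : MonoidHom.transfer (Abelianization.of : H →* Abelianization H) a = 1 :=
    Abelianization.commutator_subset_ker _ hac
  rw [h2] at h1
  have h3 : (⟨a, haH⟩ : H) ^ H.index = ⟨a ^ H.index, MonoidHom.transfer_eq_pow_aux a key⟩ :=
    Subtype.ext (by simp)
  rw [h3, ← Abelianization.ker_of, MonoidHom.mem_ker]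
  exact h1.symm

/-- Schur: for a central subgroup `K ≤ Γ'` of a finite group, `exp(K)² ∣ |Γ : K|`. -/
theorem exponent_sq_dvd_index_of_stem {Γ : Type u} [Group Γ] [Finite Γ] (K : Subgroup Γ)
    (hK : K ≤ Subgroup.center Γ) (hKc : K ≤ commutator Γ) :
    Monoid.exponent K ^ 2 ∣ K.index := by
  classical
  haveI hKn : K.Normal := by
    constructor
    intro x hx g
    have := Subgroup.mem_center_iff.1 (hK hx) g
    have e : g * x * g⁻¹ = x := by rw [this]; group
    rw [e]; exact hx
  have hE : Monoid.exponent K ≠ 0 := Monoid.exponent_ne_zero_of_finite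
  have hidx : K.index ≠ 0 := Subgroup.index_ne_zero_of_finite
  rw [← Nat.factorization_prime_le_iff_dvd (pow_ne_zero 2 hE) hidx]
  intro p hp
  haveI : Fact p.Prime := ⟨hp⟩
  rw [Nat.factorization_pow, Finsupp.smul_apply, smul_eq_mul]
  set j := (Monoid.exponent K).factorization p with hj
  -- an element of order p^j
  obtain ⟨a₀, ha₀⟩ : ∃ a₀ : K, orderOf a₀ = Monoid.exponent K := by
    let _ : CommGroup K := { (inferInstance : Group K) with
      mul_comm := fun x y => Subtype.ext (Subgroup.mem_center_iff.1 (hK x.2) y).symm }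
    exact Monoid.exists_orderOf_eq_exponent (Monoid.ExponentExists.of_finite)
  have hpj : p ^ j ∣ Monoid.exponent K := Nat.ordProj_dvd _ p
  have hpj0 : 0 < p ^ j := pow_pos hp.pos j
  set t := Monoid.exponent K / p ^ j with ht
  have ht0 : t ≠ 0 := by
    rw [ht]
    exact (Nat.div_pos (Nat.le_of_dvd (Nat.pos_of_ne_zero hE) hpj) hpj0).ne'
  have hto : orderOf (a₀ ^ t) = p ^ j := by
    rw [orderOf_pow_of_dvd ht0 (by rw [ha₀]; exact Nat.div_dvd_of_dvd hpj), ha₀, ht,
      Nat.div_div_self hpj hE]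
  set a : Γ := ((a₀ ^ t : K) : Γ) with hadef
  have haK : a ∈ K := (a₀ ^ t).2
  have hao : orderOf a = p ^ j := by rw [hadef, Subgroup.orderOf_coe]; exact hto
  -- the subgroup H = P ⊔ K
  obtain ⟨P⟩ : Nonempty (Sylow p Γ) := inferInstance
  set H : Subgroup Γ := (P : Subgroup Γ) ⊔ K with hH
  have hKH : K ≤ H := le_sup_right
  have hPH : (P : Subgroup Γ) ≤ H := le_sup_left
  have hHidx : ¬ p ∣ H.index := fun h =>
    P.not_dvd_index (h.trans (Subgroup.index_dvd_of_le hPH))
  obtain ⟨m, hm⟩ : ∃ m, K.relIndex H = p ^ m := by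
    have h1 : K.relIndex H = K.relIndex (P : Subgroup Γ) := Subgroup.relIndex_sup_right _ _
    have h2 : K.relIndex (P : Subgroup Γ) ∣ Nat.card (P : Subgroup Γ) :=
      Subgroup.relIndex_dvd_card _ _
    obtain ⟨n, hn⟩ := IsPGroup.iff_card.mp P.isPGroup'
    rw [hn] at h2
    obtain ⟨m, _, hm⟩ := (Nat.dvd_prime_pow hp).1 h2
    exact ⟨m, h1.trans hm⟩
  have hfac : K.index.factorization p = m := by
    rw [← Subgroup.relIndex_mul_index hKH, hm,
      Nat.factorization_mul (pow_ne_zero m hp.ne_zero) Subgroup.index_ne_zero_of_finite,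
      Finsupp.add_apply, Nat.factorization_pow, Finsupp.smul_apply,
      hp.factorization_self, Nat.factorization_eq_zero_of_not_dvd hHidx]
    simp
  rw [hfac]
  -- transfer
  have haH : a ∈ H := hKH haK
  have htr := pow_index_mem_commutator_of_central H a (hK haK) (hKc haK) haH
  have haHo : orderOf (⟨a, haH⟩ : H) = p ^ j := by
    rw [← Subgroup.orderOf_coe]; exact hao
  have haHc : (⟨a, haH⟩ : H) ∈ commutator H := by
    have hcop : (orderOf (⟨a, haH⟩ : H)).Coprime H.index := by
      rw [haHo]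
      exact Nat.Coprime.pow_left j ((Nat.Prime.coprime_iff_not_dvd hp).2 hHidx)
    have : (⟨a, haH⟩ : H) ∈ Subgroup.zpowers ((⟨a, haH⟩ : H) ^ H.index) := by
      rw [mem_zpowers_pow_iff]
      exact hcop.symm
    exact (Subgroup.zpowers_le.2 htr) this
  -- apply the character bound in H
  have hKHc : K.subgroupOf H ≤ Subgroup.center H := by
    intro x hx
    rw [Subgroup.mem_center_iff]
    intro y
    apply Subtype.ext
    have := Subgroup.mem_center_iff.1 (hK (Subgroup.mem_subgroupOf.1 hx)) (y : Γ)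
    simpa using this
  exact two_mul_le_of_central_commutator p j m (K.subgroupOf H) hKHc ⟨a, haH⟩
    (Subgroup.mem_subgroupOf.2 haK) haHc haHo hm

end Cfsg.Agent.Helper20
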