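import Mathlib
import Cfsg.Agent.Helper20.SmallDegA

/-!
# Groups all of whose irreducible characters have degree less than `p` have a normal abelian
Sylow `p`-subgroup
-/

set_option autoImplicit false

namespace Cfsg.Agent.Helper20.SmallDeg

open Cfsg Cfsg.Agent.Helper24
open scoped Pointwise

universe u

/-- A Sylow subgroup of `G` contained in a subgroup `C` which has a normal Sylow subgroup `R`
is the image of `R`. -/
theorem sylow_eq_map_of_normal {G : Type u} [Group G] [Finite G] (p : ℕ) [Fact p.Prime]
    (C : Subgroup G) (R : Subgroup C) (hRn : R.Normal) (hRp : IsPGroup p R)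
    (hRi : ¬ p ∣ R.index) (S : Sylow p G) (hS : (S : Subgroup G) ≤ C) :
    (S : Subgroup G) = R.map C.subtype := by
  let R' : Sylow p C := hRp.toSylow hRi
  haveI : (R' : Subgroup C).Normal := hRn
  have hSp : IsPGroup p ((S : Subgroup G).subgroupOf C) := by
    have := S.isPGroup'
    exact this.comap_of_injective C.subtype C.subtype_injective
  obtain ⟨S', hS'⟩ := hSp.exists_le_sylow
  have hS'R : S' = R' := by
    obtain ⟨c, hc⟩ := MulAction.exists_smul_eq C R' S'
    rw [← hc, Sylow.smul_eq_of_normal]
  have hle : (S : Subgroup G) ≤ R.map C.subtype := by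
    rw [← Subgroup.map_subgroupOf_eq_of_le hS]
    apply Subgroup.map_mono
    rw [hS'R] at hS'
    exact hS'
  exact (S.is_maximal' (hRp.map C.subtype) hle).symm

theorem main (p : ℕ) (hp : p.Prime) : ∀ (n : ℕ) (G : Type u) [Group G] [Finite G],
    Nat.card G = n → (∀ χ : IrrCharacter G, charDegree (χ : G → ℂ) < p) →
    ∃ P : Subgroup G, P.Normal ∧ IsPGroup p P ∧ ¬ p ∣ P.index := by
  haveI : Fact p.Prime := ⟨hp⟩
  intro n
  induction n using Nat.strong_induction_on with
  | _ n ih =>
  intro G _ _ hn hb
  classical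
  haveI : Fintype G := Fintype.ofFinite G
  let P : Sylow p G := default
  by_cases hPn : (P : Subgroup G).Normal
  · exact ⟨P, hPn, P.isPGroup', P.not_dvd_index⟩
  have hcomm := comm_of_isPGroup p hp hb
  by_cases hTI : ∀ g : G, g ∉ Subgroup.normalizer ((P : Subgroup G) : Set G) →
      (P : Subgroup G) ⊓ (MulAut.conj g • (P : Subgroup G)) = ⊥
  · exfalso
    have hHne : Subgroup.normalizer ((P : Subgroup G) : Set G) ≠ ⊤ := by
      intro h
      exact hPn (Subgroup.normalizer_eq_top_iff.mp h)
    obtain ⟨ξ, hξ1, hξ⟩ := exists_nonprincipal _ hHne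
    have h1 := TiChar.card_le_irrDeg p P hTI _ le_rfl ξ hξ1 hξ
    have h2 := hb ξ
    rw [charDegree_irr] at h2
    obtain ⟨k, hk⟩ := IsPGroup.iff_card.mp P.isPGroup'
    have hk0 : k ≠ 0 := by
      intro h0
      rw [h0, pow_zero] at hk
      apply hPn
      have : (P : Subgroup G) = ⊥ := Subgroup.card_eq_one.mp hk
      rw [this]
      infer_instance
    have h3 : p ≤ Nat.card (P : Subgroup G) := by
      rw [hk]
      calc p = p ^ 1 := (pow_one p).symm
        _ ≤ p ^ k := Nat.pow_le_pow_right hp.pos (Nat.one_le_iff_ne_zero.mpr hk0)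
    omega
  · push Not at hTI
    obtain ⟨g, hg, hD⟩ := hTI
    set D : Subgroup G := (P : Subgroup G) ⊓ (MulAut.conj g • (P : Subgroup G)) with hDdef
    have hDP : D ≤ (P : Subgroup G) := inf_le_left
    have hDgP : D ≤ ((g • P : Sylow p G) : Subgroup G) := inf_le_right
    have hDp : IsPGroup p D := P.isPGroup'.to_le hDP
    have hPC : ∀ S : Sylow p G, D ≤ (S : Subgroup G) →
        (S : Subgroup G) ≤ Subgroup.centralizer (D : Set G) := by
      intro S hDS x hx
      rw [Subgroup.mem_centralizer_iff]
      intro d hd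
      exact hcomm S S.isPGroup' d (hDS hd) x hx
    by_cases hC : Subgroup.centralizer (D : Set G) = ⊤
    · -- `D` is central, pass to the quotient
      haveI hDn : D.Normal := by
        refine ⟨fun d hd x => ?_⟩
        have hx : x ∈ Subgroup.centralizer (D : Set G) := by rw [hC]; exact Subgroup.mem_top x
        rw [Subgroup.mem_centralizer_iff] at hx
        have : x * d * x⁻¹ = d := by
          rw [← hx d hd, mul_inv_cancel_right]
        rw [this]
        exact hd
      have hlt : Nat.card (G ⧸ D) < n := by
        rw [← hn, Subgroup.card_eq_card_quotient_mul_card_subgroup D]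
        have h1 : 1 < Nat.card D := by
          rw [Subgroup.one_lt_card_iff_ne_bot]
          exact hD
        have h2 : 0 < Nat.card (G ⧸ D) := Nat.card_pos
        nlinarith
      obtain ⟨Q, hQn, hQp, hQi⟩ := ih (Nat.card (G ⧸ D)) hlt (G ⧸ D) rfl
        (charDegree_lt_of_quotient p hb D)
      refine ⟨Q.comap (QuotientGroup.mk' D), hQn.comap _,
        hQp.comap_of_ker_isPGroup (QuotientGroup.mk' D) ?_, ?_⟩
      · rw [QuotientGroup.ker_mk']
        exact hDp
      · rw [Subgroup.index_comap_of_surjective Q (QuotientGroup.mk'_surjective D)]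
        exact hQi
    · -- `C_G(D)` is proper and contains two distinct Sylow subgroups
      exfalso
      set C : Subgroup G := Subgroup.centralizer (D : Set G) with hCdef
      have hlt : Nat.card C < n := by
        rw [← hn]
        by_contra hcon
        push Not at hcon
        exact hC (Subgroup.eq_top_of_le_card C hcon)
      obtain ⟨R, hRn, hRp, hRi⟩ := ih (Nat.card C) hlt C rfl
        (charDegree_lt_of_subgroup p hb C)
      have e1 := sylow_eq_map_of_normal p C R hRn hRp hRi P (hPC P hDP)
      have e2 := sylow_eq_map_of_normal p C R hRn hRp hRi (g • P) (hPC (g • P) hDgP)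
      have e3 : g • P = P := by
        apply Sylow.ext
        rw [e1, e2]
      exact hg (Sylow.smul_eq_iff_mem_normalizer.mp e3)

/-- **Theorem.** If all irreducible character degrees of the finite group `G` are less than the
prime `p`, then `G` has a normal abelian Sylow `p`-subgroup. -/
theorem normal_abelian_sylow {G : Type u} [Group G] [Finite G] (p : ℕ) (hp : p.Prime)
    (hb : ∀ χ : IrrCharacter G, charDegree (χ : G → ℂ) < p) :
    ∃ P : Subgroup G, P.Normal ∧ (∀ x ∈ P, ∀ y ∈ P, x * y = y * x) ∧ IsPGroup p P ∧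
      ¬ p ∣ P.index := by
  obtain ⟨P, hPn, hPp, hPi⟩ := main p hp (Nat.card G) G rfl hb
  exact ⟨P, hPn, comm_of_isPGroup p hp hb P hPp, hPp, hPi⟩

end Cfsg.Agent.Helper20.SmallDeg
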