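import Mathlib

set_option autoImplicit false

/-!
# 2-elements of symmetric groups lying in a unique Sylow 2-subgroup (helper20), part A

Basic set-up: permutations supported on a set `A` (`YY A`), setwise stabilizers (`StabS S`),
restriction of a permutation to an invariant set (`resP S g`), and the predicate `Good A x`.
-/

namespace Cfsg.Agent.Helper20.SylSym

open Equiv

variable {α : Type*}

/-- permutations fixing every point outside `A`. -/
def YY (A : Set α) : Subgroup (Perm α) where
  carrier := {g | ∀ a, a ∉ A → g a = a}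
  mul_mem' := by
    intro g h hg hh a ha
    rw [Perm.mul_apply, hh a ha, hg a ha]
  one_mem' := by intro a _; rfl
  inv_mem' := by
    intro g hg a ha
    rw [Perm.inv_eq_iff_eq]
    exact (hg a ha).symm

theorem mem_YY {A : Set α} {g : Perm α} : g ∈ YY A ↔ ∀ a, a ∉ A → g a = a := Iff.rfl

theorem YY_univ : YY (Set.univ : Set α) = ⊤ := by
  ext g
  simp [mem_YY]

theorem YY_mono {A B : Set α} (h : A ⊆ B) : YY A ≤ YY B := by
  intro g hg a ha
  exact hg a (fun h' => ha (h h'))

theorem apply_mem_of_mem_YY {A : Set α} {g : Perm α} (hg : g ∈ YY A) {a : α} (ha : a ∈ A) :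
    g a ∈ A := by
  by_contra h
  have h1 := hg (g a) h
  have h2 : g a = a := g.injective h1
  rw [h2] at h
  exact h ha

theorem apply_mem_iff_of_mem_YY {A : Set α} {g : Perm α} (hg : g ∈ YY A) (a : α) :
    g a ∈ A ↔ a ∈ A := by
  constructor
  · intro h
    by_contra h'
    rw [hg a h'] at h
    exact h' h
  · exact apply_mem_of_mem_YY hg

/-- setwise stabilizer of `S`. -/
def StabS (S : Set α) : Subgroup (Perm α) where
  carrier := {g | ∀ a, g a ∈ S ↔ a ∈ S}
  mul_mem' := by
    intro g h hg hh a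
    rw [Perm.mul_apply, hg, hh]
  one_mem' := by intro a; rfl
  inv_mem' := by
    intro g hg a
    have := hg (g⁻¹ a)
    rw [show g (g⁻¹ a) = a from by simp] at this
    exact this.symm

theorem mem_StabS {S : Set α} {g : Perm α} : g ∈ StabS S ↔ ∀ a, g a ∈ S ↔ a ∈ S := Iff.rfl

theorem YY_le_StabS (A : Set α) : YY A ≤ StabS A := fun _ hg a => apply_mem_iff_of_mem_YY hg a

theorem image_eq_of_mem_StabS {S : Set α} {g : Perm α} (hg : g ∈ StabS S) : g '' S = S := by
  ext a
  constructor
  · rintro ⟨b, hb, rfl⟩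
    exact (hg b).2 hb
  · intro ha
    refine ⟨g⁻¹ a, ?_, by simp⟩
    have := hg (g⁻¹ a)
    rw [show g (g⁻¹ a) = a from by simp] at this
    exact this.1 ha

theorem mem_StabS_of_image_eq [Finite α] {S : Set α} {g : Perm α} (hg : g '' S = S) :
    g ∈ StabS S := by
  intro a
  constructor
  · intro h
    rw [← hg] at h
    obtain ⟨b, hb, hba⟩ := h
    rwa [← g.injective hba]
  · intro h
    rw [← hg]
    exact ⟨a, h, rfl⟩

theorem mem_StabS_compl {S : Set α} {g : Perm α} (hg : g ∈ StabS S) : g ∈ StabS Sᶜ := by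
  intro a
  simp only [Set.mem_compl_iff]
  rw [hg a]

theorem mem_StabS_diff {A S : Set α} {g : Perm α} (hA : g ∈ StabS A) (hg : g ∈ StabS S) :
    g ∈ StabS (A \ S) := by
  intro a
  simp only [Set.mem_sdiff]
  rw [hg a, hA a]

open Classical in
/-- restriction of `g` to the set `S` (identity outside `S`); only meaningful for `g ∈ StabS S`. -/
noncomputable def resP (S : Set α) (g : Perm α) : Perm α :=
  if h : ∀ a, g a ∈ S ↔ a ∈ S then Perm.ofSubtype (Perm.subtypePerm g h) else 1

theorem resP_apply_mem {S : Set α} {g : Perm α} (hg : g ∈ StabS S) {a : α} (ha : a ∈ S) :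
    resP S g a = g a := by
  classical
  unfold resP
  rw [dif_pos (show ∀ a, g a ∈ S ↔ a ∈ S from hg)]
  exact Perm.ofSubtype_subtypePerm_of_mem hg ha

theorem resP_apply_not_mem {S : Set α} (g : Perm α) {a : α} (ha : a ∉ S) :
    resP S g a = a := by
  classical
  unfold resP
  split_ifs with h
  · exact Perm.ofSubtype_subtypePerm_of_not_mem h ha
  · rfl

theorem resP_mem_YY (S : Set α) (g : Perm α) : resP S g ∈ YY S :=
  fun _ ha => resP_apply_not_mem g ha

theorem resP_mul {S : Set α} {g h : Perm α} (hg : g ∈ StabS S) (hh : h ∈ StabS S) :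
    resP S (g * h) = resP S g * resP S h := by
  ext a
  by_cases ha : a ∈ S
  · rw [resP_apply_mem ((StabS S).mul_mem hg hh) ha, Perm.mul_apply, Perm.mul_apply,
      resP_apply_mem hh ha, resP_apply_mem hg ((hh a).2 ha)]
  · rw [resP_apply_not_mem _ ha, Perm.mul_apply, resP_apply_not_mem _ ha,
      resP_apply_not_mem _ ha]

theorem resP_one (S : Set α) : resP S (1 : Perm α) = 1 := by
  ext a
  by_cases ha : a ∈ S
  · rw [resP_apply_mem (StabS S).one_mem ha]
  · rw [resP_apply_not_mem _ ha]; rfl

/-- restriction as a homomorphism on the stabilizer. -/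
noncomputable def resHom (S : Set α) : StabS S →* Perm α where
  toFun g := resP S g
  map_one' := resP_one S
  map_mul' g h := resP_mul g.2 h.2

theorem resHom_apply (S : Set α) (g : StabS S) : resHom S g = resP S g := rfl

theorem resP_pow {S : Set α} {g : Perm α} (hg : g ∈ StabS S) (n : ℕ) :
    resP S (g ^ n) = resP S g ^ n := by
  have := map_pow (resHom S) ⟨g, hg⟩ n
  simpa [resHom_apply] using this

theorem resP_zpow {S : Set α} {g : Perm α} (hg : g ∈ StabS S) (n : ℤ) :
    resP S (g ^ n) = resP S g ^ n := by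
  have := map_zpow (resHom S) ⟨g, hg⟩ n
  simpa [resHom_apply] using this

theorem resP_inv {S : Set α} {g : Perm α} (hg : g ∈ StabS S) :
    resP S g⁻¹ = (resP S g)⁻¹ := by
  have := map_inv (resHom S) ⟨g, hg⟩
  simpa [resHom_apply] using this

/-- if `g ∈ YY A` stabilizes `S ⊆ A` and both restrictions (to `S` and `A \ S`) are trivial, then
`g = 1`. -/
theorem eq_one_of_resP_eq_one {A S : Set α} {g : Perm α} (hA : g ∈ YY A) (hg : g ∈ StabS S)
    (h1 : resP S g = 1) (h2 : resP (A \ S) g = 1) : g = 1 := by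
  ext a
  by_cases ha : a ∈ S
  · rw [← resP_apply_mem hg ha, h1]
  · by_cases haA : a ∈ A
    · have hmem : a ∈ A \ S := ⟨haA, ha⟩
      rw [← resP_apply_mem (mem_StabS_diff (YY_le_StabS A hA) hg) hmem, h2]
    · rw [hA a haA]; rfl

/-- The predicate: `x` is a 2-element supported on `A`, its cycles on `A` of length `> 1` have
pairwise different lengths, and it has at most two fixed points in `A`. -/
structure Good (A : Set α) (x : Perm α) : Prop where
  mem : x ∈ YY A
  two : ∃ k : ℕ, x ^ (2 ^ k) = 1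
  distinct : ∀ p ∈ A, ∀ q ∈ A, ¬ x.SameCycle p q →
    Function.minimalPeriod x p = Function.minimalPeriod x q → x p = p ∧ x q = q
  fixed : {p | p ∈ A ∧ x p = p}.ncard ≤ 2

theorem resP_pow_apply {S : Set α} {g : Perm α} (hg : g ∈ StabS S) (n : ℕ) {a : α} (ha : a ∈ S) :
    (resP S g ^ n) a = (g ^ n) a := by
  rw [← resP_pow hg, resP_apply_mem ((StabS S).pow_mem hg n) ha]

theorem resP_zpow_apply {S : Set α} {g : Perm α} (hg : g ∈ StabS S) (n : ℤ) {a : α} (ha : a ∈ S) :
    (resP S g ^ n) a = (g ^ n) a := by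
  rw [← resP_zpow hg, resP_apply_mem ((StabS S).zpow_mem hg n) ha]

theorem minimalPeriod_resP {S : Set α} {g : Perm α} (hg : g ∈ StabS S) {a : α} (ha : a ∈ S) :
    Function.minimalPeriod (resP S g) a = Function.minimalPeriod g a := by
  rw [Function.minimalPeriod_eq_minimalPeriod_iff]
  intro n
  unfold Function.IsPeriodicPt Function.IsFixedPt
  rw [Perm.iterate_eq_pow, Perm.iterate_eq_pow, resP_pow_apply hg n ha]

theorem sameCycle_resP {S : Set α} {g : Perm α} (hg : g ∈ StabS S) {a b : α} (ha : a ∈ S)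
    (h : g.SameCycle a b) : (resP S g).SameCycle a b := by
  obtain ⟨i, hi⟩ := h
  exact ⟨i, by rw [resP_zpow_apply hg i ha, hi]⟩

theorem Good.restrict [Finite α] {A S : Set α} {x : Perm α} (hx : Good A x) (hS : S ⊆ A)
    (hxS : x ∈ StabS S) : Good S (resP S x) := by
  refine ⟨resP_mem_YY S x, ?_, ?_, ?_⟩
  · obtain ⟨k, hk⟩ := hx.two
    exact ⟨k, by rw [← resP_pow hxS, hk, resP_one]⟩
  · intro p hp q hq hpq hper
    rw [minimalPeriod_resP hxS hp, minimalPeriod_resP hxS hq] at hper
    have := hx.distinct p (hS hp) q (hS hq) (fun h => hpq (sameCycle_resP hxS hp h)) hper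
    rw [resP_apply_mem hxS hp, resP_apply_mem hxS hq]
    exact this
  · refine le_trans (Set.ncard_le_ncard ?_ (Set.toFinite _)) hx.fixed
    rintro p ⟨hp, hfix⟩
    rw [resP_apply_mem hxS hp] at hfix
    exact ⟨hS hp, hfix⟩

end Cfsg.Agent.Helper20.SylSym
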