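import Mathlib
import Cfsg.Agent.Helper20.SylSymA

set_option autoImplicit false

/-!
# 2-elements of symmetric groups lying in a unique Sylow 2-subgroup (helper20), part B

Cycles as sets, the counting lemma for `Good` permutations, and the odd-order trick.
-/

namespace Cfsg.Agent.Helper20.SylSym

open Equiv

variable {α : Type*}

/-- the cycle of `p` under `x`, as a set. -/
def cyc (x : Perm α) (p : α) : Set α := {q | x.SameCycle p q}

theorem mem_cyc {x : Perm α} {p q : α} : q ∈ cyc x p ↔ x.SameCycle p q := Iff.rfl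

theorem self_mem_cyc (x : Perm α) (p : α) : p ∈ cyc x p := Equiv.Perm.SameCycle.refl x p

theorem mem_StabS_cyc (x : Perm α) (p : α) : x ∈ StabS (cyc x p) := by
  intro a
  exact Equiv.Perm.sameCycle_apply_right

theorem cyc_subset {x : Perm α} {S : Set α} (hx : x ∈ StabS S) {p : α} (hp : p ∈ S) :
    cyc x p ⊆ S := by
  rintro q ⟨i, rfl⟩
  exact (((StabS S).zpow_mem hx i) p).2 hp

theorem minimalPeriod_pos [Finite α] (x : Perm α) (p : α) : 0 < Function.minimalPeriod x p := by
  apply Function.minimalPeriod_pos_of_mem_periodicPts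
  refine Function.mk_mem_periodicPts (orderOf_pos x) ?_
  unfold Function.IsPeriodicPt Function.IsFixedPt
  rw [Equiv.Perm.iterate_eq_pow, pow_orderOf_eq_one]
  rfl

theorem pow_minimalPeriod_apply (x : Perm α) (p : α) : (x ^ Function.minimalPeriod x p) p = p := by
  have := Function.isPeriodicPt_minimalPeriod x p
  unfold Function.IsPeriodicPt Function.IsFixedPt at this
  rwa [Equiv.Perm.iterate_eq_pow] at this

theorem pow_apply_eq_iff_dvd (x : Perm α) (p : α) (n : ℕ) :
    (x ^ n) p = p ↔ Function.minimalPeriod x p ∣ n := by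
  rw [← Function.isPeriodicPt_iff_minimalPeriod_dvd]
  unfold Function.IsPeriodicPt Function.IsFixedPt
  rw [Equiv.Perm.iterate_eq_pow]

theorem cyc_eq_image [Finite α] (x : Perm α) (p : α) :
    cyc x p = (fun i : ℕ => (x ^ i) p) '' Set.Iio (Function.minimalPeriod x p) := by
  ext q
  constructor
  · intro h
    obtain ⟨i, hi⟩ := Equiv.Perm.SameCycle.exists_nat_pow_eq h
    refine ⟨i % Function.minimalPeriod x p, Nat.mod_lt _ (minimalPeriod_pos x p), ?_⟩
    simp only
    rw [← hi, ← Equiv.Perm.iterate_eq_pow, ← Equiv.Perm.iterate_eq_pow,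
      Function.iterate_mod_minimalPeriod_eq]
  · rintro ⟨i, _, rfl⟩
    exact ⟨(i : ℤ), by simp⟩

theorem ncard_cyc [Finite α] (x : Perm α) (p : α) :
    (cyc x p).ncard = Function.minimalPeriod x p := by
  rw [cyc_eq_image, Set.InjOn.ncard_image, Set.ncard_Iio_nat]
  have := Function.iterate_injOn_Iio_minimalPeriod (f := x) (x := p)
  intro i hi j hj hij
  apply this hi hj
  simp only at hij ⊢
  rw [Equiv.Perm.iterate_eq_pow, Equiv.Perm.iterate_eq_pow]
  exact hij

theorem minimalPeriod_eq_two_pow {x : Perm α} {k : ℕ} (hk : x ^ (2 ^ k) = 1) (p : α) :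
    ∃ j ≤ k, Function.minimalPeriod x p = 2 ^ j := by
  have h1 : (x ^ (2 ^ k)) p = p := by rw [hk]; rfl
  rw [pow_apply_eq_iff_dvd] at h1
  exact (Nat.dvd_prime_pow Nat.prime_two).1 h1

/-- the points of `A` of a given period `≥ 2` lie in one cycle. -/
theorem Good.ncard_period_le [Finite α] {A : Set α} {x : Perm α} (hx : Good A x) {m : ℕ}
    (hm : 2 ≤ m) : {q | q ∈ A ∧ Function.minimalPeriod x q = m}.ncard ≤ m := by
  by_cases hne : {q | q ∈ A ∧ Function.minimalPeriod x q = m}.Nonempty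
  · obtain ⟨q₀, hq₀A, hq₀⟩ := hne
    have hsub : {q | q ∈ A ∧ Function.minimalPeriod x q = m} ⊆ cyc x q₀ := by
      rintro q ⟨hqA, hq⟩
      by_contra hnot
      have := hx.distinct q₀ hq₀A q hqA hnot (by rw [hq₀, hq])
      have h1 : Function.minimalPeriod x q₀ = 1 :=
        Function.minimalPeriod_eq_one_iff_isFixedPt.2 this.1
      omega
    calc _ ≤ (cyc x q₀).ncard := Set.ncard_le_ncard hsub (Set.toFinite _)
      _ = m := by rw [ncard_cyc, hq₀]
  · rw [Set.not_nonempty_iff_eq_empty] at hne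
    rw [hne, Set.ncard_empty]
    omega

theorem Good.ncard_le_aux [Finite α] {A : Set α} {x : Perm α} (hx : Good A x) (a : ℕ) :
    {q | q ∈ A ∧ Function.minimalPeriod x q ≤ 2 ^ a}.ncard + 2 ≤
      {p | p ∈ A ∧ x p = p}.ncard + 2 ^ (a + 1) := by
  induction a with
  | zero =>
    have : {q | q ∈ A ∧ Function.minimalPeriod x q ≤ 2 ^ 0} = {p | p ∈ A ∧ x p = p} := by
      ext q
      simp only [Set.mem_ofPred_eq, pow_zero]
      constructor
      · rintro ⟨h1, h2⟩
        refine ⟨h1, ?_⟩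
        have h3 := minimalPeriod_pos x q
        have h4 : Function.minimalPeriod x q = 1 := by omega
        exact Function.minimalPeriod_eq_one_iff_isFixedPt.1 h4
      · rintro ⟨h1, h2⟩
        refine ⟨h1, ?_⟩
        rw [Function.minimalPeriod_eq_one_iff_isFixedPt.2 h2]
    rw [this]
    simp
  | succ a ih =>
    have hsub : {q | q ∈ A ∧ Function.minimalPeriod x q ≤ 2 ^ (a + 1)} ⊆
        {q | q ∈ A ∧ Function.minimalPeriod x q ≤ 2 ^ a} ∪
          {q | q ∈ A ∧ Function.minimalPeriod x q = 2 ^ (a + 1)} := by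
      rintro q ⟨hqA, hq⟩
      obtain ⟨k, hk⟩ := hx.two
      obtain ⟨j, _, hj⟩ := minimalPeriod_eq_two_pow hk q
      rw [hj] at hq
      have hja : j ≤ a + 1 := (Nat.pow_le_pow_iff_right (by norm_num)).1 hq
      rcases Nat.lt_or_ge j (a + 1) with h | h
      · left
        refine ⟨hqA, ?_⟩
        rw [hj]
        exact Nat.pow_le_pow_right (by norm_num) (by omega)
      · right
        refine ⟨hqA, ?_⟩
        rw [hj, show j = a + 1 from by omega]
    have h1 := Set.ncard_le_ncard hsub (Set.toFinite _)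
    have h2 := Set.ncard_union_le {q | q ∈ A ∧ Function.minimalPeriod x q ≤ 2 ^ a}
      {q | q ∈ A ∧ Function.minimalPeriod x q = 2 ^ (a + 1)}
    have h3 := hx.ncard_period_le (m := 2 ^ (a + 1))
      (by have : 1 ≤ 2 ^ a := Nat.one_le_two_pow; rw [pow_succ]; omega)
    have h4 : 2 ^ (a + 1 + 1) = 2 ^ (a + 1) + 2 ^ (a + 1) := by rw [pow_succ 2 (a + 1)]; ring
    omega

/-- **Counting lemma**: if `p₁ ∈ A` has maximal period `L`, then `|A| + 2 ≤ f + 2 L`, with `f`
the number of fixed points in `A`. -/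
theorem Good.ncard_add_two_le [Finite α] {A : Set α} {x : Perm α} (hx : Good A x) {p₁ : α}
    (hmax : ∀ q ∈ A, Function.minimalPeriod x q ≤ Function.minimalPeriod x p₁) :
    A.ncard + 2 ≤ {p | p ∈ A ∧ x p = p}.ncard + 2 * Function.minimalPeriod x p₁ := by
  obtain ⟨k, hk⟩ := hx.two
  obtain ⟨j, _, hj⟩ := minimalPeriod_eq_two_pow hk p₁
  have h1 := hx.ncard_le_aux j
  have h2 : {q | q ∈ A ∧ Function.minimalPeriod x q ≤ 2 ^ j} = A := by
    ext q
    simp only [Set.mem_ofPred_eq]
    constructor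
    · exact fun h => h.1
    · intro h
      exact ⟨h, hj ▸ hmax q h⟩
  rw [h2] at h1
  rw [hj]
  rw [pow_succ] at h1
  omega

theorem Good.ncard_le_two_mul [Finite α] {A : Set α} {x : Perm α} (hx : Good A x) {p₁ : α}
    (hmax : ∀ q ∈ A, Function.minimalPeriod x q ≤ Function.minimalPeriod x p₁) :
    A.ncard ≤ 2 * Function.minimalPeriod x p₁ := by
  have h1 := hx.ncard_add_two_le hmax
  have h2 := hx.fixed
  omega

/-- existence of a point of maximal period -/
theorem exists_max_period [Finite α] (x : Perm α) {A : Set α} (hA : A.Nonempty) :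
    ∃ p₁ ∈ A, ∀ q ∈ A, Function.minimalPeriod x q ≤ Function.minimalPeriod x p₁ := by
  obtain ⟨p₁, hp₁, hmax⟩ := Set.exists_max_image A (fun q => Function.minimalPeriod x q)
    (Set.toFinite A) hA
  exact ⟨p₁, hp₁, hmax⟩

/-- odd-order trick -/
theorem mem_of_sq_mem {G : Type*} [Group G] (H : Subgroup G) {g : G} (h2 : g ^ 2 ∈ H) {m : ℕ}
    (hm : Odd m) (hgm : g ^ m = 1) : g ∈ H := by
  obtain ⟨k, rfl⟩ := hm
  have : g = (g ^ 2) ^ (k + 1) * (g ^ (2 * k + 1))⁻¹ := by
    rw [← pow_mul, show 2 * (k + 1) = 1 + (2 * k + 1) from by ring, pow_add, pow_one,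
      mul_inv_cancel_right]
  rw [this, hgm, inv_one, mul_one]
  exact H.pow_mem h2 _

/-- if `|A| ≤ 1` then `YY A` is trivial. -/
theorem eq_one_of_ncard_le_one [Finite α] {A : Set α} (hA : A.ncard ≤ 1) {h : Perm α}
    (hh : h ∈ YY A) : h = 1 := by
  ext a
  by_cases ha : a ∈ A
  · have h1 := apply_mem_of_mem_YY hh ha
    rw [Set.ncard_le_one_iff (Set.toFinite A)] at hA
    exact hA h1 ha
  · exact hh a ha

end Cfsg.Agent.Helper20.SylSym
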