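import Mathlib
import Cfsg.Agent.Helper20.SylSymB
import Cfsg.Agent.Helper20.KulA

set_option autoImplicit false

/-!
# 2-elements of symmetric groups lying in a unique Sylow 2-subgroup (helper20), part C

Orbits of a 2-subgroup containing a `Good` permutation; the non-transitive case; blocks.
-/

namespace Cfsg.Agent.Helper20.SylSym

open Equiv

variable {α : Type*}

/-- orbit of `p` under a subgroup `D` of permutations, as a set. -/
def orb (D : Subgroup (Perm α)) (p : α) : Set α := {a | ∃ d ∈ D, d p = a}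

theorem mem_orb {D : Subgroup (Perm α)} {p a : α} : a ∈ orb D p ↔ ∃ d ∈ D, d p = a := Iff.rfl

theorem self_mem_orb (D : Subgroup (Perm α)) (p : α) : p ∈ orb D p := ⟨1, D.one_mem, rfl⟩

theorem orb_eq_orbit (D : Subgroup (Perm α)) (p : α) : orb D p = MulAction.orbit D p := by
  ext a
  constructor
  · rintro ⟨d, hd, rfl⟩
    exact ⟨⟨d, hd⟩, rfl⟩
  · rintro ⟨d, rfl⟩
    exact ⟨d.1, d.2, rfl⟩

theorem ncard_orb_two_pow [Finite α] {D : Subgroup (Perm α)} (hD : IsPGroup 2 D) (p : α) :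
    ∃ j : ℕ, (orb D p).ncard = 2 ^ j := by
  have : Fact (Nat.Prime 2) := ⟨Nat.prime_two⟩
  obtain ⟨j, hj⟩ := hD.card_orbit p
  refine ⟨j, ?_⟩
  rw [orb_eq_orbit, ← Nat.card_coe_set_eq]
  exact hj

theorem mem_StabS_orb {D : Subgroup (Perm α)} {d : Perm α} (hd : d ∈ D) (p : α) :
    d ∈ StabS (orb D p) := by
  intro a
  constructor
  · rintro ⟨e, he, hea⟩
    refine ⟨d⁻¹ * e, D.mul_mem (D.inv_mem hd) he, ?_⟩
    rw [Perm.mul_apply, hea]
    simp
  · rintro ⟨e, he, rfl⟩
    exact ⟨d * e, D.mul_mem hd he, rfl⟩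

theorem orb_subset {D : Subgroup (Perm α)} {S : Set α} (hD : D ≤ StabS S) {p : α} (hp : p ∈ S) :
    orb D p ⊆ S := by
  rintro a ⟨d, hd, rfl⟩
  exact ((hD hd) p).2 hp

theorem cyc_subset_orb {D : Subgroup (Perm α)} {x : Perm α} (hx : x ∈ D) (p : α) :
    cyc x p ⊆ orb D p :=
  cyc_subset (mem_StabS_orb hx p) (self_mem_orb D p)

theorem mem_StabS_orb_of_normalizer [Finite α] {D : Subgroup (Perm α)} {g : Perm α}
    (hg : g ∈ Subgroup.normalizer (D : Set (Perm α))) {p : α} (hgp : g p ∈ orb D p) : g ∈ StabS (orb D p) := by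
  apply mem_StabS_of_image_eq
  apply Set.eq_of_subset_of_ncard_le
  · rintro _ ⟨a, ⟨d, hd, rfl⟩, rfl⟩
    obtain ⟨e, he, hep⟩ := hgp
    refine ⟨g * d * g⁻¹ * e, D.mul_mem ((Subgroup.mem_normalizer_iff.1 hg d).1 hd) he, ?_⟩
    simp [Perm.mul_apply, hep]
  · rw [Set.ncard_image_of_injective _ g.injective]
  · exact Set.toFinite _

theorem disjoint_image_orb {D : Subgroup (Perm α)} {g : Perm α}
    (hg : g ∈ Subgroup.normalizer (D : Set (Perm α))) {p : α} (hgp : g p ∉ orb D p) : Disjoint (orb D p) (g '' orb D p) := by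
  rw [Set.disjoint_left]
  rintro a ⟨e, he, rfl⟩ ⟨b, ⟨d, hd, rfl⟩, hb⟩
  apply hgp
  refine ⟨g * d⁻¹ * g⁻¹ * e, D.mul_mem ((Subgroup.mem_normalizer_iff.1 hg d⁻¹).1 (D.inv_mem hd)) he,
    ?_⟩
  simp only [Perm.mul_apply]
  rw [← hb]
  simp

/-- **Non-transitive case**: `h` stabilizes the `D`-orbit of a point of maximal period. -/
theorem caseN_mem_StabS [Finite α] {A : Set α} {x h : Perm α} {D : Subgroup (Perm α)}
    (hx : Good A x) (hDA : D ≤ YY A) (hxD : x ∈ D) (hhA : h ∈ YY A) (hhN : h ∈ Subgroup.normalizer (D : Set (Perm α)))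
    {m : ℕ} (hm : Odd m) (hhm : h ^ m = 1) {p₁ : α} (hp₁ : p₁ ∈ A)
    (hmax : ∀ q ∈ A, Function.minimalPeriod x q ≤ Function.minimalPeriod x p₁) :
    h ∈ StabS (orb D p₁) := by
  by_contra hcon
  have hhp : h p₁ ∉ orb D p₁ := fun h' => hcon (mem_StabS_orb_of_normalizer hhN h')
  have hOA : orb D p₁ ⊆ A := orb_subset (hDA.trans (YY_le_StabS A)) hp₁
  have hhOA : h '' orb D p₁ ⊆ A := by
    rintro _ ⟨a, ha, rfl⟩
    exact apply_mem_of_mem_YY hhA (hOA ha)
  have hdisj := disjoint_image_orb hhN hhp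
  have hL : Function.minimalPeriod x p₁ ≤ (orb D p₁).ncard := by
    rw [← ncard_cyc]
    exact Set.ncard_le_ncard (cyc_subset_orb hxD p₁) (Set.toFinite _)
  have h2L := hx.ncard_le_two_mul hmax
  have hunion : orb D p₁ ∪ h '' orb D p₁ = A := by
    apply Set.eq_of_subset_of_ncard_le (Set.union_subset hOA hhOA)
    rw [Set.ncard_union_eq hdisj (Set.toFinite _) (Set.toFinite _),
      Set.ncard_image_of_injective _ h.injective]
    omega
  have h2p : (h ^ 2) p₁ ∈ orb D p₁ := by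
    have h3 : (h ^ 2) p₁ ∈ A := apply_mem_of_mem_YY ((YY A).pow_mem hhA 2) hp₁
    rw [← hunion] at h3
    rcases h3 with h3 | ⟨a, ha, h3⟩
    · exact h3
    · exfalso
      apply hhp
      rw [pow_two, Perm.mul_apply] at h3
      rw [← h.injective h3]
      exact ha
  have h2S : h ^ 2 ∈ StabS (orb D p₁) :=
    mem_StabS_orb_of_normalizer ((Subgroup.normalizer (D : Set (Perm α))).pow_mem hhN 2) h2p
  have := mem_of_sq_mem (StabS (orb D p₁)) h2S hm hhm
  exact hcon this

/-- **Block lemma**: a transitive 2-group on at least two points has an invariant halving. -/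
theorem exists_block [Finite α] {D : Subgroup (Perm α)} (hD : IsPGroup 2 D) {p : α}
    (h2 : 2 ≤ (orb D p).ncard) :
    ∃ B : Set α, p ∈ B ∧ B ⊆ orb D p ∧ 2 * B.ncard = (orb D p).ncard ∧
      ∀ d ∈ D, d ∈ StabS B ∨ d '' B = orb D p \ B := by
  have : Fact (Nat.Prime 2) := ⟨Nat.prime_two⟩
  have hK : MulAction.stabilizer D p ≠ ⊤ := by
    intro htop
    have : orb D p = {p} := by
      ext a
      constructor
      · rintro ⟨d, hd, rfl⟩
        have h1 : (⟨d, hd⟩ : D) ∈ MulAction.stabilizer D p := by rw [htop]; trivial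
        exact MulAction.mem_stabilizer_iff.1 h1
      · rintro rfl
        exact self_mem_orb D a
    rw [this, Set.ncard_singleton] at h2
    omega
  obtain ⟨M, hKM, hM⟩ := Cfsg.Agent.Helper20.exists_index_p_ge hD hK
  have hMD : ∀ {d : D} {m : D}, m ∈ M → (d * m ∈ M ↔ d ∈ M) := by
    intro d m hm
    exact ⟨fun h => by simpa using M.mul_mem h (M.inv_mem hm), fun h => M.mul_mem h hm⟩
  set B : Set α := {a | ∃ m : D, m ∈ M ∧ (m : Perm α) p = a} with hB
  have hpB : p ∈ B := ⟨1, M.one_mem, rfl⟩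
  have hBsub : B ⊆ orb D p := by
    rintro a ⟨m, _, rfl⟩
    exact ⟨m.1, m.2, rfl⟩
  have hMB : ∀ m : D, m ∈ M → (m : Perm α) ∈ StabS B := by
    intro m hm a
    constructor
    · rintro ⟨e, he, hea⟩
      refine ⟨m⁻¹ * e, M.mul_mem (M.inv_mem hm) he, ?_⟩
      rw [Subgroup.coe_mul, Perm.mul_apply, hea]
      simp
    · rintro ⟨e, he, rfl⟩
      exact ⟨m * e, M.mul_mem hm he, rfl⟩
  have hnot : ∀ d : D, d ∉ M → (d : Perm α) '' B = orb D p \ B := by
    intro d hd
    ext a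
    constructor
    · rintro ⟨b, ⟨m, hm, rfl⟩, rfl⟩
      refine ⟨⟨(d * m : D), (d * m : D).2, rfl⟩, ?_⟩
      rintro ⟨m', hm', hmm'⟩
      have h1 : m'⁻¹ * d * m ∈ MulAction.stabilizer D p := by
        rw [MulAction.mem_stabilizer_iff]
        show ((m'⁻¹ * d * m : D) : Perm α) p = p
        simp only [Subgroup.coe_mul, Perm.mul_apply, Subgroup.coe_inv]
        rw [← hmm']
        simp
      have h2 := hKM h1
      apply hd
      have h3 : d = m' * (m'⁻¹ * d * m) * m⁻¹ := by group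
      rw [h3]
      exact M.mul_mem (M.mul_mem hm' h2) (M.inv_mem hm)
    · rintro ⟨⟨g, hg, rfl⟩, hnB⟩
      have hgM : (⟨g, hg⟩ : D) ∉ M := fun h' => hnB ⟨⟨g, hg⟩, h', rfl⟩
      have h1 : d⁻¹ * ⟨g, hg⟩ ∈ M := by
        rw [Subgroup.mul_mem_iff_of_index_two hM]
        constructor
        · intro h'
          exact absurd (M.inv_mem_iff.1 h') hd
        · intro h'
          exact absurd h' hgM
      refine ⟨((d⁻¹ * ⟨g, hg⟩ : D) : Perm α) p, ⟨_, h1, rfl⟩, ?_⟩
      simp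
  refine ⟨B, hpB, hBsub, ?_, ?_⟩
  · have hMtop : M ≠ ⊤ := by
      intro h
      rw [← Subgroup.index_eq_one, hM] at h
      omega
    obtain ⟨d, hd⟩ : ∃ d : D, d ∉ M := by
      by_contra hcon
      push Not at hcon
      exact hMtop ((Subgroup.eq_top_iff' M).2 hcon)
    have h1 := Set.ncard_sdiff_add_ncard_of_subset hBsub (Set.toFinite _)
    rw [← hnot d hd, Set.ncard_image_of_injective _ (d : Perm α).injective] at h1
    omega
  · intro d hd
    by_cases hdM : (⟨d, hd⟩ : D) ∈ M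
    · left
      exact hMB ⟨d, hd⟩ hdM
    · right
      exact hnot ⟨d, hd⟩ hdM

end Cfsg.Agent.Helper20.SylSym
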