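import Mathlib
import Cfsg.Agent.Helper20.SylSymC

set_option autoImplicit false

/-!
# 2-elements of symmetric groups lying in a unique Sylow 2-subgroup (helper20), part D

Halvings swapped by a `Good` permutation; uniqueness of invariant halvings.
-/

namespace Cfsg.Agent.Helper20.SylSym

open Equiv

variable {α : Type*}

theorem image_eq_of_mem_YY {A : Set α} {g : Perm α} (hg : g ∈ YY A) : g '' A = A :=
  image_eq_of_mem_StabS (YY_le_StabS A hg)

/-- if `g` maps `B` onto `A \ B` then it maps `A \ B` onto `B`. -/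
theorem swap_symm {A B : Set α} {g : Perm α} (hg : g ∈ YY A) (hBA : B ⊆ A)
    (hsw : g '' B = A \ B) : g '' (A \ B) = B := by
  rw [Set.image_sdiff g.injective, image_eq_of_mem_YY hg, hsw, Set.sdiff_sdiff_cancel_left hBA]

theorem swap_symm' {A B : Set α} {g : Perm α} (hg : g ∈ YY A) (hBA : B ⊆ A)
    (hsw : g '' B = A \ B) : g '' (A \ B) = A \ (A \ B) := by
  rw [swap_symm hg hBA hsw, Set.sdiff_sdiff_cancel_left hBA]

theorem apply_mem_iff_of_swap {A B : Set α} {g : Perm α} (hg : g ∈ YY A) (hBA : B ⊆ A)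
    (hsw : g '' B = A \ B) {a : α} (ha : a ∈ A) : g a ∈ B ↔ a ∉ B := by
  constructor
  · intro h1 h2
    have : g a ∈ A \ B := by rw [← hsw]; exact ⟨a, h2, rfl⟩
    exact this.2 h1
  · intro h1
    rw [← swap_symm hg hBA hsw]
    exact ⟨a, ⟨ha, h1⟩, rfl⟩

theorem sq_mem_StabS_of_swap [Finite α] {A B : Set α} {g : Perm α} (hg : g ∈ YY A) (hBA : B ⊆ A)
    (hsw : g '' B = A \ B) : g ^ 2 ∈ StabS B := by
  apply mem_StabS_of_image_eq
  rw [pow_two, Perm.coe_mul, Set.image_comp, hsw, swap_symm hg hBA hsw]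

theorem pow_apply_mem_iff_of_swap {A B : Set α} {g : Perm α} (hg : g ∈ YY A) (hBA : B ⊆ A)
    (hsw : g '' B = A \ B) {a : α} (ha : a ∈ A) (n : ℕ) : (g ^ n) a ∈ B ↔ (a ∈ B ↔ Even n) := by
  induction n with
  | zero => simp
  | succ n ih =>
    rw [pow_succ', Perm.mul_apply,
      apply_mem_iff_of_swap hg hBA hsw (apply_mem_of_mem_YY ((YY A).pow_mem hg n) ha), ih,
      Nat.even_add_one]
    tauto

theorem no_fixed_of_swap {A B : Set α} {g : Perm α} (hg : g ∈ YY A) (hBA : B ⊆ A)
    (hsw : g '' B = A \ B) {a : α} (ha : a ∈ A) : g a ≠ a := by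
  intro h
  have := apply_mem_iff_of_swap hg hBA hsw ha
  rw [h] at this
  tauto

theorem pow_two_mul_apply (x : Perm α) (k : ℕ) (p : α) : ((x ^ 2) ^ k) p = (x ^ (2 * k)) p := by
  rw [← pow_mul]

theorem Good.sq_restrict [Finite α] {A B : Set α} {x : Perm α} (hx : Good A x) (hBA : B ⊆ A)
    (hsw : x '' B = A \ B) : Good B (resP B (x ^ 2)) := by
  have hxA := hx.mem
  have hx2 := sq_mem_StabS_of_swap hxA hBA hsw
  -- same cycle for points of `B` with equal `x`-period
  have key : ∀ p ∈ B, ∀ q ∈ B, Function.minimalPeriod x p = Function.minimalPeriod x q →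
      ∃ k : ℕ, ((x ^ 2) ^ k) p = q := by
    intro p hp q hq hper
    have hsc : x.SameCycle p q := by
      by_contra hnot
      have := hx.distinct p (hBA hp) q (hBA hq) hnot hper
      exact no_fixed_of_swap hxA hBA hsw (hBA hp) this.1
    obtain ⟨i, hi⟩ := Equiv.Perm.SameCycle.exists_nat_pow_eq hsc
    have h1 := pow_apply_mem_iff_of_swap hxA hBA hsw (hBA hp) i
    rw [hi] at h1
    obtain ⟨k, hk⟩ := (h1.1 hq).1 hp
    refine ⟨k, ?_⟩
    rw [pow_two_mul_apply, ← hi, hk, two_mul]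
  refine ⟨resP_mem_YY B _, ?_, ?_, ?_⟩
  · obtain ⟨k, hk⟩ := hx.two
    refine ⟨k, ?_⟩
    rw [← resP_pow hx2, ← pow_mul, mul_comm, pow_mul, hk, one_pow, resP_one]
  · intro p hp q hq hpq hper
    exfalso
    apply hpq
    rw [minimalPeriod_resP hx2 hp, minimalPeriod_resP hx2 hq] at hper
    have hper' : Function.minimalPeriod x p = Function.minimalPeriod x q := by
      rw [Function.minimalPeriod_eq_minimalPeriod_iff] at hper ⊢
      intro n
      unfold Function.IsPeriodicPt Function.IsFixedPt at hper ⊢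
      simp only [Equiv.Perm.iterate_eq_pow] at hper ⊢
      rcases Nat.even_or_odd n with ⟨k, hk⟩ | hodd
      · have := hper k
        rw [pow_two_mul_apply, pow_two_mul_apply] at this
        rw [hk, ← two_mul]
        exact this
      · have h1 := pow_apply_mem_iff_of_swap hxA hBA hsw (hBA hp) n
        have h2 := pow_apply_mem_iff_of_swap hxA hBA hsw (hBA hq) n
        have hne : ¬ Even n := Nat.not_even_iff_odd.2 hodd
        constructor
        · intro h3
          rw [h3] at h1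
          exact absurd ((h1.1 hp).1 hp) hne
        · intro h3
          rw [h3] at h2
          exact absurd ((h2.1 hq).1 hq) hne
    obtain ⟨k, hk⟩ := key p hp q hq hper'
    apply sameCycle_resP hx2 hp
    exact ⟨(k : ℤ), by simpa using hk⟩
  · have hsub : {p | p ∈ B ∧ (resP B (x ^ 2)) p = p}.ncard ≤ 1 := by
      rw [Set.ncard_le_one (Set.toFinite _)]
      rintro p ⟨hp, hpf⟩ q ⟨hq, hqf⟩
      rw [resP_apply_mem hx2 hp] at hpf
      rw [resP_apply_mem hx2 hq] at hqf
      have hper : ∀ r ∈ B, (x ^ 2) r = r → Function.minimalPeriod x r = 2 := by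
        intro r hr hrf
        have h1 := (pow_apply_eq_iff_dvd x r 2).1 hrf
        have h2 : Function.minimalPeriod x r ≠ 1 := by
          intro h3
          exact no_fixed_of_swap hxA hBA hsw (hBA hr)
            (Function.minimalPeriod_eq_one_iff_isFixedPt.1 h3)
        rcases (Nat.dvd_prime Nat.prime_two).1 h1 with h3 | h3
        · exact absurd h3 h2
        · exact h3
      obtain ⟨k, hk⟩ := key p hp q hq (by rw [hper p hp hpf, hper q hq hqf])
      rw [← hk, Equiv.Perm.pow_apply_eq_self_of_apply_eq_self hpf]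
    omega

/-- type (i): an `x`-invariant half containing a point of maximal period is its cycle. -/
theorem half_eq_cyc [Finite α] {A B : Set α} {x : Perm α} (hx : Good A x) {p₁ : α}
    (hmax : ∀ q ∈ A, Function.minimalPeriod x q ≤ Function.minimalPeriod x p₁)
    (hB2 : 2 * B.ncard = A.ncard) (hxB : x ∈ StabS B) (hpB : p₁ ∈ B) : B = cyc x p₁ := by
  symm
  apply Set.eq_of_subset_of_ncard_le (cyc_subset hxB hpB) _ (Set.toFinite _)
  rw [ncard_cyc]
  have := hx.ncard_le_two_mul hmax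
  omega

/-- type (ii): if `x` swaps the halves of `A`, and `|A|` is a power of two, then `A` is one
cycle. -/
theorem eq_cyc_of_swap [Finite α] {A B : Set α} {x : Perm α} (hx : Good A x) {p₁ : α}
    (hp₁ : p₁ ∈ A)
    (hmax : ∀ q ∈ A, Function.minimalPeriod x q ≤ Function.minimalPeriod x p₁)
    {e : ℕ} (he : A.ncard = 2 ^ e) (hBA : B ⊆ A) (hsw : x '' B = A \ B) : A = cyc x p₁ := by
  symm
  have hsub : cyc x p₁ ⊆ A := cyc_subset (YY_le_StabS A hx.mem) hp₁
  apply Set.eq_of_subset_of_ncard_le hsub _ (Set.toFinite _)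
  have h1 := hx.ncard_add_two_le hmax
  have h0 : {p | p ∈ A ∧ x p = p} = ∅ := by
    ext a
    simp only [Set.mem_ofPred_eq, Set.mem_empty_iff_false, iff_false, not_and]
    intro ha
    exact no_fixed_of_swap hx.mem hBA hsw ha
  rw [h0, Set.ncard_empty, zero_add] at h1
  rw [ncard_cyc]
  obtain ⟨k, hk⟩ := hx.two
  obtain ⟨j, _, hj⟩ := minimalPeriod_eq_two_pow hk p₁
  rw [hj, he] at h1 ⊢
  have h2 : 2 ^ e < 2 ^ (j + 1) := by rw [pow_succ]; omega
  have h3 : e < j + 1 := (Nat.pow_lt_pow_iff_right (by norm_num)).1 h2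
  exact Nat.pow_le_pow_right (by norm_num) (by omega)

/-- two swapped halves containing the same point of a single cycle coincide. -/
theorem swap_half_unique {A B B' : Set α} {x : Perm α} (hxA : x ∈ YY A) {p₁ : α}
    [Finite α] (hA : A = cyc x p₁) (hp₁ : p₁ ∈ A)
    (hBA : B ⊆ A) (hsw : x '' B = A \ B) (hpB : p₁ ∈ B)
    (hBA' : B' ⊆ A) (hsw' : x '' B' = A \ B') (hpB' : p₁ ∈ B') : B ⊆ B' := by
  intro q hq
  have hqA : q ∈ cyc x p₁ := hA ▸ hBA hq
  obtain ⟨i, hi⟩ := Equiv.Perm.SameCycle.exists_nat_pow_eq hqA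
  have h1 := pow_apply_mem_iff_of_swap hxA hBA hsw hp₁ i
  have h2 := pow_apply_mem_iff_of_swap hxA hBA' hsw' hp₁ i
  rw [hi] at h1 h2
  exact h2.2 ⟨fun _ => (h1.1 hq).1 hpB, fun _ => hpB'⟩

/-- **Uniqueness of invariant halvings** (both halves containing `p₁`). -/
theorem halving_unique [Finite α] {A B B' : Set α} {x : Perm α} (hx : Good A x) {p₁ : α}
    (hp₁ : p₁ ∈ A)
    (hmax : ∀ q ∈ A, Function.minimalPeriod x q ≤ Function.minimalPeriod x p₁)
    {e : ℕ} (he : A.ncard = 2 ^ e)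
    (hBA : B ⊆ A) (hB2 : 2 * B.ncard = A.ncard) (hxB : x ∈ StabS B ∨ x '' B = A \ B)
    (hpB : p₁ ∈ B)
    (hBA' : B' ⊆ A) (hB2' : 2 * B'.ncard = A.ncard) (hxB' : x ∈ StabS B' ∨ x '' B' = A \ B')
    (hpB' : p₁ ∈ B') : B = B' := by
  have hL := minimalPeriod_pos x p₁
  rcases hxB with h1 | h1
  · have e1 := half_eq_cyc hx hmax hB2 h1 hpB
    rcases hxB' with h2 | h2
    · rw [e1, half_eq_cyc hx hmax hB2' h2 hpB']
    · exfalso
      have e2 := eq_cyc_of_swap hx hp₁ hmax he hBA' h2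
      rw [e1, e2, ncard_cyc] at hB2
      omega
  · have e1 := eq_cyc_of_swap hx hp₁ hmax he hBA h1
    rcases hxB' with h2 | h2
    · exfalso
      have e2 := half_eq_cyc hx hmax hB2' h2 hpB'
      rw [e2] at hB2'
      rw [e1] at hB2'
      rw [ncard_cyc] at hB2'
      omega
    · exact Set.Subset.antisymm
        (swap_half_unique hx.mem e1 hp₁ hBA h1 hpB hBA' h2 hpB')
        (swap_half_unique hx.mem e1 hp₁ hBA' h2 hpB' hBA h1 hpB)

end Cfsg.Agent.Helper20.SylSym
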