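import Mathlib
import Cfsg.Agent.Helper20.SylSymD

set_option autoImplicit false

/-!
# 2-elements of symmetric groups lying in a unique Sylow 2-subgroup (helper20), part E

The transitive case, and the main induction: an odd-order permutation normalizing a 2-group
that contains a `Good` permutation is trivial.
-/

namespace Cfsg.Agent.Helper20.SylSym

open Equiv

variable {α : Type*}

/-- **Transitive case** -/
theorem caseT [Finite α] {A : Set α} {x h : Perm α} {D : Subgroup (Perm α)}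
    (hx : Good A x) (hD : IsPGroup 2 D) (hxD : x ∈ D) (hhA : h ∈ YY A)
    (hhN : h ∈ Subgroup.normalizer (D : Set (Perm α)))
    {m : ℕ} (hm : Odd m) (hhm : h ^ m = 1) {p₁ : α} (hp₁ : p₁ ∈ A)
    (hmax : ∀ q ∈ A, Function.minimalPeriod x q ≤ Function.minimalPeriod x p₁)
    (htr : orb D p₁ = A) (h2 : 2 ≤ A.ncard) :
    ∃ S ⊆ A, S.ncard < A.ncard ∧ (A \ S).ncard < A.ncard ∧ h ∈ StabS S ∧
      ∃ x' ∈ D, x' ∈ StabS S ∧ Good S (resP S x') ∧ Good (A \ S) (resP (A \ S) x') := by
  obtain ⟨e, he⟩ := ncard_orb_two_pow hD p₁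
  rw [htr] at he
  obtain ⟨B, hpB, hBsub, hB2, hBD⟩ := exists_block hD (p := p₁) (by rw [htr]; exact h2)
  rw [htr] at hBsub hB2 hBD
  have hxA := hx.mem
  have hxB := hBD x hxD
  have hinv : h⁻¹ ∈ Subgroup.normalizer (D : Set (Perm α)) := inv_mem hhN
  have hB'D : ∀ d ∈ D, d ∈ StabS (h '' B) ∨ d '' (h '' B) = A \ (h '' B) := by
    intro d hd
    have hd' : h⁻¹ * d * h ∈ D := by
      have := (Subgroup.mem_normalizer_iff.1 hinv d).1 hd
      simpa using this
    have e1 : d '' (h '' B) = h '' ((h⁻¹ * d * h : Perm α) '' B) := by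
      rw [← Set.image_comp, ← Set.image_comp]
      congr 1
      ext a
      simp
    rcases hBD _ hd' with h1 | h1
    · left
      apply mem_StabS_of_image_eq
      rw [e1, image_eq_of_mem_StabS h1]
    · right
      rw [e1, h1, Set.image_sdiff h.injective, image_eq_of_mem_YY hhA]
  have hhBA : h '' B ⊆ A := by
    rintro _ ⟨a, ha, rfl⟩
    exact apply_mem_of_mem_YY hhA (hBsub ha)
  have hhB2 : 2 * (h '' B).ncard = A.ncard := by
    rw [Set.ncard_image_of_injective _ h.injective]
    exact hB2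
  have hdiff : ∀ {S : Set α}, S ⊆ A → 2 * S.ncard = A.ncard → 2 * (A \ S).ncard = A.ncard := by
    intro S hS hS2
    have := Set.ncard_sdiff_add_ncard_of_subset hS (Set.toFinite _)
    omega
  have htype : ∀ {S : Set α}, S ⊆ A → (x ∈ StabS S ∨ x '' S = A \ S) →
      (x ∈ StabS (A \ S) ∨ x '' (A \ S) = A \ (A \ S)) := by
    intro S hS hxS
    rcases hxS with h1 | h1
    · left
      exact mem_StabS_diff (YY_le_StabS A hxA) h1
    · right
      exact swap_symm' hxA hS h1
  have hcase : h '' B = B ∨ h '' B = A \ B := by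
    by_cases hp' : p₁ ∈ h '' B
    · left
      exact (halving_unique hx hp₁ hmax he hBsub hB2 hxB hpB hhBA hhB2 (hB'D x hxD) hp').symm
    · right
      have hp'' : p₁ ∈ A \ (h '' B) := ⟨hp₁, hp'⟩
      have := halving_unique hx hp₁ hmax he hBsub hB2 hxB hpB Set.sdiff_subset
        (hdiff hhBA hhB2) (htype hhBA (hB'D x hxD)) hp''
      have h3 : A \ B = h '' B := by
        conv_lhs => rw [this]
        exact Set.sdiff_sdiff_cancel_left hhBA
      exact h3.symm
  have hhB : h ∈ StabS B := by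
    rcases hcase with h1 | h1
    · exact mem_StabS_of_image_eq h1
    · exact mem_of_sq_mem (StabS B) (sq_mem_StabS_of_swap hhA hBsub h1) hm hhm
  have hBpos : 0 < B.ncard := (Set.ncard_pos (Set.toFinite _)).2 ⟨p₁, hpB⟩
  have hd2 := Set.ncard_sdiff_add_ncard_of_subset hBsub (Set.toFinite _)
  refine ⟨B, hBsub, by omega, by omega, hhB, ?_⟩
  rcases hxB with h1 | h1
  · exact ⟨x, hxD, h1, hx.restrict hBsub h1,
      hx.restrict Set.sdiff_subset (mem_StabS_diff (YY_le_StabS A hxA) h1)⟩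
  · refine ⟨x ^ 2, D.pow_mem hxD 2, sq_mem_StabS_of_swap hxA hBsub h1, hx.sq_restrict hBsub h1,
      hx.sq_restrict Set.sdiff_subset (swap_symm' hxA hBsub h1)⟩

/-- restriction step in the induction -/
theorem restrict_step [Finite α] {S : Set α} {h x' : Perm α} {D : Subgroup (Perm α)} {m : ℕ}
    (ih : ∀ (x h : Perm α) (D : Subgroup (Perm α)) (m : ℕ), Good S x → D ≤ YY S →
      IsPGroup 2 D → x ∈ D → h ∈ YY S → h ∈ Subgroup.normalizer (D : Set (Perm α)) → Odd m →
      h ^ m = 1 → h = 1)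
    (hD : IsPGroup 2 D) (hhN : h ∈ Subgroup.normalizer (D : Set (Perm α))) (hm : Odd m)
    (hhm : h ^ m = 1) (hhS : h ∈ StabS S) (hx'D : x' ∈ D) (hx'S : x' ∈ StabS S)
    (hG : Good S (resP S x')) : resP S h = 1 := by
  apply ih (resP S x') (resP S h) ((D.subgroupOf (StabS S)).map (resHom S)) m hG
  · rintro _ ⟨d, _, rfl⟩
    exact resP_mem_YY S d
  · exact (hD.comap_subtype).map _
  · exact ⟨⟨x', hx'S⟩, Subgroup.mem_subgroupOf.2 hx'D, rfl⟩
  · exact resP_mem_YY S h
  · apply Subgroup.le_normalizer_map (resHom S)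
    refine ⟨⟨h, hhS⟩, ?_, rfl⟩
    rw [SetLike.mem_coe, Subgroup.mem_normalizer_iff]
    intro g
    rw [Subgroup.mem_subgroupOf, Subgroup.mem_subgroupOf]
    exact Subgroup.mem_normalizer_iff.1 hhN g
  · exact hm
  · rw [← resP_pow hhS, hhm, resP_one]

/-- **Main lemma (⋆)**: an odd-order element normalizing a 2-subgroup `D ≤ Sym(A)` which contains
a `Good` permutation is trivial. -/
theorem star [Finite α] : ∀ (n : ℕ) (A : Set α) (x h : Perm α) (D : Subgroup (Perm α)) (m : ℕ),
    A.ncard = n → Good A x → D ≤ YY A → IsPGroup 2 D → x ∈ D → h ∈ YY A →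
    h ∈ Subgroup.normalizer (D : Set (Perm α)) → Odd m → h ^ m = 1 → h = 1 := by
  intro n
  induction n using Nat.strong_induction_on with
  | _ n ih =>
    intro A x h D m hn hx hDA hD hxD hhA hhN hm hhm
    by_cases h1 : A.ncard ≤ 1
    · exact eq_one_of_ncard_le_one h1 hhA
    have hne : A.Nonempty := by
      rw [← Set.ncard_pos (Set.toFinite _)]
      omega
    obtain ⟨p₁, hp₁, hmax⟩ := exists_max_period x hne
    obtain ⟨S, hSA, hS1, hS2, hhS, x', hx'D, hx'S, hG1, hG2⟩ : ∃ S ⊆ A, S.ncard < A.ncard ∧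
        (A \ S).ncard < A.ncard ∧ h ∈ StabS S ∧
        ∃ x' ∈ D, x' ∈ StabS S ∧ Good S (resP S x') ∧ Good (A \ S) (resP (A \ S) x') := by
      by_cases htr : orb D p₁ = A
      · exact caseT hx hD hxD hhA hhN hm hhm hp₁ hmax htr (by omega)
      · have hOA : orb D p₁ ⊆ A := orb_subset (hDA.trans (YY_le_StabS A)) hp₁
        have hlt : (orb D p₁).ncard < A.ncard :=
          Set.ncard_lt_ncard (lt_of_le_of_ne hOA htr) (Set.toFinite _)
        have hpos : 0 < (orb D p₁).ncard :=
          (Set.ncard_pos (Set.toFinite _)).2 ⟨p₁, self_mem_orb D p₁⟩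
        have hd2 := Set.ncard_sdiff_add_ncard_of_subset hOA (Set.toFinite _)
        have hxO := mem_StabS_orb hxD p₁
        exact ⟨orb D p₁, hOA, hlt, by omega,
          caseN_mem_StabS hx hDA hxD hhA hhN hm hhm hp₁ hmax, x, hxD, hxO,
          hx.restrict hOA hxO,
          hx.restrict Set.sdiff_subset (mem_StabS_diff (YY_le_StabS A hx.mem) hxO)⟩
    have hhAS : h ∈ StabS (A \ S) := mem_StabS_diff (YY_le_StabS A hhA) hhS
    have hx'AS : x' ∈ StabS (A \ S) := mem_StabS_diff (YY_le_StabS A (hDA hx'D)) hx'S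
    have e1 : resP S h = 1 :=
      restrict_step (fun x h D m => ih S.ncard (hn ▸ hS1) S x h D m rfl) hD hhN hm hhm hhS hx'D
        hx'S hG1
    have e2 : resP (A \ S) h = 1 :=
      restrict_step (fun x h D m => ih (A \ S).ncard (hn ▸ hS2) (A \ S) x h D m rfl) hD hhN hm hhm
        hhAS hx'D hx'AS hG2
    exact eq_one_of_resP_eq_one hhA hhS e1 e2

end Cfsg.Agent.Helper20.SylSym
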