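import Mathlib
import Cfsg.Agent.Helper20.SylSymE

set_option autoImplicit false

/-!
# 2-elements of symmetric groups lying in a unique Sylow 2-subgroup (helper20), part F

Uniqueness of the Sylow 2-subgroup containing a `Good` permutation (tame intersection argument).
-/

namespace Cfsg.Agent.Helper20.SylSym

open Equiv

variable {α : Type*}

/-- normalizers grow in `p`-subgroups of an arbitrary group -/
theorem exists_normalizing_of_lt_of_isPGroup {G : Type*} [Group G] {p : ℕ} [Fact p.Prime]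
    {H K : Subgroup G} [Finite K] (hK : IsPGroup p K) (hHK : H < K) :
    ∃ k ∈ K, k ∈ Subgroup.normalizer (H : Set G) ∧ k ∉ H := by
  have : Group.IsNilpotent K := hK.isNilpotent
  have hlt : H.subgroupOf K < ⊤ := by
    rw [lt_top_iff_ne_top]
    intro h0
    rw [Subgroup.subgroupOf_eq_top] at h0
    exact absurd (le_antisymm hHK.le h0) hHK.ne
  have h1 := Group.normalizerCondition_of_isNilpotent (H.subgroupOf K) hlt
  obtain ⟨k, hkN, hkH⟩ := SetLike.exists_of_lt h1
  rw [← Subgroup.subgroupOf_normalizer_eq hHK.le] at hkN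
  exact ⟨k, k.2, hkN, hkH⟩

/-- the normalizer of a 2-subgroup containing a `Good` permutation is a 2-group -/
theorem isPGroup_normalizer [Finite α] {x : Perm α} (hx : Good Set.univ x)
    {D : Subgroup (Perm α)} (hD : IsPGroup 2 D) (hxD : x ∈ D) :
    IsPGroup 2 (Subgroup.normalizer (D : Set (Perm α))) := by
  rintro ⟨g, hg⟩
  obtain ⟨k, m, hm, hkm⟩ := Nat.exists_eq_two_pow_mul_odd (orderOf_pos g).ne'
  refine ⟨k, ?_⟩
  have h1 : g ^ 2 ^ k = 1 :=
    star _ Set.univ x (g ^ 2 ^ k) D m rfl hx (by rw [YY_univ]; exact le_top) hD hxD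
      (by rw [YY_univ]; trivial) ((Subgroup.normalizer (D : Set (Perm α))).pow_mem hg _) hm
      (by rw [← pow_mul, ← hkm, pow_orderOf_eq_one])
  exact Subtype.ext (by simpa using h1)

theorem sylow_eq_of_le {G : Type*} [Group G] {p : ℕ} {P R : Sylow p G}
    (h : (P : Subgroup G) ≤ R) : P = R :=
  Sylow.ext (P.is_maximal' R.isPGroup' h).symm

/-- **Uniqueness**: a `Good` permutation lies in at most one Sylow 2-subgroup. -/
theorem sylow_unique [Finite α] {x : Perm α} (hx : Good Set.univ x) (P Q : Sylow 2 (Perm α))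
    (hxP : x ∈ P) (hxQ : x ∈ Q) : P = Q := by
  have : Fact (Nat.Prime 2) := ⟨Nat.prime_two⟩
  by_contra hne
  let ι := {PQ : Sylow 2 (Perm α) × Sylow 2 (Perm α) // PQ.1 ≠ PQ.2 ∧ x ∈ PQ.1 ∧ x ∈ PQ.2}
  have : Nonempty ι := ⟨⟨(P, Q), hne, hxP, hxQ⟩⟩
  obtain ⟨⟨⟨P₀, Q₀⟩, h0, hxP0, hxQ0⟩, hmax⟩ := Finite.exists_max
    (fun PQ : ι => (((PQ.1.1 : Subgroup (Perm α)) ⊓ PQ.1.2 : Subgroup (Perm α)) : Set (Perm α)).ncard)
  simp only at h0 hxP0 hxQ0 hmax
  set D : Subgroup (Perm α) := (P₀ : Subgroup (Perm α)) ⊓ Q₀ with hDdef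
  have hD : IsPGroup 2 D := P₀.isPGroup'.to_le inf_le_left
  have hxD : x ∈ D := ⟨hxP0, hxQ0⟩
  have hN := isPGroup_normalizer hx hD hxD
  obtain ⟨R, hR⟩ := hN.exists_le_sylow
  have hxR : x ∈ R := hR (Subgroup.le_normalizer hxD)
  have step : ∀ P₁ : Sylow 2 (Perm α), D < P₁ → ∀ R : Sylow 2 (Perm α),
      Subgroup.normalizer (D : Set (Perm α)) ≤ R →
      (D : Set (Perm α)).ncard < (((P₁ : Subgroup (Perm α)) ⊓ R : Subgroup (Perm α)) :
        Set (Perm α)).ncard := by
    intro P₁ hDP R hR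
    obtain ⟨k, hkP, hkN, hkD⟩ := exists_normalizing_of_lt_of_isPGroup P₁.isPGroup' hDP
    apply Set.ncard_lt_ncard _ (Set.toFinite _)
    rw [SetLike.coe_ssubset_coe]
    refine lt_of_le_of_ne (le_inf hDP.le (Subgroup.le_normalizer.trans hR)) ?_
    intro h
    apply hkD
    rw [h]
    exact ⟨hkP, hR hkN⟩
  have hDP : D < P₀ := by
    refine lt_of_le_of_ne inf_le_left ?_
    intro h
    apply h0
    apply sylow_eq_of_le
    rw [← h]
    exact inf_le_right
  have hDQ : D < Q₀ := by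
    refine lt_of_le_of_ne inf_le_right ?_
    intro h
    apply h0
    symm
    apply sylow_eq_of_le
    rw [← h]
    exact inf_le_left
  have hPR : P₀ = R := by
    by_contra hPR
    have h1 := hmax ⟨(P₀, R), hPR, hxP0, hxR⟩
    have h2 := step P₀ hDP R hR
    simp only at h1
    omega
  have hQR : Q₀ = R := by
    by_contra hQR
    have h1 := hmax ⟨(Q₀, R), hQR, hxQ0, hxR⟩
    have h2 := step Q₀ hDQ R hR
    simp only at h1
    have h3 : ((P₀ : Subgroup (Perm α)) ⊓ Q₀) = D := rfl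
    omega
  exact h0 (hPR.trans hQR.symm)

end Cfsg.Agent.Helper20.SylSym
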