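import Mathlib
import Cfsg.Agent.Helper20.SylSymF

set_option autoImplicit false

/-!
# 2-elements of symmetric groups lying in a unique Sylow 2-subgroup (helper20), part G

Non-uniqueness: a 2-element with two cycles of equal length in different positions lies in two
distinct Sylow 2-subgroups.
-/

namespace Cfsg.Agent.Helper20.SylSym

open Equiv

variable {α : Type*}

theorem zpow_apply_eq_iff_dvd (x : Perm α) (p : α) (n : ℤ) :
    (x ^ n) p = p ↔ (Function.minimalPeriod x p : ℤ) ∣ n :=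
  MulAction.zpow_smul_eq_iff_minimalPeriod_dvd (a := x) (b := p) (n := n)

theorem zpow_apply_eq_zpow_apply_iff (x : Perm α) (p : α) (i j : ℤ) :
    (x ^ i) p = (x ^ j) p ↔ (Function.minimalPeriod x p : ℤ) ∣ -j + i := by
  rw [← zpow_apply_eq_iff_dvd, zpow_add, Perm.mul_apply, zpow_neg, Perm.inv_eq_iff_eq, eq_comm]

theorem zpow_apply_ne {x : Perm α} {p q : α} (hpq : ¬ x.SameCycle p q) (i j : ℤ) :
    (x ^ i) p ≠ (x ^ j) q := by
  intro h
  apply hpq
  refine ⟨-j + i, ?_⟩
  rw [zpow_add, Perm.mul_apply, h, zpow_neg]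
  simp

variable [DecidableEq α]

/-- the generators `swap (x^i p) (x^i q)` -/
def gen (x : Perm α) (p q : α) (i : ℤ) : Perm α := swap ((x ^ i) p) ((x ^ i) q)

theorem gen_succ (x : Perm α) (p q : α) (i : ℤ) : gen x p q (i + 1) = x * gen x p q i * x⁻¹ := by
  unfold gen
  rw [← Equiv.swap_apply_apply, add_comm, zpow_add, zpow_one, Perm.mul_apply, Perm.mul_apply]

theorem gen_mul_self (x : Perm α) (p q : α) (i : ℤ) : gen x p q i * gen x p q i = 1 :=
  Equiv.swap_mul_self _ _

theorem gen_comm {x : Perm α} {p q : α} (hpq : ¬ x.SameCycle p q)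
    (hper : Function.minimalPeriod x p = Function.minimalPeriod x q) (i j : ℤ) :
    gen x p q i * gen x p q j = gen x p q j * gen x p q i := by
  by_cases h : (x ^ i) p = (x ^ j) p
  · have h' : (x ^ i) q = (x ^ j) q := by
      rw [zpow_apply_eq_zpow_apply_iff] at h ⊢
      rwa [← hper]
    unfold gen
    rw [h, h']
  · have h' : (x ^ i) q ≠ (x ^ j) q := by
      intro h'
      apply h
      rw [zpow_apply_eq_zpow_apply_iff] at h' ⊢
      rwa [hper]
    have hnd : [(x ^ i) p, (x ^ i) q, (x ^ j) p, (x ^ j) q].Nodup := by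
      simp only [List.nodup_cons, List.mem_cons, List.not_mem_nil, or_false, not_or,
        List.nodup_nil, and_true, not_false_eq_true]
      exact ⟨⟨zpow_apply_ne hpq i i, h, zpow_apply_ne hpq i j⟩,
        ⟨(zpow_apply_ne hpq j i).symm, h'⟩, zpow_apply_ne hpq j j⟩
    exact (Equiv.Perm.disjoint_swap_swap hnd).commute.eq

/-- the elementary abelian group generated by the `gen`s -/
def EE (x : Perm α) (p q : α) : Subgroup (Perm α) := Subgroup.closure (Set.range (gen x p q))

theorem EE_sq {x : Perm α} {p q : α} (hpq : ¬ x.SameCycle p q)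
    (hper : Function.minimalPeriod x p = Function.minimalPeriod x q) {g : Perm α}
    (hg : g ∈ EE x p q) : g * g = 1 := by
  have key : g * g = 1 ∧ g ∈ Subgroup.centralizer (Set.range (gen x p q)) := by
    unfold EE at hg
    induction hg using Subgroup.closure_induction with
    | mem s hs =>
      obtain ⟨i, rfl⟩ := hs
      refine ⟨gen_mul_self x p q i, ?_⟩
      rw [Subgroup.mem_centralizer_iff]
      rintro _ ⟨j, rfl⟩
      exact gen_comm hpq hper j i
    | one => exact ⟨one_mul 1, Subgroup.one_mem _⟩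
    | mul a b ha hb iha ihb =>
      refine ⟨?_, Subgroup.mul_mem _ iha.2 ihb.2⟩
      have hab : a * b = b * a := by
        have h1 := Subgroup.closure_le_centralizer_centralizer _ ha
        rw [Subgroup.mem_centralizer_iff] at h1
        exact (h1 b ihb.2).symm
      calc a * b * (a * b) = a * b * (b * a) := by rw [hab]
        _ = a * (b * b) * a := by group
        _ = 1 := by rw [ihb.1, mul_one, iha.1]
    | inv a ha iha =>
      refine ⟨?_, Subgroup.inv_mem _ iha.2⟩
      rw [← mul_inv_rev, iha.1, inv_one]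
  exact key.1

theorem isPGroup_EE {x : Perm α} {p q : α} (hpq : ¬ x.SameCycle p q)
    (hper : Function.minimalPeriod x p = Function.minimalPeriod x q) : IsPGroup 2 (EE x p q) := by
  rintro ⟨g, hg⟩
  refine ⟨1, Subtype.ext ?_⟩
  simp only [pow_one, Subgroup.coe_pow, Subgroup.coe_one]
  rw [pow_two]
  exact EE_sq hpq hper hg

theorem map_conj_EE (x : Perm α) (p q : α) :
    (EE x p q).map (MulAut.conj x).toMonoidHom = EE x p q := by
  unfold EE
  rw [MonoidHom.map_closure]
  congr 1
  ext s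
  constructor
  · rintro ⟨_, ⟨i, rfl⟩, rfl⟩
    refine ⟨i + 1, ?_⟩
    rw [gen_succ]
    rfl
  · rintro ⟨i, rfl⟩
    refine ⟨gen x p q (i - 1), ⟨i - 1, rfl⟩, ?_⟩
    have := gen_succ x p q (i - 1)
    rw [sub_add_cancel] at this
    rw [this]
    rfl

theorem mem_normalizer_EE (x : Perm α) (p q : α) :
    x ∈ Subgroup.normalizer (EE x p q : Set (Perm α)) := by
  rw [Subgroup.mem_normalizer_iff]
  intro h
  constructor
  · intro hh
    rw [← map_conj_EE x p q]
    exact ⟨h, hh, rfl⟩
  · intro hh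
    rw [← map_conj_EE x p q] at hh
    obtain ⟨h', hh', he⟩ := hh
    have : h' = h := by
      have he' : x * h' * x⁻¹ = x * h * x⁻¹ := he
      exact mul_left_cancel (mul_right_cancel he')
    rw [← this]
    exact hh'

/-- **Lemma E**: a 2-group containing `x` and `swap p q`. -/
theorem exists_two_group_swap {x : Perm α} {k : ℕ} (hk : x ^ (2 ^ k) = 1) {p q : α}
    (hpq : ¬ x.SameCycle p q)
    (hper : Function.minimalPeriod x p = Function.minimalPeriod x q) :
    ∃ E : Subgroup (Perm α), IsPGroup 2 E ∧ x ∈ E ∧ swap p q ∈ E := by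
  refine ⟨Subgroup.zpowers x ⊔ EE x p q, ?_, ?_, ?_⟩
  · apply IsPGroup.to_sup_of_normal_right' _ (isPGroup_EE hpq hper)
    · rw [Subgroup.zpowers_le]
      exact mem_normalizer_EE x p q
    · rintro ⟨g, hg⟩
      obtain ⟨n, rfl⟩ := Subgroup.mem_zpowers_iff.1 hg
      refine ⟨k, Subtype.ext ?_⟩
      simp only [Subgroup.coe_pow, Subgroup.coe_one]
      rw [← zpow_natCast, ← zpow_mul, mul_comm, zpow_mul, zpow_natCast, hk, one_zpow]
  · exact (le_sup_left : Subgroup.zpowers x ≤ _) (Subgroup.mem_zpowers x)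
  · apply (le_sup_right : EE x p q ≤ _)
    apply Subgroup.subset_closure
    refine ⟨0, ?_⟩
    unfold gen
    simp

/-- **Two Sylow subgroups**. -/
theorem two_sylows [Fintype α] {x : Perm α} {k : ℕ} (hk : x ^ (2 ^ k) = 1) {a b c : α}
    (hac : a ≠ c) (h1 : ¬ x.SameCycle a b) (h2 : ¬ x.SameCycle c b)
    (p1 : Function.minimalPeriod x a = Function.minimalPeriod x b)
    (p2 : Function.minimalPeriod x c = Function.minimalPeriod x b) :
    ∃ P Q : Sylow 2 (Perm α), P ≠ Q ∧ x ∈ P ∧ x ∈ Q := by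
  obtain ⟨E₁, hE₁, hx₁, hs₁⟩ := exists_two_group_swap hk h1 p1
  obtain ⟨E₂, hE₂, hx₂, hs₂⟩ := exists_two_group_swap hk h2 p2
  obtain ⟨P, hP⟩ := hE₁.exists_le_sylow
  obtain ⟨Q, hQ⟩ := hE₂.exists_le_sylow
  refine ⟨P, Q, ?_, hP hx₁, hQ hx₂⟩
  intro hPQ
  have hab : a ≠ b := fun h => h1 (h ▸ Equiv.Perm.SameCycle.refl x a)
  have hcb : c ≠ b := fun h => h2 (h ▸ Equiv.Perm.SameCycle.refl x c)
  have h3 : swap b a * swap b c ∈ (P : Subgroup (Perm α)) := by
    refine Subgroup.mul_mem _ ?_ ?_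
    · rw [Equiv.swap_comm]
      exact hP hs₁
    · rw [Equiv.swap_comm, hPQ]
      exact hQ hs₂
  have h4 : (swap b a * swap b c).IsThreeCycle :=
    Equiv.Perm.isThreeCycle_swap_mul_swap_same hab.symm hcb.symm hac
  obtain ⟨j, hj⟩ := P.isPGroup' ⟨_, h3⟩
  have h5 : (swap b a * swap b c) ^ 2 ^ j = 1 := by
    have := congrArg Subtype.val hj
    simpa using this
  have h6 := orderOf_dvd_of_pow_eq_one h5
  rw [h4.orderOf] at h6
  have h7 : Nat.Coprime 3 (2 ^ j) := Nat.Coprime.pow_right j (by norm_num)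
  have := Nat.Coprime.eq_one_of_dvd h7 h6
  omega

end Cfsg.Agent.Helper20.SylSym
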