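import Mathlib
import Cfsg.Agent.Helper20.SylSymG

set_option autoImplicit false

/-!
# 2-elements of symmetric groups lying in a unique Sylow 2-subgroup (helper20), part H

Bridge to `cycleType` and `support`.
-/

namespace Cfsg.Agent.Helper20.SylSym

open Equiv

variable {α : Type*} [Fintype α] [DecidableEq α]

theorem card_support_cycleOf (x : Perm α) {p : α} (hp : p ∈ x.support) :
    (x.cycleOf p).support.card = Function.minimalPeriod x p := by
  rw [← ncard_cyc, ← Set.ncard_coe_finset]
  congr 1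
  ext q
  rw [Finset.mem_coe, Equiv.Perm.mem_support_cycleOf_iff, mem_cyc]
  exact ⟨fun h => h.1, fun h => ⟨h, hp⟩⟩

theorem minimalPeriod_ne_one_iff (x : Perm α) (p : α) :
    Function.minimalPeriod x p ≠ 1 ↔ p ∈ x.support := by
  rw [Equiv.Perm.mem_support, Ne, Function.minimalPeriod_eq_one_iff_isFixedPt]
  rfl

/-- (⇐) the hypotheses give a `Good` permutation -/
theorem good_of_nodup {x : Perm α} {k : ℕ} (hk : x ^ (2 ^ k) = 1)
    (hfix : Fintype.card α ≤ x.support.card + 2) (hnd : x.cycleType.Nodup) :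
    Good Set.univ x := by
  refine ⟨by rw [YY_univ]; trivial, ⟨k, hk⟩, ?_, ?_⟩
  · intro p _ q _ hpq hper
    by_contra hcon
    have hp : p ∈ x.support := by
      by_contra hp
      have hq : q ∉ x.support := by
        rw [← minimalPeriod_ne_one_iff] at hp ⊢
        rwa [← hper]
      rw [Equiv.Perm.notMem_support] at hp hq
      exact hcon ⟨hp, hq⟩
    have hq : q ∈ x.support := by
      rw [← minimalPeriod_ne_one_iff] at hp ⊢
      rwa [← hper]
    rw [Equiv.Perm.cycleType_def] at hnd
    have h1 := Multiset.inj_on_of_nodup_map hnd (x.cycleOf p)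
      (Equiv.Perm.cycleOf_mem_cycleFactorsFinset_iff.2 hp) (x.cycleOf q)
      (Equiv.Perm.cycleOf_mem_cycleFactorsFinset_iff.2 hq)
      (by simp only [Function.comp]; rw [card_support_cycleOf x hp, card_support_cycleOf x hq, hper])
    have h2 : q ∈ (x.cycleOf q).support :=
      Equiv.Perm.mem_support_cycleOf_iff.2 ⟨Equiv.Perm.SameCycle.refl x q, hq⟩
    rw [← h1] at h2
    exact hpq (Equiv.Perm.mem_support_cycleOf_iff.1 h2).1
  · have h1 : {p | p ∈ (Set.univ : Set α) ∧ x p = p} = ((x.supportᶜ : Finset α) : Set α) := by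
      ext p
      simp [Equiv.Perm.mem_support]
    rw [h1, Set.ncard_coe_finset, Finset.card_compl]
    omega

/-- (⇒), first case: three fixed points -/
theorem exists_triple_of_fixed {x : Perm α}
    (hfix : x.support.card + 2 < Fintype.card α) :
    ∃ a b c : α, a ≠ c ∧ ¬ x.SameCycle a b ∧ ¬ x.SameCycle c b ∧
      Function.minimalPeriod x a = Function.minimalPeriod x b ∧
      Function.minimalPeriod x c = Function.minimalPeriod x b := by
  have h1 : 2 < (x.supportᶜ : Finset α).card := by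
    rw [Finset.card_compl]
    omega
  obtain ⟨a, ha, b, hb, c, hc, hab, hac, hbc⟩ := Finset.two_lt_card.1 h1
  rw [Finset.mem_compl, Equiv.Perm.notMem_support] at ha hb hc
  have hsc : ∀ {u v : α}, x u = u → u ≠ v → ¬ x.SameCycle u v := by
    rintro u v hu huv ⟨i, hi⟩
    rw [Equiv.Perm.zpow_apply_eq_self_of_apply_eq_self hu] at hi
    exact huv hi
  have hper : ∀ {u : α}, x u = u → Function.minimalPeriod x u = 1 := fun hu =>
    Function.minimalPeriod_eq_one_iff_isFixedPt.2 hu
  exact ⟨a, b, c, hac, hsc ha hab, hsc hc hbc.symm, by rw [hper ha, hper hb],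
    by rw [hper hc, hper hb]⟩

/-- (⇒), second case: two cycles of equal length -/
theorem exists_triple_of_not_nodup {x : Perm α} (hnd : ¬ x.cycleType.Nodup) :
    ∃ a b c : α, a ≠ c ∧ ¬ x.SameCycle a b ∧ ¬ x.SameCycle c b ∧
      Function.minimalPeriod x a = Function.minimalPeriod x b ∧
      Function.minimalPeriod x c = Function.minimalPeriod x b := by
  rw [Equiv.Perm.cycleType_def] at hnd
  have h1 : ∃ c₁ ∈ x.cycleFactorsFinset, ∃ c₂ ∈ x.cycleFactorsFinset,
      c₁.support.card = c₂.support.card ∧ c₁ ≠ c₂ := by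
    by_contra hcon
    apply hnd
    apply Multiset.Nodup.map_on _ x.cycleFactorsFinset.nodup
    intro c₁ hc₁ c₂ hc₂ hcard
    by_contra hne
    exact hcon ⟨c₁, hc₁, c₂, hc₂, hcard, hne⟩
  obtain ⟨c₁, hc₁, c₂, hc₂, hcard, hne⟩ := h1
  obtain ⟨p, hp⟩ := (Equiv.Perm.mem_cycleFactorsFinset_iff.1 hc₁).1.nonempty_support
  obtain ⟨q, hq⟩ := (Equiv.Perm.mem_cycleFactorsFinset_iff.1 hc₂).1.nonempty_support
  have e1 := Equiv.Perm.cycle_is_cycleOf hp hc₁
  have e2 := Equiv.Perm.cycle_is_cycleOf hq hc₂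
  have hpx : p ∈ x.support := by
    rw [← Equiv.Perm.cycleOf_mem_cycleFactorsFinset_iff, ← e1]
    exact hc₁
  have hqx : q ∈ x.support := by
    rw [← Equiv.Perm.cycleOf_mem_cycleFactorsFinset_iff, ← e2]
    exact hc₂
  have hper : Function.minimalPeriod x p = Function.minimalPeriod x q := by
    rw [← card_support_cycleOf x hpx, ← card_support_cycleOf x hqx, ← e1, ← e2]
    exact hcard
  have hsc : ¬ x.SameCycle p q := by
    intro h
    apply hne
    rw [e1, e2]
    exact Equiv.Perm.SameCycle.cycleOf_eq h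
  refine ⟨p, q, x p, ?_, hsc, ?_, hper, ?_⟩
  · exact (Equiv.Perm.mem_support.1 hpx).symm
  · rw [Equiv.Perm.sameCycle_apply_left]
    exact hsc
  · rw [← hper]
    apply Function.minimalPeriod_apply
    exact Function.mk_mem_periodicPts (minimalPeriod_pos x p) (Function.isPeriodicPt_minimalPeriod x p)

/-- **Main theorem** for a general finite type -/
theorem unique_sylow_iff {x : Perm α} {k : ℕ} (hk : x ^ (2 ^ k) = 1) :
    (∃! P : Sylow 2 (Perm α), x ∈ P) ↔
      (Fintype.card α ≤ x.support.card + 2 ∧ x.cycleType.Nodup) := by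
  constructor
  · rintro ⟨P, hP, huniq⟩
    by_contra hcon
    have h1 : ∃ a b c : α, a ≠ c ∧ ¬ x.SameCycle a b ∧ ¬ x.SameCycle c b ∧
        Function.minimalPeriod x a = Function.minimalPeriod x b ∧
        Function.minimalPeriod x c = Function.minimalPeriod x b := by
      rcases not_and_or.1 hcon with h | h
      · exact exists_triple_of_fixed (by omega)
      · exact exists_triple_of_not_nodup h
    obtain ⟨a, b, c, hac, h1, h2, p1, p2⟩ := h1
    obtain ⟨P₁, Q₁, hne, hxP, hxQ⟩ := two_sylows hk hac h1 h2 p1 p2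
    exact hne ((huniq P₁ hxP).trans (huniq Q₁ hxQ).symm)
  · rintro ⟨h1, h2⟩
    have hgood := good_of_nodup hk h1 h2
    have hz : IsPGroup 2 (Subgroup.zpowers x) := by
      rintro ⟨g, hg⟩
      obtain ⟨n, rfl⟩ := Subgroup.mem_zpowers_iff.1 hg
      refine ⟨k, Subtype.ext ?_⟩
      simp only [Subgroup.coe_pow, Subgroup.coe_one]
      rw [← zpow_natCast, ← zpow_mul, mul_comm, zpow_mul, zpow_natCast, hk, one_zpow]
    obtain ⟨P, hP⟩ := hz.exists_le_sylow
    have hxP : x ∈ P := hP (Subgroup.mem_zpowers x)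
    exact ⟨P, hxP, fun Q hQ => sylow_unique hgood Q P hQ hxP⟩

end Cfsg.Agent.Helper20.SylSym
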