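import Mathlib

set_option autoImplicit false

namespace Cfsg.Agent.Helper20

/-- A `p`-element of a subgroup `M` containing the Sylow `p`-subgroup `P` of `G` is conjugate
into `P` by an element of `M`. -/
lemma exists_mem_conj_mem_sylow {G : Type*} [Group G] [Finite G] {p : ℕ} [Fact p.Prime]
    (M : Subgroup G) (P : Sylow p G) (hP : (P : Subgroup G) ≤ M) (a : G) (haM : a ∈ M)
    (k : ℕ) (ha : orderOf a = p ^ k) : ∃ m ∈ M, m * a * m⁻¹ ∈ (P : Subgroup G) := by
  have hpg : IsPGroup p (Subgroup.zpowers (⟨a, haM⟩ : M)) := by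
    rw [IsPGroup.iff_card, Nat.card_zpowers]
    refine ⟨k, ?_⟩
    rw [← ha, ← Subgroup.orderOf_coe]
  obtain ⟨R, hR⟩ := hpg.exists_le_sylow
  obtain ⟨m, hm⟩ := MulAction.exists_smul_eq M R (P.subtype hP)
  refine ⟨m, m.2, ?_⟩
  have h1 : (⟨a, haM⟩ : M) ∈ (R : Subgroup M) := hR (Subgroup.mem_zpowers _)
  have h2 : m * ⟨a, haM⟩ * m⁻¹ ∈ ((m • R : Sylow p M) : Subgroup M) := by
    rw [Sylow.smul_def, Sylow.pointwise_smul_def, Subgroup.mem_smul_pointwise_iff_exists]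
    exact ⟨_, h1, by simp [MulAut.smul_def]⟩
  rw [hm, Sylow.coe_subtype, Subgroup.mem_subgroupOf] at h2
  simpa using h2

end Cfsg.Agent.Helper20
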