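import Mathlib

/-!
S3797 piece EIG, abstract part: a group `W` acting on a finite commutative group `M` of odd order,
`A ≤ W` normal of exponent 2: eigen-elements for distinct characters are independent.
-/

set_option autoImplicit false

namespace Cfsg.Agent.Helper20.ThA

section Indep

variable {M : Type*} [CommGroup M]

theorem eq_one_of_sq_eq_one (hodd : Odd (Nat.card M)) {z : M} (h : z ^ 2 = 1) : z = 1 := by
  have h1 : orderOf z ∣ 2 := orderOf_dvd_of_pow_eq_one h
  have h2 : orderOf z ∣ Nat.card M := orderOf_dvd_natCard z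
  have h3 : Odd (orderOf z) := hodd.of_dvd_nat h2
  have h4 : orderOf z = 1 := by
    rcases (Nat.dvd_prime Nat.prime_two).1 h1 with h | h
    · exact h
    · rw [h] at h3; exact absurd h3 (by decide)
  exact orderOf_eq_one_iff.1 h4

/-- eigen-elements for pairwise separated sign patterns are independent -/
theorem indep_of_eigen (hodd : Odd (Nat.card M)) {ι : Type*} [DecidableEq ι]
    (T : Set (M →* M)) (x : ι → M)
    (heig : ∀ φ ∈ T, ∀ k, φ (x k) = x k ∨ φ (x k) = (x k)⁻¹)
    (hsep : ∀ i j, i ≠ j → ∃ φ ∈ T, (φ (x i) = x i ∧ φ (x j) = (x j)⁻¹) ∨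
      (φ (x i) = (x i)⁻¹ ∧ φ (x j) = x j))
    (e : ι → ℤ) :
    ∀ (n : ℕ) (S : Finset ι), S.card = n → ∏ k ∈ S, x k ^ e k = 1 → ∀ k ∈ S, x k ^ e k = 1 := by
  classical
  intro n
  induction n using Nat.strong_induction_on with
  | _ n ih =>
    intro S hS h k hk
    by_cases h1 : ∃ i ∈ S, ∃ j ∈ S, i ≠ j
    · obtain ⟨i, hi, j, hj, hij⟩ := h1
      obtain ⟨φ, hφ, hsp⟩ := hsep i j hij
      set Sp := S.filter (fun k => φ (x k) = x k) with hSp
      set Sm := S.filter (fun k => ¬ φ (x k) = x k) with hSm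
      have hsplit : ∀ f : ι → M, ∏ k ∈ S, f k = (∏ k ∈ Sp, f k) * ∏ k ∈ Sm, f k := by
        intro f
        rw [hSp, hSm, Finset.prod_filter_mul_prod_filter_not]
      have hP := hsplit (fun k => x k ^ e k)
      have h2 : ∏ k ∈ S, φ (x k) ^ e k = 1 := by
        have : φ (∏ k ∈ S, x k ^ e k) = 1 := by rw [h, map_one]
        rw [map_prod] at this
        simpa [map_zpow] using this
      rw [hsplit (fun k => φ (x k) ^ e k)] at h2
      have h3 : ∏ k ∈ Sp, φ (x k) ^ e k = ∏ k ∈ Sp, x k ^ e k := by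
        apply Finset.prod_congr rfl
        intro k hk
        rw [(Finset.mem_filter.1 hk).2]
      have h4 : ∏ k ∈ Sm, φ (x k) ^ e k = (∏ k ∈ Sm, x k ^ e k)⁻¹ := by
        rw [← Finset.prod_inv_distrib]
        apply Finset.prod_congr rfl
        intro k hk
        have := (Finset.mem_filter.1 hk).2
        rcases heig φ hφ k with h5 | h5
        · exact absurd h5 this
        · rw [h5, inv_zpow]
      rw [h3, h4] at h2
      rw [hP] at h
      set P := ∏ k ∈ Sp, x k ^ e k
      set Q := ∏ k ∈ Sm, x k ^ e k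
      have hQ : Q = 1 := by
        apply eq_one_of_sq_eq_one hodd
        have : P * Q = P * Q⁻¹ := by rw [h, h2]
        have h6 : Q = Q⁻¹ := mul_left_cancel this
        rw [pow_two]
        nth_rewrite 1 [h6]
        exact inv_mul_cancel Q
      have hPone : P = 1 := by rw [hQ, mul_one] at h; exact h
      by_cases hk2 : φ (x k) = x k
      · -- k in Sp; Sp is a proper subset unless ... ; some element of S is not in Sp or we use Sm
        by_cases hprop : Sp = S
        · -- then Sm is empty; i and j both fixed; from hsp one of them is inverted and fixed: so it has x = x⁻¹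
          have hi' : φ (x i) = x i := by
            have : i ∈ Sp := by rw [hprop]; exact hi
            exact (Finset.mem_filter.1 this).2
          have hj' : φ (x j) = x j := by
            have : j ∈ Sp := by rw [hprop]; exact hj
            exact (Finset.mem_filter.1 this).2
          -- the inverted one, say l, has x l = (x l)⁻¹, so x l = 1
          have hl : x i = 1 ∨ x j = 1 := by
            rcases hsp with ⟨_, h7⟩ | ⟨h7, _⟩
            · right
              apply eq_one_of_sq_eq_one hodd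
              rw [pow_two]
              nth_rewrite 1 [← hj', h7]
              exact inv_mul_cancel _
            · left
              apply eq_one_of_sq_eq_one hodd
              rw [pow_two]
              nth_rewrite 1 [← hi', h7]
              exact inv_mul_cancel _
          -- remove that element from S
          rcases hl with hl | hl
          · by_cases hki : k = i
            · rw [hki, hl, one_zpow]
            · have hS' : (S.erase i).card < n := by
                rw [← hS]; exact Finset.card_erase_lt_of_mem hi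
              have hprod : ∏ k ∈ S.erase i, x k ^ e k = 1 := by
                have := Finset.mul_prod_erase S (fun k => x k ^ e k) hi
                rw [hl, one_zpow, one_mul] at this
                rw [this, hP, hPone, hQ, mul_one]
              exact ih _ hS' (S.erase i) rfl hprod k (Finset.mem_erase.2 ⟨hki, hk⟩)
          · by_cases hkj : k = j
            · rw [hkj, hl, one_zpow]
            · have hS' : (S.erase j).card < n := by
                rw [← hS]; exact Finset.card_erase_lt_of_mem hj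
              have hprod : ∏ k ∈ S.erase j, x k ^ e k = 1 := by
                have := Finset.mul_prod_erase S (fun k => x k ^ e k) hj
                rw [hl, one_zpow, one_mul] at this
                rw [this, hP, hPone, hQ, mul_one]
              exact ih _ hS' (S.erase j) rfl hprod k (Finset.mem_erase.2 ⟨hkj, hk⟩)
        · have hlt : Sp.card < n := by
            rw [← hS]
            apply Finset.card_lt_card
            exact lt_of_le_of_ne (Finset.filter_subset _ _) hprop
          exact ih _ hlt Sp rfl hPone k (Finset.mem_filter.2 ⟨hk, hk2⟩)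
      · by_cases hprop : Sm = S
        · have hi' : ¬ φ (x i) = x i := by
            have : i ∈ Sm := by rw [hprop]; exact hi
            exact (Finset.mem_filter.1 this).2
          have hj' : ¬ φ (x j) = x j := by
            have : j ∈ Sm := by rw [hprop]; exact hj
            exact (Finset.mem_filter.1 this).2
          rcases hsp with ⟨h7, _⟩ | ⟨_, h7⟩
          · exact absurd h7 hi'
          · exact absurd h7 hj'
        · have hlt : Sm.card < n := by
            rw [← hS]
            apply Finset.card_lt_card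
            exact lt_of_le_of_ne (Finset.filter_subset _ _) hprop
          exact ih _ hlt Sm rfl hQ k (Finset.mem_filter.2 ⟨hk, hk2⟩)
    · -- S has at most one element
      push Not at h1
      have hSk : S = {k} := by
        ext l
        constructor
        · intro hl
          rw [Finset.mem_singleton]
          exact h1 l hl k hk
        · intro hl
          rw [Finset.mem_singleton] at hl
          rw [hl]; exact hk
      rw [hSk, Finset.prod_singleton] at h
      exact h

end Indep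

section Eigen

variable {M : Type*} [CommGroup M] [Finite M]

/-- minimal invariant subgroup argument: a common eigen-element, inverted by `φ₀` -/
theorem exists_eigen (r : ℕ) [Fact r.Prime] (hM : IsPGroup r M)
    (T : Set (M →* M)) (hcomm : ∀ φ ∈ T, ∀ ψ ∈ T, ∀ z, φ (ψ z) = ψ (φ z))
    (hinvol : ∀ φ ∈ T, ∀ z, φ (φ z) = z)
    (φ₀ : M →* M) (hφ₀ : φ₀ ∈ T) (z₁ : M) (h : φ₀ z₁ ≠ z₁) :
    ∃ x : M, orderOf x = r ∧ φ₀ x = x⁻¹ ∧ ∀ φ ∈ T, φ x = x ∨ φ x = x⁻¹ := by
  classical
  let good : Subgroup M → Prop := fun N =>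
    N ≠ ⊥ ∧ (∀ φ ∈ T, ∀ z ∈ N, φ z ∈ N) ∧ (∀ z ∈ N, φ₀ z = z⁻¹)
  let N₀ : Subgroup M :=
    { carrier := {z | φ₀ z = z⁻¹}
      mul_mem' := by
        intro a b ha hb
        simp only [Set.mem_ofPred_eq] at ha hb ⊢
        rw [map_mul, ha, hb, mul_inv]
      one_mem' := by simp
      inv_mem' := by
        intro a ha
        simp only [Set.mem_ofPred_eq] at ha ⊢
        rw [map_inv, ha] }
  have hN₀ : good N₀ := by
    refine ⟨?_, ?_, ?_⟩
    · intro hbot
      have hz : z₁⁻¹ * φ₀ z₁ ∈ N₀ := by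
        show φ₀ (z₁⁻¹ * φ₀ z₁) = (z₁⁻¹ * φ₀ z₁)⁻¹
        rw [map_mul, map_inv, hinvol φ₀ hφ₀, mul_inv, inv_inv, mul_comm]
      rw [hbot, Subgroup.mem_bot] at hz
      apply h
      have := congrArg (fun t => z₁ * t) hz
      simpa using this
    · intro φ hφ z hz
      show φ₀ (φ z) = (φ z)⁻¹
      have hz' : φ₀ z = z⁻¹ := hz
      rw [hcomm φ₀ hφ₀ φ hφ, hz', map_inv]
    · intro z hz
      exact hz
  obtain ⟨N, hN, hmin⟩ := wellFounded_lt.has_min {N : Subgroup M | good N} ⟨N₀, hN₀⟩
  obtain ⟨hNbot, hNT, hNinv⟩ := hN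
  have hdich : ∀ φ ∈ T, (∀ z ∈ N, φ z = z) ∨ (∀ z ∈ N, φ z = z⁻¹) := by
    intro φ hφ
    let Np : Subgroup M := N ⊓ (MonoidHom.eqLocus φ (MonoidHom.id M))
    have hNpN : Np ≤ N := inf_le_left
    by_cases hNp : Np = ⊥
    · right
      intro z hz
      have hw : z * φ z ∈ Np := by
        refine ⟨N.mul_mem hz (hNT φ hφ z hz), ?_⟩
        show φ (z * φ z) = MonoidHom.id M (z * φ z)
        rw [map_mul, hinvol φ hφ, MonoidHom.id_apply, mul_comm]
      rw [hNp, Subgroup.mem_bot] at hw
      exact eq_inv_of_mul_eq_one_right hw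
    · left
      have hgood : good Np := by
        refine ⟨hNp, ?_, ?_⟩
        · intro ψ hψ z hz
          refine ⟨hNT ψ hψ z hz.1, ?_⟩
          have h2 : φ z = z := hz.2
          show φ (ψ z) = MonoidHom.id M (ψ z)
          rw [hcomm φ hφ ψ hψ, h2, MonoidHom.id_apply]
        · intro z hz
          exact hNinv z hz.1
      have hnlt : ¬ Np < N := hmin Np hgood
      have hEq : Np = N := by
        by_contra hne
        exact hnlt (lt_of_le_of_ne hNpN hne)
      intro z hz
      have : z ∈ Np := by rw [hEq]; exact hz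
      exact this.2
  -- an element of order r in N
  have hNnt : Nontrivial N := (Subgroup.nontrivial_iff_ne_bot N).2 hNbot
  have hNp : IsPGroup r N := hM.to_subgroup N
  obtain ⟨k, hk⟩ := IsPGroup.iff_card.1 hNp
  have hk0 : k ≠ 0 := by
    intro h0
    rw [h0, pow_zero] at hk
    have : Subsingleton N := (Nat.card_eq_one_iff_unique.1 hk).1
    exact not_subsingleton N this
  have hdvd : r ∣ Nat.card N := by
    rw [hk]
    exact dvd_pow_self r hk0
  obtain ⟨x, hx⟩ := exists_prime_orderOf_dvd_card' r hdvd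
  refine ⟨(x : M), ?_, hNinv _ x.2, ?_⟩
  · rw [Subgroup.orderOf_coe]; exact hx
  · intro φ hφ
    rcases hdich φ hφ with h1 | h1
    · exact Or.inl (h1 _ x.2)
    · exact Or.inr (h1 _ x.2)

end Eigen

section Family

variable {W M : Type*} [Group W] [Finite W] [CommGroup M] [Finite M]

theorem exists_family (r : ℕ) [Fact r.Prime] (hr : r ≠ 2) (hM : IsPGroup r M)
    (ρ : W → M →* M) (hρ1 : ∀ z, ρ 1 z = z) (hρm : ∀ w w' z, ρ (w * w') z = ρ w (ρ w' z))
    (A : Subgroup W) (hA2 : ∀ a ∈ A, a ^ 2 = 1) (hAn : ∀ w : W, ∀ a ∈ A, w * a * w⁻¹ ∈ A)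
    (hnt : ∃ a ∈ A, ∃ z, ρ a z ≠ z) (y : W) (m : ℕ)
    (hym : ∀ i : ℕ, 0 < i → i ≤ m → ∀ a ∈ A, y ^ i * a = a * y ^ i → a = 1) :
    ∃ x : Fin (m + 1) → M, (∀ j, orderOf (x j) = r) ∧
      (∀ j, ∀ a ∈ A, ρ a (x j) = x j ∨ ρ a (x j) = (x j)⁻¹) ∧
      (∀ i j, i ≠ j → ∃ a ∈ A, (ρ a (x i) = x i ∧ ρ a (x j) = (x j)⁻¹) ∨
        (ρ a (x i) = (x i)⁻¹ ∧ ρ a (x j) = x j)) ∧
      (∀ e : Fin (m + 1) → ℤ, ∏ j, x j ^ e j = 1 → ∀ j, x j ^ e j = 1) ∧
      (∀ e : Fin (m + 1) → ℤ, (∀ a ∈ A, ρ a (∏ j, x j ^ e j) = ∏ j, x j ^ e j) →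
        ∏ j, x j ^ e j = 1) := by
  classical
  have hrodd : Odd r := (Fact.out : r.Prime).odd_of_ne_two hr
  have hodd : Odd (Nat.card M) := by
    obtain ⟨k, hk⟩ := IsPGroup.iff_card.1 hM
    rw [hk]; exact hrodd.pow
  have hAcomm : ∀ a ∈ A, ∀ b ∈ A, a * b = b * a := by
    intro a ha b hb
    have h1 := hA2 a ha
    have h2 := hA2 b hb
    have h3 := hA2 (a * b) (A.mul_mem ha hb)
    have ha' : a⁻¹ = a := by rw [inv_eq_iff_mul_eq_one, ← pow_two, h1]
    have hb' : b⁻¹ = b := by rw [inv_eq_iff_mul_eq_one, ← pow_two, h2]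
    have h4 : (a * b)⁻¹ = a * b := by rw [inv_eq_iff_mul_eq_one, ← pow_two, h3]
    rw [mul_inv_rev, ha', hb'] at h4
    exact h4.symm
  have hinj : ∀ w : W, Function.Injective (ρ w) := by
    intro w z z' h
    have := congrArg (ρ w⁻¹) h
    rwa [← hρm, ← hρm, inv_mul_cancel, hρ1, hρ1] at this
  let T : Set (M →* M) := {φ | ∃ a ∈ A, φ = ρ a}
  obtain ⟨a0, ha0, z1, hz1⟩ := hnt
  have hT1 : ∀ φ ∈ T, ∀ ψ ∈ T, ∀ z, φ (ψ z) = ψ (φ z) := by
    rintro φ ⟨a, ha, rfl⟩ ψ ⟨b, hb, rfl⟩ z
    rw [← hρm, ← hρm, hAcomm a ha b hb]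
  have hT2 : ∀ φ ∈ T, ∀ z, φ (φ z) = z := by
    rintro φ ⟨a, ha, rfl⟩ z
    rw [← hρm, ← pow_two, hA2 a ha, hρ1]
  obtain ⟨x0, hx0r, hx0inv, hx0eig⟩ :=
    exists_eigen r hM T hT1 hT2 (ρ a0) ⟨a0, ha0, rfl⟩ z1 hz1
  have hx0eig' : ∀ a ∈ A, ρ a x0 = x0 ∨ ρ a x0 = x0⁻¹ := fun a ha => hx0eig _ ⟨a, ha, rfl⟩
  have hx0ne : x0 ≠ x0⁻¹ := by
    intro h
    have h1 : x0 ^ 2 = 1 := by
      rw [pow_two]; nth_rewrite 1 [h]; exact inv_mul_cancel x0
    have h2 := eq_one_of_sq_eq_one hodd h1
    rw [h2, orderOf_one] at hx0r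
    exact (Fact.out : r.Prime).one_lt.ne hx0r
  -- the family
  let wz : ℕ → W := fun j => y ^ (-(j : ℤ))
  let xx : ℕ → M := fun j => ρ (wz j) x0
  have hcj : ∀ j : ℕ, ∀ a ∈ A, (wz j)⁻¹ * a * (wz j) ∈ A := by
    intro j a ha
    have := hAn (wz j)⁻¹ a ha
    rwa [inv_inv] at this
  have hact : ∀ j : ℕ, ∀ a : W, ρ a (xx j) = ρ (wz j) (ρ ((wz j)⁻¹ * a * (wz j)) x0) := by
    intro j a
    show ρ a (ρ (wz j) x0) = _
    rw [← hρm, ← hρm]
    congr 2
    group
  have hxxeig : ∀ j : ℕ, ∀ a ∈ A, ρ a (xx j) = xx j ∨ ρ a (xx j) = (xx j)⁻¹ := by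
    intro j a ha
    rw [hact j a]
    rcases hx0eig' _ (hcj j a ha) with h | h
    · left; rw [h]
    · right; rw [h, map_inv]
  have hxxfix : ∀ j : ℕ, ∀ a : W, ρ a (xx j) = xx j ↔ ρ ((wz j)⁻¹ * a * (wz j)) x0 = x0 := by
    intro j a
    rw [hact j a]
    constructor
    · intro h; exact hinj _ h
    · intro h; rw [h]
  have hxxord : ∀ j : ℕ, orderOf (xx j) = r := by
    intro j
    show orderOf (ρ (wz j) x0) = r
    rw [orderOf_injective (ρ (wz j)) (hinj _) x0, hx0r]
  have hxxne : ∀ j : ℕ, xx j ≠ (xx j)⁻¹ := by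
    intro j h
    have h1 : xx j ^ 2 = 1 := by
      rw [pow_two]; nth_rewrite 1 [h]; exact inv_mul_cancel _
    have h2 := eq_one_of_sq_eq_one hodd h1
    have h3 := hxxord j
    rw [h2, orderOf_one] at h3
    exact (Fact.out : r.Prime).one_lt.ne h3
  -- separation
  have hsep : ∀ i j : ℕ, i < j → j ≤ m →
      ∃ a ∈ A, ¬ (ρ a (xx i) = xx i ↔ ρ a (xx j) = xx j) := by
    intro i j hij hjm
    by_contra hcon
    push Not at hcon
    set g : W := y ^ (j - i) with hg
    have hI : ∀ b ∈ A, (ρ b x0 = x0 ↔ ρ (g * b * g⁻¹) x0 = x0) := by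
      intro b hb
      have ha : (wz i) * b * (wz i)⁻¹ ∈ A := hAn _ b hb
      have h1 := hcon _ ha
      rw [hxxfix i, hxxfix j] at h1
      have e1 : (wz i)⁻¹ * ((wz i) * b * (wz i)⁻¹) * (wz i) = b := by group
      have e2 : (wz j)⁻¹ * ((wz i) * b * (wz i)⁻¹) * (wz j) = g * b * g⁻¹ := by
        show (y ^ (-(j : ℤ)))⁻¹ * ((y ^ (-(i : ℤ))) * b * (y ^ (-(i : ℤ)))⁻¹) * (y ^ (-(j : ℤ)))
          = y ^ (j - i) * b * (y ^ (j - i))⁻¹
        have : (y ^ (j - i) : W) = y ^ ((j : ℤ) - (i : ℤ)) := by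
          rw [← zpow_natCast, Nat.cast_sub hij.le]
        rw [this]
        simp only [zpow_neg, inv_inv, zpow_sub, mul_inv_rev, mul_assoc]
      rw [e1, e2] at h1
      exact h1
    -- the map b ↦ b * g b g⁻¹ on A is injective, hence surjective
    let lam : A → A := fun b => ⟨(b : W) * (g * b * g⁻¹), A.mul_mem b.2 (hAn g b b.2)⟩
    have hlam : Function.Injective lam := by
      intro b b' h
      have h1 : (b : W) * (g * b * g⁻¹) = (b' : W) * (g * b' * g⁻¹) := congrArg Subtype.val h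
      -- c = b * b'
      have hbinv : (b : W)⁻¹ = b := by
        rw [inv_eq_iff_mul_eq_one, ← pow_two, hA2 _ b.2]
      have hb'inv : (b' : W)⁻¹ = b' := by
        rw [inv_eq_iff_mul_eq_one, ← pow_two, hA2 _ b'.2]
      obtain ⟨c, hc⟩ : ∃ c : W, c = (b' : W) * b := ⟨_, rfl⟩
      have hcA : c ∈ A := by rw [hc]; exact A.mul_mem b'.2 b.2
      have hcinv : c⁻¹ = c := by
        rw [inv_eq_iff_mul_eq_one, ← pow_two, hA2 _ hcA]
      -- g c g⁻¹ = c
      have h2 : g * c * g⁻¹ = c := by
        have h3 : g * c * g⁻¹ = (g * b' * g⁻¹) * (g * b * g⁻¹) := by rw [hc]; group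
        have h4 : (g * b * g⁻¹) = (b : W)⁻¹ * ((b' : W) * (g * b' * g⁻¹)) := by
          rw [← h1]; group
        rw [h3, h4, hbinv]
        have hcom1 : (g * b' * g⁻¹) * (b : W) = (b : W) * (g * b' * g⁻¹) :=
          hAcomm _ (hAn g b' b'.2) _ b.2
        have hcom2 : (g * b' * g⁻¹) * (b' : W) = (b' : W) * (g * b' * g⁻¹) :=
          hAcomm _ (hAn g b' b'.2) _ b'.2
        have hsq : (g * b' * g⁻¹) * (g * b' * g⁻¹) = 1 := by
          rw [← pow_two]; exact hA2 _ (hAn g b' b'.2)
        calc (g * b' * g⁻¹) * ((b : W) * ((b' : W) * (g * b' * g⁻¹)))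
            = ((g * b' * g⁻¹) * (b : W)) * ((b' : W) * (g * b' * g⁻¹)) := by group
          _ = ((b : W) * (g * b' * g⁻¹)) * ((b' : W) * (g * b' * g⁻¹)) := by rw [hcom1]
          _ = (b : W) * ((g * b' * g⁻¹) * (b' : W)) * (g * b' * g⁻¹) := by group
          _ = (b : W) * ((b' : W) * (g * b' * g⁻¹)) * (g * b' * g⁻¹) := by rw [hcom2]
          _ = (b : W) * (b' : W) * ((g * b' * g⁻¹) * (g * b' * g⁻¹)) := by group
          _ = (b : W) * (b' : W) := by rw [hsq, mul_one]
          _ = c := by rw [hc]; exact hAcomm _ b.2 _ b'.2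
      have h5 : y ^ (j - i) * c = c * y ^ (j - i) := by
        have := congrArg (fun t => t * g) h2
        simpa [hg] using this
      have hc1 : c = 1 := hym (j - i) (Nat.sub_pos_of_lt hij) (le_trans (Nat.sub_le j i) hjm) c hcA h5
      apply Subtype.ext
      have : (b' : W) * b = 1 := by rw [← hc]; exact hc1
      rw [← hbinv]
      exact (eq_inv_of_mul_eq_one_left this).symm ▸ rfl
    have hsurj : Function.Surjective lam := Finite.injective_iff_surjective.1 hlam
    obtain ⟨b, hb⟩ := hsurj ⟨a0, ha0⟩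
    have hb' : (b : W) * (g * b * g⁻¹) = a0 := congrArg Subtype.val hb
    have hcontra : ρ a0 x0 = x0 := by
      rw [← hb', hρm]
      by_cases hIb : ρ (b : W) x0 = x0
      · rw [(hI b b.2).1 hIb, hIb]
      · have h1 : ρ (b : W) x0 = x0⁻¹ := (hx0eig' b b.2).resolve_left hIb
        have h2 : ¬ ρ (g * b * g⁻¹) x0 = x0 := fun h => hIb ((hI b b.2).2 h)
        have h3 : ρ (g * b * g⁻¹) x0 = x0⁻¹ := (hx0eig' _ (hAn g b b.2)).resolve_left h2
        rw [h3, map_inv, h1, inv_inv]
    rw [hx0inv] at hcontra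
    exact hx0ne hcontra.symm
  have hsepF : ∀ i j : Fin (m + 1), i ≠ j → ∃ a ∈ A,
      (ρ a (xx i) = xx i ∧ ρ a (xx j) = (xx j)⁻¹) ∨ (ρ a (xx i) = (xx i)⁻¹ ∧ ρ a (xx j) = xx j) := by
    intro i j hij
    rcases lt_or_gt_of_ne (Fin.val_ne_of_ne hij) with hlt | hlt
    · obtain ⟨a, ha, hne⟩ := hsep i j hlt (Nat.lt_succ_iff.1 j.2)
      refine ⟨a, ha, ?_⟩
      by_cases hfi : ρ a (xx i) = xx i
      · left
        refine ⟨hfi, (hxxeig j a ha).resolve_left ?_⟩
        intro hfj
        exact hne ⟨fun _ => hfj, fun _ => hfi⟩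
      · right
        refine ⟨(hxxeig i a ha).resolve_left hfi, ?_⟩
        by_contra hfj
        exact hne ⟨fun h => absurd h hfi, fun h => absurd h hfj⟩
    · obtain ⟨a, ha, hne⟩ := hsep j i hlt (Nat.lt_succ_iff.1 i.2)
      refine ⟨a, ha, ?_⟩
      by_cases hfi : ρ a (xx i) = xx i
      · left
        refine ⟨hfi, (hxxeig j a ha).resolve_left ?_⟩
        intro hfj
        exact hne ⟨fun _ => hfi, fun _ => hfj⟩
      · right
        refine ⟨(hxxeig i a ha).resolve_left hfi, ?_⟩
        by_contra hfj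
        exact hne ⟨fun h => absurd h hfj, fun h => absurd h hfi⟩
  have hindep : ∀ e : Fin (m + 1) → ℤ, ∏ j : Fin (m + 1), xx j ^ e j = 1 →
      ∀ j : Fin (m + 1), xx j ^ e j = 1 := by
    intro e he j
    refine indep_of_eigen hodd T (fun j : Fin (m + 1) => xx j) ?_ ?_ e _ Finset.univ rfl he j
      (Finset.mem_univ j)
    · rintro φ ⟨a, ha, rfl⟩ k
      exact hxxeig k a ha
    · intro i j hij
      obtain ⟨a, ha, h⟩ := hsepF i j hij
      exact ⟨ρ a, ⟨a, ha, rfl⟩, h⟩
  refine ⟨fun j => xx j, fun j => hxxord j, fun j a ha => hxxeig j a ha, hsepF, hindep, ?_⟩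
  intro e hfix
  have hall : ∀ j : Fin (m + 1), xx j ^ e j = 1 := by
    intro j
    -- an element of A inverting xx j
    have haj : (wz j) * a0 * (wz j)⁻¹ ∈ A := hAn _ a0 ha0
    have hinvj : ρ ((wz j) * a0 * (wz j)⁻¹) (xx j) = (xx j)⁻¹ := by
      rw [hact j]
      have : (wz j)⁻¹ * ((wz j) * a0 * (wz j)⁻¹) * (wz j) = a0 := by group
      rw [this, hx0inv, map_inv]
    set a := (wz j) * a0 * (wz j)⁻¹ with ha
    let e' : Fin (m + 1) → ℤ := fun k => if ρ a (xx k) = xx k then 0 else 2 * e k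
    have hprod : ∏ k : Fin (m + 1), xx k ^ e' k =
        (∏ k : Fin (m + 1), xx k ^ e k) * (ρ a (∏ k : Fin (m + 1), xx k ^ e k))⁻¹ := by
      rw [map_prod, ← Finset.prod_inv_distrib, ← Finset.prod_mul_distrib]
      apply Finset.prod_congr rfl
      intro k _
      show xx k ^ (if ρ a (xx k) = xx k then 0 else 2 * e k) = _
      by_cases hk : ρ a (xx k) = xx k
      · rw [if_pos hk, map_zpow, hk, zpow_zero, mul_inv_cancel]
      · rw [if_neg hk, map_zpow, (hxxeig k a haj).resolve_left hk, inv_zpow, inv_inv, two_mul,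
          zpow_add]
    rw [hfix a haj, mul_inv_cancel] at hprod
    have h1 := hindep e' hprod j
    have h2 : e' j = 2 * e j := by
      show (if ρ a (xx j) = xx j then 0 else 2 * e j) = _
      rw [if_neg]
      intro h
      rw [hinvj] at h
      exact hxxne j h.symm
    rw [h2, mul_comm, zpow_mul] at h1
    apply eq_one_of_sq_eq_one hodd
    rw [← h1]
    norm_cast
  exact Finset.prod_eq_one (fun j _ => hall j)

end Family

section Span

variable {M : Type*} [CommGroup M]

theorem exists_zpow_of_mem_closure_range {n : ℕ} (x : Fin n → M) {z : M}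
    (hz : z ∈ Subgroup.closure (Set.range x)) : ∃ e : Fin n → ℤ, z = ∏ j, x j ^ e j := by
  classical
  induction hz using Subgroup.closure_induction with
  | mem z hz =>
    obtain ⟨k, rfl⟩ := hz
    refine ⟨fun j => if j = k then 1 else 0, ?_⟩
    rw [Finset.prod_eq_single k]
    · simp
    · intro b _ hb; simp [hb]
    · intro h; exact absurd (Finset.mem_univ k) h
  | one => exact ⟨fun _ => 0, by simp⟩
  | mul a b _ _ ha hb =>
    obtain ⟨e, rfl⟩ := ha
    obtain ⟨f, rfl⟩ := hb
    refine ⟨fun j => e j + f j, ?_⟩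
    rw [← Finset.prod_mul_distrib]
    apply Finset.prod_congr rfl
    intro j _
    rw [zpow_add]
  | inv a _ ha =>
    obtain ⟨e, rfl⟩ := ha
    refine ⟨fun j => - e j, ?_⟩
    rw [← Finset.prod_inv_distrib]
    apply Finset.prod_congr rfl
    intro j _
    rw [zpow_neg]

theorem pow_eq_one_of_mem_closure_range {n : ℕ} (x : Fin n → M) (r : ℕ)
    (hx : ∀ j, x j ^ r = 1) {z : M}
    (hz : z ∈ Subgroup.closure (Set.range x)) : z ^ r = 1 := by
  induction hz using Subgroup.closure_induction with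
  | mem z hz => obtain ⟨k, rfl⟩ := hz; exact hx k
  | one => exact one_pow r
  | mul a b _ _ ha hb => rw [mul_pow, ha, hb, one_mul]
  | inv a _ ha => rw [inv_pow, ha, inv_one]

end Span

end Cfsg.Agent.Helper20.ThA
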