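import Mathlib
import Cfsg.Agent.Helper20.ThEIGa

/-!
S3797 piece EIG (driver helper25): eigen-elements for `n+1` distinct characters commute.
-/

set_option autoImplicit false

namespace Cfsg.Agent.Helper20.Th

open Cfsg.Agent.Helper20.ThA

section Basic

variable {X : Type*} [Group X]

/-- an element of a `r`-group (`r` odd) whose square is `1` is trivial -/
theorem eq_one_of_sq_of_pgroup {r : ℕ} [Fact r.Prime] (hr : r ≠ 2) {R : Subgroup X}
    (hR : IsPGroup r R) {d : X} (hd : d ∈ R) (h2 : d ^ 2 = 1) : d = 1 := by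
  obtain ⟨k, hk⟩ := hR ⟨d, hd⟩
  have hk' : d ^ (r ^ k) = 1 := by
    have := congrArg Subtype.val hk
    simpa using this
  have hodd : Odd (r ^ k) := ((Fact.out : r.Prime).odd_of_ne_two hr).pow
  obtain ⟨l, hl⟩ := hodd
  rw [hl, pow_succ, pow_mul, h2, one_pow, one_mul] at hk'
  exact hk'

/-- `t² = 1`, `d = t x t⁻¹ x⁻¹` commutes with `t`, `d² = 1 → d = 1`: then `t` and `x` commute -/
theorem comm_of_comm_commutator {t x : X} (ht : t ^ 2 = 1)
    (hd : t * (t * x * t⁻¹ * x⁻¹) = (t * x * t⁻¹ * x⁻¹) * t)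
    (h1 : (t * x * t⁻¹ * x⁻¹) ^ 2 = 1 → t * x * t⁻¹ * x⁻¹ = 1) : t * x = x * t := by
  have htinv : t⁻¹ = t := by rw [inv_eq_iff_mul_eq_one, ← pow_two, ht]
  have hsq : (t * x * t⁻¹ * x⁻¹) ^ 2 = 1 := by
    -- x = t (t x t⁻¹) t⁻¹ = t d x t⁻¹ = d (t x t⁻¹) = d d x
    have e1 : t * (t * x * t⁻¹) * t⁻¹ = x := by
      have : t * t = 1 := by rw [← pow_two, ht]
      calc t * (t * x * t⁻¹) * t⁻¹ = (t * t) * x * (t⁻¹ * t⁻¹) := by group
        _ = x := by rw [htinv, this, one_mul, mul_one]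
    have e2 : t * x * t⁻¹ = (t * x * t⁻¹ * x⁻¹) * x := by group
    have e3 : t * (t * x * t⁻¹) * t⁻¹ = (t * x * t⁻¹ * x⁻¹) * (t * x * t⁻¹ * x⁻¹) * x := by
      calc t * (t * x * t⁻¹) * t⁻¹ = t * ((t * x * t⁻¹ * x⁻¹) * x) * t⁻¹ := by rw [← e2]
        _ = (t * (t * x * t⁻¹ * x⁻¹)) * (x * t⁻¹) := by group
        _ = ((t * x * t⁻¹ * x⁻¹) * t) * (x * t⁻¹) := by rw [hd]
        _ = (t * x * t⁻¹ * x⁻¹) * (t * x * t⁻¹) := by group
        _ = (t * x * t⁻¹ * x⁻¹) * ((t * x * t⁻¹ * x⁻¹) * x) := by rw [← e2]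
        _ = _ := by group
    rw [e1] at e3
    rw [pow_two]
    have := congrArg (fun u => u * x⁻¹) e3
    simp only [mul_inv_cancel, mul_inv_cancel_right] at this
    exact this.symm
  have h3 := h1 hsq
  have : t * x * t⁻¹ = x := by
    have := congrArg (fun u => u * x) h3
    simpa using this
  have := congrArg (fun u => u * t) this
  simpa using this

theorem inv_commutator_aux {u v c : X} (hc : u * v * u⁻¹ = c * v) (hcv : c * v = v * c) :
    u * v⁻¹ * u⁻¹ * v = c⁻¹ := by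
  calc u * v⁻¹ * u⁻¹ * v = (u * v * u⁻¹)⁻¹ * v := by group
    _ = (c * v)⁻¹ * v := by rw [hc]
    _ = (v * c)⁻¹ * v := by rw [hcv]
    _ = c⁻¹ := by group

/-- the commutator computation: `t u t⁻¹ = u zu`, `t v t⁻¹ = v⁻¹ zv` with `zu zv` and the commutator
`c` of `u v` central and `t`-fixed: `c² = 1`. -/
theorem sq_commutator_eq_one {t u v zu zv : X} (hu : t * u * t⁻¹ = u * zu) (hv : t * v * t⁻¹ = v⁻¹ * zv)
    (h1 : zu * u = u * zu) (h2 : zu * v = v * zu) (h3 : zv * u = u * zv) (h4 : zv * v = v * zv)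
    (h5 : zu * zv = zv * zu)
    (hcv : (u * v * u⁻¹ * v⁻¹) * v = v * (u * v * u⁻¹ * v⁻¹))
    (hct : t * (u * v * u⁻¹ * v⁻¹) * t⁻¹ = u * v * u⁻¹ * v⁻¹) :
    (u * v * u⁻¹ * v⁻¹) ^ 2 = 1 := by
  have e0 : t * (u * v * u⁻¹ * v⁻¹) * t⁻¹
      = (t * u * t⁻¹) * (t * v * t⁻¹) * (t * u * t⁻¹)⁻¹ * (t * v * t⁻¹)⁻¹ := by group
  rw [hu, hv] at e0
  have h2' : zu * v⁻¹ = v⁻¹ * zu := by
    have := congrArg (fun w => v⁻¹ * w * v⁻¹) h2
    simp only [mul_assoc, mul_inv_cancel, mul_one, inv_mul_cancel_left] at this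
    exact this.symm
  have h1' : zu⁻¹ * u⁻¹ = u⁻¹ * zu⁻¹ := by
    rw [← mul_inv_rev, ← mul_inv_rev, h1]
  have h3' : zv * u⁻¹ = u⁻¹ * zv := by
    have := congrArg (fun w => u⁻¹ * w * u⁻¹) h3
    simp only [mul_assoc, mul_inv_cancel, mul_one, inv_mul_cancel_left] at this
    exact this.symm
  have e1 : (u * zu) * (v⁻¹ * zv) * (u * zu)⁻¹ * (v⁻¹ * zv)⁻¹ = u * v⁻¹ * u⁻¹ * v := by
    calc (u * zu) * (v⁻¹ * zv) * (u * zu)⁻¹ * (v⁻¹ * zv)⁻¹
        = u * (zu * v⁻¹) * zv * zu⁻¹ * u⁻¹ * zv⁻¹ * v := by group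
      _ = u * (v⁻¹ * zu) * zv * zu⁻¹ * u⁻¹ * zv⁻¹ * v := by rw [h2']
      _ = u * v⁻¹ * (zu * zv) * zu⁻¹ * u⁻¹ * zv⁻¹ * v := by group
      _ = u * v⁻¹ * (zv * zu) * zu⁻¹ * u⁻¹ * zv⁻¹ * v := by rw [h5]
      _ = u * v⁻¹ * (zv * u⁻¹) * zv⁻¹ * v := by group
      _ = u * v⁻¹ * (u⁻¹ * zv) * zv⁻¹ * v := by rw [h3']
      _ = u * v⁻¹ * u⁻¹ * v := by group
  rw [e1, hct] at e0
  -- u v⁻¹ u⁻¹ v = c⁻¹
  have e2 : u * v⁻¹ * u⁻¹ * v = (u * v * u⁻¹ * v⁻¹)⁻¹ := by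
    have e3 : u * v * u⁻¹ = (u * v * u⁻¹ * v⁻¹) * v := by group
    exact inv_commutator_aux e3 hcv
  rw [e2] at e0
  rw [pow_two]
  nth_rewrite 1 [e0]
  exact inv_mul_cancel _

end Basic

section Main

variable {X : Type*} [Group X] [Finite X]

/-- conjugation by an element normalising `R`, as an endomorphism of `↥R` -/
def cj (R : Subgroup X) (g : X) (hg : ∀ x ∈ R, g * x * g⁻¹ ∈ R) : ↥R →* ↥R where
  toFun x := ⟨g * x * g⁻¹, hg x x.2⟩
  map_one' := by ext; simp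
  map_mul' a b := by ext; simp

@[simp] theorem cj_coe (R : Subgroup X) (g : X) (hg : ∀ x ∈ R, g * x * g⁻¹ ∈ R) (x : R) :
    ((cj R g hg x : R) : X) = g * x * g⁻¹ := rfl

theorem exists_abelian_eigen (r : ℕ) [Fact r.Prime] (hr : r ≠ 2)
    (R A W : Subgroup X) (hR : IsPGroup r R) (hA2 : ∀ a ∈ A, a ^ 2 = 1)
    (hAW : A ≤ W)
    (hWA : ∀ w ∈ W, ∀ a ∈ A, w * a * w⁻¹ ∈ A) (hWR : ∀ w ∈ W, ∀ x ∈ R, w * x * w⁻¹ ∈ R)
    (hmin : ∀ K : Subgroup X, K ≤ R → K ≠ R → (∀ w ∈ W, ∀ x ∈ K, w * x * w⁻¹ ∈ K) →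
        ∀ x ∈ K, ∀ a ∈ A, a * x = x * a)
    (hnt : ∃ x ∈ R, ∃ a ∈ A, a * x ≠ x * a)
    (y : X) (hy : y ∈ W) (hyodd : Odd (orderOf y)) (m : ℕ)
    (hym : ∀ i : ℕ, 0 < i → i ≤ m → ∀ a ∈ A, y ^ i * a = a * y ^ i → a = 1) :
    ∃ E Φ : Subgroup X, Φ ≤ E ∧ E ≤ R ∧ (∀ a ∈ E, ∀ b ∈ E, a * b = b * a) ∧
      (∀ a ∈ E, a ^ r ∈ Φ) ∧ r ^ (m + 1) ≤ Φ.relIndex E ∧
      (∀ K : Subgroup X, K ≤ R → K ≠ R → (∀ w ∈ W, ∀ x ∈ K, w * x * w⁻¹ ∈ K) → K ⊓ E ≤ Φ) := by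
  classical
  -- the abelianisation of R and the action of W on it
  let π : ↥R →* Abelianization ↥R := Abelianization.of
  have hπsurj : Function.Surjective π := QuotientGroup.mk_surjective
  have hker : π.ker = commutator ↥R := Abelianization.ker_of ↥R
  let ρ : ↥W → Abelianization ↥R →* Abelianization ↥R :=
    fun w => Abelianization.map (cj R w (hWR w w.2))
  have hρπ : ∀ (w : ↥W) (x : ↥R), ρ w (π x) = π (cj R w (hWR w w.2) x) := by
    intro w x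
    exact Abelianization.map_of _ x
  have hρ1 : ∀ z, ρ 1 z = z := by
    intro z
    obtain ⟨x, rfl⟩ := hπsurj z
    rw [hρπ]
    congr 1
    ext
    simp
  have hρm : ∀ w w' z, ρ (w * w') z = ρ w (ρ w' z) := by
    intro w w' z
    obtain ⟨x, rfl⟩ := hπsurj z
    rw [hρπ, hρπ, hρπ]
    congr 1
    ext
    simp [mul_assoc]
  let Φ : Subgroup X := (commutator ↥R).map R.subtype
  have hΦmem : ∀ x : ↥R, (x : X) ∈ Φ ↔ π x = 1 := by
    intro x
    rw [← MonoidHom.mem_ker, hker]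
    constructor
    · rintro ⟨c, hc, hcx⟩
      have : c = x := Subtype.ext hcx
      rw [← this]; exact hc
    · intro h
      exact ⟨x, h, rfl⟩
  have hΦR : Φ ≤ R := Subgroup.map_subtype_le _
  have hΦmem' : ∀ x : X, x ∈ Φ ↔ ∃ hx : x ∈ R, π ⟨x, hx⟩ = 1 := by
    intro x
    constructor
    · intro h
      exact ⟨hΦR h, (hΦmem ⟨x, hΦR h⟩).1 h⟩
    · rintro ⟨hx, h⟩
      exact (hΦmem ⟨x, hx⟩).2 h
  have hΦW : ∀ w ∈ W, ∀ x ∈ Φ, w * x * w⁻¹ ∈ Φ := by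
    intro w hw x hx
    obtain ⟨hxR, hx1⟩ := (hΦmem' x).1 hx
    have h1 := hρπ ⟨w, hw⟩ ⟨x, hxR⟩
    rw [hx1, map_one] at h1
    exact (hΦmem _).2 h1.symm
  have hΦn : ∀ g ∈ R, ∀ x ∈ Φ, g * x * g⁻¹ ∈ Φ := by
    intro g hg x hx
    obtain ⟨hxR, hx1⟩ := (hΦmem' x).1 hx
    have : π (⟨g, hg⟩ * ⟨x, hxR⟩ * ⟨g, hg⟩⁻¹) = 1 := by
      rw [map_mul, map_mul, hx1, mul_one, map_inv, mul_inv_cancel]
    exact (hΦmem _).2 this
  obtain ⟨x₁, hx₁R, a₁, ha₁A, hx₁a₁⟩ := hnt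
  have hΦne : Φ ≠ R := by
    intro h
    have : Nontrivial ↥R := by
      refine ⟨⟨⟨x₁, hx₁R⟩, 1, ?_⟩⟩
      intro h1
      have : x₁ = 1 := congrArg Subtype.val h1
      apply hx₁a₁
      rw [this, mul_one, one_mul]
    have : Group.IsNilpotent ↥R := hR.isNilpotent
    have hlt := Group.IsSolvable.commutator_lt_top_of_nontrivial ↥R
    apply hlt.ne
    rw [eq_top_iff]
    intro x _
    rw [← hker, MonoidHom.mem_ker, ← hΦmem, h]
    exact x.2
  have hAΦ : ∀ x ∈ Φ, ∀ a ∈ A, a * x = x * a := hmin Φ hΦR hΦne hΦW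
  have hsqR : ∀ d ∈ R, d ^ 2 = 1 → d = 1 := fun d hd h2 => eq_one_of_sq_of_pgroup hr hR hd h2
  have hdR : ∀ t ∈ A, ∀ x ∈ R, t * x * t⁻¹ * x⁻¹ ∈ R := by
    intro t ht x hx
    exact R.mul_mem (hWR t (hAW ht) x hx) (R.inv_mem hx)
  -- Φ is central in R
  have hΦZ : ∀ c ∈ Φ, ∀ x ∈ R, c * x = x * c := by
    let C : Subgroup X := R ⊓ Subgroup.centralizer (Φ : Set X)
    have hCW : ∀ w ∈ W, ∀ x ∈ C, w * x * w⁻¹ ∈ C := by
      intro w hw x hx
      have hx := Subgroup.mem_inf.1 hx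
      refine Subgroup.mem_inf.2 ⟨hWR w hw x hx.1, Subgroup.mem_centralizer_iff.2 ?_⟩
      intro c hc
      have hc' : w⁻¹ * c * w ∈ Φ := by
        have := hΦW w⁻¹ (W.inv_mem hw) c hc
        rwa [inv_inv] at this
      have h1 : (w⁻¹ * c * w) * x = x * (w⁻¹ * c * w) :=
        (Subgroup.mem_centralizer_iff.1 hx.2) _ hc'
      calc c * (w * x * w⁻¹) = w * ((w⁻¹ * c * w) * x) * w⁻¹ := by group
        _ = w * (x * (w⁻¹ * c * w)) * w⁻¹ := by rw [h1]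
        _ = w * x * w⁻¹ * c := by group
    have hdC : ∀ t ∈ A, ∀ x ∈ R, t * x * t⁻¹ * x⁻¹ ∈ C := by
      intro t ht x hx
      refine Subgroup.mem_inf.2 ⟨hdR t ht x hx, Subgroup.mem_centralizer_iff.2 ?_⟩
      intro c hc
      have hc' : x⁻¹ * c * x ∈ Φ := by
        have := hΦn x⁻¹ (R.inv_mem hx) c hc
        rwa [inv_inv] at this
      have h1 : t * (x⁻¹ * c * x) = (x⁻¹ * c * x) * t := hAΦ _ hc' t ht
      have h2 : t * c = c * t := hAΦ _ hc t ht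
      have h1' : (x⁻¹ * c * x) * t⁻¹ = t⁻¹ * (x⁻¹ * c * x) :=
        (Commute.inv_left (show Commute t (x⁻¹ * c * x) from h1)).eq.symm
      calc c * (t * x * t⁻¹ * x⁻¹) = (c * t) * x * t⁻¹ * x⁻¹ := by group
        _ = (t * c) * x * t⁻¹ * x⁻¹ := by rw [h2]
        _ = t * x * ((x⁻¹ * c * x) * t⁻¹) * x⁻¹ := by group
        _ = t * x * (t⁻¹ * (x⁻¹ * c * x)) * x⁻¹ := by rw [h1']
        _ = t * x * t⁻¹ * x⁻¹ * c := by group
    by_cases hC : C = R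
    · intro c hc x hx
      have : x ∈ C := by rw [hC]; exact hx
      exact (Subgroup.mem_centralizer_iff.1 (Subgroup.mem_inf.1 this).2) c hc
    · exfalso
      have hAC := hmin C inf_le_left hC hCW
      apply hx₁a₁
      apply comm_of_comm_commutator (hA2 a₁ ha₁A)
      · exact hAC _ (hdC a₁ ha₁A x₁ hx₁R) a₁ ha₁A
      · exact hsqR _ (hdR a₁ ha₁A x₁ hx₁R)
  -- A acts non-trivially on the abelianisation
  let Aw : Subgroup ↥W := A.subgroupOf W
  have hntρ : ∃ a ∈ Aw, ∃ z, ρ a z ≠ z := by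
    by_contra hcon
    push Not at hcon
    apply hx₁a₁
    apply comm_of_comm_commutator (hA2 a₁ ha₁A)
    · have h1 := hcon ⟨a₁, hAW ha₁A⟩ (Subgroup.mem_subgroupOf.2 ha₁A) (π ⟨x₁, hx₁R⟩)
      rw [hρπ] at h1
      have h2 : π (cj R a₁ (hWR a₁ (hAW ha₁A)) ⟨x₁, hx₁R⟩ * ⟨x₁, hx₁R⟩⁻¹) = 1 := by
        rw [map_mul, h1, map_inv, mul_inv_cancel]
      have h3 : a₁ * x₁ * a₁⁻¹ * x₁⁻¹ ∈ Φ := (hΦmem _).2 h2
      exact hAΦ _ h3 a₁ ha₁A
    · exact hsqR _ (hdR a₁ ha₁A x₁ hx₁R)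
  have hM : IsPGroup r (Abelianization ↥R) := hR.of_surjective π hπsurj
  have hA2' : ∀ a ∈ Aw, a ^ 2 = 1 := by
    intro a ha
    apply Subtype.ext
    rw [Subgroup.coe_pow]
    exact hA2 _ (Subgroup.mem_subgroupOf.1 ha)
  have hAn' : ∀ w : ↥W, ∀ a ∈ Aw, w * a * w⁻¹ ∈ Aw := by
    intro w a ha
    rw [Subgroup.mem_subgroupOf]
    exact hWA w w.2 a (Subgroup.mem_subgroupOf.1 ha)
  have hym' : ∀ i : ℕ, 0 < i → i ≤ m → ∀ a ∈ Aw,
      (⟨y, hy⟩ : ↥W) ^ i * a = a * (⟨y, hy⟩ : ↥W) ^ i → a = 1 := by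
    intro i hi him a ha h
    apply Subtype.ext
    have h1 := congrArg Subtype.val h
    simp only [Subgroup.coe_mul, Subgroup.coe_pow] at h1
    exact hym i hi him a (Subgroup.mem_subgroupOf.1 ha) h1
  obtain ⟨xb, hord, heig, hsep, hindep, hfix⟩ :=
    exists_family r hr hM ρ hρ1 hρm Aw hA2' hAn' hntρ ⟨y, hy⟩ m hym'
  choose xl hxl using fun j => hπsurj (xb j)
  have hcommM : ∀ a b : Abelianization ↥R, a * b * a⁻¹ * b⁻¹ = 1 := by
    intro a b
    rw [mul_comm a b, mul_inv_cancel_right, mul_inv_cancel]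
  have hpat : ∀ i j : Fin (m + 1), ∀ a ∈ Aw, ρ a (xb i) = xb i → ρ a (xb j) = (xb j)⁻¹ →
      (xl i : X) * xl j = xl j * xl i := by
    intro i j a ha hi hj
    have htA : (a : X) ∈ A := Subgroup.mem_subgroupOf.1 ha
    have hzuΦ : ((xl i : X))⁻¹ * ((a : X) * xl i * (a : X)⁻¹) ∈ Φ := by
      have : π ((xl i)⁻¹ * cj R a (hWR a a.2) (xl i)) = 1 := by
        rw [map_mul, map_inv, ← hρπ, hxl, hi, inv_mul_cancel]
      exact (hΦmem _).2 this
    have hzvΦ : ((xl j : X)) * ((a : X) * xl j * (a : X)⁻¹) ∈ Φ := by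
      have : π ((xl j) * cj R a (hWR a a.2) (xl j)) = 1 := by
        rw [map_mul, ← hρπ, hxl, hj, mul_inv_cancel]
      exact (hΦmem _).2 this
    have hcΦ : (xl i : X) * xl j * (xl i : X)⁻¹ * (xl j : X)⁻¹ ∈ Φ := by
      have : π (xl i * xl j * (xl i)⁻¹ * (xl j)⁻¹) = 1 := by
        rw [map_mul, map_mul, map_mul, map_inv, map_inv, hcommM]
      exact (hΦmem _).2 this
    have hsq := sq_commutator_eq_one (t := (a : X)) (u := (xl i : X)) (v := (xl j : X))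
      (zu := ((xl i : X))⁻¹ * ((a : X) * xl i * (a : X)⁻¹))
      (zv := ((xl j : X)) * ((a : X) * xl j * (a : X)⁻¹))
      (by group) (by group)
      (hΦZ _ hzuΦ _ (xl i).2) (hΦZ _ hzuΦ _ (xl j).2) (hΦZ _ hzvΦ _ (xl i).2)
      (hΦZ _ hzvΦ _ (xl j).2) (hΦZ _ hzuΦ _ (hΦR hzvΦ)) (hΦZ _ hcΦ _ (xl j).2)
      (by
        have := hAΦ _ hcΦ _ htA
        rw [this, mul_inv_cancel_right])
    have hc1 := hsqR _ (hΦR hcΦ) hsq
    have := congrArg (fun u => u * (xl j : X) * (xl i : X)) hc1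
    simpa using this
  have hcomm_lift : ∀ i j : Fin (m + 1), (xl i : X) * xl j = xl j * xl i := by
    intro i j
    by_cases hij : i = j
    · rw [hij]
    · obtain ⟨a, ha, h | h⟩ := hsep i j hij
      · exact hpat i j a ha h.1 h.2
      · exact (hpat j i a ha h.2 h.1).symm
  let ER : Subgroup ↥R := Subgroup.closure (Set.range xl) ⊔ commutator ↥R
  let Ebar : Subgroup (Abelianization ↥R) := Subgroup.closure (Set.range xb)
  have hERle : ER ≤ Ebar.comap π := by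
    refine sup_le ((Subgroup.closure_le _).2 ?_) ?_
    · rintro _ ⟨j, rfl⟩
      show π (xl j) ∈ Ebar
      rw [hxl]; exact Subgroup.subset_closure ⟨j, rfl⟩
    · intro c hc
      show π c ∈ Ebar
      have : π c = 1 := by rw [← MonoidHom.mem_ker, hker]; exact hc
      rw [this]; exact Ebar.one_mem
  have hERcomm : ∀ a ∈ ER, ∀ b ∈ ER, a * b = b * a := by
    let S : Set ↥R := Set.range xl ∪ (commutator ↥R : Set ↥R)
    have hS : ER = Subgroup.closure S := by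
      show Subgroup.closure (Set.range xl) ⊔ commutator ↥R =
        Subgroup.closure (Set.range xl ∪ (commutator ↥R : Set ↥R))
      rw [Subgroup.closure_union, Subgroup.closure_eq]
    have hSS : ∀ s ∈ S, ∀ s' ∈ S, s * s' = s' * s := by
      rintro s (⟨i, rfl⟩ | hs) s' (⟨j, rfl⟩ | hs')
      · exact Subtype.ext (hcomm_lift i j)
      · apply Subtype.ext
        have : (s' : X) ∈ Φ := ⟨s', hs', rfl⟩
        exact (hΦZ _ this _ (xl i).2).symm
      · apply Subtype.ext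
        have : (s : X) ∈ Φ := ⟨s, hs, rfl⟩
        exact hΦZ _ this _ (xl j).2
      · apply Subtype.ext
        have : (s : X) ∈ Φ := ⟨s, hs, rfl⟩
        exact hΦZ _ this _ s'.2
    have h1 : Subgroup.closure S ≤ Subgroup.centralizer S :=
      (Subgroup.closure_le _).2 (fun s hs => Subgroup.mem_centralizer_iff.2
        (fun s' hs' => hSS s' hs' s hs))
    have h2 : Subgroup.closure S ≤ Subgroup.centralizer (Subgroup.closure S : Set ↥R) :=
      (Subgroup.closure_le _).2 (fun s hs => Subgroup.mem_centralizer_iff.2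
        (fun g hg => ((Subgroup.mem_centralizer_iff.1 (h1 hg)) s hs).symm))
    intro a ha b hb
    rw [hS] at ha hb
    exact ((Subgroup.mem_centralizer_iff.1 (h2 ha)) b hb).symm
  refine ⟨ER.map R.subtype, Φ, ?_, ?_, ?_, ?_, ?_, ?_⟩
  · exact Subgroup.map_mono le_sup_right
  · exact Subgroup.map_subtype_le _
  · rintro _ ⟨a, ha, rfl⟩ _ ⟨b, hb, rfl⟩
    exact congrArg Subtype.val (hERcomm a ha b hb)
  · rintro _ ⟨a, ha, rfl⟩
    have h1 : π a ∈ Ebar := hERle ha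
    have h2 : (π a) ^ r = 1 := pow_eq_one_of_mem_closure_range xb r
      (fun j => by rw [← hord j]; exact pow_orderOf_eq_one _) h1
    have h3 : π (a ^ r) = 1 := by rw [map_pow, h2]
    have := (hΦmem (a ^ r)).2 h3
    simpa using this
  · rw [Subgroup.relIndex_map_map_of_injective _ _ R.subtype_injective, ← hker,
      Subgroup.relIndex_ker]
    have hmem : ∀ j, xb j ∈ ER.map π := fun j =>
      ⟨xl j, (le_sup_left : Subgroup.closure (Set.range xl) ≤ ER)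
        (Subgroup.subset_closure ⟨j, rfl⟩), hxl j⟩
    let f : (Fin (m + 1) → Fin r) → ↥(ER.map π) := fun e =>
      ⟨∏ j, xb j ^ (((e j : ℕ) : ℤ)), Subgroup.prod_mem _
        (fun j _ => Subgroup.zpow_mem _ (hmem j) _)⟩
    have hf : Function.Injective f := by
      intro e e' h
      have h1 : ∏ j, xb j ^ (((e j : ℕ) : ℤ)) = ∏ j, xb j ^ (((e' j : ℕ) : ℤ)) :=
        congrArg Subtype.val h
      have h2 : ∏ j, xb j ^ ((((e j : ℕ) : ℤ)) - (((e' j : ℕ) : ℤ))) = 1 := by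
        simp_rw [zpow_sub]
        rw [Finset.prod_mul_distrib, Finset.prod_inv_distrib, h1, mul_inv_cancel]
      have h3 := hindep _ h2
      funext j
      have h4 := h3 j
      rw [← orderOf_dvd_iff_zpow_eq_one, hord j] at h4
      apply Fin.ext
      have hej := (e j).2
      have he'j := (e' j).2
      have h5 : (((e j : ℕ) : ℤ)) % (r : ℤ) = (((e' j : ℕ) : ℤ)) % (r : ℤ) :=
        Int.emod_eq_emod_iff_emod_sub_eq_zero.2 (Int.emod_eq_zero_of_dvd h4)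
      rw [Int.emod_eq_of_lt (by positivity) (by exact_mod_cast hej),
        Int.emod_eq_of_lt (by positivity) (by exact_mod_cast he'j)] at h5
      exact_mod_cast h5
    calc r ^ (m + 1) = Nat.card (Fin (m + 1) → Fin r) := by
          rw [Nat.card_fun, Nat.card_fin, Nat.card_fin]
      _ ≤ Nat.card ↥(ER.map π) := Nat.card_le_card_of_injective f hf
  · intro K hKR hKne hKW z hz
    obtain ⟨hzK, hzE⟩ := Subgroup.mem_inf.1 hz
    obtain ⟨g, hg, rfl⟩ := hzE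
    have hAK := hmin K hKR hKne hKW
    have h1 : π g ∈ Ebar := hERle hg
    obtain ⟨e, he⟩ := exists_zpow_of_mem_closure_range xb h1
    have h2 : ∀ a ∈ Aw, ρ a (π g) = π g := by
      intro a ha
      rw [hρπ]
      congr 1
      apply Subtype.ext
      show (a : X) * g * (a : X)⁻¹ = g
      have := hAK _ hzK _ (Subgroup.mem_subgroupOf.1 ha)
      simp only [Subgroup.coe_subtype] at this
      rw [this, mul_inv_cancel_right]
    rw [he] at h2
    have h3 := hfix e h2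
    rw [← he] at h3
    exact (hΦmem g).2 h3

end Main

end Cfsg.Agent.Helper20.Th
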