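import Mathlib
import Cfsg.Prelude.Def_OddOrderLocal

/-!
# TI subgroups that are Hall subgroups of their normalizers: basic facts
-/

set_option autoImplicit false

namespace Cfsg.Agent.Helper20.TiHall

open scoped Pointwise

variable {G : Type*} [Group G]

theorem mem_normalizer_of_conj_mem {H : Subgroup G} (hTI : Cfsg.IsTISubset (H : Set G))
    {x g : G} (hx : x ∈ H) (hx1 : x ≠ 1) (hg : g * x * g⁻¹ ∈ H) :
    g ∈ Subgroup.normalizer (H : Set G) := by
  by_contra h
  exact hx1 (hTI g h x hx hg)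

/-- An element of `N_G(H)` of order coprime to `|N_G(H) : H|` lies in `H`. -/
theorem mem_of_coprime [Finite G] {H : Subgroup G} {y : G}
    (hy : y ∈ Subgroup.normalizer (H : Set G))
    (hco : (orderOf y).Coprime (H.subgroupOf (Subgroup.normalizer (H : Set G))).index) :
    y ∈ H := by
  set M := Subgroup.normalizer (H : Set G) with hM
  set H' := H.subgroupOf M with hH'
  haveI : H'.Normal := Subgroup.normal_in_normalizer
  let ybar : M ⧸ H' := QuotientGroup.mk ⟨y, hy⟩
  have h1 : ybar ^ orderOf y = 1 := by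
    change (QuotientGroup.mk ((⟨y, hy⟩ : M) ^ orderOf y) : M ⧸ H') = 1
    have : (⟨y, hy⟩ : M) ^ orderOf y = 1 := by
      apply Subtype.ext
      simp [pow_orderOf_eq_one]
    rw [this]
    rfl
  have h2 : ybar ^ H'.index = 1 := by
    rw [Subgroup.index_eq_card]
    exact pow_card_eq_one'
  have h3 : orderOf ybar ∣ Nat.gcd (orderOf y) H'.index :=
    Nat.dvd_gcd (orderOf_dvd_of_pow_eq_one h1) (orderOf_dvd_of_pow_eq_one h2)
  rw [hco, Nat.dvd_one, orderOf_eq_one_iff] at h3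
  have h4 : (⟨y, hy⟩ : M) ∈ H' := (QuotientGroup.eq_one_iff _).mp h3
  exact Subgroup.mem_subgroupOf.mp h4

section Main

variable [Finite G] (H : Subgroup G) (hTI : Cfsg.IsTISubset (H : Set G))
  (hHall : (Nat.card H).Coprime (H.subgroupOf (Subgroup.normalizer (H : Set G))).index)

include hTI hHall

/-- A Sylow `p`-subgroup of `G` inside `H`, for `p ∣ |H|`. -/
theorem exists_sylow_le (p : ℕ) [hp : Fact p.Prime] (hpH : p ∣ Nat.card H) :
    ∃ Q : Sylow p G, (Q : Subgroup G) ≤ H := by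
  have hpi : ¬ p ∣ (H.subgroupOf (Subgroup.normalizer (H : Set G))).index := by
    intro h
    exact hp.out.one_lt.ne' (Nat.eq_one_of_dvd_coprimes hHall hpH h)
  -- p-elements of the normalizer are in H
  have hpel : ∀ (Q : Subgroup G), IsPGroup p Q → ∀ g ∈ Q,
      g ∈ Subgroup.normalizer (H : Set G) → g ∈ H := by
    intro Q hQ g hgQ hgM
    apply mem_of_coprime hgM
    obtain ⟨k, hk⟩ := hQ ⟨g, hgQ⟩
    have h1 : g ^ p ^ k = 1 := by
      have := congrArg Subtype.val hk
      simpa using this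
    obtain ⟨j, _, hj⟩ := (Nat.dvd_prime_pow hp.out).mp (orderOf_dvd_of_pow_eq_one h1)
    rw [hj]
    exact Nat.Coprime.pow_left _ ((Nat.Prime.coprime_iff_not_dvd hp.out).mpr hpi)
  -- an element of order p in H
  obtain ⟨x, hx⟩ := exists_prime_orderOf_dvd_card' p hpH
  have hx1 : (x : G) ≠ 1 := by
    intro h
    have : x = 1 := Subtype.ext h
    rw [this, orderOf_one] at hx
    exact hp.out.one_lt.ne hx
  have hxp : IsPGroup p (Subgroup.zpowers (x : G)) := by
    apply IsPGroup.of_card (n := 1)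
    rw [Nat.card_zpowers, pow_one, Subgroup.orderOf_coe, hx]
  obtain ⟨Q, hQ⟩ := hxp.exists_le_sylow
  refine ⟨Q, ?_⟩
  have hxQ : (x : G) ∈ (Q : Subgroup G) := hQ (Subgroup.mem_zpowers _)
  haveI : Nontrivial (Q : Subgroup G) := ⟨⟨⟨x, hxQ⟩, 1, fun h => hx1 (congrArg Subtype.val h)⟩⟩
  obtain ⟨⟨z, hzQ⟩, hzc, hz1⟩ : ∃ z : (Q : Subgroup G), z ∈ Subgroup.center (Q : Subgroup G) ∧ z ≠ 1 := by
    haveI := Q.isPGroup'.center_nontrivial
    obtain ⟨⟨z, hz⟩, hz1⟩ := exists_ne (1 : Subgroup.center (Q : Subgroup G))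
    exact ⟨z, hz, fun h => hz1 (Subtype.ext h)⟩
  have hz1' : z ≠ 1 := fun h => hz1 (Subtype.ext h)
  rw [Subgroup.mem_center_iff] at hzc
  -- z commutes with x, so z normalizes H, so z in H
  have hzx : z * x * z⁻¹ = x := by
    have := hzc ⟨x, hxQ⟩
    have h2 : (x : G) * z = z * x := congrArg Subtype.val this
    rw [← h2, mul_inv_cancel_right]
  have hzM : z ∈ Subgroup.normalizer (H : Set G) :=
    mem_normalizer_of_conj_mem hTI x.2 hx1 (by rw [hzx]; exact x.2)
  have hzH : z ∈ H := hpel Q Q.isPGroup' z hzQ hzM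
  intro g hg
  have hgz : g * z * g⁻¹ = z := by
    have := hzc ⟨g, hg⟩
    have h2 : (g : G) * z = z * g := congrArg Subtype.val this
    rw [h2, mul_inv_cancel_right]
  have hgM : g ∈ Subgroup.normalizer (H : Set G) :=
    mem_normalizer_of_conj_mem hTI hzH hz1' (by rw [hgz]; exact hzH)
  exact hpel Q Q.isPGroup' g hg hgM

/-- `H` is a Hall subgroup of `G`. -/
theorem coprime_card_index : (Nat.card H).Coprime H.index := by
  apply Nat.coprime_of_dvd
  intro p hp hpH hpi
  haveI : Fact p.Prime := ⟨hp⟩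
  obtain ⟨Q, hQ⟩ := exists_sylow_le H hTI hHall p hpH
  have h1 := Q.not_dvd_index
  rw [← Subgroup.relIndex_mul_index hQ] at h1
  exact h1 (Dvd.dvd.mul_left hpi _)

/-- Elements whose order divides `|H|` are conjugate into `H`. -/
theorem exists_conj_mem {y : G} (hy1 : y ≠ 1) (hy : orderOf y ∣ Nat.card H) :
    ∃ g : G, g * y * g⁻¹ ∈ H := by
  have hord : orderOf y ≠ 1 := by
    rw [Ne, orderOf_eq_one_iff]
    exact hy1
  set p := (orderOf y).minFac with hpdef
  have hp : p.Prime := Nat.minFac_prime hord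
  haveI : Fact p.Prime := ⟨hp⟩
  have hpy : p ∣ orderOf y := Nat.minFac_dvd _
  set z := y ^ (orderOf y / p) with hzdef
  have hz : orderOf z = p := orderOf_pow_orderOf_div (orderOf_pos y).ne' hpy
  obtain ⟨Q, hQ⟩ := exists_sylow_le H hTI hHall p (hpy.trans hy)
  have hzp : IsPGroup p (Subgroup.zpowers z) := by
    apply IsPGroup.of_card (n := 1)
    rw [Nat.card_zpowers, pow_one, hz]
  obtain ⟨Q', hQ'⟩ := hzp.exists_le_sylow
  obtain ⟨g, hg⟩ := MulAction.exists_smul_eq G Q' Q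
  refine ⟨g, ?_⟩
  have hz1 : z ≠ 1 := by
    intro h
    rw [h, orderOf_one] at hz
    exact hp.one_lt.ne hz
  have hgz : g * z * g⁻¹ ∈ H := by
    apply hQ
    rw [← hg, Sylow.coe_subgroup_smul, Subgroup.mem_pointwise_smul_iff_inv_smul_mem]
    rw [MulAut.smul_def, MulAut.conj_inv_apply]
    have : g⁻¹ * (g * z * g⁻¹) * g = z := by group
    rw [this]
    exact hQ' (Subgroup.mem_zpowers z)
  have hgz1 : g * z * g⁻¹ ≠ 1 := by
    intro h
    apply hz1
    have : z = g⁻¹ * (g * z * g⁻¹) * g := by group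
    rw [this, h]
    group
  -- g y g⁻¹ commutes with g z g⁻¹
  have hcomm : (g * y * g⁻¹) * (g * z * g⁻¹) * (g * y * g⁻¹)⁻¹ = g * z * g⁻¹ := by
    have h1 : y * z * y⁻¹ = z := by
      rw [hzdef, ← pow_succ', pow_succ, mul_inv_cancel_right]
    calc (g * y * g⁻¹) * (g * z * g⁻¹) * (g * y * g⁻¹)⁻¹ = g * (y * z * y⁻¹) * g⁻¹ := by group
      _ = g * z * g⁻¹ := by rw [h1]
  have hM : g * y * g⁻¹ ∈ Subgroup.normalizer (H : Set G) :=
    mem_normalizer_of_conj_mem hTI hgz hgz1 (by rw [hcomm]; exact hgz)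
  apply mem_of_coprime hM
  have hoe : orderOf (g * y * g⁻¹) = orderOf y := by
    have : g * y * g⁻¹ = MulAut.conj g y := by simp [MulAut.conj_apply]
    rw [this, MulEquiv.orderOf_eq]
  rw [hoe]
  exact Nat.Coprime.coprime_dvd_left hy hHall

/-- A subgroup with a nontrivial central element whose order divides `|H|` is conjugate into
`H`. -/
theorem exists_conj_le (E : Subgroup G) (hE : Nat.card E ∣ Nat.card H)
    (x : G) (hxE : x ∈ E) (hx1 : x ≠ 1) (hxc : ∀ e ∈ E, e * x = x * e) :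
    ∃ g : G, E.map (MulAut.conj g).toMonoidHom ≤ H := by
  have hxo : orderOf x ∣ Nat.card H := by
    refine dvd_trans ?_ hE
    have := orderOf_dvd_natCard (⟨x, hxE⟩ : E)
    rwa [Subgroup.orderOf_mk] at this
  obtain ⟨g, hg⟩ := exists_conj_mem H hTI hHall hx1 hxo
  refine ⟨g, ?_⟩
  rintro _ ⟨e, he, rfl⟩
  change g * e * g⁻¹ ∈ H
  have hgx1 : g * x * g⁻¹ ≠ 1 := by
    intro h
    apply hx1
    have : x = g⁻¹ * (g * x * g⁻¹) * g := by group
    rw [this, h]
    group
  have hcomm : (g * e * g⁻¹) * (g * x * g⁻¹) * (g * e * g⁻¹)⁻¹ = g * x * g⁻¹ := by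
    have h1 : e * x * e⁻¹ = x := by rw [hxc e he, mul_inv_cancel_right]
    calc (g * e * g⁻¹) * (g * x * g⁻¹) * (g * e * g⁻¹)⁻¹ = g * (e * x * e⁻¹) * g⁻¹ := by group
      _ = g * x * g⁻¹ := by rw [h1]
  have hM : g * e * g⁻¹ ∈ Subgroup.normalizer (H : Set G) :=
    mem_normalizer_of_conj_mem hTI hg hgx1 (by rw [hcomm]; exact hg)
  apply mem_of_coprime hM
  have hoe : orderOf (g * e * g⁻¹) = orderOf e := by
    have : g * e * g⁻¹ = MulAut.conj g e := by simp [MulAut.conj_apply]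
    rw [this, MulEquiv.orderOf_eq]
  rw [hoe]
  have heo : orderOf e ∣ Nat.card H := by
    refine dvd_trans ?_ hE
    have := orderOf_dvd_natCard (⟨e, he⟩ : E)
    rwa [Subgroup.orderOf_mk] at this
  exact Nat.Coprime.coprime_dvd_left heo hHall

end Main

end Cfsg.Agent.Helper20.TiHall
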