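import Mathlib
import Cfsg.Agent.Helper20.TiHallA
import Cfsg.Agent.S0877

/-!
# TI Hall subgroups: normal complement in the normalizer iff normal complement in the group
-/

set_option autoImplicit false

namespace Cfsg.Agent.Helper20.TiHall

open scoped Pointwise

variable {G : Type*} [Group G]

/-- If `K` is a normal complement of `H` in `N_G(H)`, conjugation by an element of `N_G(H)` on
`H` is induced by an element of `H`. -/
theorem conj_eq_of_complement (H : Subgroup G)
    (K : Subgroup (Subgroup.normalizer (H : Set G))) (hKn : K.Normal)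
    (hK : K.IsComplement' (H.subgroupOf (Subgroup.normalizer (H : Set G))))
    (c : G) (hc : c ∈ Subgroup.normalizer (H : Set G)) (x : G) (hx : x ∈ H) :
    ∃ h ∈ H, c * x * c⁻¹ = h * x * h⁻¹ := by
  have hH'n : (H.subgroupOf (Subgroup.normalizer (H : Set G))).Normal :=
    Subgroup.normal_in_normalizer
  obtain ⟨⟨⟨k, hk⟩, ⟨h, hh⟩⟩, hkh, -⟩ :=
    hK.existsUnique (⟨c, hc⟩ : Subgroup.normalizer (H : Set G))
  simp only at hkh
  have hxM : x ∈ Subgroup.normalizer (H : Set G) := Subgroup.le_normalizer hx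
  have hcomm := Subgroup.commute_of_normal_of_disjoint K
    (H.subgroupOf (Subgroup.normalizer (H : Set G))) hKn hH'n hK.disjoint
  refine ⟨h, Subgroup.mem_subgroupOf.mp hh, ?_⟩
  have h1 : h * ⟨x, hxM⟩ * h⁻¹ ∈ H.subgroupOf (Subgroup.normalizer (H : Set G)) := by
    apply Subgroup.mul_mem _ (Subgroup.mul_mem _ hh _) (Subgroup.inv_mem _ hh)
    exact Subgroup.mem_subgroupOf.mpr hx
  have h2 := hcomm k (h * ⟨x, hxM⟩ * h⁻¹) hk h1
  have h3 : (⟨c, hc⟩ : Subgroup.normalizer (H : Set G)) * ⟨x, hxM⟩ *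
      (⟨c, hc⟩ : Subgroup.normalizer (H : Set G))⁻¹ = h * ⟨x, hxM⟩ * h⁻¹ := by
    rw [← hkh]
    have : k * h * ⟨x, hxM⟩ * (k * h)⁻¹ = k * (h * ⟨x, hxM⟩ * h⁻¹) * k⁻¹ := by group
    rw [this, h2.eq, mul_inv_cancel_right]
  have := congrArg Subtype.val h3
  simpa using this

/-- The normal complement passes down from `G` to the normalizer. -/
theorem exists_complement_normalizer (H : Subgroup G) (N : Subgroup G) (hNn : N.Normal)
    (hN : N.IsComplement' H) :
    ∃ K : Subgroup (Subgroup.normalizer (H : Set G)), K.Normal ∧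
      K.IsComplement' (H.subgroupOf (Subgroup.normalizer (H : Set G))) := by
  set M := Subgroup.normalizer (H : Set G) with hM
  refine ⟨N.subgroupOf M, hNn.subgroupOf M, ?_⟩
  apply Subgroup.isComplement'_of_disjoint_and_mul_eq_univ
  · rw [Subgroup.disjoint_def]
    intro m hm1 hm2
    have := Subgroup.disjoint_def.mp hN.disjoint (Subgroup.mem_subgroupOf.mp hm1)
      (Subgroup.mem_subgroupOf.mp hm2)
    exact Subtype.ext this
  · rw [Set.eq_univ_iff_forall]
    intro m
    obtain ⟨⟨⟨n, hn⟩, ⟨h, hh⟩⟩, hnh, -⟩ := hN.existsUnique (m : G)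
    simp only at hnh
    have hhM : h ∈ M := Subgroup.le_normalizer hh
    have hnM : n ∈ M := by
      have : n = m * h⁻¹ := by rw [← hnh, mul_inv_cancel_right]
      rw [this]
      exact M.mul_mem m.2 (M.inv_mem hhM)
    refine ⟨⟨n, hnM⟩, Subgroup.mem_subgroupOf.mpr hn, ⟨h, hhM⟩, Subgroup.mem_subgroupOf.mpr hh, ?_⟩
    exact Subtype.ext hnh

/-- The normal complement passes up from the normalizer to `G`. -/
theorem exists_complement_of_normalizer [Finite G] (H : Subgroup G)
    (hTI : Cfsg.IsTISubset (H : Set G))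
    (hHall : (Nat.card H).Coprime (H.subgroupOf (Subgroup.normalizer (H : Set G))).index)
    (K : Subgroup (Subgroup.normalizer (H : Set G))) (hKn : K.Normal)
    (hK : K.IsComplement' (H.subgroupOf (Subgroup.normalizer (H : Set G)))) :
    ∃ N : Subgroup G, N.Normal ∧ N.IsComplement' H := by
  have hfus : ∀ x ∈ H, ∀ y ∈ H, IsConj x y → ∃ h ∈ H, h * x * h⁻¹ = y := by
    intro x hx y hy hxy
    obtain ⟨c, hc⟩ := isConj_iff.mp hxy
    by_cases hx1 : x = 1
    · refine ⟨1, H.one_mem, ?_⟩
      rw [← hc, hx1]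
      group
    · have hcM : c ∈ Subgroup.normalizer (H : Set G) :=
        mem_normalizer_of_conj_mem hTI hx hx1 (by rw [hc]; exact hy)
      obtain ⟨h, hh, hh2⟩ := conj_eq_of_complement H K hKn hK c hcM x hx
      exact ⟨h, hh, by rw [← hh2, hc]⟩
  have helem : ∀ (E : Subgroup G) (p : ℕ), p.Prime → Cfsg.IsElementary p E →
      Nat.card E ∣ Nat.card H → ∃ g : G, E.map (MulAut.conj g).toMonoidHom ≤ H := by
    intro E p hp hel hdvd
    haveI : Fact p.Prime := ⟨hp⟩
    by_cases hE : E = ⊥
    · refine ⟨1, ?_⟩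
      rw [hE, Subgroup.map_bot]
      exact bot_le
    · -- a nontrivial central element of E
      have hcent : ∃ x : E, x ∈ Subgroup.center E ∧ x ≠ 1 := by
        obtain ⟨x, hxc, -, k, hk⟩ := hel
        by_cases hx1 : x = 1
        · rw [hx1, Subgroup.zpowers_one_eq_bot, Subgroup.index_bot] at hk
          have hEp : IsPGroup p E := IsPGroup.of_card hk
          haveI : Nontrivial E := (Subgroup.nontrivial_iff_ne_bot E).mpr hE
          haveI := hEp.center_nontrivial
          obtain ⟨⟨z, hz⟩, hz1⟩ := exists_ne (1 : Subgroup.center E)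
          exact ⟨z, hz, fun h => hz1 (Subtype.ext h)⟩
        · exact ⟨x, hxc, hx1⟩
      obtain ⟨⟨x, hxE⟩, hxc, hx1⟩ := hcent
      rw [Subgroup.mem_center_iff] at hxc
      apply exists_conj_le H hTI hHall E hdvd x hxE (fun h => hx1 (Subtype.ext h))
      intro e he
      have := hxc ⟨e, he⟩
      exact congrArg Subtype.val this
  obtain ⟨N, hNn, hsup, hinf⟩ := Cfsg.Agent.S0877.main H (coprime_card_index H hTI hHall) hfus helem
  refine ⟨N, hNn, ?_⟩
  apply Subgroup.isComplement'_of_disjoint_and_mul_eq_univ (disjoint_iff.mpr hinf)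
  rw [← Subgroup.normal_mul, hsup]
  rfl

end Cfsg.Agent.Helper20.TiHall
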