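import Mathlib

set_option autoImplicit false

namespace Cfsg.Agent.Helper20

/-- arithmetic core: a family of terms `d ω` with `d ω = n` or `2 ≤ d ω ∧ 2 * d ω ≤ n` cannot satisfy
`∑ d + (n - 1) = ∑ n` when `n ≥ 2`. -/
lemma no_sum_eq {ι : Type*} (s : Finset ι) (n : ℕ) (hn : 2 ≤ n) (d : ι → ℕ)
    (hd : ∀ i ∈ s, d i = n ∨ (2 ≤ d i ∧ 2 * d i ≤ n))
    (hsum : ∑ i ∈ s, d i + (n - 1) = ∑ i ∈ s, n) : False := by
  classical
  -- some index has d i ≠ n
  have h1 : ∃ i ∈ s, d i ≠ n := by
    by_contra hcon
    push Not at hcon
    have : ∑ i ∈ s, d i = ∑ i ∈ s, n := Finset.sum_congr rfl hcon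
    omega
  obtain ⟨i, hi, hdi⟩ := h1
  have hi' := (hd i hi).resolve_left hdi
  rw [← Finset.add_sum_erase s d hi, ← Finset.add_sum_erase s (fun _ => n) hi] at hsum
  -- another index has d j ≠ n
  have h2 : ∃ j ∈ s.erase i, d j ≠ n := by
    by_contra hcon
    push Not at hcon
    have : ∑ j ∈ s.erase i, d j = ∑ j ∈ s.erase i, n := Finset.sum_congr rfl hcon
    omega
  obtain ⟨j, hj, hdj⟩ := h2
  have hj' := (hd j (Finset.mem_of_mem_erase hj)).resolve_left hdj
  rw [← Finset.add_sum_erase (s.erase i) d hj, ← Finset.add_sum_erase (s.erase i) (fun _ => n) hj]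
    at hsum
  have hle : ∑ k ∈ (s.erase i).erase j, d k ≤ ∑ k ∈ (s.erase i).erase j, n := by
    apply Finset.sum_le_sum
    intro k hk
    have hk' : k ∈ s := Finset.mem_of_mem_erase (Finset.mem_of_mem_erase hk)
    rcases hd k hk' with h | h
    · exact h.le
    · omega
  omega

/-- If every nonidentity element of a finite group `K` acting on a finite nonempty set `X` has
exactly one fixed point, then `K` has a global fixed point. -/
lemma exists_fixed_of_unique_fixed {K X : Type*} [Group K] [MulAction K X] [Finite K] [Finite X]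
    [Nonempty X] (h : ∀ k : K, k ≠ 1 → Nat.card (MulAction.fixedBy X k) = 1) :
    ∃ ξ : X, ∀ k : K, k • ξ = ξ := by
  classical
  haveI := Fintype.ofFinite K
  haveI := Fintype.ofFinite X
  by_contra hcon
  push Not at hcon
  have hn : 2 ≤ Fintype.card K := by
    by_contra hlt
    have hsub : Subsingleton K := by
      rw [← Fintype.card_le_one_iff_subsingleton]; omega
    obtain ⟨ξ⟩ := ‹Nonempty X›
    obtain ⟨k, hk⟩ := hcon ξ
    apply hk
    rw [Subsingleton.elim k 1, one_smul]
  have hB := MulAction.sum_card_fixedBy_eq_card_orbits_mul_card_group K X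
  have hC := MulAction.card_eq_sum_card_group_div_card_stabilizer K X
  have hL : ∑ k : K, Fintype.card (MulAction.fixedBy X k) =
      Fintype.card X + (Fintype.card K - 1) := by
    rw [← Finset.add_sum_erase Finset.univ _ (Finset.mem_univ (1 : K))]
    congr 1
    · apply Fintype.card_congr
      exact (Equiv.subtypeUnivEquiv (fun x => by simp))
    · rw [Finset.sum_congr rfl (g := fun _ => 1)]
      · rw [Finset.sum_const, smul_eq_mul, mul_one, Finset.card_erase_of_mem (Finset.mem_univ _),
          Finset.card_univ]
      · intro k hk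
        have := h k (Finset.ne_of_mem_erase hk)
        rwa [Nat.card_eq_fintype_card] at this
  rw [hL, hC] at hB
  have hB' : ∑ ω : Quotient (MulAction.orbitRel K X),
      Fintype.card K / Fintype.card (MulAction.stabilizer K ω.out) + (Fintype.card K - 1) =
      ∑ _ω : Quotient (MulAction.orbitRel K X), Fintype.card K := by
    rw [hB, Finset.sum_const, Finset.card_univ, smul_eq_mul]
  refine no_sum_eq Finset.univ (Fintype.card K) hn _ ?_ hB'
  intro ω _
  have hdvd : Fintype.card (MulAction.stabilizer K ω.out) ∣ Fintype.card K := by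
    have := Subgroup.card_subgroup_dvd_card (MulAction.stabilizer K ω.out)
    rwa [Nat.card_eq_fintype_card, Nat.card_eq_fintype_card] at this
  obtain ⟨q, hq⟩ := hdvd
  have hspos : 0 < Fintype.card (MulAction.stabilizer K ω.out) := Fintype.card_pos
  have hdiv : Fintype.card K / Fintype.card (MulAction.stabilizer K ω.out) = q := by
    rw [hq, Nat.mul_div_cancel_left _ hspos]
  rw [hdiv]
  -- the stabilizer is not everything
  have hne : Fintype.card (MulAction.stabilizer K ω.out) ≠ Fintype.card K := by
    intro heq
    have htop : MulAction.stabilizer K ω.out = ⊤ := by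
      apply Subgroup.eq_top_of_card_eq
      rw [Nat.card_eq_fintype_card, Nat.card_eq_fintype_card, heq]
    obtain ⟨k, hk⟩ := hcon ω.out
    apply hk
    have : k ∈ MulAction.stabilizer K ω.out := by rw [htop]; trivial
    exact this
  rcases Nat.lt_or_ge (Fintype.card (MulAction.stabilizer K ω.out)) 2 with hs | hs
  · left
    have : Fintype.card (MulAction.stabilizer K ω.out) = 1 := by omega
    rw [hq, this, one_mul]
  · right
    constructor
    · by_contra hq2
      have : q = 0 ∨ q = 1 := by omega
      rcases this with rfl | rfl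
      · rw [mul_zero] at hq; omega
      · rw [mul_one] at hq; exact hne hq.symm
    · rw [hq]
      calc 2 * q ≤ Fintype.card (MulAction.stabilizer K ω.out) * q :=
            Nat.mul_le_mul_right q hs

end Cfsg.Agent.Helper20
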