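import Mathlib
import Cfsg.Agent.Helper20.TiHallA
import Cfsg.Agent.Helper20.UniqueFixed

/-!
# TI Hall subgroups: subgroups of the same order are conjugate; invariant Sylow subgroups
-/

set_option autoImplicit false

namespace Cfsg.Agent.Helper20.TiHall

open scoped Pointwise

variable {G : Type*} [Group G] [Finite G] (H : Subgroup G)
  (hTI : Cfsg.IsTISubset (H : Set G))
  (hHall : (Nat.card H).Coprime (H.subgroupOf (Subgroup.normalizer (H : Set G))).index)

include hTI hHall

/-- A subgroup of the same order as `H` is conjugate into `H`. -/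
theorem exists_conj_of_card_eq (U : Subgroup G) (hU : Nat.card U = Nat.card H) :
    ∃ g : G, ∀ u ∈ U, g * u * g⁻¹ ∈ H := by
  set M := Subgroup.normalizer (H : Set G) with hM
  have hfix : ∀ (u : U) (g : G), u • (g : G ⧸ M) = (g : G ⧸ M) ↔ g⁻¹ * (u : G) * g ∈ M := by
    intro u g
    change (((u : G) * g : G) : G ⧸ M) = (g : G ⧸ M) ↔ _
    rw [QuotientGroup.eq]
    constructor
    · intro h
      have h2 := M.inv_mem h
      have : (((u : G) * g)⁻¹ * g)⁻¹ = g⁻¹ * (u : G) * g := by group
      rwa [this] at h2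
    · intro h
      have h2 := M.inv_mem h
      have : (g⁻¹ * (u : G) * g)⁻¹ = ((u : G) * g)⁻¹ * g := by group
      rwa [this] at h2
  have hord : ∀ u : U, orderOf (u : G) ∣ Nat.card H := by
    intro u
    rw [← hU, Subgroup.orderOf_coe]
    exact orderOf_dvd_natCard u
  have hmemH : ∀ (u : U) (g : G), g⁻¹ * (u : G) * g ∈ M → g⁻¹ * (u : G) * g ∈ H := by
    intro u g hg
    apply mem_of_coprime hg
    have hoe : orderOf (g⁻¹ * (u : G) * g) = orderOf (u : G) := by
      have : g⁻¹ * (u : G) * g = MulAut.conj g⁻¹ (u : G) := by simp [MulAut.conj_apply]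
      rw [this, MulEquiv.orderOf_eq]
    rw [hoe]
    exact Nat.Coprime.coprime_dvd_left (hord u) hHall
  have huniq : ∀ u : U, u ≠ 1 → Nat.card (MulAction.fixedBy (G ⧸ M) u) = 1 := by
    intro u hu1
    have hu1' : (u : G) ≠ 1 := fun h => hu1 (Subtype.ext h)
    rw [Nat.card_eq_one_iff_unique]
    constructor
    · constructor
      rintro ⟨a, ha⟩ ⟨b, hb⟩
      apply Subtype.ext
      induction a using QuotientGroup.induction_on with
      | H g₁ =>
      induction b using QuotientGroup.induction_on with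
      | H g₂ =>
      rw [MulAction.mem_fixedBy, hfix] at ha hb
      have ha' := hmemH u g₁ ha
      have hb' := hmemH u g₂ hb
      change ((g₁ : G) : G ⧸ M) = ((g₂ : G) : G ⧸ M)
      rw [QuotientGroup.eq]
      -- x = g₁⁻¹ u g₁ ∈ H, nontrivial, conjugated by g₂⁻¹ g₁ into H
      have hx1 : g₁⁻¹ * (u : G) * g₁ ≠ 1 := by
        intro h
        apply hu1'
        have : (u : G) = g₁ * (g₁⁻¹ * (u : G) * g₁) * g₁⁻¹ := by group
        rw [this, h]
        group
      have hconj : (g₂⁻¹ * g₁) * (g₁⁻¹ * (u : G) * g₁) * (g₂⁻¹ * g₁)⁻¹ ∈ H := by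
        have : (g₂⁻¹ * g₁) * (g₁⁻¹ * (u : G) * g₁) * (g₂⁻¹ * g₁)⁻¹ = g₂⁻¹ * (u : G) * g₂ := by
          group
        rw [this]
        exact hb'
      have h3 := mem_normalizer_of_conj_mem hTI ha' hx1 hconj
      have h4 := M.inv_mem h3
      have : (g₂⁻¹ * g₁)⁻¹ = g₁⁻¹ * g₂ := by group
      rwa [this] at h4
    · obtain ⟨g, hg⟩ := exists_conj_mem H hTI hHall hu1' (hord u)
      refine ⟨⟨((g⁻¹ : G) : G ⧸ M), ?_⟩⟩
      rw [MulAction.mem_fixedBy, hfix, inv_inv]
      exact Subgroup.le_normalizer hg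
  obtain ⟨ξ, hξ⟩ := exists_fixed_of_unique_fixed (K := U) (X := G ⧸ M) huniq
  induction ξ using QuotientGroup.induction_on with
  | H g =>
  refine ⟨g⁻¹, fun u hu => ?_⟩
  have h1 := (hfix ⟨u, hu⟩ g).mp (hξ ⟨u, hu⟩)
  have h2 := hmemH ⟨u, hu⟩ g h1
  rw [inv_inv]
  exact h2


/-- `H`-invariant Sylow subgroups of a normal complement `N` of `H`. -/
theorem exists_invariant_sylow (N : Subgroup G) (hNn : N.Normal) (hN : N.IsComplement' H)
    (q : ℕ) [Fact q.Prime] :
    ∃ Q' : Subgroup G, Q' ≤ N ∧ IsPGroup q Q' ∧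
      Nat.card Q' = q ^ (Nat.card N).factorization q ∧
      ∀ h ∈ H, ∀ x ∈ Q', h * x * h⁻¹ ∈ Q' := by
  haveI := hNn
  have hcop : (Nat.card H).Coprime (Nat.card N) := by
    have := coprime_card_index H hTI hHall
    rwa [hN.index_eq_card] at this
  let Q : Sylow q N := default
  set Qg : Subgroup G := (Q : Subgroup N).map N.subtype with hQg
  set Y : Subgroup G := Subgroup.normalizer (Qg : Set G) with hY
  have hfrat : Y ⊔ N = ⊤ := Sylow.normalizer_sup_eq_top Q
  have hNYn : (N.subgroupOf Y).Normal := hNn.subgroupOf Y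
  have hidx : (N.subgroupOf Y).index = Nat.card H := by
    change N.relIndex Y = _
    rw [← Subgroup.relIndex_sup_right (K := N) (H := Y), hfrat, Subgroup.relIndex_top_right]
    exact hN.symm.index_eq_card
  have hcard : Nat.card (N.subgroupOf Y) ∣ Nat.card N := by
    rw [← Subgroup.inf_subgroupOf_right,
      Nat.card_congr (Subgroup.subgroupOfEquivOfLe (inf_le_right : N ⊓ Y ≤ Y)).toEquiv]
    exact Subgroup.card_dvd_of_le inf_le_left
  have hcop' : (Nat.card (N.subgroupOf Y)).Coprime (N.subgroupOf Y).index := by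
    rw [hidx]
    exact (Nat.Coprime.coprime_dvd_right hcard hcop).symm
  obtain ⟨H₁, hH₁⟩ := Subgroup.exists_left_complement'_of_coprime hcop'
  have hH₁card : Nat.card H₁ = Nat.card H := by
    rw [← hidx]
    exact hH₁.index_eq_card.symm
  set U : Subgroup G := H₁.map Y.subtype with hUdef
  have hUcard : Nat.card U = Nat.card H := by
    rw [← hH₁card]
    exact (Nat.card_congr (H₁.equivMapOfInjective Y.subtype Y.subtype_injective).toEquiv).symm
  have hUY : U ≤ Y := Subgroup.map_subtype_le _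
  obtain ⟨g, hg⟩ := exists_conj_of_card_eq H hTI hHall U hUcard
  -- the conjugation map U → H is bijective
  have hsurj : ∀ h ∈ H, ∃ u ∈ U, g * u * g⁻¹ = h := by
    let f : U → H := fun u => ⟨g * u * g⁻¹, hg u u.2⟩
    have hinj : Function.Injective f := by
      intro a b hab
      have h1 : g * (a : G) * g⁻¹ = g * (b : G) * g⁻¹ := congrArg Subtype.val hab
      have h2 : (a : G) = b := by
        have := congrArg (fun t => g⁻¹ * t * g) h1
        simpa [mul_assoc] using this
      exact Subtype.ext h2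
    have hbij : Function.Bijective f :=
      hinj.bijective_of_nat_card_le (le_of_eq hUcard.symm)
    intro h hh
    obtain ⟨u, hu⟩ := hbij.2 ⟨h, hh⟩
    exact ⟨u, u.2, congrArg Subtype.val hu⟩
  refine ⟨Qg.map (MulAut.conj g).toMonoidHom, ?_, ?_, ?_, ?_⟩
  · rintro _ ⟨y, hy, rfl⟩
    have hyN : y ∈ N := Subgroup.map_subtype_le _ hy
    exact hNn.conj_mem y hyN g
  · exact (Q.isPGroup'.map N.subtype).map _
  · rw [← Q.card_eq_multiplicity]
    have h1 : Nat.card (Qg.map (MulAut.conj g).toMonoidHom) = Nat.card Qg :=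
      (Nat.card_congr (Qg.equivMapOfInjective (MulAut.conj g).toMonoidHom
        (MulAut.conj g).injective).toEquiv).symm
    have h2 : Nat.card Qg = Nat.card (Q : Subgroup N) :=
      (Nat.card_congr ((Q : Subgroup N).equivMapOfInjective N.subtype
        N.subtype_injective).toEquiv).symm
    rw [h1, h2]
  · rintro h hh _ ⟨y, hy, rfl⟩
    obtain ⟨u, hu, rfl⟩ := hsurj h hh
    have huY : u ∈ Y := hUY hu
    have h1 : u * y * u⁻¹ ∈ Qg := by
      rw [hY, Subgroup.mem_normalizer_iff] at huY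
      exact (huY y).mp hy
    refine ⟨u * y * u⁻¹, h1, ?_⟩
    change g * (u * y * u⁻¹) * g⁻¹ = g * u * g⁻¹ * (g * y * g⁻¹) * (g * u * g⁻¹)⁻¹
    group

end Cfsg.Agent.Helper20.TiHall
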