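import Mathlib
import Cfsg.Prelude.Def_Solvable
import Cfsg.Agent.Helper1.PrimeGraph

/-!
# A Frobenius group from a section on which `H` acts fixed-point-freely
-/

set_option autoImplicit false

namespace Cfsg.Agent.Helper20.TiHall

universe u

theorem le_normalizer_of_conj_mem' {G : Type*} [Group G] (K R : Subgroup G)
    (h : ∀ g ∈ K, ∀ x ∈ R, g * x * g⁻¹ ∈ R) : K ≤ Subgroup.normalizer (R : Set G) := by
  intro g hg
  rw [Subgroup.mem_normalizer_iff]
  intro x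
  constructor
  · exact h g hg x
  · intro hx
    have := h g⁻¹ (K.inv_mem hg) _ hx
    simpa [mul_assoc] using this

/-- iterated conjugation when the commutator is centralized -/
theorem pow_conj_eq {G : Type*} [Group G] (a r : G)
    (hc : a * (r⁻¹ * a * r * a⁻¹) * a⁻¹ = r⁻¹ * a * r * a⁻¹) (k : ℕ) :
    a ^ k * r * (a ^ k)⁻¹ = r * (r⁻¹ * a * r * a⁻¹) ^ k := by
  set w := r⁻¹ * a * r * a⁻¹ with hw
  have hcw : ∀ j : ℕ, a * w ^ j * a⁻¹ = w ^ j := by
    intro j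
    induction j with
    | zero => simp
    | succ j ih =>
      rw [pow_succ]
      calc a * (w ^ j * w) * a⁻¹ = (a * w ^ j * a⁻¹) * (a * w * a⁻¹) := by group
        _ = w ^ j * w := by rw [ih, hc]
  have har : a * r * a⁻¹ = r * w := by rw [hw]; group
  induction k with
  | zero => simp
  | succ k ih =>
    calc a ^ (k + 1) * r * (a ^ (k + 1))⁻¹ = a * (a ^ k * r * (a ^ k)⁻¹) * a⁻¹ := by
          rw [pow_succ']; group
      _ = a * (r * w ^ k) * a⁻¹ := by rw [ih]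
      _ = (a * r * a⁻¹) * (a * w ^ k * a⁻¹) := by group
      _ = r * w * w ^ k := by rw [har, hcw]
      _ = r * w ^ (k + 1) := by rw [pow_succ', mul_assoc]

theorem frobenius_section {G : Type u} [Group G] [Finite G] (H R Q₀ : Subgroup G)
    (hQR : Q₀ ≤ R) (hRn : R ≤ Subgroup.normalizer (Q₀ : Set G))
    (hHR : ∀ h ∈ H, ∀ x ∈ R, h * x * h⁻¹ ∈ R)
    (hHQ : ∀ h ∈ H, ∀ x ∈ Q₀, h * x * h⁻¹ = x)
    (hRH : ∀ x, x ∈ R → x ∈ H → x = 1)
    (hH1 : H ≠ ⊥) (hRQ : ∃ r ∈ R, r ∉ Q₀)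
    (hfix : ∀ h ∈ H, h ≠ 1 → ∀ x ∈ R, h * x * h⁻¹ = x → x ∈ Q₀)
    (hcop : (Nat.card Q₀).Coprime (Nat.card H)) :
    ∃ (F : Type u) (_ : Group F) (_ : Finite F) (C : Subgroup F),
      Cfsg.IsFrobeniusComplement C ∧ Nonempty (H ≃* C) := by
  have hHnR : H ≤ Subgroup.normalizer (R : Set G) := le_normalizer_of_conj_mem' H R hHR
  have hHnQ : H ≤ Subgroup.normalizer (Q₀ : Set G) :=
    le_normalizer_of_conj_mem' H Q₀ (fun h hh x hx => by rw [hHQ h hh x hx]; exact hx)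
  have hLR : R ⊔ H ≤ Subgroup.normalizer (R : Set G) := sup_le Subgroup.le_normalizer hHnR
  have hLQ : R ⊔ H ≤ Subgroup.normalizer (Q₀ : Set G) := sup_le hRn hHnQ
  haveI hQn : (Q₀.subgroupOf (R ⊔ H)).Normal := Subgroup.normal_subgroupOf_of_le_normalizer hLQ
  let π : ↥(R ⊔ H) →* ↥(R ⊔ H) ⧸ Q₀.subgroupOf (R ⊔ H) := QuotientGroup.mk' _
  have hπsurj : Function.Surjective π := QuotientGroup.mk'_surjective _
  let f : H →* ↥(R ⊔ H) ⧸ Q₀.subgroupOf (R ⊔ H) :=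
    π.comp (Subgroup.inclusion (le_sup_right : H ≤ R ⊔ H))
  let gR : R →* ↥(R ⊔ H) ⧸ Q₀.subgroupOf (R ⊔ H) :=
    π.comp (Subgroup.inclusion (le_sup_left : R ≤ R ⊔ H))
  have hπeq : ∀ a b : ↥(R ⊔ H), π a = π b ↔ (a : G)⁻¹ * (b : G) ∈ Q₀ := by
    intro a b
    change (QuotientGroup.mk a : ↥(R ⊔ H) ⧸ Q₀.subgroupOf (R ⊔ H)) = QuotientGroup.mk b ↔ _
    rw [QuotientGroup.eq, Subgroup.mem_subgroupOf]
    rfl
  have hπ1 : ∀ a : ↥(R ⊔ H), π a = 1 ↔ (a : G) ∈ Q₀ := by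
    intro a
    have := hπeq 1 a
    rw [map_one] at this
    rw [eq_comm, this]
    simp
  have hf_inj : Function.Injective f := by
    rw [injective_iff_map_eq_one]
    intro h hh
    have h1 : ((h : G)) ∈ Q₀ := (hπ1 _).mp hh
    exact Subtype.ext (hRH _ (hQR h1) h.2)
  refine ⟨↥(R ⊔ H) ⧸ Q₀.subgroupOf (R ⊔ H), inferInstance, inferInstance, f.range, ?_,
    ⟨MonoidHom.ofInjective hf_inj⟩⟩
  haveI hNn : gR.range.Normal := by
    refine ⟨fun n hn x => ?_⟩
    obtain ⟨r, rfl⟩ := hn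
    obtain ⟨l, rfl⟩ := hπsurj x
    have hmem : (l : G) * (r : G) * (l : G)⁻¹ ∈ R := by
      have := hLR l.2
      rw [Subgroup.mem_normalizer_iff] at this
      exact (this r).mp r.2
    refine ⟨⟨_, hmem⟩, ?_⟩
    change π _ = π l * π _ * (π l)⁻¹
    rw [← map_inv, ← map_mul, ← map_mul]
    congr 1
  have hcomp : Subgroup.IsComplement' gR.range f.range := by
    apply Subgroup.isComplement'_of_disjoint_and_mul_eq_univ
    · rw [Subgroup.disjoint_def]
      rintro x ⟨r, rfl⟩ ⟨h, hh⟩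
      have h1 : ((h : G))⁻¹ * (r : G) ∈ Q₀ := (hπeq _ _).mp hh
      have h2 : (h : G) ∈ R := by
        have : (h : G) = (r : G) * ((h : G)⁻¹ * (r : G))⁻¹ := by group
        rw [this]
        exact R.mul_mem r.2 (R.inv_mem (hQR h1))
      have h3 : (h : G) = 1 := hRH _ h2 h.2
      have h4 : h = 1 := Subtype.ext h3
      rw [← hh, h4, map_one]
    · rw [Set.eq_univ_iff_forall]
      intro x
      obtain ⟨l, rfl⟩ := hπsurj x
      have hl : (l : G) ∈ ((R ⊔ H : Subgroup G) : Set G) := l.2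
      rw [Subgroup.coe_mul_of_right_le_normalizer_left R H hHnR] at hl
      obtain ⟨r, hr, h, hh, hrh⟩ := hl
      refine ⟨gR ⟨r, hr⟩, ⟨_, rfl⟩, f ⟨h, hh⟩, ⟨_, rfl⟩, ?_⟩
      change π _ * π _ = π l
      rw [← map_mul]
      congr 1
      exact Subtype.ext hrh
  have hN1 : gR.range ≠ ⊥ := by
    obtain ⟨r, hr, hrQ⟩ := hRQ
    intro h0
    have h1 : gR ⟨r, hr⟩ ∈ gR.range := ⟨_, rfl⟩
    rw [h0, Subgroup.mem_bot] at h1
    exact hrQ ((hπ1 _).mp h1)
  have hC1 : f.range ≠ ⊥ := by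
    intro h0
    apply hH1
    rw [eq_bot_iff]
    intro h hh
    have h1 : f ⟨h, hh⟩ ∈ f.range := ⟨_, rfl⟩
    rw [h0, Subgroup.mem_bot] at h1
    have h2 : (⟨h, hh⟩ : H) = 1 := hf_inj (by rw [h1, map_one])
    exact congrArg Subtype.val h2
  have hfpf : ∀ c ∈ f.range, c ≠ 1 → ∀ n ∈ gR.range, c * n = n * c → n = 1 := by
    rintro c ⟨h, rfl⟩ hc1 n ⟨r, rfl⟩ hcomm
    have hh1 : (h : G) ≠ 1 := by
      intro h0
      apply hc1
      have : h = 1 := Subtype.ext h0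
      rw [this, map_one]
    -- the commutator lies in Q₀
    have h1 : π (Subgroup.inclusion le_sup_left r * Subgroup.inclusion le_sup_right h) =
        π (Subgroup.inclusion le_sup_right h * Subgroup.inclusion le_sup_left r) := by
      rw [map_mul, map_mul]
      exact hcomm.symm
    have h2 := (hπeq _ _).mp h1
    have h3 : (h : G)⁻¹ * (r : G)⁻¹ * (h : G) * (r : G) ∈ Q₀ := by
      have : (h : G)⁻¹ * (r : G)⁻¹ * (h : G) * (r : G) =
          ((r : G) * (h : G))⁻¹ * ((h : G) * (r : G)) := by group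
      rw [this]
      exact h2
    have hw : (r : G)⁻¹ * (h : G) * (r : G) * (h : G)⁻¹ ∈ Q₀ := by
      have h4 := hHQ h h.2 _ h3
      have : (r : G)⁻¹ * (h : G) * (r : G) * (h : G)⁻¹ =
          (h : G) * ((h : G)⁻¹ * (r : G)⁻¹ * (h : G) * (r : G)) * (h : G)⁻¹ := by group
      rw [this, h4]
      exact h3
    have hc := hHQ h h.2 _ hw
    have hpow := pow_conj_eq (h : G) (r : G) hc (orderOf (h : G))
    rw [pow_orderOf_eq_one, inv_one, mul_one, one_mul] at hpow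
    have hwk : ((r : G)⁻¹ * (h : G) * (r : G) * (h : G)⁻¹) ^ orderOf (h : G) = 1 := by
      have := congrArg (fun t => (r : G)⁻¹ * t) hpow
      simpa using this.symm
    have ho1 : orderOf ((r : G)⁻¹ * (h : G) * (r : G) * (h : G)⁻¹) ∣ Nat.card H := by
      refine (orderOf_dvd_of_pow_eq_one hwk).trans ?_
      rw [Subgroup.orderOf_coe]
      exact orderOf_dvd_natCard h
    have ho2 : orderOf ((r : G)⁻¹ * (h : G) * (r : G) * (h : G)⁻¹) ∣ Nat.card Q₀ := by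
      have := orderOf_dvd_natCard (⟨_, hw⟩ : Q₀)
      rwa [Subgroup.orderOf_mk] at this
    have ho3 : orderOf ((r : G)⁻¹ * (h : G) * (r : G) * (h : G)⁻¹) = 1 :=
      Nat.eq_one_of_dvd_coprimes hcop ho2 ho1
    rw [orderOf_eq_one_iff] at ho3
    have hfixed : (h : G) * (r : G) * (h : G)⁻¹ = (r : G) := by
      have : (h : G) * (r : G) * (h : G)⁻¹ =
          (r : G) * ((r : G)⁻¹ * (h : G) * (r : G) * (h : G)⁻¹) := by group
      rw [this, ho3, mul_one]
    have hrQ := hfix h h.2 hh1 r r.2 hfixed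
    exact (hπ1 _).mpr hrQ
  exact (Cfsg.Agent.Helper1.PrimeGraph.frobenius_of_fpf gR.range f.range hcomp hN1 hC1 hfpf).1

end Cfsg.Agent.Helper20.TiHall
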