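import Mathlib
import Cfsg.Agent.Helper20.TiHallC
import Cfsg.Agent.Helper20.TiHallD

/-!
# A non-normal TI Hall subgroup with a normal complement is a Frobenius complement
-/

set_option autoImplicit false

namespace Cfsg.Agent.Helper20.TiHall

open scoped Pointwise

universe u

theorem exists_frobenius {G : Type u} [Group G] [Finite G] (H : Subgroup G)
    (hTI : Cfsg.IsTISubset (H : Set G))
    (hHall : (Nat.card H).Coprime (H.subgroupOf (Subgroup.normalizer (H : Set G))).index)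
    (hHn : ¬ H.Normal) (N : Subgroup G) (hNn : N.Normal) (hN : N.IsComplement' H) :
    ∃ (F : Type u) (_ : Group F) (_ : Finite F) (C : Subgroup F),
      Cfsg.IsFrobeniusComplement C ∧ Nonempty (H ≃* C) := by
  set M := Subgroup.normalizer (H : Set G) with hM
  have hdisj : ∀ x, x ∈ N → x ∈ H → x = 1 := fun x hxN hxH =>
    Subgroup.disjoint_def.mp hN.disjoint hxN hxH
  have hcop : (Nat.card H).Coprime (Nat.card N) := by
    have := coprime_card_index H hTI hHall
    rwa [hN.index_eq_card] at this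
  have hcentM : ∀ h ∈ H, h ≠ 1 → ∀ n : G, h * n * h⁻¹ = n → n ∈ M := by
    intro h hh hh1 n hn
    apply mem_normalizer_of_conj_mem hTI hh hh1
    have : n * h * n⁻¹ = h := by
      have h1 : h * n = n * h := by
        have := congrArg (fun t => t * h) hn
        simpa using this
      rw [← h1, mul_inv_cancel_right]
    rw [this]
    exact hh
  have hcommNM : ∀ h ∈ H, ∀ x ∈ N ⊓ M, h * x * h⁻¹ = x := by
    intro h hh x hx
    have hxN : x ∈ N := hx.1
    have hxM : x ∈ M := hx.2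
    have h1 : h * x * h⁻¹ * x⁻¹ ∈ N := N.mul_mem (hNn.conj_mem x hxN h) (N.inv_mem hxN)
    have h2 : h * x * h⁻¹ * x⁻¹ ∈ H := by
      have h3 : x * h⁻¹ * x⁻¹ ∈ H := by
        rw [hM, Subgroup.mem_normalizer_iff] at hxM
        exact (hxM h⁻¹).mp (H.inv_mem hh)
      have : h * x * h⁻¹ * x⁻¹ = h * (x * h⁻¹ * x⁻¹) := by group
      rw [this]
      exact H.mul_mem hh h3
    have h3 := hdisj _ h1 h2
    have : h * x * h⁻¹ = (h * x * h⁻¹ * x⁻¹) * x := by group
    rw [this, h3, one_mul]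
  have hNM : ¬ N ≤ M := by
    intro hle
    apply hHn
    have h1 : N ⊔ H ≤ M := sup_le hle Subgroup.le_normalizer
    rw [hN.sup_eq_top, top_le_iff] at h1
    exact Subgroup.normalizer_eq_top_iff.mp h1
  have hrel : (N ⊓ M).relIndex N ≠ 1 := by
    rw [Ne, Subgroup.relIndex_eq_one]
    intro h
    exact hNM (h.trans inf_le_right)
  obtain ⟨q, hq, hqdvd⟩ := Nat.exists_prime_and_dvd hrel
  haveI : Fact q.Prime := ⟨hq⟩
  obtain ⟨Q', hQN, hQp, hQcard, hQinv⟩ := exists_invariant_sylow H hTI hHall N hNn hN q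
  have hcardNM : Nat.card (N ⊓ M : Subgroup G) * (N ⊓ M).relIndex N = Nat.card N := by
    have h1 := Subgroup.card_mul_index ((N ⊓ M).subgroupOf N)
    rwa [Nat.card_congr (Subgroup.subgroupOfEquivOfLe (inf_le_left : N ⊓ M ≤ N)).toEquiv] at h1
  have hQM : ¬ Q' ≤ M := by
    intro hle
    have h1 : Q' ≤ N ⊓ M := le_inf hQN hle
    have h2 : Nat.card Q' ∣ Nat.card (N ⊓ M : Subgroup G) := Subgroup.card_dvd_of_le h1
    rw [hQcard] at h2
    have h3 : q ^ ((Nat.card N).factorization q + 1) ∣ Nat.card N := by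
      rw [pow_succ]
      have h4 : q ^ (Nat.card N).factorization q * q ∣
          Nat.card (N ⊓ M : Subgroup G) * (N ⊓ M).relIndex N := Nat.mul_dvd_mul h2 hqdvd
      exact h4.trans (dvd_of_eq hcardNM)
    exact Nat.pow_succ_factorization_not_dvd Nat.card_pos.ne' hq h3
  set Q₀ : Subgroup G := Q' ⊓ M with hQ₀
  set R : Subgroup G := Q' ⊓ Subgroup.normalizer (Q₀ : Set G) with hR
  have hQ₀NM : Q₀ ≤ N ⊓ M := inf_le_inf_right M hQN
  have hHQ : ∀ h ∈ H, ∀ x ∈ Q₀, h * x * h⁻¹ = x := fun h hh x hx =>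
    hcommNM h hh x (hQ₀NM hx)
  have hHnQ : H ≤ Subgroup.normalizer (Q₀ : Set G) :=
    le_normalizer_of_conj_mem' H Q₀ (fun h hh x hx => by rw [hHQ h hh x hx]; exact hx)
  -- normalizer condition
  have hRQ : ∃ r ∈ R, r ∉ Q₀ := by
    haveI : Group.IsNilpotent ↥Q' := hQp.isNilpotent
    have hlt : Q₀.subgroupOf Q' < ⊤ := by
      rw [lt_top_iff_ne_top, Ne, Subgroup.subgroupOf_eq_top]
      intro h
      exact hQM (h.trans inf_le_right)
    have hnc := Group.normalizerCondition_of_isNilpotent (G := ↥Q') (Q₀.subgroupOf Q') hlt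
    obtain ⟨⟨r, hrQ'⟩, hrn, hrnot⟩ := SetLike.exists_of_lt hnc
    rw [Subgroup.mem_normalizer_iff] at hrn
    have hrQ₀ : r ∉ Q₀ := fun h => hrnot (Subgroup.mem_subgroupOf.mpr h)
    refine ⟨r, ⟨hrQ', ?_⟩, hrQ₀⟩
    change r ∈ Subgroup.normalizer (Q₀ : Set G)
    rw [Subgroup.mem_normalizer_iff]
    intro x
    constructor
    · intro hx
      have hxQ' : x ∈ Q' := hx.1
      have := (hrn ⟨x, hxQ'⟩).mp (Subgroup.mem_subgroupOf.mpr hx)
      exact Subgroup.mem_subgroupOf.mp this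
    · intro hx
      have hxQ' : x ∈ Q' := by
        have h1 : r * x * r⁻¹ ∈ Q' := hx.1
        have : x = r⁻¹ * (r * x * r⁻¹) * r := by group
        rw [this]
        exact Q'.mul_mem (Q'.mul_mem (Q'.inv_mem hrQ') h1) hrQ'
      have := (hrn ⟨x, hxQ'⟩).mpr (Subgroup.mem_subgroupOf.mpr hx)
      exact Subgroup.mem_subgroupOf.mp this
  apply frobenius_section H R Q₀
  · intro x hx
    exact ⟨hx.1, Subgroup.le_normalizer hx⟩
  · exact inf_le_right
  · intro h hh x hx
    refine ⟨hQinv h hh x hx.1, ?_⟩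
    have h1 : h ∈ Subgroup.normalizer (Q₀ : Set G) := hHnQ hh
    exact Subgroup.mul_mem _ (Subgroup.mul_mem _ h1 hx.2) (Subgroup.inv_mem _ h1)
  · exact hHQ
  · intro x hxR hxH
    exact hdisj x (hQN hxR.1) hxH
  · intro h0
    apply hHn
    rw [h0]
    infer_instance
  · exact hRQ
  · intro h hh hh1 x hx hfixed
    exact ⟨hx.1, hcentM h hh hh1 x hfixed⟩
  · have h1 : Nat.card Q₀ ∣ Nat.card N := Subgroup.card_dvd_of_le (hQ₀NM.trans inf_le_left)
    exact (Nat.Coprime.coprime_dvd_right h1 hcop).symm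

end Cfsg.Agent.Helper20.TiHall
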