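import Mathlib
import Cfsg.Prelude.Def_KGroupFacts
import Cfsg.Agent.Helper20.TwistExt

set_option autoImplicit false

namespace Cfsg.Agent.Helper20

universe u

namespace TwistExt

variable {G : Type u} [Group G] {n : ℕ} {f₁ f₂ : G →* Multiplicative (ZMod n)}

lemma val_pow (f : G →* Multiplicative (ZMod n)) (g : G) (k : ℕ) :
    val f (g ^ k) = (k : ZMod n) * val f g := by
  simp [val]

open scoped commutatorElement in
/-- If `G` is commutative and there are `g, h` with `f₁ g = 1, f₂ g = 0, f₁ h = 0, f₂ h = 1` then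
the twisted extension is a stem extension. -/
lemma isStemExtension [NeZero n] (hG : ∀ a b : G, a * b = b * a) (g h : G)
    (h1 : val f₁ g = 1) (h2 : val f₂ g = 0) (h3 : val f₁ h = 0) (h4 : val f₂ h = 1) :
    Cfsg.IsStemExtension (proj f₁ f₂) := by
  refine ⟨proj_surjective, ker_le_center, ?_⟩
  intro x hx
  rw [mem_ker_iff] at hx
  have key : x = ⁅(⟨g ^ (x.snd.val), 0⟩ : TwistExt f₁ f₂), (⟨h, 0⟩ : TwistExt f₁ f₂)⁆ := by
    obtain ⟨e1, e2⟩ := commutator_snd_of_comm hG (⟨g ^ (x.snd.val), 0⟩ : TwistExt f₁ f₂) ⟨h, 0⟩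
    ext
    · rw [hx, e1]
    · rw [e2]
      simp only [val_pow, h1, h2, h3, h4]
      simp
  rw [key]
  exact Subgroup.commutator_mem_commutator (Subgroup.mem_top _) (Subgroup.mem_top _)

end TwistExt

end Cfsg.Agent.Helper20
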