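import Mathlib

/-!
# Wielandt degree `2p` (S0720), piece ST4: the arithmetic core

Pure arithmetic on a finite index type: multiplicities `n`, degrees `d`, Brauer data `X`, `Y`, `δ`, `ε`.
-/

set_option autoImplicit false

namespace Cfsg.Agent.Helper20.W2p

section Arith

variable {I : Type*} [Fintype I] [DecidableEq I]

/-- If `n ≥ 1` on `S` and the degrees on `S` already add up to the total, `n` is the indicator of `S`. -/
theorem ind_of_sum_le (n d : I → ℕ) (N : ℕ) (hd : ∀ χ, 0 < d χ) (hsum : ∑ χ, n χ * d χ = N)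
    (S : Finset I) (hS : ∀ χ ∈ S, 1 ≤ n χ) (hN : N ≤ ∑ χ ∈ S, d χ) :
    (∀ χ, n χ = if χ ∈ S then 1 else 0) ∧ ∑ χ ∈ S, d χ = N := by
  have hle : ∀ χ ∈ (Finset.univ : Finset I), (if χ ∈ S then 1 else 0) * d χ ≤ n χ * d χ := by
    intro χ _
    split_ifs with h
    · exact Nat.mul_le_mul_right _ (hS χ h)
    · simp
  have hsumS : ∑ χ, (if χ ∈ S then 1 else 0) * d χ = ∑ χ ∈ S, d χ := by
    have : ∀ χ, (if χ ∈ S then 1 else 0) * d χ = if χ ∈ S then d χ else 0 := by
      intro χ; split_ifs <;> simp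
    simp only [this]
    rw [Finset.sum_ite_mem, Finset.univ_inter]
  have hle2 : ∑ χ, (if χ ∈ S then 1 else 0) * d χ ≤ ∑ χ, n χ * d χ := Finset.sum_le_sum hle
  have heq : ∑ χ, (if χ ∈ S then 1 else 0) * d χ = ∑ χ, n χ * d χ := by omega
  have hpt := (Finset.sum_eq_sum_iff_of_le hle).mp heq
  refine ⟨?_, by omega⟩
  intro χ
  have := hpt χ (Finset.mem_univ χ)
  exact (Nat.eq_of_mul_eq_mul_right (hd χ) this).symm

/-- A non-negative integer function with sum `1` is a point mass. -/
theorem exists_point_of_sum_eq_one (w : I → ℤ) (hw : ∀ χ, 0 ≤ w χ) (h : ∑ χ, w χ = 1) :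
    ∃ χ, w χ = 1 ∧ ∀ ξ, ξ ≠ χ → w ξ = 0 := by
  have hex : ∃ χ, w χ ≠ 0 := by
    by_contra hcon
    push Not at hcon
    simp [hcon] at h
  obtain ⟨χ, hχ⟩ := hex
  have hsplit := Finset.add_sum_erase Finset.univ w (Finset.mem_univ χ)
  have hrest : 0 ≤ ∑ ξ ∈ Finset.univ.erase χ, w ξ := Finset.sum_nonneg (fun ξ _ => hw ξ)
  have h1 : w χ = 1 := by have := hw χ; omega
  refine ⟨χ, h1, ?_⟩
  intro ξ hξ
  have h0 : ∑ ξ ∈ Finset.univ.erase χ, w ξ = 0 := by omega
  exact (Finset.sum_eq_zero_iff_of_nonneg (fun ξ _ => hw ξ)).mp h0 ξ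
    (Finset.mem_erase.mpr ⟨hξ, Finset.mem_univ ξ⟩)

/-- The arithmetic trichotomy. -/
theorem arith (p e t : ℕ) (hp : p.Prime) (hp2 : p ≠ 2)
    (X Y : Finset I) (hXY : Disjoint X Y) (hYcard : Y.card = t) (hte : t * e = p - 1)
    (n d a : I → ℕ) (δ : I → ℤ) (ε : ℤ) (triv : I)
    (htX : triv ∈ X) (hδt : δ triv = 1) (hnt : n triv = 1) (hdt : d triv = 1)
    (hlin : ∀ χ, d χ = 1 → χ = triv) (hdpos : ∀ χ, 0 < d χ)
    (hδ : ∀ χ ∈ X, δ χ = 1 ∨ δ χ = -1) (hε : ε = 1 ∨ ε = -1)
    (hdX : ∀ χ ∈ X, (d χ : ℤ) ≡ δ χ [ZMOD p])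
    (hdY : ∀ ψ ∈ Y, (d ψ : ℤ) = a ψ * p + ε * e)
    (hdO : ∀ χ, χ ∉ X → χ ∉ Y → p ∣ d χ)
    (hsame : ∀ ψ ∈ Y, ∀ ψ' ∈ Y, d ψ = d ψ')
    (hsum : ∑ χ, n χ * d χ = 2 * p)
    (hrel : ∀ ψ ∈ Y, ∑ χ ∈ X, δ χ * n χ = ε * n ψ) :
    (∃ χ, χ ≠ triv ∧ ∀ ξ, n ξ = if ξ ∈ ({triv, χ} : Finset I) then 1 else 0) ∨
    (∃ χ η, d χ = p - 1 ∧ d η = p ∧ χ ≠ triv ∧ η ≠ triv ∧ χ ≠ η ∧
      ∀ ξ, n ξ = if ξ ∈ ({triv, χ, η} : Finset I) then 1 else 0) ∨
    (ε = 1 ∧ 2 ≤ t ∧ (∀ ψ ∈ Y, d ψ = e) ∧ ∃ η, d η = p ∧ η ∉ Y ∧ η ≠ triv ∧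
      ∀ ξ, n ξ = if ξ ∈ insert triv (insert η Y) then 1 else 0) := by
  have hp3 : 3 ≤ p := by have := hp.two_le; omega
  have hppos : (0 : ℤ) < p := by exact_mod_cast hp.pos
  have htY : triv ∉ Y := Finset.disjoint_left.mp hXY htX
  have htpos : 1 ≤ t := by
    rcases Nat.eq_zero_or_pos t with h | h
    · subst h; omega
    · exact h
  have hepos : 1 ≤ e := by
    rcases Nat.eq_zero_or_pos e with h | h
    · subst h; omega
    · exact h
  have hteZ : (t : ℤ) * e = p - 1 := by
    have : ((t * e : ℕ) : ℤ) = ((p - 1 : ℕ) : ℤ) := by rw [hte]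
    rw [Nat.cast_sub (by omega)] at this
    push_cast at this
    exact this
  have hYne : Y.Nonempty := by rw [← Finset.card_pos]; omega
  have hε0 : ε ≠ 0 := by rcases hε with h | h <;> rw [h] <;> norm_num
  -- residues and quotients
  set r : I → ℤ := fun χ => if χ ∈ X then δ χ else if χ ∈ Y then ε * e else 0 with hr
  have hk : ∀ χ, ∃ k : ℤ, (d χ : ℤ) = p * k + r χ := by
    intro χ
    by_cases hX : χ ∈ X
    · obtain ⟨k, hk⟩ := (hdX χ hX).symm.dvd
      exact ⟨k, by simp only [hr, if_pos hX]; linarith⟩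
    · by_cases hY : χ ∈ Y
      · exact ⟨a χ, by simp only [hr, if_neg hX, if_pos hY]; rw [hdY χ hY]; ring⟩
      · obtain ⟨k, hk⟩ := hdO χ hX hY
        exact ⟨k, by simp only [hr, if_neg hX, if_neg hY]; rw [hk]; push_cast; ring⟩
  choose k hk using hk
  have hrX : ∀ χ ∈ X, r χ = δ χ := fun χ h => by simp only [hr, if_pos h]
  have hrY : ∀ χ ∈ Y, r χ = ε * e := fun χ h => by
    have hX : χ ∉ X := fun hX => Finset.disjoint_left.mp hXY hX h
    simp only [hr, if_neg hX, if_pos h]
  have hrO : ∀ χ, χ ∉ X → χ ∉ Y → r χ = 0 := fun χ h1 h2 => by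
    simp only [hr, if_neg h1, if_neg h2]
  have hktriv : k triv = 0 := by
    have h := hk triv
    rw [hrX triv htX, hδt, hdt] at h
    have : (p : ℤ) * k triv = 0 := by push_cast at h; linarith
    rcases mul_eq_zero.mp this with h' | h'
    · omega
    · exact h'
  have hkX : ∀ χ ∈ X, χ ≠ triv → 1 ≤ k χ := by
    intro χ hχ hne
    have h := hk χ
    rw [hrX χ hχ] at h
    have hd1 : d χ ≠ 1 := fun h1 => hne (hlin χ h1)
    have hd0 := hdpos χ
    have hd2 : (2 : ℤ) ≤ d χ := by exact_mod_cast (show 2 ≤ d χ by omega)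
    by_contra hcon
    have hk0 : k χ ≤ 0 := by omega
    have : (p : ℤ) * k χ ≤ 0 := mul_nonpos_of_nonneg_of_nonpos hppos.le hk0
    rcases hδ χ hχ with h' | h' <;> rw [h'] at h <;> omega
  have hkY : ∀ χ ∈ Y, k χ = a χ := by
    intro χ hχ
    have h := hk χ
    rw [hrY χ hχ, hdY χ hχ] at h
    have : (p : ℤ) * (a χ - k χ) = 0 := by linarith
    rcases mul_eq_zero.mp this with h' | h'
    · omega
    · omega
  have hkO : ∀ χ, χ ∉ X → χ ∉ Y → 1 ≤ k χ := by
    intro χ h1 h2
    have h := hk χ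
    rw [hrO χ h1 h2] at h
    have hd0 : (1 : ℤ) ≤ d χ := by exact_mod_cast hdpos χ
    by_contra hcon
    have hk0 : k χ ≤ 0 := by omega
    have : (p : ℤ) * k χ ≤ 0 := mul_nonpos_of_nonneg_of_nonpos hppos.le hk0
    omega
  have hk0 : ∀ χ, 0 ≤ k χ := by
    intro χ
    by_cases hX : χ ∈ X
    · by_cases ht : χ = triv
      · rw [ht, hktriv]
      · have := hkX χ hX ht; omega
    · by_cases hY : χ ∈ Y
      · rw [hkY χ hY]; positivity
      · have := hkO χ hX hY; omega
  -- the common multiplicity on Y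
  obtain ⟨ψ₀, hψ₀⟩ := hYne
  set m : ℕ := n ψ₀ with hm
  have hmY : ∀ ψ ∈ Y, n ψ = m := by
    intro ψ hψ
    have h1 := hrel ψ hψ
    have h2 := hrel ψ₀ hψ₀
    have : ε * (n ψ : ℤ) = ε * (n ψ₀ : ℤ) := by rw [← h1, ← h2]
    have := mul_left_cancel₀ hε0 this
    exact_mod_cast this
  have hrelm : ∑ χ ∈ X, δ χ * n χ = ε * m := hrel ψ₀ hψ₀
  -- sum of n * r
  have hnr : ∑ χ, (n χ : ℤ) * r χ = ε * m * p := by
    have hpt : ∀ χ, (n χ : ℤ) * r χ =
        (if χ ∈ X then δ χ * n χ else 0) + (if χ ∈ Y then ε * e * m else 0) := by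
      intro χ
      by_cases hX : χ ∈ X
      · have hY : χ ∉ Y := fun hY => Finset.disjoint_left.mp hXY hX hY
        rw [hrX χ hX, if_pos hX, if_neg hY]; ring
      · by_cases hY : χ ∈ Y
        · rw [hrY χ hY, if_neg hX, if_pos hY, hmY χ hY]; ring
        · rw [hrO χ hX hY, if_neg hX, if_neg hY]; ring
    simp only [hpt]
    rw [Finset.sum_add_distrib, Finset.sum_ite_mem, Finset.sum_ite_mem, Finset.univ_inter,
      Finset.univ_inter, hrelm, Finset.sum_const, hYcard, nsmul_eq_mul]
    have : (t : ℤ) * (ε * e * m) = ε * m * ((t : ℤ) * e) := by ring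
    rw [this, hteZ]; ring
  -- the key equation
  have hkey : ∑ χ, (n χ : ℤ) * k χ + ε * m = 2 := by
    have h1 : ((∑ χ, n χ * d χ : ℕ) : ℤ) = 2 * p := by rw [hsum]; push_cast; ring
    push_cast at h1
    have h2 : ∑ χ, (n χ : ℤ) * (d χ : ℤ) = p * ∑ χ, (n χ : ℤ) * k χ + ∑ χ, (n χ : ℤ) * r χ := by
      rw [Finset.mul_sum, ← Finset.sum_add_distrib]
      refine Finset.sum_congr rfl ?_
      intro χ _
      rw [hk χ]; ring
    rw [h2, hnr] at h1
    have : (p : ℤ) * (∑ χ, (n χ : ℤ) * k χ + ε * m) = p * 2 := by linarith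
    exact mul_left_cancel₀ hppos.ne' this
  -- the weight function
  set w : I → ℤ := fun χ => (n χ : ℤ) * k χ + (if χ ∈ X then δ χ * n χ else 0) -
    (if χ = triv then 1 else 0) with hw
  have hwsum : ∑ χ, w χ = 1 := by
    simp only [hw]
    rw [Finset.sum_sub_distrib, Finset.sum_add_distrib, Finset.sum_ite_mem, Finset.univ_inter,
      hrelm, Finset.sum_ite_eq' Finset.univ triv]
    simp only [Finset.mem_univ, if_true]
    linarith
  have hwtriv : w triv = 0 := by
    simp only [hw, if_pos htX, hktriv, hδt, hnt]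
    simp
  have hwX : ∀ χ ∈ X, χ ≠ triv → w χ = (n χ : ℤ) * (k χ + δ χ) := by
    intro χ hχ hne
    simp only [hw, if_pos hχ, if_neg hne]; ring
  have hwnX : ∀ χ, χ ∉ X → w χ = (n χ : ℤ) * k χ := by
    intro χ hχ
    have hne : χ ≠ triv := fun h => hχ (h ▸ htX)
    simp only [hw, if_neg hχ, if_neg hne]; ring
  have hwnn : ∀ χ, 0 ≤ w χ := by
    intro χ
    by_cases hX : χ ∈ X
    · by_cases ht : χ = triv
      · rw [ht, hwtriv]
      · rw [hwX χ hX ht]
        have h1 := hkX χ hX ht
        have h2 : 0 ≤ k χ + δ χ := by rcases hδ χ hX with h' | h' <;> rw [h'] <;> omega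
        positivity
    · rw [hwnX χ hX]
      have := hk0 χ
      positivity
  obtain ⟨c, hc1, hc0⟩ := exists_point_of_sum_eq_one w hwnn hwsum
  have hct : c ≠ triv := by
    intro h; rw [h, hwtriv] at hc1; omega
  have htriv_ge : 1 ≤ n triv := by omega
  by_cases hcX : c ∈ X
  · -- case (a) with a non-exceptional character of degree 2p-1
    left
    rw [hwX c hcX hct] at hc1
    have hk1 := hkX c hcX hct
    rcases Int.mul_eq_one_iff_eq_one_or_neg_one.mp hc1 with ⟨h1, h2⟩ | ⟨h1, _⟩
    · have hδc : δ c = -1 := by rcases hδ c hcX with h' | h' <;> omega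
      have hkc : k c = 2 := by omega
      have hdc : d c = 2 * p - 1 := by
        have h := hk c
        rw [hrX c hcX, hδc, hkc] at h
        omega
      have hnc : 1 ≤ n c := by omega
      refine ⟨c, hct, (ind_of_sum_le n d (2 * p) hdpos hsum {triv, c} ?_ ?_).1⟩
      · intro χ hχ
        rcases Finset.mem_insert.mp hχ with h | h
        · rw [h]; exact htriv_ge
        · rw [Finset.mem_singleton.mp h]; exact hnc
      · rw [Finset.sum_pair hct.symm, hdt, hdc]; omega
    · have : (0 : ℤ) ≤ n c := by positivity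
      omega
  · by_cases hcY : c ∈ Y
    · -- case (a) with an exceptional character, t = 1
      rw [hwnX c hcX, hkY c hcY] at hc1
      have hnc : n c = 1 ∧ a c = 1 := by
        have : n c * a c = 1 := by exact_mod_cast hc1
        exact mul_eq_one.mp this
      have hm1 : m = 1 := by rw [← hmY c hcY]; exact hnc.1
      have hall : ∀ ψ ∈ Y, ψ = c := by
        intro ψ hψ
        by_contra hne
        have h0 := hc0 ψ hne
        have hψX : ψ ∉ X := fun hX => Finset.disjoint_left.mp hXY hX hψ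
        rw [hwnX ψ hψX, hkY ψ hψ, hmY ψ hψ, hm1] at h0
        have h1 := hdY ψ hψ
        have h2 := hdY c hcY
        have h3 : (d ψ : ℤ) = d c := by exact_mod_cast hsame ψ hψ c hcY
        rw [hnc.2] at h2
        have : (a ψ : ℤ) * p = 1 * p := by push_cast at h2; linarith
        have := mul_right_cancel₀ hppos.ne' this
        push_cast at h0
        omega
      have hY1 : Y = {c} := by
        ext ψ
        rw [Finset.mem_singleton]
        exact ⟨hall ψ, fun h => h ▸ hcY⟩
      have ht1 : t = 1 := by rw [← hYcard, hY1, Finset.card_singleton]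
      have he : e = p - 1 := by rw [ht1] at hte; omega
      have hdc := hdY c hcY
      rw [hnc.2, he] at hdc
      rcases hε with h | h
      · left
        have hdc' : d c = 2 * p - 1 := by
          rw [h, Nat.cast_sub (by omega)] at hdc
          push_cast at hdc
          omega
        refine ⟨c, hct, (ind_of_sum_le n d (2 * p) hdpos hsum {triv, c} ?_ ?_).1⟩
        · intro χ hχ
          rcases Finset.mem_insert.mp hχ with h | h
          · rw [h]; exact htriv_ge
          · rw [Finset.mem_singleton.mp h]; omega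
        · rw [Finset.sum_pair hct.symm, hdt, hdc']; omega
      · exfalso
        have hdc' : d c = 1 := by
          rw [h, Nat.cast_sub (by omega)] at hdc
          push_cast at hdc
          omega
        exact hct (hlin c hdc')
    · -- an ordinary character of degree p occurs once
      rw [hwnX c hcX] at hc1
      have hkc := hkO c hcX hcY
      have hnc : (n c : ℤ) = 1 ∧ k c = 1 := by
        rcases Int.mul_eq_one_iff_eq_one_or_neg_one.mp hc1 with ⟨h1, h2⟩ | ⟨h1, h2⟩
        · exact ⟨h1, h2⟩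
        · omega
      have hdc : d c = p := by
        have h := hk c
        rw [hrO c hcX hcY, hnc.2] at h
        omega
      have hnc1 : 1 ≤ n c := by omega
      right
      rcases Nat.eq_zero_or_pos m with hm0 | hmpos
      · -- m = 0: a non-exceptional character of degree p - 1
        left
        rw [hm0] at hrelm
        have hsplit : δ triv * (n triv : ℤ) + ∑ χ ∈ X.erase triv, δ χ * (n χ : ℤ) =
            ∑ χ ∈ X, δ χ * (n χ : ℤ) := Finset.add_sum_erase X (fun χ => δ χ * (n χ : ℤ)) htX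
        rw [hδt, hnt, hrelm] at hsplit
        have hneg : ∑ χ ∈ X.erase triv, δ χ * (n χ : ℤ) < 0 := by push_cast at hsplit; linarith
        obtain ⟨χ₀, hχ₀, hlt⟩ : ∃ χ ∈ X.erase triv, δ χ * (n χ : ℤ) < 0 := by
          by_contra hcon
          push Not at hcon
          have := Finset.sum_nonneg hcon
          omega
        have hχ₀X := Finset.mem_of_mem_erase hχ₀
        have hχ₀t := Finset.ne_of_mem_erase hχ₀
        have hδχ₀ : δ χ₀ = -1 := by
          rcases hδ χ₀ hχ₀X with h' | h'
          · rw [h'] at hlt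
            have : (0 : ℤ) ≤ n χ₀ := by positivity
            omega
          · exact h'
        have hnχ₀ : 1 ≤ n χ₀ := by
          rw [hδχ₀] at hlt
          have : (0 : ℤ) < n χ₀ := by linarith
          exact_mod_cast this
        have hχ₀c : χ₀ ≠ c := fun h => hcX (h ▸ hχ₀X)
        have hw0 := hc0 χ₀ hχ₀c
        rw [hwX χ₀ hχ₀X hχ₀t, hδχ₀] at hw0
        have hkχ₀ : k χ₀ = 1 := by
          rcases mul_eq_zero.mp hw0 with h' | h'
          · have : n χ₀ = 0 := by exact_mod_cast h'
            omega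
          · omega
        have hdχ₀ : d χ₀ = p - 1 := by
          have h := hk χ₀
          rw [hrX χ₀ hχ₀X, hδχ₀, hkχ₀] at h
          omega
        refine ⟨χ₀, c, hdχ₀, hdc, hχ₀t, hct, hχ₀c,
          (ind_of_sum_le n d (2 * p) hdpos hsum {triv, χ₀, c} ?_ ?_).1⟩
        · intro χ hχ
          rcases Finset.mem_insert.mp hχ with h | h
          · rw [h]; exact htriv_ge
          · rcases Finset.mem_insert.mp h with h | h
            · rw [h]; exact hnχ₀
            · rw [Finset.mem_singleton.mp h]; exact hnc1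
        · rw [Finset.sum_insert (by
            simp only [Finset.mem_insert, Finset.mem_singleton, not_or]
            exact ⟨hχ₀t.symm, hct.symm⟩), Finset.sum_pair hχ₀c, hdt, hdχ₀, hdc]
          omega
      · -- m ≥ 1: all exceptional characters have degree e and occur once
        have haY : ∀ ψ ∈ Y, a ψ = 0 := by
          intro ψ hψ
          have hψc : ψ ≠ c := fun h => hcY (h ▸ hψ)
          have hψX : ψ ∉ X := fun hX => Finset.disjoint_left.mp hXY hX hψ
          have h0 := hc0 ψ hψc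
          rw [hwnX ψ hψX, hkY ψ hψ, hmY ψ hψ] at h0
          rcases mul_eq_zero.mp h0 with h' | h'
          · have : m = 0 := by exact_mod_cast h'
            omega
          · exact_mod_cast h'
        have hε1 : ε = 1 := by
          rcases hε with h | h
          · exact h
          · exfalso
            have h1 := hdY ψ₀ hψ₀
            rw [haY ψ₀ hψ₀, h] at h1
            have : (0 : ℤ) ≤ d ψ₀ := by positivity
            have : (1 : ℤ) ≤ e := by exact_mod_cast hepos
            push_cast at h1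
            omega
        have hdYe : ∀ ψ ∈ Y, d ψ = e := by
          intro ψ hψ
          have h1 := hdY ψ hψ
          rw [haY ψ hψ, hε1] at h1
          push_cast at h1
          omega
        have hnY : ∀ ψ ∈ Y, 1 ≤ n ψ := fun ψ hψ => by rw [hmY ψ hψ]; exact hmpos
        rcases Nat.lt_or_ge t 2 with ht | ht
        · -- t = 1
          left
          have ht1 : t = 1 := by omega
          have he : e = p - 1 := by rw [ht1] at hte; omega
          have hψ₀t : ψ₀ ≠ triv := fun h => htY (h ▸ hψ₀)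
          have hψ₀c : ψ₀ ≠ c := fun h => hcY (h ▸ hψ₀)
          have hdψ₀ : d ψ₀ = p - 1 := by rw [hdYe ψ₀ hψ₀, he]
          refine ⟨ψ₀, c, hdψ₀, hdc, hψ₀t, hct, hψ₀c,
            (ind_of_sum_le n d (2 * p) hdpos hsum {triv, ψ₀, c} ?_ ?_).1⟩
          · intro χ hχ
            rcases Finset.mem_insert.mp hχ with h | h
            · rw [h]; exact htriv_ge
            · rcases Finset.mem_insert.mp h with h | h
              · rw [h]; exact hnY ψ₀ hψ₀
              · rw [Finset.mem_singleton.mp h]; exact hnc1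
          · rw [Finset.sum_insert (by
              simp only [Finset.mem_insert, Finset.mem_singleton, not_or]
              exact ⟨hψ₀t.symm, hct.symm⟩), Finset.sum_pair hψ₀c, hdt, hdψ₀, hdc]
            omega
        · -- t ≥ 2
          right
          refine ⟨hε1, ht, hdYe, c, hdc, hcY, hct,
            (ind_of_sum_le n d (2 * p) hdpos hsum (insert triv (insert c Y)) ?_ ?_).1⟩
          · intro χ hχ
            rcases Finset.mem_insert.mp hχ with h | h
            · rw [h]; exact htriv_ge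
            · rcases Finset.mem_insert.mp h with h | h
              · rw [h]; exact hnc1
              · exact hnY χ h
          · rw [Finset.sum_insert (by
              simp only [Finset.mem_insert, not_or]
              exact ⟨hct.symm, htY⟩), Finset.sum_insert hcY, hdt, hdc,
              Finset.sum_congr rfl hdYe, Finset.sum_const, hYcard, smul_eq_mul, hte]
            omega

end Arith

end Cfsg.Agent.Helper20.W2p
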