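import Mathlib
import Cfsg.Prelude.Def_Characters
import Cfsg.Agent.Helper1.W2pDefs
import Cfsg.Agent.Helper20.PermCharH
import Cfsg.Agent.Helper20.W2pST4a

/-!
# Wielandt degree `2p` (S0720), piece ST4: the trichotomy for the permutation character
-/

set_option autoImplicit false

namespace Cfsg.Agent.Helper20.W2p

open Cfsg Cfsg.Agent.Helper24 Cfsg.Agent.Helper1.W2p MulAction

universe u v

theorem step4 {H : Type u} [Group H] [Fintype H] {Ω : Type v} [Fintype Ω] [MulAction H Ω]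
    [IsPretransitive H Ω] (p : ℕ) [Fact p.Prime] (hp2 : p ≠ 2)
    (hΩ : Fintype.card Ω = 2 * p) (P : Subgroup H) (hP : Nat.card P = p) (D : BrauerData p P)
    (hfpf : ∀ g : H, p ∣ orderOf g → ∀ x : Ω, g • x ≠ x)
    (hlin : ∀ χ : IrrCharacter H, irrDeg χ = 1 → χ = trivIrr H) :
    (∃ χ : IrrCharacter H, ∀ g : H, (Nat.card (fixedBy Ω g) : ℂ) = 1 + (χ : H → ℂ) g) ∨
    (∃ χ η : IrrCharacter H, irrDeg χ = p - 1 ∧ irrDeg η = p ∧
      ∀ g : H, (Nat.card (fixedBy Ω g) : ℂ) = 1 + (χ : H → ℂ) g + (η : H → ℂ) g) ∨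
    (D.ε = 1 ∧ 2 ≤ Nat.card D.Y ∧ (∀ ψ ∈ D.Y, irrDeg ψ = eN P) ∧
      ∃ η : IrrCharacter H, irrDeg η = p ∧ η ∉ D.Y ∧
      ∀ g : H, (Nat.card (fixedBy Ω g) : ℂ) =
        1 + ∑ᶠ ψ ∈ D.Y, (ψ : H → ℂ) g + (η : H → ℂ) g) := by
  classical
  have hp : p.Prime := Fact.out
  have hΩpos : 0 < Fintype.card Ω := by rw [hΩ]; have := hp.pos; omega
  obtain ⟨a0⟩ : Nonempty Ω := Fintype.card_pos_iff.mp hΩpos
  have : Nonempty Ω := ⟨a0⟩
  let _ : Fintype (IrrCharacter H) := Fintype.ofFinite _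
  obtain ⟨n, hn, hn1, hsum, -⟩ := PermChar.exists_decomp (G := H) (Ω := Ω) a0
  set π : H → ℂ := fun g : H => (Nat.card (fixedBy Ω g) : ℂ) with hπdef
  have hchar : IsCharacter H π := isCharacter_permChar (G := H) Ω
  -- π = Σ n χ χ
  have hπ : ∀ g : H, π g = ∑ χ : IrrCharacter H, (n χ : ℂ) * (χ : H → ℂ) g := by
    intro g
    have h := congrFun (IsCharacter.eq_sum_classInner hchar) g
    rw [h]
    simp only [Finset.sum_apply, Pi.smul_apply, smul_eq_mul]
    refine Finset.sum_congr rfl ?_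
    intro χ _
    rw [hn χ]
  -- Finset versions of X, Y
  set X : Finset (IrrCharacter H) := Finset.univ.filter (fun χ => χ ∈ D.X) with hX
  set Y : Finset (IrrCharacter H) := Finset.univ.filter (fun χ => χ ∈ D.Y) with hY
  have hXmem : ∀ χ, χ ∈ X ↔ χ ∈ D.X := fun χ => by simp [hX]
  have hYmem : ∀ χ, χ ∈ Y ↔ χ ∈ D.Y := fun χ => by simp [hY]
  have hXset : (X : Set (IrrCharacter H)) = D.X := by ext χ; simp [hX]
  have hYset : (Y : Set (IrrCharacter H)) = D.Y := by ext χ; simp [hY]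
  have hXY : Disjoint X Y := by
    rw [Finset.disjoint_left]
    intro χ h1 h2
    exact (Set.disjoint_left.mp D.disj) ((hXmem χ).mp h1) ((hYmem χ).mp h2)
  have hYcard : Y.card = Nat.card D.Y := by
    rw [← hYset]
    simp
  have hte : Nat.card D.Y * eN P = p - 1 := D.card_Y
  -- finsum conversions
  have hfsX : ∀ f : IrrCharacter H → ℂ, ∑ᶠ χ ∈ D.X, f χ = ∑ χ ∈ X, f χ := by
    intro f; rw [← hXset, finsum_mem_coe_finset]
  have hfsY : ∀ f : IrrCharacter H → ℂ, ∑ᶠ χ ∈ D.Y, f χ = ∑ χ ∈ Y, f χ := by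
    intro f; rw [← hYset, finsum_mem_coe_finset]
  have hnot1 : ¬ p ∣ orderOf (1 : H) := by
    rw [orderOf_one]
    intro h
    have := Nat.le_of_dvd one_pos h
    have := hp.two_le
    omega
  have hε0 : (D.ε : ℂ) ≠ 0 := by
    rcases D.ε_pm with h | h <;> rw [h] <;> norm_num
  -- all exceptional characters have the same degree
  have hsame : ∀ ψ ∈ Y, ∀ ψ' ∈ Y, irrDeg ψ = irrDeg ψ' := by
    intro ψ hψ ψ' hψ'
    have h1 := D.rel ψ ((hYmem ψ).mp hψ) 1 hnot1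
    have h2 := D.rel ψ' ((hYmem ψ').mp hψ') 1 hnot1
    have h3 : (D.ε : ℂ) * (ψ : H → ℂ) 1 = (D.ε : ℂ) * (ψ' : H → ℂ) 1 := by rw [← h1, ← h2]
    have h4 := mul_left_cancel₀ hε0 h3
    rw [irrDeg_spec, irrDeg_spec] at h4
    exact_mod_cast h4
  -- the orthogonality relation
  have hrel : ∀ ψ ∈ Y, ∑ χ ∈ X, D.δ χ * (n χ : ℤ) = D.ε * (n ψ : ℤ) := by
    intro ψ hψ
    have hψY := (hYmem ψ).mp hψ
    set Θ : H → ℂ := ∑ χ ∈ X, (D.δ χ : ℂ) • (χ : H → ℂ) - (D.ε : ℂ) • (ψ : H → ℂ) with hΘ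
    have hΘval : ∀ g : H, Θ g = ∑ χ ∈ X, (D.δ χ : ℂ) * (χ : H → ℂ) g - (D.ε : ℂ) * (ψ : H → ℂ) g := by
      intro g
      simp only [hΘ, Pi.sub_apply, Finset.sum_apply, Pi.smul_apply, smul_eq_mul]
    have h1 : classInner π Θ = ∑ χ ∈ X, (D.δ χ : ℂ) * (n χ : ℂ) - (D.ε : ℂ) * (n ψ : ℂ) := by
      rw [hΘ, classInner_sub_right, classInner_sum_right, classInner_smul_right, hn ψ]
      congr 1
      · refine Finset.sum_congr rfl ?_
        intro χ _
        rw [classInner_smul_right, hn χ, map_intCast]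
      · rw [map_intCast]
    have h2 : classInner π Θ = 0 := by
      unfold classInner
      rw [Finset.sum_eq_zero, mul_zero]
      intro g _
      by_cases hg : p ∣ orderOf g
      · have hempty : IsEmpty (fixedBy Ω g) := by
          constructor
          rintro ⟨x, hx⟩
          exact hfpf g hg x hx
        have : π g = 0 := by
          simp only [hπdef]
          rw [Nat.card_eq_zero.mpr (Or.inl hempty)]
          simp
        rw [this, zero_mul]
      · have : Θ g = 0 := by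
          rw [hΘval g, ← hfsX, D.rel ψ hψY g hg, sub_self]
        rw [this, map_zero, mul_zero]
    rw [h2] at h1
    have h3 : ((∑ χ ∈ X, D.δ χ * (n χ : ℤ) - D.ε * (n ψ : ℤ) : ℤ) : ℂ) = 0 := by
      push_cast
      exact h1.symm
    have h4 : ∑ χ ∈ X, D.δ χ * (n χ : ℤ) - D.ε * (n ψ : ℤ) = 0 := by exact_mod_cast h3
    linarith
  have hsum' : ∑ χ : IrrCharacter H, n χ * irrDeg χ = 2 * p := by
    rw [← hsum, Nat.card_eq_fintype_card, hΩ]
  have htrivX : trivIrr H ∈ X := (hXmem _).mpr D.triv_mem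
  have harith := arith p (eN P) (Nat.card D.Y) hp hp2 X Y hXY hYcard hte n irrDeg D.a D.δ D.ε
    (trivIrr H) htrivX D.δ_triv hn1 PermChar.irrDeg_trivIrr hlin irrDeg_pos
    (fun χ hχ => D.δ_pm χ ((hXmem χ).mp hχ)) D.ε_pm
    (fun χ hχ => D.deg_X χ ((hXmem χ).mp hχ))
    (fun ψ hψ => D.deg_Y ψ ((hYmem ψ).mp hψ))
    (fun χ h1 h2 => D.deg_other χ (fun h => h1 ((hXmem χ).mpr h)) (fun h => h2 ((hYmem χ).mpr h)))
    hsame hsum' hrel
  -- evaluation of π from an indicator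
  have hind : ∀ (S : Finset (IrrCharacter H)),
      (∀ ξ, n ξ = if ξ ∈ S then 1 else 0) → ∀ g : H, π g = ∑ ξ ∈ S, (ξ : H → ℂ) g := by
    intro S hS g
    rw [hπ g]
    have : ∀ ξ : IrrCharacter H, (n ξ : ℂ) * (ξ : H → ℂ) g = if ξ ∈ S then (ξ : H → ℂ) g else 0 := by
      intro ξ
      rw [hS ξ]
      split_ifs <;> simp
    simp only [this]
    rw [Finset.sum_ite_mem, Finset.univ_inter]
  rcases harith with ⟨χ, hχt, hχ⟩ | ⟨χ, η, hdχ, hdη, hχt, hηt, hχη, hχ⟩ | ⟨hε1, ht, hdY, η, hdη, hηY, hηt, hχ⟩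
  · left
    refine ⟨χ, fun g => ?_⟩
    have := hind _ hχ g
    rw [Finset.sum_pair hχt.symm] at this
    rw [show (Nat.card (fixedBy Ω g) : ℂ) = π g from rfl, this]
    rfl
  · right; left
    refine ⟨χ, η, hdχ, hdη, fun g => ?_⟩
    have := hind _ hχ g
    rw [Finset.sum_insert (by
      simp only [Finset.mem_insert, Finset.mem_singleton, not_or]
      exact ⟨hχt.symm, hηt.symm⟩), Finset.sum_pair hχη] at this
    rw [show (Nat.card (fixedBy Ω g) : ℂ) = π g from rfl, this]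
    simp only [trivIrr_apply]
    ring
  · right; right
    refine ⟨hε1, ht, fun ψ hψ => hdY ψ ((hYmem ψ).mpr hψ), η, hdη,
      fun h => hηY ((hYmem η).mpr h), fun g => ?_⟩
    have := hind _ hχ g
    have htY : trivIrr H ∉ Y := Finset.disjoint_left.mp hXY htrivX
    rw [Finset.sum_insert (by
      simp only [Finset.mem_insert, not_or]
      exact ⟨hηt.symm, htY⟩), Finset.sum_insert hηY] at this
    rw [show (Nat.card (fixedBy Ω g) : ℂ) = π g from rfl, this, hfsY]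
    simp only [trivIrr_apply]
    ring

end Cfsg.Agent.Helper20.W2p
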